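import Mathlib
import Cfsg.Prelude.Def_Transfer
import Cfsg.Agent.Helper24.Abelian
import Cfsg.Agent.Helper24.Orthogonality
import Cfsg.Agent.Helper24.ColumnOrth
import Cfsg.Agent.Helper5.Central

set_option autoImplicit false

/-! Characters of extraspecial `p`-groups. -/

namespace Cfsg.Agent.Helper12

open Cfsg Cfsg.Agent.Helper24

open scoped commutatorElement

section CommHom

variable {P : Type*} [Group P]

/-- When commutators are central, `x ↦ [x, g]` is a homomorphism. -/
def commHomOf (hc : ∀ a b : P, ⁅a, b⁆ ∈ Subgroup.center P) (g : P) : P →* P where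
  toFun x := ⁅x, g⁆
  map_one' := by simp [commutatorElement_def]
  map_mul' := by
    intro x y
    have h1 := Subgroup.mem_center_iff.1 (hc y g)
    calc ⁅x * y, g⁆ = (x * ⁅y, g⁆) * g * x⁻¹ * g⁻¹ := by
          simp only [commutatorElement_def]; group
      _ = (⁅y, g⁆ * x) * g * x⁻¹ * g⁻¹ := by rw [h1 x]
      _ = ⁅y, g⁆ * ⁅x, g⁆ := by simp only [commutatorElement_def]; group
      _ = ⁅x, g⁆ * ⁅y, g⁆ := (h1 _).symm

theorem commHomOf_apply (hc : ∀ a b : P, ⁅a, b⁆ ∈ Subgroup.center P) (g x : P) :
    commHomOf hc g x = ⁅x, g⁆ := rfl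

theorem mem_ker_commHomOf (hc : ∀ a b : P, ⁅a, b⁆ ∈ Subgroup.center P) (g x : P) :
    x ∈ (commHomOf hc g).ker ↔ Commute g x := by
  rw [MonoidHom.mem_ker, commHomOf_apply, commutatorElement_eq_one_iff_commute]
  exact ⟨Commute.symm, Commute.symm⟩

end CommHom

section Extraspecial

variable {P : Type*} [Group P] [Finite P] (p : ℕ) [Fact p.Prime]

omit [Finite P] [Fact p.Prime] in
theorem extraspecial_comm_mem_center (hP : IsExtraspecial p P) (a b : P) :
    ⁅a, b⁆ ∈ Subgroup.center P := by
  rw [← hP.1.2.2, commutator_def]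
  exact Subgroup.commutator_mem_commutator (Subgroup.mem_top a) (Subgroup.mem_top b)

/-- In an extraspecial group the centraliser of a noncentral element has index `p`. -/
theorem extraspecial_card_commute_mul (hP : IsExtraspecial p P)
    [DecidablePred (fun g : P => g ∈ Subgroup.center P)] (g : P) :
    Nat.card {x : P // Commute g x} * (if g ∈ Subgroup.center P then 1 else p) = Nat.card P := by
  have hp : p.Prime := Fact.out
  have hc := extraspecial_comm_mem_center p hP
  set f := commHomOf hc g with hf
  have hker : Nat.card {x : P // Commute g x} = Nat.card f.ker := by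
    apply Nat.card_congr
    exact Equiv.subtypeEquivRight (fun x => (mem_ker_commHomOf hc g x).symm)
  have hrange : f.range ≤ Subgroup.center P := by
    rintro _ ⟨x, rfl⟩
    exact hc x g
  have hcard := Subgroup.card_mul_index f.ker
  rw [Subgroup.index_ker] at hcard
  rw [hker, ← hcard]
  congr 1
  by_cases hg : g ∈ Subgroup.center P
  · rw [if_pos hg]
    have : f.range = ⊥ := by
      rw [eq_bot_iff]
      rintro _ ⟨x, rfl⟩
      rw [Subgroup.mem_bot, hf, commHomOf_apply, commutatorElement_eq_one_iff_commute]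
      exact Subgroup.mem_center_iff.1 hg x
    rw [this, Subgroup.card_bot]
  · rw [if_neg hg]
    have hne : f.range ≠ ⊥ := by
      intro h
      apply hg
      rw [Subgroup.mem_center_iff]
      intro x
      have : f x ∈ f.range := ⟨x, rfl⟩
      rw [h, Subgroup.mem_bot, hf, commHomOf_apply, commutatorElement_eq_one_iff_commute] at this
      exact this
    have h1 : Nat.card f.range ∣ p := by
      rw [← hP.2]
      exact Subgroup.card_dvd_of_le hrange
    rcases (Nat.dvd_prime hp).1 h1 with h | h
    · exact absurd (Subgroup.card_eq_one.1 h) hne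
    · exact h.symm

/-- The class number of an extraspecial group of order `p ^ (2 n + 1)`. -/
theorem extraspecial_card_conjClasses (hP : IsExtraspecial p P) (n : ℕ)
    (hcard : Nat.card P = p ^ (2 * n + 1)) :
    Nat.card (ConjClasses P) + 1 = p ^ (2 * n) + p := by
  classical
  have hp : p.Prime := Fact.out
  have : Fintype P := Fintype.ofFinite P
  have h1 := card_comm_eq_card_conjClasses_mul_card P
  have h2 : Nat.card {pr : P × P // Commute pr.1 pr.2} =
      ∑ g : P, Nat.card {x : P // Commute g x} := by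
    rw [Nat.card_congr (Equiv.subtypeProdEquivSigmaSubtype (Commute (S := P))), Nat.card_sigma]
  have h3 : ∀ g : P, p * Nat.card {x : P // Commute g x} =
      Nat.card P * (if g ∈ Subgroup.center P then p else 1) := by
    intro g
    have := extraspecial_card_commute_mul p hP g
    by_cases hg : g ∈ Subgroup.center P
    · rw [if_pos hg] at this ⊢
      rw [← this]; ring
    · rw [if_neg hg] at this ⊢
      rw [← this]; ring
  have h4 : p * (Nat.card (ConjClasses P) * Nat.card P) =
      Nat.card P * ∑ g : P, (if g ∈ Subgroup.center P then p else 1) := by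
    rw [← h1, h2, Finset.mul_sum, Finset.mul_sum]
    exact Finset.sum_congr rfl fun g _ => h3 g
  have h5 : ∑ g : P, (if g ∈ Subgroup.center P then p else 1) + p = p * p + Nat.card P := by
    have e : ∀ g : P, (if g ∈ Subgroup.center P then p else 1) =
        (if g ∈ Subgroup.center P then p - 1 else 0) + 1 := by
      intro g
      have := hp.one_lt
      split_ifs <;> omega
    rw [Finset.sum_congr rfl fun g _ => e g, Finset.sum_add_distrib, Finset.sum_const,
      Finset.card_univ, smul_eq_mul, mul_one, ← Finset.sum_filter, Finset.sum_const, smul_eq_mul,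
      ← Nat.card_eq_fintype_card]
    have hZ : (Finset.univ.filter (fun g : P => g ∈ Subgroup.center P)).card = p := by
      rw [← hP.2, Nat.card_eq_fintype_card, Fintype.card_subtype]
    rw [hZ]
    have := hp.one_lt
    obtain ⟨m, hm⟩ : ∃ m, p = m + 1 := ⟨p - 1, by omega⟩
    rw [hm, Nat.add_sub_cancel]
    ring
  have hPpos : 0 < Nat.card P := Nat.card_pos
  have h6 : p * Nat.card (ConjClasses P) = ∑ g : P, (if g ∈ Subgroup.center P then p else 1) := by
    apply Nat.eq_of_mul_eq_mul_left hPpos
    rw [← h4]; ring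
  have h7 : p * (Nat.card (ConjClasses P) + 1) = p * (p ^ (2 * n) + p) := by
    rw [mul_add, h6, mul_one, h5, hcard]
    ring
  exact Nat.eq_of_mul_eq_mul_left hp.pos h7

end Extraspecial

section DegreeBound

variable {G : Type*} [Group G] [Finite G]

/-- `χ(1)² · |Z(G)| ≤ |G|` for an irreducible character `χ`. -/
theorem irrDeg_sq_mul_card_center_le (χ : IrrCharacter G) :
    irrDeg χ ^ 2 * Nat.card (Subgroup.center G) ≤ Nat.card G := by
  classical
  have : Fintype G := Fintype.ofFinite G
  obtain ⟨n, ρ, hirr, hχ⟩ := χ.2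
  -- norm of character values at central elements
  have hcen : ∀ z ∈ Subgroup.center G, Complex.normSq ((χ : G → ℂ) z) = (irrDeg χ : ℝ) ^ 2 := by
    intro z hz
    have hT : ∀ g : G, ρ z ∘ₗ ρ g = ρ g ∘ₗ ρ z := by
      intro g
      rw [← Module.End.mul_eq_comp, ← Module.End.mul_eq_comp, ← map_mul, ← map_mul]
      congr 1
      exact ((Subgroup.mem_center_iff.1 hz) g).symm
    obtain ⟨c, hc⟩ := Cfsg.Agent.Helper5.schur_scalar ρ (ρ z) hT
    have hpos := Cfsg.Agent.Helper5.finrank_pos_of_isIrreducible ρ
    have hne : (Module.finrank ℂ (Fin n → ℂ) : ℂ) ≠ 0 := by exact_mod_cast hpos.ne'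
    have hpow : c ^ (orderOf z) = 1 := by
      have h1 : ρ z ^ (orderOf z) = 1 := by rw [← map_pow, pow_orderOf_eq_one, map_one]
      rw [hc] at h1
      have h2 : (c • (LinearMap.id : (Fin n → ℂ) →ₗ[ℂ] (Fin n → ℂ))) ^ (orderOf z) =
          (c ^ orderOf z) • (LinearMap.id : (Fin n → ℂ) →ₗ[ℂ] (Fin n → ℂ)) := by
        rw [smul_pow]
        congr 1
        exact one_pow _
      rw [h2] at h1
      have h3 := congrArg (LinearMap.trace ℂ (Fin n → ℂ)) h1
      rw [map_smul, LinearMap.trace_id, LinearMap.trace_one, smul_eq_mul] at h3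
      exact mul_right_cancel₀ hne (h3.trans (one_mul _).symm)
    have hnorm : ‖c‖ = 1 :=
      Complex.norm_eq_one_of_pow_eq_one hpow (orderOf_pos z).ne'
    have hval : (χ : G → ℂ) z = c * (χ : G → ℂ) 1 := by
      rw [← hχ]
      show LinearMap.trace ℂ _ (ρ z) = c * LinearMap.trace ℂ _ (ρ 1)
      rw [hc, map_one, map_smul, LinearMap.trace_id, LinearMap.trace_one, smul_eq_mul]
    rw [hval, irrDeg_spec χ, Complex.normSq_mul, Complex.normSq_eq_norm_sq, hnorm,
      Complex.normSq_natCast]
    ring
  have hinner := classInner_irr_self χ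
  unfold classInner at hinner
  have hGne : (Nat.card G : ℂ) ≠ 0 := by
    have : Nat.card G ≠ 0 := Nat.card_pos.ne'
    exact_mod_cast this
  have hsum : ∑ g : G, (χ : G → ℂ) g * (starRingEnd ℂ) ((χ : G → ℂ) g) = (Nat.card G : ℂ) := by
    field_simp at hinner
    exact hinner
  have hsum' : ∑ g : G, Complex.normSq ((χ : G → ℂ) g) = (Nat.card G : ℝ) := by
    have h1 : ((∑ g : G, Complex.normSq ((χ : G → ℂ) g) : ℝ) : ℂ) = (Nat.card G : ℂ) := by
      rw [← hsum]
      push_cast
      refine Finset.sum_congr rfl fun g _ => ?_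
      rw [Complex.mul_conj]
    exact_mod_cast h1
  have hle : ∑ g ∈ Finset.univ.filter (fun g : G => g ∈ Subgroup.center G),
      Complex.normSq ((χ : G → ℂ) g) ≤ ∑ g : G, Complex.normSq ((χ : G → ℂ) g) := by
    apply Finset.sum_le_sum_of_subset_of_nonneg (Finset.filter_subset _ _)
    intro g _ _
    exact Complex.normSq_nonneg _
  rw [hsum'] at hle
  have hZsum : ∑ g ∈ Finset.univ.filter (fun g : G => g ∈ Subgroup.center G),
      Complex.normSq ((χ : G → ℂ) g) =
      (Nat.card (Subgroup.center G) : ℝ) * (irrDeg χ : ℝ) ^ 2 := by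
    rw [Finset.sum_congr rfl (fun g hg => hcen g (Finset.mem_filter.1 hg).2), Finset.sum_const,
      nsmul_eq_mul]
    congr 1
    rw [Nat.card_eq_fintype_card, Fintype.card_subtype]
  rw [hZsum] at hle
  have : ((irrDeg χ ^ 2 * Nat.card (Subgroup.center G) : ℕ) : ℝ) ≤ (Nat.card G : ℝ) := by
    push_cast
    linarith
  exact_mod_cast this

end DegreeBound

end Cfsg.Agent.Helper12
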