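import Mathlib
import Cfsg.Agent.Helper12.ExtraspecialChar
import Cfsg.Agent.Helper24.Linear
import Cfsg.Agent.Helper24.Induced
import Cfsg.Agent.Helper24.Expansion

set_option autoImplicit false

/-! Induced characters of extraspecial `p`-groups from maximal abelian subgroups. -/

namespace Cfsg.Agent.Helper12

open Cfsg Cfsg.Agent.Helper24

open scoped commutatorElement ComplexConjugate

/-- A character of degree one is a homomorphism. -/
theorem exists_monoidHom_of_isCharacter_one {G : Type*} [Group G]
    {χ : G → ℂ} (hχ : IsCharacter G χ) (h1 : χ 1 = 1) :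
    ∃ φ : G →* ℂ, ∀ g, χ g = φ g := by
  obtain ⟨n, ρ, hχ⟩ := hχ
  have hd : Module.finrank ℂ (Fin n → ℂ) = 1 := by
    rw [← hχ, Representation.char_one] at h1
    exact_mod_cast h1
  have hsc : ∀ g : G, ρ g = ρ.character g • (LinearMap.id : (Fin n → ℂ) →ₗ[ℂ] (Fin n → ℂ)) := by
    intro g
    obtain ⟨c, hc, -⟩ := LinearMap.existsUnique_eq_smul_id_of_finrank_eq_one hd (ρ g)
    have : ρ.character g = c := by
      unfold Representation.character
      rw [hc, map_smul, LinearMap.trace_id, hd]
      simp
    rw [this]; exact hc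
  have hmul : ∀ g h : G, ρ.character (g * h) = ρ.character g * ρ.character h := by
    intro g h
    have e : ρ (g * h) = ρ g * ρ h := map_mul ρ g h
    rw [hsc (g * h), hsc g, hsc h, smul_mul_smul_comm, Module.End.mul_eq_comp,
      LinearMap.id_comp] at e
    have := congrArg (LinearMap.trace ℂ (Fin n → ℂ)) e
    rw [map_smul, map_smul, LinearMap.trace_id, hd] at this
    simpa using this
  refine ⟨{ toFun := ρ.character, map_one' := by rw [hχ]; exact h1, map_mul' := hmul }, ?_⟩
  intro g
  exact (congrFun hχ g).symm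

section

variable {P : Type*} [Group P]

theorem extendByZero_of_mem (A : Subgroup P) (lam : A → ℂ) {a : P} (ha : a ∈ A) :
    extendByZero A lam a = lam ⟨a, ha⟩ := by
  unfold extendByZero
  exact Subtype.val_injective.extend_apply lam 0 ⟨a, ha⟩

theorem extendByZero_of_not_mem (A : Subgroup P) (lam : A → ℂ) {a : P} (ha : a ∉ A) :
    extendByZero A lam a = 0 := by
  unfold extendByZero
  rw [Function.extend_apply']
  · rfl
  · rintro ⟨b, hb⟩
    exact ha (hb ▸ b.2)

/-- A homomorphism `μ : P → ℂ` (multiplicative, on a finite group) which is nontrivial sums to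
zero. -/
theorem sum_eq_zero_of_mul_of_ne_one [Fintype P] (μ : P → ℂ) (hmul : ∀ a b, μ (a * b) = μ a * μ b)
    {y₀ : P} (hy : μ y₀ ≠ 1) : ∑ y : P, μ y = 0 := by
  have h1 : ∑ y : P, μ y = μ y₀ * ∑ y : P, μ y := by
    rw [Finset.mul_sum, ← Equiv.sum_comp (Equiv.mulLeft y₀)]
    refine Finset.sum_congr rfl fun y _ => ?_
    rw [Equiv.coe_mulLeft, hmul]
  have h2 : (1 - μ y₀) * ∑ y : P, μ y = 0 := by linear_combination h1
  rcases mul_eq_zero.1 h2 with h | h
  · exact absurd (sub_eq_zero.1 h).symm hy
  · exact h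

end

section Extraspecial

variable {P : Type*} [Group P] [Fintype P] (p : ℕ) [Fact p.Prime]

/-- The induced character from an abelian subgroup containing the centre, of a linear character
nontrivial on the centre. -/
theorem extraspecial_indFun (hP : IsExtraspecial p P) (n : ℕ) (hcard : Nat.card P = p ^ (2 * n + 1))
    (A : Subgroup P) (hA : Nat.card A = p ^ (n + 1)) (lam : A → ℂ)
    (hlam : IsCharacter A lam ∧ lam 1 = 1)
    (hZ : ∃ a : A, (a : P) ∈ Subgroup.center P ∧ lam a ≠ 1) :
    (∀ x : P, x ∉ Subgroup.center P → indFun A lam x = 0) ∧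
    ∀ z ∈ Subgroup.center P, indFun A lam z = (p : ℂ) ^ n * extendByZero A lam z := by
  classical
  have hp : p.Prime := Fact.out
  have hc := extraspecial_comm_mem_center p hP
  obtain ⟨φ, hφ⟩ := exists_monoidHom_of_isCharacter_one hlam.1 hlam.2
  set E := extendByZero A lam with hE
  have hE1 : ∀ a (ha : a ∈ A), E a = φ ⟨a, ha⟩ := by
    intro a ha
    rw [hE, extendByZero_of_mem A lam ha, hφ]
  have hE2 : ∀ g, g ∉ A → E g = 0 := fun g hg => extendByZero_of_not_mem A lam hg
  have hE3 : ∀ a b, a ∈ A → b ∈ A → E (a * b) = E a * E b := by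
    intro a b ha hb
    rw [hE1 a ha, hE1 b hb, hE1 (a * b) (A.mul_mem ha hb), ← map_mul]
    rfl
  -- the centre lies in `A`
  obtain ⟨a₀, ha₀Z, ha₀⟩ := hZ
  have hZA : Subgroup.center P ≤ A := by
    have hne : (Subgroup.center P ⊓ A) ≠ ⊥ := by
      intro h
      have : (a₀ : P) ∈ Subgroup.center P ⊓ A := ⟨ha₀Z, a₀.2⟩
      rw [h, Subgroup.mem_bot] at this
      apply ha₀
      have : a₀ = 1 := Subtype.ext this
      rw [this, hlam.2]
    have h1 : Nat.card (Subgroup.center P ⊓ A : Subgroup P) ∣ p := by
      rw [← hP.2]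
      exact Subgroup.card_dvd_of_le inf_le_left
    rcases (Nat.dvd_prime hp).1 h1 with h | h
    · exact absurd (Subgroup.card_eq_one.1 h) hne
    · have : Subgroup.center P ⊓ A = Subgroup.center P := by
        apply Subgroup.eq_of_le_of_card_ge inf_le_left
        rw [h, hP.2]
      rw [← this]
      exact inf_le_right
  -- `A` is normal
  have hnorm : ∀ a ∈ A, ∀ y : P, y * a * y⁻¹ ∈ A := by
    intro a ha y
    have : y * a * y⁻¹ = ⁅y, a⁆ * a := by simp only [commutatorElement_def]; group
    rw [this]
    exact A.mul_mem (hZA (hc y a)) ha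
  have hnorm' : ∀ x : P, x ∉ A → ∀ y : P, y⁻¹ * x * y ∉ A := by
    intro x hx y hy
    apply hx
    have := hnorm _ hy y
    have e : y * (y⁻¹ * x * y) * y⁻¹ = x := by group
    rwa [e] at this
  have hAne : (Nat.card A : ℂ) ≠ 0 := by
    have : Nat.card A ≠ 0 := Nat.card_pos.ne'
    exact_mod_cast this
  constructor
  · intro x hx
    unfold indFun
    by_cases hxA : x ∈ A
    · -- `x ∈ A ∖ Z`
      have hterm : ∀ y : P, extendByZero A lam (y⁻¹ * x * y) = E ⁅y⁻¹, x⁆ * E x := by
        intro y
        have e : y⁻¹ * x * y = ⁅y⁻¹, x⁆ * x := by simp only [commutatorElement_def]; group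
        rw [e]
        exact hE3 _ _ (hZA (hc _ _)) hxA
      rw [Finset.sum_congr rfl fun y _ => hterm y, ← Finset.sum_mul]
      have hsum : ∑ y : P, E ⁅y⁻¹, x⁆ = 0 := by
        have hre := Equiv.sum_comp (Equiv.inv P) (fun y => E ⁅y, x⁆)
        simp only [Equiv.inv_apply] at hre
        rw [hre]
        set f := commHomOf hc x with hf
        have hrange : f.range = Subgroup.center P := by
          have hle : f.range ≤ Subgroup.center P := by
            rintro _ ⟨y, rfl⟩
            exact hc y x
          have hne : f.range ≠ ⊥ := by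
            intro h
            apply hx
            rw [Subgroup.mem_center_iff]
            intro y
            have : f y ∈ f.range := ⟨y, rfl⟩
            rw [h, Subgroup.mem_bot, hf, commHomOf_apply,
              commutatorElement_eq_one_iff_commute] at this
            exact this
          have h1 : Nat.card f.range ∣ p := by
            rw [← hP.2]
            exact Subgroup.card_dvd_of_le hle
          rcases (Nat.dvd_prime hp).1 h1 with h | h
          · exact absurd (Subgroup.card_eq_one.1 h) hne
          · apply Subgroup.eq_of_le_of_card_ge hle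
            rw [h, hP.2]
        have ha₀r : (a₀ : P) ∈ f.range := by rw [hrange]; exact ha₀Z
        obtain ⟨y₀, hy₀⟩ := ha₀r
        apply sum_eq_zero_of_mul_of_ne_one (fun y => E ⁅y, x⁆) (y₀ := y₀)
        · intro a b
          show E (f (a * b)) = E (f a) * E (f b)
          rw [map_mul]
          exact hE3 _ _ (hZA (hc _ _)) (hZA (hc _ _))
        · show E (f y₀) ≠ 1
          rw [hy₀, hE, extendByZero_of_mem A lam a₀.2]
          exact ha₀
      rw [hsum, zero_mul, mul_zero]
    · rw [Finset.sum_eq_zero, mul_zero]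
      intro y _
      exact hE2 _ (hnorm' x hxA y)
  · intro z hz
    unfold indFun
    have hterm : ∀ y : P, extendByZero A lam (y⁻¹ * z * y) = E z := by
      intro y
      have : y⁻¹ * z * y = z := by
        rw [mul_assoc, ← (Subgroup.mem_center_iff.1 hz y), ← mul_assoc, inv_mul_cancel, one_mul]
      rw [this]
    rw [Finset.sum_congr rfl fun y _ => hterm y, Finset.sum_const, Finset.card_univ,
      nsmul_eq_mul, ← Nat.card_eq_fintype_card, hcard, hA, ← mul_assoc]
    congr 1
    have hp0 : (p : ℂ) ≠ 0 := by exact_mod_cast hp.pos.ne'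
    push_cast
    rw [show 2 * n + 1 = n + (n + 1) by ring, pow_add]
    field_simp
    ring

/-- The induced character is irreducible. -/
theorem extraspecial_indFun_irr (hP : IsExtraspecial p P) (n : ℕ)
    (hcard : Nat.card P = p ^ (2 * n + 1))
    (A : Subgroup P) (hA : Nat.card A = p ^ (n + 1)) (lam : A → ℂ)
    (hlam : IsCharacter A lam ∧ lam 1 = 1)
    (hZ : ∃ a : A, (a : P) ∈ Subgroup.center P ∧ lam a ≠ 1) :
    IsIrrCharacter P (indFun A lam) := by
  classical
  have hp : p.Prime := Fact.out
  obtain ⟨h0, h1⟩ := extraspecial_indFun p hP n hcard A hA lam hlam hZ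
  have : Fintype (IrrCharacter P) := Fintype.ofFinite _
  apply IsCharacter.isIrrCharacter_of_classInner_self (isCharacter_indFun A hlam.1)
  obtain ⟨φ, hφ⟩ := exists_monoidHom_of_isCharacter_one hlam.1 hlam.2
  -- the centre lies in `A`
  have hZA : Subgroup.center P ≤ A := by
    obtain ⟨a₀, ha₀Z, ha₀⟩ := hZ
    have hne : (Subgroup.center P ⊓ A) ≠ ⊥ := by
      intro h
      have : (a₀ : P) ∈ Subgroup.center P ⊓ A := ⟨ha₀Z, a₀.2⟩
      rw [h, Subgroup.mem_bot] at this
      apply ha₀
      have : a₀ = 1 := Subtype.ext this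
      rw [this, hlam.2]
    have h1 : Nat.card (Subgroup.center P ⊓ A : Subgroup P) ∣ p := by
      rw [← hP.2]
      exact Subgroup.card_dvd_of_le inf_le_left
    rcases (Nat.dvd_prime hp).1 h1 with h | h
    · exact absurd (Subgroup.card_eq_one.1 h) hne
    · have : Subgroup.center P ⊓ A = Subgroup.center P := by
        apply Subgroup.eq_of_le_of_card_ge inf_le_left
        rw [h, hP.2]
      rw [← this]
      exact inf_le_right
  unfold classInner
  have hterm : ∀ g : P, indFun A lam g * conj (indFun A lam g) =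
      if g ∈ Subgroup.center P then ((p : ℂ) ^ n) ^ 2 else 0 := by
    intro g
    by_cases hg : g ∈ Subgroup.center P
    · rw [if_pos hg, h1 g hg, extendByZero_of_mem A lam (hZA hg), hφ, map_mul, map_pow,
        Complex.conj_natCast]
      have hn1 := norm_monoidHom_eq_one φ ⟨g, hZA hg⟩
      have : φ ⟨g, hZA hg⟩ * conj (φ ⟨g, hZA hg⟩) = 1 := by
        rw [Complex.mul_conj, Complex.normSq_eq_norm_sq, hn1]
        norm_num
      calc (p : ℂ) ^ n * φ ⟨g, hZA hg⟩ * ((p : ℂ) ^ n * conj (φ ⟨g, hZA hg⟩))
          = ((p : ℂ) ^ n) ^ 2 * (φ ⟨g, hZA hg⟩ * conj (φ ⟨g, hZA hg⟩)) := by ring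
        _ = ((p : ℂ) ^ n) ^ 2 := by rw [this, mul_one]
    · rw [if_neg hg, h0 g hg, zero_mul]
  rw [Finset.sum_congr rfl fun g _ => hterm g, ← Finset.sum_filter, Finset.sum_const,
    nsmul_eq_mul]
  have hZc : (Finset.univ.filter (fun g : P => g ∈ Subgroup.center P)).card = p := by
    rw [← hP.2, Nat.card_eq_fintype_card, Fintype.card_subtype]
  rw [hZc, hcard]
  have hp0 : (p : ℂ) ≠ 0 := by exact_mod_cast hp.pos.ne'
  push_cast
  rw [pow_succ, ← pow_mul, mul_comm n 2]
  field_simp

end Extraspecial

end Cfsg.Agent.Helper12
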