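import Mathlib
import Cfsg.Prelude.Def_Characters
import Cfsg.Prelude.Def_ParabolicCharacters
import Cfsg.Agent.Helper8.Ind

set_option autoImplicit false

open scoped ComplexConjugate

namespace Cfsg.Agent.Helper12

open Cfsg.Agent.Helper8

variable {F : Type*} [Field F]

theorem mem_upperTriangularGL_two_iff (g : Matrix.GeneralLinearGroup (Fin 2) F) :
    g ∈ Cfsg.upperTriangularGL 2 F ↔ (g : Matrix (Fin 2) (Fin 2) F) 1 0 = 0 := by
  show (g : Matrix (Fin 2) (Fin 2) F).BlockTriangular id ↔ _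
  constructor
  · intro h
    exact h (show (0 : Fin 2) < 1 by decide)
  · intro h i j hij
    fin_cases i <;> fin_cases j
    · exact absurd hij (by decide)
    · exact absurd hij (by decide)
    · exact h
    · exact absurd hij (by decide)

/-- The upper triangular subgroup of `SL₂`. -/
abbrev borelSL (F : Type*) [Field F] : Subgroup (Matrix.SpecialLinearGroup (Fin 2) F) :=
  (Cfsg.upperTriangularGL 2 F).comap Matrix.SpecialLinearGroup.toGL

theorem mem_borelSL_iff (x : Matrix.SpecialLinearGroup (Fin 2) F) :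
    x ∈ borelSL F ↔ (x : Matrix (Fin 2) (Fin 2) F) 1 0 = 0 := by
  rw [Subgroup.mem_comap, mem_upperTriangularGL_two_iff]
  rfl

/-- Representatives of the nontrivial cosets of the Borel subgroup. -/
def bruhatM (s : F) : Matrix.SpecialLinearGroup (Fin 2) F :=
  ⟨!![s, -1; 1, 0], by simp [Matrix.det_fin_two_of]⟩

theorem bruhatM_coe (s : F) : (bruhatM s : Matrix (Fin 2) (Fin 2) F) = !![s, -1; 1, 0] := rfl

theorem bruhatM_inv_coe (s : F) :
    ((bruhatM s)⁻¹ : Matrix.SpecialLinearGroup (Fin 2) F) =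
      (⟨!![0, 1; -1, s], by simp [Matrix.det_fin_two_of]⟩ : Matrix.SpecialLinearGroup (Fin 2) F) := by
  apply Subtype.ext
  rw [Matrix.SpecialLinearGroup.coe_inv, bruhatM_coe, Matrix.adjugate_fin_two_of]
  simp

theorem bruhatM_inv_mul_coe (s : F) (x : Matrix.SpecialLinearGroup (Fin 2) F) :
    (((bruhatM s)⁻¹ * x : Matrix.SpecialLinearGroup (Fin 2) F) : Matrix (Fin 2) (Fin 2) F) =
      !![(x : Matrix (Fin 2) (Fin 2) F) 1 0, (x : Matrix (Fin 2) (Fin 2) F) 1 1;
        -(x : Matrix (Fin 2) (Fin 2) F) 0 0 + s * (x : Matrix (Fin 2) (Fin 2) F) 1 0,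
        -(x : Matrix (Fin 2) (Fin 2) F) 0 1 + s * (x : Matrix (Fin 2) (Fin 2) F) 1 1] := by
  rw [Matrix.SpecialLinearGroup.coe_mul, bruhatM_inv_coe]
  ext i j
  fin_cases i <;> fin_cases j <;> simp [Matrix.mul_apply, Fin.sum_univ_two]

theorem bruhatM_mul_coe (s : F) (x : Matrix.SpecialLinearGroup (Fin 2) F) :
    ((bruhatM s * x : Matrix.SpecialLinearGroup (Fin 2) F) : Matrix (Fin 2) (Fin 2) F) =
      !![s * (x : Matrix (Fin 2) (Fin 2) F) 0 0 - (x : Matrix (Fin 2) (Fin 2) F) 1 0,
        s * (x : Matrix (Fin 2) (Fin 2) F) 0 1 - (x : Matrix (Fin 2) (Fin 2) F) 1 1;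
        (x : Matrix (Fin 2) (Fin 2) F) 0 0, (x : Matrix (Fin 2) (Fin 2) F) 0 1] := by
  rw [Matrix.SpecialLinearGroup.coe_mul, bruhatM_coe]
  ext i j
  fin_cases i <;> fin_cases j <;> simp [Matrix.mul_apply, Fin.sum_univ_two, sub_eq_add_neg]

/-- The Bruhat parametrisation of `SL₂`. -/
noncomputable def bruhatMap : (borelSL F) ⊕ (F × borelSL F) → Matrix.SpecialLinearGroup (Fin 2) F
  | Sum.inl b => (b : Matrix.SpecialLinearGroup (Fin 2) F)
  | Sum.inr p => bruhatM p.1 * (p.2 : Matrix.SpecialLinearGroup (Fin 2) F)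

theorem bruhatMap_bijective : Function.Bijective (bruhatMap (F := F)) := by
  constructor
  · rintro (b | ⟨s, b⟩) (b' | ⟨s', b'⟩) h
    · simp only [bruhatMap] at h
      rw [Subtype.ext h]
    · exfalso
      simp only [bruhatMap] at h
      have hb := (mem_borelSL_iff _).1 b.2
      rw [h, bruhatM_mul_coe] at hb
      have hb' := (mem_borelSL_iff _).1 b'.2
      simp only [Matrix.of_apply, Matrix.cons_val', Matrix.cons_val_zero, Matrix.cons_val_one,
        Matrix.cons_val_fin_one] at hb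
      have hdet := (b' : Matrix.SpecialLinearGroup (Fin 2) F).2
      rw [Matrix.det_fin_two, hb, hb'] at hdet
      simp at hdet
    · exfalso
      simp only [bruhatMap] at h
      have hb' := (mem_borelSL_iff _).1 b'.2
      rw [← h, bruhatM_mul_coe] at hb'
      have hb := (mem_borelSL_iff _).1 b.2
      simp only [Matrix.of_apply, Matrix.cons_val', Matrix.cons_val_zero, Matrix.cons_val_one,
        Matrix.cons_val_fin_one] at hb'
      have hdet := (b : Matrix.SpecialLinearGroup (Fin 2) F).2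
      rw [Matrix.det_fin_two, hb, hb'] at hdet
      simp at hdet
    · simp only [bruhatMap] at h
      have hb := (mem_borelSL_iff _).1 b.2
      have hb' := (mem_borelSL_iff _).1 b'.2
      have h1 := congrArg (fun z : Matrix.SpecialLinearGroup (Fin 2) F =>
        (z : Matrix (Fin 2) (Fin 2) F)) h
      simp only [bruhatM_mul_coe] at h1
      have e00 := congrFun (congrFun h1 0) 0
      have e10 := congrFun (congrFun h1 1) 0
      simp only [Matrix.of_apply, Matrix.cons_val', Matrix.cons_val_zero, Matrix.cons_val_one,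
        Matrix.cons_val_fin_one] at e00 e10
      rw [hb, hb', sub_zero, sub_zero, ← e10] at e00
      have hne : ((b : Matrix.SpecialLinearGroup (Fin 2) F) : Matrix (Fin 2) (Fin 2) F) 0 0 ≠ 0 := by
        intro h0
        have hdet := (b : Matrix.SpecialLinearGroup (Fin 2) F).2
        rw [Matrix.det_fin_two, hb, h0] at hdet
        simp at hdet
      have hs : s = s' := mul_right_cancel₀ hne e00
      subst hs
      have hbb : (b : Matrix.SpecialLinearGroup (Fin 2) F) = b' := mul_left_cancel h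
      rw [Subtype.ext hbb]
  · intro x
    by_cases hx : (x : Matrix (Fin 2) (Fin 2) F) 1 0 = 0
    · exact ⟨Sum.inl ⟨x, (mem_borelSL_iff x).2 hx⟩, rfl⟩
    · obtain ⟨s, hs⟩ : ∃ s : F, s * (x : Matrix (Fin 2) (Fin 2) F) 1 0 =
          (x : Matrix (Fin 2) (Fin 2) F) 0 0 := ⟨_, div_mul_cancel₀ _ hx⟩
      have hmem : (bruhatM s)⁻¹ * x ∈ borelSL F := by
        rw [mem_borelSL_iff, bruhatM_inv_mul_coe]
        simp only [Matrix.of_apply, Matrix.cons_val', Matrix.cons_val_zero, Matrix.cons_val_one,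
          Matrix.cons_val_fin_one]
        rw [hs]; ring
      refine ⟨Sum.inr (s, ⟨(bruhatM s)⁻¹ * x, hmem⟩), ?_⟩
      simp only [bruhatMap]
      group

/-- Summation over `SL₂` via the Bruhat decomposition. -/
theorem sum_bruhat [Fintype F] [DecidableEq F] [Fintype (borelSL F)] (Φ : Matrix.SpecialLinearGroup (Fin 2) F → ℂ) :
    ∑ x : Matrix.SpecialLinearGroup (Fin 2) F, Φ x =
      ∑ b : borelSL F, Φ b + ∑ s : F, ∑ b : borelSL F, Φ (bruhatM s * b) := by
  rw [← (Equiv.ofBijective _ (bruhatMap_bijective (F := F))).sum_comp, Fintype.sum_sum_type,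
    Fintype.sum_prod_type]
  rfl

/-- Extension by zero of a class function of `H` is invariant under conjugation by `H`. -/
theorem ebz_conj_of_mem {G : Type*} [Group G] (H : Subgroup G) (θ : H → ℂ)
    (hθ : ∀ b y : H, θ (b⁻¹ * y * b) = θ y) (b : G) (hb : b ∈ H) (y : G) :
    Cfsg.extendByZero H θ (b⁻¹ * y * b) = Cfsg.extendByZero H θ y := by
  by_cases hy : y ∈ H
  · have hy' : b⁻¹ * y * b ∈ H := H.mul_mem (H.mul_mem (H.inv_mem hb) hy) hb
    rw [ebz_mem H θ hy', ebz_mem H θ hy]
    exact hθ ⟨b, hb⟩ ⟨y, hy⟩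
  · have hy' : b⁻¹ * y * b ∉ H := by
      intro h
      apply hy
      have : y = b * (b⁻¹ * y * b) * b⁻¹ := by group
      rw [this]
      exact H.mul_mem (H.mul_mem hb h) (H.inv_mem hb)
    rw [ebz_not_mem H θ hy', ebz_not_mem H θ hy]

/-- The induced function from the Borel subgroup of `SL₂` as a sum over the projective line. -/
theorem indFun_borelSL [Fintype F] [DecidableEq F] (θ : borelSL F → ℂ)
    (hθ : ∀ b y : borelSL F, θ (b⁻¹ * y * b) = θ y) (g : Matrix.SpecialLinearGroup (Fin 2) F) :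
    Cfsg.indFun (borelSL F) θ g = Cfsg.extendByZero (borelSL F) θ g +
      ∑ s : F, Cfsg.extendByZero (borelSL F) θ ((bruhatM s)⁻¹ * g * bruhatM s) := by
  classical
  haveI : Fintype (borelSL F) := Fintype.ofFinite _
  rw [indFun_def, sum_bruhat]
  have h1 : ∀ b : borelSL F, Cfsg.extendByZero (borelSL F) θ
      ((b : Matrix.SpecialLinearGroup (Fin 2) F)⁻¹ * g * b) = Cfsg.extendByZero (borelSL F) θ g :=
    fun b => ebz_conj_of_mem _ θ hθ b b.2 g
  have h2 : ∀ (s : F) (b : borelSL F), Cfsg.extendByZero (borelSL F) θ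
      ((bruhatM s * (b : Matrix.SpecialLinearGroup (Fin 2) F))⁻¹ * g * (bruhatM s * b)) =
        Cfsg.extendByZero (borelSL F) θ ((bruhatM s)⁻¹ * g * bruhatM s) := by
    intro s b
    have := ebz_conj_of_mem _ θ hθ b b.2 ((bruhatM s)⁻¹ * g * bruhatM s)
    rw [← this]
    congr 1
    group
  simp only [h1, h2, Finset.sum_const, Finset.card_univ, nsmul_eq_mul]
  rw [← Finset.mul_sum, ← mul_add, ← mul_assoc, Nat.card_eq_fintype_card]
  have hne : (Fintype.card (borelSL F) : ℂ) ≠ 0 := by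
    exact_mod_cast Fintype.card_ne_zero
  rw [inv_mul_cancel₀ hne, one_mul]

/-- The conjugate of `g` by a Bruhat representative. -/
theorem bruhatM_conj_coe (s : F) (g : Matrix.SpecialLinearGroup (Fin 2) F) :
    (((bruhatM s)⁻¹ * g * bruhatM s : Matrix.SpecialLinearGroup (Fin 2) F) :
      Matrix (Fin 2) (Fin 2) F) =
      !![(g : Matrix (Fin 2) (Fin 2) F) 1 0 * s + (g : Matrix (Fin 2) (Fin 2) F) 1 1,
        -(g : Matrix (Fin 2) (Fin 2) F) 1 0;
        (g : Matrix (Fin 2) (Fin 2) F) 1 0 * s ^ 2 +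
          ((g : Matrix (Fin 2) (Fin 2) F) 1 1 - (g : Matrix (Fin 2) (Fin 2) F) 0 0) * s -
          (g : Matrix (Fin 2) (Fin 2) F) 0 1,
        (g : Matrix (Fin 2) (Fin 2) F) 0 0 - s * (g : Matrix (Fin 2) (Fin 2) F) 1 0] := by
  rw [Matrix.SpecialLinearGroup.coe_mul, bruhatM_inv_mul_coe, bruhatM_coe]
  ext i j
  fin_cases i <;> fin_cases j <;> simp [Matrix.mul_apply, Fin.sum_univ_two] <;> ring

end Cfsg.Agent.Helper12
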