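import Mathlib
import Cfsg.Agent.Helper12.SL2Borel

set_option autoImplicit false

open scoped ComplexConjugate

namespace Cfsg.Agent.Helper12

open Cfsg.Agent.Helper8

variable {F : Type*} [Field F]

/-- Representatives of the nontrivial cosets of the Borel subgroup of `GL₂`. -/
def bruhatG (s : F) : Matrix.GeneralLinearGroup (Fin 2) F :=
  Matrix.SpecialLinearGroup.toGL (bruhatM s)

theorem bruhatG_coe (s : F) : (bruhatG s : Matrix (Fin 2) (Fin 2) F) = !![s, -1; 1, 0] := rfl

theorem bruhatG_inv_coe (s : F) :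
    (((bruhatG s)⁻¹ : Matrix.GeneralLinearGroup (Fin 2) F) : Matrix (Fin 2) (Fin 2) F) =
      !![0, 1; -1, s] := by
  rw [bruhatG, ← map_inv, bruhatM_inv_coe]
  rfl

theorem bruhatG_inv_mul_coe (s : F) (x : Matrix.GeneralLinearGroup (Fin 2) F) :
    (((bruhatG s)⁻¹ * x : Matrix.GeneralLinearGroup (Fin 2) F) : Matrix (Fin 2) (Fin 2) F) =
      !![(x : Matrix (Fin 2) (Fin 2) F) 1 0, (x : Matrix (Fin 2) (Fin 2) F) 1 1;
        -(x : Matrix (Fin 2) (Fin 2) F) 0 0 + s * (x : Matrix (Fin 2) (Fin 2) F) 1 0,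
        -(x : Matrix (Fin 2) (Fin 2) F) 0 1 + s * (x : Matrix (Fin 2) (Fin 2) F) 1 1] := by
  rw [Units.val_mul, bruhatG_inv_coe]
  ext i j
  fin_cases i <;> fin_cases j <;> simp [Matrix.mul_apply, Fin.sum_univ_two]

theorem bruhatG_mul_coe (s : F) (x : Matrix.GeneralLinearGroup (Fin 2) F) :
    ((bruhatG s * x : Matrix.GeneralLinearGroup (Fin 2) F) : Matrix (Fin 2) (Fin 2) F) =
      !![s * (x : Matrix (Fin 2) (Fin 2) F) 0 0 - (x : Matrix (Fin 2) (Fin 2) F) 1 0,
        s * (x : Matrix (Fin 2) (Fin 2) F) 0 1 - (x : Matrix (Fin 2) (Fin 2) F) 1 1;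
        (x : Matrix (Fin 2) (Fin 2) F) 0 0, (x : Matrix (Fin 2) (Fin 2) F) 0 1] := by
  rw [Units.val_mul, bruhatG_coe]
  ext i j
  fin_cases i <;> fin_cases j <;> simp [Matrix.mul_apply, Fin.sum_univ_two, sub_eq_add_neg]

theorem gl2_det_ne_zero (x : Matrix.GeneralLinearGroup (Fin 2) F) :
    (x : Matrix (Fin 2) (Fin 2) F).det ≠ 0 := by
  have := x.isUnit.map Matrix.detMonoidHom
  simpa using this.ne_zero

/-- The Bruhat parametrisation of `GL₂`. -/
noncomputable def bruhatMapG :
    (Cfsg.upperTriangularGL 2 F) ⊕ (F × Cfsg.upperTriangularGL 2 F) →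
      Matrix.GeneralLinearGroup (Fin 2) F
  | Sum.inl b => (b : Matrix.GeneralLinearGroup (Fin 2) F)
  | Sum.inr p => bruhatG p.1 * (p.2 : Matrix.GeneralLinearGroup (Fin 2) F)

theorem bruhatMapG_bijective : Function.Bijective (bruhatMapG (F := F)) := by
  constructor
  · rintro (b | ⟨s, b⟩) (b' | ⟨s', b'⟩) h
    · simp only [bruhatMapG] at h
      rw [Subtype.ext h]
    · exfalso
      simp only [bruhatMapG] at h
      have hb := (mem_upperTriangularGL_two_iff _).1 b.2
      rw [h, bruhatG_mul_coe] at hb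
      have hb' := (mem_upperTriangularGL_two_iff _).1 b'.2
      simp only [Matrix.of_apply, Matrix.cons_val', Matrix.cons_val_zero, Matrix.cons_val_one,
        Matrix.cons_val_fin_one] at hb
      have hdet := gl2_det_ne_zero (b' : Matrix.GeneralLinearGroup (Fin 2) F)
      rw [Matrix.det_fin_two, hb, hb'] at hdet
      simp at hdet
    · exfalso
      simp only [bruhatMapG] at h
      have hb' := (mem_upperTriangularGL_two_iff _).1 b'.2
      rw [← h, bruhatG_mul_coe] at hb'
      have hb := (mem_upperTriangularGL_two_iff _).1 b.2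
      simp only [Matrix.of_apply, Matrix.cons_val', Matrix.cons_val_zero, Matrix.cons_val_one,
        Matrix.cons_val_fin_one] at hb'
      have hdet := gl2_det_ne_zero (b : Matrix.GeneralLinearGroup (Fin 2) F)
      rw [Matrix.det_fin_two, hb, hb'] at hdet
      simp at hdet
    · simp only [bruhatMapG] at h
      have hb := (mem_upperTriangularGL_two_iff _).1 b.2
      have hb' := (mem_upperTriangularGL_two_iff _).1 b'.2
      have h1 := congrArg (fun z : Matrix.GeneralLinearGroup (Fin 2) F =>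
        (z : Matrix (Fin 2) (Fin 2) F)) h
      simp only [bruhatG_mul_coe] at h1
      have e00 := congrFun (congrFun h1 0) 0
      have e10 := congrFun (congrFun h1 1) 0
      simp only [Matrix.of_apply, Matrix.cons_val', Matrix.cons_val_zero, Matrix.cons_val_one,
        Matrix.cons_val_fin_one] at e00 e10
      rw [hb, hb', sub_zero, sub_zero, ← e10] at e00
      have hne : ((b : Matrix.GeneralLinearGroup (Fin 2) F) : Matrix (Fin 2) (Fin 2) F) 0 0 ≠ 0 := by
        intro h0
        have hdet := gl2_det_ne_zero (b : Matrix.GeneralLinearGroup (Fin 2) F)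
        rw [Matrix.det_fin_two, hb, h0] at hdet
        simp at hdet
      have hs : s = s' := mul_right_cancel₀ hne e00
      subst hs
      have hbb : (b : Matrix.GeneralLinearGroup (Fin 2) F) = b' := mul_left_cancel h
      rw [Subtype.ext hbb]
  · intro x
    by_cases hx : (x : Matrix (Fin 2) (Fin 2) F) 1 0 = 0
    · exact ⟨Sum.inl ⟨x, (mem_upperTriangularGL_two_iff x).2 hx⟩, rfl⟩
    · obtain ⟨s, hs⟩ : ∃ s : F, s * (x : Matrix (Fin 2) (Fin 2) F) 1 0 =
          (x : Matrix (Fin 2) (Fin 2) F) 0 0 := ⟨_, div_mul_cancel₀ _ hx⟩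
      have hmem : (bruhatG s)⁻¹ * x ∈ Cfsg.upperTriangularGL 2 F := by
        rw [mem_upperTriangularGL_two_iff, bruhatG_inv_mul_coe]
        simp only [Matrix.of_apply, Matrix.cons_val', Matrix.cons_val_zero, Matrix.cons_val_one,
          Matrix.cons_val_fin_one]
        rw [hs]; ring
      refine ⟨Sum.inr (s, ⟨(bruhatG s)⁻¹ * x, hmem⟩), ?_⟩
      simp only [bruhatMapG]
      group

/-- Summation over `GL₂` via the Bruhat decomposition. -/
theorem sum_bruhatG [Fintype F] [DecidableEq F] [Fintype (Cfsg.upperTriangularGL 2 F)]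
    (Φ : Matrix.GeneralLinearGroup (Fin 2) F → ℂ) :
    ∑ x : Matrix.GeneralLinearGroup (Fin 2) F, Φ x =
      ∑ b : Cfsg.upperTriangularGL 2 F, Φ b +
        ∑ s : F, ∑ b : Cfsg.upperTriangularGL 2 F, Φ (bruhatG s * b) := by
  rw [← (Equiv.ofBijective _ (bruhatMapG_bijective (F := F))).sum_comp, Fintype.sum_sum_type,
    Fintype.sum_prod_type]
  rfl

/-- The induced function from the Borel subgroup of `GL₂` as a sum over the projective line. -/
theorem indFun_borelGL [Fintype F] [DecidableEq F] (θ : Cfsg.upperTriangularGL 2 F → ℂ)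
    (hθ : ∀ b y : Cfsg.upperTriangularGL 2 F, θ (b⁻¹ * y * b) = θ y)
    (g : Matrix.GeneralLinearGroup (Fin 2) F) :
    Cfsg.indFun (Cfsg.upperTriangularGL 2 F) θ g =
      Cfsg.extendByZero (Cfsg.upperTriangularGL 2 F) θ g +
      ∑ s : F, Cfsg.extendByZero (Cfsg.upperTriangularGL 2 F) θ ((bruhatG s)⁻¹ * g * bruhatG s) := by
  classical
  have : Fintype (Cfsg.upperTriangularGL 2 F) := Fintype.ofFinite _
  rw [indFun_def, sum_bruhatG]
  have h1 : ∀ b : Cfsg.upperTriangularGL 2 F, Cfsg.extendByZero (Cfsg.upperTriangularGL 2 F) θ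
      ((b : Matrix.GeneralLinearGroup (Fin 2) F)⁻¹ * g * b) =
        Cfsg.extendByZero (Cfsg.upperTriangularGL 2 F) θ g :=
    fun b => ebz_conj_of_mem _ θ hθ b b.2 g
  have h2 : ∀ (s : F) (b : Cfsg.upperTriangularGL 2 F),
      Cfsg.extendByZero (Cfsg.upperTriangularGL 2 F) θ
      ((bruhatG s * (b : Matrix.GeneralLinearGroup (Fin 2) F))⁻¹ * g * (bruhatG s * b)) =
        Cfsg.extendByZero (Cfsg.upperTriangularGL 2 F) θ ((bruhatG s)⁻¹ * g * bruhatG s) := by
    intro s b
    have := ebz_conj_of_mem _ θ hθ b b.2 ((bruhatG s)⁻¹ * g * bruhatG s)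
    rw [← this]
    congr 1
    group
  simp only [h1, h2, Finset.sum_const, Finset.card_univ, nsmul_eq_mul]
  rw [← Finset.mul_sum, ← mul_add, ← mul_assoc, Nat.card_eq_fintype_card]
  have hne : (Fintype.card (Cfsg.upperTriangularGL 2 F) : ℂ) ≠ 0 := by
    exact_mod_cast Fintype.card_ne_zero
  rw [inv_mul_cancel₀ hne, one_mul]

/-- The conjugate of `g` by a Bruhat representative. -/
theorem bruhatG_conj_coe (s : F) (g : Matrix.GeneralLinearGroup (Fin 2) F) :
    (((bruhatG s)⁻¹ * g * bruhatG s : Matrix.GeneralLinearGroup (Fin 2) F) :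
      Matrix (Fin 2) (Fin 2) F) =
      !![(g : Matrix (Fin 2) (Fin 2) F) 1 0 * s + (g : Matrix (Fin 2) (Fin 2) F) 1 1,
        -(g : Matrix (Fin 2) (Fin 2) F) 1 0;
        (g : Matrix (Fin 2) (Fin 2) F) 1 0 * s ^ 2 +
          ((g : Matrix (Fin 2) (Fin 2) F) 1 1 - (g : Matrix (Fin 2) (Fin 2) F) 0 0) * s -
          (g : Matrix (Fin 2) (Fin 2) F) 0 1,
        (g : Matrix (Fin 2) (Fin 2) F) 0 0 - s * (g : Matrix (Fin 2) (Fin 2) F) 1 0] := by
  rw [Units.val_mul, bruhatG_inv_mul_coe, bruhatG_coe]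
  ext i j
  fin_cases i <;> fin_cases j <;> simp [Matrix.mul_apply, Fin.sum_univ_two] <;> ring

end Cfsg.Agent.Helper12
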