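import Mathlib
import Cfsg.Agent.Helper12.SL2Borel

set_option autoImplicit false

open scoped ComplexConjugate

namespace Cfsg.Agent.Helper12

open Cfsg.Agent.Helper8

variable {F : Type*} [Field F]

/-- The linear character `b ↦ α(b₁₁)` of the Borel subgroup of `SL₂`. -/
noncomputable def borelChar (α : MulChar F ℂ) : borelSL F → ℂ :=
  fun b => α (((b : Matrix.SpecialLinearGroup (Fin 2) F) : Matrix (Fin 2) (Fin 2) F) 0 0)

theorem borelSL_mul_apply_zero_zero (b y : borelSL F) :
    (((b * y : borelSL F) : Matrix.SpecialLinearGroup (Fin 2) F) : Matrix (Fin 2) (Fin 2) F) 0 0 =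
      ((b : Matrix.SpecialLinearGroup (Fin 2) F) : Matrix (Fin 2) (Fin 2) F) 0 0 *
        ((y : Matrix.SpecialLinearGroup (Fin 2) F) : Matrix (Fin 2) (Fin 2) F) 0 0 := by
  have hy := (mem_borelSL_iff _).1 y.2
  rw [Subgroup.coe_mul, Matrix.SpecialLinearGroup.coe_mul, Matrix.mul_apply, Fin.sum_univ_two, hy,
    mul_zero, add_zero]

theorem borelChar_mul (α : MulChar F ℂ) (b y : borelSL F) :
    borelChar α (b * y) = borelChar α b * borelChar α y := by
  simp only [borelChar, borelSL_mul_apply_zero_zero, map_mul]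

theorem borelChar_one (α : MulChar F ℂ) : borelChar α (1 : borelSL F) = 1 := by
  simp [borelChar]

theorem borelChar_conj (α : MulChar F ℂ) (b y : borelSL F) :
    borelChar α (b⁻¹ * y * b) = borelChar α y := by
  rw [borelChar_mul, borelChar_mul, mul_comm (borelChar α b⁻¹), mul_assoc, ← borelChar_mul,
    inv_mul_cancel, borelChar_one, mul_one]

theorem ebz_borelChar (α : MulChar F ℂ) [DecidableEq F] (y : Matrix.SpecialLinearGroup (Fin 2) F) :
    Cfsg.extendByZero (borelSL F) (borelChar α) y =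
      if (y : Matrix (Fin 2) (Fin 2) F) 1 0 = 0 then α ((y : Matrix (Fin 2) (Fin 2) F) 0 0) else 0 := by
  by_cases hy : (y : Matrix (Fin 2) (Fin 2) F) 1 0 = 0
  · rw [if_pos hy, ebz_mem _ _ ((mem_borelSL_iff y).2 hy)]
    rfl
  · rw [if_neg hy, ebz_not_mem _ _ (fun h => hy ((mem_borelSL_iff y).1 h))]

/-- Explicit formula for the principal series function of `SL₂`. -/
theorem indFun_borelChar [Fintype F] [DecidableEq F] (α : MulChar F ℂ)
    (g : Matrix.SpecialLinearGroup (Fin 2) F) :
    Cfsg.indFun (borelSL F) (borelChar α) g =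
      (if (g : Matrix (Fin 2) (Fin 2) F) 1 0 = 0 then α ((g : Matrix (Fin 2) (Fin 2) F) 0 0) else 0) +
      ∑ s : F, (if (g : Matrix (Fin 2) (Fin 2) F) 1 0 * s ^ 2 +
          ((g : Matrix (Fin 2) (Fin 2) F) 1 1 - (g : Matrix (Fin 2) (Fin 2) F) 0 0) * s -
          (g : Matrix (Fin 2) (Fin 2) F) 0 1 = 0 then
        α ((g : Matrix (Fin 2) (Fin 2) F) 1 0 * s + (g : Matrix (Fin 2) (Fin 2) F) 1 1) else 0) := by
  rw [indFun_borelSL _ (borelChar_conj α), ebz_borelChar]
  congr 1
  apply Finset.sum_congr rfl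
  intro s _
  rw [ebz_borelChar, bruhatM_conj_coe]
  simp only [Matrix.of_apply, Matrix.cons_val', Matrix.cons_val_zero, Matrix.cons_val_one,
    Matrix.cons_val_fin_one]

end Cfsg.Agent.Helper12
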