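import Mathlib
import Cfsg.Agent.Helper12.SL2Principal

set_option autoImplicit false

open scoped ComplexConjugate

namespace Cfsg.Agent.Helper12

open Cfsg.Agent.Helper8

variable {F : Type*} [Field F]

/-- Summation over units of a function vanishing at zero. -/
theorem sum_units_eq_sum [Fintype F] [DecidableEq F] (G : F → ℂ) (h0 : G 0 = 0) :
    ∑ u : Fˣ, G u = ∑ a : F, G a := by
  rw [← Fintype.sum_subtype_add_sum_subtype (fun a : F => a ≠ 0) G]
  have h1 : ∑ a : {a : F // ¬ a ≠ 0}, G a = 0 := by
    apply Finset.sum_eq_zero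
    intro a _
    have : (a : F) = 0 := not_not.1 a.2
    rw [this, h0]
  rw [h1, add_zero]
  exact Fintype.sum_equiv unitsEquivNeZero _ _ (fun u => rfl)

/-- Sum of the values of a multiplicative character. -/
theorem mulChar_sum [Fintype F] [DecidableEq F] (χ : MulChar F ℂ) [Decidable (χ = 1)] :
    ∑ a : F, χ a = if χ = 1 then ((Fintype.card F : ℂ) - 1) else 0 := by
  split_ifs with h
  · rw [h, MulChar.sum_one_eq_card_units, Fintype.card_units]
    have : 1 ≤ Fintype.card F := Fintype.card_pos
    push_cast [Nat.cast_sub this]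
    ring
  · exact MulChar.sum_eq_zero_of_ne_one h

/-- Elements of the Borel subgroup of `SL₂`. -/
def borelMkSL (u : Fˣ) (r : F) : Matrix.SpecialLinearGroup (Fin 2) F :=
  ⟨!![(u : F), r; 0, ((u⁻¹ : Fˣ) : F)], by simp [Matrix.det_fin_two_of]⟩

/-- Elements of the Borel subgroup of `SL₂`. -/
def borelMk (u : Fˣ) (r : F) : borelSL F :=
  ⟨borelMkSL u r, (mem_borelSL_iff _).2 rfl⟩

theorem borelMk_coe (u : Fˣ) (r : F) :
    ((borelMk u r : Matrix.SpecialLinearGroup (Fin 2) F) : Matrix (Fin 2) (Fin 2) F) =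
      !![(u : F), r; 0, ((u⁻¹ : Fˣ) : F)] := rfl

theorem borelMk_bijective : Function.Bijective (fun p : Fˣ × F => borelMk p.1 p.2) := by
  constructor
  · rintro ⟨u, r⟩ ⟨u', r'⟩ h
    have h1 := congrArg (fun b : borelSL F =>
      ((b : Matrix.SpecialLinearGroup (Fin 2) F) : Matrix (Fin 2) (Fin 2) F)) h
    simp only [borelMk_coe] at h1
    have e00 := congrFun (congrFun h1 0) 0
    have e01 := congrFun (congrFun h1 0) 1
    simp at e00 e01
    exact Prod.ext (Units.ext e00) e01
  · intro b
    have hb := (mem_borelSL_iff _).1 b.2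
    have hdet := (b : Matrix.SpecialLinearGroup (Fin 2) F).2
    rw [Matrix.det_fin_two, hb, mul_zero, sub_zero] at hdet
    refine ⟨(Units.mkOfMulEqOne _ _ hdet, ((b : Matrix.SpecialLinearGroup (Fin 2) F) :
      Matrix (Fin 2) (Fin 2) F) 0 1), ?_⟩
    apply Subtype.ext
    apply Subtype.ext
    rw [borelMk_coe]
    ext i j
    fin_cases i <;> fin_cases j
    · simp
    · simp
    · simp [hb]
    · simp
      exact inv_eq_of_mul_eq_one_right hdet

theorem card_borelSL [Fintype F] [DecidableEq F] :
    Nat.card (borelSL F) = (Fintype.card F - 1) * Fintype.card F := by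
  rw [← Nat.card_eq_of_bijective _ (borelMk_bijective (F := F)), Nat.card_prod,
    Nat.card_eq_fintype_card, Nat.card_eq_fintype_card, Fintype.card_units]

theorem sum_borelSL [Fintype F] [DecidableEq F] [Fintype (borelSL F)] (Φ : borelSL F → ℂ) :
    ∑ b : borelSL F, Φ b = ∑ u : Fˣ, ∑ r : F, Φ (borelMk u r) := by
  rw [← (Equiv.ofBijective _ (borelMk_bijective (F := F))).sum_comp, Fintype.sum_prod_type]
  rfl

/-- Value of a principal series function on the Borel subgroup. -/
theorem indFun_borelChar_borelMk [Fintype F] [DecidableEq F] (β : MulChar F ℂ) (u : Fˣ) (r : F) :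
    Cfsg.indFun (borelSL F) (borelChar β) (borelMk u r : Matrix.SpecialLinearGroup (Fin 2) F) =
      β (u : F) + ∑ s : F, (if r = (((u⁻¹ : Fˣ) : F) - (u : F)) * s then β ((u⁻¹ : Fˣ) : F) else 0) := by
  rw [indFun_borelChar, borelMk_coe]
  simp only [Matrix.of_apply, Matrix.cons_val', Matrix.cons_val_zero, Matrix.cons_val_one,
    Matrix.cons_val_fin_one, if_true, zero_mul, zero_add]
  congr 1
  apply Finset.sum_congr rfl
  intro s _
  have : ((((u⁻¹ : Fˣ) : F) - (u : F)) * s - r = 0) ↔ (r = (((u⁻¹ : Fˣ) : F) - (u : F)) * s) := by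
    rw [sub_eq_zero]; exact eq_comm
  simp only [this]

/-- The Mackey formula for the principal series of `SL₂`. -/
theorem classInner_indFun_borelChar [Fintype F] [DecidableEq F] (α β : MulChar F ℂ)
    [Decidable (α = β)] [Decidable (α = β⁻¹)] :
    Cfsg.classInner (Cfsg.indFun (borelSL F) (borelChar α)) (Cfsg.indFun (borelSL F) (borelChar β)) =
      (if α = β then 1 else 0) + (if α = β⁻¹ then 1 else 0) := by
  classical
  have : Fintype (borelSL F) := Fintype.ofFinite _
  rw [frobenius_reciprocity _ _ _ (indFun_isClassFunction _ _)]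
  unfold Cfsg.classInner
  rw [sum_borelSL, card_borelSL]
  have hq : (Fintype.card F : ℂ) ≠ 0 := by exact_mod_cast Fintype.card_ne_zero
  have hq1 : ((Fintype.card F : ℂ) - 1) ≠ 0 := by
    have : 1 < Fintype.card F := Fintype.one_lt_card
    intro h
    have h' : (Fintype.card F : ℂ) = 1 := by linear_combination h
    have : Fintype.card F = 1 := by exact_mod_cast h'
    omega
  -- inner sum over r
  have hinner : ∀ u : Fˣ, ∑ r : F, borelChar α (borelMk u r) *
      conj (Cfsg.indFun (borelSL F) (borelChar β) (borelMk u r : Matrix.SpecialLinearGroup (Fin 2) F)) =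
      (Fintype.card F : ℂ) * ((α * β⁻¹) (u : F) + (α * β) (u : F)) := by
    intro u
    have h1 : ∀ r : F, borelChar α (borelMk u r) = α (u : F) := by
      intro r
      simp [borelChar, borelMk_coe]
    simp only [h1, indFun_borelChar_borelMk, map_add, map_sum]
    rw [← Finset.mul_sum, Finset.sum_add_distrib, Finset.sum_const, Finset.card_univ, nsmul_eq_mul,
      Finset.sum_comm]
    have h2 : ∀ s : F, ∑ r : F, conj (if r = (((u⁻¹ : Fˣ) : F) - (u : F)) * s then
        β ((u⁻¹ : Fˣ) : F) else 0) = conj (β ((u⁻¹ : Fˣ) : F)) := by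
      intro s
      simp only [apply_ite conj, map_zero]
      rw [Finset.sum_ite_eq' Finset.univ]
      simp
    simp only [h2, Finset.sum_const, Finset.card_univ, nsmul_eq_mul]
    have h3 : conj (β (u : F)) = β⁻¹ (u : F) := MulChar.star_apply' β _
    have h4 : conj (β ((u⁻¹ : Fˣ) : F)) = β (u : F) := by
      refine (MulChar.star_apply' β ((u⁻¹ : Fˣ) : F)).trans ?_
      rw [MulChar.inv_apply', Units.val_inv_eq_inv_val, inv_inv]
    rw [h3, h4, MulChar.mul_apply, MulChar.mul_apply]
    ring
  simp only [hinner]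
  rw [← Finset.mul_sum, Finset.sum_add_distrib]
  rw [sum_units_eq_sum (fun a => (α * β⁻¹) a) (MulChar.map_zero _),
    sum_units_eq_sum (fun a => (α * β) a) (MulChar.map_zero _), mulChar_sum, mulChar_sum]
  have e1 : (α * β⁻¹ = 1) ↔ α = β := mul_inv_eq_one
  have e2 : (α * β = 1) ↔ α = β⁻¹ := mul_eq_one_iff_eq_inv
  simp only [e1, e2]
  have hcard : 1 ≤ Fintype.card F := Fintype.card_pos
  push_cast [Nat.cast_sub hcard]
  split_ifs <;> field_simp <;> ring

end Cfsg.Agent.Helper12
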