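import Mathlib
import Cfsg.Agent.Helper12.GL2Borel
import Cfsg.Agent.Helper12.SL2Mackey

set_option autoImplicit false

open scoped ComplexConjugate

namespace Cfsg.Agent.Helper12

open Cfsg.Agent.Helper8

variable {F : Type*} [Field F]

/-- The linear character `b ↦ α(b₁₁) β(b₂₂)` of the Borel subgroup of `GL₂`. -/
noncomputable def borelCharG (α β : MulChar F ℂ) : Cfsg.upperTriangularGL 2 F → ℂ :=
  fun b => α (((b : Matrix.GeneralLinearGroup (Fin 2) F) : Matrix (Fin 2) (Fin 2) F) 0 0) *
    β (((b : Matrix.GeneralLinearGroup (Fin 2) F) : Matrix (Fin 2) (Fin 2) F) 1 1)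

theorem borelGL_mul_apply_zero_zero (b y : Cfsg.upperTriangularGL 2 F) :
    (((b * y : Cfsg.upperTriangularGL 2 F) : Matrix.GeneralLinearGroup (Fin 2) F) :
      Matrix (Fin 2) (Fin 2) F) 0 0 =
      ((b : Matrix.GeneralLinearGroup (Fin 2) F) : Matrix (Fin 2) (Fin 2) F) 0 0 *
        ((y : Matrix.GeneralLinearGroup (Fin 2) F) : Matrix (Fin 2) (Fin 2) F) 0 0 := by
  have hy := (mem_upperTriangularGL_two_iff _).1 y.2
  rw [Subgroup.coe_mul, Units.val_mul, Matrix.mul_apply, Fin.sum_univ_two, hy, mul_zero, add_zero]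

theorem borelGL_mul_apply_one_one (b y : Cfsg.upperTriangularGL 2 F) :
    (((b * y : Cfsg.upperTriangularGL 2 F) : Matrix.GeneralLinearGroup (Fin 2) F) :
      Matrix (Fin 2) (Fin 2) F) 1 1 =
      ((b : Matrix.GeneralLinearGroup (Fin 2) F) : Matrix (Fin 2) (Fin 2) F) 1 1 *
        ((y : Matrix.GeneralLinearGroup (Fin 2) F) : Matrix (Fin 2) (Fin 2) F) 1 1 := by
  have hb := (mem_upperTriangularGL_two_iff _).1 b.2
  rw [Subgroup.coe_mul, Units.val_mul, Matrix.mul_apply, Fin.sum_univ_two, hb, zero_mul, zero_add]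

theorem borelCharG_mul (α β : MulChar F ℂ) (b y : Cfsg.upperTriangularGL 2 F) :
    borelCharG α β (b * y) = borelCharG α β b * borelCharG α β y := by
  simp only [borelCharG, borelGL_mul_apply_zero_zero, borelGL_mul_apply_one_one, map_mul]
  ring

theorem borelCharG_one (α β : MulChar F ℂ) : borelCharG α β (1 : Cfsg.upperTriangularGL 2 F) = 1 := by
  simp [borelCharG]

theorem borelCharG_conj (α β : MulChar F ℂ) (b y : Cfsg.upperTriangularGL 2 F) :
    borelCharG α β (b⁻¹ * y * b) = borelCharG α β y := by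
  rw [borelCharG_mul, borelCharG_mul, mul_comm (borelCharG α β b⁻¹), mul_assoc, ← borelCharG_mul,
    inv_mul_cancel, borelCharG_one, mul_one]

/-- The Borel character as a monoid homomorphism. -/
noncomputable def borelCharGHom (α β : MulChar F ℂ) : Cfsg.upperTriangularGL 2 F →* ℂ where
  toFun := borelCharG α β
  map_one' := borelCharG_one α β
  map_mul' := borelCharG_mul α β

theorem ebz_borelCharG (α β : MulChar F ℂ) [DecidableEq F] (y : Matrix.GeneralLinearGroup (Fin 2) F) :
    Cfsg.extendByZero (Cfsg.upperTriangularGL 2 F) (borelCharG α β) y =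
      if (y : Matrix (Fin 2) (Fin 2) F) 1 0 = 0 then
        α ((y : Matrix (Fin 2) (Fin 2) F) 0 0) * β ((y : Matrix (Fin 2) (Fin 2) F) 1 1) else 0 := by
  by_cases hy : (y : Matrix (Fin 2) (Fin 2) F) 1 0 = 0
  · rw [if_pos hy, ebz_mem _ _ ((mem_upperTriangularGL_two_iff y).2 hy)]
    rfl
  · rw [if_neg hy, ebz_not_mem _ _ (fun h => hy ((mem_upperTriangularGL_two_iff y).1 h))]

/-- Explicit formula for the principal series function of `GL₂`. -/
theorem indFun_borelCharG [Fintype F] [DecidableEq F] (α β : MulChar F ℂ)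
    (g : Matrix.GeneralLinearGroup (Fin 2) F) :
    Cfsg.indFun (Cfsg.upperTriangularGL 2 F) (borelCharG α β) g =
      (if (g : Matrix (Fin 2) (Fin 2) F) 1 0 = 0 then
        α ((g : Matrix (Fin 2) (Fin 2) F) 0 0) * β ((g : Matrix (Fin 2) (Fin 2) F) 1 1) else 0) +
      ∑ s : F, (if (g : Matrix (Fin 2) (Fin 2) F) 1 0 * s ^ 2 +
          ((g : Matrix (Fin 2) (Fin 2) F) 1 1 - (g : Matrix (Fin 2) (Fin 2) F) 0 0) * s -
          (g : Matrix (Fin 2) (Fin 2) F) 0 1 = 0 then
        α ((g : Matrix (Fin 2) (Fin 2) F) 1 0 * s + (g : Matrix (Fin 2) (Fin 2) F) 1 1) *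
          β ((g : Matrix (Fin 2) (Fin 2) F) 0 0 - s * (g : Matrix (Fin 2) (Fin 2) F) 1 0) else 0) := by
  rw [indFun_borelGL _ (borelCharG_conj α β), ebz_borelCharG]
  congr 1
  apply Finset.sum_congr rfl
  intro s _
  rw [ebz_borelCharG, bruhatG_conj_coe]
  simp only [Matrix.of_apply, Matrix.cons_val', Matrix.cons_val_zero, Matrix.cons_val_one,
    Matrix.cons_val_fin_one]

/-- Elements of the Borel subgroup of `GL₂`. -/
def borelMkGL (u v : Fˣ) (r : F) : Matrix.GeneralLinearGroup (Fin 2) F :=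
  Matrix.GeneralLinearGroup.mkOfDetNeZero !![(u : F), r; 0, (v : F)] (by
    simp [Matrix.det_fin_two_of])

theorem borelMkGL_coe (u v : Fˣ) (r : F) :
    (borelMkGL u v r : Matrix (Fin 2) (Fin 2) F) = !![(u : F), r; 0, (v : F)] := rfl

def borelMkG (u v : Fˣ) (r : F) : Cfsg.upperTriangularGL 2 F :=
  ⟨borelMkGL u v r, (mem_upperTriangularGL_two_iff _).2 rfl⟩

theorem borelMkG_coe (u v : Fˣ) (r : F) :
    ((borelMkG u v r : Matrix.GeneralLinearGroup (Fin 2) F) : Matrix (Fin 2) (Fin 2) F) =
      !![(u : F), r; 0, (v : F)] := rfl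

theorem borelMkG_bijective : Function.Bijective (fun p : Fˣ × Fˣ × F => borelMkG p.1 p.2.1 p.2.2) := by
  constructor
  · rintro ⟨u, v, r⟩ ⟨u', v', r'⟩ h
    have h1 := congrArg (fun b : Cfsg.upperTriangularGL 2 F =>
      ((b : Matrix.GeneralLinearGroup (Fin 2) F) : Matrix (Fin 2) (Fin 2) F)) h
    simp only [borelMkG_coe] at h1
    have e00 := congrFun (congrFun h1 0) 0
    have e01 := congrFun (congrFun h1 0) 1
    have e11 := congrFun (congrFun h1 1) 1
    simp at e00 e01 e11
    rw [Units.ext e00, Units.ext e11, e01]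
  · intro b
    have hb := (mem_upperTriangularGL_two_iff _).1 b.2
    have hdet := gl2_det_ne_zero (b : Matrix.GeneralLinearGroup (Fin 2) F)
    rw [Matrix.det_fin_two, hb, mul_zero, sub_zero] at hdet
    have h0 := left_ne_zero_of_mul hdet
    have h1 := right_ne_zero_of_mul hdet
    refine ⟨(Units.mk0 _ h0, Units.mk0 _ h1, ((b : Matrix.GeneralLinearGroup (Fin 2) F) :
      Matrix (Fin 2) (Fin 2) F) 0 1), ?_⟩
    apply Subtype.ext
    apply Units.ext
    rw [borelMkG_coe]
    ext i j
    fin_cases i <;> fin_cases j <;> simp [hb]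

theorem card_borelGL [Fintype F] [DecidableEq F] :
    Nat.card (Cfsg.upperTriangularGL 2 F) =
      (Fintype.card F - 1) * ((Fintype.card F - 1) * Fintype.card F) := by
  rw [← Nat.card_eq_of_bijective _ (borelMkG_bijective (F := F)), Nat.card_prod, Nat.card_prod,
    Nat.card_eq_fintype_card, Nat.card_eq_fintype_card, Fintype.card_units]

theorem sum_borelGL [Fintype F] [DecidableEq F] [Fintype (Cfsg.upperTriangularGL 2 F)]
    (Φ : Cfsg.upperTriangularGL 2 F → ℂ) :
    ∑ b : Cfsg.upperTriangularGL 2 F, Φ b = ∑ u : Fˣ, ∑ v : Fˣ, ∑ r : F, Φ (borelMkG u v r) := by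
  rw [← (Equiv.ofBijective _ (borelMkG_bijective (F := F))).sum_comp, Fintype.sum_prod_type]
  apply Finset.sum_congr rfl
  intro u _
  rw [Fintype.sum_prod_type]
  rfl

/-- Value of a principal series function on the Borel subgroup. -/
theorem indFun_borelCharG_borelMkG [Fintype F] [DecidableEq F] (α β : MulChar F ℂ) (u v : Fˣ) (r : F) :
    Cfsg.indFun (Cfsg.upperTriangularGL 2 F) (borelCharG α β)
      (borelMkG u v r : Matrix.GeneralLinearGroup (Fin 2) F) =
      α (u : F) * β (v : F) +
        ∑ s : F, (if r = ((v : F) - (u : F)) * s then α (v : F) * β (u : F) else 0) := by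
  rw [indFun_borelCharG, borelMkG_coe]
  simp only [Matrix.of_apply, Matrix.cons_val', Matrix.cons_val_zero, Matrix.cons_val_one,
    Matrix.cons_val_fin_one, if_true, zero_mul, zero_add, mul_zero, sub_zero]
  congr 1
  apply Finset.sum_congr rfl
  intro s _
  have : (((v : F) - (u : F)) * s - r = 0) ↔ (r = ((v : F) - (u : F)) * s) := by
    rw [sub_eq_zero]; exact eq_comm
  simp only [this]

/-- The Mackey formula for the principal series of `GL₂`. -/
theorem classInner_indFun_borelCharG [Fintype F] [DecidableEq F] (α β α' β' : MulChar F ℂ)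
    [Decidable (α = α')] [Decidable (β = β')] [Decidable (α = β')] [Decidable (β = α')] :
    Cfsg.classInner (Cfsg.indFun (Cfsg.upperTriangularGL 2 F) (borelCharG α β))
      (Cfsg.indFun (Cfsg.upperTriangularGL 2 F) (borelCharG α' β')) =
      (if α = α' then 1 else 0) * (if β = β' then 1 else 0) +
        (if α = β' then 1 else 0) * (if β = α' then 1 else 0) := by
  classical
  have : Fintype (Cfsg.upperTriangularGL 2 F) := Fintype.ofFinite _
  rw [frobenius_reciprocity _ _ _ (indFun_isClassFunction _ _)]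
  unfold Cfsg.classInner
  rw [sum_borelGL, card_borelGL]
  have hq : (Fintype.card F : ℂ) ≠ 0 := by exact_mod_cast Fintype.card_ne_zero
  have hq1 : ((Fintype.card F : ℂ) - 1) ≠ 0 := by
    have : 1 < Fintype.card F := Fintype.one_lt_card
    intro h
    have h' : (Fintype.card F : ℂ) = 1 := by linear_combination h
    have : Fintype.card F = 1 := by exact_mod_cast h'
    omega
  have hconj : ∀ (χ : MulChar F ℂ) (a : F), conj (χ a) = χ⁻¹ a := fun χ a => MulChar.star_apply' χ a
  -- inner sum over r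
  have hinner : ∀ u v : Fˣ, ∑ r : F, borelCharG α β (borelMkG u v r) *
      conj (Cfsg.indFun (Cfsg.upperTriangularGL 2 F) (borelCharG α' β')
        (borelMkG u v r : Matrix.GeneralLinearGroup (Fin 2) F)) =
      (Fintype.card F : ℂ) * ((α * α'⁻¹) (u : F) * (β * β'⁻¹) (v : F) +
        (α * β'⁻¹) (u : F) * (β * α'⁻¹) (v : F)) := by
    intro u v
    have h1 : ∀ r : F, borelCharG α β (borelMkG u v r) = α (u : F) * β (v : F) := by
      intro r
      simp [borelCharG, borelMkG_coe]
    simp only [h1, indFun_borelCharG_borelMkG, map_add, map_sum]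
    rw [← Finset.mul_sum, Finset.sum_add_distrib, Finset.sum_const, Finset.card_univ, nsmul_eq_mul,
      Finset.sum_comm]
    have h2 : ∀ s : F, ∑ r : F, conj (if r = ((v : F) - (u : F)) * s then
        α' (v : F) * β' (u : F) else 0) = conj (α' (v : F) * β' (u : F)) := by
      intro s
      simp only [apply_ite conj, map_zero]
      rw [Finset.sum_ite_eq' Finset.univ]
      simp
    simp only [h2, Finset.sum_const, Finset.card_univ, nsmul_eq_mul, map_mul, hconj,
      MulChar.mul_apply]
    ring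
  simp only [hinner]
  simp only [← Finset.mul_sum, mul_add, Finset.sum_add_distrib]
  simp only [← Finset.sum_mul]
  rw [sum_units_eq_sum (fun a => (α * α'⁻¹) a) (MulChar.map_zero _),
    sum_units_eq_sum (fun a => (β * β'⁻¹) a) (MulChar.map_zero _),
    sum_units_eq_sum (fun a => (α * β'⁻¹) a) (MulChar.map_zero _),
    sum_units_eq_sum (fun a => (β * α'⁻¹) a) (MulChar.map_zero _),
    mulChar_sum, mulChar_sum, mulChar_sum, mulChar_sum]
  have e1 : ∀ χ ψ : MulChar F ℂ, (χ * ψ⁻¹ = 1) ↔ χ = ψ := fun χ ψ => mul_inv_eq_one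
  simp only [e1]
  have hcard : 1 ≤ Fintype.card F := Fintype.card_pos
  push_cast [Nat.cast_sub hcard]
  split_ifs <;> field_simp <;> ring

end Cfsg.Agent.Helper12
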