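import Mathlib

set_option autoImplicit false

namespace Cfsg.Agent.Helper12

variable {F : Type*} [Field F]

theorem card_mulChar [Fintype F] : Nat.card (MulChar F ℂ) = Fintype.card F - 1 := by
  classical
  rw [MulChar.card_eq_card_units_of_hasEnoughRootsOfUnity, Nat.card_eq_fintype_card,
    Fintype.card_units]

/-- Dual orthogonality for multiplicative characters of a finite field. -/
theorem sum_mulChar_apply [Fintype F] [DecidableEq F] [Fintype (MulChar F ℂ)] (a : F) :
    ∑ χ : MulChar F ℂ, χ a = if a = 1 then ((Fintype.card F : ℂ) - 1) else 0 := by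
  split_ifs with ha
  · subst ha
    simp only [map_one, Finset.sum_const, Finset.card_univ, nsmul_eq_mul, mul_one]
    rw [← Nat.card_eq_fintype_card, card_mulChar]
    have : 1 ≤ Fintype.card F := Fintype.card_pos
    push_cast [Nat.cast_sub this]
    ring
  · obtain ⟨χ₀, hχ₀⟩ := MulChar.exists_apply_ne_one_of_hasEnoughRootsOfUnity F ℂ ha
    refine eq_zero_of_mul_eq_self_left hχ₀ ?_
    simp only [Finset.mul_sum, ← MulChar.mul_apply]
    exact Fintype.sum_bijective _ (Group.mulLeft_bijective χ₀) _ _ fun χ' ↦ rfl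

/-- Orthogonality in the form with a conjugate. -/
theorem sum_mulChar_conj_mul [Fintype F] [DecidableEq F] [Fintype (MulChar F ℂ)] (a b : F)
    (ha : a ≠ 0) :
    ∑ χ : MulChar F ℂ, (starRingEnd ℂ) (χ a) * χ b =
      if a = b then ((Fintype.card F : ℂ) - 1) else 0 := by
  have h1 : ∀ χ : MulChar F ℂ, (starRingEnd ℂ) (χ a) * χ b = χ (a⁻¹ * b) := by
    intro χ
    have : (starRingEnd ℂ) (χ a) = χ⁻¹ a := MulChar.star_apply' χ a
    rw [this, MulChar.inv_apply', ← map_mul]
  simp only [h1]
  rw [sum_mulChar_apply]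
  have : (a⁻¹ * b = 1) ↔ a = b := by
    constructor
    · intro h
      have := congrArg (fun z => a * z) h
      simpa [← mul_assoc, mul_inv_cancel₀ ha] using this.symm
    · intro h
      rw [← h, inv_mul_cancel₀ ha]
  simp only [this]

end Cfsg.Agent.Helper12
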