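import Mathlib
import Cfsg.Prelude.Def_Characters
import Cfsg.Agent.Helper24.Expansion

set_option autoImplicit false

namespace Cfsg.Agent.Helper12

open Cfsg Cfsg.Agent.Helper24

universe u

/-- A character of norm `2` is the sum of two distinct irreducible characters. -/
theorem exists_two_irr_of_norm_two {G : Type u} [Group G] [Fintype G] {χ : G → ℂ}
    (hχ : IsCharacter G χ) (h2 : classInner χ χ = 2) :
    ∃ χ₁ χ₂ : IrrCharacter G, χ₁ ≠ χ₂ ∧ χ = (χ₁ : G → ℂ) + (χ₂ : G → ℂ) := by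
  classical
  have : Fintype (IrrCharacter G) := Fintype.ofFinite _
  obtain ⟨n, hn⟩ := IsCharacter.exists_nat_coeff hχ
  have hnorm : classInner χ χ = ((∑ ψ : IrrCharacter G, n ψ * n ψ : ℕ) : ℂ) := by
    conv_lhs => rw [hn]
    rw [classInner_sum_left]
    simp_rw [classInner_smul_left, classInner_irr_sum]
    push_cast
    simp
  rw [h2] at hnorm
  have hsum : ∑ ψ : IrrCharacter G, n ψ * n ψ = 2 := by exact_mod_cast hnorm.symm
  have hle : ∀ ψ : IrrCharacter G, n ψ ≤ 1 := by
    intro ψ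
    by_contra hgt
    push Not at hgt
    have h1 : n ψ * n ψ ≤ ∑ φ : IrrCharacter G, n φ * n φ :=
      Finset.single_le_sum (f := fun φ => n φ * n φ) (fun _ _ => Nat.zero_le _) (Finset.mem_univ ψ)
    have h2' : 4 ≤ n ψ * n ψ := by nlinarith
    omega
  have hsq : ∀ ψ : IrrCharacter G, n ψ * n ψ = n ψ := by
    intro ψ
    have := hle ψ
    interval_cases (n ψ) <;> simp
  simp_rw [hsq] at hsum
  set S : Finset (IrrCharacter G) := Finset.univ.filter (fun ψ => n ψ = 1) with hS
  have hcard : S.card = 2 := by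
    rw [← hsum, Finset.card_eq_sum_ones, Finset.sum_filter]
    apply Finset.sum_congr rfl
    intro ψ _
    have := hle ψ
    interval_cases h : (n ψ) <;> simp
  obtain ⟨χ₁, χ₂, hne, hS2⟩ := Finset.card_eq_two.1 hcard
  refine ⟨χ₁, χ₂, hne, ?_⟩
  have hmem : ∀ ψ : IrrCharacter G, n ψ = if ψ ∈ S then 1 else 0 := by
    intro ψ
    by_cases h : ψ ∈ S
    · rw [if_pos h]; exact (Finset.mem_filter.1 h).2
    · rw [if_neg h]
      have := hle ψ
      have h' : n ψ ≠ 1 := fun h1 => h (Finset.mem_filter.2 ⟨Finset.mem_univ _, h1⟩)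
      omega
  rw [hn]
  simp_rw [hmem]
  have : ∀ ψ : IrrCharacter G, (((if ψ ∈ S then 1 else 0 : ℕ) : ℂ)) • (ψ : G → ℂ) =
      if ψ ∈ S then (ψ : G → ℂ) else 0 := by
    intro ψ
    split_ifs <;> simp
  simp_rw [this]
  rw [← Finset.sum_filter, Finset.filter_mem_eq_inter, Finset.univ_inter, hS2,
    Finset.sum_pair hne]

end Cfsg.Agent.Helper12
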