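import Mathlib
import Cfsg.Agent.Helper12.GL2Mackey
import Cfsg.Agent.Helper12.NormTwo
import Cfsg.Agent.Helper12.MulCharDual
import Cfsg.Agent.Helper24.Induced
import Cfsg.Agent.Helper24.Expansion
import Cfsg.Agent.Helper24.Integrality

set_option autoImplicit false

open scoped ComplexConjugate

namespace Cfsg.Agent.Helper12

open Cfsg Cfsg.Agent.Helper8 Cfsg.Agent.Helper24

variable {F : Type*} [Field F]

/-- The linear character `α ∘ det` of `GL₂`. -/
noncomputable def detCharHom (α : MulChar F ℂ) : Matrix.GeneralLinearGroup (Fin 2) F →* ℂ :=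
  (α.toMonoidHom).comp ((Units.coeHom F).comp Matrix.GeneralLinearGroup.det)

theorem detCharHom_apply (α : MulChar F ℂ) (g : Matrix.GeneralLinearGroup (Fin 2) F) :
    detCharHom α g = α ((g : Matrix (Fin 2) (Fin 2) F).det) := rfl

/-- The principal series function of `GL₂`. -/
noncomputable abbrev psG [Fintype F] [DecidableEq F] (α β : MulChar F ℂ) :
    Matrix.GeneralLinearGroup (Fin 2) F → ℂ :=
  Cfsg.indFun (Cfsg.upperTriangularGL 2 F) (borelCharG α β)

theorem detCharHom_isIrr [Fintype F] [DecidableEq F] (α : MulChar F ℂ) :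
    IsIrrCharacter (Matrix.GeneralLinearGroup (Fin 2) F) (fun g => detCharHom α g) :=
  isIrrCharacter_of_monoidHom (detCharHom α)

theorem psG_isCharacter [Fintype F] [DecidableEq F] (α β : MulChar F ℂ) :
    IsCharacter (Matrix.GeneralLinearGroup (Fin 2) F) (psG α β) :=
  isCharacter_indFun _ (isCharacter_of_monoidHom (borelCharGHom α β))

theorem psG_isIrr [Fintype F] [DecidableEq F] (α β : MulChar F ℂ) (h : α ≠ β) :
    IsIrrCharacter (Matrix.GeneralLinearGroup (Fin 2) F) (psG α β) := by
  classical
  have : Fintype (IrrCharacter (Matrix.GeneralLinearGroup (Fin 2) F)) := Fintype.ofFinite _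
  rw [isIrrCharacter_iff_classInner_self]
  refine ⟨psG_isCharacter α β, ?_⟩
  rw [classInner_indFun_borelCharG, if_pos rfl, if_pos rfl, if_neg h]
  ring

theorem psG_one [Fintype F] [DecidableEq F] (α β : MulChar F ℂ) :
    psG α β 1 = (Fintype.card F : ℂ) + 1 := by
  rw [psG, indFun_borelCharG]
  simp
  ring

/-- Restriction of `α ∘ det` to the Borel subgroup. -/
theorem detCharHom_borel (α : MulChar F ℂ) (b : Cfsg.upperTriangularGL 2 F) :
    detCharHom α (b : Matrix.GeneralLinearGroup (Fin 2) F) = borelCharG α α b := by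
  have hb := (mem_upperTriangularGL_two_iff _).1 b.2
  rw [detCharHom_apply, Matrix.det_fin_two, hb, mul_zero, sub_zero, map_mul]
  rfl

theorem classInner_psG_detChar [Fintype F] [DecidableEq F] (α : MulChar F ℂ) :
    classInner (psG α α) (fun g => detCharHom α g) = 1 := by
  classical
  have : Fintype (Cfsg.upperTriangularGL 2 F) := Fintype.ofFinite _
  have hcf : IsClassFunction _ (fun g => detCharHom α g) :=
    IsCharacter.isClassFunction (IsIrrCharacter.isCharacter (detCharHom_isIrr α))
  rw [psG, frobenius_reciprocity _ _ _ hcf]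
  have h1 : (fun b : Cfsg.upperTriangularGL 2 F =>
      detCharHom α (b : Matrix.GeneralLinearGroup (Fin 2) F)) = borelCharG α α := by
    funext b
    exact detCharHom_borel α b
  rw [h1]
  have hirr : IsIrrCharacter (Cfsg.upperTriangularGL 2 F) (borelCharG α α) :=
    isIrrCharacter_of_monoidHom (borelCharGHom α α)
  rw [classInner_of_isIrrCharacter hirr hirr, if_pos rfl]

/-- The decomposition of the reducible principal series. -/
theorem exists_steinberg [Fintype F] [DecidableEq F] (α : MulChar F ℂ) :
    ∃ σ : IrrCharacter (Matrix.GeneralLinearGroup (Fin 2) F),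
      psG α α = (fun g => detCharHom α g) + (σ : Matrix.GeneralLinearGroup (Fin 2) F → ℂ) ∧
      (σ : Matrix.GeneralLinearGroup (Fin 2) F → ℂ) 1 = (Fintype.card F : ℂ) := by
  classical
  have hnorm : classInner (psG α α) (psG α α) = 2 := by
    rw [classInner_indFun_borelCharG, if_pos rfl]
    norm_num
  obtain ⟨χ₁, χ₂, hne, hsum⟩ := exists_two_irr_of_norm_two (psG_isCharacter α α) hnorm
  have hdet := detCharHom_isIrr α
  have h1 := classInner_psG_detChar α
  rw [hsum, classInner_add_left, classInner_of_isIrrCharacter χ₁.2 hdet,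
    classInner_of_isIrrCharacter χ₂.2 hdet] at h1
  have hdeg : (fun g => detCharHom α g) (1 : Matrix.GeneralLinearGroup (Fin 2) F) = 1 := by
    simp
  have hone := psG_one α α
  rw [hsum] at hone
  by_cases hc1 : (χ₁ : Matrix.GeneralLinearGroup (Fin 2) F → ℂ) = fun g => detCharHom α g
  · refine ⟨χ₂, ?_, ?_⟩
    · rw [hsum, hc1]
    · have : (χ₁ : Matrix.GeneralLinearGroup (Fin 2) F → ℂ) 1 = 1 := by rw [hc1]; exact hdeg
      simp only [Pi.add_apply] at hone
      rw [this] at hone
      linear_combination hone
  · rw [if_neg hc1, zero_add] at h1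
    by_cases hc2 : (χ₂ : Matrix.GeneralLinearGroup (Fin 2) F → ℂ) = fun g => detCharHom α g
    · refine ⟨χ₁, ?_, ?_⟩
      · rw [hsum, hc2, add_comm]
      · have : (χ₂ : Matrix.GeneralLinearGroup (Fin 2) F → ℂ) 1 = 1 := by rw [hc2]; exact hdeg
        simp only [Pi.add_apply] at hone
        rw [this] at hone
        linear_combination hone
    · rw [if_neg hc2] at h1
      norm_num at h1

/-- The Steinberg-type character attached to `α`. -/
noncomputable def stG [Fintype F] [DecidableEq F] (α : MulChar F ℂ) :
    IrrCharacter (Matrix.GeneralLinearGroup (Fin 2) F) :=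
  Classical.choose (exists_steinberg α)

theorem psG_self_eq [Fintype F] [DecidableEq F] (α : MulChar F ℂ) :
    psG α α = (fun g => detCharHom α g) + (stG α : Matrix.GeneralLinearGroup (Fin 2) F → ℂ) :=
  (Classical.choose_spec (exists_steinberg α)).1

theorem stG_one [Fintype F] [DecidableEq F] (α : MulChar F ℂ) :
    (stG α : Matrix.GeneralLinearGroup (Fin 2) F → ℂ) 1 = (Fintype.card F : ℂ) :=
  (Classical.choose_spec (exists_steinberg α)).2

/-- An irreducible character occurring in a principal series function is one of the listed ones. -/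
theorem irr_of_classInner_psG_ne_zero [Fintype F] [DecidableEq F]
    (χ : Matrix.GeneralLinearGroup (Fin 2) F → ℂ)
    (hχ : IsIrrCharacter (Matrix.GeneralLinearGroup (Fin 2) F) χ) (α β : MulChar F ℂ)
    (h : classInner χ (psG α β) ≠ 0) :
    (α ≠ β ∧ χ = psG α β) ∨ (α = β ∧ (χ = (fun g => detCharHom α g) ∨
      χ = (stG α : Matrix.GeneralLinearGroup (Fin 2) F → ℂ))) := by
  classical
  by_cases hab : α = β
  · right
    subst hab
    refine ⟨rfl, ?_⟩
    rw [psG_self_eq, Helper24.classInner_add_right, classInner_of_isIrrCharacter hχ (detCharHom_isIrr α),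
      classInner_of_isIrrCharacter hχ (stG α).2] at h
    by_contra hcon
    push Not at hcon
    rw [if_neg hcon.1, if_neg hcon.2] at h
    simp at h
  · left
    refine ⟨hab, ?_⟩
    rw [classInner_of_isIrrCharacter hχ (psG_isIrr α β hab)] at h
    by_contra hcon
    rw [if_neg hcon] at h
    exact h rfl

end Cfsg.Agent.Helper12
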