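import Mathlib
import Cfsg.Agent.Helper12.GL2Irr
import Cfsg.Agent.Helper24.CharBasic
import Cfsg.Agent.Helper24.Regular

set_option autoImplicit false

open scoped ComplexConjugate

namespace Cfsg.Agent.Helper12

open Cfsg Cfsg.Agent.Helper8 Cfsg.Agent.Helper24

variable {F : Type*} [Field F]

/-- A function on the units orthogonal to all multiplicative characters vanishes. -/
theorem eq_zero_of_forall_mulChar_sum [Fintype F] [DecidableEq F] (f : Fˣ → ℂ)
    (h : ∀ α : MulChar F ℂ, ∑ x : Fˣ, α (x : F) * f x = 0) (u : Fˣ) : f u = 0 := by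
  classical
  have : Fintype (MulChar F ℂ) := Fintype.ofFinite _
  have hq1 : ((Fintype.card F : ℂ) - 1) ≠ 0 := by
    have : 1 < Fintype.card F := Fintype.one_lt_card
    intro h
    have h' : (Fintype.card F : ℂ) = 1 := by linear_combination h
    have : Fintype.card F = 1 := by exact_mod_cast h'
    omega
  have h1 : ((Fintype.card F : ℂ) - 1) * f u =
      ∑ x : Fˣ, (∑ α : MulChar F ℂ, conj (α (u : F)) * α (x : F)) * f x := by
    simp only [sum_mulChar_conj_mul _ _ (Units.ne_zero u)]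
    rw [Finset.sum_eq_single u]
    · simp
    · intro b _ hb
      have : ¬ ((u : F) = (b : F)) := fun h => hb (Units.ext h.symm)
      rw [if_neg this, zero_mul]
    · intro h; exact absurd (Finset.mem_univ u) h
  have h2 : ∑ x : Fˣ, (∑ α : MulChar F ℂ, conj (α (u : F)) * α (x : F)) * f x = 0 := by
    simp only [Finset.sum_mul]
    rw [Finset.sum_comm]
    apply Finset.sum_eq_zero
    intro α _
    have := h α
    calc ∑ x : Fˣ, conj (α (u : F)) * α (x : F) * f x
        = conj (α (u : F)) * ∑ x : Fˣ, α (x : F) * f x := by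
          rw [Finset.mul_sum]; apply Finset.sum_congr rfl; intro x _; ring
      _ = 0 := by rw [this, mul_zero]
  rw [h2] at h1
  rcases mul_eq_zero.1 h1 with h | h
  · exact absurd h hq1
  · exact h

/-- A class function orthogonal to the whole principal series has vanishing sums over the
unipotent cosets. -/
theorem sum_borelMkG_of_cusp [Fintype F] [DecidableEq F]
    (χ : Matrix.GeneralLinearGroup (Fin 2) F → ℂ)
    (hcf : IsClassFunction (Matrix.GeneralLinearGroup (Fin 2) F) χ)
    (hc : ∀ α β : MulChar F ℂ, classInner (psG α β) χ = 0) (u v : Fˣ) :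
    ∑ r : F, χ (borelMkGL u v r) = 0 := by
  classical
  have : Fintype (Cfsg.upperTriangularGL 2 F) := Fintype.ofFinite _
  have key : ∀ α β : MulChar F ℂ, ∑ u' : Fˣ, α (u' : F) * (∑ v' : Fˣ, β (v' : F) *
      ∑ r : F, conj (χ (borelMkGL u' v' r))) = 0 := by
    intro α β
    have h1 := hc α β
    rw [psG, frobenius_reciprocity _ _ _ hcf] at h1
    unfold Cfsg.classInner at h1
    have hB : (Nat.card (Cfsg.upperTriangularGL 2 F) : ℂ) ≠ 0 := by
      have : 0 < Nat.card (Cfsg.upperTriangularGL 2 F) := Nat.card_pos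
      exact_mod_cast this.ne'
    have h2 := (mul_eq_zero.1 h1).resolve_left (inv_ne_zero hB)
    rw [sum_borelGL] at h2
    rw [← h2]
    apply Finset.sum_congr rfl
    intro u' _
    rw [Finset.mul_sum]
    apply Finset.sum_congr rfl
    intro v' _
    rw [Finset.mul_sum, Finset.mul_sum]
    apply Finset.sum_congr rfl
    intro r _
    have : borelCharG α β (borelMkG u' v' r) = α (u' : F) * β (v' : F) := by
      simp [borelCharG, borelMkG_coe]
    rw [this]
    show α (u' : F) * (β (v' : F) * conj (χ (borelMkGL u' v' r))) =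
      α (u' : F) * β (v' : F) * conj (χ (borelMkGL u' v' r))
    ring
  have s1 : ∀ β : MulChar F ℂ, ∑ v' : Fˣ, β (v' : F) *
      ∑ r : F, conj (χ (borelMkGL u v' r)) = 0 := by
    intro β
    exact eq_zero_of_forall_mulChar_sum (fun u' => ∑ v' : Fˣ, β (v' : F) *
      ∑ r : F, conj (χ (borelMkGL u' v' r))) (fun α => key α β) u
  have s2 : ∑ r : F, conj (χ (borelMkGL u v r)) = 0 :=
    eq_zero_of_forall_mulChar_sum (fun v' => ∑ r : F, conj (χ (borelMkGL u v' r))) s1 v
  have s3 := congrArg conj s2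
  simpa [map_sum] using s3

theorem isConj_unipG {r : F} (hr : r ≠ 0) :
    IsConj (borelMkGL (1 : Fˣ) 1 1) (borelMkGL (1 : Fˣ) 1 r) := by
  rw [isConj_iff]
  refine ⟨borelMkGL (Units.mk0 r hr) 1 0, ?_⟩
  rw [mul_inv_eq_iff_eq_mul]
  apply Units.ext
  rw [Units.val_mul, Units.val_mul, borelMkGL_coe, borelMkGL_coe, borelMkGL_coe]
  ext i j
  fin_cases i <;> fin_cases j <;> simp [Matrix.mul_apply, Fin.sum_univ_two]

theorem isConj_splitG {u v : Fˣ} (huv : (u : F) ≠ v) (r : F) :
    IsConj (borelMkGL u v 0) (borelMkGL u v r) := by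
  rw [isConj_iff]
  have hvu : (v : F) - u ≠ 0 := sub_ne_zero.2 (Ne.symm huv)
  refine ⟨borelMkGL 1 1 (r / ((v : F) - u)), ?_⟩
  rw [mul_inv_eq_iff_eq_mul]
  apply Units.ext
  rw [Units.val_mul, Units.val_mul, borelMkGL_coe, borelMkGL_coe, borelMkGL_coe]
  ext i j
  fin_cases i <;> fin_cases j <;> simp [Matrix.mul_apply, Fin.sum_univ_two]
  field_simp
  ring

theorem borelMkGL_one [Fintype F] : borelMkGL (1 : Fˣ) 1 (0 : F) = 1 := by
  apply Units.ext
  rw [borelMkGL_coe]
  ext i j
  fin_cases i <;> fin_cases j <;> simp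

/-- A cuspidal class function vanishes at split regular diagonal elements. -/
theorem cusp_split_zero [Fintype F] [DecidableEq F]
    (χ : Matrix.GeneralLinearGroup (Fin 2) F → ℂ)
    (hcf : IsClassFunction (Matrix.GeneralLinearGroup (Fin 2) F) χ)
    (hc : ∀ α β : MulChar F ℂ, classInner (psG α β) χ = 0) {u v : Fˣ} (huv : (u : F) ≠ v) :
    χ (borelMkGL u v 0) = 0 := by
  have h := sum_borelMkG_of_cusp χ hcf hc u v
  have h1 : ∀ r : F, χ (borelMkGL u v r) = χ (borelMkGL u v 0) := by
    intro r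
    obtain ⟨c, hc⟩ := isConj_iff.1 (isConj_splitG huv r)
    rw [← hc, hcf]
  simp only [h1, Finset.sum_const, Finset.card_univ, nsmul_eq_mul] at h
  have hq : (Fintype.card F : ℂ) ≠ 0 := by exact_mod_cast Fintype.card_ne_zero
  exact (mul_eq_zero.1 h).resolve_left hq

/-- The unipotent relation for a cuspidal class function. -/
theorem cusp_unip_rel [Fintype F] [DecidableEq F]
    (χ : Matrix.GeneralLinearGroup (Fin 2) F → ℂ)
    (hcf : IsClassFunction (Matrix.GeneralLinearGroup (Fin 2) F) χ)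
    (hc : ∀ α β : MulChar F ℂ, classInner (psG α β) χ = 0) :
    χ 1 + ((Fintype.card F : ℂ) - 1) * χ (borelMkGL (1 : Fˣ) 1 1) = 0 := by
  have h := sum_borelMkG_of_cusp χ hcf hc 1 1
  have h1 : ∀ r : F, r ≠ 0 → χ (borelMkGL (1 : Fˣ) 1 r) = χ (borelMkGL (1 : Fˣ) 1 1) := by
    intro r hr
    obtain ⟨c, hc⟩ := isConj_iff.1 (isConj_unipG hr)
    rw [← hc, hcf]
  rw [← Finset.add_sum_erase _ _ (Finset.mem_univ (0 : F)), borelMkGL_one] at h
  rw [Finset.sum_congr rfl (fun r hr => h1 r (Finset.ne_of_mem_erase hr))] at h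
  rw [Finset.sum_const, Finset.card_erase_of_mem (Finset.mem_univ _), Finset.card_univ,
    nsmul_eq_mul] at h
  have hcard : 1 ≤ Fintype.card F := Fintype.card_pos
  rw [Nat.cast_sub hcard] at h
  simpa using h

/-- The degree of a cuspidal irreducible character is a positive multiple of `q - 1`. -/
theorem cusp_degree [Fintype F] [DecidableEq F]
    (χ : Matrix.GeneralLinearGroup (Fin 2) F → ℂ)
    (hχ : IsIrrCharacter (Matrix.GeneralLinearGroup (Fin 2) F) χ)
    (hc : ∀ α β : MulChar F ℂ, classInner (psG α β) χ = 0) :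
    ∃ m : ℕ, 0 < m ∧ χ 1 = (m : ℂ) * ((Fintype.card F : ℂ) - 1) ∧
      χ (borelMkGL (1 : Fˣ) 1 1) = -(m : ℂ) := by
  have hcf := IsCharacter.isClassFunction (IsIrrCharacter.isCharacter hχ)
  have hrel := cusp_unip_rel χ hcf hc
  obtain ⟨d, hd, hd1⟩ := isIrrCharacter_one hχ
  have hint : IsIntegral ℤ (χ (borelMkGL (1 : Fˣ) 1 1)) := by
    obtain ⟨n, ρ, _, rfl⟩ := hχ
    exact char_isIntegral ρ _
  have hq1 : 1 < Fintype.card F := Fintype.one_lt_card
  have hq1' : ((Fintype.card F : ℂ) - 1) ≠ 0 := by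
    intro h
    have h' : (Fintype.card F : ℂ) = 1 := by linear_combination h
    have : Fintype.card F = 1 := by exact_mod_cast h'
    omega
  -- χ(u) is the rational number -d/(q-1)
  have hval : χ (borelMkGL (1 : Fˣ) 1 1) = ((-(d : ℚ) / ((Fintype.card F : ℚ) - 1) : ℚ) : ℂ) := by
    push_cast
    rw [hd1] at hrel
    field_simp
    linear_combination hrel
  rw [hval] at hint
  obtain ⟨z, hz⟩ := exists_int_of_isIntegral_ratCast hint
  have hq1'' : ((Fintype.card F : ℚ) - 1) > 0 := by
    have : (1 : ℚ) < (Fintype.card F : ℚ) := by exact_mod_cast hq1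
    linarith
  have hz1 : -(d : ℚ) = z * ((Fintype.card F : ℚ) - 1) := by
    rw [← hz]; field_simp
  have hzneg : z < 0 := by
    by_contra hcon
    push Not at hcon
    have : (0 : ℚ) ≤ z := by exact_mod_cast hcon
    have h1 : (0 : ℚ) ≤ z * ((Fintype.card F : ℚ) - 1) := mul_nonneg this hq1''.le
    have h2 : (0 : ℚ) < d := by exact_mod_cast hd
    linarith
  obtain ⟨m, hm⟩ := Int.eq_ofNat_of_zero_le (by omega : 0 ≤ -z)
  have hm' : (m : ℂ) = -(z : ℂ) := by
    have := congrArg (fun t : ℤ => (t : ℂ)) hm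
    simpa using this.symm
  refine ⟨m, ?_, ?_, ?_⟩
  · omega
  · rw [hd1, hm']
    have := congrArg (fun t : ℚ => (t : ℂ)) hz1
    push_cast at this
    linear_combination -this
  · rw [hm', hval, hz]
    simp

end Cfsg.Agent.Helper12
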