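import Mathlib
import Cfsg.Agent.Helper12.GL2Cusp
import Cfsg.Agent.Helper24.ColumnOrth

set_option autoImplicit false

open scoped ComplexConjugate

namespace Cfsg.Agent.Helper12

open Cfsg Cfsg.Agent.Helper8 Cfsg.Agent.Helper24

variable {F : Type*} [Field F]

theorem borelCharG_injective {α β γ δ : MulChar F ℂ} (h : borelCharG α β = borelCharG γ δ) :
    α = γ ∧ β = δ := by
  constructor
  · apply MulChar.ext
    intro u
    have := congrFun h (borelMkG u 1 0)
    simpa [borelCharG, borelMkG_coe] using this
  · apply MulChar.ext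
    intro u
    have := congrFun h (borelMkG 1 u 0)
    simpa [borelCharG, borelMkG_coe] using this

theorem classInner_psG_detChar' [Fintype F] [DecidableEq F] (α β γ : MulChar F ℂ)
    [Decidable (α = γ)] [Decidable (β = γ)] :
    classInner (psG α β) (fun g => detCharHom γ g) =
      (if α = γ then 1 else 0) * (if β = γ then 1 else 0) := by
  classical
  have : Fintype (Cfsg.upperTriangularGL 2 F) := Fintype.ofFinite _
  have hcf : IsClassFunction _ (fun g => detCharHom γ g) :=
    IsCharacter.isClassFunction (IsIrrCharacter.isCharacter (detCharHom_isIrr γ))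
  rw [psG, frobenius_reciprocity _ _ _ hcf]
  have h1 : (fun b : Cfsg.upperTriangularGL 2 F =>
      detCharHom γ (b : Matrix.GeneralLinearGroup (Fin 2) F)) = borelCharG γ γ := by
    funext b
    exact detCharHom_borel γ b
  rw [h1]
  have hirr : IsIrrCharacter (Cfsg.upperTriangularGL 2 F) (borelCharG α β) :=
    isIrrCharacter_of_monoidHom (borelCharGHom α β)
  have hirr' : IsIrrCharacter (Cfsg.upperTriangularGL 2 F) (borelCharG γ γ) :=
    isIrrCharacter_of_monoidHom (borelCharGHom γ γ)
  rw [classInner_of_isIrrCharacter hirr hirr']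
  by_cases h : borelCharG α β = borelCharG γ γ
  · obtain ⟨h2, h3⟩ := borelCharG_injective h
    rw [if_pos h, if_pos h2, if_pos h3, mul_one]
  · rw [if_neg h]
    by_cases h2 : α = γ
    · by_cases h3 : β = γ
      · exact absurd (by rw [h2, h3]) h
      · rw [if_neg h3, mul_zero]
    · rw [if_neg h2, zero_mul]

theorem classInner_psG_stG [Fintype F] [DecidableEq F] (α β γ : MulChar F ℂ)
    [Decidable (α = γ)] [Decidable (β = γ)] :
    classInner (psG α β) (stG γ : Matrix.GeneralLinearGroup (Fin 2) F → ℂ) =
      (if α = γ then 1 else 0) * (if β = γ then 1 else 0) := by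
  classical
  have h1 := classInner_indFun_borelCharG α β γ γ
  have h2 : Cfsg.indFun (Cfsg.upperTriangularGL 2 F) (borelCharG γ γ) = psG γ γ := rfl
  rw [h2, psG_self_eq, Helper24.classInner_add_right, classInner_psG_detChar'] at h1
  linear_combination h1

theorem sum_sum_delta {ι : Type*} [Fintype ι] [DecidableEq ι] (c : ι → ι → ℂ) (γ δ : ι) :
    ∑ α, ∑ β, (if α = γ then (1 : ℂ) else 0) * (if β = δ then 1 else 0) * c α β = c γ δ := by
  rw [Finset.sum_eq_single γ, Finset.sum_eq_single δ]
  · simp
  · intro b _ hb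
    simp [hb]
  · intro h; exact absurd (Finset.mem_univ _) h
  · intro b _ hb
    simp [hb]
  · intro h; exact absurd (Finset.mem_univ _) h

/-- Summation of a function over irreducibles against an irreducible character. -/
theorem sum_irr_classInner_mul {G : Type*} [Group G] [Fintype G] [Fintype (IrrCharacter G)]
    {ψ : G → ℂ} (hψ : IsIrrCharacter G ψ) (f : (G → ℂ) → ℂ) :
    ∑ χ : IrrCharacter G, classInner ψ (χ : G → ℂ) * f (χ : G → ℂ) = f ψ := by
  classical
  rw [Finset.sum_eq_single (⟨ψ, hψ⟩ : IrrCharacter G)]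
  · rw [classInner_of_isIrrCharacter hψ hψ, if_pos rfl, one_mul]
  · intro b _ hb
    rw [classInner_of_isIrrCharacter hψ b.2, if_neg, zero_mul]
    intro h
    apply hb
    exact Subtype.ext h.symm
  · intro h; exact absurd (Finset.mem_univ _) h

/-- The total weight of an irreducible character in the principal series. -/
theorem weight_sum [Fintype F] [DecidableEq F] [Fintype (MulChar F ℂ)]
    (χ : Matrix.GeneralLinearGroup (Fin 2) F → ℂ)
    (hχ : IsIrrCharacter (Matrix.GeneralLinearGroup (Fin 2) F) χ)
    [Decidable (∀ α β : MulChar F ℂ, classInner (psG α β) χ = 0)] :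
    ∑ α : MulChar F ℂ, ∑ β : MulChar F ℂ,
      classInner (psG α β) χ * (if α = β then 2 else 1) =
      if (∀ α β : MulChar F ℂ, classInner (psG α β) χ = 0) then 0 else 2 := by
  classical
  by_cases hc : ∀ α β : MulChar F ℂ, classInner (psG α β) χ = 0
  · rw [if_pos hc]
    simp [hc]
  · rw [if_neg hc]
    push Not at hc
    obtain ⟨γ, δ, hγδ⟩ := hc
    have hne : classInner χ (psG γ δ) ≠ 0 := by
      rw [← Helper24.classInner_conj_symm]
      intro h
      apply hγδ
      simpa using h
    rcases irr_of_classInner_psG_ne_zero χ hχ γ δ hne with ⟨hne', rfl⟩ | ⟨rfl, rfl | rfl⟩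
    · have h1 : ∀ α β : MulChar F ℂ, classInner (psG α β) (psG γ δ) =
          (if α = γ then 1 else 0) * (if β = δ then 1 else 0) +
          (if α = δ then 1 else 0) * (if β = γ then 1 else 0) := fun α β =>
        classInner_indFun_borelCharG α β γ δ
      simp only [h1, add_mul, Finset.sum_add_distrib]
      rw [sum_sum_delta (fun α β => if α = β then (2 : ℂ) else 1) γ δ,
        sum_sum_delta (fun α β => if α = β then (2 : ℂ) else 1) δ γ]
      rw [if_neg hne', if_neg (Ne.symm hne')]
      norm_num
    · simp only [classInner_psG_detChar']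
      rw [sum_sum_delta (fun α β => if α = β then (2 : ℂ) else 1) γ γ, if_pos rfl]
    · simp only [classInner_psG_stG]
      rw [sum_sum_delta (fun α β => if α = β then (2 : ℂ) else 1) γ γ, if_pos rfl]

/-- The master decomposition of sums over irreducible characters of `GL₂`. -/
theorem irr_sum_decomp [Fintype F] [DecidableEq F] [Fintype (MulChar F ℂ)]
    [Fintype (IrrCharacter (Matrix.GeneralLinearGroup (Fin 2) F))]
    (f : (Matrix.GeneralLinearGroup (Fin 2) F → ℂ) → ℂ)
    [∀ χ : Matrix.GeneralLinearGroup (Fin 2) F → ℂ,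
      Decidable (∀ α β : MulChar F ℂ, classInner (psG α β) χ = 0)] :
    2 * ∑ χ : IrrCharacter (Matrix.GeneralLinearGroup (Fin 2) F),
        f (χ : Matrix.GeneralLinearGroup (Fin 2) F → ℂ) =
      2 * ∑ χ : IrrCharacter (Matrix.GeneralLinearGroup (Fin 2) F),
        (if (∀ α β : MulChar F ℂ, classInner (psG α β)
          (χ : Matrix.GeneralLinearGroup (Fin 2) F → ℂ) = 0) then
          f (χ : Matrix.GeneralLinearGroup (Fin 2) F → ℂ) else 0) +
      (∑ α : MulChar F ℂ, 2 * (f (fun g => detCharHom α g) +
          f (stG α : Matrix.GeneralLinearGroup (Fin 2) F → ℂ)) +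
        ∑ α : MulChar F ℂ, ∑ β : MulChar F ℂ, if α = β then 0 else f (psG α β)) := by
  classical
  have h1 : ∀ χ : IrrCharacter (Matrix.GeneralLinearGroup (Fin 2) F),
      2 * f (χ : Matrix.GeneralLinearGroup (Fin 2) F → ℂ) =
      2 * (if (∀ α β : MulChar F ℂ, classInner (psG α β)
          (χ : Matrix.GeneralLinearGroup (Fin 2) F → ℂ) = 0) then
          f (χ : Matrix.GeneralLinearGroup (Fin 2) F → ℂ) else 0) +
      (∑ α : MulChar F ℂ, ∑ β : MulChar F ℂ,
        classInner (psG α β) (χ : Matrix.GeneralLinearGroup (Fin 2) F → ℂ) *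
          (if α = β then 2 else 1)) * f (χ : Matrix.GeneralLinearGroup (Fin 2) F → ℂ) := by
    intro χ
    rw [weight_sum _ χ.2]
    split_ifs <;> ring
  rw [Finset.mul_sum, Finset.sum_congr rfl (fun χ _ => h1 χ), Finset.sum_add_distrib,
    ← Finset.mul_sum]
  congr 1
  simp only [Finset.sum_mul]
  rw [Finset.sum_comm]
  rw [← Finset.sum_add_distrib]
  apply Finset.sum_congr rfl
  intro α _
  rw [Finset.sum_comm]
  rw [← Finset.add_sum_erase _ _ (Finset.mem_univ α)]
  rw [← Finset.add_sum_erase (Finset.univ) (fun β => if α = β then (0 : ℂ) else f (psG α β))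
    (Finset.mem_univ α)]
  rw [if_pos rfl, if_pos rfl, zero_add]
  congr 1
  · -- the diagonal term
    rw [psG_self_eq]
    simp only [Helper24.classInner_add_left, add_mul, Finset.sum_add_distrib]
    have e1 : ∀ χ : IrrCharacter (Matrix.GeneralLinearGroup (Fin 2) F),
        classInner (fun g => detCharHom α g) (χ : Matrix.GeneralLinearGroup (Fin 2) F → ℂ) * 2 *
          f (χ : Matrix.GeneralLinearGroup (Fin 2) F → ℂ) =
        2 * (classInner (fun g => detCharHom α g)
          (χ : Matrix.GeneralLinearGroup (Fin 2) F → ℂ) *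
          f (χ : Matrix.GeneralLinearGroup (Fin 2) F → ℂ)) := fun χ => by ring
    have e2 : ∀ χ : IrrCharacter (Matrix.GeneralLinearGroup (Fin 2) F),
        classInner (stG α : Matrix.GeneralLinearGroup (Fin 2) F → ℂ)
          (χ : Matrix.GeneralLinearGroup (Fin 2) F → ℂ) * 2 *
          f (χ : Matrix.GeneralLinearGroup (Fin 2) F → ℂ) =
        2 * (classInner (stG α : Matrix.GeneralLinearGroup (Fin 2) F → ℂ)
          (χ : Matrix.GeneralLinearGroup (Fin 2) F → ℂ) *
          f (χ : Matrix.GeneralLinearGroup (Fin 2) F → ℂ)) := fun χ => by ring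
    simp only [e1, e2, ← Finset.mul_sum]
    rw [sum_irr_classInner_mul (detCharHom_isIrr α), sum_irr_classInner_mul (stG α).2]
    ring
  · apply Finset.sum_congr rfl
    intro β hβ
    have hne : α ≠ β := fun h => (Finset.ne_of_mem_erase hβ) h.symm
    simp only [if_neg hne, mul_one]
    rw [sum_irr_classInner_mul (psG_isIrr α β hne)]

end Cfsg.Agent.Helper12
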