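import Mathlib

set_option autoImplicit false

namespace Cfsg.Agent.Helper12

/-- Counting conjugacy classes through a complete, surjective invariant. -/
theorem card_conjClasses_eq {G T : Type*} [Group G] (φ : G → T)
    (h1 : ∀ a b, φ a = φ b ↔ IsConj a b) (h2 : Function.Surjective φ) :
    Nat.card (ConjClasses G) = Nat.card T := by
  let f : ConjClasses G → T := Quotient.lift φ (fun a b hab => (h1 a b).2 hab)
  apply Nat.card_eq_of_bijective f
  constructor
  · intro x y
    obtain ⟨a, rfl⟩ := ConjClasses.mk_surjective x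
    obtain ⟨b, rfl⟩ := ConjClasses.mk_surjective y
    intro hxy
    exact ConjClasses.mk_eq_mk_iff_isConj.2 ((h1 a b).1 hxy)
  · intro t
    obtain ⟨a, rfl⟩ := h2 t
    exact ⟨ConjClasses.mk a, rfl⟩

end Cfsg.Agent.Helper12
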