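import Mathlib

set_option autoImplicit false

namespace Cfsg.Agent.Helper12

open Polynomial in
/-- A nilpotent square matrix over a domain has its `card`-th power equal to zero. -/
theorem nilpotent_pow_card {n : Type*} [Fintype n] [DecidableEq n] {R : Type*} [CommRing R]
    [IsDomain R] (M : Matrix n n R) (hM : IsNilpotent M) : M ^ Fintype.card n = 0 := by
  have h1 := Matrix.isNilpotent_charpoly_sub_pow_of_isNilpotent hM
  have h2 : M.charpoly = X ^ Fintype.card n := sub_eq_zero.mp h1.eq_zero
  have h3 := Matrix.aeval_self_charpoly M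
  rw [h2] at h3
  simpa using h3

/-- In characteristic `p`, a matrix with `A ^ (p ^ j) = 1` is unipotent. -/
theorem sub_one_pow_eq_zero_of_pow_eq_one {F : Type*} [Field F] (p : ℕ) [Fact p.Prime] [CharP F p]
    {n : Type*} [Fintype n] [DecidableEq n] [Nonempty n] (A : Matrix n n F) (j : ℕ)
    (h : A ^ (p ^ j) = 1) : (A - 1) ^ (p ^ j) = 0 := by
  have : CharP (Matrix n n F) p := inferInstance
  rw [sub_pow_char_pow_of_commute _ _ (Commute.one_right A), h]
  simp

/-- In characteristic `p`, if `(A - 1) ^ (p ^ j) = 0` then `A ^ (p ^ j) = 1`. -/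
theorem pow_eq_one_of_sub_one_pow_eq_zero {F : Type*} [Field F] (p : ℕ) [Fact p.Prime] [CharP F p]
    {n : Type*} [Fintype n] [DecidableEq n] [Nonempty n] (A : Matrix n n F) (j : ℕ)
    (h : (A - 1) ^ (p ^ j) = 0) : A ^ (p ^ j) = 1 := by
  have : CharP (Matrix n n F) p := inferInstance
  rw [sub_pow_char_pow_of_commute _ _ (Commute.one_right A)] at h
  simpa [sub_eq_zero] using h

/-- The nilpotent shift matrix. -/
def shiftMatrix (m : ℕ) (F : Type*) [Zero F] [One F] : Matrix (Fin m) (Fin m) F :=
  Matrix.of fun i j => if j.val = i.val + 1 then 1 else 0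

theorem shiftMatrix_pow_apply (m : ℕ) (F : Type*) [CommRing F] (k : ℕ) (i j : Fin m) :
    (shiftMatrix m F ^ k) i j = if j.val = i.val + k then 1 else 0 := by
  induction k generalizing i j with
  | zero =>
    simp only [pow_zero, add_zero, Matrix.one_apply]
    by_cases h : i = j
    · simp [h]
    · have : ¬ j.val = i.val := fun h' => h (Fin.ext h'.symm)
      simp [h, this]
  | succ k ih =>
    rw [pow_succ, Matrix.mul_apply]
    by_cases hj : j.val = i.val + (k + 1)
    · rw [if_pos hj]
      have hl : i.val + k < m := by have := j.isLt; omega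
      rw [Finset.sum_eq_single (⟨i.val + k, hl⟩ : Fin m)]
      · rw [ih]
        simp only [shiftMatrix, Matrix.of_apply]
        have h2 : j.val = i.val + k + 1 := by omega
        simp [h2]
      · intro l _ hl'
        rw [ih]
        have : ¬ l.val = i.val + k := fun h => hl' (Fin.ext h)
        rw [if_neg this, zero_mul]
      · intro h; exact absurd (Finset.mem_univ _) h
    · rw [if_neg hj]
      apply Finset.sum_eq_zero
      intro l _
      rw [ih]
      simp only [shiftMatrix, Matrix.of_apply]
      by_cases h1 : l.val = i.val + k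
      · have : ¬ j.val = l.val + 1 := by omega
        rw [if_neg this, mul_zero]
      · rw [if_neg h1, zero_mul]

theorem shiftMatrix_pow_eq_zero (m : ℕ) (F : Type*) [CommRing F] (k : ℕ) (hk : m ≤ k) :
    shiftMatrix m F ^ k = 0 := by
  ext i j
  rw [shiftMatrix_pow_apply]
  have : ¬ j.val = i.val + k := by have := j.isLt; omega
  rw [if_neg this]
  rfl

theorem shiftMatrix_pow_ne_zero (m : ℕ) (F : Type*) [CommRing F] [Nontrivial F] (k : ℕ) (hk : k < m) :
    shiftMatrix m F ^ k ≠ 0 := by
  intro h
  have h0 : 0 < m := by omega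
  have h1 := shiftMatrix_pow_apply m F k ⟨0, h0⟩ ⟨k, hk⟩
  rw [h] at h1
  simp at h1

end Cfsg.Agent.Helper12
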