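import Mathlib
import Cfsg.Agent.Helper12.Unipotent

set_option autoImplicit false

namespace Cfsg.Agent.Helper12

variable {F : Type*} [Field F]

/-- Companion matrix with trace `τ` and determinant `δ`. -/
def comp2 (τ δ : F) : Matrix (Fin 2) (Fin 2) F := !![0, -δ; 1, τ]

theorem comp2_det (τ δ : F) : (comp2 τ δ).det = δ := by
  simp [comp2, Matrix.det_fin_two_of]

theorem comp2_trace (τ δ : F) : (comp2 τ δ).trace = τ := by
  simp [comp2, Matrix.trace_fin_two]

/-- Cayley-Hamilton for 2x2 matrices. -/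
theorem cayley2 (A : Matrix (Fin 2) (Fin 2) F) :
    A * A = A.trace • A - A.det • (1 : Matrix (Fin 2) (Fin 2) F) := by
  ext i j
  fin_cases i <;> fin_cases j <;>
    simp [Matrix.mul_apply, Fin.sum_univ_two, Matrix.trace_fin_two, Matrix.det_fin_two] <;> ring

/-- A 2x2 matrix is scalar. -/
def IsScalar2 (A : Matrix (Fin 2) (Fin 2) F) : Prop := A 0 1 = 0 ∧ A 1 0 = 0 ∧ A 0 0 = A 1 1

theorem isScalar2_iff (A : Matrix (Fin 2) (Fin 2) F) :
    IsScalar2 A ↔ ∃ a : F, A = a • (1 : Matrix (Fin 2) (Fin 2) F) := by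
  constructor
  · rintro ⟨h1, h2, h3⟩
    refine ⟨A 0 0, ?_⟩
    ext i j
    fin_cases i <;> fin_cases j <;> simp [h1, h2, h3]
  · rintro ⟨a, rfl⟩
    refine ⟨?_, ?_, ?_⟩ <;> simp

theorem exists_conj_comp2 (A : Matrix (Fin 2) (Fin 2) F) (h : ¬ IsScalar2 A) :
    ∃ P : Matrix (Fin 2) (Fin 2) F, P.det ≠ 0 ∧ A * P = P * comp2 A.trace A.det := by
  by_cases hc : A 1 0 = 0
  · by_cases hb : A 0 1 = 0
    · have hne : A 0 0 ≠ A 1 1 := fun h' => h ⟨hb, hc, h'⟩
      refine ⟨!![1, A 0 0; 1, A 1 1], ?_, ?_⟩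
      · rw [Matrix.det_fin_two_of]
        intro h0
        apply hne
        linear_combination -h0
      · ext i j
        fin_cases i <;> fin_cases j <;>
          simp [comp2, Matrix.mul_apply, Fin.sum_univ_two, Matrix.trace_fin_two,
            Matrix.det_fin_two, hb, hc] <;> ring
    · refine ⟨!![0, A 0 1; 1, A 1 1], ?_, ?_⟩
      · rw [Matrix.det_fin_two_of]
        simpa using hb
      · ext i j
        fin_cases i <;> fin_cases j <;>
          simp [comp2, Matrix.mul_apply, Fin.sum_univ_two, Matrix.trace_fin_two,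
            Matrix.det_fin_two, hc] <;> ring
  · refine ⟨!![1, A 0 0; 0, A 1 0], ?_, ?_⟩
    · rw [Matrix.det_fin_two_of]
      simpa using hc
    · ext i j
      fin_cases i <;> fin_cases j <;>
        simp [comp2, Matrix.mul_apply, Fin.sum_univ_two, Matrix.trace_fin_two,
          Matrix.det_fin_two] <;> ring

/-- If `A * P = P * B` with `P` invertible then the corresponding units are conjugate. -/
theorem isConj_of_mul_eq (g h : Matrix.GeneralLinearGroup (Fin 2) F) (P : Matrix (Fin 2) (Fin 2) F)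
    (hP : P.det ≠ 0)
    (hc : (g : Matrix (Fin 2) (Fin 2) F) * P = P * (h : Matrix (Fin 2) (Fin 2) F)) : IsConj g h := by
  rw [isConj_comm, isConj_iff]
  refine ⟨Matrix.GeneralLinearGroup.mkOfDetNeZero P hP, ?_⟩
  rw [mul_inv_eq_iff_eq_mul]
  apply Units.ext
  simp only [Units.val_mul]
  exact hc.symm

/-- Two non-scalar elements of `GL₂` with the same trace and determinant are conjugate. -/
theorem isConj_of_trace_det_eq (g h : Matrix.GeneralLinearGroup (Fin 2) F)
    (hg : ¬ IsScalar2 (g : Matrix (Fin 2) (Fin 2) F)) (hh : ¬ IsScalar2 (h : Matrix (Fin 2) (Fin 2) F))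
    (ht : (g : Matrix (Fin 2) (Fin 2) F).trace = (h : Matrix (Fin 2) (Fin 2) F).trace)
    (hd : (g : Matrix (Fin 2) (Fin 2) F).det = (h : Matrix (Fin 2) (Fin 2) F).det) : IsConj g h := by
  obtain ⟨P, hP, hPc⟩ := exists_conj_comp2 _ hg
  obtain ⟨Q, hQ, hQc⟩ := exists_conj_comp2 _ hh
  rw [← ht, ← hd] at hQc
  have hdet : (g : Matrix (Fin 2) (Fin 2) F).det ≠ 0 := by
    have := g.isUnit.map Matrix.detMonoidHom
    simpa using this.ne_zero
  set c : Matrix.GeneralLinearGroup (Fin 2) F :=
    Matrix.GeneralLinearGroup.mkOfDetNeZero (comp2 (g : Matrix (Fin 2) (Fin 2) F).trace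
      (g : Matrix (Fin 2) (Fin 2) F).det) (by rw [comp2_det]; exact hdet) with hcdef
  have h1 : IsConj g c := isConj_of_mul_eq g c P hP hPc
  have h2 : IsConj h c := isConj_of_mul_eq h c Q hQ hQc
  exact h1.trans h2.symm

/-- Entries of a 2x2 matrix whose difference with `1` squares to zero. -/
theorem unipotent2_trace_det (A : Matrix (Fin 2) (Fin 2) F) (h : (A - 1) ^ 2 = 0) (hA : A ≠ 1) :
    ¬ IsScalar2 A ∧ A.trace = 2 ∧ A.det = 1 := by
  have e00 := congrFun (congrFun h 0) 0
  have e01 := congrFun (congrFun h 0) 1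
  have e10 := congrFun (congrFun h 1) 0
  have e11 := congrFun (congrFun h 1) 1
  simp only [pow_two, Matrix.mul_apply, Fin.sum_univ_two, Matrix.sub_apply, Matrix.one_apply_eq,
    Matrix.zero_apply] at e00 e01 e10 e11
  simp only [Matrix.one_apply_ne (show (0 : Fin 2) ≠ 1 by decide),
    Matrix.one_apply_ne (show (1 : Fin 2) ≠ 0 by decide), sub_zero] at e00 e01 e10 e11
  have hns : ¬ IsScalar2 A := by
    rintro ⟨h1, h2, h3⟩
    apply hA
    rw [h1, h2] at e00
    have ha : A 0 0 = 1 := by
      have : (A 0 0 - 1) * (A 0 0 - 1) = 0 := by linear_combination e00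
      have := mul_self_eq_zero.mp this
      linear_combination this
    ext i j
    fin_cases i <;> fin_cases j <;> simp [h1, h2, ha, ← h3]
  have htr : A 0 0 + A 1 1 = 2 := by
    by_contra hne
    have hne' : A 0 0 + A 1 1 - 2 ≠ 0 := fun h' => hne (by linear_combination h')
    apply hns
    have hb : A 0 1 = 0 := by
      have : A 0 1 * (A 0 0 + A 1 1 - 2) = 0 := by linear_combination e01
      exact (mul_eq_zero.mp this).resolve_right hne'
    have hc : A 1 0 = 0 := by
      have : A 1 0 * (A 0 0 + A 1 1 - 2) = 0 := by linear_combination e10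
      exact (mul_eq_zero.mp this).resolve_right hne'
    refine ⟨hb, hc, ?_⟩
    rw [hb] at e00 e11
    have ha : A 0 0 = 1 := by
      have : (A 0 0 - 1) * (A 0 0 - 1) = 0 := by linear_combination e00
      have := mul_self_eq_zero.mp this
      linear_combination this
    have hd : A 1 1 = 1 := by
      have : (A 1 1 - 1) * (A 1 1 - 1) = 0 := by linear_combination e11
      have := mul_self_eq_zero.mp this
      linear_combination this
    rw [ha, hd]
  refine ⟨hns, ?_, ?_⟩
  · rw [Matrix.trace_fin_two]; exact htr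
  · rw [Matrix.det_fin_two]
    have hd : A 1 1 = 2 - A 0 0 := by linear_combination htr
    rw [hd]
    linear_combination -e00

/-- An element of `GL₂` of order `p` in characteristic `p` is a non-identity unipotent. -/
theorem sub_one_sq_eq_zero_of_orderOf_eq (p : ℕ) [Fact p.Prime] [CharP F p]
    (g : Matrix.GeneralLinearGroup (Fin 2) F) (hg : orderOf g = p) :
    ((g : Matrix (Fin 2) (Fin 2) F) - 1) ^ 2 = 0 ∧ (g : Matrix (Fin 2) (Fin 2) F) ≠ 1 := by
  have hp : p.Prime := Fact.out
  constructor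
  · have h1 : (g : Matrix (Fin 2) (Fin 2) F) ^ (p ^ 1) = 1 := by
      have := pow_orderOf_eq_one g
      rw [hg] at this
      have h2 := congrArg (fun u : Matrix.GeneralLinearGroup (Fin 2) F =>
        (u : Matrix (Fin 2) (Fin 2) F)) this
      simpa using h2
    have h2 := sub_one_pow_eq_zero_of_pow_eq_one p _ 1 h1
    have := nilpotent_pow_card ((g : Matrix (Fin 2) (Fin 2) F) - 1) ⟨_, h2⟩
    simpa using this
  · intro h
    have : g = 1 := Units.ext h
    rw [this, orderOf_one] at hg
    exact hp.one_lt.ne hg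

end Cfsg.Agent.Helper12
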