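import Mathlib
import Cfsg.Agent.Helper12.GL2Count
import Cfsg.Agent.S2330

set_option autoImplicit false

open scoped ComplexConjugate

namespace Cfsg.Agent.Helper12

open Cfsg Cfsg.Agent.Helper8 Cfsg.Agent.Helper24

variable {F : Type*} [Field F]

local notation "G2" => Matrix.GeneralLinearGroup (Fin 2) F

/-- Cuspidality: orthogonality to all principal series functions. -/
def IsCuspG [Fintype F] [DecidableEq F] (χ : G2 → ℂ) : Prop :=
  ∀ α β : MulChar F ℂ, classInner (psG α β) χ = 0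

theorem card_mulChar_cast [Fintype F] [Fintype (MulChar F ℂ)] :
    (Fintype.card (MulChar F ℂ) : ℂ) = (Fintype.card F : ℂ) - 1 := by
  rw [← Nat.card_eq_fintype_card, card_mulChar]
  have : 1 ≤ Fintype.card F := Fintype.card_pos
  push_cast [Nat.cast_sub this]
  ring

theorem card_irr_gl2 [Fintype F] [Fintype (IrrCharacter G2)] :
    (Fintype.card (IrrCharacter G2) : ℂ) = (Fintype.card F : ℂ) ^ 2 - 1 := by
  rw [← Nat.card_eq_fintype_card, card_irr_eq_card_conjClasses, Cfsg.Agent.S2330.result]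
  have : 1 ≤ Fintype.card F ^ 2 := Nat.one_le_pow _ _ Fintype.card_pos
  push_cast [Nat.cast_sub this]
  ring

theorem card_gl2_cast [Fintype F] :
    (Nat.card G2 : ℂ) = ((Fintype.card F : ℂ) ^ 2 - 1) * ((Fintype.card F : ℂ) ^ 2 - Fintype.card F) := by
  rw [Matrix.card_GL_field 2]
  rw [Fin.prod_univ_two]
  have h1 : 1 ≤ Fintype.card F ^ 2 := Nat.one_le_pow _ _ Fintype.card_pos
  have h2 : Fintype.card F ≤ Fintype.card F ^ 2 := by
    have : 1 ≤ Fintype.card F := Fintype.card_pos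
    nlinarith
  simp only [Fin.val_zero, Fin.val_one, pow_zero, pow_one]
  push_cast [Nat.cast_sub h1, Nat.cast_sub h2]
  ring

/-- The master identity for functions of the degree. -/
theorem irr_sum_degree [Fintype F] [DecidableEq F] [Fintype (MulChar F ℂ)]
    [Fintype (IrrCharacter G2)] (g : ℂ → ℂ)
    [∀ χ : G2 → ℂ, Decidable (IsCuspG χ)] :
    2 * ∑ χ : IrrCharacter G2, g ((χ : G2 → ℂ) 1) =
      2 * ∑ χ : IrrCharacter G2, (if IsCuspG (χ : G2 → ℂ) then g ((χ : G2 → ℂ) 1) else 0) +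
      (2 * ((Fintype.card F : ℂ) - 1) * (g 1 + g (Fintype.card F)) +
        ((Fintype.card F : ℂ) - 1) * ((Fintype.card F : ℂ) - 2) * g ((Fintype.card F : ℂ) + 1)) := by
  classical
  have h := irr_sum_decomp (F := F) (fun χ => g (χ 1))
  have e1 : ∀ α : MulChar F ℂ, (fun x : G2 => detCharHom α x) 1 = 1 := by
    intro α; simp
  simp only [e1, stG_one, psG_one] at h
  have e2 : ∀ α : MulChar F ℂ, ∑ β : MulChar F ℂ,
      (if α = β then (0 : ℂ) else g ((Fintype.card F : ℂ) + 1)) =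
      ((Fintype.card F : ℂ) - 2) * g ((Fintype.card F : ℂ) + 1) := by
    intro α
    have : ∀ β : MulChar F ℂ, (if α = β then (0 : ℂ) else g ((Fintype.card F : ℂ) + 1)) =
        g ((Fintype.card F : ℂ) + 1) - (if α = β then g ((Fintype.card F : ℂ) + 1) else 0) := by
      intro β; split_ifs <;> ring
    simp only [this, Finset.sum_sub_distrib, Finset.sum_const, Finset.card_univ, nsmul_eq_mul,
      Finset.sum_ite_eq, Finset.mem_univ, if_true, card_mulChar_cast]
    ring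
  simp only [e2, Finset.sum_const, Finset.card_univ, nsmul_eq_mul, card_mulChar_cast] at h
  rw [h]
  congr 1
  · congr 1
    apply Finset.sum_congr rfl
    intro χ _
    congr 1
  · ring

/-- The number of cuspidal irreducible characters. -/
theorem two_mul_card_cusp [Fintype F] [DecidableEq F]
    [Fintype (IrrCharacter G2)] [∀ χ : G2 → ℂ, Decidable (IsCuspG χ)] :
    2 * ∑ χ : IrrCharacter G2, (if IsCuspG (χ : G2 → ℂ) then (1 : ℂ) else 0) =
      (Fintype.card F : ℂ) * ((Fintype.card F : ℂ) - 1) := by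
  classical
  have : Fintype (MulChar F ℂ) := Fintype.ofFinite _
  have h := irr_sum_degree (F := F) (fun _ => (1 : ℂ))
  simp only [Finset.sum_const, Finset.card_univ, nsmul_eq_mul, mul_one, card_irr_gl2] at h
  linear_combination -h

/-- The sum of the squares of the cuspidal degrees. -/
theorem two_mul_sum_sq_cusp [Fintype F] [DecidableEq F]
    [Fintype (IrrCharacter G2)] [∀ χ : G2 → ℂ, Decidable (IsCuspG χ)] :
    2 * ∑ χ : IrrCharacter G2, (if IsCuspG (χ : G2 → ℂ) then ((χ : G2 → ℂ) 1) ^ 2 else 0) =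
      (Fintype.card F : ℂ) * ((Fintype.card F : ℂ) - 1) ^ 3 := by
  classical
  have : Fintype (MulChar F ℂ) := Fintype.ofFinite _
  have h := irr_sum_degree (F := F) (fun x => x ^ 2)
  rw [sum_sq_irr_one, card_gl2_cast] at h
  linear_combination -h

/-- **Cuspidal characters of `GL₂(q)` have degree `q - 1`** and value `-1` at the transvection. -/
theorem cusp_degree_eq [Fintype F] [DecidableEq F] (χ : G2 → ℂ) (hχ : IsIrrCharacter G2 χ)
    (hc : IsCuspG χ) :
    χ 1 = (Fintype.card F : ℂ) - 1 ∧ χ (borelMkGL (1 : Fˣ) 1 1) = -1 := by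
  classical
  have : Fintype (IrrCharacter G2) := Fintype.ofFinite _
  obtain ⟨r, hr⟩ : ∃ r : ℕ, Fintype.card F = r + 1 := ⟨Fintype.card F - 1, by
    have : 1 ≤ Fintype.card F := Fintype.card_pos
    omega⟩
  have hrc : (Fintype.card F : ℂ) - 1 = (r : ℂ) := by rw [hr]; push_cast; ring
  have hr0 : 0 < r := by
    have : 1 < Fintype.card F := Fintype.one_lt_card
    omega
  -- the degree function
  have hdeg : ∀ ψ : IrrCharacter G2, ∃ d : ℕ, (ψ : G2 → ℂ) 1 = d ∧
      (IsCuspG (ψ : G2 → ℂ) → r ^ 2 ≤ d ^ 2 ∧ (d ^ 2 = r ^ 2 →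
        (ψ : G2 → ℂ) 1 = (r : ℂ) ∧ (ψ : G2 → ℂ) (borelMkGL (1 : Fˣ) 1 1) = -1)) := by
    intro ψ
    by_cases hψc : IsCuspG (ψ : G2 → ℂ)
    · obtain ⟨m, hm0, hm1, hm2⟩ := cusp_degree _ ψ.2 hψc
      refine ⟨m * r, ?_, fun _ => ⟨?_, ?_⟩⟩
      · rw [hm1, hrc]; push_cast; ring
      · have : 1 ≤ m := hm0
        have : r ≤ m * r := Nat.le_mul_of_pos_left r hm0
        exact Nat.pow_le_pow_left this 2
      · intro h
        have h1 : m * r = r := by
          have := Nat.pow_left_injective (n := 2) (by norm_num) h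
          exact this
        have hm : m = 1 := by
          have : m * r = 1 * r := by rw [h1, one_mul]
          exact Nat.eq_of_mul_eq_mul_right hr0 this
        subst hm
        refine ⟨?_, ?_⟩
        · rw [hm1, hrc]; simp
        · rw [hm2]; simp
    · obtain ⟨d, _, hd⟩ := isIrrCharacter_one ψ.2
      exact ⟨d, hd, fun h => absurd h hψc⟩
  choose d hd1 hd2 using hdeg
  -- the two sums
  have s1 := two_mul_card_cusp (F := F)
  have s2 := two_mul_sum_sq_cusp (F := F)
  simp only [hd1] at s2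
  rw [hrc] at s1 s2
  have hq : (Fintype.card F : ℂ) = (r : ℂ) + 1 := by rw [hr]; push_cast; ring
  rw [hq] at s1 s2
  -- convert to filter sums over ℕ
  rw [← Finset.sum_filter] at s1 s2
  have s1' : 2 * (Finset.univ.filter (fun ψ : IrrCharacter G2 => IsCuspG (ψ : G2 → ℂ))).card =
      (r + 1) * r := by
    have : (2 * ((Finset.univ.filter (fun ψ : IrrCharacter G2 =>
        IsCuspG (ψ : G2 → ℂ))).card : ℂ)) = ((r : ℂ) + 1) * r := by
      rw [← s1]; simp
    exact_mod_cast this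
  have s2' : 2 * ∑ ψ ∈ Finset.univ.filter (fun ψ : IrrCharacter G2 => IsCuspG (ψ : G2 → ℂ)),
      d ψ ^ 2 = (r + 1) * r ^ 3 := by
    have : ((2 * ∑ ψ ∈ Finset.univ.filter (fun ψ : IrrCharacter G2 => IsCuspG (ψ : G2 → ℂ)),
      d ψ ^ 2 : ℕ) : ℂ) = (((r + 1) * r ^ 3 : ℕ) : ℂ) := by
      push_cast
      rw [s2]
    exact_mod_cast this
  have s3 : ∑ ψ ∈ Finset.univ.filter (fun ψ : IrrCharacter G2 => IsCuspG (ψ : G2 → ℂ)),
      r ^ 2 = ∑ ψ ∈ Finset.univ.filter (fun ψ : IrrCharacter G2 => IsCuspG (ψ : G2 → ℂ)),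
      d ψ ^ 2 := by
    rw [Finset.sum_const, smul_eq_mul]
    have : 2 * ((Finset.univ.filter (fun ψ : IrrCharacter G2 =>
        IsCuspG (ψ : G2 → ℂ))).card * r ^ 2) = 2 * ∑ ψ ∈ Finset.univ.filter
        (fun ψ : IrrCharacter G2 => IsCuspG (ψ : G2 → ℂ)), d ψ ^ 2 := by
      rw [s2', ← mul_assoc, s1']; ring
    omega
  have s4 := (Finset.sum_eq_sum_iff_of_le (fun ψ hψ => (hd2 ψ (Finset.mem_filter.1 hψ).2).1)).1 s3
  have hmem : (⟨χ, hχ⟩ : IrrCharacter G2) ∈
      Finset.univ.filter (fun ψ : IrrCharacter G2 => IsCuspG (ψ : G2 → ℂ)) :=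
    Finset.mem_filter.2 ⟨Finset.mem_univ _, hc⟩
  have h5 := (hd2 ⟨χ, hχ⟩ hc).2 (s4 _ hmem).symm
  rw [hrc]
  exact h5

/-- **Classification of the irreducible characters of `GL₂(q)`**. -/
theorem gl2_irr_cases [Fintype F] [DecidableEq F] (χ : G2 → ℂ) (hχ : IsIrrCharacter G2 χ) :
    (∃ α : MulChar F ℂ, χ = fun g => detCharHom α g) ∨
    (∃ α : MulChar F ℂ, χ = (stG α : G2 → ℂ)) ∨
    (∃ α β : MulChar F ℂ, α ≠ β ∧ χ = psG α β) ∨
    (IsCuspG χ ∧ χ 1 = (Fintype.card F : ℂ) - 1 ∧ χ (borelMkGL (1 : Fˣ) 1 1) = -1) := by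
  classical
  by_cases hc : IsCuspG χ
  · right; right; right
    exact ⟨hc, cusp_degree_eq χ hχ hc⟩
  · unfold IsCuspG at hc
    push Not at hc
    obtain ⟨γ, δ, hγδ⟩ := hc
    have hne : classInner χ (psG γ δ) ≠ 0 := by
      rw [← Helper24.classInner_conj_symm]
      intro h
      apply hγδ
      simpa using h
    rcases irr_of_classInner_psG_ne_zero χ hχ γ δ hne with ⟨hne', h⟩ | ⟨_, h | h⟩
    · right; right; left
      exact ⟨γ, δ, hne', h⟩
    · left
      exact ⟨γ, h⟩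
    · right; left
      exact ⟨γ, h⟩

theorem card_ne_one_cast [Fintype F] : (Fintype.card F : ℂ) ≠ 1 := by
  have : 1 < Fintype.card F := Fintype.one_lt_card
  intro h
  have : Fintype.card F = 1 := by exact_mod_cast h
  omega

theorem card_ne_zero_cast [Fintype F] : (Fintype.card F : ℂ) ≠ 0 := by
  exact_mod_cast Fintype.card_ne_zero

/-- A matrix without eigenvectors has nonzero lower-left entry. -/
theorem ne_zero_of_no_eigen (g : G2)
    (h : ∀ (c : F) (v : Fin 2 → F), v ≠ 0 → (g : Matrix (Fin 2) (Fin 2) F).mulVec v ≠ c • v) :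
    (g : Matrix (Fin 2) (Fin 2) F) 1 0 ≠ 0 := by
  intro h0
  apply h ((g : Matrix (Fin 2) (Fin 2) F) 0 0) ![1, 0]
  · intro hv
    have := congrFun hv 0
    simp at this
  · ext i
    fin_cases i <;> simp [Matrix.mulVec, dotProduct, Fin.sum_univ_two, h0]

theorem quad_ne_zero_of_no_eigen (g : G2)
    (h : ∀ (c : F) (v : Fin 2 → F), v ≠ 0 → (g : Matrix (Fin 2) (Fin 2) F).mulVec v ≠ c • v)
    (s : F) :
    (g : Matrix (Fin 2) (Fin 2) F) 1 0 * s ^ 2 +
      ((g : Matrix (Fin 2) (Fin 2) F) 1 1 - (g : Matrix (Fin 2) (Fin 2) F) 0 0) * s -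
      (g : Matrix (Fin 2) (Fin 2) F) 0 1 ≠ 0 := by
  intro h0
  apply h ((g : Matrix (Fin 2) (Fin 2) F) 1 0 * s + (g : Matrix (Fin 2) (Fin 2) F) 1 1) ![s, 1]
  · intro hv
    have := congrFun hv 1
    simp at this
  · ext i
    fin_cases i
    · simp [Matrix.mulVec, dotProduct, Fin.sum_univ_two]
      linear_combination -h0
    · simp [Matrix.mulVec, dotProduct, Fin.sum_univ_two]

/-- Principal series functions vanish on elements without eigenvectors. -/
theorem psG_no_eigen [Fintype F] [DecidableEq F] (α β : MulChar F ℂ) (g : G2)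
    (h : ∀ (c : F) (v : Fin 2 → F), v ≠ 0 → (g : Matrix (Fin 2) (Fin 2) F).mulVec v ≠ c • v) :
    psG α β g = 0 := by
  rw [psG, indFun_borelCharG, if_neg (ne_zero_of_no_eigen g h)]
  simp only [if_neg (quad_ne_zero_of_no_eigen g h _)]
  simp

theorem psG_unip [Fintype F] [DecidableEq F] (α β : MulChar F ℂ) :
    psG α β (borelMkGL (1 : Fˣ) 1 1) = 1 := by
  have h := indFun_borelCharG_borelMkG α β 1 1 (1 : F)
  have h2 : ((borelMkG (1 : Fˣ) 1 (1 : F) : Cfsg.upperTriangularGL 2 F) : G2) =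
    borelMkGL 1 1 1 := rfl
  rw [h2] at h
  rw [psG, h]
  simp

theorem psG_split [Fintype F] [DecidableEq F] (α β : MulChar F ℂ) {u v : Fˣ}
    (huv : (u : F) ≠ v) :
    psG α β (borelMkGL u v 0) = α (u : F) * β (v : F) + α (v : F) * β (u : F) := by
  have h := indFun_borelCharG_borelMkG α β u v (0 : F)
  have h2 : ((borelMkG u v (0 : F) : Cfsg.upperTriangularGL 2 F) : G2) =
    borelMkGL u v 0 := rfl
  rw [h2] at h
  rw [psG, h]
  congr 1
  rw [Finset.sum_eq_single (0 : F)]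
  · simp
  · intro s _ hs
    rw [if_neg]
    intro h0
    have hvu : (v : F) - u ≠ 0 := sub_ne_zero.2 (Ne.symm huv)
    rcases mul_eq_zero.1 h0.symm with h1 | h1
    · exact hvu h1
    · exact hs h1
  · intro h; exact absurd (Finset.mem_univ _) h

theorem norm_mulChar_unit [Fintype F] (α : MulChar F ℂ) (u : Fˣ) : ‖α (u : F)‖ = 1 := by
  classical
  have h1 : (α (u : F)) ^ (Fintype.card Fˣ) = 1 := by
    rw [← map_pow, ← Units.val_pow_eq_pow_val, pow_card_eq_one, Units.val_one, map_one]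
  exact Complex.norm_eq_one_of_pow_eq_one h1 Fintype.card_ne_zero

theorem eq_borelMkGL_of_diag (g : G2) (h01 : (g : Matrix (Fin 2) (Fin 2) F) 0 1 = 0)
    (h10 : (g : Matrix (Fin 2) (Fin 2) F) 1 0 = 0) :
    ∃ u v : Fˣ, (u : F) = (g : Matrix (Fin 2) (Fin 2) F) 0 0 ∧
      (v : F) = (g : Matrix (Fin 2) (Fin 2) F) 1 1 ∧ g = borelMkGL u v 0 := by
  have hdet := gl2_det_ne_zero g
  rw [Matrix.det_fin_two, h10, mul_zero, sub_zero] at hdet
  refine ⟨Units.mk0 _ (left_ne_zero_of_mul hdet), Units.mk0 _ (right_ne_zero_of_mul hdet),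
    rfl, rfl, ?_⟩
  apply Units.ext
  rw [borelMkGL_coe]
  ext i j
  fin_cases i <;> fin_cases j <;> simp [h01, h10]

end Cfsg.Agent.Helper12
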