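import Mathlib
import Cfsg.Agent.Helper12.SL2Mackey
import Cfsg.Agent.Helper12.NormTwo
import Cfsg.Agent.Helper12.MulCharDual
import Cfsg.Agent.Helper24.Induced
import Cfsg.Agent.Helper24.Expansion
import Cfsg.Agent.Helper24.Linear

set_option autoImplicit false

open scoped ComplexConjugate

namespace Cfsg.Agent.Helper12

open Cfsg Cfsg.Agent.Helper8 Cfsg.Agent.Helper24

variable {F : Type*} [Field F]

local notation "S2" => Matrix.SpecialLinearGroup (Fin 2) F

/-- The Borel character of `SL₂` as a monoid homomorphism. -/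
noncomputable def borelCharHom (α : MulChar F ℂ) : borelSL F →* ℂ where
  toFun := borelChar α
  map_one' := borelChar_one α
  map_mul' := borelChar_mul α

/-- The principal series function of `SL₂`. -/
noncomputable abbrev psS [Fintype F] [DecidableEq F] (α : MulChar F ℂ) : S2 → ℂ :=
  Cfsg.indFun (borelSL F) (borelChar α)

theorem psS_isCharacter [Fintype F] [DecidableEq F] (α : MulChar F ℂ) :
    IsCharacter S2 (psS α) :=
  isCharacter_indFun _ (isCharacter_of_monoidHom (borelCharHom α))

theorem mulChar_sq_eq_one_iff (α : MulChar F ℂ) : α ^ 2 = 1 ↔ α = α⁻¹ := by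
  rw [eq_inv_iff_mul_eq_one, ← pow_two]

theorem psS_isIrr [Fintype F] [DecidableEq F] (α : MulChar F ℂ) (h : α ^ 2 ≠ 1) :
    IsIrrCharacter S2 (psS α) := by
  classical
  have : Fintype (IrrCharacter S2) := Fintype.ofFinite _
  rw [isIrrCharacter_iff_classInner_self]
  refine ⟨psS_isCharacter α, ?_⟩
  rw [classInner_indFun_borelChar, if_pos rfl, if_neg (fun h' => h ((mulChar_sq_eq_one_iff α).2 h'))]
  ring

theorem psS_one [Fintype F] [DecidableEq F] (α : MulChar F ℂ) :
    psS α 1 = (Fintype.card F : ℂ) + 1 := by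
  rw [psS, indFun_borelChar]
  simp
  ring

theorem psS_norm_two [Fintype F] [DecidableEq F] (α : MulChar F ℂ) (h : α ^ 2 = 1) :
    classInner (psS α) (psS α) = 2 := by
  classical
  rw [classInner_indFun_borelChar, if_pos rfl, if_pos ((mulChar_sq_eq_one_iff α).1 h)]
  norm_num

theorem exists_pairS [Fintype F] [DecidableEq F] (α : MulChar F ℂ) (h : α ^ 2 = 1) :
    ∃ p : IrrCharacter S2 × IrrCharacter S2, p.1 ≠ p.2 ∧
      psS α = (p.1 : S2 → ℂ) + (p.2 : S2 → ℂ) := by
  obtain ⟨χ₁, χ₂, hne, hsum⟩ := exists_two_irr_of_norm_two (psS_isCharacter α) (psS_norm_two α h)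
  exact ⟨(χ₁, χ₂), hne, hsum⟩

/-- The two constituents of a reducible principal series function. -/
noncomputable def pairS [Fintype F] [DecidableEq F] (α : MulChar F ℂ) (h : α ^ 2 = 1) :
    IrrCharacter S2 × IrrCharacter S2 :=
  Classical.choose (exists_pairS α h)

theorem pairS_ne [Fintype F] [DecidableEq F] (α : MulChar F ℂ) (h : α ^ 2 = 1) :
    (pairS α h).1 ≠ (pairS α h).2 :=
  (Classical.choose_spec (exists_pairS α h)).1

theorem psS_eq_pair [Fintype F] [DecidableEq F] (α : MulChar F ℂ) (h : α ^ 2 = 1) :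
    psS α = ((pairS α h).1 : S2 → ℂ) + ((pairS α h).2 : S2 → ℂ) :=
  (Classical.choose_spec (exists_pairS α h)).2

/-- If a sum of two natural numbers (as complex numbers) vanishes, both vanish. -/
theorem eq_zero_of_nat_add_eq_zero {a b : ℂ} (ha : ∃ n : ℕ, a = n) (hb : ∃ n : ℕ, b = n)
    (h : a + b = 0) : a = 0 ∧ b = 0 := by
  obtain ⟨n, rfl⟩ := ha
  obtain ⟨m, rfl⟩ := hb
  have : n + m = 0 := by exact_mod_cast h
  have hn : n = 0 := by omega
  have hm : m = 0 := by omega
  subst hn; subst hm
  simp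

theorem classInner_psS_pair [Fintype F] [DecidableEq F] (α γ : MulChar F ℂ) (h : γ ^ 2 = 1)
    [Decidable (α = γ)] :
    classInner (psS α) ((pairS γ h).1 : S2 → ℂ) = (if α = γ then 1 else 0) ∧
    classInner (psS α) ((pairS γ h).2 : S2 → ℂ) = (if α = γ then 1 else 0) := by
  classical
  have : Fintype (IrrCharacter S2) := Fintype.ofFinite _
  by_cases hαγ : α = γ
  · subst hαγ
    rw [if_pos rfl]
    have h12 := pairS_ne α h
    constructor
    · conv_lhs => rw [psS_eq_pair α h]
      rw [Helper24.classInner_add_left, classInner_of_isIrrCharacter (pairS α h).1.2 (pairS α h).1.2,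
        classInner_of_isIrrCharacter (pairS α h).2.2 (pairS α h).1.2, if_pos rfl, if_neg, add_zero]
      intro h'
      exact h12 (Subtype.ext h'.symm)
    · conv_lhs => rw [psS_eq_pair α h]
      rw [Helper24.classInner_add_left, classInner_of_isIrrCharacter (pairS α h).1.2 (pairS α h).2.2,
        classInner_of_isIrrCharacter (pairS α h).2.2 (pairS α h).2.2, if_pos rfl, if_neg, zero_add]
      intro h'
      exact h12 (Subtype.ext h')
  · rw [if_neg hαγ]
    have h0 : classInner (psS α) (psS γ) = 0 := by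
      rw [classInner_indFun_borelChar, if_neg hαγ, if_neg, add_zero]
      rw [← (mulChar_sq_eq_one_iff γ).1 h]
      exact hαγ
    rw [psS_eq_pair γ h, Helper24.classInner_add_right] at h0
    exact eq_zero_of_nat_add_eq_zero
      (IsCharacter.classInner_irr_nat (psS_isCharacter α) _)
      (IsCharacter.classInner_irr_nat (psS_isCharacter α) _) h0

/-- An irreducible character occurring in a principal series function of `SL₂`. -/
theorem irr_of_classInner_psS_ne_zero [Fintype F] [DecidableEq F] (χ : S2 → ℂ)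
    (hχ : IsIrrCharacter S2 χ) (γ : MulChar F ℂ) (h : classInner (psS γ) χ ≠ 0) :
    (γ ^ 2 ≠ 1 ∧ χ = psS γ) ∨ (∃ h2 : γ ^ 2 = 1, χ = ((pairS γ h2).1 : S2 → ℂ) ∨
      χ = ((pairS γ h2).2 : S2 → ℂ)) := by
  classical
  by_cases h2 : γ ^ 2 = 1
  · right
    refine ⟨h2, ?_⟩
    rw [psS_eq_pair γ h2, Helper24.classInner_add_left,
      classInner_of_isIrrCharacter (pairS γ h2).1.2 hχ,
      classInner_of_isIrrCharacter (pairS γ h2).2.2 hχ] at h
    by_contra hcon
    push Not at hcon
    rw [if_neg (fun h' => hcon.1 h'.symm), if_neg (fun h' => hcon.2 h'.symm)] at h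
    simp at h
  · left
    refine ⟨h2, ?_⟩
    rw [classInner_of_isIrrCharacter (psS_isIrr γ h2) hχ] at h
    by_contra hcon
    rw [if_neg (fun h' => hcon h'.symm)] at h
    exact h rfl

end Cfsg.Agent.Helper12
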