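import Mathlib
import Cfsg.Agent.Helper12.SL2Irr
import Cfsg.Agent.Helper24.CharBasic
import Cfsg.Agent.Helper24.Regular
import Cfsg.Agent.Helper24.Integrality

set_option autoImplicit false

open scoped ComplexConjugate

namespace Cfsg.Agent.Helper12

open Cfsg Cfsg.Agent.Helper8 Cfsg.Agent.Helper24

variable {F : Type*} [Field F]

local notation "S2" => Matrix.SpecialLinearGroup (Fin 2) F

theorem card_sub_one_ne_zero [Fintype F] : ((Fintype.card F : ℂ) - 1) ≠ 0 := by
  have : 1 < Fintype.card F := Fintype.one_lt_card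
  intro h
  have h' : (Fintype.card F : ℂ) = 1 := by linear_combination h
  have : Fintype.card F = 1 := by exact_mod_cast h'
  omega

/-- Fourier inversion on the unit group of a finite field. -/
theorem mulChar_fourier_inversion [Fintype F] [DecidableEq F] [Fintype (MulChar F ℂ)]
    (f : Fˣ → ℂ) (u : Fˣ) :
    ((Fintype.card F : ℂ) - 1) * f u =
      ∑ α : MulChar F ℂ, conj (α (u : F)) * ∑ x : Fˣ, α (x : F) * f x := by
  classical
  have h1 : ((Fintype.card F : ℂ) - 1) * f u =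
      ∑ x : Fˣ, (∑ α : MulChar F ℂ, conj (α (u : F)) * α (x : F)) * f x := by
    simp only [sum_mulChar_conj_mul _ _ (Units.ne_zero u)]
    rw [Finset.sum_eq_single u]
    · simp
    · intro b _ hb
      have : ¬ ((u : F) = (b : F)) := fun h => hb (Units.ext h.symm)
      rw [if_neg this, zero_mul]
    · intro h; exact absurd (Finset.mem_univ u) h
  rw [h1]
  simp only [Finset.sum_mul, Finset.mul_sum]
  rw [Finset.sum_comm]
  apply Finset.sum_congr rfl
  intro α _
  apply Finset.sum_congr rfl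
  intro x _
  ring

/-- The sum of a class function over a coset of the unipotent subgroup, in terms of the
multiplicities of the principal series. -/
theorem sum_conj_borelMkSL [Fintype F] [DecidableEq F] [Fintype (MulChar F ℂ)] (χ : S2 → ℂ)
    (hcf : IsClassFunction S2 χ) (a : Fˣ) :
    ∑ r : F, conj (χ (borelMkSL a r)) =
      (Fintype.card F : ℂ) * ∑ α : MulChar F ℂ, conj (α (a : F)) * classInner (psS α) χ := by
  classical
  have : Fintype (borelSL F) := Fintype.ofFinite _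
  have hq1 := card_sub_one_ne_zero (F := F)
  have hq0 : (Fintype.card F : ℂ) ≠ 0 := by exact_mod_cast Fintype.card_ne_zero
  have key : ∀ α : MulChar F ℂ, ∑ a' : Fˣ, α (a' : F) * (∑ r : F, conj (χ (borelMkSL a' r))) =
      ((Fintype.card F : ℂ) - 1) * (Fintype.card F : ℂ) * classInner (psS α) χ := by
    intro α
    rw [psS, frobenius_reciprocity _ _ _ hcf]
    unfold Cfsg.classInner
    rw [card_borelSL, sum_borelSL]
    have hcard : 1 ≤ Fintype.card F := Fintype.card_pos
    push_cast [Nat.cast_sub hcard]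
    rw [← mul_assoc, mul_inv_cancel₀ (mul_ne_zero hq1 hq0), one_mul]
    apply Finset.sum_congr rfl
    intro a' _
    rw [Finset.mul_sum]
    apply Finset.sum_congr rfl
    intro r _
    have : borelChar α (borelMk a' r) = α (a' : F) := by
      simp [borelChar, borelMk_coe]
    rw [this]
    rfl
  have h := mulChar_fourier_inversion (fun a' : Fˣ => ∑ r : F, conj (χ (borelMkSL a' r))) a
  simp only [key] at h
  have h2 : ((Fintype.card F : ℂ) - 1) * ∑ r : F, conj (χ (borelMkSL a r)) =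
      ((Fintype.card F : ℂ) - 1) * ((Fintype.card F : ℂ) *
        ∑ α : MulChar F ℂ, conj (α (a : F)) * classInner (psS α) χ) := by
    rw [h, Finset.mul_sum, Finset.mul_sum]
    apply Finset.sum_congr rfl
    intro α _
    ring
  exact mul_left_cancel₀ hq1 h2

/-- Cuspidality for `SL₂`: orthogonality to all principal series functions. -/
def IsCuspS [Fintype F] [DecidableEq F] (χ : S2 → ℂ) : Prop :=
  ∀ α : MulChar F ℂ, classInner (psS α) χ = 0

theorem sum_borelMkSL_of_cusp [Fintype F] [DecidableEq F] (χ : S2 → ℂ)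
    (hcf : IsClassFunction S2 χ) (hc : IsCuspS χ) (a : Fˣ) :
    ∑ r : F, χ (borelMkSL a r) = 0 := by
  classical
  have : Fintype (MulChar F ℂ) := Fintype.ofFinite _
  have h := sum_conj_borelMkSL χ hcf a
  simp only [hc _, mul_zero, Finset.sum_const_zero] at h
  have h3 := congrArg conj h
  simpa [map_sum] using h3

theorem borelMkSL_coe (u : Fˣ) (r : F) :
    (borelMkSL u r : Matrix (Fin 2) (Fin 2) F) = !![(u : F), r; 0, ((u⁻¹ : Fˣ) : F)] := rfl

theorem borelMkSL_one : borelMkSL (1 : Fˣ) (0 : F) = 1 := by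
  apply Subtype.ext
  rw [borelMkSL_coe]
  ext i j
  fin_cases i <;> fin_cases j <;> simp

theorem isConj_splitS {a : Fˣ} (ha : (a : F) ≠ ((a⁻¹ : Fˣ) : F)) (r : F) :
    IsConj (borelMkSL a 0) (borelMkSL a r) := by
  rw [isConj_iff]
  have hne : ((a⁻¹ : Fˣ) : F) - a ≠ 0 := sub_ne_zero.2 (Ne.symm ha)
  obtain ⟨s, hs⟩ : ∃ s : F, s * (((a⁻¹ : Fˣ) : F) - a) = r :=
    ⟨r / (((a⁻¹ : Fˣ) : F) - a), div_mul_cancel₀ _ hne⟩
  refine ⟨borelMkSL 1 s, ?_⟩
  rw [mul_inv_eq_iff_eq_mul]
  apply Subtype.ext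
  rw [Matrix.SpecialLinearGroup.coe_mul, Matrix.SpecialLinearGroup.coe_mul, borelMkSL_coe,
    borelMkSL_coe, borelMkSL_coe]
  ext i j
  fin_cases i <;> fin_cases j <;> simp [Matrix.mul_apply, Fin.sum_univ_two]
  rw [Units.val_inv_eq_inv_val] at hs
  linear_combination hs

theorem isConj_unipS (b : F) (t : Fˣ) :
    IsConj (borelMkSL (1 : Fˣ) b) (borelMkSL (1 : Fˣ) (b * (t : F) ^ 2)) := by
  rw [isConj_iff]
  refine ⟨borelMkSL t 0, ?_⟩
  rw [mul_inv_eq_iff_eq_mul]
  apply Subtype.ext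
  rw [Matrix.SpecialLinearGroup.coe_mul, Matrix.SpecialLinearGroup.coe_mul, borelMkSL_coe,
    borelMkSL_coe, borelMkSL_coe]
  ext i j
  fin_cases i <;> fin_cases j <;> simp [Matrix.mul_apply, Fin.sum_univ_two]
  field_simp

/-- A cuspidal class function vanishes at split regular diagonal elements. -/
theorem cuspS_split_zero [Fintype F] [DecidableEq F] (χ : S2 → ℂ)
    (hcf : IsClassFunction S2 χ) (hc : IsCuspS χ) {a : Fˣ} (ha : (a : F) ≠ ((a⁻¹ : Fˣ) : F)) :
    χ (borelMkSL a 0) = 0 := by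
  have h := sum_borelMkSL_of_cusp χ hcf hc a
  have h1 : ∀ r : F, χ (borelMkSL a r) = χ (borelMkSL a 0) := by
    intro r
    obtain ⟨c, hc⟩ := isConj_iff.1 (isConj_splitS ha r)
    rw [← hc, hcf]
  simp only [h1, Finset.sum_const, Finset.card_univ, nsmul_eq_mul] at h
  have hq : (Fintype.card F : ℂ) ≠ 0 := by exact_mod_cast Fintype.card_ne_zero
  exact (mul_eq_zero.1 h).resolve_left hq

/-- An integrality lemma: if `d + N x = 0` with `d, N` positive naturals and `x` an algebraic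
integer then `d` is a positive multiple of `N`. -/
theorem nat_multiple_of_rel {d N : ℕ} (hd : 0 < d) (hN : 0 < N) {x : ℂ} (hx : IsIntegral ℤ x)
    (hrel : (d : ℂ) + (N : ℂ) * x = 0) :
    ∃ m : ℕ, 0 < m ∧ (d : ℂ) = (m : ℂ) * (N : ℂ) ∧ x = -(m : ℂ) := by
  have hN' : (N : ℂ) ≠ 0 := by exact_mod_cast hN.ne'
  have hval : x = ((-(d : ℚ) / (N : ℚ) : ℚ) : ℂ) := by
    push_cast
    field_simp
    linear_combination hrel
  rw [hval] at hx
  obtain ⟨z, hz⟩ := exists_int_of_isIntegral_ratCast hx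
  have hNq : (0 : ℚ) < (N : ℚ) := by exact_mod_cast hN
  have hz1 : -(d : ℚ) = z * (N : ℚ) := by
    rw [← hz]; field_simp
  have hzneg : z < 0 := by
    by_contra hcon
    push Not at hcon
    have : (0 : ℚ) ≤ z := by exact_mod_cast hcon
    have h1 : (0 : ℚ) ≤ z * (N : ℚ) := mul_nonneg this hNq.le
    have h2 : (0 : ℚ) < d := by exact_mod_cast hd
    linarith
  obtain ⟨m, hm⟩ := Int.eq_ofNat_of_zero_le (by omega : 0 ≤ -z)
  have hm' : (m : ℂ) = -(z : ℂ) := by
    have := congrArg (fun t : ℤ => (t : ℂ)) hm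
    simpa using this.symm
  refine ⟨m, by omega, ?_, ?_⟩
  · rw [hm']
    have := congrArg (fun t : ℚ => (t : ℂ)) hz1
    push_cast at this
    linear_combination -this
  · rw [hm', hval, hz]
    simp

theorem irr_isIntegral {G : Type*} [Group G] [Finite G] {χ : G → ℂ} (hχ : IsIrrCharacter G χ)
    (g : G) : IsIntegral ℤ (χ g) := by
  obtain ⟨n, ρ, _, rfl⟩ := hχ
  exact char_isIntegral ρ g

/-- The unipotent relation for a cuspidal class function of `SL₂`, characteristic two. -/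
theorem cuspS_unip_rel_even [Fintype F] [DecidableEq F] [CharP F 2] (χ : S2 → ℂ)
    (hcf : IsClassFunction S2 χ) (hc : IsCuspS χ) :
    χ 1 + ((Fintype.card F : ℂ) - 1) * χ (borelMkSL (1 : Fˣ) 1) = 0 := by
  have h := sum_borelMkSL_of_cusp χ hcf hc 1
  have h1 : ∀ r : F, r ≠ 0 → χ (borelMkSL (1 : Fˣ) r) = χ (borelMkSL (1 : Fˣ) 1) := by
    intro r hr
    obtain ⟨t, ht⟩ := FiniteField.isSquare_of_char_two (ringChar.eq F 2) r
    have ht0 : t ≠ 0 := by
      rintro rfl
      exact hr (by rw [ht, mul_zero])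
    have hconj := isConj_unipS (1 : F) (Units.mk0 t ht0)
    rw [Units.val_mk0, one_mul, pow_two, ← ht] at hconj
    obtain ⟨c, hc⟩ := isConj_iff.1 hconj
    rw [← hc, hcf]
  rw [← Finset.add_sum_erase _ _ (Finset.mem_univ (0 : F)), borelMkSL_one] at h
  rw [Finset.sum_congr rfl (fun r hr => h1 r (Finset.ne_of_mem_erase hr))] at h
  rw [Finset.sum_const, Finset.card_erase_of_mem (Finset.mem_univ _), Finset.card_univ,
    nsmul_eq_mul] at h
  have hcard : 1 ≤ Fintype.card F := Fintype.card_pos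
  rw [Nat.cast_sub hcard] at h
  simpa using h

/-- The degree of a cuspidal irreducible character of `SL₂(q)`, `q` even, is a positive
multiple of `q - 1`. -/
theorem cuspS_degree_even [Fintype F] [DecidableEq F] [CharP F 2] (χ : S2 → ℂ)
    (hχ : IsIrrCharacter S2 χ) (hc : IsCuspS χ) :
    ∃ m : ℕ, 0 < m ∧ χ 1 = (m : ℂ) * ((Fintype.card F : ℂ) - 1) ∧
      χ (borelMkSL (1 : Fˣ) 1) = -(m : ℂ) := by
  have hcf := IsCharacter.isClassFunction (IsIrrCharacter.isCharacter hχ)
  have hrel := cuspS_unip_rel_even χ hcf hc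
  obtain ⟨d, hd, hd1⟩ := isIrrCharacter_one hχ
  have hq1 : 1 < Fintype.card F := Fintype.one_lt_card
  have hcast : ((Fintype.card F - 1 : ℕ) : ℂ) = (Fintype.card F : ℂ) - 1 := by
    push_cast [Nat.cast_sub hq1.le]; ring
  rw [hd1, ← hcast] at hrel
  obtain ⟨m, hm0, hm1, hm2⟩ := nat_multiple_of_rel hd (by omega) (irr_isIntegral hχ _) hrel
  exact ⟨m, hm0, by rw [hd1, hm1, hcast], hm2⟩

/-- Values on the unipotent elements in odd characteristic. -/
theorem unip_value_odd [Fintype F] [DecidableEq F] (hF : ringChar F ≠ 2) {ε : F}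
    (hε : ¬ IsSquare ε) (χ : S2 → ℂ) (hcf : IsClassFunction S2 χ) (r : F) (hr : r ≠ 0) :
    χ (borelMkSL (1 : Fˣ) r) =
      if IsSquare r then χ (borelMkSL (1 : Fˣ) 1) else χ (borelMkSL (1 : Fˣ) ε) := by
  by_cases hsq : IsSquare r
  · rw [if_pos hsq]
    obtain ⟨t, ht⟩ := hsq
    have ht0 : t ≠ 0 := by
      rintro rfl
      exact hr (by rw [ht, mul_zero])
    have hconj := isConj_unipS (1 : F) (Units.mk0 t ht0)
    rw [Units.val_mk0, one_mul, pow_two, ← ht] at hconj
    obtain ⟨c, hc⟩ := isConj_iff.1 hconj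
    rw [← hc, hcf]
  · rw [if_neg hsq]
    have hε0 : ε ≠ 0 := by
      rintro rfl
      exact hε ⟨0, by simp⟩
    have h1 : quadraticChar F r = -1 := quadraticChar_neg_one_iff_not_isSquare.2 hsq
    have h2 : quadraticChar F ε = -1 := quadraticChar_neg_one_iff_not_isSquare.2 hε
    have h3 : quadraticChar F (r * ε⁻¹) = 1 := by
      have h4 : quadraticChar F (ε⁻¹) * quadraticChar F ε = 1 := by
        rw [← map_mul, inv_mul_cancel₀ hε0, map_one]
      rw [h2] at h4
      have h5 : quadraticChar F (ε⁻¹) = -1 := by linarith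
      rw [map_mul, h1, h5]; norm_num
    have hne : r * ε⁻¹ ≠ 0 := mul_ne_zero hr (inv_ne_zero hε0)
    obtain ⟨t, ht⟩ := (quadraticChar_one_iff_isSquare hne).1 h3
    have ht0 : t ≠ 0 := by
      rintro rfl
      exact hne (by rw [ht, mul_zero])
    have hr' : r = ε * t ^ 2 := by
      rw [pow_two, ← ht]; field_simp
    have hconj := isConj_unipS ε (Units.mk0 t ht0)
    rw [Units.val_mk0, ← hr'] at hconj
    obtain ⟨c, hc⟩ := isConj_iff.1 hconj
    rw [← hc, hcf]

/-- The sum of a class function over the unipotent subgroup in odd characteristic. -/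
theorem sum_unip_odd [Fintype F] [DecidableEq F] (hF : ringChar F ≠ 2) {ε : F}
    (hε : ¬ IsSquare ε) (χ : S2 → ℂ) (hcf : IsClassFunction S2 χ) :
    2 * ∑ r : F, χ (borelMkSL (1 : Fˣ) r) = 2 * χ 1 + ((Fintype.card F : ℂ) - 1) *
      (χ (borelMkSL (1 : Fˣ) 1) + χ (borelMkSL (1 : Fˣ) ε)) := by
  set x := χ (borelMkSL (1 : Fˣ) 1) with hx
  set y := χ (borelMkSL (1 : Fˣ) ε) with hy
  have h1 : ∀ r : F, χ (borelMkSL (1 : Fˣ) r) =
      (if r = 0 then χ 1 - (x + y) / 2 else 0) +
        ((x + y) / 2 + ((quadraticChar F r : ℤ) : ℂ) * ((x - y) / 2)) := by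
    intro r
    by_cases hr : r = 0
    · subst hr
      rw [if_pos rfl, borelMkSL_one, MulChar.map_zero]
      push_cast
      ring
    · rw [if_neg hr, unip_value_odd hF hε χ hcf r hr, zero_add]
      by_cases hsq : IsSquare r
      · rw [if_pos hsq, (quadraticChar_one_iff_isSquare hr).2 hsq]
        push_cast; ring
      · rw [if_neg hsq, quadraticChar_neg_one_iff_not_isSquare.2 hsq]
        push_cast; ring
  have h2 : ∑ r : F, ((quadraticChar F r : ℤ) : ℂ) = 0 := by
    have := quadraticChar_sum_zero hF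
    have h3 := congrArg (fun z : ℤ => (z : ℂ)) this
    simpa using h3
  simp only [h1]
  rw [Finset.sum_add_distrib, Finset.sum_ite_eq' Finset.univ (0 : F), if_pos (Finset.mem_univ _),
    Finset.sum_add_distrib, ← Finset.sum_mul, h2, Finset.sum_const, Finset.card_univ, nsmul_eq_mul]
  ring

/-- The degree of a cuspidal irreducible character of `SL₂(q)`, `q` odd. -/
theorem cuspS_degree_odd [Fintype F] [DecidableEq F] (hF : ringChar F ≠ 2) {ε : F}
    (hε : ¬ IsSquare ε) (χ : S2 → ℂ) (hχ : IsIrrCharacter S2 χ) (hc : IsCuspS χ) :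
    ∃ m : ℕ, 0 < m ∧ 2 * χ 1 = (m : ℂ) * ((Fintype.card F : ℂ) - 1) ∧
      χ (borelMkSL (1 : Fˣ) 1) + χ (borelMkSL (1 : Fˣ) ε) = -(m : ℂ) := by
  have hcf := IsCharacter.isClassFunction (IsIrrCharacter.isCharacter hχ)
  have hrel := sum_unip_odd hF hε χ hcf
  rw [sum_borelMkSL_of_cusp χ hcf hc 1, mul_zero] at hrel
  obtain ⟨d, hd, hd1⟩ := isIrrCharacter_one hχ
  have hq1 : 1 < Fintype.card F := Fintype.one_lt_card
  have hcast : ((Fintype.card F - 1 : ℕ) : ℂ) = (Fintype.card F : ℂ) - 1 := by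
    push_cast [Nat.cast_sub hq1.le]; ring
  have hrel' : ((2 * d : ℕ) : ℂ) + ((Fintype.card F - 1 : ℕ) : ℂ) *
      (χ (borelMkSL (1 : Fˣ) 1) + χ (borelMkSL (1 : Fˣ) ε)) = 0 := by
    rw [hcast]; push_cast; rw [← hd1]; exact hrel.symm
  obtain ⟨m, hm0, hm1, hm2⟩ := nat_multiple_of_rel (by omega : 0 < 2 * d) (by omega)
    (IsIntegral.add (irr_isIntegral hχ _) (irr_isIntegral hχ _)) hrel'
  refine ⟨m, hm0, ?_, hm2⟩
  rw [hd1, ← hcast, ← hm1]
  push_cast; ring

end Cfsg.Agent.Helper12
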