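import Mathlib
import Cfsg.Agent.Helper12.SL2Cusp
import Cfsg.Agent.Helper12.GL2Count

set_option autoImplicit false

open scoped ComplexConjugate

namespace Cfsg.Agent.Helper12

open Cfsg Cfsg.Agent.Helper8 Cfsg.Agent.Helper24

variable {F : Type*} [Field F]

local notation "S2" => Matrix.SpecialLinearGroup (Fin 2) F

theorem sum_delta_mul {ι : Type*} [Fintype ι] [DecidableEq ι] (c : ι → ℂ) (γ : ι) :
    ∑ α, (if α = γ then (1 : ℂ) else 0) * c α = c γ := by
  rw [Finset.sum_eq_single γ]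
  · simp
  · intro b _ hb
    simp [hb]
  · intro h; exact absurd (Finset.mem_univ _) h

/-- The total weight of an irreducible character of `SL₂` in the principal series. -/
theorem weight_sumS [Fintype F] [DecidableEq F] [Fintype (MulChar F ℂ)] (χ : S2 → ℂ)
    (hχ : IsIrrCharacter S2 χ) [Decidable (IsCuspS χ)] :
    ∑ α : MulChar F ℂ, classInner (psS α) χ * (if α ^ 2 = 1 then 2 else 1) =
      if IsCuspS χ then 0 else 2 := by
  classical
  by_cases hc : IsCuspS χ
  · rw [if_pos hc]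
    simp [hc _]
  · rw [if_neg hc]
    unfold IsCuspS at hc
    push Not at hc
    obtain ⟨γ, hγ⟩ := hc
    rcases irr_of_classInner_psS_ne_zero χ hχ γ hγ with ⟨hγ2, rfl⟩ | ⟨hγ2, rfl | rfl⟩
    · have h1 : ∀ α : MulChar F ℂ, classInner (psS α) (psS γ) =
          (if α = γ then 1 else 0) + (if α = γ⁻¹ then 1 else 0) := fun α =>
        classInner_indFun_borelChar α γ
      simp only [h1, add_mul, Finset.sum_add_distrib]
      rw [sum_delta_mul (fun α : MulChar F ℂ => if α ^ 2 = 1 then (2 : ℂ) else 1) γ,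
        sum_delta_mul (fun α : MulChar F ℂ => if α ^ 2 = 1 then (2 : ℂ) else 1) γ⁻¹]
      have hγinv : ¬ (γ⁻¹ ^ 2 = 1) := by
        intro h
        apply hγ2
        rw [inv_pow, inv_eq_one] at h
        exact h
      simp only [if_neg hγ2, if_neg hγinv]
      norm_num
    · simp only [(classInner_psS_pair _ γ hγ2).1]
      rw [sum_delta_mul (fun α : MulChar F ℂ => if α ^ 2 = 1 then (2 : ℂ) else 1) γ]
      simp only [if_pos hγ2]
    · simp only [(classInner_psS_pair _ γ hγ2).2]
      rw [sum_delta_mul (fun α : MulChar F ℂ => if α ^ 2 = 1 then (2 : ℂ) else 1) γ]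
      simp only [if_pos hγ2]

/-- The master decomposition of sums over the irreducible characters of `SL₂`. -/
theorem irr_sum_decompS [Fintype F] [DecidableEq F] [Fintype (MulChar F ℂ)]
    [Fintype (IrrCharacter S2)] (f : (S2 → ℂ) → ℂ)
    [∀ χ : S2 → ℂ, Decidable (IsCuspS χ)] :
    2 * ∑ χ : IrrCharacter S2, f (χ : S2 → ℂ) =
      2 * ∑ χ : IrrCharacter S2, (if IsCuspS (χ : S2 → ℂ) then f (χ : S2 → ℂ) else 0) +
      ∑ α : MulChar F ℂ, (if h : α ^ 2 = 1 then
        2 * (f ((pairS α h).1 : S2 → ℂ) + f ((pairS α h).2 : S2 → ℂ)) else f (psS α)) := by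
  classical
  have h1 : ∀ χ : IrrCharacter S2, 2 * f (χ : S2 → ℂ) =
      2 * (if IsCuspS (χ : S2 → ℂ) then f (χ : S2 → ℂ) else 0) +
      (∑ α : MulChar F ℂ, classInner (psS α) (χ : S2 → ℂ) * (if α ^ 2 = 1 then 2 else 1)) *
        f (χ : S2 → ℂ) := by
    intro χ
    rw [weight_sumS _ χ.2]
    split_ifs <;> ring
  rw [Finset.mul_sum, Finset.sum_congr rfl (fun χ _ => h1 χ), Finset.sum_add_distrib,
    ← Finset.mul_sum]
  congr 1
  simp only [Finset.sum_mul]
  rw [Finset.sum_comm]
  apply Finset.sum_congr rfl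
  intro α _
  by_cases h2 : α ^ 2 = 1
  · rw [dif_pos h2]
    simp only [if_pos h2]
    conv_lhs => rw [psS_eq_pair α h2]
    simp only [Helper24.classInner_add_left, add_mul, Finset.sum_add_distrib]
    have e1 : ∀ (ψ : S2 → ℂ) (χ : IrrCharacter S2),
        classInner ψ (χ : S2 → ℂ) * 2 * f (χ : S2 → ℂ) =
        2 * (classInner ψ (χ : S2 → ℂ) * f (χ : S2 → ℂ)) := fun ψ χ => by ring
    simp only [e1, ← Finset.mul_sum]
    rw [sum_irr_classInner_mul (pairS α h2).1.2, sum_irr_classInner_mul (pairS α h2).2.2]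
    ring
  · rw [dif_neg h2]
    simp only [if_neg h2, mul_one]
    rw [sum_irr_classInner_mul (psS_isIrr α h2)]

end Cfsg.Agent.Helper12
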