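import Mathlib
import Cfsg.Agent.Helper12.SL2Count
import Cfsg.Agent.Helper12.GL2Table
import Cfsg.Agent.Helper24.Restrict
import Cfsg.Agent.Helper8.CharComp

set_option autoImplicit false

open scoped ComplexConjugate

namespace Cfsg.Agent.Helper12

open Cfsg Cfsg.Agent.Helper8 Cfsg.Agent.Helper24

variable {F : Type*} [Field F]

local notation "S2" => Matrix.SpecialLinearGroup (Fin 2) F
local notation "G2" => Matrix.GeneralLinearGroup (Fin 2) F

/-- Restriction of the `GL₂` principal series to `SL₂`. -/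
theorem psG_toGL [Fintype F] [DecidableEq F] (α β : MulChar F ℂ) (g : S2) :
    psG α β (Matrix.SpecialLinearGroup.toGL g) = psS (α * β⁻¹) g := by
  rw [psG, psS, indFun_borelCharG, indFun_borelChar]
  set A : Matrix (Fin 2) (Fin 2) F := (g : Matrix (Fin 2) (Fin 2) F) with hA
  change (if A 1 0 = 0 then α (A 0 0) * β (A 1 1) else 0) +
      ∑ s : F, (if A 1 0 * s ^ 2 + (A 1 1 - A 0 0) * s - A 0 1 = 0 then
        α (A 1 0 * s + A 1 1) * β (A 0 0 - s * A 1 0) else 0) =
    (if A 1 0 = 0 then (α * β⁻¹) (A 0 0) else 0) +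
      ∑ s : F, (if A 1 0 * s ^ 2 + (A 1 1 - A 0 0) * s - A 0 1 = 0 then
        (α * β⁻¹) (A 1 0 * s + A 1 1) else 0)
  have hdet : A 0 0 * A 1 1 - A 0 1 * A 1 0 = 1 := by
    have := g.2
    rw [Matrix.det_fin_two] at this
    exact this
  have hkey : ∀ x y : F, x * y = 1 → α x * β y = (α * β⁻¹) x := by
    intro x y hxy
    rw [MulChar.mul_apply, MulChar.inv_apply']
    congr 2
    exact (inv_eq_of_mul_eq_one_right hxy).symm
  congr 1
  · by_cases hc : A 1 0 = 0
    · rw [if_pos hc, if_pos hc]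
      apply hkey
      rw [hc, mul_zero, sub_zero] at hdet
      exact hdet
    · rw [if_neg hc, if_neg hc]
  · apply Finset.sum_congr rfl
    intro s _
    by_cases hs : A 1 0 * s ^ 2 + (A 1 1 - A 0 0) * s - A 0 1 = 0
    · rw [if_pos hs, if_pos hs]
      apply hkey
      linear_combination hdet - A 1 0 * hs
    · rw [if_neg hs, if_neg hs]

/-- Every irreducible character of `SL₂` lies under an irreducible character of `GL₂`. -/
theorem exists_gl2_over [Fintype F] [DecidableEq F] (χ : S2 → ℂ) (hχ : IsIrrCharacter S2 χ) :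
    ∃ ψ : IrrCharacter G2,
      classInner (fun g : S2 => (ψ : G2 → ℂ) (Matrix.SpecialLinearGroup.toGL g)) χ ≠ 0 := by
  classical
  have : Fintype (IrrCharacter G2) := Fintype.ofFinite _
  by_contra hcon
  push Not at hcon
  have hreg : ∀ x : G2, ∑ ψ : IrrCharacter G2, (ψ : G2 → ℂ) 1 * (ψ : G2 → ℂ) x =
      if x = 1 then (Nat.card G2 : ℂ) else 0 := by
    intro x
    by_cases hx : x = 1
    · subst hx
      rw [if_pos rfl, ← sum_sq_irr_one]
      apply Finset.sum_congr rfl
      intro ψ _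
      ring
    · rw [if_neg hx]
      exact sum_irr_one_mul_eq_zero hx
  have h1 : classInner (∑ ψ : IrrCharacter G2, (ψ : G2 → ℂ) 1 •
      (fun g : S2 => (ψ : G2 → ℂ) (Matrix.SpecialLinearGroup.toGL g))) χ = 0 := by
    rw [classInner_sum_left]
    apply Finset.sum_eq_zero
    intro ψ _
    rw [classInner_smul_left, hcon ψ, mul_zero]
  have h2 : (∑ ψ : IrrCharacter G2, (ψ : G2 → ℂ) 1 •
      (fun g : S2 => (ψ : G2 → ℂ) (Matrix.SpecialLinearGroup.toGL g))) =
      fun g : S2 => if g = 1 then (Nat.card G2 : ℂ) else 0 := by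
    funext g
    rw [Finset.sum_apply]
    simp only [Pi.smul_apply, smul_eq_mul]
    rw [hreg]
    by_cases hg : g = 1
    · subst hg
      simp
    · rw [if_neg hg, if_neg]
      intro h
      apply hg
      apply Matrix.SpecialLinearGroup.toGL_injective
      rw [h, map_one]
  rw [h2] at h1
  unfold Cfsg.classInner at h1
  simp only [ite_mul, zero_mul] at h1
  rw [Finset.sum_ite_eq' Finset.univ (1 : S2), if_pos (Finset.mem_univ _)] at h1
  have hS : (Nat.card S2 : ℂ) ≠ 0 := by
    have : 0 < Nat.card S2 := Nat.card_pos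
    exact_mod_cast this.ne'
  have hG : (Nat.card G2 : ℂ) ≠ 0 := by
    have : 0 < Nat.card G2 := Nat.card_pos
    exact_mod_cast this.ne'
  obtain ⟨d, hd, hd1⟩ := isIrrCharacter_one hχ
  rw [hd1] at h1
  have hd0 : (d : ℂ) ≠ 0 := by exact_mod_cast hd.ne'
  simp only [Complex.conj_natCast] at h1
  rcases mul_eq_zero.1 h1 with h | h
  · exact (inv_ne_zero hS) h
  · rcases mul_eq_zero.1 h with h | h
    · exact hG h
    · exact hd0 h

/-- A cuspidal irreducible character of `SL₂(q)` has degree at most `q - 1`. -/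
theorem cuspS_degree_le [Fintype F] [DecidableEq F] (χ : S2 → ℂ) (hχ : IsIrrCharacter S2 χ)
    (hc : IsCuspS χ) : ∃ d : ℕ, χ 1 = d ∧ d ≤ Fintype.card F - 1 := by
  classical
  have : Fintype (IrrCharacter G2) := Fintype.ofFinite _
  have : Fintype (IrrCharacter S2) := Fintype.ofFinite _
  obtain ⟨ψ, hψ⟩ := exists_gl2_over χ hχ
  have hres : IsCharacter S2 (fun g : S2 => (ψ : G2 → ℂ) (Matrix.SpecialLinearGroup.toGL g)) :=
    isCharacter_comp Matrix.SpecialLinearGroup.toGL (IsIrrCharacter.isCharacter ψ.2)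
  by_cases hcusp : IsCuspG (ψ : G2 → ℂ)
  · have hdeg := (cusp_degree_eq _ ψ.2 hcusp).1
    have hq1 : 1 ≤ Fintype.card F := Fintype.card_pos
    have hd : (fun g : S2 => (ψ : G2 → ℂ) (Matrix.SpecialLinearGroup.toGL g)) 1 =
        ((Fintype.card F - 1 : ℕ) : ℂ) := by
      simp only [map_one]
      rw [hdeg]
      push_cast [Nat.cast_sub hq1]
      ring
    have hle := irrDeg_le_of_constituent hres ⟨χ, hχ⟩ hψ _ hd
    exact ⟨irrDeg ⟨χ, hχ⟩, irrDeg_spec ⟨χ, hχ⟩, hle⟩
  · exfalso
    unfold IsCuspG at hcusp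
    push Not at hcusp
    obtain ⟨α, β, hαβ⟩ := hcusp
    obtain ⟨n, hn⟩ := IsCharacter.exists_nat_coeff (psG_isCharacter α β)
    have hnψ : classInner (psG α β) (ψ : G2 → ℂ) = n ψ := by
      rw [hn]; exact classInner_sum_irr _ ψ
    have hnψ0 : n ψ ≠ 0 := by
      intro h0
      rw [hnψ, h0] at hαβ
      exact hαβ (by simp)
    -- multiplicities of χ in the restrictions
    have hk : ∀ φ : IrrCharacter G2, ∃ k : ℕ,
        classInner (fun g : S2 => (φ : G2 → ℂ) (Matrix.SpecialLinearGroup.toGL g)) χ = k := by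
      intro φ
      exact IsCharacter.classInner_irr_nat
        (isCharacter_comp Matrix.SpecialLinearGroup.toGL (IsIrrCharacter.isCharacter φ.2)) ⟨χ, hχ⟩
    choose k hk using hk
    have hkψ : k ψ ≠ 0 := by
      intro h0
      rw [hk ψ, h0] at hψ
      exact hψ (by simp)
    have hps : psS (α * β⁻¹) = ∑ φ : IrrCharacter G2, (n φ : ℂ) •
        (fun g : S2 => (φ : G2 → ℂ) (Matrix.SpecialLinearGroup.toGL g)) := by
      funext g
      rw [← psG_toGL, hn, Finset.sum_apply, Finset.sum_apply]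
      rfl
    have h0 := hc (α * β⁻¹)
    rw [hps, classInner_sum_left] at h0
    simp only [classInner_smul_left, hk] at h0
    have h0' : ∑ φ : IrrCharacter G2, n φ * k φ = 0 := by exact_mod_cast h0
    have := Finset.sum_eq_zero_iff.1 h0' ψ (Finset.mem_univ _)
    rcases Nat.mul_eq_zero.1 this with h | h
    · exact hnψ0 h
    · exact hkψ h

end Cfsg.Agent.Helper12
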