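import Mathlib
import Cfsg.Agent.Helper12.Mat2

set_option autoImplicit false

namespace Cfsg.Agent.Helper12

variable {F : Type*} [Field F]

/-- A matrix commuting with a non-scalar 2x2 matrix `U` is a polynomial in `U`. -/
theorem exists_eq_add_smul_of_comm (U Z : Matrix (Fin 2) (Fin 2) F) (hU : ¬ IsScalar2 U)
    (h : U * Z = Z * U) : ∃ x y : F, Z = x • (1 : Matrix (Fin 2) (Fin 2) F) + y • U := by
  have e00 := congrFun (congrFun h 0) 0
  have e01 := congrFun (congrFun h 0) 1
  have e10 := congrFun (congrFun h 1) 0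
  simp only [Matrix.mul_apply, Fin.sum_univ_two] at e00 e01 e10
  by_cases hc : U 1 0 = 0
  · by_cases hb : U 0 1 = 0
    · have hne : U 0 0 - U 1 1 ≠ 0 := sub_ne_zero.2 (fun h' => hU ⟨hb, hc, h'⟩)
      have hq : Z 0 1 = 0 := by
        have : Z 0 1 * (U 0 0 - U 1 1) = 0 := by linear_combination e01 + (Z 0 0 - Z 1 1) * hb
        exact (mul_eq_zero.1 this).resolve_right hne
      have hr : Z 1 0 = 0 := by
        have : Z 1 0 * (U 0 0 - U 1 1) = 0 := by linear_combination -e10 + (Z 0 0 - Z 1 1) * hc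
        exact (mul_eq_zero.1 this).resolve_right hne
      obtain ⟨y, hy⟩ : ∃ y : F, y * (U 0 0 - U 1 1) = Z 0 0 - Z 1 1 :=
        ⟨(Z 0 0 - Z 1 1) / (U 0 0 - U 1 1), div_mul_cancel₀ _ hne⟩
      refine ⟨Z 0 0 - y * U 0 0, y, ?_⟩
      ext i j
      fin_cases i <;> fin_cases j
      · simp
      · simp [hq, hb]
      · simp [hr, hc]
      · simp
        linear_combination hy
    · obtain ⟨y, hy⟩ : ∃ y : F, y * U 0 1 = Z 0 1 := ⟨Z 0 1 / U 0 1, div_mul_cancel₀ _ hb⟩
      have hr : Z 1 0 = 0 := by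
        have : Z 1 0 * U 0 1 = 0 := by linear_combination e00 + (Z 0 1) * hc
        exact (mul_eq_zero.1 this).resolve_right hb
      refine ⟨Z 0 0 - y * U 0 0, y, ?_⟩
      ext i j
      fin_cases i <;> fin_cases j
      · simp
      · simp [hy]
      · simp [hr, hc]
      · simp
        have : (Z 1 1 - (Z 0 0 - y * U 0 0 + y * U 1 1)) * U 0 1 = 0 := by
          linear_combination e01 + (U 0 0 - U 1 1) * hy
        have := (mul_eq_zero.1 this).resolve_right hb
        linear_combination this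
  · obtain ⟨y, hy⟩ : ∃ y : F, y * U 1 0 = Z 1 0 := ⟨Z 1 0 / U 1 0, div_mul_cancel₀ _ hc⟩
    refine ⟨Z 0 0 - y * U 0 0, y, ?_⟩
    ext i j
    fin_cases i <;> fin_cases j
    · simp
    · simp
      have : (Z 0 1 - y * U 0 1) * U 1 0 = 0 := by
        linear_combination -e00 - (U 0 1) * hy
      have := (mul_eq_zero.1 this).resolve_right hc
      linear_combination this
    · simp [hy]
    · simp
      have : (Z 1 1 - (Z 0 0 - y * U 0 0 + y * U 1 1)) * U 1 0 = 0 := by
        linear_combination -e10 + (U 0 0 - U 1 1) * hy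
      have := (mul_eq_zero.1 this).resolve_right hc
      linear_combination this

end Cfsg.Agent.Helper12
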