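import Mathlib
import Cfsg.Agent.Helper12.Mat2

set_option autoImplicit false

namespace Cfsg.Agent.Helper12

variable {F : Type*} [Field F]

/-- `det [v | A v]` for a 2x2 matrix `A`. -/
def dform (A : Matrix (Fin 2) (Fin 2) F) (v : Fin 2 → F) : F :=
  v 0 * (A 1 0 * v 0 + A 1 1 * v 1) - v 1 * (A 0 0 * v 0 + A 0 1 * v 1)

/-- The vector `(x + y A) v`. -/
def zvec (A : Matrix (Fin 2) (Fin 2) F) (x y : F) (v : Fin 2 → F) : Fin 2 → F :=
  ![x * v 0 + y * (A 0 0 * v 0 + A 0 1 * v 1), x * v 1 + y * (A 1 0 * v 0 + A 1 1 * v 1)]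

theorem dform_zvec (A : Matrix (Fin 2) (Fin 2) F) (x y : F) (v : Fin 2 → F) :
    dform A (zvec A x y v) = (x ^ 2 + A.trace * x * y + A.det * y ^ 2) * dform A v := by
  simp only [dform, zvec, Matrix.trace_fin_two, Matrix.det_fin_two, Matrix.cons_val_zero,
    Matrix.cons_val_one]
  ring

theorem exists_dform_ne_zero (A : Matrix (Fin 2) (Fin 2) F) (h : ¬ IsScalar2 A) :
    ∃ v : Fin 2 → F, dform A v ≠ 0 := by
  by_cases hc : A 1 0 = 0
  · by_cases hb : A 0 1 = 0
    · have hne : A 0 0 ≠ A 1 1 := fun h' => h ⟨hb, hc, h'⟩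
      refine ⟨![1, 1], ?_⟩
      simp only [dform, Matrix.cons_val_zero, Matrix.cons_val_one, hb, hc]
      intro h0
      apply hne
      linear_combination -h0
    · refine ⟨![0, 1], ?_⟩
      simp only [dform, Matrix.cons_val_zero, Matrix.cons_val_one]
      simpa using hb
  · refine ⟨![1, 0], ?_⟩
    simp only [dform, Matrix.cons_val_zero, Matrix.cons_val_one]
    simpa using hc

/-- The matrix `[v | A v]`. -/
def cycMat (A : Matrix (Fin 2) (Fin 2) F) (v : Fin 2 → F) : Matrix (Fin 2) (Fin 2) F :=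
  !![v 0, A 0 0 * v 0 + A 0 1 * v 1; v 1, A 1 0 * v 0 + A 1 1 * v 1]

theorem cycMat_det (A : Matrix (Fin 2) (Fin 2) F) (v : Fin 2 → F) :
    (cycMat A v).det = dform A v := by
  simp only [cycMat, dform, Matrix.det_fin_two_of]
  ring

theorem mul_cycMat (A : Matrix (Fin 2) (Fin 2) F) (v : Fin 2 → F) :
    A * cycMat A v = cycMat A v * comp2 A.trace A.det := by
  ext i j
  fin_cases i <;> fin_cases j <;>
    simp [cycMat, comp2, Matrix.mul_apply, Fin.sum_univ_two, Matrix.trace_fin_two,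
      Matrix.det_fin_two] <;> ring

/-- Conjugacy in `SL₂` from a determinant-one conjugator in `GL₂`. -/
theorem sl2_isConj_of_gl2 (g h : Matrix.SpecialLinearGroup (Fin 2) F)
    (R : Matrix (Fin 2) (Fin 2) F) (hR : R.det = 1)
    (hc : (g : Matrix (Fin 2) (Fin 2) F) * R = R * (h : Matrix (Fin 2) (Fin 2) F)) : IsConj g h := by
  rw [isConj_comm, isConj_iff]
  set r : Matrix.SpecialLinearGroup (Fin 2) F := ⟨R, hR⟩ with hr
  refine ⟨r, ?_⟩
  rw [mul_inv_eq_iff_eq_mul]
  apply Subtype.ext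
  simp only [Matrix.SpecialLinearGroup.coe_mul]
  exact hc.symm

/-- Two elements of `SL₂` with the same trace and a common nonzero value of `dform`
are conjugate in `SL₂`. -/
theorem sl2_isConj_of_dform_eq (g h : Matrix.SpecialLinearGroup (Fin 2) F)
    (ht : (g : Matrix (Fin 2) (Fin 2) F).trace = (h : Matrix (Fin 2) (Fin 2) F).trace)
    (v w : Fin 2 → F) (hv : dform (g : Matrix (Fin 2) (Fin 2) F) v ≠ 0)
    (hvw : dform (g : Matrix (Fin 2) (Fin 2) F) v = dform (h : Matrix (Fin 2) (Fin 2) F) w) :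
    IsConj g h := by
  set A := (g : Matrix (Fin 2) (Fin 2) F) with hA
  set B := (h : Matrix (Fin 2) (Fin 2) F) with hB
  have hdA : A.det = 1 := g.2
  have hdB : B.det = 1 := h.2
  set P := cycMat A v with hP
  set Q := cycMat B w with hQ
  have hPdet : P.det = dform A v := cycMat_det A v
  have hQdet : Q.det = dform A v := by rw [hvw]; exact cycMat_det B w
  have hQunit : IsUnit Q.det := by rw [hQdet]; exact isUnit_iff_ne_zero.2 hv
  have h1 : A * P = P * comp2 A.trace 1 := by rw [← hdA]; exact mul_cycMat A v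
  have h2 : B * Q = Q * comp2 A.trace 1 := by rw [ht, ← hdB]; exact mul_cycMat B w
  -- R = P * Q⁻¹
  refine sl2_isConj_of_gl2 g h (P * Q⁻¹) ?_ ?_
  · rw [Matrix.det_mul, Matrix.det_nonsing_inv, hPdet, hQdet, Ring.inverse_eq_inv',
      mul_inv_cancel₀ hv]
  · have h3 : Q⁻¹ * B = comp2 A.trace 1 * Q⁻¹ := by
      have : Q⁻¹ * (B * Q) * Q⁻¹ = Q⁻¹ * (Q * comp2 A.trace 1) * Q⁻¹ := by rw [h2]
      rw [Matrix.mul_assoc, Matrix.mul_assoc, Matrix.mul_nonsing_inv _ hQunit, Matrix.mul_one,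
        ← Matrix.mul_assoc Q⁻¹ Q, Matrix.nonsing_inv_mul _ hQunit, Matrix.one_mul] at this
      exact this
    show A * (P * Q⁻¹) = P * Q⁻¹ * B
    rw [← Matrix.mul_assoc, h1, Matrix.mul_assoc, Matrix.mul_assoc, h3]

/-- Universality of the norm form over a finite field. -/
theorem exists_norm_form_eq [Fintype F] (t c : F) (ht : ringChar F = 2 ∨ t ^ 2 ≠ 4) :
    ∃ x y : F, x ^ 2 + t * x * y + 1 * y ^ 2 = c := by
  by_cases h2 : ringChar F = 2
  · obtain ⟨x, hx⟩ := FiniteField.isSquare_of_char_two h2 c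
    exact ⟨x, 0, by rw [hx]; ring⟩
  · have ht' : t ^ 2 ≠ 4 := ht.resolve_left h2
    have hodd : Fintype.card F % 2 = 1 := FiniteField.odd_card_of_char_ne_two h2
    have h2ne : (2 : F) ≠ 0 := by
      intro h
      apply h2
      exact (CharP.ringChar_of_prime_eq_zero Nat.prime_two (by exact_mod_cast h))
    have hD : t ^ 2 - 4 ≠ 0 := sub_ne_zero.2 ht'
    have hf : (Polynomial.X ^ 2 : Polynomial F).degree = 2 := by
      rw [Polynomial.degree_X_pow]; rfl
    have hg : (Polynomial.C (-(t ^ 2 - 4)) * Polynomial.X ^ 2 + Polynomial.C (-(4 * c)) :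
        Polynomial F).degree = 2 := by
      rw [Polynomial.degree_add_C, Polynomial.degree_C_mul_X_pow]
      · rfl
      · exact neg_ne_zero.2 hD
      · rw [Polynomial.degree_C_mul_X_pow _ (neg_ne_zero.2 hD)]
        norm_num
    obtain ⟨a, b, hab⟩ := FiniteField.exists_root_sum_quadratic hf hg hodd
    simp only [Polynomial.eval_pow, Polynomial.eval_X, Polynomial.eval_add, Polynomial.eval_mul,
      Polynomial.eval_C] at hab
    refine ⟨(a - t * b) / 2, b, ?_⟩
    field_simp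
    linear_combination hab

/-- In `SL₂` over a finite field, non-scalar elements with the same trace `t` are conjugate
as soon as `t² ≠ 4` or the characteristic is 2. -/
theorem sl2_isConj_of_trace_eq [Fintype F] (g h : Matrix.SpecialLinearGroup (Fin 2) F)
    (hg : ¬ IsScalar2 (g : Matrix (Fin 2) (Fin 2) F)) (hh : ¬ IsScalar2 (h : Matrix (Fin 2) (Fin 2) F))
    (ht : (g : Matrix (Fin 2) (Fin 2) F).trace = (h : Matrix (Fin 2) (Fin 2) F).trace)
    (hu : ringChar F = 2 ∨ (g : Matrix (Fin 2) (Fin 2) F).trace ^ 2 ≠ 4) : IsConj g h := by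
  obtain ⟨v, hv⟩ := exists_dform_ne_zero _ hg
  obtain ⟨w, hw⟩ := exists_dform_ne_zero _ hh
  obtain ⟨x, y, hxy⟩ := exists_norm_form_eq (g : Matrix (Fin 2) (Fin 2) F).trace
    (dform (h : Matrix (Fin 2) (Fin 2) F) w / dform (g : Matrix (Fin 2) (Fin 2) F) v) hu
  have hdet : (g : Matrix (Fin 2) (Fin 2) F).det = 1 := g.2
  have h1 : dform (g : Matrix (Fin 2) (Fin 2) F) (zvec (g : Matrix (Fin 2) (Fin 2) F) x y v) =
      dform (h : Matrix (Fin 2) (Fin 2) F) w := by
    rw [dform_zvec, hdet, hxy, div_mul_cancel₀ _ hv]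
  exact sl2_isConj_of_dform_eq g h ht _ w (by rw [h1]; exact hw) h1

end Cfsg.Agent.Helper12
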