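import Mathlib
import Cfsg.Agent.Helper12.SL2Conj

set_option autoImplicit false

namespace Cfsg.Agent.Helper12

variable {F : Type*} [Field F]

/-- In a finite field of odd characteristic, two nonzero elements that are both squares or both
non-squares have a square quotient. -/
theorem isSquare_div_of_iff [Fintype F] {d e : F} (hd : d ≠ 0) (he : e ≠ 0)
    (h : IsSquare d ↔ IsSquare e) : IsSquare (e / d) := by
  classical
  have hed : e / d ≠ 0 := div_ne_zero he hd
  rw [← quadraticChar_one_iff_isSquare hed]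
  have h1 : quadraticChar F (e / d) * quadraticChar F d = quadraticChar F e := by
    rw [← map_mul, div_mul_cancel₀ _ hd]
  rcases quadraticChar_dichotomy hd with h2 | h2
  · have h3 : quadraticChar F e = 1 :=
      (quadraticChar_one_iff_isSquare he).2 (h.1 ((quadraticChar_one_iff_isSquare hd).1 h2))
    rw [h2, h3, mul_one] at h1
    exact h1
  · have h3 : quadraticChar F e = -1 := by
      rw [quadraticChar_neg_one_iff_not_isSquare]
      intro h4
      have := quadraticChar_neg_one_iff_not_isSquare.1 h2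
      exact this (h.2 h4)
    rw [h2, h3] at h1
    have : quadraticChar F (e / d) = 1 := by
      have := congrArg (fun z => -z) h1
      simpa using this
    exact this

/-- `dform` is invariant under simultaneous conjugation by a determinant-one matrix. -/
theorem dform_conj_adj (A C : Matrix (Fin 2) (Fin 2) F) (v : Fin 2 → F) :
    dform (C * A * C.adjugate) (C.mulVec v) = C.det ^ 2 * dform A v := by
  simp only [dform, Matrix.adjugate_fin_two, Matrix.mul_apply, Matrix.mulVec, dotProduct,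
    Fin.sum_univ_two, Matrix.det_fin_two, Matrix.of_apply, Matrix.cons_val', Matrix.cons_val_zero,
    Matrix.cons_val_one, Matrix.empty_val', Matrix.cons_val_fin_one]
  ring

theorem dform_conj (a c : Matrix.SpecialLinearGroup (Fin 2) F) (v : Fin 2 → F) :
    dform ((c * a * c⁻¹ : Matrix.SpecialLinearGroup (Fin 2) F) : Matrix (Fin 2) (Fin 2) F)
      ((c : Matrix (Fin 2) (Fin 2) F).mulVec v) = dform (a : Matrix (Fin 2) (Fin 2) F) v := by
  have hdet : (c : Matrix (Fin 2) (Fin 2) F).det = 1 := c.2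
  simp only [Matrix.SpecialLinearGroup.coe_mul, Matrix.SpecialLinearGroup.coe_inv]
  rw [dform_conj_adj, hdet]
  ring

/-- The form `dform A` represents a nonzero square. -/
def sqRep (A : Matrix (Fin 2) (Fin 2) F) : Prop :=
  ∃ v : Fin 2 → F, dform A v ≠ 0 ∧ IsSquare (dform A v)

theorem sqRep_conj (a c : Matrix.SpecialLinearGroup (Fin 2) F) :
    sqRep ((c * a * c⁻¹ : Matrix.SpecialLinearGroup (Fin 2) F) : Matrix (Fin 2) (Fin 2) F) ↔
      sqRep (a : Matrix (Fin 2) (Fin 2) F) := by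
  constructor
  · rintro ⟨v, hv1, hv2⟩
    have h1 := dform_conj a c (((c⁻¹ : Matrix.SpecialLinearGroup (Fin 2) F) :
      Matrix (Fin 2) (Fin 2) F).mulVec v)
    rw [Matrix.mulVec_mulVec, ← Matrix.SpecialLinearGroup.coe_mul, mul_inv_cancel] at h1
    simp only [Matrix.SpecialLinearGroup.coe_one, Matrix.one_mulVec] at h1
    exact ⟨_, by rw [← h1]; exact hv1, by rw [← h1]; exact hv2⟩
  · rintro ⟨v, hv1, hv2⟩
    have h1 := dform_conj a c v
    exact ⟨_, by rw [h1]; exact hv1, by rw [h1]; exact hv2⟩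

/-- A cyclic vector spans together with its image. -/
theorem exists_zvec_eq (A : Matrix (Fin 2) (Fin 2) F) (v0 : Fin 2 → F) (h0 : dform A v0 ≠ 0)
    (v : Fin 2 → F) : ∃ x y : F, zvec A x y v0 = v := by
  refine ⟨(v 0 * (A 1 0 * v0 0 + A 1 1 * v0 1) - v 1 * (A 0 0 * v0 0 + A 0 1 * v0 1)) / dform A v0,
    (v0 0 * v 1 - v0 1 * v 0) / dform A v0, ?_⟩
  have e0 : ∀ x y : F, zvec A x y v0 0 = x * v0 0 + y * (A 0 0 * v0 0 + A 0 1 * v0 1) :=
    fun _ _ => rfl
  have e1 : ∀ x y : F, zvec A x y v0 1 = x * v0 1 + y * (A 1 0 * v0 0 + A 1 1 * v0 1) :=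
    fun _ _ => rfl
  funext i
  have hi : i = 0 ∨ i = 1 := by fin_cases i <;> simp
  rcases hi with rfl | rfl
  · rw [e0]
    field_simp
    simp only [dform]
    ring
  · rw [e1]
    field_simp
    simp only [dform]
    ring

/-- When `trace² = 4` and `det = 1`, representing a nonzero square is decided by one value. -/
theorem sqRep_iff_of_trace_sq (A : Matrix (Fin 2) (Fin 2) F) (hdet : A.det = 1)
    (ht : A.trace ^ 2 = 4) (h2 : (2 : F) ≠ 0) (v0 : Fin 2 → F) (h0 : dform A v0 ≠ 0) :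
    sqRep A ↔ IsSquare (dform A v0) := by
  have key : ∀ x y : F, x ^ 2 + A.trace * x * y + A.det * y ^ 2 = (x + A.trace / 2 * y) ^ 2 := by
    intro x y
    rw [hdet]
    field_simp
    linear_combination (-y ^ 2) * ht
  constructor
  · rintro ⟨v, hv1, hv2⟩
    obtain ⟨x, y, rfl⟩ := exists_zvec_eq A v0 h0 v
    rw [dform_zvec, key] at hv1 hv2
    have hne : x + A.trace / 2 * y ≠ 0 := by
      intro h
      apply hv1
      rw [h]; ring
    obtain ⟨s, hs⟩ := hv2
    have hz2 : (x + A.trace / 2 * y) ^ 2 ≠ 0 := pow_ne_zero 2 hne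
    refine ⟨s / (x + A.trace / 2 * y), ?_⟩
    rw [div_mul_div_comm, ← hs, ← pow_two]
    exact (mul_div_cancel_left₀ _ hz2).symm
  · intro h
    exact ⟨v0, h0, h⟩

/-- Completeness of the invariant for elements with `trace² = 4`. -/
theorem sl2_isConj_of_sqRep_iff [Fintype F] (h2 : (2 : F) ≠ 0)
    (a b : Matrix.SpecialLinearGroup (Fin 2) F)
    (ha : ¬ IsScalar2 (a : Matrix (Fin 2) (Fin 2) F)) (hb : ¬ IsScalar2 (b : Matrix (Fin 2) (Fin 2) F))
    (ht : (a : Matrix (Fin 2) (Fin 2) F).trace = (b : Matrix (Fin 2) (Fin 2) F).trace)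
    (ht4 : (a : Matrix (Fin 2) (Fin 2) F).trace ^ 2 = 4)
    (hs : sqRep (a : Matrix (Fin 2) (Fin 2) F) ↔ sqRep (b : Matrix (Fin 2) (Fin 2) F)) :
    IsConj a b := by
  obtain ⟨v, hv⟩ := exists_dform_ne_zero _ ha
  obtain ⟨w, hw⟩ := exists_dform_ne_zero _ hb
  have hda : (a : Matrix (Fin 2) (Fin 2) F).det = 1 := a.2
  have hdb : (b : Matrix (Fin 2) (Fin 2) F).det = 1 := b.2
  have h1 := sqRep_iff_of_trace_sq _ hda ht4 h2 v hv
  have h1' := sqRep_iff_of_trace_sq _ hdb (ht ▸ ht4) h2 w hw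
  have h3 : IsSquare (dform (a : Matrix (Fin 2) (Fin 2) F) v) ↔
      IsSquare (dform (b : Matrix (Fin 2) (Fin 2) F) w) := by
    rw [← h1, ← h1', hs]
  obtain ⟨s, hs'⟩ := isSquare_div_of_iff hv hw h3
  have h4 : dform (a : Matrix (Fin 2) (Fin 2) F) (zvec (a : Matrix (Fin 2) (Fin 2) F) s 0 v) =
      dform (b : Matrix (Fin 2) (Fin 2) F) w := by
    rw [dform_zvec]
    have : s ^ 2 + (a : Matrix (Fin 2) (Fin 2) F).trace * s * 0 +
        (a : Matrix (Fin 2) (Fin 2) F).det * 0 ^ 2 = s * s := by ring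
    rw [this, ← hs', div_mul_cancel₀ _ hv]
  exact sl2_isConj_of_dform_eq a b ht _ w (by rw [h4]; exact hw) h4

/-- The upper triangular element with diagonal `ε` (`ε² = 1`) and corner `β`. -/
def utri (ε β : F) : Matrix (Fin 2) (Fin 2) F := !![ε, β; 0, ε]

theorem dform_utri (ε β : F) (v : Fin 2 → F) : dform (utri ε β) v = -β * v 1 ^ 2 := by
  simp [dform, utri]
  ring

theorem sqRep_utri (ε β : F) (hβ : β ≠ 0) : sqRep (utri ε β) ↔ IsSquare (-β) := by
  constructor
  · rintro ⟨v, hv1, hv2⟩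
    rw [dform_utri] at hv1 hv2
    have hy : v 1 ≠ 0 := by
      intro h
      apply hv1
      rw [h]; ring
    obtain ⟨s, hs⟩ := hv2
    refine ⟨s / v 1, ?_⟩
    field_simp
    linear_combination hs
  · intro h
    refine ⟨![0, 1], ?_, ?_⟩
    · rw [dform_utri]
      simpa using hβ
    · rw [dform_utri]
      simpa using h

end Cfsg.Agent.Helper12
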