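import Mathlib
import Cfsg.Agent.Helper12.SL2Res
import Cfsg.Agent.S2301

set_option autoImplicit false

open scoped ComplexConjugate

namespace Cfsg.Agent.Helper12

open Cfsg Cfsg.Agent.Helper8 Cfsg.Agent.Helper24

variable {F : Type*} [Field F]

local notation "S2" => Matrix.SpecialLinearGroup (Fin 2) F

/-- The trivial character of `SL₂`. -/
def trivS : S2 → ℂ := fun _ => 1

theorem trivS_isIrr [Fintype F] : IsIrrCharacter S2 (trivS (F := F)) := by
  classical
  exact isIrrCharacter_of_monoidHom (1 : S2 →* ℂ)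

theorem borelChar_one_eq : borelChar (1 : MulChar F ℂ) = fun _ => 1 := by
  funext b
  have hb := (mem_borelSL_iff _).1 b.2
  have hdet := (b : S2).2
  rw [Matrix.det_fin_two, hb, mul_zero, sub_zero] at hdet
  have h0 : ((b : S2) : Matrix (Fin 2) (Fin 2) F) 0 0 ≠ 0 := left_ne_zero_of_mul_eq_one hdet
  exact MulChar.one_apply (isUnit_iff_ne_zero.2 h0)

theorem classInner_psS_one_triv [Fintype F] [DecidableEq F] :
    classInner (psS (1 : MulChar F ℂ)) (trivS (F := F)) = 1 := by
  classical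
  have : Fintype (borelSL F) := Fintype.ofFinite _
  have hcf : IsClassFunction S2 (trivS (F := F)) :=
    IsCharacter.isClassFunction (IsIrrCharacter.isCharacter trivS_isIrr)
  rw [psS, frobenius_reciprocity _ _ _ hcf, borelChar_one_eq]
  have hirr : IsIrrCharacter (borelSL F) (fun _ => (1 : ℂ)) :=
    isIrrCharacter_of_monoidHom (1 : borelSL F →* ℂ)
  have : (fun h : borelSL F => trivS (F := F) (h : S2)) = fun _ => (1 : ℂ) := rfl
  rw [this, classInner_of_isIrrCharacter hirr hirr, if_pos rfl]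

theorem one_sq_mulChar : (1 : MulChar F ℂ) ^ 2 = 1 := one_pow 2

/-- The pair of constituents of `psS 1` consists of the trivial character and a character
of degree `q`. -/
theorem exists_stS [Fintype F] [DecidableEq F] :
    ∃ σ : IrrCharacter S2, psS (1 : MulChar F ℂ) = trivS + (σ : S2 → ℂ) ∧
      (σ : S2 → ℂ) 1 = (Fintype.card F : ℂ) ∧
      ((((pairS (1 : MulChar F ℂ) one_sq_mulChar).1 : S2 → ℂ) = trivS ∧
        (pairS (1 : MulChar F ℂ) one_sq_mulChar).2 = σ) ∨
       (((pairS (1 : MulChar F ℂ) one_sq_mulChar).2 : S2 → ℂ) = trivS ∧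
        (pairS (1 : MulChar F ℂ) one_sq_mulChar).1 = σ)) := by
  have h1 : classInner (psS (1 : MulChar F ℂ)) (trivS (F := F)) ≠ 0 := by
    rw [classInner_psS_one_triv]; exact one_ne_zero
  have hone := psS_one (1 : MulChar F ℂ)
  have hpair := psS_eq_pair (1 : MulChar F ℂ) one_sq_mulChar
  rcases irr_of_classInner_psS_ne_zero _ trivS_isIrr _ h1 with ⟨h, _⟩ | ⟨_, h | h⟩
  · exact absurd one_sq_mulChar h
  · refine ⟨(pairS (1 : MulChar F ℂ) one_sq_mulChar).2, ?_, ?_, Or.inl ⟨h.symm, rfl⟩⟩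
    · rw [hpair, ← h]
    · rw [hpair, ← h] at hone
      simp only [Pi.add_apply, trivS] at hone
      linear_combination hone
  · refine ⟨(pairS (1 : MulChar F ℂ) one_sq_mulChar).1, ?_, ?_, Or.inr ⟨h.symm, rfl⟩⟩
    · rw [hpair, ← h, add_comm]
    · rw [hpair, ← h] at hone
      simp only [Pi.add_apply, trivS] at hone
      linear_combination hone

/-- The Steinberg character of `SL₂`. -/
noncomputable def stS [Fintype F] [DecidableEq F] : IrrCharacter S2 :=
  Classical.choose (exists_stS (F := F))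

theorem psS_one_eq [Fintype F] [DecidableEq F] :
    psS (1 : MulChar F ℂ) = trivS + (stS (F := F) : S2 → ℂ) :=
  (Classical.choose_spec (exists_stS (F := F))).1

theorem stS_one [Fintype F] [DecidableEq F] :
    (stS (F := F) : S2 → ℂ) 1 = (Fintype.card F : ℂ) :=
  (Classical.choose_spec (exists_stS (F := F))).2.1

theorem pairS_one_cases [Fintype F] [DecidableEq F] :
    ((((pairS (1 : MulChar F ℂ) one_sq_mulChar).1 : S2 → ℂ) = trivS ∧
        (pairS (1 : MulChar F ℂ) one_sq_mulChar).2 = stS) ∨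
       (((pairS (1 : MulChar F ℂ) one_sq_mulChar).2 : S2 → ℂ) = trivS ∧
        (pairS (1 : MulChar F ℂ) one_sq_mulChar).1 = stS)) :=
  (Classical.choose_spec (exists_stS (F := F))).2.2

theorem stS_apply [Fintype F] [DecidableEq F] (g : S2) :
    (stS (F := F) : S2 → ℂ) g = psS (1 : MulChar F ℂ) g - 1 := by
  have := congrFun (psS_one_eq (F := F)) g
  simp only [Pi.add_apply, trivS] at this
  rw [this]; ring

/-- `f p₁ + f p₂` for the constituents of `psS 1`. -/
theorem pairS_one_sum [Fintype F] [DecidableEq F] (f : (S2 → ℂ) → ℂ) :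
    f ((pairS (1 : MulChar F ℂ) one_sq_mulChar).1 : S2 → ℂ) +
      f ((pairS (1 : MulChar F ℂ) one_sq_mulChar).2 : S2 → ℂ) =
      f trivS + f (stS (F := F) : S2 → ℂ) := by
  rcases pairS_one_cases (F := F) with ⟨h1, h2⟩ | ⟨h1, h2⟩
  · rw [h1, h2]
  · rw [h1, h2, add_comm]

/-- Principal series functions of `SL₂` vanish on elements without eigenvectors. -/
theorem psS_no_eigen [Fintype F] [DecidableEq F] (α : MulChar F ℂ) (g : S2)
    (h : ∀ (c : F) (v : Fin 2 → F), v ≠ 0 → (g : Matrix (Fin 2) (Fin 2) F).mulVec v ≠ c • v) :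
    psS α g = 0 := by
  have h1 : (g : Matrix (Fin 2) (Fin 2) F) 1 0 ≠ 0 :=
    ne_zero_of_no_eigen (Matrix.SpecialLinearGroup.toGL g) h
  have h2 : ∀ s : F, (g : Matrix (Fin 2) (Fin 2) F) 1 0 * s ^ 2 +
      ((g : Matrix (Fin 2) (Fin 2) F) 1 1 - (g : Matrix (Fin 2) (Fin 2) F) 0 0) * s -
      (g : Matrix (Fin 2) (Fin 2) F) 0 1 ≠ 0 :=
    quad_ne_zero_of_no_eigen (Matrix.SpecialLinearGroup.toGL g) h
  rw [psS, indFun_borelChar]
  rw [if_neg h1]
  simp only [if_neg (h2 _)]
  simp

theorem psS_borelMkSL [Fintype F] [DecidableEq F] (β : MulChar F ℂ) (u : Fˣ) (r : F) :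
    psS β (borelMkSL u r) =
      β (u : F) + ∑ s : F, (if r = (((u⁻¹ : Fˣ) : F) - (u : F)) * s then β ((u⁻¹ : Fˣ) : F) else 0) :=
  indFun_borelChar_borelMk β u r

/-- Value of the principal series at a non-semisimple upper triangular element. -/
theorem psS_unip [Fintype F] [DecidableEq F] (β : MulChar F ℂ) {u : Fˣ}
    (hu : (u : F) = ((u⁻¹ : Fˣ) : F)) {r : F} (hr : r ≠ 0) :
    psS β (borelMkSL u r) = β (u : F) := by
  rw [psS_borelMkSL]
  have : ∀ s : F, ¬ (r = (((u⁻¹ : Fˣ) : F) - (u : F)) * s) := by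
    intro s h
    rw [← hu, sub_self, zero_mul] at h
    exact hr h
  simp only [if_neg (this _)]
  simp

/-- Value of the principal series at a split regular diagonal element. -/
theorem psS_split [Fintype F] [DecidableEq F] (β : MulChar F ℂ) {u : Fˣ}
    (hu : (u : F) ≠ ((u⁻¹ : Fˣ) : F)) :
    psS β (borelMkSL u 0) = β (u : F) + β ((u⁻¹ : Fˣ) : F) := by
  rw [psS_borelMkSL]
  congr 1
  rw [Finset.sum_eq_single (0 : F)]
  · simp
  · intro s _ hs
    rw [if_neg]
    intro h0
    have hne : ((u⁻¹ : Fˣ) : F) - u ≠ 0 := sub_ne_zero.2 (Ne.symm hu)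
    rcases mul_eq_zero.1 h0.symm with h1 | h1
    · exact hne h1
    · exact hs h1
  · intro h; exact absurd (Finset.mem_univ _) h

theorem card_sl2_cast [Fintype F] :
    (Nat.card S2 : ℂ) = ((Fintype.card F : ℂ) + 1) * (((Fintype.card F : ℂ) - 1) * Fintype.card F) := by
  classical
  rw [Cfsg.Agent.S2301.card_sl2]
  have : 1 ≤ Fintype.card F := Fintype.card_pos
  push_cast [Nat.cast_sub this]
  ring

theorem eq_borelMkSL_of_upper (g : S2) (h10 : (g : Matrix (Fin 2) (Fin 2) F) 1 0 = 0) :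
    ∃ u : Fˣ, (u : F) = (g : Matrix (Fin 2) (Fin 2) F) 0 0 ∧
      ((u⁻¹ : Fˣ) : F) = (g : Matrix (Fin 2) (Fin 2) F) 1 1 ∧
      g = borelMkSL u ((g : Matrix (Fin 2) (Fin 2) F) 0 1) := by
  have hdet := g.2
  rw [Matrix.det_fin_two, h10, mul_zero, sub_zero] at hdet
  refine ⟨Units.mkOfMulEqOne _ _ hdet, rfl, rfl, ?_⟩
  · apply Subtype.ext
    rw [borelMkSL_coe]
    ext i j
    fin_cases i <;> fin_cases j
    · simp
    · simp
    · simp [h10]
    · simp
      exact (inv_eq_of_mul_eq_one_right hdet).symm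

end Cfsg.Agent.Helper12
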