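import Mathlib
import Cfsg.Agent.Helper12.SL2Table
import Cfsg.Agent.S2325
import Cfsg.Agent.S2307

set_option autoImplicit false

open scoped ComplexConjugate

namespace Cfsg.Agent.Helper12

open Cfsg Cfsg.Agent.Helper8 Cfsg.Agent.Helper24

variable {F : Type*} [Field F]

local notation "S2" => Matrix.SpecialLinearGroup (Fin 2) F
local notation "G2" => Matrix.GeneralLinearGroup (Fin 2) F

theorem ringChar_ne_two_of_odd [Fintype F] (hodd : Odd (Fintype.card F)) : ringChar F ≠ 2 := by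
  intro h
  have := FiniteField.even_card_of_char_two h
  rw [Nat.odd_iff] at hodd
  omega

/-- The quadratic character as a complex multiplicative character. -/
noncomputable def sgnC [Fintype F] [DecidableEq F] : MulChar F ℂ :=
  (quadraticChar F).ringHomComp (Int.castRingHom ℂ)

theorem sgnC_apply [Fintype F] [DecidableEq F] (a : F) :
    sgnC a = ((quadraticChar F a : ℤ) : ℂ) := rfl

theorem sgnC_sq [Fintype F] [DecidableEq F] : (sgnC (F := F)) ^ 2 = 1 :=
  ((quadraticChar_isQuadratic F).comp _).sq_eq_one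

theorem sgnC_ne_one [Fintype F] [DecidableEq F] (hF : ringChar F ≠ 2) : sgnC (F := F) ≠ 1 := by
  obtain ⟨a, ha⟩ := quadraticChar_exists_neg_one' hF
  intro h
  have h1 := congrArg (fun χ : MulChar F ℂ => χ (a : F)) h
  simp only [sgnC_apply, ha, MulChar.one_apply_coe] at h1
  norm_num at h1

theorem exists_sq_mul_of_not_isSquare [Fintype F] [DecidableEq F] {ε r : F}
    (hε : ¬ IsSquare ε) (hr : ¬ IsSquare r) : ∃ t : F, t ≠ 0 ∧ r = ε * t ^ 2 := by
  have hε0 : ε ≠ 0 := by
    rintro rfl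
    exact hε ⟨0, by simp⟩
  have hr0 : r ≠ 0 := by
    rintro rfl
    exact hr ⟨0, by simp⟩
  have h1 : quadraticChar F r = -1 := quadraticChar_neg_one_iff_not_isSquare.2 hr
  have h2 : quadraticChar F ε = -1 := quadraticChar_neg_one_iff_not_isSquare.2 hε
  have h3 : quadraticChar F (r * ε⁻¹) = 1 := by
    have h4 : quadraticChar F (ε⁻¹) * quadraticChar F ε = 1 := by
      rw [← map_mul, inv_mul_cancel₀ hε0, map_one]
    rw [h2] at h4
    have h5 : quadraticChar F (ε⁻¹) = -1 := by linarith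
    rw [map_mul, h1, h5]; norm_num
  have hne : r * ε⁻¹ ≠ 0 := mul_ne_zero hr0 (inv_ne_zero hε0)
  obtain ⟨t, ht⟩ := (quadraticChar_one_iff_isSquare hne).1 h3
  have ht0 : t ≠ 0 := by
    rintro rfl
    exact hne (by rw [ht, mul_zero])
  refine ⟨t, ht0, ?_⟩
  rw [pow_two, ← ht]; field_simp

/-- In odd characteristic the only characters of square one are `1` and the quadratic character. -/
theorem mulChar_sq_eq_one_odd [Fintype F] [DecidableEq F] (α : MulChar F ℂ)
    (h : α ^ 2 = 1) : α = 1 ∨ α = sgnC := by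
  by_cases h1 : α = 1
  · left; exact h1
  · right
    have hsq : ∀ a : Fˣ, α (a : F) ^ 2 = 1 := by
      intro a
      rw [← MulChar.pow_apply_coe, h, MulChar.one_apply_coe]
    obtain ⟨ε, hε⟩ := MulChar.ne_one_iff.1 h1
    have hε1 : α (ε : F) = -1 := by
      rcases sq_eq_one_iff.1 (hsq ε) with h' | h'
      · exact absurd h' hε
      · exact h'
      
    have hεns : ¬ IsSquare (ε : F) := by
      rintro ⟨t, ht⟩
      have ht0 : t ≠ 0 := by
        rintro rfl
        exact Units.ne_zero ε (by rw [ht, mul_zero])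
      have := hsq (Units.mk0 t ht0)
      rw [Units.val_mk0, pow_two, ← map_mul, ← ht] at this
      exact hε this
    apply MulChar.ext
    intro a
    by_cases ha : IsSquare (a : F)
    · rw [sgnC_apply, (quadraticChar_one_iff_isSquare (Units.ne_zero a)).2 ha]
      obtain ⟨t, ht⟩ := ha
      have ht0 : t ≠ 0 := by
        rintro rfl
        exact Units.ne_zero a (by rw [ht, mul_zero])
      have := hsq (Units.mk0 t ht0)
      rw [Units.val_mk0, pow_two, ← map_mul, ← ht] at this
      rw [this]; simp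
    · rw [sgnC_apply, quadraticChar_neg_one_iff_not_isSquare.2 ha]
      obtain ⟨t, ht0, ht⟩ := exists_sq_mul_of_not_isSquare hεns ha
      have := hsq (Units.mk0 t ht0)
      rw [Units.val_mk0] at this
      rw [ht, map_mul, map_pow, this, hε1]
      simp

/-- The two constituents of the principal series attached to the quadratic character have
degree `(q + 1) / 2` and are conjugate under `GL₂`. -/
theorem pairS_sgn_spec [Fintype F] [DecidableEq F] (hodd : Odd (Fintype.card F)) :
    ((pairS (sgnC (F := F)) sgnC_sq).1 : S2 → ℂ) 1 = (((Fintype.card F + 1) / 2 : ℕ) : ℂ) ∧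
    ((pairS (sgnC (F := F)) sgnC_sq).2 : S2 → ℂ) 1 = (((Fintype.card F + 1) / 2 : ℕ) : ℂ) ∧
    ∃ x : G2, ∀ g h : S2, Matrix.SpecialLinearGroup.toGL h =
      x * Matrix.SpecialLinearGroup.toGL g * x⁻¹ →
      ((pairS (sgnC (F := F)) sgnC_sq).2 : S2 → ℂ) h =
        ((pairS (sgnC (F := F)) sgnC_sq).1 : S2 → ℂ) g := by
  classical
  have hF := ringChar_ne_two_of_odd hodd
  obtain ⟨χ₁, χ₂, h1, h2, hne, hsum, hd1, hd2, x, hx⟩ :=
    Cfsg.Agent.S2307.result hodd (sgnC (F := F)) sgnC_sq (sgnC_ne_one hF)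
  have hsum' : psS (sgnC (F := F)) = χ₁ + χ₂ := hsum
  set p := pairS (sgnC (F := F)) sgnC_sq with hp
  have hp12 : p.1 ≠ p.2 := pairS_ne _ _
  have hpsum : psS (sgnC (F := F)) = (p.1 : S2 → ℂ) + (p.2 : S2 → ℂ) := psS_eq_pair _ _
  -- χ₁ is one of the p's
  have hmem : ∀ χ : S2 → ℂ, IsIrrCharacter S2 χ → classInner (psS (sgnC (F := F))) χ ≠ 0 →
      χ = (p.1 : S2 → ℂ) ∨ χ = (p.2 : S2 → ℂ) := by
    intro χ hχ hne0
    rcases irr_of_classInner_psS_ne_zero χ hχ _ hne0 with ⟨h, _⟩ | ⟨_, h⟩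
    · exact absurd sgnC_sq h
    · exact h
  have hc1 : classInner (psS (sgnC (F := F))) χ₁ ≠ 0 := by
    rw [hsum', Helper24.classInner_add_left, classInner_of_isIrrCharacter h1 h1,
      classInner_of_isIrrCharacter h2 h1, if_pos rfl, if_neg (Ne.symm hne)]
    norm_num
  have hc2 : classInner (psS (sgnC (F := F))) χ₂ ≠ 0 := by
    rw [hsum', Helper24.classInner_add_left, classInner_of_isIrrCharacter h1 h2,
      classInner_of_isIrrCharacter h2 h2, if_pos rfl, if_neg hne]
    norm_num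
  have hp12' : (p.1 : S2 → ℂ) ≠ (p.2 : S2 → ℂ) := fun h => hp12 (Subtype.ext h)
  rcases hmem χ₁ h1 hc1 with e1 | e1
  · rcases hmem χ₂ h2 hc2 with e2 | e2
    · exact absurd (e1.trans e2.symm) hne
    · refine ⟨by rw [← e1]; exact hd1, by rw [← e2]; exact hd2, x, ?_⟩
      intro g h hgh
      rw [← e1, ← e2]
      exact hx g h hgh
  · rcases hmem χ₂ h2 hc2 with e2 | e2
    · refine ⟨by rw [← e2]; exact hd2, by rw [← e1]; exact hd1, x⁻¹, ?_⟩
      intro g h hgh
      rw [← e1, ← e2]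
      refine (hx h g ?_).symm
      rw [hgh]
      group
    · exact absurd (e1.trans e2.symm) hne

theorem card_irr_sl2_odd [Fintype F] (hodd : Odd (Fintype.card F)) [Fintype (IrrCharacter S2)] :
    (Fintype.card (IrrCharacter S2) : ℂ) = (Fintype.card F : ℂ) + 4 := by
  rw [← Nat.card_eq_fintype_card, card_irr_eq_card_conjClasses, Cfsg.Agent.S2325.result hodd]
  push_cast
  ring

/-- The master identity for functions of the degree, `q` odd. -/
theorem irr_sum_degreeS_odd [Fintype F] [DecidableEq F] (hodd : Odd (Fintype.card F))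
    [Fintype (IrrCharacter S2)] (g : ℂ → ℂ) [∀ χ : S2 → ℂ, Decidable (IsCuspS χ)] :
    2 * ∑ χ : IrrCharacter S2, g ((χ : S2 → ℂ) 1) =
      2 * ∑ χ : IrrCharacter S2, (if IsCuspS (χ : S2 → ℂ) then g ((χ : S2 → ℂ) 1) else 0) +
      (2 * (g 1 + g (Fintype.card F)) + 4 * g (((Fintype.card F + 1) / 2 : ℕ) : ℂ) +
        ((Fintype.card F : ℂ) - 3) * g ((Fintype.card F : ℂ) + 1)) := by
  classical
  have hF := ringChar_ne_two_of_odd hodd
  have : Fintype (MulChar F ℂ) := Fintype.ofFinite _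
  have h := irr_sum_decompS (F := F) (fun χ => g (χ 1))
  rw [h]
  congr 1
  have hs1 : (sgnC (F := F)) ∈ Finset.univ.erase (1 : MulChar F ℂ) :=
    Finset.mem_erase.2 ⟨sgnC_ne_one hF, Finset.mem_univ _⟩
  rw [← Finset.add_sum_erase _ _ (Finset.mem_univ (1 : MulChar F ℂ)), dif_pos one_sq_mulChar,
    ← Finset.add_sum_erase _ _ hs1, dif_pos sgnC_sq]
  rw [pairS_one_sum (fun χ => g (χ 1))]
  have e1 : (trivS (F := F)) 1 = 1 := rfl
  obtain ⟨hd1, hd2, _⟩ := pairS_sgn_spec hodd
  rw [e1, stS_one, hd1, hd2]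
  have e2 : ∀ α ∈ (Finset.univ.erase (1 : MulChar F ℂ)).erase sgnC,
      (if h : α ^ 2 = 1 then 2 * (g (((pairS α h).1 : S2 → ℂ) 1) + g (((pairS α h).2 : S2 → ℂ) 1))
        else g (psS α 1)) = g ((Fintype.card F : ℂ) + 1) := by
    intro α hα
    have hne2 : α ≠ sgnC := Finset.ne_of_mem_erase hα
    have hne1 : α ≠ 1 := Finset.ne_of_mem_erase (Finset.mem_of_mem_erase hα)
    have : ¬ (α ^ 2 = 1) := by
      intro h
      rcases mulChar_sq_eq_one_odd α h with h' | h'
      · exact hne1 h'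
      · exact hne2 h'
    rw [dif_neg this, psS_one]
  rw [Finset.sum_congr rfl e2, Finset.sum_const, Finset.card_erase_of_mem hs1,
    Finset.card_erase_of_mem (Finset.mem_univ _),
    Finset.card_univ, nsmul_eq_mul, ← Nat.card_eq_fintype_card (α := MulChar F ℂ), card_mulChar]
  have hq : 3 ≤ Fintype.card F := by
    have : 1 < Fintype.card F := Fintype.one_lt_card
    rcases hodd with ⟨k, hk⟩
    omega
  have : Fintype.card F - 1 - 1 - 1 = Fintype.card F - 3 := by omega
  rw [this]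
  push_cast [Nat.cast_sub hq]
  ring

theorem two_mul_card_cuspS_odd [Fintype F] [DecidableEq F] (hodd : Odd (Fintype.card F))
    [Fintype (IrrCharacter S2)] [∀ χ : S2 → ℂ, Decidable (IsCuspS χ)] :
    2 * ∑ χ : IrrCharacter S2, (if IsCuspS (χ : S2 → ℂ) then (1 : ℂ) else 0) =
      (Fintype.card F : ℂ) + 3 := by
  have h := irr_sum_degreeS_odd hodd (F := F) (fun _ => (1 : ℂ))
  simp only [Finset.sum_const, Finset.card_univ, nsmul_eq_mul, mul_one, card_irr_sl2_odd hodd] at h
  linear_combination -h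

omit [Field F] in
theorem half_cast_odd [Fintype F] (hodd : Odd (Fintype.card F)) :
    2 * (((Fintype.card F + 1) / 2 : ℕ) : ℂ) = (Fintype.card F : ℂ) + 1 ∧
    2 * (((Fintype.card F - 1) / 2 : ℕ) : ℂ) = (Fintype.card F : ℂ) - 1 := by
  obtain ⟨k, hk⟩ := hodd
  have h1 : (Fintype.card F + 1) / 2 = k + 1 := by omega
  have h2 : (Fintype.card F - 1) / 2 = k := by omega
  rw [h1, h2, hk]
  push_cast
  constructor <;> ring

theorem two_mul_sum_sq_cuspS_odd [Fintype F] [DecidableEq F] (hodd : Odd (Fintype.card F))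
    [Fintype (IrrCharacter S2)] [∀ χ : S2 → ℂ, Decidable (IsCuspS χ)] :
    2 * ∑ χ : IrrCharacter S2, (if IsCuspS (χ : S2 → ℂ) then ((χ : S2 → ℂ) 1) ^ 2 else 0) =
      (Fintype.card F : ℂ) * ((Fintype.card F : ℂ) - 1) ^ 2 := by
  have h := irr_sum_degreeS_odd hodd (F := F) (fun x => x ^ 2)
  rw [sum_sq_irr_one, card_sl2_cast] at h
  have h2 := (half_cast_odd hodd).1
  have h3 : 4 * ((((Fintype.card F + 1) / 2 : ℕ) : ℂ)) ^ 2 = ((Fintype.card F : ℂ) + 1) ^ 2 := by
    rw [← h2]; ring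
  linear_combination -h - h3

/-- Dichotomy for the cuspidal irreducible characters of `SL₂(q)`, `q` odd. -/
theorem cuspS_dichotomy_odd [Fintype F] [DecidableEq F] (hodd : Odd (Fintype.card F)) {ε : F}
    (hε : ¬ IsSquare ε) (χ : S2 → ℂ) (hχ : IsIrrCharacter S2 χ) (hc : IsCuspS χ) :
    (χ 1 = (Fintype.card F : ℂ) - 1 ∧
      χ (borelMkSL (1 : Fˣ) 1) + χ (borelMkSL (1 : Fˣ) ε) = -2) ∨
    (2 * χ 1 = (Fintype.card F : ℂ) - 1 ∧
      χ (borelMkSL (1 : Fˣ) 1) + χ (borelMkSL (1 : Fˣ) ε) = -1) := by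
  have hF := ringChar_ne_two_of_odd hodd
  obtain ⟨m, hm0, hm1, hm2⟩ := cuspS_degree_odd hF hε χ hχ hc
  obtain ⟨d, hd, hdle⟩ := cuspS_degree_le χ hχ hc
  have hq1 : 1 < Fintype.card F := Fintype.one_lt_card
  have hcast : ((Fintype.card F - 1 : ℕ) : ℂ) = (Fintype.card F : ℂ) - 1 := by
    push_cast [Nat.cast_sub hq1.le]; ring
  have h1 : 2 * d = m * (Fintype.card F - 1) := by
    have : ((2 * d : ℕ) : ℂ) = ((m * (Fintype.card F - 1) : ℕ) : ℂ) := by
      push_cast [Nat.cast_sub hq1.le]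
      rw [← hd, hm1]
    exact_mod_cast this
  have hm2' : m ≤ 2 := by
    have : m * (Fintype.card F - 1) ≤ 2 * (Fintype.card F - 1) := by
      rw [← h1]; omega
    exact Nat.le_of_mul_le_mul_right this (by omega)
  interval_cases m
  · right
    refine ⟨?_, ?_⟩
    · rw [hm1]; push_cast; ring
    · rw [hm2]; push_cast; ring
  · left
    refine ⟨?_, ?_⟩
    · have : 2 * χ 1 = 2 * ((Fintype.card F : ℂ) - 1) := by rw [hm1]; push_cast; ring
      exact mul_left_cancel₀ two_ne_zero this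
    · rw [hm2]; push_cast; ring

/-- The numbers of cuspidal characters of the two possible degrees. -/
theorem cusp_counts_odd [Fintype F] [DecidableEq F] (hodd : Odd (Fintype.card F))
    [Fintype (IrrCharacter S2)] [∀ χ : S2 → ℂ, Decidable (IsCuspS χ)] :
    2 * ∑ χ : IrrCharacter S2, (if IsCuspS (χ : S2 → ℂ) then
      (if (χ : S2 → ℂ) 1 = (Fintype.card F : ℂ) - 1 then (1 : ℂ) else 0) else 0) =
      (Fintype.card F : ℂ) - 1 ∧
    ∑ χ : IrrCharacter S2, (if IsCuspS (χ : S2 → ℂ) then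
      (if (χ : S2 → ℂ) 1 = (Fintype.card F : ℂ) - 1 then (0 : ℂ) else 1) else 0) = 2 := by
  have hF := ringChar_ne_two_of_odd hodd
  obtain ⟨ε, hε⟩ := FiniteField.exists_nonsquare hF
  have hq1 := card_sub_one_ne_zero (F := F)
  set A := ∑ χ : IrrCharacter S2, (if IsCuspS (χ : S2 → ℂ) then
      (if (χ : S2 → ℂ) 1 = (Fintype.card F : ℂ) - 1 then (1 : ℂ) else 0) else 0) with hA
  set B := ∑ χ : IrrCharacter S2, (if IsCuspS (χ : S2 → ℂ) then
      (if (χ : S2 → ℂ) 1 = (Fintype.card F : ℂ) - 1 then (0 : ℂ) else 1) else 0) with hB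
  have s1 := two_mul_card_cuspS_odd hodd (F := F)
  have s2 := two_mul_sum_sq_cuspS_odd hodd (F := F)
  have e1 : ∑ χ : IrrCharacter S2, (if IsCuspS (χ : S2 → ℂ) then (1 : ℂ) else 0) = A + B := by
    rw [hA, hB, ← Finset.sum_add_distrib]
    apply Finset.sum_congr rfl
    intro χ _
    by_cases hc : IsCuspS (χ : S2 → ℂ)
    · simp only [if_pos hc]
      split_ifs <;> ring
    · simp only [if_neg hc]; ring
  have e2 : ∑ χ : IrrCharacter S2, (if IsCuspS (χ : S2 → ℂ) then ((χ : S2 → ℂ) 1) ^ 2 else 0) =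
      ((Fintype.card F : ℂ) - 1) ^ 2 * A + ((Fintype.card F : ℂ) - 1) ^ 2 / 4 * B := by
    rw [hA, hB, Finset.mul_sum, Finset.mul_sum, ← Finset.sum_add_distrib]
    apply Finset.sum_congr rfl
    intro χ _
    by_cases hc : IsCuspS (χ : S2 → ℂ)
    · simp only [if_pos hc]
      rcases cuspS_dichotomy_odd hodd hε _ χ.2 hc with ⟨h, _⟩ | ⟨h, _⟩
      · rw [if_pos h, if_pos h, h]; ring
      · have hne : ¬ ((χ : S2 → ℂ) 1 = (Fintype.card F : ℂ) - 1) := by
          intro h'
          rw [h'] at h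
          apply hq1
          linear_combination h
        rw [if_neg hne, if_neg hne]
        have : (χ : S2 → ℂ) 1 = ((Fintype.card F : ℂ) - 1) / 2 := by
          field_simp
          linear_combination h
        rw [this]; ring
    · simp only [if_neg hc]; ring
  rw [e1] at s1
  rw [e2] at s2
  have h3 : ((Fintype.card F : ℂ) - 1) ^ 2 * (2 * A + B / 2) =
      ((Fintype.card F : ℂ) - 1) ^ 2 * (Fintype.card F : ℂ) := by
    linear_combination s2
  have h4 := mul_left_cancel₀ (pow_ne_zero 2 hq1) h3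
  constructor
  · linear_combination (4 / 3 : ℂ) * h4 - (1 / 3 : ℂ) * s1
  · linear_combination (2 / 3 : ℂ) * s1 - (2 / 3 : ℂ) * h4

/-- Number of cuspidal characters of a given degree, `q` odd. -/
theorem cusp_degree_count_odd [Fintype F] [DecidableEq F] (hodd : Odd (Fintype.card F))
    [Fintype (IrrCharacter S2)] [∀ χ : S2 → ℂ, Decidable (IsCuspS χ)] (c : ℂ) :
    2 * ∑ χ : IrrCharacter S2, (if IsCuspS (χ : S2 → ℂ) then
      (if (χ : S2 → ℂ) 1 = c then (1 : ℂ) else 0) else 0) =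
      (if c = (Fintype.card F : ℂ) - 1 then (Fintype.card F : ℂ) - 1 else 0) +
      (if 2 * c = (Fintype.card F : ℂ) - 1 then 4 else 0) := by
  have hF := ringChar_ne_two_of_odd hodd
  obtain ⟨ε, hε⟩ := FiniteField.exists_nonsquare hF
  have hq1 := card_sub_one_ne_zero (F := F)
  obtain ⟨hA, hB⟩ := cusp_counts_odd hodd (F := F)
  by_cases h1 : c = (Fintype.card F : ℂ) - 1
  · have h2 : ¬ (2 * c = (Fintype.card F : ℂ) - 1) := by
      intro h
      rw [h1] at h
      apply hq1
      linear_combination h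
    rw [if_pos h1, if_neg h2, add_zero, h1]
    exact hA
  · rw [if_neg h1, zero_add]
    by_cases h2 : 2 * c = (Fintype.card F : ℂ) - 1
    · rw [if_pos h2]
      have : ∑ χ : IrrCharacter S2, (if IsCuspS (χ : S2 → ℂ) then
          (if (χ : S2 → ℂ) 1 = c then (1 : ℂ) else 0) else 0) = 2 := by
        rw [← hB]
        apply Finset.sum_congr rfl
        intro χ _
        by_cases hc : IsCuspS (χ : S2 → ℂ)
        · simp only [if_pos hc]
          rcases cuspS_dichotomy_odd hodd hε _ χ.2 hc with ⟨h, _⟩ | ⟨h, _⟩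
          · rw [if_pos h, if_neg]
            rw [h]; exact fun h' => h1 h'.symm
          · have hne : ¬ ((χ : S2 → ℂ) 1 = (Fintype.card F : ℂ) - 1) := by
              intro h'
              rw [h'] at h
              apply hq1
              linear_combination h
            rw [if_neg hne, if_pos]
            have : 2 * (χ : S2 → ℂ) 1 = 2 * c := by rw [h, h2]
            exact mul_left_cancel₀ two_ne_zero this
        · simp only [if_neg hc]
      rw [this]; norm_num
    · rw [if_neg h2]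
      rw [Finset.sum_eq_zero, mul_zero]
      intro χ _
      by_cases hc : IsCuspS (χ : S2 → ℂ)
      · rw [if_pos hc]
        rcases cuspS_dichotomy_odd hodd hε _ χ.2 hc with ⟨h, _⟩ | ⟨h, _⟩
        · rw [if_neg]
          rw [h]; exact fun h' => h1 h'.symm
        · rw [if_neg]
          intro h'
          apply h2
          rw [← h', h]
      · rw [if_neg hc]

/-- **Classification of the irreducible characters of `SL₂(q)`, `q` odd.** -/
theorem sl2_odd_irr_cases [Fintype F] [DecidableEq F] (hodd : Odd (Fintype.card F)) {ε : F}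
    (hε : ¬ IsSquare ε) (χ : S2 → ℂ) (hχ : IsIrrCharacter S2 χ) :
    χ = trivS ∨ χ = (stS (F := F) : S2 → ℂ) ∨
    (∃ α : MulChar F ℂ, α ^ 2 ≠ 1 ∧ χ = psS α) ∨
    (χ = ((pairS (sgnC (F := F)) sgnC_sq).1 : S2 → ℂ) ∨
      χ = ((pairS (sgnC (F := F)) sgnC_sq).2 : S2 → ℂ)) ∨
    (IsCuspS χ ∧ ((χ 1 = (Fintype.card F : ℂ) - 1 ∧
      χ (borelMkSL (1 : Fˣ) 1) + χ (borelMkSL (1 : Fˣ) ε) = -2) ∨
    (2 * χ 1 = (Fintype.card F : ℂ) - 1 ∧
      χ (borelMkSL (1 : Fˣ) 1) + χ (borelMkSL (1 : Fˣ) ε) = -1))) := by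
  classical
  by_cases hc : IsCuspS χ
  · right; right; right; right
    exact ⟨hc, cuspS_dichotomy_odd hodd hε χ hχ hc⟩
  · unfold IsCuspS at hc
    push Not at hc
    obtain ⟨γ, hγ⟩ := hc
    rcases irr_of_classInner_psS_ne_zero χ hχ γ hγ with ⟨hγ2, h⟩ | ⟨hγ2, h⟩
    · right; right; left
      exact ⟨γ, hγ2, h⟩
    · rcases mulChar_sq_eq_one_odd γ hγ2 with hγ1 | hγ1
      · subst hγ1
        rcases pairS_one_cases (F := F) with ⟨h1, h2⟩ | ⟨h1, h2⟩
        · rcases h with h | h
          · left; rw [h]; exact h1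
          · right; left; rw [h]; exact congrArg Subtype.val h2
        · rcases h with h | h
          · right; left; rw [h]; exact congrArg Subtype.val h2
          · left; rw [h]; exact h1
      · subst hγ1
        right; right; right; left
        exact h

end Cfsg.Agent.Helper12
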