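import Mathlib
import Cfsg.Agent.Helper12.SL2TableOdd

set_option autoImplicit false

open scoped ComplexConjugate

namespace Cfsg.Agent.Helper12

open Cfsg Cfsg.Agent.Helper8 Cfsg.Agent.Helper24

variable {F : Type*} [Field F]

local notation "S2" => Matrix.SpecialLinearGroup (Fin 2) F

/-- The classification of the irreducible characters of `SL₂(q)`, `q = 2r + 5` odd, with the
degrees written as natural numbers. -/
theorem sl2_odd_cases_nat [Fintype F] [DecidableEq F] (hodd : Odd (Fintype.card F)) (r : ℕ)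
    (hr : Fintype.card F = 2 * r + 5) {ε : F} (hε : ¬ IsSquare ε) (χ : S2 → ℂ)
    (hχ : IsIrrCharacter S2 χ) :
    (χ = trivS ∧ χ 1 = ((1 : ℕ) : ℂ)) ∨
    (χ = (stS (F := F) : S2 → ℂ) ∧ χ 1 = ((2 * r + 5 : ℕ) : ℂ)) ∨
    (∃ α : MulChar F ℂ, α ^ 2 ≠ 1 ∧ χ = psS α ∧ χ 1 = ((2 * r + 6 : ℕ) : ℂ)) ∨
    ((χ = ((pairS (sgnC (F := F)) sgnC_sq).1 : S2 → ℂ) ∨
      χ = ((pairS (sgnC (F := F)) sgnC_sq).2 : S2 → ℂ)) ∧ χ 1 = ((r + 3 : ℕ) : ℂ)) ∨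
    (IsCuspS χ ∧ χ 1 = ((2 * r + 4 : ℕ) : ℂ) ∧
      χ (borelMkSL (1 : Fˣ) 1) + χ (borelMkSL (1 : Fˣ) ε) = -2) ∨
    (IsCuspS χ ∧ χ 1 = ((r + 2 : ℕ) : ℂ) ∧
      χ (borelMkSL (1 : Fˣ) 1) + χ (borelMkSL (1 : Fˣ) ε) = -1) := by
  have c2 : (Fintype.card F : ℂ) = ((2 * r + 5 : ℕ) : ℂ) := by rw [hr]
  have e1 : (Fintype.card F + 1) / 2 = r + 3 := by omega
  rcases sl2_odd_irr_cases hodd hε χ hχ with rfl | rfl | ⟨α, hα, rfl⟩ | h | ⟨hc, ⟨h1, h2⟩ | ⟨h1, h2⟩⟩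
  · left
    exact ⟨rfl, by simp [trivS]⟩
  · right; left
    exact ⟨rfl, by rw [stS_one, c2]⟩
  · right; right; left
    exact ⟨α, hα, rfl, by rw [psS_one, c2]; push_cast; ring⟩
  · right; right; right; left
    refine ⟨h, ?_⟩
    rcases h with rfl | rfl
    · rw [(pairS_sgn_spec hodd).1, e1]
    · rw [(pairS_sgn_spec hodd).2.1, e1]
  · right; right; right; right; left
    exact ⟨hc, by rw [h1, c2]; push_cast; ring, h2⟩
  · right; right; right; right; right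
    refine ⟨hc, ?_, h2⟩
    have : 2 * χ 1 = 2 * ((r + 2 : ℕ) : ℂ) := by rw [h1, c2]; push_cast; ring
    exact mul_left_cancel₀ two_ne_zero this

end Cfsg.Agent.Helper12
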