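import Mathlib
import Cfsg.Agent.Helper12.SL2Table
import Cfsg.Agent.S2331

set_option autoImplicit false

open scoped ComplexConjugate

namespace Cfsg.Agent.Helper12

open Cfsg Cfsg.Agent.Helper8 Cfsg.Agent.Helper24

variable {F : Type*} [Field F]

local notation "S2" => Matrix.SpecialLinearGroup (Fin 2) F

theorem even_card_of_charP_two [Fintype F] [CharP F 2] : Even (Fintype.card F) := by
  have := FiniteField.even_card_of_char_two (ringChar.eq F 2)
  exact Nat.even_iff.2 this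

theorem mulChar_sq_eq_one_even [Fintype F] [CharP F 2] (α : MulChar F ℂ) :
    α ^ 2 = 1 ↔ α = 1 := by
  constructor
  · intro h
    have h1 : α ^ Nat.card (MulChar F ℂ) = 1 := pow_card_eq_one'
    rw [card_mulChar] at h1
    obtain ⟨k, hk⟩ := even_card_of_charP_two (F := F)
    have hq : 1 ≤ Fintype.card F := Fintype.card_pos
    have h2 : Fintype.card F - 1 = 2 * (k - 1) + 1 := by omega
    rw [h2, pow_succ, pow_mul, h, one_pow, one_mul] at h1
    exact h1
  · rintro rfl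
    exact one_pow 2

theorem card_irr_sl2_even [Fintype F] [CharP F 2] [Fintype (IrrCharacter S2)] :
    (Fintype.card (IrrCharacter S2) : ℂ) = (Fintype.card F : ℂ) + 1 := by
  rw [← Nat.card_eq_fintype_card, card_irr_eq_card_conjClasses, Cfsg.Agent.S2331.result]
  push_cast
  ring

/-- The master identity for functions of the degree, `q` even. -/
theorem irr_sum_degreeS_even [Fintype F] [DecidableEq F] [CharP F 2]
    [Fintype (IrrCharacter S2)] (g : ℂ → ℂ) [∀ χ : S2 → ℂ, Decidable (IsCuspS χ)] :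
    2 * ∑ χ : IrrCharacter S2, g ((χ : S2 → ℂ) 1) =
      2 * ∑ χ : IrrCharacter S2, (if IsCuspS (χ : S2 → ℂ) then g ((χ : S2 → ℂ) 1) else 0) +
      (2 * (g 1 + g (Fintype.card F)) +
        ((Fintype.card F : ℂ) - 2) * g ((Fintype.card F : ℂ) + 1)) := by
  classical
  have : Fintype (MulChar F ℂ) := Fintype.ofFinite _
  have h := irr_sum_decompS (F := F) (fun χ => g (χ 1))
  rw [h]
  congr 1
  rw [← Finset.add_sum_erase _ _ (Finset.mem_univ (1 : MulChar F ℂ)), dif_pos one_sq_mulChar]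
  rw [pairS_one_sum (fun χ => g (χ 1))]
  have e1 : (trivS (F := F)) 1 = 1 := rfl
  rw [e1, stS_one]
  congr 1
  have e2 : ∀ α ∈ Finset.univ.erase (1 : MulChar F ℂ),
      (if h : α ^ 2 = 1 then 2 * (g (((pairS α h).1 : S2 → ℂ) 1) + g (((pairS α h).2 : S2 → ℂ) 1))
        else g (psS α 1)) = g ((Fintype.card F : ℂ) + 1) := by
    intro α hα
    have hne : α ≠ 1 := Finset.ne_of_mem_erase hα
    rw [dif_neg (fun h => hne ((mulChar_sq_eq_one_even α).1 h)), psS_one]
  rw [Finset.sum_congr rfl e2, Finset.sum_const, Finset.card_erase_of_mem (Finset.mem_univ _),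
    Finset.card_univ, nsmul_eq_mul, ← Nat.card_eq_fintype_card, card_mulChar]
  have hq : 2 ≤ Fintype.card F := Fintype.one_lt_card
  have : Fintype.card F - 1 - 1 = Fintype.card F - 2 := by omega
  rw [this]
  push_cast [Nat.cast_sub hq]
  ring

theorem two_mul_card_cuspS_even [Fintype F] [DecidableEq F] [CharP F 2]
    [Fintype (IrrCharacter S2)] [∀ χ : S2 → ℂ, Decidable (IsCuspS χ)] :
    2 * ∑ χ : IrrCharacter S2, (if IsCuspS (χ : S2 → ℂ) then (1 : ℂ) else 0) =
      (Fintype.card F : ℂ) := by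
  have h := irr_sum_degreeS_even (F := F) (fun _ => (1 : ℂ))
  simp only [Finset.sum_const, Finset.card_univ, nsmul_eq_mul, mul_one, card_irr_sl2_even] at h
  linear_combination -h

theorem two_mul_sum_sq_cuspS_even [Fintype F] [DecidableEq F] [CharP F 2]
    [Fintype (IrrCharacter S2)] [∀ χ : S2 → ℂ, Decidable (IsCuspS χ)] :
    2 * ∑ χ : IrrCharacter S2, (if IsCuspS (χ : S2 → ℂ) then ((χ : S2 → ℂ) 1) ^ 2 else 0) =
      (Fintype.card F : ℂ) * ((Fintype.card F : ℂ) - 1) ^ 2 := by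
  have h := irr_sum_degreeS_even (F := F) (fun x => x ^ 2)
  rw [sum_sq_irr_one, card_sl2_cast] at h
  linear_combination -h

/-- Cuspidal characters of `SL₂(q)`, `q` even, have degree `q - 1`. -/
theorem cuspS_degree_eq_even [Fintype F] [DecidableEq F] [CharP F 2] (χ : S2 → ℂ)
    (hχ : IsIrrCharacter S2 χ) (hc : IsCuspS χ) :
    χ 1 = (Fintype.card F : ℂ) - 1 ∧ χ (borelMkSL (1 : Fˣ) 1) = -1 := by
  classical
  have : Fintype (IrrCharacter S2) := Fintype.ofFinite _
  obtain ⟨r, hr⟩ : ∃ r : ℕ, Fintype.card F = r + 1 := ⟨Fintype.card F - 1, by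
    have : 1 ≤ Fintype.card F := Fintype.card_pos
    omega⟩
  have hrc : (Fintype.card F : ℂ) - 1 = (r : ℂ) := by rw [hr]; push_cast; ring
  have hr0 : 0 < r := by
    have : 1 < Fintype.card F := Fintype.one_lt_card
    omega
  have hdeg : ∀ ψ : IrrCharacter S2, ∃ d : ℕ, (ψ : S2 → ℂ) 1 = d ∧
      (IsCuspS (ψ : S2 → ℂ) → r ^ 2 ≤ d ^ 2 ∧ (d ^ 2 = r ^ 2 →
        (ψ : S2 → ℂ) 1 = (r : ℂ) ∧ (ψ : S2 → ℂ) (borelMkSL (1 : Fˣ) 1) = -1)) := by
    intro ψ
    by_cases hψc : IsCuspS (ψ : S2 → ℂ)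
    · obtain ⟨m, hm0, hm1, hm2⟩ := cuspS_degree_even _ ψ.2 hψc
      refine ⟨m * r, ?_, fun _ => ⟨?_, ?_⟩⟩
      · rw [hm1, hrc]; push_cast; ring
      · have : r ≤ m * r := Nat.le_mul_of_pos_left r hm0
        exact Nat.pow_le_pow_left this 2
      · intro h
        have h1 : m * r = r := Nat.pow_left_injective (n := 2) (by norm_num) h
        have hm : m = 1 := by
          have : m * r = 1 * r := by rw [h1, one_mul]
          exact Nat.eq_of_mul_eq_mul_right hr0 this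
        subst hm
        refine ⟨?_, ?_⟩
        · rw [hm1, hrc]; simp
        · rw [hm2]; simp
    · obtain ⟨d, _, hd⟩ := isIrrCharacter_one ψ.2
      exact ⟨d, hd, fun h => absurd h hψc⟩
  choose d hd1 hd2 using hdeg
  have s1 := two_mul_card_cuspS_even (F := F)
  have s2 := two_mul_sum_sq_cuspS_even (F := F)
  simp only [hd1] at s2
  rw [hrc] at s2
  have hq : (Fintype.card F : ℂ) = (r : ℂ) + 1 := by rw [hr]; push_cast; ring
  rw [hq] at s1 s2
  rw [← Finset.sum_filter] at s1 s2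
  have s1' : 2 * (Finset.univ.filter (fun ψ : IrrCharacter S2 => IsCuspS (ψ : S2 → ℂ))).card =
      r + 1 := by
    have : (2 * ((Finset.univ.filter (fun ψ : IrrCharacter S2 =>
        IsCuspS (ψ : S2 → ℂ))).card : ℂ)) = (r : ℂ) + 1 := by
      rw [← s1]; simp
    exact_mod_cast this
  have s2' : 2 * ∑ ψ ∈ Finset.univ.filter (fun ψ : IrrCharacter S2 => IsCuspS (ψ : S2 → ℂ)),
      d ψ ^ 2 = (r + 1) * r ^ 2 := by
    have : ((2 * ∑ ψ ∈ Finset.univ.filter (fun ψ : IrrCharacter S2 => IsCuspS (ψ : S2 → ℂ)),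
      d ψ ^ 2 : ℕ) : ℂ) = (((r + 1) * r ^ 2 : ℕ) : ℂ) := by
      push_cast
      rw [s2]
    exact_mod_cast this
  have s3 : ∑ ψ ∈ Finset.univ.filter (fun ψ : IrrCharacter S2 => IsCuspS (ψ : S2 → ℂ)),
      r ^ 2 = ∑ ψ ∈ Finset.univ.filter (fun ψ : IrrCharacter S2 => IsCuspS (ψ : S2 → ℂ)),
      d ψ ^ 2 := by
    rw [Finset.sum_const, smul_eq_mul]
    have : 2 * ((Finset.univ.filter (fun ψ : IrrCharacter S2 =>
        IsCuspS (ψ : S2 → ℂ))).card * r ^ 2) = 2 * ∑ ψ ∈ Finset.univ.filter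
        (fun ψ : IrrCharacter S2 => IsCuspS (ψ : S2 → ℂ)), d ψ ^ 2 := by
      rw [s2', ← mul_assoc, s1']
    omega
  have s4 := (Finset.sum_eq_sum_iff_of_le (fun ψ hψ => (hd2 ψ (Finset.mem_filter.1 hψ).2).1)).1 s3
  have hmem : (⟨χ, hχ⟩ : IrrCharacter S2) ∈
      Finset.univ.filter (fun ψ : IrrCharacter S2 => IsCuspS (ψ : S2 → ℂ)) :=
    Finset.mem_filter.2 ⟨Finset.mem_univ _, hc⟩
  have h5 := (hd2 ⟨χ, hχ⟩ hc).2 (s4 _ hmem).symm
  rw [hrc]
  exact h5

/-- **Classification of the irreducible characters of `SL₂(q)`, `q` even.** -/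
theorem sl2_even_irr_cases [Fintype F] [DecidableEq F] [CharP F 2] (χ : S2 → ℂ)
    (hχ : IsIrrCharacter S2 χ) :
    χ = trivS ∨ χ = (stS (F := F) : S2 → ℂ) ∨
    (∃ α : MulChar F ℂ, α ≠ 1 ∧ χ = psS α) ∨
    (IsCuspS χ ∧ χ 1 = (Fintype.card F : ℂ) - 1 ∧ χ (borelMkSL (1 : Fˣ) 1) = -1) := by
  classical
  by_cases hc : IsCuspS χ
  · right; right; right
    exact ⟨hc, cuspS_degree_eq_even χ hχ hc⟩
  · unfold IsCuspS at hc
    push Not at hc
    obtain ⟨γ, hγ⟩ := hc
    rcases irr_of_classInner_psS_ne_zero χ hχ γ hγ with ⟨hγ2, h⟩ | ⟨hγ2, h⟩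
    · right; right; left
      exact ⟨γ, fun h1 => hγ2 ((mulChar_sq_eq_one_even γ).2 h1), h⟩
    · have hγ1 : γ = 1 := (mulChar_sq_eq_one_even γ).1 hγ2
      subst hγ1
      rcases pairS_one_cases (F := F) with ⟨h1, h2⟩ | ⟨h1, h2⟩
      · rcases h with h | h
        · left; rw [h]; exact h1
        · right; left; rw [h]; exact congrArg Subtype.val h2
      · rcases h with h | h
        · right; left; rw [h]; exact congrArg Subtype.val h2
        · left; rw [h]; exact h1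

end Cfsg.Agent.Helper12
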