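import Mathlib
import Cfsg.Prelude.Def_Blocks
import Cfsg.Agent.Helper12.SL2TableEven
import Cfsg.Agent.Helper12.SL2OddCases
import Cfsg.Agent.Helper8.CharComp
import Cfsg.Agent.Helper24.CharBasic

set_option autoImplicit false

namespace Cfsg.Agent.Helper12

open Cfsg Cfsg.Agent.Helper8 Cfsg.Agent.Helper24

/-- An irreducible character with `N` in its kernel comes from `G ⧸ N`
(after `Helper23.PB.exists_irr_quotient`, restated here with light imports). -/
theorem exists_irr_quotient' {G : Type*} [Group G] [Finite G] (N : Subgroup G) [hN : N.Normal]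
    (χ : IrrCharacter G) (h : ∀ n ∈ N, (χ : G → ℂ) n = (χ : G → ℂ) 1) :
    ∃ ψ : IrrCharacter (G ⧸ N),
      ∀ g : G, (ψ : G ⧸ N → ℂ) (QuotientGroup.mk' N g) = (χ : G → ℂ) g := by
  obtain ⟨m, ρ, hρ, hχ⟩ := χ.2
  have hker : N ≤ MonoidHom.ker ρ := by
    intro n hn
    rw [MonoidHom.mem_ker]
    have h1 := h n hn
    rw [← hχ, Representation.char_one] at h1
    have := (char_eq_finrank_iff ρ n).mp h1
    rw [this]; rfl
  let ρ' : Representation ℂ (G ⧸ N) (Fin m → ℂ) := QuotientGroup.lift N ρ hker
  have hcomp : (MonoidHom.comp ρ' (QuotientGroup.mk' N) :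
      Representation ℂ G (Fin m → ℂ)) = ρ := by
    ext g v
    rfl
  have hρ' : ρ'.IsIrreducible := by
    have h1 : Representation.IsIrreducible (MonoidHom.comp ρ'
        (QuotientGroup.mk' N) : Representation ℂ G (Fin m → ℂ)) := by
      rw [hcomp]; exact hρ
    exact (OrderIso.isSimpleOrder_iff (Helper8.subrepCompOrderIso ρ'
      (QuotientGroup.mk' N) (QuotientGroup.mk'_surjective _))).mpr h1
  refine ⟨⟨ρ'.character, m, ρ', hρ', rfl⟩, ?_⟩
  intro g
  rw [← hχ]
  rfl

theorem charDegree_of_natCast {G : Type*} [Group G] {χ : G → ℂ} {n : ℕ} (h : χ 1 = (n : ℂ)) :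
    charDegree χ = n := by
  simp [charDegree, h]

/-- The value of an induced function at a central element. -/
theorem indFun_apply_central {G : Type*} [Group G] [Fintype G] (H : Subgroup G) (θ : H → ℂ)
    (z : G) (hz : z ∈ Subgroup.center G) :
    indFun H θ z = (Nat.card H : ℂ)⁻¹ * ((Fintype.card G : ℂ) * extendByZero H θ z) := by
  unfold indFun
  congr 1
  have : ∀ x : G, x⁻¹ * z * x = z := by
    intro x
    rw [Subgroup.mem_center_iff] at hz
    rw [mul_assoc, ← hz x, ← mul_assoc, inv_mul_cancel, one_mul]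
  simp only [this, Finset.sum_const, Finset.card_univ, nsmul_eq_mul]

variable {F : Type*} [Field F]

local notation "S2" => Matrix.SpecialLinearGroup (Fin 2) F

theorem center_le_borelSL : Subgroup.center S2 ≤ borelSL F := by
  intro z hz
  rw [mem_borelSL_iff]
  rw [Matrix.SpecialLinearGroup.mem_center_iff] at hz
  obtain ⟨r, _, hr⟩ := hz
  rw [← hr]
  simp

/-- The Steinberg character is constant on the centre. -/
theorem stS_central [Fintype F] [DecidableEq F] (z : S2) (hz : z ∈ Subgroup.center S2) :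
    (stS (F := F) : S2 → ℂ) z = (stS (F := F) : S2 → ℂ) 1 := by
  rw [stS_apply, stS_apply]
  congr 1
  have h1 := indFun_apply_central (borelSL F) (borelChar (1 : MulChar F ℂ)) z hz
  have h2 := indFun_apply_central (borelSL F) (borelChar (1 : MulChar F ℂ)) 1
    (Subgroup.one_mem _)
  show indFun (borelSL F) (borelChar (1 : MulChar F ℂ)) z =
    indFun (borelSL F) (borelChar (1 : MulChar F ℂ)) 1
  rw [h1, h2]
  congr 2
  have e : ∀ y : S2, ∀ hy : y ∈ borelSL F,
      extendByZero (borelSL F) (borelChar (1 : MulChar F ℂ)) y = 1 := by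
    intro y hy
    have : extendByZero (borelSL F) (borelChar (1 : MulChar F ℂ)) ((⟨y, hy⟩ : borelSL F) : S2) =
        borelChar (1 : MulChar F ℂ) ⟨y, hy⟩ := by
      unfold extendByZero
      exact Subtype.val_injective.extend_apply _ _ _
    rw [this, borelChar_one_eq]
  rw [e z (center_le_borelSL hz), e 1 (Subgroup.one_mem _)]

/-- In `SL₂(q)`, `q ≥ 4`, the only irreducible character of degree divisible by the
characteristic is the Steinberg character. -/
theorem eq_stS_of_dvd_degree [Fintype F] [DecidableEq F] (p : ℕ) [Fact p.Prime] [CharP F p]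
    (hF : 4 ≤ Fintype.card F) (χ : S2 → ℂ) (hχ : IsIrrCharacter S2 χ)
    (hdvd : p ∣ charDegree χ) : χ = (stS (F := F) : S2 → ℂ) := by
  have hp : p.Prime := Fact.out
  obtain ⟨n, _, hn⟩ := FiniteField.card F p
  have hpq : p ∣ Fintype.card F := by
    rw [hn]; exact dvd_pow_self p n.ne_zero
  have hnd1 : ¬ p ∣ 1 := fun h => hp.one_lt.ne' (Nat.dvd_one.1 h)
  have hnd_add : ¬ p ∣ Fintype.card F + 1 := by
    intro h
    exact hnd1 ((Nat.dvd_add_right hpq).1 h)
  have hq1 : 1 ≤ Fintype.card F := by omega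
  have hnd_sub : ¬ p ∣ Fintype.card F - 1 := by
    intro h
    have : p ∣ (Fintype.card F - 1) + 1 := by
      rw [Nat.sub_add_cancel hq1]; exact hpq
    exact hnd1 ((Nat.dvd_add_right h).1 this)
  by_cases hF2 : ringChar F = 2
  · have : CharP F 2 := ringChar.of_eq hF2
    rcases sl2_even_irr_cases χ hχ with rfl | rfl | ⟨α, _, rfl⟩ | ⟨_, h1, _⟩
    · exfalso
      have h1 : (trivS (F := F)) 1 = ((1 : ℕ) : ℂ) := by simp [trivS]
      rw [charDegree_of_natCast h1] at hdvd
      exact hnd1 hdvd
    · rfl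
    · exfalso
      have h1 : psS α 1 = ((Fintype.card F + 1 : ℕ) : ℂ) := by
        rw [psS_one]; push_cast; ring
      rw [charDegree_of_natCast h1] at hdvd
      exact hnd_add hdvd
    · exfalso
      have h1' : χ 1 = ((Fintype.card F - 1 : ℕ) : ℂ) := by
        rw [h1, Nat.cast_sub hq1]; push_cast; ring
      rw [charDegree_of_natCast h1'] at hdvd
      exact hnd_sub hdvd
  · have hodd : Odd (Fintype.card F) := Nat.odd_iff.2 (FiniteField.odd_card_of_char_ne_two hF2)
    obtain ⟨ε, hε⟩ := FiniteField.exists_nonsquare hF2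
    obtain ⟨r, hr⟩ : ∃ r : ℕ, Fintype.card F = 2 * r + 5 := by
      obtain ⟨k, hk⟩ := hodd
      exact ⟨k - 2, by omega⟩
    have hnd_half1 : ¬ p ∣ r + 3 := by
      intro h
      apply hnd_add
      have : Fintype.card F + 1 = 2 * (r + 3) := by omega
      rw [this]; exact Dvd.dvd.mul_left h 2
    have hnd_half2 : ¬ p ∣ r + 2 := by
      intro h
      apply hnd_sub
      have : Fintype.card F - 1 = 2 * (r + 2) := by omega
      rw [this]; exact Dvd.dvd.mul_left h 2
    rcases sl2_odd_cases_nat hodd r hr hε χ hχ with ⟨_, hd⟩ | ⟨h, _⟩ | ⟨α, _, _, hd⟩ |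
      ⟨_, hd⟩ | ⟨_, hd, _⟩ | ⟨_, hd, _⟩
    · exfalso
      rw [charDegree_of_natCast hd] at hdvd
      exact hnd1 hdvd
    · exact h
    · exfalso
      rw [charDegree_of_natCast hd] at hdvd
      apply hnd_add
      have : Fintype.card F + 1 = 2 * r + 6 := by omega
      rw [this]; exact hdvd
    · exfalso
      rw [charDegree_of_natCast hd] at hdvd
      exact hnd_half1 hdvd
    · exfalso
      rw [charDegree_of_natCast hd] at hdvd
      apply hnd_sub
      have : Fintype.card F - 1 = 2 * r + 4 := by omega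
      rw [this]; exact hdvd
    · exfalso
      rw [charDegree_of_natCast hd] at hdvd
      exact hnd_half2 hdvd

end Cfsg.Agent.Helper12
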