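import Mathlib
import Cfsg.Prelude.Def_Blocks
import Cfsg.Agent.Helper8.CharComp
import Cfsg.Agent.Helper24.Abelian
import Cfsg.Agent.Helper24.Ito
import Cfsg.Agent.Helper12.PSL2Char

set_option autoImplicit false

namespace Cfsg.Agent.Helper12

open Cfsg Cfsg.Agent.Helper8 Cfsg.Agent.Helper24

/-- The number of irreducible characters of degree not divisible by `ℓ`. -/
noncomputable def mkCount (ℓ : ℕ) (G : Type*) [Group G] : ℕ :=
  Nat.card {χ : IrrCharacter G // ¬ ℓ ∣ charDegree (χ : G → ℂ)}

/-- Transport of irreducible characters along an isomorphism. -/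
noncomputable def irrEquivOfMulEquiv {G H : Type*} [Group G] [Group H] (e : G ≃* H) :
    IrrCharacter G ≃ IrrCharacter H where
  toFun χ := ⟨fun h => (χ : G → ℂ) (e.symm h),
    isIrrCharacter_comp_surjective e.symm.toMonoidHom e.symm.surjective χ.2⟩
  invFun ψ := ⟨fun g => (ψ : H → ℂ) (e g),
    isIrrCharacter_comp_surjective e.toMonoidHom e.surjective ψ.2⟩
  left_inv χ := by
    apply Subtype.ext
    funext g
    simp
  right_inv ψ := by
    apply Subtype.ext
    funext h
    simp

theorem irrEquivOfMulEquiv_degree {G H : Type*} [Group G] [Group H] (e : G ≃* H)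
    (χ : IrrCharacter G) :
    charDegree ((irrEquivOfMulEquiv e χ : IrrCharacter H) : H → ℂ) = charDegree (χ : G → ℂ) := by
  unfold charDegree
  show ⌊((χ : G → ℂ) (e.symm 1)).re⌋₊ = _
  rw [map_one]

/-- Isomorphic groups have the same McKay counts. -/
theorem mkCount_congr (ℓ : ℕ) {G H : Type*} [Group G] [Group H] (e : G ≃* H) :
    mkCount ℓ G = mkCount ℓ H := by
  unfold mkCount
  refine Nat.card_congr ((irrEquivOfMulEquiv e).subtypeEquiv ?_)
  intro χ
  rw [irrEquivOfMulEquiv_degree]

theorem mkCount_top (ℓ : ℕ) {G : Type*} [Group G] : mkCount ℓ (⊤ : Subgroup G) = mkCount ℓ G :=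
  mkCount_congr ℓ Subgroup.topEquiv

theorem mkCount_of_eq_top (ℓ : ℕ) {G : Type*} [Group G] (N : Subgroup G) (h : N = ⊤) :
    mkCount ℓ N = mkCount ℓ G := by
  subst h
  exact mkCount_top ℓ

theorem mkCount_of_eq (ℓ : ℕ) {G : Type*} [Group G] {N N' : Subgroup G} (h : N = N') :
    mkCount ℓ N = mkCount ℓ N' := by
  subst h
  rfl

theorem charDegree_eq_irrDeg {G : Type*} [Group G] (χ : IrrCharacter G) :
    charDegree (χ : G → ℂ) = irrDeg χ :=
  charDegree_of_natCast (irrDeg_spec χ)

/-- If no degree is divisible by `ℓ`, the McKay count is the class number. -/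
theorem mkCount_eq_card_conjClasses {G : Type*} [Group G] [Finite G] (ℓ : ℕ)
    (h : ∀ χ : IrrCharacter G, ¬ ℓ ∣ charDegree (χ : G → ℂ)) :
    mkCount ℓ G = Nat.card (ConjClasses G) := by
  unfold mkCount
  rw [← card_irr_eq_card_conjClasses]
  exact Nat.card_congr (Equiv.subtypeUnivEquiv h)

/-- Ito: degrees divide the index of an abelian normal subgroup. -/
theorem charDegree_dvd_index {G : Type*} [Group G] [Finite G] (A : Subgroup G) [A.Normal]
    (hab : ∀ a ∈ A, ∀ b ∈ A, a * b = b * a) (χ : IrrCharacter G) :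
    charDegree (χ : G → ℂ) ∣ A.index := by
  classical
  have : Fintype G := Fintype.ofFinite G
  obtain ⟨d, hd, hdvd⟩ := ito_character A hab (χ : G → ℂ) χ.2
  rw [charDegree_of_natCast hd]
  exact hdvd

/-- Groups with an abelian subgroup `T` of index two and `2 k(N) = |T| + 6`: degrees are one or
two, and exactly four characters are linear. -/
theorem dicyclic_degrees {N : Type*} [Group N] [Finite N] (T : Subgroup N) (hT : T.index = 2)
    (hab : ∀ a ∈ T, ∀ b ∈ T, a * b = b * a)
    (hk : 2 * Nat.card (ConjClasses N) = Nat.card T + 6) :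
    (∀ χ : IrrCharacter N, charDegree (χ : N → ℂ) = 1 ∨ charDegree (χ : N → ℂ) = 2) ∧
    Nat.card {χ : IrrCharacter N // charDegree (χ : N → ℂ) = 1} = 4 := by
  classical
  have : Fintype N := Fintype.ofFinite N
  have : Fintype (IrrCharacter N) := Fintype.ofFinite _
  have hTn : T.Normal := Subgroup.normal_of_index_eq_two hT
  have hdeg : ∀ χ : IrrCharacter N, irrDeg χ = 1 ∨ irrDeg χ = 2 := by
    intro χ
    have h1 := charDegree_dvd_index T hab χ
    rw [hT, charDegree_eq_irrDeg] at h1
    have h2 := Nat.le_of_dvd (by norm_num) h1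
    have h3 := irrDeg_pos χ
    omega
  refine ⟨fun χ => by rw [charDegree_eq_irrDeg]; exact hdeg χ, ?_⟩
  have hsum := sum_irrDeg_sq (G := N)
  have hterm : ∀ χ : IrrCharacter N, irrDeg χ ^ 2 + 3 * (if irrDeg χ = 1 then 1 else 0) = 4 := by
    intro χ
    rcases hdeg χ with h | h <;> rw [h] <;> norm_num
  have h4 : ∑ χ : IrrCharacter N, (irrDeg χ ^ 2 + 3 * (if irrDeg χ = 1 then 1 else 0)) =
      4 * Nat.card (ConjClasses N) := by
    rw [Finset.sum_congr rfl (fun χ _ => hterm χ), Finset.sum_const, Finset.card_univ,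
      ← Nat.card_eq_fintype_card, card_irr_eq_card_conjClasses, smul_eq_mul, mul_comm]
  rw [Finset.sum_add_distrib, hsum, ← Finset.mul_sum, ← Finset.card_filter] at h4
  have hN : Nat.card N = Nat.card T * 2 := by rw [← hT, Subgroup.card_mul_index]
  have hcount : Nat.card {χ : IrrCharacter N // charDegree (χ : N → ℂ) = 1} =
      (Finset.univ.filter (fun χ : IrrCharacter N => irrDeg χ = 1)).card := by
    rw [Nat.card_eq_fintype_card, Fintype.card_subtype]
    congr 1
    ext χ
    simp only [Finset.mem_filter, Finset.mem_univ, true_and]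
    rw [charDegree_eq_irrDeg]
  rw [hcount]
  omega

/-- McKay count at an odd prime for dicyclic-type groups. -/
theorem mkCount_dicyclic_odd {N : Type*} [Group N] [Finite N] (T : Subgroup N) (hT : T.index = 2)
    (hab : ∀ a ∈ T, ∀ b ∈ T, a * b = b * a)
    (hk : 2 * Nat.card (ConjClasses N) = Nat.card T + 6) (ℓ : ℕ) (hℓ : 2 < ℓ) :
    2 * mkCount ℓ N = Nat.card T + 6 := by
  rw [mkCount_eq_card_conjClasses, hk]
  intro χ hdvd
  rcases (dicyclic_degrees T hT hab hk).1 χ with h | h <;> rw [h] at hdvd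
  · have := Nat.le_of_dvd (by norm_num) hdvd; omega
  · have := Nat.le_of_dvd (by norm_num) hdvd; omega

/-- McKay count at the prime two for dicyclic-type groups. -/
theorem mkCount_dicyclic_two {N : Type*} [Group N] [Finite N] (T : Subgroup N) (hT : T.index = 2)
    (hab : ∀ a ∈ T, ∀ b ∈ T, a * b = b * a)
    (hk : 2 * Nat.card (ConjClasses N) = Nat.card T + 6) :
    mkCount 2 N = 4 := by
  obtain ⟨h1, h2⟩ := dicyclic_degrees T hT hab hk
  unfold mkCount
  rw [← h2]
  refine Nat.card_congr (Equiv.subtypeEquivRight ?_)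
  intro χ
  rcases h1 χ with h | h <;> rw [h] <;> norm_num

end Cfsg.Agent.Helper12
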