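import Mathlib
import Cfsg.Agent.Helper12.SL2Conj

set_option autoImplicit false

open Polynomial

namespace Cfsg.Agent.Helper12

variable {F : Type*} [Field F]

/-- A point on the conic governing factorisations of a companion matrix. -/
theorem exists_conic_point [Fintype F] (h2 : ringChar F ≠ 2) (s t : F) (ht : t ≠ 0) (hs : s ≠ 2) :
    ∃ a b : F, a ^ 2 + b ^ 2 - s * a * b - t * a + t * b + 1 = 0 := by
  have hodd : Fintype.card F % 2 = 1 := FiniteField.odd_card_of_char_ne_two h2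
  have h2ne : (2 : F) ≠ 0 := Ring.two_ne_zero h2
  have h4ne : (4 : F) ≠ 0 := by
    have : (4 : F) = 2 * 2 := by norm_num
    rw [this]; exact mul_ne_zero h2ne h2ne
  by_cases hs' : s = -2
  · refine ⟨1 / (2 * t), -(1 / (2 * t)), ?_⟩
    rw [hs']
    field_simp
    ring
  · have hs1 : 2 + s ≠ 0 := by
      intro h; apply hs'; linear_combination h
    have hs2 : 2 - s ≠ 0 := by
      intro h; apply hs; linear_combination -h
    let f : F[X] := C (2 + s) * X ^ 2 + C (-(4 * t)) * X + C 4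
    let g : F[X] := C (2 - s) * X ^ 2 + C 0 * X + C 0
    have hf : f.degree = 2 := degree_quadratic hs1
    have hg : g.degree = 2 := degree_quadratic hs2
    obtain ⟨u, v, huv⟩ := FiniteField.exists_root_sum_quadratic hf hg hodd
    simp only [f, g, eval_add, eval_mul, eval_C, eval_pow, eval_X] at huv
    refine ⟨(u + v) / 2, (v - u) / 2, ?_⟩
    have : (4 : F) * (((u + v) / 2) ^ 2 + ((v - u) / 2) ^ 2 - s * ((u + v) / 2) * ((v - u) / 2)
        - t * ((u + v) / 2) + t * ((v - u) / 2) + 1) = 0 := by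
      field_simp
      linear_combination 4 * huv
    exact (mul_eq_zero.1 this).resolve_left h4ne

/-- Factorisation of a companion matrix into two matrices of trace `t`. -/
theorem exists_factor_comp2 (s t a b : F)
    (h : a ^ 2 + b ^ 2 - s * a * b - t * a + t * b + 1 = 0) :
    ∃ Y Z : Matrix.SpecialLinearGroup (Fin 2) F,
      (Y : Matrix (Fin 2) (Fin 2) F).trace = t ∧ (Z : Matrix (Fin 2) (Fin 2) F).trace = t ∧
      (Y : Matrix (Fin 2) (Fin 2) F) * (Z : Matrix (Fin 2) (Fin 2) F) = comp2 s 1 := by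
  have hY : (!![a, b; t + b - a * s, t - a] : Matrix (Fin 2) (Fin 2) F).det = 1 := by
    rw [Matrix.det_fin_two_of]; linear_combination -h
  have hZ : (!![-b, -(t - a) - b * s; a, (t + b - a * s) + a * s] :
      Matrix (Fin 2) (Fin 2) F).det = 1 := by
    rw [Matrix.det_fin_two_of]; linear_combination -h
  refine ⟨⟨_, hY⟩, ⟨_, hZ⟩, ?_, ?_, ?_⟩
  · simp [Matrix.trace_fin_two]
  · simp [Matrix.trace_fin_two]
  · ext i j
    fin_cases i <;> fin_cases j <;>
      simp [comp2, Matrix.mul_apply, Fin.sum_univ_two]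
    · ring
    · linear_combination h
    · linear_combination -h
    · linear_combination -s * h

/-- A non-scalar determinant-one matrix of trace different from `2` is a product of two elements
of `SL₂` of any prescribed nonzero trace (odd characteristic). -/
theorem exists_factor_of_trace [Fintype F] (h2 : ringChar F ≠ 2)
    (M : Matrix (Fin 2) (Fin 2) F) (hdet : M.det = 1) (hM : ¬ IsScalar2 M) (hs : M.trace ≠ 2)
    (t : F) (ht : t ≠ 0) :
    ∃ Y Z : Matrix.SpecialLinearGroup (Fin 2) F,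
      (Y : Matrix (Fin 2) (Fin 2) F).trace = t ∧ (Z : Matrix (Fin 2) (Fin 2) F).trace = t ∧
      (Y : Matrix (Fin 2) (Fin 2) F) * (Z : Matrix (Fin 2) (Fin 2) F) = M := by
  obtain ⟨P, hP, hPM⟩ := exists_conj_comp2 M hM
  rw [hdet] at hPM
  obtain ⟨a, b, hab⟩ := exists_conic_point h2 M.trace t ht hs
  obtain ⟨Y, Z, hY, hZ, hYZ⟩ := exists_factor_comp2 M.trace t a b hab
  have hPu : IsUnit P.det := isUnit_iff_ne_zero.2 hP
  have hPinv : P * P⁻¹ = 1 := Matrix.mul_nonsing_inv P hPu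
  have hPinv' : P⁻¹ * P = 1 := Matrix.nonsing_inv_mul P hPu
  have hdetconj : ∀ W : Matrix (Fin 2) (Fin 2) F, W.det = 1 → (P * W * P⁻¹).det = 1 := by
    intro W hW
    rw [Matrix.det_mul, Matrix.det_mul, hW, mul_one, ← Matrix.det_mul, hPinv, Matrix.det_one]
  have htrconj : ∀ W : Matrix (Fin 2) (Fin 2) F, (P * W * P⁻¹).trace = W.trace := by
    intro W
    rw [Matrix.trace_mul_comm, ← Matrix.mul_assoc, hPinv', Matrix.one_mul]
  refine ⟨⟨P * (Y : Matrix (Fin 2) (Fin 2) F) * P⁻¹, hdetconj _ Y.2⟩,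
    ⟨P * (Z : Matrix (Fin 2) (Fin 2) F) * P⁻¹, hdetconj _ Z.2⟩, ?_, ?_, ?_⟩
  · show (P * (Y : Matrix (Fin 2) (Fin 2) F) * P⁻¹).trace = t
    rw [htrconj, hY]
  · show (P * (Z : Matrix (Fin 2) (Fin 2) F) * P⁻¹).trace = t
    rw [htrconj, hZ]
  · show P * (Y : Matrix (Fin 2) (Fin 2) F) * P⁻¹ * (P * (Z : Matrix (Fin 2) (Fin 2) F) * P⁻¹) = M
    calc P * (Y : Matrix (Fin 2) (Fin 2) F) * P⁻¹ * (P * (Z : Matrix (Fin 2) (Fin 2) F) * P⁻¹)
        = P * (Y : Matrix (Fin 2) (Fin 2) F) * (P⁻¹ * P) * (Z : Matrix (Fin 2) (Fin 2) F) * P⁻¹ := by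
          simp only [Matrix.mul_assoc]
      _ = P * ((Y : Matrix (Fin 2) (Fin 2) F) * (Z : Matrix (Fin 2) (Fin 2) F)) * P⁻¹ := by
          rw [hPinv', Matrix.mul_one]; simp only [Matrix.mul_assoc]
      _ = M * P * P⁻¹ := by rw [hYZ, ← hPM]
      _ = M := by rw [Matrix.mul_assoc, hPinv, Matrix.mul_one]

end Cfsg.Agent.Helper12
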