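import Mathlib
import Cfsg.Agent.S2303
import Cfsg.Agent.Helper12.SL2Conj
import Cfsg.Agent.Helper12.SL2Factor

set_option autoImplicit false

namespace Cfsg.Agent.Helper12

variable {F : Type*} [Field F]

/-- A root of the characteristic polynomial gives an eigenvector. -/
theorem exists_eigenvector_of_root (A : Matrix (Fin 2) (Fin 2) F) (l : F)
    (h : l ^ 2 - A.trace * l + A.det = 0) :
    ∃ v : Fin 2 → F, v ≠ 0 ∧ A.mulVec v = l • v := by
  have hdet : (A - l • (1 : Matrix (Fin 2) (Fin 2) F)).det = 0 := by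
    rw [← h]
    simp [Matrix.det_fin_two, Matrix.trace_fin_two]
    ring
  obtain ⟨v, hv, hv0⟩ := Matrix.exists_mulVec_eq_zero_iff.2 hdet
  refine ⟨v, hv, ?_⟩
  rw [Matrix.sub_mulVec, Matrix.smul_mulVec, Matrix.one_mulVec, sub_eq_zero] at hv0
  exact hv0

theorem root_ne_zero_of_no_eigenvector (A : Matrix (Fin 2) (Fin 2) F)
    (h : ∀ (c : F) (v : Fin 2 → F), v ≠ 0 → A.mulVec v ≠ c • v) (l : F) :
    l ^ 2 - A.trace * l + A.det ≠ 0 := by
  intro h0
  obtain ⟨v, hv, hv'⟩ := exists_eigenvector_of_root A l h0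
  exact h l v hv hv'

/-- An element of `SL₂` over a field with `q` elements without eigenvectors has order dividing
`q + 1`. -/
theorem sl2_pow_card_add_one_eq_one [Fintype F] (X : Matrix.SpecialLinearGroup (Fin 2) F)
    (h : ∀ (c : F) (v : Fin 2 → F), v ≠ 0 → (X : Matrix (Fin 2) (Fin 2) F).mulVec v ≠ c • v) :
    X ^ (Fintype.card F + 1) = 1 := by
  classical
  set A : Matrix (Fin 2) (Fin 2) F := (X : Matrix (Fin 2) (Fin 2) F) with hA
  set g : Matrix.GeneralLinearGroup (Fin 2) F := Matrix.SpecialLinearGroup.toGL X with hg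
  have hgA : (g : Matrix (Fin 2) (Fin 2) F) = A := rfl
  have hcard := Cfsg.Agent.S2303.card_centralizer_irred g h
  set C := Subgroup.centralizer ({g} : Set (Matrix.GeneralLinearGroup (Fin 2) F)) with hC
  let d : C →* Fˣ := Matrix.GeneralLinearGroup.det.comp C.subtype
  have hAdet : A.det = 1 := X.2
  -- the trace condition for the norm form
  have htr : ringChar F = 2 ∨ A.trace ^ 2 ≠ 4 := by
    by_cases h2 : ringChar F = 2
    · exact Or.inl h2
    · right
      intro h4
      have h2ne : (2 : F) ≠ 0 := Ring.two_ne_zero h2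
      apply root_ne_zero_of_no_eigenvector A h (A.trace / 2)
      rw [hAdet]
      field_simp
      linear_combination -h4
  have hsurj : Function.Surjective d := by
    intro c
    obtain ⟨x, y, hxy⟩ := exists_norm_form_eq A.trace (c : F) htr
    have hdet : (x • (1 : Matrix (Fin 2) (Fin 2) F) + y • A).det = (c : F) := by
      rw [Cfsg.Agent.S2303.det_add_smul, hAdet, ← hxy]
    have hne : (x • (1 : Matrix (Fin 2) (Fin 2) F) + y • A).det ≠ 0 := by
      rw [hdet]; exact c.ne_zero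
    refine ⟨⟨Matrix.GeneralLinearGroup.mkOfDetNeZero _ hne, ?_⟩, ?_⟩
    · rw [Cfsg.Agent.S2303.mem_centralizer_iff']
      simp only [Matrix.GeneralLinearGroup.mkOfDetNeZero]
      show A * (_ • (1 : Matrix (Fin 2) (Fin 2) F) + _ • A) =
        (_ • (1 : Matrix (Fin 2) (Fin 2) F) + _ • A) * A
      rw [mul_add, add_mul]
      simp
    · apply Units.ext
      simp only [d, MonoidHom.comp_apply, Subgroup.subtype_apply,
        Matrix.GeneralLinearGroup.val_det_apply]
      exact hdet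
  have hker : Nat.card d.ker * (Fintype.card F - 1) = Fintype.card F ^ 2 - 1 := by
    have h1 := Subgroup.card_mul_index d.ker
    rw [Subgroup.index_ker, MonoidHom.range_eq_top.2 hsurj, Subgroup.card_top, hcard,
      Nat.card_eq_fintype_card (α := Fˣ), Fintype.card_units] at h1
    exact h1
  have hq : 2 ≤ Fintype.card F := Fintype.one_lt_card
  have hker' : Nat.card d.ker = Fintype.card F + 1 := by
    obtain ⟨r, hr⟩ : ∃ r, Fintype.card F = r + 2 := ⟨Fintype.card F - 2, by omega⟩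
    rw [hr] at hker ⊢
    have h2 : (r + 2) ^ 2 - 1 = (r + 2 + 1) * (r + 2 - 1) := by
      have : (r + 2) ^ 2 = (r + 2 + 1) * (r + 1) + 1 := by ring
      rw [this]; simp
    rw [h2] at hker
    exact Nat.eq_of_mul_eq_mul_right (by omega) hker
  have hgC : g ∈ C := by
    rw [Cfsg.Agent.S2303.mem_centralizer_iff']
  have hgker : (⟨g, hgC⟩ : C) ∈ d.ker := by
    rw [MonoidHom.mem_ker]
    simp only [d, MonoidHom.comp_apply, Subgroup.subtype_apply]
    exact Matrix.SpecialLinearGroup.coeToGL_det X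
  have hpow : (⟨⟨g, hgC⟩, hgker⟩ : d.ker) ^ Nat.card d.ker = 1 := pow_card_eq_one'
  rw [hker'] at hpow
  have hpow' : g ^ (Fintype.card F + 1) = 1 := by
    have := congrArg (fun z : d.ker => ((z : C) : Matrix.GeneralLinearGroup (Fin 2) F)) hpow
    simpa using this
  apply Matrix.SpecialLinearGroup.toGL_injective
  rw [map_pow, map_one]
  exact hpow'

/-- An eigenvalue is a root of the characteristic polynomial. -/
theorem root_of_eigenvector (A : Matrix (Fin 2) (Fin 2) F) (l : F) (v : Fin 2 → F) (hv : v ≠ 0)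
    (h : A.mulVec v = l • v) : l ^ 2 - A.trace * l + A.det = 0 := by
  have hdet : (A - l • (1 : Matrix (Fin 2) (Fin 2) F)).det = 0 := by
    apply Matrix.exists_mulVec_eq_zero_iff.1
    refine ⟨v, hv, ?_⟩
    rw [Matrix.sub_mulVec, Matrix.smul_mulVec, Matrix.one_mulVec, h, sub_self]
  rw [← hdet]
  simp [Matrix.det_fin_two, Matrix.trace_fin_two]
  ring

/-- Factorisation of a non-scalar determinant-one matrix from a point of the conic. -/
theorem exists_factor_of_conic_point
    (M : Matrix (Fin 2) (Fin 2) F) (hdet : M.det = 1) (hM : ¬ IsScalar2 M) (t a b : F)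
    (hab : a ^ 2 + b ^ 2 - M.trace * a * b - t * a + t * b + 1 = 0) :
    ∃ Y Z : Matrix.SpecialLinearGroup (Fin 2) F,
      (Y : Matrix (Fin 2) (Fin 2) F).trace = t ∧ (Z : Matrix (Fin 2) (Fin 2) F).trace = t ∧
      (Y : Matrix (Fin 2) (Fin 2) F) * (Z : Matrix (Fin 2) (Fin 2) F) = M := by
  obtain ⟨P, hP, hPM⟩ := exists_conj_comp2 M hM
  rw [hdet] at hPM
  obtain ⟨Y, Z, hY, hZ, hYZ⟩ := exists_factor_comp2 M.trace t a b hab
  have hPu : IsUnit P.det := isUnit_iff_ne_zero.2 hP
  have hPinv : P * P⁻¹ = 1 := Matrix.mul_nonsing_inv P hPu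
  have hPinv' : P⁻¹ * P = 1 := Matrix.nonsing_inv_mul P hPu
  have hdetconj : ∀ W : Matrix (Fin 2) (Fin 2) F, W.det = 1 → (P * W * P⁻¹).det = 1 := by
    intro W hW
    rw [Matrix.det_mul, Matrix.det_mul, hW, mul_one, ← Matrix.det_mul, hPinv, Matrix.det_one]
  have htrconj : ∀ W : Matrix (Fin 2) (Fin 2) F, (P * W * P⁻¹).trace = W.trace := by
    intro W
    rw [Matrix.trace_mul_comm, ← Matrix.mul_assoc, hPinv', Matrix.one_mul]
  refine ⟨⟨P * (Y : Matrix (Fin 2) (Fin 2) F) * P⁻¹, hdetconj _ Y.2⟩,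
    ⟨P * (Z : Matrix (Fin 2) (Fin 2) F) * P⁻¹, hdetconj _ Z.2⟩, ?_, ?_, ?_⟩
  · show (P * (Y : Matrix (Fin 2) (Fin 2) F) * P⁻¹).trace = t
    rw [htrconj, hY]
  · show (P * (Z : Matrix (Fin 2) (Fin 2) F) * P⁻¹).trace = t
    rw [htrconj, hZ]
  · show P * (Y : Matrix (Fin 2) (Fin 2) F) * P⁻¹ * (P * (Z : Matrix (Fin 2) (Fin 2) F) * P⁻¹) = M
    calc P * (Y : Matrix (Fin 2) (Fin 2) F) * P⁻¹ * (P * (Z : Matrix (Fin 2) (Fin 2) F) * P⁻¹)
        = P * (Y : Matrix (Fin 2) (Fin 2) F) * (P⁻¹ * P) * (Z : Matrix (Fin 2) (Fin 2) F) * P⁻¹ := by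
          simp only [Matrix.mul_assoc]
      _ = P * ((Y : Matrix (Fin 2) (Fin 2) F) * (Z : Matrix (Fin 2) (Fin 2) F)) * P⁻¹ := by
          rw [hPinv', Matrix.mul_one]; simp only [Matrix.mul_assoc]
      _ = M * P * P⁻¹ := by rw [hYZ, ← hPM]
      _ = M := by rw [Matrix.mul_assoc, hPinv, Matrix.mul_one]

end Cfsg.Agent.Helper12
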