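import Mathlib

set_option autoImplicit false

namespace Cfsg.Agent.Helper12

/-- The number of commuting pairs as a sum of centraliser orders. -/
theorem card_conjClasses_mul_card_eq_sum {N : Type*} [Group N] [Fintype N] :
    Nat.card (ConjClasses N) * Nat.card N = ∑ g : N, Nat.card {h : N // Commute g h} := by
  rw [← card_comm_eq_card_conjClasses_mul_card,
    Nat.card_congr (Equiv.subtypeProdEquivSigmaSubtype (fun g h : N => Commute g h)),
    Nat.card_sigma]

/-- The class number of a group with an abelian subgroup `T` of index two whose outer elements
invert `T`, when `T` has a unique involution (dicyclic-type groups): `2 k(N) = |T| + 6`. -/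
theorem card_conjClasses_dicyclic {N : Type*} [Group N] [Finite N] (T : Subgroup N) (z : N)
    (hT : T.index = 2) (hcomm : ∀ a b : N, a ∈ T → b ∈ T → a * b = b * a)
    (hz : z ∈ T) (hz1 : z ≠ 1) (hz2 : z * z = 1)
    (hinv : ∀ n t : N, n ∉ T → t ∈ T → n * t * n⁻¹ = t⁻¹)
    (hsq : ∀ t : N, t ∈ T → t * t = 1 → t = 1 ∨ t = z) :
    2 * Nat.card (ConjClasses N) = Nat.card T + 6 := by
  classical
  have : Fintype N := Fintype.ofFinite N
  have hN : Nat.card N = Nat.card T * 2 := by rw [← hT, Subgroup.card_mul_index]
  have hTpos : 0 < Nat.card T := Nat.card_pos
  -- z is central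
  have hzc : ∀ n : N, n * z = z * n := by
    intro n
    by_cases hn : n ∈ T
    · exact hcomm n z hn hz
    · have h1 := hinv n z hn hz
      have hzinv : z⁻¹ = z := inv_eq_of_mul_eq_one_right hz2
      rw [hzinv] at h1
      calc n * z = n * z * n⁻¹ * n := by group
        _ = z * n := by rw [h1]
  -- centraliser orders
  have hc1 : ∀ g : N, (g = 1 ∨ g = z) → Nat.card {h : N // Commute g h} = Nat.card T * 2 := by
    intro g hg
    rw [← hN]
    have : ∀ h : N, Commute g h := by
      intro h
      rcases hg with rfl | rfl
      · exact Commute.one_left h
      · exact (hzc h).symm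
    rw [Nat.card_congr (Equiv.subtypeUnivEquiv this)]
  have hc2 : ∀ g : N, g ∈ T → ¬ (g = 1 ∨ g = z) →
      Nat.card {h : N // Commute g h} = Nat.card T := by
    intro g hg hne
    have : ∀ h : N, Commute g h ↔ h ∈ T := by
      intro h
      constructor
      · intro hc
        by_contra hh
        have h1 := hinv h g hh hg
        have h2 : h * g * h⁻¹ = g := by
          rw [← hc.eq]; group
        rw [h2] at h1
        have : g * g = 1 := by
          nth_rewrite 1 [h1]
          exact inv_mul_cancel g
        exact hne (hsq g hg this)
      · intro hh
        exact hcomm g h hg hh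
    exact Nat.card_congr (Equiv.subtypeEquivRight this)
  have hc3 : ∀ g : N, g ∉ T → Nat.card {h : N // Commute g h} = 4 := by
    intro g hg
    have hgz : g * z ∉ T := by
      rw [Subgroup.mul_mem_iff_of_index_two hT]
      intro h
      exact hg (h.2 hz)
    have key : ∀ h : N, Commute g h ↔ h ∈ ({1, z, g, g * z} : Finset N) := by
      intro h
      simp only [Finset.mem_insert, Finset.mem_singleton]
      constructor
      · intro hc
        by_cases hh : h ∈ T
        · have h1 := hinv g h hg hh
          have h2 : g * h * g⁻¹ = h := by
            rw [hc.eq]; group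
          rw [h2] at h1
          have : h * h = 1 := by
            nth_rewrite 1 [h1]
            exact inv_mul_cancel h
          rcases hsq h hh this with rfl | rfl
          · left; rfl
          · right; left; rfl
        · -- h = g * t with t ∈ T
          have ht : g⁻¹ * h ∈ T := by
            rw [Subgroup.mul_mem_iff_of_index_two hT]
            constructor
            · intro h'
              exact absurd (inv_mem_iff.1 h') hg
            · intro h'
              exact absurd h' hh
          have hct : Commute g (g⁻¹ * h) := by
            exact (Commute.inv_right (Commute.refl g)).mul_right hc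
          have h1 := hinv g _ hg ht
          have h2 : g * (g⁻¹ * h) * g⁻¹ = g⁻¹ * h := by
            rw [hct.eq]; group
          rw [h2] at h1
          have : (g⁻¹ * h) * (g⁻¹ * h) = 1 := by
            nth_rewrite 1 [h1]
            exact inv_mul_cancel _
          rcases hsq _ ht this with h3 | h3
          · right; right; left
            exact (inv_mul_eq_one.1 h3).symm
          · right; right; right
            rw [← h3]; group
      · rintro (h1 | h1 | h1 | h1)
        · rw [h1]; exact Commute.one_right g
        · rw [h1]; exact hzc g
        · rw [h1]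
        · rw [h1]; exact (Commute.refl g).mul_right (hzc g)
    rw [Nat.card_congr (Equiv.subtypeEquivRight key), Nat.card_eq_fintype_card, Fintype.card_coe]
    have hg1 : g ≠ 1 := fun h => hg (h ▸ T.one_mem)
    have hgz' : g ≠ z := fun h => hg (h ▸ hz)
    have d1 : (1 : N) ≠ z := fun h => hz1 h.symm
    have d2 : (1 : N) ≠ g := fun h => hg1 h.symm
    have d3 : (1 : N) ≠ g * z := fun h => hgz (h ▸ T.one_mem)
    have d4 : z ≠ g := fun h => hgz' h.symm
    have d5 : z ≠ g * z := by
      intro h
      apply hg1
      have : g * z = 1 * z := by rw [one_mul]; exact h.symm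
      exact mul_right_cancel this
    have d6 : g ≠ g * z := by
      intro h
      apply hz1
      have : g * z = g * 1 := by rw [mul_one]; exact h.symm
      exact mul_left_cancel this
    rw [Finset.card_insert_of_notMem, Finset.card_insert_of_notMem, Finset.card_insert_of_notMem,
      Finset.card_singleton]
    · simp only [Finset.mem_singleton]; exact d6
    · simp only [Finset.mem_insert, Finset.mem_singleton]; tauto
    · simp only [Finset.mem_insert, Finset.mem_singleton]; tauto
  -- the sum
  have hsum := card_conjClasses_mul_card_eq_sum (N := N)
  have hval : ∀ g : N, Nat.card {h : N // Commute g h} =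
      (if g ∈ T then Nat.card T else 4) + (if g = 1 ∨ g = z then Nat.card T else 0) := by
    intro g
    by_cases hg : g ∈ T
    · by_cases hg' : g = 1 ∨ g = z
      · rw [hc1 g hg', if_pos hg, if_pos hg']; ring
      · rw [hc2 g hg hg', if_pos hg, if_neg hg']; ring
    · have hg' : ¬ (g = 1 ∨ g = z) := by
        rintro (rfl | rfl)
        · exact hg T.one_mem
        · exact hg hz
      rw [hc3 g hg, if_neg hg, if_neg hg']
  simp only [hval] at hsum
  rw [Finset.sum_add_distrib, Finset.sum_ite, Finset.sum_const, Finset.sum_const,
    Finset.sum_ite, Finset.sum_const, Finset.sum_const] at hsum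
  have hcT : (Finset.univ.filter (fun g : N => g ∈ T)).card = Nat.card T := by
    rw [Nat.card_eq_fintype_card, Fintype.card_subtype]
  have hcT' : (Finset.univ.filter (fun g : N => ¬ g ∈ T)).card = Nat.card T := by
    have := Finset.card_filter_add_card_filter_not (s := (Finset.univ : Finset N))
      (fun g : N => g ∈ T)
    rw [hcT, Finset.card_univ, ← Nat.card_eq_fintype_card, hN] at this
    omega
  have hc2' : (Finset.univ.filter (fun g : N => g = 1 ∨ g = z)).card = 2 := by
    have : Finset.univ.filter (fun g : N => g = 1 ∨ g = z) = {1, z} := by
      ext g; simp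
    rw [this, Finset.card_pair (fun h => hz1 h.symm)]
  rw [hcT, hcT', hc2', hN] at hsum
  simp only [smul_eq_mul, mul_zero, add_zero] at hsum
  have h3 : Nat.card T * (2 * Nat.card (ConjClasses N)) = Nat.card T * (Nat.card T + 6) := by
    linarith
  exact Nat.eq_of_mul_eq_mul_left hTpos h3

end Cfsg.Agent.Helper12
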