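import Mathlib
import Cfsg.Agent.Helper12.Mat2Comm

set_option autoImplicit false

namespace Cfsg.Agent.Helper12

variable {F : Type*} [Field F]

local notation "S2" => Matrix.SpecialLinearGroup (Fin 2) F
local notation "M2" => Matrix (Fin 2) (Fin 2) F

theorem sl2_coe_inv_mul (g : S2) : ((g⁻¹ : S2) : M2) * (g : M2) = 1 := by
  rw [← Matrix.SpecialLinearGroup.coe_mul, inv_mul_cancel, Matrix.SpecialLinearGroup.coe_one]

theorem sl2_coe_mul_inv (g : S2) : (g : M2) * ((g⁻¹ : S2) : M2) = 1 := by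
  rw [← Matrix.SpecialLinearGroup.coe_mul, mul_inv_cancel, Matrix.SpecialLinearGroup.coe_one]

/-- If `g A = s A g` for a scalar sign `s` then `g⁻¹ A = s A g⁻¹` (here for the two signs). -/
theorem inv_comm_of_comm (g : S2) (A : M2) (h : (g : M2) * A = A * (g : M2)) :
    ((g⁻¹ : S2) : M2) * A = A * ((g⁻¹ : S2) : M2) := by
  calc ((g⁻¹ : S2) : M2) * A = ((g⁻¹ : S2) : M2) * A * ((g : M2) * ((g⁻¹ : S2) : M2)) := by
        rw [sl2_coe_mul_inv, Matrix.mul_one]
    _ = ((g⁻¹ : S2) : M2) * (A * (g : M2)) * ((g⁻¹ : S2) : M2) := by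
        simp only [Matrix.mul_assoc]
    _ = ((g⁻¹ : S2) : M2) * ((g : M2) * A) * ((g⁻¹ : S2) : M2) := by rw [h]
    _ = (((g⁻¹ : S2) : M2) * (g : M2)) * A * ((g⁻¹ : S2) : M2) := by
        simp only [Matrix.mul_assoc]
    _ = A * ((g⁻¹ : S2) : M2) := by rw [sl2_coe_inv_mul, Matrix.one_mul]

theorem inv_anticomm_of_anticomm (g : S2) (A : M2) (h : (g : M2) * A = -(A * (g : M2))) :
    ((g⁻¹ : S2) : M2) * A = -(A * ((g⁻¹ : S2) : M2)) := by
  have h' : A * (g : M2) = -((g : M2) * A) := by rw [h, neg_neg]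
  calc ((g⁻¹ : S2) : M2) * A = ((g⁻¹ : S2) : M2) * A * ((g : M2) * ((g⁻¹ : S2) : M2)) := by
        rw [sl2_coe_mul_inv, Matrix.mul_one]
    _ = ((g⁻¹ : S2) : M2) * (A * (g : M2)) * ((g⁻¹ : S2) : M2) := by
        simp only [Matrix.mul_assoc]
    _ = -(((g⁻¹ : S2) : M2) * ((g : M2) * A) * ((g⁻¹ : S2) : M2)) := by
        rw [h']; simp only [Matrix.mul_neg, Matrix.neg_mul]
    _ = -((((g⁻¹ : S2) : M2) * (g : M2)) * A * ((g⁻¹ : S2) : M2)) := by
        simp only [Matrix.mul_assoc]
    _ = -(A * ((g⁻¹ : S2) : M2)) := by rw [sl2_coe_inv_mul, Matrix.one_mul]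

/-- The centraliser in `SL₂` of a matrix. -/
def torusA (A : M2) : Subgroup S2 where
  carrier := {g | (g : M2) * A = A * (g : M2)}
  one_mem' := by simp
  mul_mem' := by
    intro a b ha hb
    simp only [Set.mem_ofPred_eq] at ha hb ⊢
    rw [Matrix.SpecialLinearGroup.coe_mul, Matrix.mul_assoc, hb, ← Matrix.mul_assoc, ha,
      Matrix.mul_assoc]
  inv_mem' := by
    intro a ha
    exact inv_comm_of_comm a A ha

theorem mem_torusA (A : M2) (g : S2) : g ∈ torusA A ↔ (g : M2) * A = A * (g : M2) := Iff.rfl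

/-- The elements of `SL₂` commuting or anticommuting with a matrix. -/
def normA (A : M2) : Subgroup S2 where
  carrier := {g | (g : M2) * A = A * (g : M2) ∨ (g : M2) * A = -(A * (g : M2))}
  one_mem' := by simp
  mul_mem' := by
    intro a b ha hb
    simp only [Set.mem_ofPred_eq] at ha hb ⊢
    rw [Matrix.SpecialLinearGroup.coe_mul]
    rcases ha with ha | ha <;> rcases hb with hb | hb
    · left
      rw [Matrix.mul_assoc, hb, ← Matrix.mul_assoc, ha, Matrix.mul_assoc]
    · right
      rw [Matrix.mul_assoc, hb, Matrix.mul_neg, ← Matrix.mul_assoc, ha, Matrix.mul_assoc]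
    · right
      rw [Matrix.mul_assoc, hb, ← Matrix.mul_assoc, ha, Matrix.neg_mul, Matrix.mul_assoc]
    · left
      rw [Matrix.mul_assoc, hb, Matrix.mul_neg, ← Matrix.mul_assoc, ha, Matrix.neg_mul, neg_neg,
        Matrix.mul_assoc]
  inv_mem' := by
    intro a ha
    rcases ha with ha | ha
    · left; exact inv_comm_of_comm a A ha
    · right; exact inv_anticomm_of_anticomm a A ha

theorem mem_normA (A : M2) (g : S2) :
    g ∈ normA A ↔ (g : M2) * A = A * (g : M2) ∨ (g : M2) * A = -(A * (g : M2)) := Iff.rfl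

theorem torusA_le_normA (A : M2) : torusA A ≤ normA A := fun _ h => Or.inl h

/-- The data of a quadratic torus: a traceless matrix with non-zero scalar square. -/
structure IsTorusGen (A : M2) (ε : F) : Prop where
  two_ne : (2 : F) ≠ 0
  tr : A.trace = 0
  sq : A * A = ε • (1 : M2)
  ne : ε ≠ 0

namespace IsTorusGen

theorem entries {A : M2} {ε : F} (h : IsTorusGen A ε) : A 1 1 = -A 0 0 ∧ A 0 0 ^ 2 + A 0 1 * A 1 0 = ε := by
  have h1 := h.tr
  rw [Matrix.trace_fin_two] at h1
  have h2 := congrFun (congrFun h.sq 0) 0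
  simp [Matrix.mul_apply, Fin.sum_univ_two] at h2
  exact ⟨by linear_combination h1, by linear_combination h2⟩

theorem not_scalar {A : M2} {ε : F} (h : IsTorusGen A ε) : ¬ IsScalar2 A := by
  intro hs
  obtain ⟨h1, h2⟩ := h.entries
  obtain ⟨s1, s2, s3⟩ := hs
  have h0 : A 0 0 = 0 := by
    have : (2 : F) * A 0 0 = 0 := by linear_combination s3 + h1
    exact (mul_eq_zero.1 this).resolve_left h.two_ne
  apply h.ne
  rw [← h2, h0, s1]; ring

/-- Elements of the torus have the form `x + yA`. -/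
theorem torus_form {A : M2} {ε : F} (h : IsTorusGen A ε) {g : S2} (hg : g ∈ torusA A) :
    ∃ x y : F, (g : M2) = x • (1 : M2) + y • A ∧ x ^ 2 - ε * y ^ 2 = 1 := by
  obtain ⟨x, y, hxy⟩ := exists_eq_add_smul_of_comm A (g : M2) h.not_scalar
    (((mem_torusA A g).1 hg).symm)
  refine ⟨x, y, hxy, ?_⟩
  have hdet := g.2
  rw [hxy] at hdet
  obtain ⟨h1, h2⟩ := h.entries
  rw [Matrix.det_fin_two] at hdet
  simp at hdet
  rw [h1] at hdet
  linear_combination hdet + y ^ 2 * h2

/-- An element `x + yA` of the torus with `y = 0` is `±1`. -/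
theorem eq_one_or_neg_one {A : M2} {ε : F} (_h : IsTorusGen A ε) {g : S2} {x : F}
    (hx : (g : M2) = x • (1 : M2) + (0 : F) • A) :
    (g : M2) = 1 ∨ (g : M2) = -1 := by
  rw [zero_smul, add_zero] at hx
  have hdet := g.2
  rw [hx, Matrix.det_fin_two] at hdet
  simp at hdet
  have : (x - 1) * (x + 1) = 0 := by linear_combination hdet
  rcases mul_eq_zero.1 this with h1 | h1
  · left
    rw [hx, sub_eq_zero.1 h1, one_smul]
  · right
    rw [hx, eq_neg_of_add_eq_zero_left h1]
    simp

/-- The centraliser of a non-central element of the torus is the torus. -/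
theorem centralizer_eq {A : M2} {ε : F} (h : IsTorusGen A ε) {g : S2} (hg : g ∈ torusA A)
    (h1 : (g : M2) ≠ 1) (h2 : (g : M2) ≠ -1) :
    Subgroup.centralizer ({g} : Set S2) = torusA A := by
  obtain ⟨x, y, hxy, _⟩ := h.torus_form hg
  have hy : y ≠ 0 := by
    rintro rfl
    rcases h.eq_one_or_neg_one hxy with h' | h'
    · exact h1 h'
    · exact h2 h'
  ext k
  rw [Subgroup.mem_centralizer_singleton_iff, mem_torusA]
  constructor
  · intro hk
    have hm : (k : M2) * (g : M2) = (g : M2) * (k : M2) := by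
      rw [← Matrix.SpecialLinearGroup.coe_mul, hk, Matrix.SpecialLinearGroup.coe_mul]
    rw [hxy] at hm
    simp only [Matrix.mul_add, Matrix.add_mul, Matrix.mul_smul, Matrix.smul_mul, Matrix.mul_one,
      Matrix.one_mul] at hm
    have h3 : y • ((k : M2) * A) = y • (A * (k : M2)) := add_left_cancel hm
    exact smul_right_injective _ hy h3
  · intro hk
    apply Subtype.ext
    rw [Matrix.SpecialLinearGroup.coe_mul, Matrix.SpecialLinearGroup.coe_mul, hxy]
    simp only [Matrix.mul_add, Matrix.add_mul, Matrix.mul_smul, Matrix.smul_mul, Matrix.mul_one,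
      Matrix.one_mul, hk]

/-- The torus is commutative. -/
theorem torus_comm {A : M2} {ε : F} (h : IsTorusGen A ε) {a b : S2} (ha : a ∈ torusA A) (hb : b ∈ torusA A) :
    a * b = b * a := by
  obtain ⟨x, y, hxy, _⟩ := h.torus_form ha
  have hb' := (mem_torusA A b).1 hb
  apply Subtype.ext
  rw [Matrix.SpecialLinearGroup.coe_mul, Matrix.SpecialLinearGroup.coe_mul, hxy]
  simp only [Matrix.mul_add, Matrix.add_mul, Matrix.mul_smul, Matrix.smul_mul, Matrix.mul_one,
    Matrix.one_mul, hb']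

/-- Anticommuting elements are traceless and square to `-1`. -/
theorem sq_of_anticomm {A : M2} {ε : F} (h : IsTorusGen A ε) {g : S2} (hg : (g : M2) * A = -(A * (g : M2))) :
    ((g * g : S2) : M2) = -1 := by
  obtain ⟨h1, h2⟩ := h.entries
  have e00 := congrFun (congrFun hg 0) 0
  have e01 := congrFun (congrFun hg 0) 1
  have e10 := congrFun (congrFun hg 1) 0
  have e11 := congrFun (congrFun hg 1) 1
  simp only [Matrix.mul_apply, Fin.sum_univ_two, Matrix.neg_apply] at e00 e01 e10 e11
  have hdet := g.2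
  rw [Matrix.det_fin_two] at hdet
  -- trace zero
  have htr : (g : M2) 0 0 + (g : M2) 1 1 = 0 := by
    by_contra hne
    -- (g00 + g11) * A-entries vanish
    have k1 : ((g : M2) 0 0 + (g : M2) 1 1) * A 0 1 = 0 := by
      linear_combination e01 - (g : M2) 0 1 * h1
    have k2 : ((g : M2) 0 0 + (g : M2) 1 1) * A 1 0 = 0 := by
      linear_combination e10 - (g : M2) 1 0 * h1
    have a01 : A 0 1 = 0 := (mul_eq_zero.1 k1).resolve_left hne
    have a10 : A 1 0 = 0 := (mul_eq_zero.1 k2).resolve_left hne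
    rw [a01, a10] at e00 e11
    have k3 : (2 : F) * ((g : M2) 0 0 * A 0 0) = 0 := by linear_combination e00
    have k4 : (2 : F) * ((g : M2) 1 1 * A 0 0) = 0 := by
      linear_combination -e11 + 2 * (g : M2) 1 1 * h1
    have a00 : A 0 0 ≠ 0 := by
      intro h0
      apply h.ne
      rw [← h2, h0, a01]; ring
    have g00 : (g : M2) 0 0 = 0 := by
      rcases mul_eq_zero.1 ((mul_eq_zero.1 k3).resolve_left h.two_ne) with h' | h'
      · exact h'
      · exact absurd h' a00
    have g11 : (g : M2) 1 1 = 0 := by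
      rcases mul_eq_zero.1 ((mul_eq_zero.1 k4).resolve_left h.two_ne) with h' | h'
      · exact h'
      · exact absurd h' a00
    apply hne
    rw [g00, g11, add_zero]
  rw [Matrix.SpecialLinearGroup.coe_mul]
  have g11 : (g : M2) 1 1 = -(g : M2) 0 0 := by linear_combination htr
  ext i j
  fin_cases i <;> fin_cases j <;> simp [Matrix.mul_apply, Fin.sum_univ_two, g11]
  · rw [g11] at hdet; linear_combination -hdet
  · ring
  · ring
  · rw [g11] at hdet; linear_combination -hdet

/-- Anticommuting elements invert the torus. -/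
theorem conj_eq_inv {A : M2} {ε : F} (h : IsTorusGen A ε) {n t : S2} (hn : (n : M2) * A = -(A * (n : M2)))
    (ht : t ∈ torusA A) : n * t * n⁻¹ = t⁻¹ := by
  obtain ⟨x, y, hxy, hnorm⟩ := h.torus_form ht
  have hninv := inv_anticomm_of_anticomm n A hn
  -- n t n⁻¹ = x - yA
  have h1 : ((n * t * n⁻¹ : S2) : M2) = x • (1 : M2) - y • A := by
    rw [Matrix.SpecialLinearGroup.coe_mul, Matrix.SpecialLinearGroup.coe_mul, hxy]
    simp only [Matrix.mul_add, Matrix.add_mul, Matrix.mul_smul, Matrix.smul_mul, Matrix.mul_one,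
      Matrix.one_mul]
    rw [hn, Matrix.neg_mul, Matrix.mul_assoc, sl2_coe_mul_inv, Matrix.mul_one, smul_neg,
      sub_eq_add_neg]
  rw [eq_inv_iff_mul_eq_one]
  apply Subtype.ext
  rw [Matrix.SpecialLinearGroup.coe_mul, h1, hxy, Matrix.SpecialLinearGroup.coe_one]
  have hprod : (x • (1 : M2) - y • A) * (x • (1 : M2) + y • A) =
      (x ^ 2 - ε * y ^ 2) • (1 : M2) := by
    simp only [Matrix.mul_add, Matrix.sub_mul, Matrix.mul_smul, Matrix.smul_mul, Matrix.mul_one,
      Matrix.one_mul, h.sq, smul_smul]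
    module
  rw [hprod, hnorm, one_smul]

end IsTorusGen

end Cfsg.Agent.Helper12
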