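import Mathlib
import Cfsg.Agent.Helper12.SL2TorusA
import Cfsg.Agent.Helper12.Dicyclic

set_option autoImplicit false

namespace Cfsg.Agent.Helper12

variable {F : Type*} [Field F]

local notation "S2" => Matrix.SpecialLinearGroup (Fin 2) F
local notation "M2" => Matrix (Fin 2) (Fin 2) F

namespace IsTorusGen

/-- No element of `SL₂` both commutes and anticommutes with the generator. -/
theorem not_comm_and_anticomm {A : M2} {ε : F} (h : IsTorusGen A ε) (g : S2)
    (h1 : (g : M2) * A = A * (g : M2)) (h2 : (g : M2) * A = -(A * (g : M2))) : False := by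
  have h3 : (2 : F) • ((g : M2) * A) = 0 := by
    rw [two_smul]
    nth_rewrite 1 [h1]
    rw [h2]
    exact add_neg_cancel _
  have h4 : (g : M2) * A = 0 := by
    rcases smul_eq_zero.1 h3 with h' | h'
    · exact absurd h' h.two_ne
    · exact h'
  have h5 : A = 0 := by
    have : ((g⁻¹ : S2) : M2) * ((g : M2) * A) = 0 := by rw [h4, Matrix.mul_zero]
    rwa [← Matrix.mul_assoc, sl2_coe_inv_mul, Matrix.one_mul] at this
  apply h.not_scalar
  rw [h5]
  exact ⟨rfl, rfl, rfl⟩

/-- Conjugation by elements of `normA` preserves the torus. -/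
theorem conj_mem_torusA {A : M2} {ε : F} (h : IsTorusGen A ε) {g t : S2} (hg : g ∈ normA A)
    (ht : t ∈ torusA A) : g * t * g⁻¹ ∈ torusA A := by
  rcases hg with hg | hg
  · exact (torusA A).mul_mem ((torusA A).mul_mem hg ht) ((torusA A).inv_mem hg)
  · rw [h.conj_eq_inv hg ht]
    exact (torusA A).inv_mem ht

/-- The normaliser of the torus. -/
theorem normalizer_eq {A : M2} {ε : F} (h : IsTorusGen A ε)
    (hex : ∃ d : S2, d ∈ torusA A ∧ (d : M2) ≠ 1 ∧ (d : M2) ≠ -1) :
    Subgroup.normalizer ((torusA A : Subgroup S2) : Set S2) = normA A := by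
  ext g
  rw [Subgroup.mem_normalizer_iff]
  constructor
  · intro hg
    obtain ⟨d, hd, hd1, hd2⟩ := hex
    have hgd := (hg d).1 hd
    obtain ⟨x, y, hxy, hn⟩ := h.torus_form hd
    obtain ⟨x', y', hxy', hn'⟩ := h.torus_form hgd
    have hy : y ≠ 0 := by
      rintro rfl
      rcases h.eq_one_or_neg_one hxy with h' | h'
      · exact hd1 h'
      · exact hd2 h'
    -- g d = (g d g⁻¹) g
    have e1 : (g : M2) * (d : M2) = ((g * d * g⁻¹ : S2) : M2) * (g : M2) := by
      rw [← Matrix.SpecialLinearGroup.coe_mul, ← Matrix.SpecialLinearGroup.coe_mul,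
        inv_mul_cancel_right]
    rw [hxy, hxy'] at e1
    simp only [Matrix.mul_add, Matrix.add_mul, Matrix.mul_smul, Matrix.smul_mul, Matrix.mul_one,
      Matrix.one_mul] at e1
    -- e1 : x • g + y • (g A) = x' • g + y' • (A g)
    -- trace of g d g⁻¹ equals trace of d
    have htr : ((g * d * g⁻¹ : S2) : M2).trace = (d : M2).trace := by
      rw [Matrix.SpecialLinearGroup.coe_mul, Matrix.SpecialLinearGroup.coe_mul,
        Matrix.trace_mul_comm, ← Matrix.mul_assoc, sl2_coe_inv_mul, Matrix.one_mul]
    rw [hxy, hxy'] at htr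
    simp only [Matrix.trace_add, Matrix.trace_smul, Matrix.trace_one, h.tr, smul_eq_mul,
      mul_zero, add_zero, Fintype.card_fin] at htr
    have hxx : x' = x := by
      have : (2 : F) * (x' - x) = 0 := by
        push_cast at htr
        linear_combination htr
      have := (mul_eq_zero.1 this).resolve_left h.two_ne
      linear_combination this
    rw [hxx] at e1 hn'
    have e2 : y • ((g : M2) * A) = y' • (A * (g : M2)) := add_left_cancel e1
    have hyy : (y' - y) * (y' + y) = 0 := by
      have : ε * ((y' - y) * (y' + y)) = 0 := by linear_combination hn - hn'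
      exact (mul_eq_zero.1 this).resolve_left h.ne
    rcases mul_eq_zero.1 hyy with h' | h'
    · left
      have : y' = y := by linear_combination h'
      rw [this] at e2
      exact smul_right_injective _ hy e2
    · right
      have : y' = -y := by linear_combination h'
      rw [this, neg_smul, ← smul_neg] at e2
      exact smul_right_injective _ hy e2
  · intro hg t
    constructor
    · intro ht
      exact h.conj_mem_torusA hg ht
    · intro ht
      have := h.conj_mem_torusA ((normA A).inv_mem hg) ht
      have e : g⁻¹ * (g * t * g⁻¹) * g⁻¹⁻¹ = t := by group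
      rwa [e] at this

/-- The torus has index two in `normA` as soon as some element anticommutes. -/
theorem index_eq_two {A : M2} {ε : F} (h : IsTorusGen A ε)
    (hw : ∃ w : S2, (w : M2) * A = -(A * (w : M2))) :
    ((torusA A).subgroupOf (normA A)).index = 2 := by
  obtain ⟨w, hw⟩ := hw
  rw [Subgroup.index_eq_two_iff]
  refine ⟨⟨w, Or.inr hw⟩, ?_⟩
  rintro ⟨b, hb⟩
  simp only [Subgroup.mem_subgroupOf, Subgroup.coe_mul]
  rcases hb with hb | hb
  · right
    refine ⟨hb, ?_⟩
    intro hbw
    have hbw' : ((b * w : S2) : M2) * A = -(A * ((b * w : S2) : M2)) := by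
      rw [Matrix.SpecialLinearGroup.coe_mul, Matrix.mul_assoc, hw, Matrix.mul_neg,
        ← Matrix.mul_assoc, hb, Matrix.mul_assoc]
    exact h.not_comm_and_anticomm (b * w) hbw hbw'
  · left
    refine ⟨?_, ?_⟩
    · show ((b * w : S2) : M2) * A = A * ((b * w : S2) : M2)
      rw [Matrix.SpecialLinearGroup.coe_mul, Matrix.mul_assoc, hw, Matrix.mul_neg,
        ← Matrix.mul_assoc, hb, Matrix.neg_mul, neg_neg, Matrix.mul_assoc]
    · intro hb'
      exact h.not_comm_and_anticomm b hb' hb

theorem card_subgroupOf {A : M2} :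
    Nat.card ((torusA A).subgroupOf (normA A)) = Nat.card (torusA A) :=
  Nat.card_congr (Subgroup.subgroupOfEquivOfLe (torusA_le_normA A)).toEquiv

/-- The order of `normA`. -/
theorem card_normA {A : M2} {ε : F} (h : IsTorusGen A ε)
    (hw : ∃ w : S2, (w : M2) * A = -(A * (w : M2))) :
    Nat.card (normA A) = 2 * Nat.card (torusA A) := by
  rw [← Subgroup.card_mul_index ((torusA A).subgroupOf (normA A)), h.index_eq_two hw,
    card_subgroupOf, mul_comm]

theorem neg_one_mem_torusA (A : M2) : (-1 : S2) ∈ torusA A := by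
  rw [mem_torusA, Matrix.SpecialLinearGroup.coe_neg, Matrix.SpecialLinearGroup.coe_one]
  simp

/-- The class number of `normA`. -/
theorem card_conjClasses_normA [Finite F] {A : M2} {ε : F} (h : IsTorusGen A ε)
    (hw : ∃ w : S2, (w : M2) * A = -(A * (w : M2))) :
    2 * Nat.card (ConjClasses (normA A)) = Nat.card (torusA A) + 6 := by
  have : Finite (normA A) := inferInstance
  have hneg : ((-1 : S2) : M2) = -1 := by
    rw [Matrix.SpecialLinearGroup.coe_neg, Matrix.SpecialLinearGroup.coe_one]
  have key := card_conjClasses_dicyclic (N := normA A) ((torusA A).subgroupOf (normA A))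
    ⟨-1, torusA_le_normA A (neg_one_mem_torusA A)⟩ (h.index_eq_two hw) ?_ ?_ ?_ ?_ ?_ ?_
  · rw [key, card_subgroupOf]
  · rintro ⟨a, ha⟩ ⟨b, hb⟩ ha' hb'
    rw [Subgroup.mem_subgroupOf] at ha' hb'
    apply Subtype.ext
    exact h.torus_comm ha' hb'
  · rw [Subgroup.mem_subgroupOf]
    exact neg_one_mem_torusA A
  · intro h1
    have h2 : ((-1 : S2) : M2) = ((1 : S2) : M2) := by
      have := congrArg (fun x : normA A => ((x : S2) : M2)) h1
      exact this
    rw [hneg, Matrix.SpecialLinearGroup.coe_one] at h2
    have h3 := congrFun (congrFun h2 0) 0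
    simp at h3
    apply h.two_ne
    linear_combination -h3
  · apply Subtype.ext
    show (-1 : S2) * (-1 : S2) = 1
    simp
  · rintro ⟨n, hn⟩ ⟨t, ht⟩ hn' ht'
    rw [Subgroup.mem_subgroupOf] at hn' ht'
    apply Subtype.ext
    show n * t * n⁻¹ = t⁻¹
    rcases hn with hn | hn
    · exact absurd hn hn'
    · exact h.conj_eq_inv hn ht'
  · rintro ⟨t, ht⟩ ht' hsq
    rw [Subgroup.mem_subgroupOf] at ht'
    have hsq' : t * t = 1 := congrArg (fun x : normA A => (x : S2)) hsq
    obtain ⟨x, y, hxy, hn⟩ := h.torus_form ht'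
    -- t² = 1 → (x² + εy²) + 2xy A = 1
    have hm : (t : M2) * (t : M2) = 1 := by
      rw [← Matrix.SpecialLinearGroup.coe_mul, hsq', Matrix.SpecialLinearGroup.coe_one]
    have hexp : (t : M2) * (t : M2) =
        (x ^ 2 + ε * y ^ 2) • (1 : M2) + (2 * x * y) • A := by
      rw [hxy]
      simp only [Matrix.mul_add, Matrix.add_mul, Matrix.mul_smul, Matrix.smul_mul,
        Matrix.mul_one, Matrix.one_mul, h.sq, smul_smul, smul_add]
      module
    rw [hexp] at hm
    -- compare with non-scalar A
    have hxy0 : 2 * x * y = 0 := by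
      by_contra hne
      apply h.not_scalar
      have hA : (2 * x * y) • A = (1 : M2) - (x ^ 2 + ε * y ^ 2) • (1 : M2) :=
        eq_sub_iff_add_eq'.2 hm
      have a01 : (2 * x * y) * A 0 1 = 0 := by
        have := congrFun (congrFun hA 0) 1
        simpa [-mul_eq_zero] using this
      have a10 : (2 * x * y) * A 1 0 = 0 := by
        have := congrFun (congrFun hA 1) 0
        simpa [-mul_eq_zero] using this
      have a00 : (2 * x * y) * A 0 0 = 1 - (x ^ 2 + ε * y ^ 2) := by
        have := congrFun (congrFun hA 0) 0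
        simpa [-mul_eq_zero] using this
      have a11 : (2 * x * y) * A 1 1 = 1 - (x ^ 2 + ε * y ^ 2) := by
        have := congrFun (congrFun hA 1) 1
        simpa [-mul_eq_zero] using this
      refine ⟨?_, ?_, ?_⟩
      · exact (mul_eq_zero.1 a01).resolve_left hne
      · exact (mul_eq_zero.1 a10).resolve_left hne
      · have : (2 * x * y) * (A 0 0 - A 1 1) = 0 := by linear_combination a00 - a11
        have := (mul_eq_zero.1 this).resolve_left hne
        linear_combination this
    have hy0 : y = 0 := by
      rcases mul_eq_zero.1 hxy0 with h' | h'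
      · rcases mul_eq_zero.1 h' with h'' | h''
        · exact absurd h'' h.two_ne
        · -- x = 0: then -εy² = 1 and εy² = 1
          exfalso
          have h00 := congrFun (congrFun hm 0) 0
          simp only [Matrix.add_apply, Matrix.smul_apply, Matrix.one_apply_eq, smul_eq_mul]
            at h00
          rw [h''] at hn h00
          apply h.two_ne
          linear_combination -hn - h00
      · exact h'
    rw [hy0] at hxy
    rcases h.eq_one_or_neg_one hxy with h' | h'
    · left
      apply Subtype.ext
      apply Subtype.ext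
      show (t : M2) = ((1 : S2) : M2)
      rw [Matrix.SpecialLinearGroup.coe_one]
      exact h'
    · right
      apply Subtype.ext
      apply Subtype.ext
      show (t : M2) = ((-1 : S2) : M2)
      rw [hneg]
      exact h'

end IsTorusGen

end Cfsg.Agent.Helper12
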