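import Mathlib
import Cfsg.Agent.Helper12.SL2TorusB
import Cfsg.Agent.Helper12.SL2Unip
import Cfsg.Agent.Helper12.SL2Nonsplit

set_option autoImplicit false

namespace Cfsg.Agent.Helper12

variable {F : Type*} [Field F]

local notation "S2" => Matrix.SpecialLinearGroup (Fin 2) F
local notation "M2" => Matrix (Fin 2) (Fin 2) F

/-- The generator of the non-split torus attached to a non-square `ε`. -/
def nsGen (ε : F) : M2 := !![0, ε; 1, 0]

theorem nsGen_isTorusGen (h2 : (2 : F) ≠ 0) {ε : F} (hε0 : ε ≠ 0) : IsTorusGen (nsGen ε) ε where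
  two_ne := h2
  tr := by simp [nsGen, Matrix.trace_fin_two]
  sq := by
    ext i j
    fin_cases i <;> fin_cases j <;> simp [nsGen, Matrix.mul_apply, Fin.sum_univ_two]
  ne := hε0

theorem mem_torusA_nsGen {ε : F} (_hε0 : ε ≠ 0) (g : S2) :
    g ∈ torusA (nsGen ε) ↔ (g : M2) 1 1 = (g : M2) 0 0 ∧ (g : M2) 0 1 = ε * (g : M2) 1 0 := by
  rw [mem_torusA]
  constructor
  · intro h
    have e00 := congrFun (congrFun h 0) 0
    have e10 := congrFun (congrFun h 1) 0
    simp [nsGen, Matrix.mul_apply, Fin.sum_univ_two] at e00 e10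
    exact ⟨e10, e00⟩
  · rintro ⟨h11, h01⟩
    ext i j
    fin_cases i <;> fin_cases j <;>
      simp [nsGen, Matrix.mul_apply, Fin.sum_univ_two, h01, h11, mul_comm]

/-- The element `x + y A` of the non-split torus. -/
def nsElt (ε x y : F) (h : x ^ 2 - ε * y ^ 2 = 1) : S2 :=
  ⟨!![x, ε * y; y, x], by rw [Matrix.det_fin_two_of]; linear_combination h⟩

theorem nsElt_mem {ε : F} (hε0 : ε ≠ 0) (x y : F) (h : x ^ 2 - ε * y ^ 2 = 1) :
    nsElt ε x y h ∈ torusA (nsGen ε) := by
  rw [mem_torusA_nsGen hε0]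
  simp [nsElt]

theorem eq_nsElt {ε : F} (hε0 : ε ≠ 0) {g : S2} (hg : g ∈ torusA (nsGen ε)) :
    ∃ (x y : F) (h : x ^ 2 - ε * y ^ 2 = 1), g = nsElt ε x y h := by
  obtain ⟨h11, h01⟩ := (mem_torusA_nsGen hε0 g).1 hg
  have hdet := g.2
  rw [Matrix.det_fin_two, h11, h01] at hdet
  refine ⟨(g : M2) 0 0, (g : M2) 1 0, by linear_combination hdet, ?_⟩
  apply Subtype.ext
  ext i j
  fin_cases i <;> fin_cases j <;> simp [nsElt, h11, h01]

theorem nsElt_congr {ε x y x' y' : F} (h : x ^ 2 - ε * y ^ 2 = 1) (h' : x' ^ 2 - ε * y' ^ 2 = 1)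
    (hx : x = x') (hy : y = y') : nsElt ε x y h = nsElt ε x' y' h' := by
  subst hx; subst hy; rfl

/-- A non-square is non-zero. -/
theorem ne_zero_of_not_isSquare {ε : F} (hε : ¬ IsSquare ε) : ε ≠ 0 := by
  rintro rfl
  exact hε ⟨0, by simp⟩

theorem one_sub_ne_zero_of_not_isSquare {ε : F} (hε : ¬ IsSquare ε) (t : F) :
    1 - ε * t ^ 2 ≠ 0 := by
  intro h
  have ht : t ≠ 0 := by
    rintro rfl
    simp at h
  apply hε
  refine ⟨t⁻¹, ?_⟩
  field_simp
  linear_combination -h

/-- The non-split torus has `q + 1` elements. -/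
theorem card_torusA_nsGen [Fintype F] (h2 : (2 : F) ≠ 0) {ε : F} (hε : ¬ IsSquare ε) :
    Nat.card (torusA (nsGen ε)) = Fintype.card F + 1 := by
  classical
  have hε0 := ne_zero_of_not_isSquare hε
  have hD := one_sub_ne_zero_of_not_isSquare hε
  rw [← Fintype.card_option, ← Nat.card_eq_fintype_card]
  symm
  apply Nat.card_congr
  have hnorm : ∀ t : F, ((1 + ε * t ^ 2) / (1 - ε * t ^ 2)) ^ 2 -
      ε * (2 * t / (1 - ε * t ^ 2)) ^ 2 = 1 := by
    intro t
    have := hD t
    field_simp
    ring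
  have hneg : (-1 : F) ^ 2 - ε * (0 : F) ^ 2 = 1 := by ring
  refine Equiv.ofBijective (fun o : Option F => match o with
    | none => ⟨nsElt ε (-1) 0 hneg, nsElt_mem hε0 _ _ _⟩
    | some t => ⟨nsElt ε ((1 + ε * t ^ 2) / (1 - ε * t ^ 2)) (2 * t / (1 - ε * t ^ 2)) (hnorm t),
        nsElt_mem hε0 _ _ _⟩) ⟨?_, ?_⟩
  · -- injective
    have key : ∀ t : F, (1 + ε * t ^ 2) / (1 - ε * t ^ 2) ≠ -1 := by
      intro t h
      have := hD t
      rw [div_eq_iff this] at h
      apply h2
      linear_combination h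
    intro a b hab
    have h00 := congrArg (fun x : torusA (nsGen ε) => ((x : S2) : M2) 0 0) hab
    have h10 := congrArg (fun x : torusA (nsGen ε) => ((x : S2) : M2) 1 0) hab
    cases a with
    | none =>
      cases b with
      | none => rfl
      | some t =>
        simp [nsElt] at h00
        exact absurd h00.symm (key t)
    | some s =>
      cases b with
      | none =>
        simp [nsElt] at h00
        exact absurd h00 (key s)
      | some t =>
        simp only [nsElt, Matrix.of_apply, Matrix.cons_val', Matrix.cons_val_zero,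
          Matrix.cons_val_one, Matrix.cons_val_fin_one] at h00 h10
        congr 1
        have hs := hD s
        have ht := hD t
        -- 1 - ε s² = 1 - ε t² from h00
        have e1 : ε * s ^ 2 = ε * t ^ 2 := by
          rw [div_eq_div_iff hs ht] at h00
          have : (2 : F) * (ε * s ^ 2 - ε * t ^ 2) = 0 := by linear_combination h00
          have := (mul_eq_zero.1 this).resolve_left h2
          linear_combination this
        rw [e1] at h10
        rw [div_left_inj' ht] at h10
        exact mul_left_cancel₀ h2 h10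
  · -- surjective
    rintro ⟨g, hg⟩
    obtain ⟨x, y, hn, rfl⟩ := eq_nsElt hε0 hg
    by_cases hx1 : x = -1
    · refine ⟨none, ?_⟩
      apply Subtype.ext
      show nsElt ε (-1) 0 hneg = nsElt ε x y hn
      have hy0 : y = 0 := by
        have : ε * y ^ 2 = 0 := by rw [hx1] at hn; linear_combination -hn
        rcases mul_eq_zero.1 this with h | h
        · exact absurd h hε0
        · exact pow_eq_zero_iff (two_ne_zero) |>.1 h
      exact nsElt_congr _ _ hx1.symm hy0.symm
    · have hx1' : x + 1 ≠ 0 := fun h => hx1 (by linear_combination h)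
      refine ⟨some (y / (x + 1)), ?_⟩
      apply Subtype.ext
      show nsElt ε _ _ (hnorm (y / (x + 1))) = nsElt ε x y hn
      have hDD : 1 - ε * (y / (x + 1)) ^ 2 = 2 / (x + 1) := by
        field_simp
        linear_combination hn
      have e1 : (1 + ε * (y / (x + 1)) ^ 2) / (1 - ε * (y / (x + 1)) ^ 2) = x := by
        have : 1 + ε * (y / (x + 1)) ^ 2 = 2 - 2 / (x + 1) := by rw [← hDD]; ring
        rw [this, hDD]
        field_simp
        ring
      have e2 : 2 * (y / (x + 1)) / (1 - ε * (y / (x + 1)) ^ 2) = y := by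
        rw [hDD]
        field_simp
      exact nsElt_congr _ _ e1 e2

/-- An element of `SL₂` anticommuting with the generator of the non-split torus. -/
theorem exists_anticomm_nsGen [Fintype F] (h2 : (2 : F) ≠ 0) {ε : F} (hε0 : ε ≠ 0) :
    ∃ w : S2, (w : M2) * nsGen ε = -(nsGen ε * (w : M2)) := by
  have hodd : Fintype.card F % 2 = 1 := by
    apply FiniteField.odd_card_of_char_ne_two
    intro h
    apply h2
    have : CharP F 2 := ringChar.of_eq h
    exact CharTwo.two_eq_zero
  have hf : (Polynomial.X ^ 2 : Polynomial F).degree = 2 := by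
    rw [Polynomial.degree_X_pow]; rfl
  have hg : (Polynomial.C (-ε) * Polynomial.X ^ 2 + Polynomial.C 1 : Polynomial F).degree = 2 := by
    rw [Polynomial.degree_add_C, Polynomial.degree_C_mul_X_pow]
    · rfl
    · exact neg_ne_zero.2 hε0
    · rw [Polynomial.degree_C_mul_X_pow _ (neg_ne_zero.2 hε0)]
      norm_num
  obtain ⟨a, b, hab⟩ := FiniteField.exists_root_sum_quadratic hf hg hodd
  simp only [Polynomial.eval_pow, Polynomial.eval_X, Polynomial.eval_add, Polynomial.eval_mul,
    Polynomial.eval_C] at hab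
  refine ⟨⟨!![a, ε * b; -b, -a], by rw [Matrix.det_fin_two_of]; linear_combination -hab⟩, ?_⟩
  ext i j
  fin_cases i <;> fin_cases j <;> simp [nsGen, Matrix.mul_apply, Fin.sum_univ_two, mul_comm]

/-- The non-split torus is cyclic. -/
theorem isCyclic_torusA_nsGen [Finite F] {ε : F} (hε : ¬ IsSquare ε) :
    IsCyclic (torusA (nsGen ε)) := by
  have hε0 := ne_zero_of_not_isSquare hε
  have : Fact (∀ r : F, r ^ 2 ≠ ε + 0 * r) := ⟨by
    intro r h
    apply hε
    exact ⟨r, by rw [← pow_two, h]; ring⟩⟩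
  let f : torusA (nsGen ε) →* QuadraticAlgebra F ε 0 :=
    { toFun := fun g => ⟨((g : S2) : M2) 0 0, ((g : S2) : M2) 1 0⟩
      map_one' := by
        ext
        · simp [QuadraticAlgebra.re_one]
        · simp [QuadraticAlgebra.im_one]
      map_mul' := by
        rintro ⟨a, ha⟩ ⟨b, hb⟩
        obtain ⟨a11, a01⟩ := (mem_torusA_nsGen hε0 a).1 ha
        obtain ⟨b11, b01⟩ := (mem_torusA_nsGen hε0 b).1 hb
        ext
        · simp [Matrix.mul_apply, Fin.sum_univ_two, a01]
        · simp [Matrix.mul_apply, Fin.sum_univ_two, a11]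
          ring }
  have hf : Function.Injective f := by
    rintro ⟨a, ha⟩ ⟨b, hb⟩ hab
    obtain ⟨a11, a01⟩ := (mem_torusA_nsGen hε0 a).1 ha
    obtain ⟨b11, b01⟩ := (mem_torusA_nsGen hε0 b).1 hb
    have h1 : (a : M2) 0 0 = (b : M2) 0 0 := congrArg QuadraticAlgebra.re hab
    have h2 : (a : M2) 1 0 = (b : M2) 1 0 := congrArg QuadraticAlgebra.im hab
    apply Subtype.ext
    apply Subtype.ext
    ext i j
    fin_cases i <;> fin_cases j
    · exact h1
    · show (a : M2) 0 1 = (b : M2) 0 1
      rw [a01, b01, h2]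
    · exact h2
    · show (a : M2) 1 1 = (b : M2) 1 1
      rw [a11, b11, h1]
  exact isCyclic_of_injective_ringHom f hf

/-- The trace of an element without eigenvectors has non-square discriminant. -/
theorem not_isSquare_disc_of_no_eigen (h2 : (2 : F) ≠ 0) (g : S2)
    (hg : ∀ (c : F) (v : Fin 2 → F), v ≠ 0 → (g : M2).mulVec v ≠ c • v) :
    ¬ IsSquare ((g : M2).trace ^ 2 - 4) := by
  rintro ⟨s, hs⟩
  have h4 : (4 : F) = 2 * 2 := by norm_num
  apply root_ne_zero_of_no_eigenvector (g : M2) hg (((g : M2).trace + s) / 2)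
  rw [g.2]
  field_simp
  linear_combination -hs

/-- Every element of `SL₂` without eigenvectors is conjugate into the non-split torus. -/
theorem exists_conj_mem_torusA_nsGen [Fintype F] (h2 : (2 : F) ≠ 0) {ε : F} (hε : ¬ IsSquare ε)
    (g : S2) (hg : ∀ (c : F) (v : Fin 2 → F), v ≠ 0 → (g : M2).mulVec v ≠ c • v) :
    ∃ h : S2, h * g * h⁻¹ ∈ torusA (nsGen ε) := by
  have hε0 := ne_zero_of_not_isSquare hε
  have hdisc := not_isSquare_disc_of_no_eigen h2 g hg
  set t := (g : M2).trace with ht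
  have h4 : (4 : F) ≠ 0 := by
    have : (4 : F) = 2 * 2 := by norm_num
    rw [this]; exact mul_ne_zero h2 h2
  have hr : ¬ IsSquare ((t ^ 2 - 4) / 4) := by
    rintro ⟨s, hs⟩
    apply hdisc
    refine ⟨2 * s, ?_⟩
    field_simp at hs
    linear_combination hs
  have hr0 : (t ^ 2 - 4) / 4 ≠ 0 := ne_zero_of_not_isSquare hr
  obtain ⟨s, hs⟩ := isSquare_div_of_iff hε0 hr0 (by simp [hε, hr])
  have hs0 : s ≠ 0 := by
    rintro rfl
    rw [mul_zero] at hs
    exact (div_ne_zero hr0 hε0) hs
  have hn : (t / 2) ^ 2 - ε * s ^ 2 = 1 := by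
    have : ε * s ^ 2 = (t ^ 2 - 4) / 4 := by
      rw [pow_two, ← hs]; field_simp
    rw [this]
    field_simp
    ring
  set d := nsElt ε (t / 2) s hn with hd
  have hdT : d ∈ torusA (nsGen ε) := nsElt_mem hε0 _ _ _
  have hgs : ¬ IsScalar2 (g : M2) := by
    intro hsc
    apply hg ((g : M2) 0 0) ![1, 0] (by simp)
    ext i
    fin_cases i <;> simp [Matrix.mulVec, dotProduct, Fin.sum_univ_two, hsc.2.1]
  have hds : ¬ IsScalar2 (d : M2) := by
    intro hsc
    apply hs0
    have := hsc.2.1
    simpa [hd, nsElt] using this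
  have htr : (g : M2).trace = (d : M2).trace := by
    rw [← ht, hd]
    simp only [nsElt, Matrix.trace_fin_two_of]
    field_simp
    ring
  have hne4 : (g : M2).trace ^ 2 ≠ 4 := by
    intro h
    apply hdisc
    rw [← ht] at h
    rw [h, sub_self]
    exact ⟨0, by simp⟩
  have hconj := sl2_isConj_of_trace_eq g d hgs hds htr (Or.inr hne4)
  obtain ⟨c, hc⟩ := isConj_iff.1 hconj
  exact ⟨c, by rw [hc]; exact hdT⟩

end Cfsg.Agent.Helper12
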