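import Mathlib
import Cfsg.Agent.Helper12.SL2TorusB

set_option autoImplicit false

namespace Cfsg.Agent.Helper12

variable {F : Type*} [Field F]

local notation "S2" => Matrix.SpecialLinearGroup (Fin 2) F
local notation "M2" => Matrix (Fin 2) (Fin 2) F

theorem two_ne_zero_of_odd_card [Fintype F] (hodd : Odd (Fintype.card F)) : (2 : F) ≠ 0 := by
  intro h
  have h2 : ringChar F = 2 :=
    CharP.ringChar_of_prime_eq_zero Nat.prime_two (by exact_mod_cast h)
  have := FiniteField.even_card_of_char_two h2
  rw [Nat.odd_iff] at hodd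
  omega

/-- The generator `diag(1, -1)` of the split torus. -/
def splitGen : M2 := !![1, 0; 0, -1]

theorem splitGen_isTorusGen (h2 : (2 : F) ≠ 0) : IsTorusGen (splitGen (F := F)) 1 where
  two_ne := h2
  tr := by simp [splitGen, Matrix.trace_fin_two]
  sq := by
    ext i j
    fin_cases i <;> fin_cases j <;> simp [splitGen, Matrix.mul_apply, Fin.sum_univ_two]
  ne := one_ne_zero

theorem mem_torusA_splitGen (h2 : (2 : F) ≠ 0) (g : S2) :
    g ∈ torusA (splitGen (F := F)) ↔ (g : M2) 0 1 = 0 ∧ (g : M2) 1 0 = 0 := by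
  rw [mem_torusA]
  constructor
  · intro h
    have e01 := congrFun (congrFun h 0) 1
    have e10 := congrFun (congrFun h 1) 0
    simp [splitGen, Matrix.mul_apply, Fin.sum_univ_two] at e01 e10
    constructor
    · have : (2 : F) * (g : M2) 0 1 = 0 := by linear_combination -e01
      exact (mul_eq_zero.1 this).resolve_left h2
    · have : (2 : F) * (g : M2) 1 0 = 0 := by linear_combination e10
      exact (mul_eq_zero.1 this).resolve_left h2
  · rintro ⟨h01, h10⟩
    ext i j
    fin_cases i <;> fin_cases j <;> simp [splitGen, Matrix.mul_apply, Fin.sum_univ_two, h01, h10]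

/-- The Weyl element. -/
def weylS : S2 := ⟨!![0, 1; -1, 0], by simp [Matrix.det_fin_two]⟩

theorem weylS_anticomm : ((weylS (F := F)) : M2) * splitGen = -(splitGen * ((weylS (F := F)) : M2)) := by
  ext i j
  fin_cases i <;> fin_cases j <;> simp [weylS, splitGen, Matrix.mul_apply, Fin.sum_univ_two]

/-- Diagonal elements of `SL₂`. -/
def diagS (a : Fˣ) : S2 := ⟨!![(a : F), 0; 0, ((a⁻¹ : Fˣ) : F)], by simp [Matrix.det_fin_two]⟩

theorem card_torusA_splitGen [Fintype F] (h2 : (2 : F) ≠ 0) :
    Nat.card (torusA (splitGen (F := F))) = Fintype.card F - 1 := by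
  classical
  rw [← Fintype.card_units, ← Nat.card_eq_fintype_card]
  symm
  apply Nat.card_congr
  refine Equiv.ofBijective (fun a : Fˣ => ⟨diagS a, ?_⟩) ⟨?_, ?_⟩
  · rw [mem_torusA_splitGen h2]
    simp [diagS]
  · intro a b hab
    have h1 : (diagS a : M2) 0 0 = (diagS b : M2) 0 0 := by
      have := congrArg (fun x : torusA (splitGen (F := F)) => ((x : S2) : M2) 0 0) hab
      exact this
    simp [diagS] at h1
    exact Units.ext h1
  · rintro ⟨g, hg⟩
    obtain ⟨h01, h10⟩ := (mem_torusA_splitGen h2 g).1 hg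
    have hdet := g.2
    rw [Matrix.det_fin_two, h01, h10, mul_zero, sub_zero] at hdet
    refine ⟨Units.mkOfMulEqOne _ _ hdet, ?_⟩
    apply Subtype.ext
    apply Subtype.ext
    ext i j
    fin_cases i <;> fin_cases j
    · simp [diagS]
    · simp [diagS, h01]
    · simp [diagS, h10]
    · simp [diagS]
      exact inv_eq_of_mul_eq_one_right hdet

end Cfsg.Agent.Helper12
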