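import Mathlib
import Cfsg.Agent.Helper12.SL2TorusB

set_option autoImplicit false

namespace Cfsg.Agent.Helper12

variable {F : Type*} [Field F]

local notation "S2" => Matrix.SpecialLinearGroup (Fin 2) F
local notation "M2" => Matrix (Fin 2) (Fin 2) F

/-- The conjugate of a matrix by an element of `SL₂`. -/
def conjGen (g : S2) (A : M2) : M2 := (g : M2) * A * ((g⁻¹ : S2) : M2)

theorem conjGen_isTorusGen {A : M2} {ε : F} (h : IsTorusGen A ε) (g : S2) :
    IsTorusGen (conjGen g A) ε where
  two_ne := h.two_ne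
  tr := by
    rw [conjGen, Matrix.trace_mul_comm, ← Matrix.mul_assoc, sl2_coe_inv_mul, Matrix.one_mul, h.tr]
  sq := by
    have : conjGen g A * conjGen g A = (g : M2) * (A * A) * ((g⁻¹ : S2) : M2) := by
      simp only [conjGen, Matrix.mul_assoc]
      rw [← Matrix.mul_assoc ((g⁻¹ : S2) : M2) (g : M2), sl2_coe_inv_mul, Matrix.one_mul]
    rw [this, h.sq, Matrix.mul_smul, Matrix.smul_mul, Matrix.mul_one, sl2_coe_mul_inv]
  ne := h.ne

theorem mem_torusA_conjGen (A : M2) (g x : S2) :
    x ∈ torusA (conjGen g A) ↔ g⁻¹ * x * g ∈ torusA A := by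
  rw [mem_torusA, mem_torusA, conjGen, Matrix.SpecialLinearGroup.coe_mul,
    Matrix.SpecialLinearGroup.coe_mul]
  constructor
  · intro h
    -- multiply by g⁻¹ on the left and g on the right
    have h1 := congrArg (fun M : M2 => ((g⁻¹ : S2) : M2) * M * (g : M2)) h
    simp only [Matrix.mul_assoc] at h1
    rw [sl2_coe_inv_mul, Matrix.mul_one] at h1
    rw [← Matrix.mul_assoc ((g⁻¹ : S2) : M2) (g : M2), sl2_coe_inv_mul, Matrix.one_mul] at h1
    simp only [Matrix.mul_assoc]
    exact h1
  · intro h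
    have h1 := congrArg (fun M : M2 => (g : M2) * M * ((g⁻¹ : S2) : M2)) h
    simp only [Matrix.mul_assoc] at h1
    rw [sl2_coe_mul_inv, Matrix.mul_one] at h1
    rw [← Matrix.mul_assoc (g : M2) ((g⁻¹ : S2) : M2), sl2_coe_mul_inv, Matrix.one_mul] at h1
    simp only [Matrix.mul_assoc]
    exact h1

/-- Conjugation identifies the conjugated torus with the torus. -/
def torusAConjEquiv (A : M2) (g : S2) : torusA (conjGen g A) ≃* torusA A where
  toFun x := ⟨g⁻¹ * (x : S2) * g, (mem_torusA_conjGen A g x).1 x.2⟩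
  invFun y := ⟨g * (y : S2) * g⁻¹, by
    rw [mem_torusA_conjGen]
    have : g⁻¹ * (g * (y : S2) * g⁻¹) * g = y := by group
    rw [this]
    exact y.2⟩
  left_inv x := by
    apply Subtype.ext
    show g * (g⁻¹ * (x : S2) * g) * g⁻¹ = x
    group
  right_inv y := by
    apply Subtype.ext
    show g⁻¹ * (g * (y : S2) * g⁻¹) * g = y
    group
  map_mul' x y := by
    apply Subtype.ext
    show g⁻¹ * ((x : S2) * (y : S2)) * g = (g⁻¹ * (x : S2) * g) * (g⁻¹ * (y : S2) * g)
    group

theorem card_torusA_conjGen (A : M2) (g : S2) :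
    Nat.card (torusA (conjGen g A)) = Nat.card (torusA A) :=
  Nat.card_congr (torusAConjEquiv A g).toEquiv

theorem isCyclic_torusA_conjGen (A : M2) (g : S2) (h : IsCyclic (torusA A)) :
    IsCyclic (torusA (conjGen g A)) :=
  isCyclic_of_surjective (torusAConjEquiv A g).symm (torusAConjEquiv A g).symm.surjective

theorem exists_anticomm_conjGen {A : M2} (g : S2)
    (hw : ∃ w : S2, (w : M2) * A = -(A * (w : M2))) :
    ∃ w : S2, (w : M2) * conjGen g A = -(conjGen g A * (w : M2)) := by
  obtain ⟨w, hw⟩ := hw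
  refine ⟨g * w * g⁻¹, ?_⟩
  rw [conjGen, Matrix.SpecialLinearGroup.coe_mul, Matrix.SpecialLinearGroup.coe_mul]
  have e1 : (g : M2) * (w : M2) * ((g⁻¹ : S2) : M2) * ((g : M2) * A * ((g⁻¹ : S2) : M2)) =
      (g : M2) * ((w : M2) * A) * ((g⁻¹ : S2) : M2) := by
    simp only [Matrix.mul_assoc]
    rw [← Matrix.mul_assoc ((g⁻¹ : S2) : M2) (g : M2), sl2_coe_inv_mul, Matrix.one_mul]
  have e2 : (g : M2) * A * ((g⁻¹ : S2) : M2) * ((g : M2) * (w : M2) * ((g⁻¹ : S2) : M2)) =
      (g : M2) * (A * (w : M2)) * ((g⁻¹ : S2) : M2) := by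
    simp only [Matrix.mul_assoc]
    rw [← Matrix.mul_assoc ((g⁻¹ : S2) : M2) (g : M2), sl2_coe_inv_mul, Matrix.one_mul]
  rw [e1, e2, hw, Matrix.mul_neg, Matrix.neg_mul]

/-- A `p`-subgroup lies in a conjugate of the torus when `p` does not divide the index. -/
theorem exists_le_torusA_conjGen [Finite F] (A : M2) (ℓ : ℕ) [Fact ℓ.Prime] (P : Subgroup S2)
    (hP : IsPGroup ℓ P) (hidx : ¬ ℓ ∣ (torusA A).index) :
    ∃ g : S2, P ≤ torusA (conjGen g A) := by
  have hfix := hP.nonempty_fixed_point_of_prime_not_dvd_card (S2 ⧸ torusA A) (by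
    rw [← Subgroup.index_eq_card]; exact hidx)
  obtain ⟨a, ha⟩ := hfix
  obtain ⟨g, rfl⟩ := QuotientGroup.mk_surjective a
  refine ⟨g, ?_⟩
  intro x hx
  rw [mem_torusA_conjGen]
  have h1 := ha ⟨x, hx⟩
  have h2 : ((x * g : S2) : S2 ⧸ torusA A) = (g : S2 ⧸ torusA A) := h1
  rw [QuotientGroup.eq] at h2
  have h3 := (torusA A).inv_mem h2
  have e : ((x * g)⁻¹ * g)⁻¹ = g⁻¹ * x * g := by group
  rwa [e] at h3

namespace IsTorusGen

/-- An element conjugating some non-central element of the torus into the torus lies in `normA`. -/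
theorem mem_normA_of_conj_mem {A : M2} {ε : F} (h : IsTorusGen A ε) {d g : S2}
    (hd : d ∈ torusA A) (hd1 : (d : M2) ≠ 1) (hd2 : (d : M2) ≠ -1)
    (hgd : g * d * g⁻¹ ∈ torusA A) : g ∈ normA A := by
  obtain ⟨x, y, hxy, hn⟩ := h.torus_form hd
  obtain ⟨x', y', hxy', hn'⟩ := h.torus_form hgd
  have hy : y ≠ 0 := by
    rintro rfl
    rcases h.eq_one_or_neg_one hxy with h' | h'
    · exact hd1 h'
    · exact hd2 h'
  have e1 : (g : M2) * (d : M2) = ((g * d * g⁻¹ : S2) : M2) * (g : M2) := by
    rw [← Matrix.SpecialLinearGroup.coe_mul, ← Matrix.SpecialLinearGroup.coe_mul,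
      inv_mul_cancel_right]
  rw [hxy, hxy'] at e1
  simp only [Matrix.mul_add, Matrix.add_mul, Matrix.mul_smul, Matrix.smul_mul, Matrix.mul_one,
    Matrix.one_mul] at e1
  have htr : ((g * d * g⁻¹ : S2) : M2).trace = (d : M2).trace := by
    rw [Matrix.SpecialLinearGroup.coe_mul, Matrix.SpecialLinearGroup.coe_mul,
      Matrix.trace_mul_comm, ← Matrix.mul_assoc, sl2_coe_inv_mul, Matrix.one_mul]
  rw [hxy, hxy'] at htr
  simp only [Matrix.trace_add, Matrix.trace_smul, Matrix.trace_one, h.tr, smul_eq_mul,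
    mul_zero, add_zero, Fintype.card_fin] at htr
  have hxx : x' = x := by
    have : (2 : F) * (x' - x) = 0 := by
      push_cast at htr
      linear_combination htr
    have := (mul_eq_zero.1 this).resolve_left h.two_ne
    linear_combination this
  rw [hxx] at e1 hn'
  have e2 : y • ((g : M2) * A) = y' • (A * (g : M2)) := add_left_cancel e1
  have hyy : (y' - y) * (y' + y) = 0 := by
    have : ε * ((y' - y) * (y' + y)) = 0 := by linear_combination hn - hn'
    exact (mul_eq_zero.1 this).resolve_left h.ne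
  rcases mul_eq_zero.1 hyy with h' | h'
  · left
    have : y' = y := by linear_combination h'
    rw [this] at e2
    exact smul_right_injective _ hy e2
  · right
    have : y' = -y := by linear_combination h'
    rw [this, neg_smul, ← smul_neg] at e2
    exact smul_right_injective _ hy e2

/-- The centraliser and normaliser of a subgroup of the torus containing a non-central
element, closed under nothing but being a subgroup. -/
theorem centralizer_normalizer_of_le {A : M2} {ε : F} (h : IsTorusGen A ε) (P : Subgroup S2)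
    (hP : P ≤ torusA A) {x : S2} (hx : x ∈ P) (hx1 : (x : M2) ≠ 1) (hx2 : (x : M2) ≠ -1) :
    Subgroup.centralizer (P : Set S2) = torusA A ∧
      Subgroup.normalizer (P : Set S2) = normA A := by
  constructor
  · apply le_antisymm
    · rw [← h.centralizer_eq (hP hx) hx1 hx2]
      apply Subgroup.centralizer_le
      intro y hy
      rw [Set.mem_singleton_iff] at hy
      rw [hy]; exact hx
    · intro t ht
      rw [Subgroup.mem_centralizer_iff]
      intro p hp
      exact h.torus_comm (hP hp) ht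
  · have hfwd : ∀ n : S2, n ∈ normA A → ∀ p : S2, p ∈ P → n * p * n⁻¹ ∈ P := by
      intro n hn p hp
      rcases hn with hn | hn
      · have : n * p * n⁻¹ = p := by
          rw [h.torus_comm hn (hP hp)]
          group
        rw [this]; exact hp
      · rw [h.conj_eq_inv hn (hP hp)]
        exact P.inv_mem hp
    ext n
    rw [Subgroup.mem_normalizer_iff]
    constructor
    · intro hn
      exact h.mem_normA_of_conj_mem (hP hx) hx1 hx2 (hP ((hn x).1 hx))
    · intro hn p
      constructor
      · exact hfwd n hn p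
      · intro hp
        have := hfwd n⁻¹ ((normA A).inv_mem hn) _ hp
        have e : n⁻¹ * (n * p * n⁻¹) * n⁻¹⁻¹ = p := by group
        rwa [e] at this

end IsTorusGen

end Cfsg.Agent.Helper12
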