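import Mathlib
import Cfsg.Agent.Helper12.SL2TorusConj
import Cfsg.Agent.Helper12.SL2SplitTorus
import Cfsg.Agent.Helper12.SL2NonsplitTorus
import Cfsg.Agent.S2301

set_option autoImplicit false

namespace Cfsg.Agent.Helper12

variable {F : Type*} [Field F]

local notation "S2" => Matrix.SpecialLinearGroup (Fin 2) F
local notation "M2" => Matrix (Fin 2) (Fin 2) F

/-- The split torus is cyclic. -/
theorem isCyclic_torusA_splitGen [Finite F] (h2 : (2 : F) ≠ 0) :
    IsCyclic (torusA (splitGen (F := F))) := by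
  let f : torusA (splitGen (F := F)) →* F :=
    { toFun := fun g => ((g : S2) : M2) 0 0
      map_one' := by simp
      map_mul' := by
        rintro ⟨a, ha⟩ ⟨b, hb⟩
        obtain ⟨a01, a10⟩ := (mem_torusA_splitGen h2 a).1 ha
        simp [Matrix.mul_apply, Fin.sum_univ_two, a01] }
  have hf : Function.Injective f := by
    rintro ⟨a, ha⟩ ⟨b, hb⟩ hab
    obtain ⟨a01, a10⟩ := (mem_torusA_splitGen h2 a).1 ha
    obtain ⟨b01, b10⟩ := (mem_torusA_splitGen h2 b).1 hb
    have h00 : (a : M2) 0 0 = (b : M2) 0 0 := hab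
    have hda := a.2
    have hdb := b.2
    rw [Matrix.det_fin_two, a01, a10, mul_zero, sub_zero] at hda
    rw [Matrix.det_fin_two, b01, b10, mul_zero, sub_zero] at hdb
    have h11 : (a : M2) 1 1 = (b : M2) 1 1 := by
      have ha0 : (a : M2) 0 0 ≠ 0 := left_ne_zero_of_mul_eq_one hda
      apply mul_left_cancel₀ ha0
      rw [hda, h00, hdb]
    apply Subtype.ext
    apply Subtype.ext
    ext i j
    fin_cases i <;> fin_cases j
    · exact h00
    · show (a : M2) 0 1 = (b : M2) 0 1
      rw [a01, b01]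
    · show (a : M2) 1 0 = (b : M2) 1 0
      rw [a10, b10]
    · exact h11
  exact isCyclic_of_injective_ringHom f hf

/-- A Sylow `ℓ`-subgroup (`ℓ` odd) of `SL₂` lying, up to conjugacy, in a torus: its centraliser
is a conjugate of the torus and its normaliser the normaliser of that torus. -/
theorem sylow_in_torus [Fintype F] {A : M2} {ε : F} (h : IsTorusGen A ε)
    (hw : ∃ w : S2, (w : M2) * A = -(A * (w : M2))) (hcyc : IsCyclic (torusA A))
    (ℓ : ℕ) [Fact ℓ.Prime] (hℓ : ℓ ≠ 2) (P : Sylow ℓ S2) (hdvd : ℓ ∣ Nat.card S2)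
    (hidx : ¬ ℓ ∣ (torusA A).index) :
    Nat.card (Subgroup.centralizer ((P : Subgroup S2) : Set S2)) = Nat.card (torusA A) ∧
    IsCyclic (Subgroup.centralizer ((P : Subgroup S2) : Set S2)) ∧
    Nat.card (Subgroup.normalizer ((P : Subgroup S2) : Set S2)) = 2 * Nat.card (torusA A) := by
  obtain ⟨g, hg⟩ := exists_le_torusA_conjGen A ℓ (P : Subgroup S2) P.isPGroup' hidx
  have h₁ := conjGen_isTorusGen h g
  have hne := P.ne_bot_of_dvd_card hdvd
  obtain ⟨⟨x, hx⟩, hx1⟩ := (Subgroup.ne_bot_iff_exists_ne_one).1 hne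
  have hx1' : x ≠ 1 := by
    intro h'
    apply hx1
    exact Subtype.ext h'
  have hxm1 : ((x : S2) : M2) ≠ 1 := by
    intro h'
    apply hx1'
    apply Subtype.ext
    rw [h', Matrix.SpecialLinearGroup.coe_one]
  have hxm2 : ((x : S2) : M2) ≠ -1 := by
    intro h'
    apply hx1'
    have hsq : (x : S2) * x = 1 := by
      apply Subtype.ext
      rw [Matrix.SpecialLinearGroup.coe_mul, h', Matrix.SpecialLinearGroup.coe_one]
      simp
    obtain ⟨k, hk⟩ := P.isPGroup' ⟨x, hx⟩
    have hk' : (x : S2) ^ (ℓ ^ k) = 1 := by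
      have := congrArg (fun y : (P : Subgroup S2) => (y : S2)) hk
      simpa using this
    have hodd : Odd (ℓ ^ k) := by
      apply Odd.pow
      exact (Fact.out : ℓ.Prime).odd_of_ne_two hℓ
    obtain ⟨m, hm⟩ := hodd
    rw [hm, pow_succ, pow_mul, pow_two, hsq, one_pow, one_mul] at hk'
    exact hk'
  obtain ⟨hC, hN⟩ := h₁.centralizer_normalizer_of_le (P : Subgroup S2) hg hx hxm1 hxm2
  rw [hC, hN]
  refine ⟨card_torusA_conjGen A g, isCyclic_torusA_conjGen A g hcyc, ?_⟩
  rw [h₁.card_normA (exists_anticomm_conjGen g hw), card_torusA_conjGen]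

/-- The index of a subgroup of `SL₂(q)` of order `q - 1`. -/
theorem index_of_card_sub_one [Fintype F] (T : Subgroup S2)
    (hT : Nat.card T = Fintype.card F - 1) : T.index = (Fintype.card F + 1) * Fintype.card F := by
  classical
  have h1 := T.index_mul_card
  rw [Cfsg.Agent.S2301.card_sl2, hT] at h1
  have hq : 1 < Fintype.card F := Fintype.one_lt_card
  have : T.index * (Fintype.card F - 1) =
      ((Fintype.card F + 1) * Fintype.card F) * (Fintype.card F - 1) := by
    rw [h1]; ring
  exact Nat.eq_of_mul_eq_mul_right (by omega) this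

/-- The index of a subgroup of `SL₂(q)` of order `q + 1`. -/
theorem index_of_card_add_one [Fintype F] (T : Subgroup S2)
    (hT : Nat.card T = Fintype.card F + 1) : T.index = (Fintype.card F - 1) * Fintype.card F := by
  classical
  have h1 := T.index_mul_card
  rw [Cfsg.Agent.S2301.card_sl2, hT] at h1
  have : T.index * (Fintype.card F + 1) =
      ((Fintype.card F - 1) * Fintype.card F) * (Fintype.card F + 1) := by
    rw [h1]; ring
  exact Nat.eq_of_mul_eq_mul_right (by omega) this

end Cfsg.Agent.Helper12
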