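import Mathlib
import Cfsg.Agent.Helper12.SL2SylowTorus

set_option autoImplicit false

namespace Cfsg.Agent.Helper12

variable {F : Type*} [Field F]

local notation "S2" => Matrix.SpecialLinearGroup (Fin 2) F
local notation "M2" => Matrix (Fin 2) (Fin 2) F

theorem sl2_neg_one_coe : ((-1 : S2) : M2) = -1 := by
  rw [Matrix.SpecialLinearGroup.coe_neg, Matrix.SpecialLinearGroup.coe_one]

/-- In odd characteristic the only elements of `SL₂` of square one are `±1`. -/
theorem sl2_eq_of_sq_eq_one (h2 : (2 : F) ≠ 0) (x : S2) (hx : x * x = 1) : x = 1 ∨ x = -1 := by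
  have hm : (x : M2) * (x : M2) = 1 := by
    rw [← Matrix.SpecialLinearGroup.coe_mul, hx, Matrix.SpecialLinearGroup.coe_one]
  have e00 := congrFun (congrFun hm 0) 0
  have e01 := congrFun (congrFun hm 0) 1
  have e10 := congrFun (congrFun hm 1) 0
  have e11 := congrFun (congrFun hm 1) 1
  simp only [Matrix.mul_apply, Fin.sum_univ_two, Matrix.one_apply_eq, Matrix.one_apply_ne,
    ne_eq, zero_ne_one, one_ne_zero, not_false_eq_true] at e00 e01 e10 e11
  have hdet := x.2
  rw [Matrix.det_fin_two] at hdet
  have ht : (x : M2) 0 0 + (x : M2) 1 1 ≠ 0 := by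
    intro ht
    have h11 : (x : M2) 1 1 = -(x : M2) 0 0 := by linear_combination ht
    rw [h11] at hdet
    apply h2
    linear_combination -e00 - hdet
  have h01 : (x : M2) 0 1 = 0 := by
    have : (x : M2) 0 1 * ((x : M2) 0 0 + (x : M2) 1 1) = 0 := by linear_combination e01
    exact (mul_eq_zero.1 this).resolve_right ht
  have h10 : (x : M2) 1 0 = 0 := by
    have : (x : M2) 1 0 * ((x : M2) 0 0 + (x : M2) 1 1) = 0 := by linear_combination e10
    exact (mul_eq_zero.1 this).resolve_right ht
  rw [h01, h10] at hdet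
  rw [h01] at e00 e11
  have hsq : ((x : M2) 0 0 - 1) * ((x : M2) 0 0 + 1) = 0 := by linear_combination e00
  have h0011 : (x : M2) 1 1 = (x : M2) 0 0 := by
    have : (x : M2) 0 0 * ((x : M2) 1 1 - (x : M2) 0 0) = 0 := by linear_combination hdet - e00
    have h00 : (x : M2) 0 0 ≠ 0 := by
      intro h0
      rw [h0] at e00
      simp at e00
    have := (mul_eq_zero.1 this).resolve_left h00
    linear_combination this
  rcases mul_eq_zero.1 hsq with h | h
  · left
    apply Subtype.ext
    rw [Matrix.SpecialLinearGroup.coe_one]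
    have h00 : (x : M2) 0 0 = 1 := by linear_combination h
    ext i j
    fin_cases i <;> fin_cases j <;> simp [h01, h10, h00, h0011]
  · right
    apply Subtype.ext
    rw [sl2_neg_one_coe]
    have h00 : (x : M2) 0 0 = -1 := by linear_combination h
    ext i j
    fin_cases i <;> fin_cases j <;> simp [h01, h10, h00, h0011]

/-- An element of `SL₂` of square `-1` is a torus generator. -/
theorem isTorusGen_of_sq (h2 : (2 : F) ≠ 0) (a : S2) (ha : a * a = -1) :
    IsTorusGen (a : M2) (-1) := by
  have hm : (a : M2) * (a : M2) = -1 := by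
    rw [← Matrix.SpecialLinearGroup.coe_mul, ha, sl2_neg_one_coe]
  have e00 := congrFun (congrFun hm 0) 0
  have e01 := congrFun (congrFun hm 0) 1
  have e10 := congrFun (congrFun hm 1) 0
  have e11 := congrFun (congrFun hm 1) 1
  simp only [Matrix.mul_apply, Fin.sum_univ_two, Matrix.neg_apply, Matrix.one_apply_eq,
    Matrix.one_apply_ne, ne_eq, zero_ne_one, one_ne_zero, not_false_eq_true, neg_zero]
    at e00 e01 e10 e11
  have hdet := a.2
  rw [Matrix.det_fin_two] at hdet
  refine ⟨h2, ?_, ?_, neg_ne_zero.2 one_ne_zero⟩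
  · rw [Matrix.trace_fin_two]
    by_contra ht
    have h01 : (a : M2) 0 1 = 0 := by
      have : (a : M2) 0 1 * ((a : M2) 0 0 + (a : M2) 1 1) = 0 := by linear_combination e01
      exact (mul_eq_zero.1 this).resolve_right ht
    rw [h01] at e00 e11 hdet
    apply ht
    have : ((a : M2) 0 0 + (a : M2) 1 1) ^ 2 = 0 := by
      linear_combination e00 + e11 + 2 * hdet
    exact pow_eq_zero_iff (two_ne_zero) |>.1 this
  · rw [hm]; simp

/-- Elements of `SL₂` of square `-1` are conjugate. -/
theorem isConj_of_sq_eq_neg_one [Fintype F] (h2 : (2 : F) ≠ 0) (a b : S2) (ha : a * a = -1)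
    (hb : b * b = -1) : IsConj a b := by
  have hA := isTorusGen_of_sq h2 a ha
  have hB := isTorusGen_of_sq h2 b hb
  have h4 : (4 : F) ≠ 0 := by
    have : (4 : F) = 2 * 2 := by norm_num
    rw [this]; exact mul_ne_zero h2 h2
  apply sl2_isConj_of_trace_eq a b hA.not_scalar hB.not_scalar
  · rw [hA.tr, hB.tr]
  · right
    rw [hA.tr]
    intro h
    apply h4
    rw [← h]; ring

/-- A subgroup of order four of `SL₂` in odd characteristic is generated by an element of
square `-1`. -/
theorem exists_gen_of_card_four [Finite F] (h2 : (2 : F) ≠ 0) (A : Subgroup S2)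
    (hA : Nat.card A = 4) : ∃ a : S2, a * a = -1 ∧ A = Subgroup.zpowers a := by
  -- an element different from ±1
  have hex : ∃ a : S2, a ∈ A ∧ a ≠ 1 ∧ a ≠ -1 := by
    by_contra hno
    push Not at hno
    have hsub : (A : Set S2) ⊆ {1, -1} := by
      intro d hd
      by_cases h1 : d = 1
      · left; exact h1
      · right
        exact hno d hd h1
    have hle : Nat.card A ≤ 2 := by
      have h1 : Nat.card A = (A : Set S2).ncard := by
        rw [← Nat.card_coe_set_eq]
        rfl
      rw [h1]
      calc _ ≤ ({1, -1} : Set S2).ncard := Set.ncard_le_ncard hsub (Set.toFinite _)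
        _ ≤ 2 := by
            have := Set.ncard_insert_le (1 : S2) {-1}
            rw [Set.ncard_singleton] at this
            exact this
    omega
  obtain ⟨a, haA, ha1, ha2⟩ := hex
  have h4 : a ^ 4 = 1 := by
    have := pow_card_eq_one' (G := A) (x := ⟨a, haA⟩)
    rw [hA] at this
    have := congrArg (fun y : A => (y : S2)) this
    simpa using this
  have hsq : a * a = -1 := by
    have h22 : (a * a) * (a * a) = 1 := by
      rw [← h4, pow_succ, pow_succ, pow_succ, pow_one, ← mul_assoc]
    rcases sl2_eq_of_sq_eq_one h2 (a * a) h22 with h | h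
    · exfalso
      rcases sl2_eq_of_sq_eq_one h2 a h with h' | h'
      · exact ha1 h'
      · exact ha2 h'
    · exact h
  refine ⟨a, hsq, ?_⟩
  symm
  apply Subgroup.eq_of_le_of_card_ge
  · rw [Subgroup.zpowers_le]; exact haA
  · rw [hA, Nat.card_zpowers]
    have : Fact (Nat.Prime 2) := ⟨Nat.prime_two⟩
    have hne : ¬ a ^ 2 ^ 1 = 1 := by
      rw [pow_one, pow_two, hsq]
      intro h
      have h00 := congrArg (fun y : S2 => (y : M2) 0 0) h
      simp only [sl2_neg_one_coe, Matrix.SpecialLinearGroup.coe_one, Matrix.neg_apply,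
        Matrix.one_apply_eq] at h00
      apply h2
      linear_combination -h00
    have := orderOf_eq_prime_pow (p := 2) (n := 1) hne (by norm_num; exact h4)
    rw [this]; norm_num

theorem coe_conj_eq_conjGen (g d : S2) : ((g * d * g⁻¹ : S2) : M2) = conjGen g (d : M2) := by
  rw [conjGen, Matrix.SpecialLinearGroup.coe_mul, Matrix.SpecialLinearGroup.coe_mul]

theorem torusA_smul (A : M2) {c : F} (hc : c ≠ 0) : torusA (c • A) = torusA A := by
  ext g
  rw [mem_torusA, mem_torusA, Matrix.mul_smul, Matrix.smul_mul]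
  constructor
  · intro h
    exact smul_right_injective _ hc h
  · intro h
    rw [h]

/-- The order of the normaliser of the subgroup generated by an element of square `-1`. -/
theorem card_normalizer_zpowers_of_sq [Fintype F] (hodd : Odd (Fintype.card F)) (a : S2)
    (ha : a * a = -1) :
    (Fintype.card F % 4 = 1 →
      Nat.card (Subgroup.normalizer ((Subgroup.zpowers a : Subgroup S2) : Set S2)) =
        2 * (Fintype.card F - 1)) ∧
    (Fintype.card F % 4 = 3 →
      Nat.card (Subgroup.normalizer ((Subgroup.zpowers a : Subgroup S2) : Set S2)) =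
        2 * (Fintype.card F + 1)) := by
  classical
  have h2 := two_ne_zero_of_odd_card hodd
  have hA := isTorusGen_of_sq h2 a ha
  have haT : a ∈ torusA (a : M2) := rfl
  have hle : Subgroup.zpowers a ≤ torusA (a : M2) := (Subgroup.zpowers_le).2 haT
  have hne : (1 : M2) ≠ -1 := by
    intro h
    have h00 := congrFun (congrFun h 0) 0
    simp only [Matrix.neg_apply, Matrix.one_apply_eq] at h00
    apply h2
    linear_combination h00
  have hm : (a : M2) * (a : M2) = -1 := by
    rw [← Matrix.SpecialLinearGroup.coe_mul, ha, sl2_neg_one_coe]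
  have ha1 : (a : M2) ≠ 1 := by
    intro h
    rw [h, Matrix.one_mul] at hm
    exact hne hm
  have ha2 : (a : M2) ≠ -1 := by
    intro h
    rw [h, neg_mul_neg, Matrix.one_mul] at hm
    exact hne hm
  obtain ⟨_, hN⟩ := hA.centralizer_normalizer_of_le (Subgroup.zpowers a) hle
    (Subgroup.mem_zpowers a) ha1 ha2
  rw [hN]
  constructor
  · intro hq
    have hsq : IsSquare (-1 : F) := FiniteField.isSquare_neg_one_iff.2 (by omega)
    obtain ⟨i, hi⟩ := hsq
    have hi0 : i ≠ 0 := by
      rintro rfl
      simp at hi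
    have hinv : i⁻¹ = -i := by
      rw [inv_eq_iff_eq_inv, ← neg_inv, eq_neg_iff_add_eq_zero]
      field_simp
      linear_combination -hi
    set d₀ : S2 := diagS (Units.mk0 i hi0) with hd₀
    have hd₀m : (d₀ : M2) = i • splitGen := by
      ext k l
      fin_cases k <;> fin_cases l <;> simp [hd₀, diagS, splitGen, hinv]
    have hd₀sq : d₀ * d₀ = -1 := by
      apply Subtype.ext
      rw [Matrix.SpecialLinearGroup.coe_mul, sl2_neg_one_coe, hd₀m]
      ext k l
      fin_cases k <;> fin_cases l <;>
        simp [splitGen, Matrix.mul_apply, Fin.sum_univ_two, ← hi]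
    obtain ⟨g, hg⟩ := isConj_iff.1 (isConj_of_sq_eq_neg_one h2 d₀ a hd₀sq ha)
    have haM : (a : M2) = conjGen g (i • splitGen) := by
      rw [← hg, coe_conj_eq_conjGen, hd₀m]
    have hw : ∃ w : S2, (w : M2) * (a : M2) = -((a : M2) * (w : M2)) := by
      rw [haM]
      apply exists_anticomm_conjGen
      refine ⟨weylS, ?_⟩
      rw [Matrix.mul_smul, Matrix.smul_mul, weylS_anticomm, smul_neg]
    rw [hA.card_normA hw, haM, card_torusA_conjGen, torusA_smul _ hi0, card_torusA_splitGen h2]
  · intro hq
    have hns : ¬ IsSquare (-1 : F) := by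
      rw [FiniteField.isSquare_neg_one_iff]
      omega
    have hε0 : (-1 : F) ≠ 0 := neg_ne_zero.2 one_ne_zero
    have hgen := nsGen_isTorusGen h2 hε0
    set d₀ : S2 := nsElt (-1) 0 1 (by ring) with hd₀
    have hd₀m : (d₀ : M2) = nsGen (-1) := by
      ext k l
      fin_cases k <;> fin_cases l <;> simp [hd₀, nsElt, nsGen]
    have hd₀sq : d₀ * d₀ = -1 := by
      apply Subtype.ext
      rw [Matrix.SpecialLinearGroup.coe_mul, sl2_neg_one_coe, hd₀m, hgen.sq]
      simp
    obtain ⟨g, hg⟩ := isConj_iff.1 (isConj_of_sq_eq_neg_one h2 d₀ a hd₀sq ha)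
    have haM : (a : M2) = conjGen g (nsGen (-1)) := by
      rw [← hg, coe_conj_eq_conjGen, hd₀m]
    have hw : ∃ w : S2, (w : M2) * (a : M2) = -((a : M2) * (w : M2)) := by
      rw [haM]
      exact exists_anticomm_conjGen g (exists_anticomm_nsGen h2 hε0)
    rw [hA.card_normA hw, haM, card_torusA_conjGen, card_torusA_nsGen h2 hns]

/-- Central elements of `SL₂` are `±1`. -/
theorem sl2_center_eq (z : S2) (hz : z ∈ Subgroup.center S2) : z = 1 ∨ z = -1 := by
  rw [Matrix.SpecialLinearGroup.mem_center_iff] at hz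
  obtain ⟨r, hr, hz⟩ := hz
  simp only [Fintype.card_fin] at hr
  have : (r - 1) * (r + 1) = 0 := by linear_combination hr
  rcases mul_eq_zero.1 this with h | h
  · left
    apply Subtype.ext
    rw [← hz, sub_eq_zero.1 h]
    simp
  · right
    apply Subtype.ext
    rw [← hz, eq_neg_of_add_eq_zero_left h, sl2_neg_one_coe]
    ext k l
    fin_cases k <;> fin_cases l <;> simp

theorem sl2_neg_one_mem_center : (-1 : S2) ∈ Subgroup.center S2 := by
  rw [Subgroup.mem_center_iff]
  intro g
  rw [mul_neg_one, neg_one_mul]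

/-- All involutions of `PSL₂(q)`, `q` odd, are conjugate. -/
theorem psl2_isConj_of_orderOf_two [Fintype F] (h2 : (2 : F) ≠ 0)
    (x y : Matrix.ProjectiveSpecialLinearGroup (Fin 2) F) (hx : orderOf x = 2)
    (hy : orderOf y = 2) : IsConj x y := by
  have key : ∀ x : Matrix.ProjectiveSpecialLinearGroup (Fin 2) F, orderOf x = 2 →
      ∃ a : S2, a * a = -1 ∧ (QuotientGroup.mk a : Matrix.ProjectiveSpecialLinearGroup (Fin 2) F) = x := by
    intro x hx
    obtain ⟨a, rfl⟩ := QuotientGroup.mk_surjective x
    refine ⟨a, ?_, rfl⟩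
    have h1 : (QuotientGroup.mk a : Matrix.ProjectiveSpecialLinearGroup (Fin 2) F) ^ 2 = 1 := by
      have := pow_orderOf_eq_one
        (QuotientGroup.mk a : Matrix.ProjectiveSpecialLinearGroup (Fin 2) F)
      rwa [hx] at this
    have hne : (QuotientGroup.mk a : Matrix.ProjectiveSpecialLinearGroup (Fin 2) F) ≠ 1 := by
      intro h
      rw [h, orderOf_one] at hx
      omega
    have h1' : a * a ∈ Subgroup.center S2 := by
      rw [← QuotientGroup.mk_pow, QuotientGroup.eq_one_iff, pow_two] at h1
      exact h1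
    have hne' : a ∉ Subgroup.center S2 := by
      intro h
      exact hne ((QuotientGroup.eq_one_iff a).2 h)
    rcases sl2_center_eq _ h1' with h | h
    · exfalso
      rcases sl2_eq_of_sq_eq_one h2 a h with h' | h'
      · exact hne' (h' ▸ Subgroup.one_mem _)
      · exact hne' (h' ▸ sl2_neg_one_mem_center)
    · exact h
  obtain ⟨a, ha, rfl⟩ := key x hx
  obtain ⟨b, hb, rfl⟩ := key y hy
  obtain ⟨c, hc⟩ := isConj_iff.1 (isConj_of_sq_eq_neg_one h2 a b ha hb)
  rw [isConj_iff]
  refine ⟨QuotientGroup.mk c, ?_⟩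
  rw [← hc]
  rfl

end Cfsg.Agent.Helper12
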