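import Mathlib
import Cfsg.Agent.Helper12.SL2OrderFour

set_option autoImplicit false

namespace Cfsg.Agent.Helper12

variable {F : Type*} [Field F]

local notation "S2" => Matrix.SpecialLinearGroup (Fin 2) F
local notation "M2" => Matrix (Fin 2) (Fin 2) F

theorem mem_normA_conjGen (A : M2) (g x : S2) :
    x ∈ normA (conjGen g A) ↔ g⁻¹ * x * g ∈ normA A := by
  have key : ∀ (A : M2) (g x : S2), x ∈ normA A → g * x * g⁻¹ ∈ normA (conjGen g A) := by
    intro A g x hx
    rw [mem_normA, coe_conj_eq_conjGen]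
    have e1 : conjGen g (x : M2) * conjGen g A = conjGen g ((x : M2) * A) := by
      simp only [conjGen, Matrix.mul_assoc]
      rw [← Matrix.mul_assoc ((g⁻¹ : S2) : M2) (g : M2), sl2_coe_inv_mul, Matrix.one_mul]
    have e2 : conjGen g A * conjGen g (x : M2) = conjGen g (A * (x : M2)) := by
      simp only [conjGen, Matrix.mul_assoc]
      rw [← Matrix.mul_assoc ((g⁻¹ : S2) : M2) (g : M2), sl2_coe_inv_mul, Matrix.one_mul]
    rw [e1, e2]
    rcases hx with hx | hx
    · left; rw [hx]
    · right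
      rw [hx]
      simp only [conjGen, Matrix.mul_neg, Matrix.neg_mul]
  have hcc : conjGen g⁻¹ (conjGen g A) = A := by
    simp only [conjGen, inv_inv, Matrix.mul_assoc]
    rw [sl2_coe_inv_mul, Matrix.mul_one, ← Matrix.mul_assoc, sl2_coe_inv_mul, Matrix.one_mul]
  constructor
  · intro hx
    have := key (conjGen g A) g⁻¹ x hx
    rw [hcc, inv_inv] at this
    exact this
  · intro hx
    have := key A g _ hx
    have e : g * (g⁻¹ * x * g) * g⁻¹ = x := by group
    rwa [e] at this

/-- A `p`-subgroup lies in a conjugate of `normA` when `p` does not divide the index. -/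
theorem exists_le_normA_conjGen [Finite F] (A : M2) (ℓ : ℕ) [Fact ℓ.Prime] (P : Subgroup S2)
    (hP : IsPGroup ℓ P) (hidx : ¬ ℓ ∣ (normA A).index) :
    ∃ g : S2, P ≤ normA (conjGen g A) := by
  have hfix := hP.nonempty_fixed_point_of_prime_not_dvd_card (S2 ⧸ normA A) (by
    rw [← Subgroup.index_eq_card]; exact hidx)
  obtain ⟨a, ha⟩ := hfix
  obtain ⟨g, rfl⟩ := QuotientGroup.mk_surjective a
  refine ⟨g, ?_⟩
  intro x hx
  rw [mem_normA_conjGen]
  have h1 := ha ⟨x, hx⟩
  have h2 : ((x * g : S2) : S2 ⧸ normA A) = (g : S2 ⧸ normA A) := h1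
  rw [QuotientGroup.eq] at h2
  have h3 := (normA A).inv_mem h2
  have e : ((x * g)⁻¹ * g)⁻¹ = g⁻¹ * x * g := by group
  rwa [e] at h3

theorem sl2_neg_one_mul_self : (-1 : S2) * (-1 : S2) = 1 := by simp

theorem sl2_one_ne_neg_one (h2 : (2 : F) ≠ 0) : (1 : S2) ≠ -1 := by
  intro h
  have h00 := congrArg (fun y : S2 => (y : M2) 0 0) h
  simp only [sl2_neg_one_coe, Matrix.SpecialLinearGroup.coe_one, Matrix.neg_apply,
    Matrix.one_apply_eq] at h00
  apply h2
  linear_combination h00

/-- The inverse of an element of square `-1`. -/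
theorem inv_eq_neg_of_sq {y : S2} (hy : y * y = -1) : y⁻¹ = -y := by
  rw [inv_eq_iff_mul_eq_one, mul_neg, hy, neg_neg]

namespace IsTorusGen

/-- The product of two anticommuting elements commutes. -/
theorem mul_mem_torusA_of_not_mem {A : M2} {ε : F} (_h : IsTorusGen A ε) {s y : S2}
    (hs : s ∈ normA A) (hy : y ∈ normA A) (hs' : s ∉ torusA A) (hy' : y ∉ torusA A) :
    s * y ∈ torusA A := by
  rcases hs with hs | hs
  · exact absurd hs hs'
  rcases hy with hy | hy
  · exact absurd hy hy'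
  rw [mem_torusA, Matrix.SpecialLinearGroup.coe_mul, Matrix.mul_assoc, hy, Matrix.mul_neg,
    ← Matrix.mul_assoc, hs, Matrix.neg_mul, neg_neg, Matrix.mul_assoc]

/-- Elements of the torus of square `-1` agree up to sign. -/
theorem eq_or_eq_neg_of_sq {A : M2} {ε : F} (h : IsTorusGen A ε) {x t : S2}
    (hx : x ∈ torusA A) (ht : t ∈ torusA A) (hx2 : x * x = -1) (ht2 : t * t = -1) :
    t = x ∨ t = -x := by
  have hc := h.torus_comm ht ((torusA A).inv_mem hx)
  have h1 : (t * x⁻¹) * (t * x⁻¹) = 1 := by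
    calc (t * x⁻¹) * (t * x⁻¹) = t * (x⁻¹ * t) * x⁻¹ := by group
      _ = t * (t * x⁻¹) * x⁻¹ := by rw [← hc]
      _ = (t * t) * (x * x)⁻¹ := by group
      _ = 1 := by rw [ht2, hx2, mul_inv_cancel]
  rcases sl2_eq_of_sq_eq_one h.two_ne _ h1 with h' | h'
  · left
    exact mul_inv_eq_one.1 h'
  · right
    rw [mul_inv_eq_iff_eq_mul, neg_one_mul] at h'
    exact h'

/-- A Sylow 2-subgroup inside `normA` is not contained in the torus. -/
theorem exists_mem_sylow_not_mem_torusA {A : M2} {ε : F} (h : IsTorusGen A ε) (S : Sylow 2 S2)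
    (hw : ∃ w : S2, (w : M2) * A = -(A * (w : M2))) :
    ∃ y : S2, y ∈ S ∧ y ∉ torusA A := by
  by_contra hno
  push Not at hno
  obtain ⟨w, hw⟩ := hw
  have hwinv := inv_anticomm_of_anticomm w A hw
  have hwn : w ∈ Subgroup.normalizer ((S : Subgroup S2) : Set S2) := by
    rw [Subgroup.mem_normalizer_iff]
    intro s
    constructor
    · intro hs
      rw [h.conj_eq_inv hw (hno s hs)]
      exact (S : Subgroup S2).inv_mem hs
    · intro hs
      have h1 := h.conj_eq_inv hwinv (hno _ hs)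
      have e : w⁻¹ * (w * s * w⁻¹) * w⁻¹⁻¹ = s := by group
      rw [e] at h1
      rw [h1]
      exact (S : Subgroup S2).inv_mem hs
  have hw4 : w ^ 4 = 1 := by
    have hsq : w * w = -1 := by
      apply Subtype.ext
      rw [h.sq_of_anticomm hw, sl2_neg_one_coe]
    calc w ^ 4 = (w * w) * (w * w) := by simp only [pow_succ, pow_zero, one_mul, mul_assoc]
      _ = 1 := by rw [hsq, sl2_neg_one_mul_self]
  have hpw : IsPGroup 2 (Subgroup.zpowers w) := by
    rintro ⟨z, hz⟩
    obtain ⟨n, rfl⟩ := Subgroup.mem_zpowers_iff.1 hz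
    refine ⟨2, ?_⟩
    apply Subtype.ext
    show (w ^ n) ^ (2 ^ 2) = 1
    rw [← zpow_natCast, ← zpow_mul, mul_comm, zpow_mul, zpow_natCast]
    norm_num
    rw [hw4, one_zpow]
  have hsup : IsPGroup 2 (Subgroup.zpowers w ⊔ (S : Subgroup S2) : Subgroup S2) :=
    IsPGroup.to_sup_of_normal_right' hpw S.isPGroup' ((Subgroup.zpowers_le).2 hwn)
  have heq := S.is_maximal' hsup le_sup_right
  have hwS : w ∈ (S : Subgroup S2) := by
    rw [← heq]
    exact (le_sup_left : Subgroup.zpowers w ≤ _) (Subgroup.mem_zpowers w)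
  exact h.not_comm_and_anticomm w (hno w hwS) hw

/-- A Sylow 2-subgroup inside `normA` contains an element of the torus of square `-1`. -/
theorem exists_mem_sylow_sq [Finite F] {A : M2} {ε : F} (h : IsTorusGen A ε) (S : Sylow 2 S2)
    (hS : (S : Subgroup S2) ≤ normA A) (h8 : 8 ∣ Nat.card (S : Subgroup S2)) {y : S2}
    (hy : y ∈ S) (hy' : y ∉ torusA A) :
    ∃ x : S2, x ∈ S ∧ x ∈ torusA A ∧ x * x = -1 := by
  classical
  -- an element outside {±1, ±y}
  have hex : ∃ s : S2, s ∈ (S : Subgroup S2) ∧ s ∉ ({1, -1, y, -y} : Set S2) := by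
    by_contra hno
    push Not at hno
    have hsub : ((S : Subgroup S2) : Set S2) ⊆ {1, -1, y, -y} := fun s hs => hno s hs
    have hle : Nat.card (S : Subgroup S2) ≤ 4 := by
      have h1 : Nat.card (S : Subgroup S2) = ((S : Subgroup S2) : Set S2).ncard := by
        rw [← Nat.card_coe_set_eq]
        rfl
      rw [h1]
      calc _ ≤ ({1, -1, y, -y} : Set S2).ncard := Set.ncard_le_ncard hsub (Set.toFinite _)
        _ ≤ 4 := by
            have e1 := Set.ncard_insert_le (1 : S2) {-1, y, -y}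
            have e2 := Set.ncard_insert_le (-1 : S2) {y, -y}
            have e3 := Set.ncard_insert_le (y : S2) {-y}
            rw [Set.ncard_singleton] at e3
            omega
    have hpos : 0 < Nat.card (S : Subgroup S2) := Nat.card_pos
    obtain ⟨k, hk⟩ := h8
    omega
  obtain ⟨s, hsS, hs⟩ := hex
  simp only [Set.mem_insert_iff, Set.mem_singleton_iff, not_or] at hs
  obtain ⟨hs1, hs2, hs3, hs4⟩ := hs
  have hyN : y ∈ normA A := hS hy
  have hysq : y * y = -1 := by
    rcases hyN with hyc | hya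
    · exact absurd hyc hy'
    · apply Subtype.ext
      rw [h.sq_of_anticomm hya, sl2_neg_one_coe]
  have hyinv := inv_eq_neg_of_sq hysq
  -- an element x' of S ∩ T different from ±1
  obtain ⟨x', hx'S, hx'T, hx'1, hx'2⟩ : ∃ x' : S2, x' ∈ (S : Subgroup S2) ∧ x' ∈ torusA A ∧
      x' ≠ 1 ∧ x' ≠ -1 := by
    by_cases hsT : s ∈ torusA A
    · exact ⟨s, hsS, hsT, hs1, hs2⟩
    · refine ⟨s * y, (S : Subgroup S2).mul_mem hsS hy,
        h.mul_mem_torusA_of_not_mem (hS hsS) hyN hsT hy', ?_, ?_⟩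
      · intro h1
        apply hs4
        rw [← hyinv]
        exact eq_inv_of_mul_eq_one_left h1
      · intro h1
        apply hs3
        have : s = -1 * y⁻¹ := eq_mul_inv_of_mul_eq h1
        rw [this, hyinv, neg_one_mul, neg_neg]
  -- pass to a power of square -1
  obtain ⟨k, hk⟩ := S.isPGroup' ⟨x', hx'S⟩
  have hk' : x' ^ 2 ^ k = 1 := by
    have := congrArg (fun z : (S : Subgroup S2) => (z : S2)) hk
    simpa using this
  have hfind : ∃ k : ℕ, x' ^ 2 ^ k = 1 := ⟨k, hk'⟩
  set m := Nat.find hfind with hm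
  have hm1 : x' ^ 2 ^ m = 1 := Nat.find_spec hfind
  have hmmin : ∀ j, j < m → x' ^ 2 ^ j ≠ 1 := fun j hj => Nat.find_min hfind hj
  have hm2 : 2 ≤ m := by
    by_contra hlt
    push Not at hlt
    interval_cases m
    · rw [pow_zero, pow_one] at hm1
      exact hx'1 hm1
    · rw [pow_one, pow_two] at hm1
      rcases sl2_eq_of_sq_eq_one h.two_ne x' hm1 with h' | h'
      · exact hx'1 h'
      · exact hx'2 h'
  obtain ⟨j, hj⟩ : ∃ j, m = j + 2 := ⟨m - 2, by omega⟩
  refine ⟨x' ^ 2 ^ j, (S : Subgroup S2).pow_mem hx'S _, (torusA A).pow_mem hx'T _, ?_⟩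
  have e1 : (x' ^ 2 ^ j) * (x' ^ 2 ^ j) = x' ^ 2 ^ (j + 1) := by
    rw [← pow_add, pow_succ 2 j, mul_two]
  have e2 : (x' ^ 2 ^ (j + 1)) * (x' ^ 2 ^ (j + 1)) = 1 := by
    rw [← pow_add, ← mul_two, ← pow_succ, ← hj]
    exact hm1
  rw [e1]
  rcases sl2_eq_of_sq_eq_one h.two_ne _ e2 with h' | h'
  · exact absurd h' (hmmin (j + 1) (by omega))
  · exact h'

/-- The centraliser of a Sylow 2-subgroup inside `normA`. -/
theorem centralizer_sylow_two [Finite F] {A : M2} {ε : F} (h : IsTorusGen A ε) (S : Sylow 2 S2)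
    (hS : (S : Subgroup S2) ≤ normA A) (h8 : 8 ∣ Nat.card (S : Subgroup S2))
    (hw : ∃ w : S2, (w : M2) * A = -(A * (w : M2))) :
    Subgroup.centralizer ((S : Subgroup S2) : Set S2) = Subgroup.center S2 := by
  obtain ⟨y, hy, hy'⟩ := h.exists_mem_sylow_not_mem_torusA S hw
  obtain ⟨x, hxS, hxT, hx2⟩ := h.exists_mem_sylow_sq S hS h8 hy hy'
  have hne := sl2_one_ne_neg_one h.two_ne (F := F)
  have hx1 : (x : M2) ≠ 1 := by
    intro h1
    have : x = 1 := by
      apply Subtype.ext; rw [h1, Matrix.SpecialLinearGroup.coe_one]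
    rw [this, one_mul] at hx2
    exact hne hx2
  have hxm1 : (x : M2) ≠ -1 := by
    intro h1
    have : x = -1 := by
      apply Subtype.ext; rw [h1, sl2_neg_one_coe]
    rw [this, sl2_neg_one_mul_self] at hx2
    exact hne hx2
  apply le_antisymm
  · intro g hg
    rw [Subgroup.mem_centralizer_iff] at hg
    have hgT : g ∈ torusA A := by
      rw [← h.centralizer_eq hxT hx1 hxm1, Subgroup.mem_centralizer_singleton_iff]
      exact (hg x hxS).symm
    have hya : (y : M2) * A = -(A * (y : M2)) := by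
      rcases hS hy with h' | h'
      · exact absurd h' hy'
      · exact h'
    have hinv := h.conj_eq_inv hya hgT
    have hcomm := hg y hy
    have : g * g = 1 := by
      have e : y * g * y⁻¹ = g := by rw [hcomm]; group
      rw [e] at hinv
      nth_rewrite 1 [hinv]
      exact inv_mul_cancel g
    rcases sl2_eq_of_sq_eq_one h.two_ne g this with h' | h'
    · rw [h']; exact Subgroup.one_mem _
    · rw [h']; exact sl2_neg_one_mem_center
  · intro g hg
    rw [Subgroup.mem_centralizer_iff]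
    intro s _
    rw [Subgroup.mem_center_iff] at hg
    exact hg s

end IsTorusGen

end Cfsg.Agent.Helper12
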