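import Mathlib
import Cfsg.Agent.Helper12.SL2SylowTwo

set_option autoImplicit false

namespace Cfsg.Agent.Helper12

/-- A `p`-element normalising a Sylow `p`-subgroup lies in it. -/
theorem mem_sylow_of_pow_eq_one {G : Type*} [Group G] {p : ℕ} [Fact p.Prime] (S : Sylow p G)
    {n : G} (hn : n ∈ Subgroup.normalizer ((S : Subgroup G) : Set G)) (k : ℕ)
    (hk : n ^ p ^ k = 1) : n ∈ (S : Subgroup G) := by
  have hpw : IsPGroup p (Subgroup.zpowers n) := by
    rintro ⟨z, hz⟩
    obtain ⟨m, rfl⟩ := Subgroup.mem_zpowers_iff.1 hz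
    refine ⟨k, ?_⟩
    apply Subtype.ext
    show (n ^ m) ^ (p ^ k) = 1
    rw [← zpow_natCast, ← zpow_mul, mul_comm, zpow_mul, zpow_natCast, hk, one_zpow]
  have hsup : IsPGroup p (Subgroup.zpowers n ⊔ (S : Subgroup G) : Subgroup G) :=
    IsPGroup.to_sup_of_normal_right' hpw S.isPGroup' ((Subgroup.zpowers_le).2 hn)
  have heq := S.is_maximal' hsup le_sup_right
  rw [← heq]
  exact (le_sup_left : Subgroup.zpowers n ≤ _) (Subgroup.mem_zpowers n)

/-- Counting a subgroup through the conjugates of one element. -/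
theorem card_le_of_conj_fibers {G : Type*} [Group G] [Finite G] (N : Subgroup G) (x : G)
    (E K : Finset G) (hE : ∀ n ∈ N, n * x * n⁻¹ ∈ E) (hK : ∀ n ∈ N, n * x = x * n → n ∈ K) :
    Nat.card N ≤ K.card * E.card := by
  classical
  have : Fintype N := Fintype.ofFinite N
  rw [Nat.card_eq_fintype_card, ← Finset.card_univ]
  refine (Finset.card_le_mul_card_image (f := fun n : N => (n : G) * x * (n : G)⁻¹)
    Finset.univ K.card ?_).trans (Nat.mul_le_mul_left _ (Finset.card_le_card ?_))
  · intro a ha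
    obtain ⟨n₀, -, rfl⟩ := Finset.mem_image.1 ha
    apply Finset.card_le_card_of_injOn (fun n : N => (n₀ : G)⁻¹ * (n : G))
    · intro n hn
      have hn' : (n : G) * x * (n : G)⁻¹ = (n₀ : G) * x * (n₀ : G)⁻¹ := by
        simpa using hn
      apply hK _ (N.mul_mem (N.inv_mem n₀.2) n.2)
      have e1 : (n : G) * x = (n₀ : G) * x * (n₀ : G)⁻¹ * (n : G) := by
        rw [← hn']; group
      calc (n₀ : G)⁻¹ * (n : G) * x = (n₀ : G)⁻¹ * ((n : G) * x) := by group
        _ = (n₀ : G)⁻¹ * ((n₀ : G) * x * (n₀ : G)⁻¹ * (n : G)) := by rw [e1]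
        _ = x * ((n₀ : G)⁻¹ * (n : G)) := by group
    · intro n _ m _ hnm
      apply Subtype.ext
      exact mul_left_cancel hnm
  · intro a ha
    obtain ⟨n, -, rfl⟩ := Finset.mem_image.1 ha
    exact hE n n.2

/-- Quaternion identities. -/
theorem quat_conj_aux {R : Type*} [Ring R] {X Y : R} (hXX : X * X = -1) (hYY : Y * Y = -1)
    (hYX : Y * X = -(X * Y)) :
    (1 + X) * (1 + Y) * X = Y * ((1 + X) * (1 + Y)) ∧
    (1 + X) * (1 + Y) * Y = (X * Y) * ((1 + X) * (1 + Y)) := by
  have hXX' : ∀ t, X * (X * t) = -t := fun t => by rw [← mul_assoc, hXX, neg_one_mul]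
  have hYY' : ∀ t, Y * (Y * t) = -t := fun t => by rw [← mul_assoc, hYY, neg_one_mul]
  have hYX' : ∀ t, Y * (X * t) = -(X * (Y * t)) := fun t => by
    rw [← mul_assoc, hYX, neg_mul, mul_assoc]
  constructor
  · simp only [mul_add, add_mul, mul_one, one_mul, mul_assoc, hXX, hYY, hYX, hXX', hYY', hYX',
      mul_neg, neg_mul, neg_neg]
    abel
  · simp only [mul_add, add_mul, mul_one, one_mul, mul_assoc, hXX, hYY, hYX, hXX', hYY', hYX',
      mul_neg, neg_mul, neg_neg]
    abel

variable {F : Type*} [Field F]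

local notation "S2" => Matrix.SpecialLinearGroup (Fin 2) F
local notation "M2" => Matrix (Fin 2) (Fin 2) F

namespace IsTorusGen

/-- An element of `normA` normalising a Sylow 2-subgroup not inside the torus lies in it. -/
theorem mem_sylow_of_mem_normA {A : M2} {ε : F} (h : IsTorusGen A ε) (S : Sylow 2 S2)
    {y : S2} (hy : y ∈ (S : Subgroup S2)) (hyN : y ∈ normA A) (hy' : y ∉ torusA A) {n : S2}
    (hn : n ∈ normA A) (hnS : n ∈ Subgroup.normalizer ((S : Subgroup S2) : Set S2)) :
    n ∈ (S : Subgroup S2) := by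
  have hya : (y : M2) * A = -(A * (y : M2)) := by
    rcases hyN with h' | h'
    · exact absurd h' hy'
    · exact h'
  have key : ∀ n : S2, n ∈ torusA A → n ∈ Subgroup.normalizer ((S : Subgroup S2) : Set S2) →
      n ∈ (S : Subgroup S2) := by
    intro n hnT hnS
    have hc := h.conj_eq_inv hya hnT
    have e : n * n = (n * y * n⁻¹) * y⁻¹ := by
      calc n * n = n * (y * n * y⁻¹)⁻¹ := by rw [hc, inv_inv]
        _ = (n * y * n⁻¹) * y⁻¹ := by group
    have hnn : n * n ∈ (S : Subgroup S2) := by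
      rw [e]
      exact (S : Subgroup S2).mul_mem ((Subgroup.mem_normalizer_iff.1 hnS y).1 hy)
        ((S : Subgroup S2).inv_mem hy)
    obtain ⟨k, hk⟩ := S.isPGroup' ⟨n * n, hnn⟩
    have hk' : (n * n) ^ 2 ^ k = 1 := by
      have := congrArg (fun z : (S : Subgroup S2) => (z : S2)) hk
      simpa using this
    apply mem_sylow_of_pow_eq_one S hnS (k + 1)
    rw [pow_succ, pow_mul', pow_two]
    exact hk'
  by_cases hnT : n ∈ torusA A
  · exact key n hnT hnS
  · have h1 : n * y ∈ torusA A := h.mul_mem_torusA_of_not_mem hn hyN hnT hy'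
    have h2 : n * y ∈ Subgroup.normalizer ((S : Subgroup S2) : Set S2) :=
      Subgroup.mul_mem _ hnS (Subgroup.le_normalizer hy)
    have h3 := key _ h1 h2
    have e : n = (n * y) * y⁻¹ := by group
    rw [e]
    exact (S : Subgroup S2).mul_mem h3 ((S : Subgroup S2).inv_mem hy)

/-- Elements of the torus of order dividing four. -/
theorem mem_four_of_pow_four {A : M2} {ε : F} (h : IsTorusGen A ε) {x c : S2}
    (hx : x ∈ torusA A) (hx2 : x * x = -1) (hc : c ∈ torusA A) (hc4 : c ^ 4 = 1) :
    c = 1 ∨ c = -1 ∨ c = x ∨ c = -x := by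
  have e : (c * c) * (c * c) = 1 := by
    rw [← hc4]; simp only [pow_succ, pow_zero, one_mul, mul_assoc]
  rcases sl2_eq_of_sq_eq_one h.two_ne _ e with h' | h'
  · rcases sl2_eq_of_sq_eq_one h.two_ne _ h' with h'' | h''
    · exact Or.inl h''
    · exact Or.inr (Or.inl h'')
  · rcases h.eq_or_eq_neg_of_sq hx hc hx2 h' with h'' | h''
    · exact Or.inr (Or.inr (Or.inl h''))
    · exact Or.inr (Or.inr (Or.inr h''))

/-- A Sylow 2-subgroup whose torus part has exponent four is quaternion of order eight. -/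
theorem sylow_subset_of_pow_four {A : M2} {ε : F} (h : IsTorusGen A ε) (S : Sylow 2 S2)
    (hS : (S : Subgroup S2) ≤ normA A) {x y : S2} (hx : x ∈ torusA A) (hx2 : x * x = -1)
    (hy : y ∈ (S : Subgroup S2)) (hy' : y ∉ torusA A)
    (hall : ∀ c : S2, c ∈ (S : Subgroup S2) → c ∈ torusA A → c ^ 4 = 1) :
    ((S : Subgroup S2) : Set S2) ⊆ {1, -1, x, -x, y, -y, x * y, -(x * y)} := by
  intro s hs
  have hyN := hS hy
  have hysq : y * y = -1 := by
    rcases hyN with hyc | hya
    · exact absurd hyc hy'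
    · apply Subtype.ext
      rw [h.sq_of_anticomm hya, sl2_neg_one_coe]
  have hyinv := inv_eq_neg_of_sq hysq
  simp only [Set.mem_insert_iff, Set.mem_singleton_iff]
  by_cases hsT : s ∈ torusA A
  · rcases h.mem_four_of_pow_four hx hx2 hsT (hall s hs hsT) with h' | h' | h' | h'
    · exact Or.inl h'
    · exact Or.inr (Or.inl h')
    · exact Or.inr (Or.inr (Or.inl h'))
    · exact Or.inr (Or.inr (Or.inr (Or.inl h')))
  · have h1 : s * y ∈ torusA A := h.mul_mem_torusA_of_not_mem (hS hs) hyN hsT hy'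
    have h2 : s * y ∈ (S : Subgroup S2) := (S : Subgroup S2).mul_mem hs hy
    have e : s = (s * y) * y⁻¹ := by group
    rcases h.mem_four_of_pow_four hx hx2 h1 (hall _ h2 h1) with h' | h' | h' | h'
    · right; right; right; right; right; left
      rw [e, h', one_mul, hyinv]
    · right; right; right; right; left
      rw [e, h', hyinv, neg_one_mul, neg_neg]
    · right; right; right; right; right; right; right
      rw [e, h', hyinv, mul_neg]
    · right; right; right; right; right; right; left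
      rw [e, h', hyinv, mul_neg, neg_mul, neg_neg]

theorem ncard_eight_le (a b c d e f g k : S2) :
    ({a, b, c, d, e, f, g, k} : Set S2).ncard ≤ 8 := by
  have e1 := Set.ncard_insert_le a {b, c, d, e, f, g, k}
  have e2 := Set.ncard_insert_le b {c, d, e, f, g, k}
  have e3 := Set.ncard_insert_le c {d, e, f, g, k}
  have e4 := Set.ncard_insert_le d {e, f, g, k}
  have e5 := Set.ncard_insert_le e {f, g, k}
  have e6 := Set.ncard_insert_le f {g, k}
  have e7 := Set.ncard_insert_le g {k}
  rw [Set.ncard_singleton] at e7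
  omega

/-- When `16` divides the order of a Sylow 2-subgroup inside `normA`, it is self-normalising. -/
theorem normalizer_sylow_two [Finite F] {A : M2} {ε : F} (h : IsTorusGen A ε) (S : Sylow 2 S2)
    (hS : (S : Subgroup S2) ≤ normA A) (h16 : 16 ∣ Nat.card (S : Subgroup S2))
    (hw : ∃ w : S2, (w : M2) * A = -(A * (w : M2))) :
    Subgroup.normalizer ((S : Subgroup S2) : Set S2) = (S : Subgroup S2) := by
  obtain ⟨y, hy, hy'⟩ := h.exists_mem_sylow_not_mem_torusA S hw
  have h8 : 8 ∣ Nat.card (S : Subgroup S2) := Dvd.dvd.trans (by norm_num) h16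
  obtain ⟨x, hxS, hxT, hx2⟩ := h.exists_mem_sylow_sq S hS h8 hy hy'
  -- an element of the torus part of order at least eight
  obtain ⟨c, hcS, hcT, hc4⟩ : ∃ c : S2, c ∈ (S : Subgroup S2) ∧ c ∈ torusA A ∧ c ^ 4 ≠ 1 := by
    by_contra hno
    push Not at hno
    have hsub := h.sylow_subset_of_pow_four S hS hxT hx2 hy hy' hno
    have hle : Nat.card (S : Subgroup S2) ≤ 8 := by
      have h1 : Nat.card (S : Subgroup S2) = ((S : Subgroup S2) : Set S2).ncard := by
        rw [← Nat.card_coe_set_eq]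
        rfl
      rw [h1]
      exact (Set.ncard_le_ncard hsub (Set.toFinite _)).trans (ncard_eight_le _ _ _ _ _ _ _ _)
    have hpos : 0 < Nat.card (S : Subgroup S2) := Nat.card_pos
    obtain ⟨k, hk⟩ := h16
    omega
  have hc1 : (c : M2) ≠ 1 := by
    intro h1
    apply hc4
    have : c = 1 := by
      apply Subtype.ext; rw [h1, Matrix.SpecialLinearGroup.coe_one]
    rw [this, one_pow]
  have hcm1 : (c : M2) ≠ -1 := by
    intro h1
    apply hc4
    have : c = -1 := by
      apply Subtype.ext; rw [h1, sl2_neg_one_coe]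
    rw [this]
    calc (-1 : S2) ^ 4 = ((-1 : S2) * (-1)) * ((-1 : S2) * (-1)) := by
          simp only [pow_succ, pow_zero, one_mul, mul_assoc]
      _ = 1 := by rw [sl2_neg_one_mul_self, one_mul]
  apply le_antisymm
  · intro n hn
    have hconj : n * c * n⁻¹ ∈ (S : Subgroup S2) := (Subgroup.mem_normalizer_iff.1 hn c).1 hcS
    have hconjT : n * c * n⁻¹ ∈ torusA A := by
      rcases hS hconj with h' | h'
      · exact h'
      · exfalso
        apply hc4
        have hsq : (n * c * n⁻¹) * (n * c * n⁻¹) = -1 := by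
          apply Subtype.ext
          rw [h.sq_of_anticomm h', sl2_neg_one_coe]
        have h4 : (n * c * n⁻¹) ^ 4 = 1 := by
          calc (n * c * n⁻¹) ^ 4 = ((n * c * n⁻¹) * (n * c * n⁻¹)) *
                ((n * c * n⁻¹) * (n * c * n⁻¹)) := by
                simp only [pow_succ, pow_zero, one_mul, mul_assoc]
            _ = 1 := by rw [hsq, sl2_neg_one_mul_self]
        rw [conj_pow] at h4
        have : c ^ 4 = n⁻¹ * (n * c ^ 4 * n⁻¹) * n := by group
        rw [this, h4]; group
    have hnN := h.mem_normA_of_conj_mem hcT hc1 hcm1 hconjT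
    exact h.mem_sylow_of_mem_normA S hy (hS hy) hy' hnN hn
  · exact Subgroup.le_normalizer

end IsTorusGen

/-- The element `(1 + x)(1 + y) / 2` permuting `x`, `y`, `xy` cyclically. -/
theorem exists_omega (h2 : (2 : F) ≠ 0) {x y : S2} (hx2 : x * x = -1) (hy2 : y * y = -1)
    (hyx : y * x = -(x * y)) :
    ∃ ω : S2, ω * x * ω⁻¹ = y ∧ ω * y * ω⁻¹ = x * y := by
  have hX := isTorusGen_of_sq h2 x hx2
  have hY := isTorusGen_of_sq h2 y hy2
  have hXX : (x : M2) * (x : M2) = -1 := by
    rw [← Matrix.SpecialLinearGroup.coe_mul, hx2, sl2_neg_one_coe]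
  have hYY : (y : M2) * (y : M2) = -1 := by
    rw [← Matrix.SpecialLinearGroup.coe_mul, hy2, sl2_neg_one_coe]
  have hYX : (y : M2) * (x : M2) = -((x : M2) * (y : M2)) := by
    rw [← Matrix.SpecialLinearGroup.coe_mul, hyx, Matrix.SpecialLinearGroup.coe_neg,
      Matrix.SpecialLinearGroup.coe_mul]
  obtain ⟨q1, q2⟩ := quat_conj_aux hXX hYY hYX
  have hdet : ∀ z : S2, (z : M2).trace = 0 → (1 + (z : M2)).det = 2 := by
    intro z ht
    have hd := z.2
    rw [Matrix.det_fin_two] at hd ⊢
    rw [Matrix.trace_fin_two] at ht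
    simp only [Matrix.add_apply, Matrix.one_apply_eq, Matrix.one_apply_ne, ne_eq, zero_ne_one,
      one_ne_zero, not_false_eq_true, zero_add]
    linear_combination hd + ht
  have hdetω : ((1 / 2 : F) • ((1 + (x : M2)) * (1 + (y : M2)))).det = 1 := by
    rw [Matrix.det_smul, Matrix.det_mul, hdet x hX.tr, hdet y hY.tr, Fintype.card_fin]
    field_simp
  obtain ⟨ω, hω⟩ : ∃ ω : S2, (ω : M2) = (1 / 2 : F) • ((1 + (x : M2)) * (1 + (y : M2))) :=
    ⟨⟨_, hdetω⟩, rfl⟩
  refine ⟨ω, ?_, ?_⟩
  · rw [mul_inv_eq_iff_eq_mul]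
    apply Subtype.ext
    rw [Matrix.SpecialLinearGroup.coe_mul, Matrix.SpecialLinearGroup.coe_mul, hω,
      Matrix.smul_mul, Matrix.mul_smul, q1]
  · rw [mul_inv_eq_iff_eq_mul]
    apply Subtype.ext
    rw [Matrix.SpecialLinearGroup.coe_mul, Matrix.SpecialLinearGroup.coe_mul,
      Matrix.SpecialLinearGroup.coe_mul, hω, Matrix.smul_mul, Matrix.mul_smul, q2]

namespace IsTorusGen

/-- A Sylow 2-subgroup of order eight inside `normA` has normaliser of order `24`. -/
theorem card_normalizer_sylow_two [Finite F] {A : M2} {ε : F} (h : IsTorusGen A ε)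
    (S : Sylow 2 S2) (hS : (S : Subgroup S2) ≤ normA A) (h8 : Nat.card (S : Subgroup S2) = 8)
    (hw : ∃ w : S2, (w : M2) * A = -(A * (w : M2))) :
    Nat.card (Subgroup.normalizer ((S : Subgroup S2) : Set S2)) = 24 := by
  classical
  obtain ⟨y, hy, hy'⟩ := h.exists_mem_sylow_not_mem_torusA S hw
  have h8' : 8 ∣ Nat.card (S : Subgroup S2) := by rw [h8]
  obtain ⟨x, hxS, hxT, hx2⟩ := h.exists_mem_sylow_sq S hS h8' hy hy'
  have hyN := hS hy
  have hya : (y : M2) * A = -(A * (y : M2)) := by
    rcases hyN with h' | h'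
    · exact absurd h' hy'
    · exact h'
  have hysq : y * y = -1 := by
    apply Subtype.ext
    rw [h.sq_of_anticomm hya, sl2_neg_one_coe]
  have hxinv := inv_eq_neg_of_sq hx2
  have hyinv := inv_eq_neg_of_sq hysq
  have hyx : y * x = -(x * y) := by
    have := h.conj_eq_inv hya hxT
    rw [mul_inv_eq_iff_eq_mul] at this
    rw [this, hxinv, neg_mul]
  have hxy2 : (x * y) * (x * y) = -1 := by
    calc (x * y) * (x * y) = x * (y * x) * y := by group
      _ = -((x * x) * (y * y)) := by rw [hyx, mul_neg, neg_mul]; group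
      _ = -1 := by rw [hx2, hysq, sl2_neg_one_mul_self]
  have hxyinv := inv_eq_neg_of_sq hxy2
  -- the torus part has exponent four
  have hall : ∀ c : S2, c ∈ (S : Subgroup S2) → c ∈ torusA A → c ^ 4 = 1 := by
    intro c hcS hcT
    have hKle : (S : Subgroup S2) ⊓ torusA A ≤ (S : Subgroup S2) := inf_le_left
    have hdvd : Nat.card ((S : Subgroup S2) ⊓ torusA A : Subgroup S2) ∣ 8 := by
      rw [← h8]; exact Subgroup.card_dvd_of_le hKle
    have hne : Nat.card ((S : Subgroup S2) ⊓ torusA A : Subgroup S2) ≠ 8 := by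
      intro heq
      have : (S : Subgroup S2) ⊓ torusA A = (S : Subgroup S2) :=
        Subgroup.eq_of_le_of_card_ge hKle (by rw [heq, h8])
      have hyK : y ∈ (S : Subgroup S2) ⊓ torusA A := by rw [this]; exact hy
      exact hy' hyK.2
    have h4 : Nat.card ((S : Subgroup S2) ⊓ torusA A : Subgroup S2) ∣ 4 := by
      have hle : Nat.card ((S : Subgroup S2) ⊓ torusA A : Subgroup S2) ≤ 8 :=
        Nat.le_of_dvd (by norm_num) hdvd
      have hpos : 0 < Nat.card ((S : Subgroup S2) ⊓ torusA A : Subgroup S2) := Nat.card_pos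
      generalize Nat.card ((S : Subgroup S2) ⊓ torusA A : Subgroup S2) = m at *
      interval_cases m <;> omega
    have hcK : c ∈ (S : Subgroup S2) ⊓ torusA A := ⟨hcS, hcT⟩
    have ho : orderOf c ∣ Nat.card ((S : Subgroup S2) ⊓ torusA A : Subgroup S2) :=
      Subgroup.orderOf_dvd_natCard _ hcK
    exact orderOf_dvd_iff_pow_eq_one.1 (ho.trans h4)
  have hsub := h.sylow_subset_of_pow_four S hS hxT hx2 hy hy' hall
  have hcardS : Nat.card (S : Subgroup S2) = ((S : Subgroup S2) : Set S2).ncard := by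
    rw [← Nat.card_coe_set_eq]
    rfl
  have hSeq : ((S : Subgroup S2) : Set S2) = {1, -1, x, -x, y, -y, x * y, -(x * y)} := by
    apply Set.eq_of_subset_of_ncard_le hsub _ (Set.toFinite _)
    rw [← hcardS, h8]
    exact ncard_eight_le _ _ _ _ _ _ _ _
  have hmemS : ∀ s : S2, s ∈ (S : Subgroup S2) ↔
      s = 1 ∨ s = -1 ∨ s = x ∨ s = -x ∨ s = y ∨ s = -y ∨ s = x * y ∨ s = -(x * y) := by
    intro s
    rw [← SetLike.mem_coe, hSeq]
    simp only [Set.mem_insert_iff, Set.mem_singleton_iff]
  obtain ⟨ω, hω1, hω2⟩ := exists_omega h.two_ne hx2 hysq hyx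
  -- ω normalises S
  have hωN : ω ∈ Subgroup.normalizer ((S : Subgroup S2) : Set S2) := by
    apply Subgroup.mem_normalizer_fintype
    have hxK : x ∈ (S : Subgroup S2).comap (MulAut.conj ω).toMonoidHom := by
      rw [Subgroup.mem_comap]
      show ω * x * ω⁻¹ ∈ (S : Subgroup S2)
      rw [hω1]; exact hy
    have hyK : y ∈ (S : Subgroup S2).comap (MulAut.conj ω).toMonoidHom := by
      rw [Subgroup.mem_comap]
      show ω * y * ω⁻¹ ∈ (S : Subgroup S2)
      rw [hω2]; exact (S : Subgroup S2).mul_mem hxS hy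
    intro n hn
    have hnK : n ∈ (S : Subgroup S2).comap (MulAut.conj ω).toMonoidHom := by
      rcases (hmemS n).1 hn with h' | h' | h' | h' | h' | h' | h' | h'
      · rw [h']; exact Subgroup.one_mem _
      · rw [h', ← hx2]; exact Subgroup.mul_mem _ hxK hxK
      · rw [h']; exact hxK
      · rw [h', ← hxinv]; exact Subgroup.inv_mem _ hxK
      · rw [h']; exact hyK
      · rw [h', ← hyinv]; exact Subgroup.inv_mem _ hyK
      · rw [h']; exact Subgroup.mul_mem _ hxK hyK
      · rw [h', ← hxyinv]; exact Subgroup.inv_mem _ (Subgroup.mul_mem _ hxK hyK)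
    exact hnK
  -- ω is not in S
  have hωS : ω ∉ (S : Subgroup S2) := by
    intro hωS
    have : ω * x * ω⁻¹ ∈ torusA A := by
      rcases hS hωS with h' | h'
      · have : ω * x * ω⁻¹ = x := by
          rw [h.torus_comm h' hxT]; group
        rw [this]; exact hxT
      · rw [h.conj_eq_inv h' hxT]
        exact (torusA A).inv_mem hxT
    rw [hω1] at this
    exact hy' this
  -- upper bound
  have hne := sl2_one_ne_neg_one h.two_ne (F := F)
  have hx1 : (x : M2) ≠ 1 := by
    intro h1
    have : x = 1 := by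
      apply Subtype.ext; rw [h1, Matrix.SpecialLinearGroup.coe_one]
    rw [this, one_mul] at hx2
    exact hne hx2
  have hxm1 : (x : M2) ≠ -1 := by
    intro h1
    have : x = -1 := by
      apply Subtype.ext; rw [h1, sl2_neg_one_coe]
    rw [this, sl2_neg_one_mul_self] at hx2
    exact hne hx2
  have hupper : Nat.card (Subgroup.normalizer ((S : Subgroup S2) : Set S2)) ≤ 24 := by
    have hb := card_le_of_conj_fibers (Subgroup.normalizer ((S : Subgroup S2) : Set S2)) x
      ({x, -x, y, -y, x * y, -(x * y)} : Finset S2) ({1, -1, x, -x} : Finset S2) ?_ ?_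
    · have h6 : ({x, -x, y, -y, x * y, -(x * y)} : Finset S2).card ≤ 6 := Finset.card_le_six
      have h4 : ({1, -1, x, -x} : Finset S2).card ≤ 4 := Finset.card_le_four
      calc _ ≤ _ := hb
        _ ≤ 4 * 6 := Nat.mul_le_mul h4 h6
    · intro n hn
      have hconj : n * x * n⁻¹ ∈ (S : Subgroup S2) := (Subgroup.mem_normalizer_iff.1 hn x).1 hxS
      have hsq : (n * x * n⁻¹) * (n * x * n⁻¹) = -1 := by
        have e : (n * x * n⁻¹) * (n * x * n⁻¹) = n * (x * x) * n⁻¹ := by group
        rw [e, hx2]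
        have hc := (Subgroup.mem_center_iff.1 (sl2_neg_one_mem_center (F := F))) n
        rw [hc]; group
      simp only [Finset.mem_insert, Finset.mem_singleton]
      rcases (hmemS _).1 hconj with h' | h' | h' | h' | h' | h' | h' | h'
      · rw [h', one_mul] at hsq; exact absurd hsq hne
      · rw [h', sl2_neg_one_mul_self] at hsq; exact absurd hsq hne
      · exact Or.inl h'
      · exact Or.inr (Or.inl h')
      · exact Or.inr (Or.inr (Or.inl h'))
      · exact Or.inr (Or.inr (Or.inr (Or.inl h')))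
      · exact Or.inr (Or.inr (Or.inr (Or.inr (Or.inl h'))))
      · exact Or.inr (Or.inr (Or.inr (Or.inr (Or.inr h'))))
    · intro n hn hcomm
      have hnT : n ∈ torusA A := by
        rw [← h.centralizer_eq hxT hx1 hxm1, Subgroup.mem_centralizer_singleton_iff]
        exact hcomm
      have hnS := h.mem_sylow_of_mem_normA S hy hyN hy' (torusA_le_normA A hnT) hn
      simp only [Finset.mem_insert, Finset.mem_singleton]
      exact h.mem_four_of_pow_four hxT hx2 hnT (hall n hnS hnT)
  -- lower bound and parity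
  have hdvd : 8 ∣ Nat.card (Subgroup.normalizer ((S : Subgroup S2) : Set S2)) := by
    rw [← h8]; exact Subgroup.card_dvd_of_le Subgroup.le_normalizer
  have hodd : ¬ 16 ∣ Nat.card (Subgroup.normalizer ((S : Subgroup S2) : Set S2)) := by
    intro h16
    have h1 : Nat.card (Subgroup.normalizer ((S : Subgroup S2) : Set S2)) ∣ Nat.card S2 :=
      Subgroup.card_subgroup_dvd_card _
    have h2 := (S : Subgroup S2).card_mul_index
    rw [h8] at h2
    have h3 : 16 ∣ 8 * (S : Subgroup S2).index := by rw [h2]; exact h16.trans h1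
    have h4 : 2 ∣ (S : Subgroup S2).index := by
      obtain ⟨k, hk⟩ := h3
      exact ⟨k, by omega⟩
    exact S.not_dvd_index h4
  have hne8 : Nat.card (Subgroup.normalizer ((S : Subgroup S2) : Set S2)) ≠ 8 := by
    intro heq
    have : (S : Subgroup S2) = Subgroup.normalizer ((S : Subgroup S2) : Set S2) :=
      Subgroup.eq_of_le_of_card_ge Subgroup.le_normalizer (by rw [heq, h8])
    apply hωS
    rw [this]; exact hωN
  obtain ⟨k, hk⟩ := hdvd
  have : ¬ 2 ∣ k := by
    rintro ⟨j, rfl⟩
    exact hodd ⟨j, by omega⟩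
  omega

end IsTorusGen

end Cfsg.Agent.Helper12
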