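import Mathlib
import Cfsg.Agent.Helper12.McKayGeneral
import Cfsg.Agent.Helper12.SL2SylowTwoB
import Cfsg.Agent.Helper12.SL2OrderFour

set_option autoImplicit false

namespace Cfsg.Agent.Helper12

open Cfsg Cfsg.Agent.Helper8 Cfsg.Agent.Helper24

variable {F : Type*} [Field F]

local notation "S2" => Matrix.SpecialLinearGroup (Fin 2) F
local notation "M2" => Matrix (Fin 2) (Fin 2) F

namespace IsTorusGen

/-- Subgroups of `normA` not contained in the torus and containing `-1` are of dicyclic type. -/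
theorem dicyclic_of_le_normA [Finite F] {A : M2} {ε : F} (h : IsTorusGen A ε) (H : Subgroup S2)
    (hH : H ≤ normA A) (hneg : (-1 : S2) ∈ H) {y : S2} (hy : y ∈ H) (hy' : y ∉ torusA A) :
    ((torusA A).subgroupOf H).index = 2 ∧
    (∀ a ∈ (torusA A).subgroupOf H, ∀ b ∈ (torusA A).subgroupOf H, a * b = b * a) ∧
    2 * Nat.card (ConjClasses H) = Nat.card ((torusA A).subgroupOf H) + 6 := by
  have hya : (y : M2) * A = -(A * (y : M2)) := by
    rcases hH hy with h' | h'
    · exact absurd h' hy'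
    · exact h'
  have hidx : ((torusA A).subgroupOf H).index = 2 := by
    rw [Subgroup.index_eq_two_iff]
    refine ⟨⟨y, hy⟩, ?_⟩
    rintro ⟨b, hb⟩
    simp only [Subgroup.mem_subgroupOf, Subgroup.coe_mul]
    rcases hH hb with hb' | hb'
    · right
      refine ⟨hb', ?_⟩
      intro hbw
      have hbw' : ((b * y : S2) : M2) * A = -(A * ((b * y : S2) : M2)) := by
        rw [Matrix.SpecialLinearGroup.coe_mul, Matrix.mul_assoc, hya, Matrix.mul_neg,
          ← Matrix.mul_assoc, hb', Matrix.mul_assoc]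
      exact h.not_comm_and_anticomm (b * y) hbw hbw'
    · left
      refine ⟨?_, ?_⟩
      · show ((b * y : S2) : M2) * A = A * ((b * y : S2) : M2)
        rw [Matrix.SpecialLinearGroup.coe_mul, Matrix.mul_assoc, hya, Matrix.mul_neg,
          ← Matrix.mul_assoc, hb', Matrix.neg_mul, neg_neg, Matrix.mul_assoc]
      · intro hb''
        exact h.not_comm_and_anticomm b hb'' hb'
  have hab : ∀ a ∈ (torusA A).subgroupOf H, ∀ b ∈ (torusA A).subgroupOf H, a * b = b * a := by
    rintro ⟨a, ha⟩ ha' ⟨b, hb⟩ hb'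
    rw [Subgroup.mem_subgroupOf] at ha' hb'
    apply Subtype.ext
    exact h.torus_comm ha' hb'
  refine ⟨hidx, hab, ?_⟩
  have : Finite H := inferInstance
  apply card_conjClasses_dicyclic (N := H) ((torusA A).subgroupOf H) ⟨-1, hneg⟩ hidx
  · intro a b ha hb
    exact hab a ha b hb
  · rw [Subgroup.mem_subgroupOf]
    exact neg_one_mem_torusA A
  · intro h1
    have h2 : (-1 : S2) = 1 := congrArg (fun x : H => (x : S2)) h1
    exact sl2_one_ne_neg_one h.two_ne h2.symm
  · apply Subtype.ext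
    show (-1 : S2) * (-1 : S2) = 1
    simp
  · rintro ⟨n, hn⟩ ⟨t, ht⟩ hn' ht'
    rw [Subgroup.mem_subgroupOf] at hn' ht'
    apply Subtype.ext
    show n * t * n⁻¹ = t⁻¹
    rcases hH hn with hn'' | hn''
    · exact absurd hn'' hn'
    · exact h.conj_eq_inv hn'' ht'
  · rintro ⟨t, ht⟩ _ hsq
    have hsq' : t * t = 1 := congrArg (fun x : H => (x : S2)) hsq
    rcases sl2_eq_of_sq_eq_one h.two_ne t hsq' with h1 | h1
    · left; exact Subtype.ext h1
    · right; exact Subtype.ext h1

/-- McKay count of `normA` at odd primes. -/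
theorem mkCount_normA_odd [Finite F] {A : M2} {ε : F} (h : IsTorusGen A ε)
    (hw : ∃ w : S2, (w : M2) * A = -(A * (w : M2))) (ℓ : ℕ) (hℓ : 2 < ℓ) :
    2 * mkCount ℓ (normA A) = Nat.card (torusA A) + 6 := by
  obtain ⟨w, hw⟩ := hw
  have hwN : w ∈ normA A := Or.inr hw
  have hwT : w ∉ torusA A := fun h' => h.not_comm_and_anticomm w h' hw
  obtain ⟨h1, h2, h3⟩ := h.dicyclic_of_le_normA (normA A) le_rfl
    (torusA_le_normA A (neg_one_mem_torusA A)) hwN hwT
  rw [mkCount_dicyclic_odd _ h1 h2 h3 ℓ hℓ, card_subgroupOf]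

/-- McKay count at two of a subgroup of `normA` of dicyclic type. -/
theorem mkCount_two_of_le_normA [Finite F] {A : M2} {ε : F} (h : IsTorusGen A ε)
    (H : Subgroup S2) (hH : H ≤ normA A) (hneg : (-1 : S2) ∈ H) {y : S2} (hy : y ∈ H)
    (hy' : y ∉ torusA A) : mkCount 2 H = 4 := by
  obtain ⟨h1, h2, h3⟩ := h.dicyclic_of_le_normA H hH hneg hy hy'
  exact mkCount_dicyclic_two _ h1 h2 h3

end IsTorusGen

end Cfsg.Agent.Helper12
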