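import Mathlib
import Cfsg.Agent.Helper12.McKayGeneral
import Cfsg.Agent.S2299

set_option autoImplicit false

namespace Cfsg.Agent.Helper12

open Cfsg Cfsg.Agent.Helper8 Cfsg.Agent.Helper24

variable {F : Type*} [Field F]

local notation "S2" => Matrix.SpecialLinearGroup (Fin 2) F
local notation "M2" => Matrix (Fin 2) (Fin 2) F

theorem charDegree_eq_iff {G : Type*} [Group G] (χ : IrrCharacter G) (d : ℕ) :
    charDegree (χ : G → ℂ) = d ↔ (χ : G → ℂ) 1 = (d : ℂ) := by
  constructor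
  · intro h
    rw [← h, charDegree_eq_irrDeg, irrDeg_spec]
  · exact charDegree_of_natCast

/-- Counting irreducible characters through their degrees. -/
theorem card_filter_degree {G : Type*} [Group G] [Fintype (IrrCharacter G)] (P : ℕ → Prop)
    [DecidablePred P] (D : Finset ℕ) (hD : ∀ χ : IrrCharacter G, charDegree (χ : G → ℂ) ∈ D) :
    Nat.card {χ : IrrCharacter G // P (charDegree (χ : G → ℂ))} =
      ∑ d ∈ D, if P d then Nat.card {χ : IrrCharacter G // charDegree (χ : G → ℂ) = d} else 0 := by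
  classical
  rw [Nat.card_eq_fintype_card, Fintype.card_subtype,
    Finset.card_eq_sum_card_fiberwise (f := fun χ : IrrCharacter G => charDegree (χ : G → ℂ))
      (t := D) (fun χ _ => hD χ)]
  apply Finset.sum_congr rfl
  intro d _
  split_ifs with hP
  · rw [Nat.card_eq_fintype_card, Fintype.card_subtype]
    congr 1
    ext χ
    simp only [Finset.mem_filter, Finset.mem_univ, true_and]
    constructor
    · exact fun h => h.2
    · intro h
      exact ⟨by rw [h]; exact hP, h⟩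
  · rw [Finset.card_eq_zero]
    ext χ
    simp only [Finset.mem_filter, Finset.mem_univ, true_and, Finset.notMem_empty, iff_false]
    rintro ⟨h1, h2⟩
    rw [h2] at h1
    exact hP h1

/-- The numbers of irreducible characters of `SL₂(q)`, `q = 2r + 5`, of each degree. -/
theorem card_irr_degree_sl2 [Fintype F] (hodd : Odd (Fintype.card F)) (r : ℕ)
    (hr : Fintype.card F = 2 * r + 5) :
    (∀ χ : IrrCharacter S2, charDegree (χ : S2 → ℂ) ∈
      ({1, 2 * r + 5, 2 * r + 6, 2 * r + 4, r + 3, r + 2} : Finset ℕ)) ∧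
    Nat.card {χ : IrrCharacter S2 // charDegree (χ : S2 → ℂ) = 1} = 1 ∧
    Nat.card {χ : IrrCharacter S2 // charDegree (χ : S2 → ℂ) = 2 * r + 5} = 1 ∧
    Nat.card {χ : IrrCharacter S2 // charDegree (χ : S2 → ℂ) = 2 * r + 6} = r + 1 ∧
    Nat.card {χ : IrrCharacter S2 // charDegree (χ : S2 → ℂ) = 2 * r + 4} = r + 2 ∧
    Nat.card {χ : IrrCharacter S2 // charDegree (χ : S2 → ℂ) = r + 3} = 2 ∧
    Nat.card {χ : IrrCharacter S2 // charDegree (χ : S2 → ℂ) = r + 2} = 2 := by
  obtain ⟨hlist, hcount⟩ := Cfsg.Agent.S2299.result hodd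
  obtain ⟨c1, c2, c3, c4, c5, c6⟩ := hcount (by omega)
  have e1 : (Fintype.card F + 1) / 2 = r + 3 := by omega
  have e2 : (Fintype.card F - 1) / 2 = r + 2 := by omega
  have e3 : (Fintype.card F - 3) / 2 = r + 1 := by omega
  rw [e1] at c5
  rw [e2] at c6 c4
  rw [e3] at c3
  have hq : (Fintype.card F : ℂ) = ((2 * r + 5 : ℕ) : ℂ) := by rw [hr]
  refine ⟨?_, ?_, ?_, ?_, ?_, ?_, ?_⟩
  · intro χ
    simp only [Finset.mem_insert, Finset.mem_singleton]
    rcases hlist (χ : S2 → ℂ) χ.2 with h | h | h | h | h | h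
    · left; exact charDegree_of_natCast (by rw [h]; simp)
    · right; left; exact charDegree_of_natCast (by rw [h, hq])
    · right; right; left
      exact charDegree_of_natCast (by rw [h, hq]; push_cast; ring)
    · right; right; right; left
      exact charDegree_of_natCast (by rw [h, hq]; push_cast; ring)
    · right; right; right; right; left
      exact charDegree_of_natCast (by rw [h, e1])
    · right; right; right; right; right
      exact charDegree_of_natCast (by rw [h, e2])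
  · refine (Nat.card_congr (Equiv.subtypeEquivRight (fun χ => ?_))).trans c1
    rw [charDegree_eq_iff, Nat.cast_one]
  · refine (Nat.card_congr (Equiv.subtypeEquivRight (fun χ => ?_))).trans c2
    rw [charDegree_eq_iff, hq]
  · refine (Nat.card_congr (Equiv.subtypeEquivRight (fun χ => ?_))).trans c3
    rw [charDegree_eq_iff, hq]
    constructor
    · intro h; rw [h]; push_cast; ring
    · intro h; rw [h]; push_cast; ring
  · refine (Nat.card_congr (Equiv.subtypeEquivRight (fun χ => ?_))).trans c4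
    rw [charDegree_eq_iff, hq]
    constructor
    · intro h; rw [h]; push_cast; ring
    · intro h; rw [h]; push_cast; ring
  · refine (Nat.card_congr (Equiv.subtypeEquivRight (fun χ => ?_))).trans c5
    rw [charDegree_eq_iff]
  · refine (Nat.card_congr (Equiv.subtypeEquivRight (fun χ => ?_))).trans c6
    rw [charDegree_eq_iff]

/-- The count of irreducible characters of `SL₂(q)`, `q = 2r + 5`, whose degree satisfies `P`. -/
theorem card_irr_sl2_pred [Fintype F] (hodd : Odd (Fintype.card F)) (r : ℕ)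
    (hr : Fintype.card F = 2 * r + 5) (P : ℕ → Prop) [DecidablePred P] :
    Nat.card {χ : IrrCharacter S2 // P (charDegree (χ : S2 → ℂ))} =
      (if P 1 then 1 else 0) + (if P (2 * r + 5) then 1 else 0) +
      (if P (2 * r + 6) then r + 1 else 0) + (if P (2 * r + 4) then r + 2 else 0) +
      (if P (r + 3) then 2 else 0) + (if P (r + 2) then 2 else 0) := by
  classical
  have : Fintype (IrrCharacter S2) := Fintype.ofFinite _
  obtain ⟨hD, c1, c2, c3, c4, c5, c6⟩ := card_irr_degree_sl2 hodd r hr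
  rw [card_filter_degree P _ hD]
  rw [Finset.sum_insert (by simp), Finset.sum_insert (by simp; omega),
    Finset.sum_insert (by simp; omega), Finset.sum_insert (by simp; omega),
    Finset.sum_insert (by simp), Finset.sum_singleton, c1, c2, c3, c4, c5, c6]
  ring

theorem not_dvd_succ_of_dvd {ℓ a : ℕ} (hℓ : ℓ.Prime) (h : ℓ ∣ a) : ¬ ℓ ∣ a + 1 := by
  intro h'
  have := (Nat.dvd_add_right h).1 h'
  exact hℓ.one_lt.ne' (Nat.dvd_one.1 this)

theorem not_dvd_add_two_of_dvd {ℓ a : ℕ} (hℓ : ℓ.Prime) (h2 : ℓ ≠ 2) (h : ℓ ∣ a) :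
    ¬ ℓ ∣ a + 2 := by
  intro h'
  have := (Nat.dvd_add_right h).1 h'
  exact h2 ((Nat.prime_dvd_prime_iff_eq hℓ Nat.prime_two).1 this)

theorem dvd_half_of_dvd {ℓ a : ℕ} (hℓ : ℓ.Prime) (h2 : ℓ ≠ 2) (h : ℓ ∣ 2 * a) : ℓ ∣ a := by
  rcases (Nat.Prime.dvd_mul hℓ).1 h with h' | h'
  · exact absurd ((Nat.prime_dvd_prime_iff_eq hℓ Nat.prime_two).1 h') h2
  · exact h'

/-- McKay count of `SL₂(q)` at the prime two. -/
theorem mkCount_sl2_two [Fintype F] (hodd : Odd (Fintype.card F)) (h5 : 5 ≤ Fintype.card F) :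
    mkCount 2 S2 = 4 := by
  classical
  obtain ⟨r, hr⟩ : ∃ r : ℕ, Fintype.card F = 2 * r + 5 := by
    obtain ⟨k, hk⟩ := hodd
    exact ⟨k - 2, by omega⟩
  unfold mkCount
  rw [card_irr_sl2_pred hodd r hr (fun d => ¬ 2 ∣ d)]
  have h1 : ¬ 2 ∣ 1 := by omega
  have h2 : ¬ 2 ∣ 2 * r + 5 := by omega
  have h3 : 2 ∣ 2 * r + 6 := by omega
  have h4 : 2 ∣ 2 * r + 4 := by omega
  rw [if_pos h1, if_pos h2, if_neg (not_not.2 h3), if_neg (not_not.2 h4)]
  by_cases h : 2 ∣ r + 3
  · have h' : ¬ 2 ∣ r + 2 := by omega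
    rw [if_neg (not_not.2 h), if_pos h']
  · have h' : 2 ∣ r + 2 := by omega
    rw [if_pos h, if_neg (not_not.2 h')]

/-- McKay count of `SL₂(q)` at an odd prime dividing `q - 1`. -/
theorem mkCount_sl2_sub [Fintype F] (hodd : Odd (Fintype.card F)) (ℓ : ℕ) (hℓ : ℓ.Prime)
    (h2 : ℓ ≠ 2) (hdvd : ℓ ∣ Fintype.card F - 1) : 2 * mkCount ℓ S2 = Fintype.card F + 5 := by
  classical
  have hq1 : 1 < Fintype.card F := Fintype.one_lt_card
  have h5 : 5 ≤ Fintype.card F := by
    have h3 : 3 ≤ ℓ := by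
      have := hℓ.two_le
      omega
    have := Nat.le_of_dvd (by omega) hdvd
    obtain ⟨k, hk⟩ := hodd
    omega
  obtain ⟨r, hr⟩ : ∃ r : ℕ, Fintype.card F = 2 * r + 5 := by
    obtain ⟨k, hk⟩ := hodd
    exact ⟨k - 2, by omega⟩
  have e : Fintype.card F - 1 = 2 * r + 4 := by omega
  rw [e] at hdvd
  have hhalf : ℓ ∣ r + 2 := dvd_half_of_dvd hℓ h2 (by rw [show 2 * (r + 2) = 2 * r + 4 by ring]; exact hdvd)
  unfold mkCount
  rw [card_irr_sl2_pred hodd r hr (fun d => ¬ ℓ ∣ d)]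
  have h1 : ¬ ℓ ∣ 1 := fun h => hℓ.one_lt.ne' (Nat.dvd_one.1 h)
  rw [if_pos h1, if_pos (not_dvd_succ_of_dvd hℓ hdvd), if_pos (not_dvd_add_two_of_dvd hℓ h2 hdvd),
    if_neg (not_not.2 hdvd), if_pos (not_dvd_succ_of_dvd hℓ hhalf), if_neg (not_not.2 hhalf), hr]
  ring

/-- McKay count of `SL₂(q)` at an odd prime dividing `q + 1`. -/
theorem mkCount_sl2_add [Fintype F] (hodd : Odd (Fintype.card F)) (ℓ : ℕ) (hℓ : ℓ.Prime)
    (h2 : ℓ ≠ 2) (hdvd : ℓ ∣ Fintype.card F + 1) : 2 * mkCount ℓ S2 = Fintype.card F + 7 := by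
  classical
  have hq1 : 1 < Fintype.card F := Fintype.one_lt_card
  have h5 : 5 ≤ Fintype.card F := by
    have h3 : 3 ≤ ℓ := by
      have := hℓ.two_le
      omega
    obtain ⟨k, hk⟩ := hodd
    have e : Fintype.card F + 1 = 2 * (k + 1) := by omega
    rw [e] at hdvd
    have := Nat.le_of_dvd (by omega) (dvd_half_of_dvd hℓ h2 hdvd)
    omega
  obtain ⟨r, hr⟩ : ∃ r : ℕ, Fintype.card F = 2 * r + 5 := by
    obtain ⟨k, hk⟩ := hodd
    exact ⟨k - 2, by omega⟩
  have e : Fintype.card F + 1 = 2 * r + 6 := by omega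
  rw [e] at hdvd
  have hhalf : ℓ ∣ r + 3 := dvd_half_of_dvd hℓ h2 (by rw [show 2 * (r + 3) = 2 * r + 6 by ring]; exact hdvd)
  have h4 : ¬ ℓ ∣ 2 * r + 4 := by
    intro h
    exact not_dvd_add_two_of_dvd hℓ h2 h hdvd
  have h5' : ¬ ℓ ∣ 2 * r + 5 := by
    intro h
    exact not_dvd_succ_of_dvd hℓ h hdvd
  have h6 : ¬ ℓ ∣ r + 2 := by
    intro h
    exact not_dvd_succ_of_dvd hℓ h hhalf
  unfold mkCount
  rw [card_irr_sl2_pred hodd r hr (fun d => ¬ ℓ ∣ d)]
  have h1 : ¬ ℓ ∣ 1 := fun h => hℓ.one_lt.ne' (Nat.dvd_one.1 h)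
  rw [if_pos h1, if_pos h5', if_neg (not_not.2 hdvd), if_pos h4, if_neg (not_not.2 hhalf),
    if_pos h6, hr]
  ring

/-- In `SL₂(q)`, `q` odd, the only irreducible character of degree divisible by the
characteristic is the Steinberg character. -/
theorem eq_stS_of_dvd_degree_odd [Fintype F] [DecidableEq F] (p : ℕ) [Fact p.Prime] [CharP F p]
    (hodd : Odd (Fintype.card F)) (χ : S2 → ℂ) (hχ : IsIrrCharacter S2 χ)
    (hdvd : p ∣ charDegree χ) : χ = (stS (F := F) : S2 → ℂ) := by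
  have hp : p.Prime := Fact.out
  obtain ⟨n, _, hn⟩ := FiniteField.card F p
  have hpq : p ∣ Fintype.card F := by
    rw [hn]; exact dvd_pow_self p n.ne_zero
  have hF2 := ringChar_ne_two_of_odd hodd
  obtain ⟨ε, hε⟩ := FiniteField.exists_nonsquare hF2
  obtain ⟨k, hk⟩ := hodd
  have hk0 : 1 ≤ k := by
    have : 1 < Fintype.card F := Fintype.one_lt_card
    omega
  have hnd1 : ¬ p ∣ 1 := fun h => hp.one_lt.ne' (Nat.dvd_one.1 h)
  have hnd_add : ¬ p ∣ Fintype.card F + 1 := not_dvd_succ_of_dvd hp hpq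
  have hnd_sub : ¬ p ∣ Fintype.card F - 1 := by
    intro h
    have : p ∣ (Fintype.card F - 1) + 1 := by
      rw [Nat.sub_add_cancel (by omega)]; exact hpq
    exact not_dvd_succ_of_dvd hp h this
  have e1 : (Fintype.card F + 1) / 2 = k + 1 := by omega
  have e2 : Fintype.card F + 1 = 2 * (k + 1) := by omega
  have e3 : Fintype.card F - 1 = 2 * k := by omega
  have hodd' : Odd (Fintype.card F) := ⟨k, hk⟩
  rcases sl2_odd_irr_cases hodd' hε χ hχ with rfl | rfl | ⟨α, _, rfl⟩ | h | ⟨_, ⟨h1, _⟩ | ⟨h1, _⟩⟩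
  · exfalso
    have h1 : (trivS (F := F)) 1 = ((1 : ℕ) : ℂ) := by simp [trivS]
    rw [charDegree_of_natCast h1] at hdvd
    exact hnd1 hdvd
  · rfl
  · exfalso
    have h1 : psS α 1 = ((Fintype.card F + 1 : ℕ) : ℂ) := by
      rw [psS_one]; push_cast; ring
    rw [charDegree_of_natCast h1] at hdvd
    exact hnd_add hdvd
  · exfalso
    have hd : χ 1 = (((Fintype.card F + 1) / 2 : ℕ) : ℂ) := by
      rcases h with rfl | rfl
      · exact (pairS_sgn_spec hodd').1
      · exact (pairS_sgn_spec hodd').2.1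
    rw [charDegree_of_natCast hd, e1] at hdvd
    apply hnd_add
    rw [e2]
    exact Dvd.dvd.mul_left hdvd 2
  · exfalso
    have h1' : χ 1 = ((Fintype.card F - 1 : ℕ) : ℂ) := by
      rw [h1, Nat.cast_sub (by omega)]; push_cast; ring
    rw [charDegree_of_natCast h1'] at hdvd
    exact hnd_sub hdvd
  · exfalso
    have h1' : χ 1 = ((k : ℕ) : ℂ) := by
      have : 2 * χ 1 = 2 * ((k : ℕ) : ℂ) := by
        rw [h1, hk]; push_cast; ring
      exact mul_left_cancel₀ two_ne_zero this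
    rw [charDegree_of_natCast h1'] at hdvd
    apply hnd_sub
    rw [e3]
    exact Dvd.dvd.mul_left hdvd 2

/-- McKay count of `SL₂(q)` at the characteristic. -/
theorem mkCount_sl2_char [Fintype F] (p : ℕ) [Fact p.Prime] [CharP F p]
    (hodd : Odd (Fintype.card F)) : mkCount p S2 = Fintype.card F + 3 := by
  classical
  have : Fintype (IrrCharacter S2) := Fintype.ofFinite _
  obtain ⟨n, _, hn⟩ := FiniteField.card F p
  have hpq : p ∣ Fintype.card F := by
    rw [hn]; exact dvd_pow_self p n.ne_zero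
  have hone : Nat.card {χ : IrrCharacter S2 // p ∣ charDegree (χ : S2 → ℂ)} = 1 := by
    rw [Nat.card_eq_one_iff_unique]
    constructor
    · constructor
      rintro ⟨χ₁, h1⟩ ⟨χ₂, h2⟩
      apply Subtype.ext
      apply Subtype.ext
      rw [eq_stS_of_dvd_degree_odd p hodd _ χ₁.2 h1, eq_stS_of_dvd_degree_odd p hodd _ χ₂.2 h2]
    · refine ⟨⟨stS, ?_⟩⟩
      rw [charDegree_of_natCast stS_one]
      exact hpq
  have htot : Nat.card (IrrCharacter S2) = Fintype.card F + 4 := by
    rw [card_irr_eq_card_conjClasses, Cfsg.Agent.S2325.result hodd]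
  have hsplit : Nat.card {χ : IrrCharacter S2 // p ∣ charDegree (χ : S2 → ℂ)} +
      Nat.card {χ : IrrCharacter S2 // ¬ p ∣ charDegree (χ : S2 → ℂ)} =
      Nat.card (IrrCharacter S2) := by
    rw [← Nat.card_sum]
    exact Nat.card_congr (Equiv.sumCompl _)
  unfold mkCount
  omega

end Cfsg.Agent.Helper12
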