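import Mathlib
import Cfsg.Agent.Helper12.McKaySL2G

set_option autoImplicit false

namespace Cfsg.Agent.Helper12

open Cfsg Cfsg.Agent.Helper8 Cfsg.Agent.Helper24

/-- Summing a function of the degree over the irreducible characters. -/
theorem sum_degree_fiberwise {G : Type*} [Group G] [Fintype (IrrCharacter G)] (f : ℕ → ℕ)
    (D : Finset ℕ) (hD : ∀ χ : IrrCharacter G, charDegree (χ : G → ℂ) ∈ D) :
    ∑ χ : IrrCharacter G, f (charDegree (χ : G → ℂ)) =
      ∑ d ∈ D, f d * Nat.card {χ : IrrCharacter G // charDegree (χ : G → ℂ) = d} := by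
  classical
  rw [← Finset.sum_fiberwise_of_maps_to (g := fun χ : IrrCharacter G => charDegree (χ : G → ℂ))
    (t := D) (fun χ _ => hD χ)]
  apply Finset.sum_congr rfl
  intro d _
  rw [Nat.card_eq_fintype_card, Fintype.card_subtype, mul_comm, ← smul_eq_mul, ← Finset.sum_const]
  apply Finset.sum_congr rfl
  intro χ hχ
  rw [(Finset.mem_filter.1 hχ).2]

/-- A group of order `24` whose commutator subgroup has index `1` or `3` has exactly four
irreducible characters of odd degree. -/
theorem mkCount_two_of_card_24 {N : Type*} [Group N] [Finite N] (hN : Nat.card N = 24)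
    (hlin : (commutator N).index = 1 ∨ (commutator N).index = 3) : mkCount 2 N = 4 := by
  classical
  have : Fintype N := Fintype.ofFinite N
  have : Fintype (IrrCharacter N) := Fintype.ofFinite _
  have hsum := sum_irrDeg_sq (G := N)
  rw [hN] at hsum
  have hD : ∀ χ : IrrCharacter N, charDegree (χ : N → ℂ) ∈ ({1, 2, 3, 4} : Finset ℕ) := by
    intro χ
    rw [charDegree_eq_irrDeg]
    have h1 : irrDeg χ ^ 2 ≤ ∑ ψ : IrrCharacter N, irrDeg ψ ^ 2 :=
      Finset.single_le_sum (f := fun ψ : IrrCharacter N => irrDeg ψ ^ 2)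
        (fun _ _ => Nat.zero_le _) (Finset.mem_univ χ)
    rw [hsum] at h1
    have h2 := irrDeg_pos χ
    have h3 : irrDeg χ < 5 := by
      by_contra hge
      push Not at hge
      have : 5 ^ 2 ≤ irrDeg χ ^ 2 := Nat.pow_le_pow_left hge 2
      omega
    simp only [Finset.mem_insert, Finset.mem_singleton]
    omega
  have hsq : ∑ χ : IrrCharacter N, (charDegree (χ : N → ℂ)) ^ 2 = 24 := by
    rw [← hsum]
    apply Finset.sum_congr rfl
    intro χ _
    rw [charDegree_eq_irrDeg]
  rw [sum_degree_fiberwise (fun d => d ^ 2) _ hD] at hsq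
  rw [Finset.sum_insert (by simp), Finset.sum_insert (by simp), Finset.sum_insert (by simp),
    Finset.sum_singleton] at hsq
  have hlin' : Nat.card {χ : IrrCharacter N // charDegree (χ : N → ℂ) = 1} =
      (commutator N).index := by
    rw [← card_linear_irr]
    refine Nat.card_congr (Equiv.subtypeEquivRight (fun χ => ?_))
    rw [charDegree_eq_iff, Nat.cast_one]
  unfold mkCount
  rw [card_filter_degree (fun d => ¬ 2 ∣ d) _ hD]
  rw [Finset.sum_insert (by simp), Finset.sum_insert (by simp), Finset.sum_insert (by simp),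
    Finset.sum_singleton]
  rw [if_pos (by omega), if_neg (by omega), if_pos (by omega), if_neg (by omega)]
  rw [hlin'] at hsq ⊢
  rcases hlin with h | h <;> rw [h] at hsq ⊢ <;> omega

end Cfsg.Agent.Helper12
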