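import Mathlib
import Cfsg.Agent.Helper12.McKayTwentyFour
import Cfsg.Agent.Helper12.McKaySL2N

set_option autoImplicit false

namespace Cfsg.Agent.Helper12

open Cfsg Cfsg.Agent.Helper8 Cfsg.Agent.Helper24

open scoped commutatorElement

variable {F : Type*} [Field F]

local notation "S2" => Matrix.SpecialLinearGroup (Fin 2) F
local notation "M2" => Matrix (Fin 2) (Fin 2) F

/-- A subgroup `S ≤ N` generated by `x`, `y` lies in the commutator subgroup of `N` when some
`ω ∈ N` maps `x ↦ y ↦ x y` under conjugation. -/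
theorem subgroupOf_le_commutator_of_gen {G : Type*} [Group G] (N S : Subgroup G) (hSN : S ≤ N)
    {x y ω : G} (hx : x ∈ S) (hy : y ∈ S) (hω : ω ∈ N) (h1 : ω * x * ω⁻¹ = y)
    (h2 : ω * y * ω⁻¹ = x * y) (hgen : ∀ s ∈ S, s ∈ Subgroup.closure ({x, y} : Set G)) :
    S.subgroupOf N ≤ commutator N := by
  let x' : N := ⟨x, hSN hx⟩
  let y' : N := ⟨y, hSN hy⟩
  let ω' : N := ⟨ω, hω⟩
  have hx' : x' ∈ commutator N := by
    have e1 : ⁅ω', y'⁆ ∈ commutator N :=
      Subgroup.commutator_mem_commutator (Subgroup.mem_top _) (Subgroup.mem_top _)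
    have e2 : ⁅ω', y'⁆ = x' := by
      apply Subtype.ext
      show ω * y * ω⁻¹ * y⁻¹ = x
      rw [h2]; group
    rwa [e2] at e1
  have hy' : y' ∈ commutator N := by
    have e1 : ⁅ω', x'⁆ ∈ commutator N :=
      Subgroup.commutator_mem_commutator (Subgroup.mem_top _) (Subgroup.mem_top _)
    have e2 : ⁅ω', x'⁆ * x' = y' := by
      apply Subtype.ext
      show ω * x * ω⁻¹ * x⁻¹ * x = y
      rw [h1]; group
    rw [← e2]
    exact Subgroup.mul_mem _ e1 hx'
  rintro ⟨s, hsN⟩ hs
  rw [Subgroup.mem_subgroupOf] at hs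
  have hs' := hgen s hs
  have hmap : Subgroup.closure ({x, y} : Set G) ≤ (commutator N).map N.subtype := by
    rw [Subgroup.closure_le]
    intro z hz
    rcases hz with rfl | hz
    · exact ⟨x', hx', rfl⟩
    · rw [Set.mem_singleton_iff] at hz
      rw [hz]
      exact ⟨y', hy', rfl⟩
  obtain ⟨t, ht, hts⟩ := hmap hs'
  have : t = ⟨s, hsN⟩ := Subtype.ext hts
  rw [← this]
  exact ht

namespace IsTorusGen

/-- The structure of a Sylow 2-subgroup of order eight inside `normA`: it is generated by `x`, `y`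
which are permuted cyclically (with `x y`) by an element `ω` of the normaliser. -/
theorem sylow_eight_structure [Finite F] {A : M2} {ε : F} (h : IsTorusGen A ε)
    (S : Sylow 2 S2) (hS : (S : Subgroup S2) ≤ normA A) (h8 : Nat.card (S : Subgroup S2) = 8)
    (hw : ∃ w : S2, (w : M2) * A = -(A * (w : M2))) :
    ∃ x y ω : S2, x ∈ (S : Subgroup S2) ∧ y ∈ (S : Subgroup S2) ∧
      ω ∈ Subgroup.normalizer ((S : Subgroup S2) : Set S2) ∧ ω * x * ω⁻¹ = y ∧
      ω * y * ω⁻¹ = x * y ∧
      ∀ s ∈ (S : Subgroup S2), s ∈ Subgroup.closure ({x, y} : Set S2) := by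
  classical
  obtain ⟨y, hy, hy'⟩ := h.exists_mem_sylow_not_mem_torusA S hw
  have h8' : 8 ∣ Nat.card (S : Subgroup S2) := by rw [h8]
  obtain ⟨x, hxS, hxT, hx2⟩ := h.exists_mem_sylow_sq S hS h8' hy hy'
  have hyN := hS hy
  have hya : (y : M2) * A = -(A * (y : M2)) := by
    rcases hyN with h' | h'
    · exact absurd h' hy'
    · exact h'
  have hysq : y * y = -1 := by
    apply Subtype.ext
    rw [h.sq_of_anticomm hya, sl2_neg_one_coe]
  have hxinv := inv_eq_neg_of_sq hx2
  have hyinv := inv_eq_neg_of_sq hysq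
  have hyx : y * x = -(x * y) := by
    have := h.conj_eq_inv hya hxT
    rw [mul_inv_eq_iff_eq_mul] at this
    rw [this, hxinv, neg_mul]
  have hxy2 : (x * y) * (x * y) = -1 := by
    calc (x * y) * (x * y) = x * (y * x) * y := by group
      _ = -((x * x) * (y * y)) := by rw [hyx, mul_neg, neg_mul]; group
      _ = -1 := by rw [hx2, hysq, sl2_neg_one_mul_self]
  have hxyinv := inv_eq_neg_of_sq hxy2
  -- the torus part has exponent four
  have hall : ∀ c : S2, c ∈ (S : Subgroup S2) → c ∈ torusA A → c ^ 4 = 1 := by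
    intro c hcS hcT
    have hKle : (S : Subgroup S2) ⊓ torusA A ≤ (S : Subgroup S2) := inf_le_left
    have hdvd : Nat.card ((S : Subgroup S2) ⊓ torusA A : Subgroup S2) ∣ 8 := by
      rw [← h8]; exact Subgroup.card_dvd_of_le hKle
    have hne : Nat.card ((S : Subgroup S2) ⊓ torusA A : Subgroup S2) ≠ 8 := by
      intro heq
      have : (S : Subgroup S2) ⊓ torusA A = (S : Subgroup S2) :=
        Subgroup.eq_of_le_of_card_ge hKle (by rw [heq, h8])
      have hyK : y ∈ (S : Subgroup S2) ⊓ torusA A := by rw [this]; exact hy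
      exact hy' hyK.2
    have h4 : Nat.card ((S : Subgroup S2) ⊓ torusA A : Subgroup S2) ∣ 4 := by
      have hle : Nat.card ((S : Subgroup S2) ⊓ torusA A : Subgroup S2) ≤ 8 :=
        Nat.le_of_dvd (by norm_num) hdvd
      have hpos : 0 < Nat.card ((S : Subgroup S2) ⊓ torusA A : Subgroup S2) := Nat.card_pos
      generalize Nat.card ((S : Subgroup S2) ⊓ torusA A : Subgroup S2) = m at *
      interval_cases m <;> omega
    have hcK : c ∈ (S : Subgroup S2) ⊓ torusA A := ⟨hcS, hcT⟩
    have ho : orderOf c ∣ Nat.card ((S : Subgroup S2) ⊓ torusA A : Subgroup S2) :=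
      Subgroup.orderOf_dvd_natCard _ hcK
    exact orderOf_dvd_iff_pow_eq_one.1 (ho.trans h4)
  have hsub := h.sylow_subset_of_pow_four S hS hxT hx2 hy hy' hall
  have hmemS : ∀ s : S2, s ∈ (S : Subgroup S2) →
      s = 1 ∨ s = -1 ∨ s = x ∨ s = -x ∨ s = y ∨ s = -y ∨ s = x * y ∨ s = -(x * y) := by
    intro s hs
    have := hsub hs
    simpa only [Set.mem_insert_iff, Set.mem_singleton_iff] using this
  obtain ⟨ω, hω1, hω2⟩ := exists_omega h.two_ne hx2 hysq hyx
  -- ω normalises S
  have hωN : ω ∈ Subgroup.normalizer ((S : Subgroup S2) : Set S2) := by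
    apply Subgroup.mem_normalizer_fintype
    have hxK : x ∈ (S : Subgroup S2).comap (MulAut.conj ω).toMonoidHom := by
      rw [Subgroup.mem_comap]
      show ω * x * ω⁻¹ ∈ (S : Subgroup S2)
      rw [hω1]; exact hy
    have hyK : y ∈ (S : Subgroup S2).comap (MulAut.conj ω).toMonoidHom := by
      rw [Subgroup.mem_comap]
      show ω * y * ω⁻¹ ∈ (S : Subgroup S2)
      rw [hω2]; exact (S : Subgroup S2).mul_mem hxS hy
    intro n hn
    have hnK : n ∈ (S : Subgroup S2).comap (MulAut.conj ω).toMonoidHom := by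
      rcases hmemS n hn with h' | h' | h' | h' | h' | h' | h' | h'
      · rw [h']; exact Subgroup.one_mem _
      · rw [h', ← hx2]; exact Subgroup.mul_mem _ hxK hxK
      · rw [h']; exact hxK
      · rw [h', ← hxinv]; exact Subgroup.inv_mem _ hxK
      · rw [h']; exact hyK
      · rw [h', ← hyinv]; exact Subgroup.inv_mem _ hyK
      · rw [h']; exact Subgroup.mul_mem _ hxK hyK
      · rw [h', ← hxyinv]; exact Subgroup.inv_mem _ (Subgroup.mul_mem _ hxK hyK)
    exact hnK
  refine ⟨x, y, ω, hxS, hy, hωN, hω1, hω2, ?_⟩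
  intro s hs
  have hxC : x ∈ Subgroup.closure ({x, y} : Set S2) := Subgroup.subset_closure (by simp)
  have hyC : y ∈ Subgroup.closure ({x, y} : Set S2) := Subgroup.subset_closure (by simp)
  rcases hmemS s hs with h' | h' | h' | h' | h' | h' | h' | h'
  · rw [h']; exact Subgroup.one_mem _
  · rw [h', ← hx2]; exact Subgroup.mul_mem _ hxC hxC
  · rw [h']; exact hxC
  · rw [h', ← hxinv]; exact Subgroup.inv_mem _ hxC
  · rw [h']; exact hyC
  · rw [h', ← hyinv]; exact Subgroup.inv_mem _ hyC
  · rw [h']; exact Subgroup.mul_mem _ hxC hyC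
  · rw [h', ← hxyinv]; exact Subgroup.inv_mem _ (Subgroup.mul_mem _ hxC hyC)

/-- McKay count at two of the normaliser of a Sylow 2-subgroup of order eight. -/
theorem mkCount_two_normalizer_eight [Finite F] {A : M2} {ε : F} (h : IsTorusGen A ε)
    (S : Sylow 2 S2) (hS : (S : Subgroup S2) ≤ normA A) (h8 : Nat.card (S : Subgroup S2) = 8)
    (hw : ∃ w : S2, (w : M2) * A = -(A * (w : M2))) :
    mkCount 2 (Subgroup.normalizer ((S : Subgroup S2) : Set S2)) = 4 := by
  have h24 := h.card_normalizer_sylow_two S hS h8 hw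
  obtain ⟨x, y, ω, hxS, hyS, hωN, hω1, hω2, hgen⟩ := h.sylow_eight_structure S hS h8 hw
  have hSN : (S : Subgroup S2) ≤ Subgroup.normalizer ((S : Subgroup S2) : Set S2) :=
    Subgroup.le_normalizer
  apply mkCount_two_of_card_24 h24
  have hle := subgroupOf_le_commutator_of_gen _ _ hSN hxS hyS hωN hω1 hω2 hgen
  have hidx : ((S : Subgroup S2).subgroupOf
      (Subgroup.normalizer ((S : Subgroup S2) : Set S2))).index = 3 := by
    have h1 := ((S : Subgroup S2).subgroupOf
      (Subgroup.normalizer ((S : Subgroup S2) : Set S2))).card_mul_index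
    have h2 : Nat.card ((S : Subgroup S2).subgroupOf
        (Subgroup.normalizer ((S : Subgroup S2) : Set S2))) = 8 := by
      rw [← h8]
      exact Nat.card_congr (Subgroup.subgroupOfEquivOfLe hSN).toEquiv
    rw [h2, h24] at h1
    omega
  have hdvd : (commutator (Subgroup.normalizer ((S : Subgroup S2) : Set S2))).index ∣ 3 := by
    rw [← hidx]
    exact Subgroup.index_dvd_of_le hle
  exact (Nat.dvd_prime Nat.prime_three).1 hdvd

end IsTorusGen

end Cfsg.Agent.Helper12
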