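import Mathlib
import Cfsg.Agent.Helper12.McKaySL2N
import Cfsg.Agent.Helper12.McKaySL2G
import Cfsg.Agent.Helper12.McKaySL2Eight
import Cfsg.Agent.Helper12.SL2SylowTwoB
import Cfsg.Agent.Helper12.SL2SylowTorus

set_option autoImplicit false

namespace Cfsg.Agent.Helper12

open Cfsg

variable {F : Type*} [Field F]

local notation "S2" => Matrix.SpecialLinearGroup (Fin 2) F
local notation "M2" => Matrix (Fin 2) (Fin 2) F

/-- A Sylow 2-subgroup of `SL₂(q)`, `q` odd, lies in the normaliser of a torus. -/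
theorem exists_isTorusGen_sylow_two [Fintype F] (hodd : Odd (Fintype.card F)) (S : Sylow 2 S2) :
    ∃ (A : M2) (ε : F), IsTorusGen A ε ∧
      (∃ w : S2, (w : M2) * A = -(A * (w : M2))) ∧ (S : Subgroup S2) ≤ normA A := by
  classical
  have h2 := two_ne_zero_of_odd_card hodd
  have hF : ringChar F ≠ 2 := by
    intro h
    apply h2
    have : CharP F 2 := ringChar.of_eq h
    exact CharTwo.two_eq_zero
  have hq : 1 < Fintype.card F := Fintype.one_lt_card
  have hcardG := Cfsg.Agent.S2301.card_sl2 (F := F)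
  have hmod4 : Fintype.card F % 4 = 1 ∨ Fintype.card F % 4 = 3 := by
    obtain ⟨m, hm⟩ := hodd
    omega
  rcases hmod4 with h4 | h4
  · have hgen := splitGen_isTorusGen h2 (F := F)
    have hw : ∃ w : Matrix.SpecialLinearGroup (Fin 2) F,
        (w : Matrix (Fin 2) (Fin 2) F) * splitGen =
          -(splitGen * (w : Matrix (Fin 2) (Fin 2) F)) := ⟨weylS, weylS_anticomm⟩
    have hcard := card_torusA_splitGen h2 (F := F)
    have hcardN := hgen.card_normA hw
    rw [hcard] at hcardN
    have hidx : ¬ 2 ∣ (normA (splitGen (F := F))).index := by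
      intro hdvd
      have h1 := (normA (splitGen (F := F))).index_mul_card
      rw [hcardG, hcardN] at h1
      obtain ⟨j, hj⟩ := hdvd
      obtain ⟨m, hm⟩ : ∃ m, Fintype.card F = 4 * m + 1 := ⟨Fintype.card F / 4, by omega⟩
      rw [hj, hm] at h1
      have e1 : 4 * m + 1 - 1 = 4 * m := by omega
      rw [e1] at h1
      have e2 : 2 * j * (2 * (4 * m)) = (4 * m) * (4 * j) := by ring
      have e3 : (4 * m + 1 + 1) * (4 * m * (4 * m + 1)) =
          (4 * m) * (16 * (m * m) + 12 * m + 2) := by ring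
      rw [e2, e3] at h1
      have hm0 : 0 < 4 * m := by omega
      have := Nat.eq_of_mul_eq_mul_left hm0 h1
      omega
    obtain ⟨g, hg⟩ := exists_le_normA_conjGen (splitGen (F := F)) 2
      (S : Subgroup (Matrix.SpecialLinearGroup (Fin 2) F)) S.isPGroup' hidx
    exact ⟨conjGen g splitGen, 1, conjGen_isTorusGen hgen g, exists_anticomm_conjGen g hw, hg⟩
  · obtain ⟨ε, hε⟩ := FiniteField.exists_nonsquare hF
    have hε0 := ne_zero_of_not_isSquare hε
    have hgen := nsGen_isTorusGen h2 hε0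
    have hw := exists_anticomm_nsGen h2 hε0
    have hcard := card_torusA_nsGen h2 hε
    have hcardN := hgen.card_normA hw
    rw [hcard] at hcardN
    have hidx : ¬ 2 ∣ (normA (nsGen ε)).index := by
      intro hdvd
      have h1 := (normA (nsGen ε)).index_mul_card
      rw [hcardG, hcardN] at h1
      obtain ⟨j, hj⟩ := hdvd
      obtain ⟨m, hm⟩ : ∃ m, Fintype.card F = 4 * m + 3 := ⟨Fintype.card F / 4, by omega⟩
      rw [hj, hm] at h1
      have e1 : 4 * m + 3 - 1 = 4 * m + 2 := by omega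
      rw [e1] at h1
      have e2 : 2 * j * (2 * (4 * m + 3 + 1)) = (4 * m + 3 + 1) * (4 * j) := by ring
      have e3 : (4 * m + 3 + 1) * ((4 * m + 2) * (4 * m + 3)) =
          (4 * m + 3 + 1) * (16 * (m * m) + 20 * m + 6) := by ring
      rw [e2, e3] at h1
      have hm0 : 0 < 4 * m + 3 + 1 := by omega
      have := Nat.eq_of_mul_eq_mul_left hm0 h1
      omega
    obtain ⟨g, hg⟩ := exists_le_normA_conjGen (nsGen ε) 2
      (S : Subgroup (Matrix.SpecialLinearGroup (Fin 2) F)) S.isPGroup' hidx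
    exact ⟨conjGen g (nsGen ε), ε, conjGen_isTorusGen hgen g, exists_anticomm_conjGen g hw, hg⟩

/-- The order of a Sylow 2-subgroup of `SL₂(q)`, `q` odd, is divisible by `8`. -/
theorem eight_dvd_card_sylow_two [Fintype F] (hodd : Odd (Fintype.card F)) (S : Sylow 2 S2) :
    8 ∣ Nat.card (S : Subgroup S2) := by
  classical
  have hcardG := Cfsg.Agent.S2301.card_sl2 (F := F)
  have h8G : 2 ^ 3 ∣ Nat.card (Matrix.SpecialLinearGroup (Fin 2) F) := by
    rw [hcardG]
    obtain ⟨m, hm⟩ := hodd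
    rw [hm]
    have e1 : 2 * m + 1 - 1 = 2 * m := by omega
    rw [e1]
    obtain ⟨j, hj⟩ := Nat.even_mul_succ_self m
    have e2 : (2 * m + 1 + 1) * (2 * m * (2 * m + 1)) = 4 * (m * (m + 1)) * (2 * m + 1) := by ring
    rw [e2, hj]
    exact ⟨j * (2 * m + 1), by ring⟩
  exact S.pow_dvd_card_of_pow_dvd_card h8G

/-- For `q ≡ ±1 mod 8`, `16` divides the order of a Sylow 2-subgroup. -/
theorem sixteen_dvd_card_sylow_two [Fintype F]
    (hmod : Fintype.card F % 8 = 1 ∨ Fintype.card F % 8 = 7) (S : Sylow 2 S2) :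
    16 ∣ Nat.card (S : Subgroup S2) := by
  classical
  have hcardG := Cfsg.Agent.S2301.card_sl2 (F := F)
  have h16G : 2 ^ 4 ∣ Nat.card (Matrix.SpecialLinearGroup (Fin 2) F) := by
    rw [hcardG]
    rcases hmod with hmod | hmod
    · obtain ⟨m, hm⟩ : ∃ m, Fintype.card F = 8 * m + 1 := ⟨Fintype.card F / 8, by omega⟩
      rw [hm]
      have e1 : 8 * m + 1 - 1 = 8 * m := by omega
      rw [e1]
      exact ⟨(4 * m + 1) * (m * (8 * m + 1)), by ring⟩
    · obtain ⟨m, hm⟩ : ∃ m, Fintype.card F = 8 * m + 7 := ⟨Fintype.card F / 8, by omega⟩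
      rw [hm]
      have e1 : 8 * m + 7 - 1 = 8 * m + 6 := by omega
      rw [e1]
      exact ⟨(m + 1) * ((4 * m + 3) * (8 * m + 7)), by ring⟩
  exact S.pow_dvd_card_of_pow_dvd_card h16G

/-- For `q ≡ ±3 mod 8`, a Sylow 2-subgroup has order `8`. -/
theorem card_sylow_two_eq_eight [Fintype F] (hodd : Odd (Fintype.card F))
    (hmod : Fintype.card F % 8 = 3 ∨ Fintype.card F % 8 = 5) (S : Sylow 2 S2) :
    Nat.card (S : Subgroup S2) = 8 := by
  classical
  have hcardG := Cfsg.Agent.S2301.card_sl2 (F := F)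
  have h8 := eight_dvd_card_sylow_two hodd S
  have h16G : ¬ 16 ∣ Nat.card (Matrix.SpecialLinearGroup (Fin 2) F) := by
    rw [hcardG]
    intro hdvd
    rcases hmod with hmod | hmod
    · obtain ⟨m, hm⟩ : ∃ m, Fintype.card F = 8 * m + 3 := ⟨Fintype.card F / 8, by omega⟩
      rw [hm] at hdvd
      have e1 : 8 * m + 3 - 1 = 8 * m + 2 := by omega
      rw [e1] at hdvd
      have e2 : (8 * m + 3 + 1) * ((8 * m + 2) * (8 * m + 3)) =
          8 * ((2 * m + 1) * ((4 * m + 1) * (8 * m + 3))) := by ring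
      rw [e2] at hdvd
      have h2dvd : 2 ∣ (2 * m + 1) * ((4 * m + 1) * (8 * m + 3)) := by
        obtain ⟨k, hk⟩ := hdvd
        exact ⟨k, by omega⟩
      rcases (Nat.Prime.dvd_mul Nat.prime_two).1 h2dvd with h' | h'
      · omega
      · rcases (Nat.Prime.dvd_mul Nat.prime_two).1 h' with h'' | h'' <;> omega
    · obtain ⟨m, hm⟩ : ∃ m, Fintype.card F = 8 * m + 5 := ⟨Fintype.card F / 8, by omega⟩
      rw [hm] at hdvd
      have e1 : 8 * m + 5 - 1 = 8 * m + 4 := by omega
      rw [e1] at hdvd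
      have e2 : (8 * m + 5 + 1) * ((8 * m + 4) * (8 * m + 5)) =
          8 * ((4 * m + 3) * ((2 * m + 1) * (8 * m + 5))) := by ring
      rw [e2] at hdvd
      have h2dvd : 2 ∣ (4 * m + 3) * ((2 * m + 1) * (8 * m + 5)) := by
        obtain ⟨k, hk⟩ := hdvd
        exact ⟨k, by omega⟩
      rcases (Nat.Prime.dvd_mul Nat.prime_two).1 h2dvd with h' | h'
      · omega
      · rcases (Nat.Prime.dvd_mul Nat.prime_two).1 h' with h'' | h'' <;> omega
  obtain ⟨k, hk⟩ := IsPGroup.exists_card_eq S.isPGroup'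
  have hdvdG : Nat.card (S : Subgroup (Matrix.SpecialLinearGroup (Fin 2) F)) ∣
      Nat.card (Matrix.SpecialLinearGroup (Fin 2) F) := Subgroup.card_subgroup_dvd_card _
  rw [hk] at h8 hdvdG ⊢
  have hk4 : k < 4 := by
    by_contra hge
    push Not at hge
    exact h16G ((pow_dvd_pow 2 hge).trans hdvdG)
  have hk3 : 3 ≤ k := by
    by_contra hlt
    push Not at hlt
    have : 2 ^ k ≤ 2 ^ 2 := Nat.pow_le_pow_right (by norm_num) (by omega)
    have h8le := Nat.le_of_dvd (by positivity) h8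
    omega
  have : k = 3 := by omega
  rw [this]
  norm_num

/-- McKay count at the prime two for the normaliser of a Sylow 2-subgroup of `SL₂(q)`. -/
theorem mkCount_two_normalizer_sylow [Fintype F] (hodd : Odd (Fintype.card F))
    (S : Sylow 2 S2) : mkCount 2 (Subgroup.normalizer ((S : Subgroup S2) : Set S2)) = 4 := by
  classical
  obtain ⟨A, ε, hgen, hw, hSle⟩ := exists_isTorusGen_sylow_two hodd S
  have h8 := eight_dvd_card_sylow_two hodd S
  have hmod : (Fintype.card F % 8 = 1 ∨ Fintype.card F % 8 = 7) ∨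
      (Fintype.card F % 8 = 3 ∨ Fintype.card F % 8 = 5) := by
    obtain ⟨m, hm⟩ := hodd
    omega
  rcases hmod with hmod | hmod
  · have h16 := sixteen_dvd_card_sylow_two hmod S
    have hN := hgen.normalizer_sylow_two S hSle h16 hw
    rw [mkCount_of_eq 2 hN]
    obtain ⟨y, hy, hy'⟩ := hgen.exists_mem_sylow_not_mem_torusA S hw
    obtain ⟨x, hxS, _, hx2⟩ := hgen.exists_mem_sylow_sq S hSle h8 hy hy'
    have hneg : (-1 : S2) ∈ (S : Subgroup S2) := by
      rw [← hx2]
      exact (S : Subgroup S2).mul_mem hxS hxS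
    exact hgen.mkCount_two_of_le_normA (S : Subgroup S2) hSle hneg hy hy'
  · have hS8 := card_sylow_two_eq_eight hodd hmod S
    exact hgen.mkCount_two_normalizer_eight S hSle hS8 hw

/-- McKay equality for `SL₂(q)`, `q` odd, at the prime two. -/
theorem mkCount_sl2_eq_normalizer_two [Fintype F] (hodd : Odd (Fintype.card F))
    (S : Sylow 2 S2) :
    mkCount 2 S2 = mkCount 2 (Subgroup.normalizer ((S : Subgroup S2) : Set S2)) := by
  classical
  have hq : 1 < Fintype.card F := Fintype.one_lt_card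
  by_cases h5 : 5 ≤ Fintype.card F
  · rw [mkCount_sl2_two hodd h5, mkCount_two_normalizer_sylow hodd S]
  · have h3 : Fintype.card F = 3 := by
      obtain ⟨m, hm⟩ := hodd
      omega
    obtain ⟨A, ε, hgen, hw, hSle⟩ := exists_isTorusGen_sylow_two hodd S
    have hS8 := card_sylow_two_eq_eight hodd (Or.inl (by rw [h3])) S
    have h24 := hgen.card_normalizer_sylow_two S hSle hS8 hw
    have hcardG := Cfsg.Agent.S2301.card_sl2 (F := F)
    rw [h3] at hcardG
    have htop : Subgroup.normalizer ((S : Subgroup S2) : Set S2) = ⊤ := by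
      apply Subgroup.eq_top_of_card_eq
      rw [h24, hcardG]
    rw [mkCount_of_eq_top 2 _ htop]

end Cfsg.Agent.Helper12
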