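import Mathlib
import Cfsg.Agent.Helper12.SL2SylowTwoB

set_option autoImplicit false

namespace Cfsg.Agent.Helper12

open scoped Pointwise

/-- A group has a redundant Sylow `p`-subgroup. -/
def HasRedundantSylow (p : ℕ) [Fact p.Prime] (G : Type*) [Group G] : Prop :=
  ∃ Q : Sylow p G, ∀ x : G, (∃ k : ℕ, orderOf x = p ^ k) → ∃ P : Sylow p G, P ≠ Q ∧ x ∈ P

/-- Elements of a Sylow `p`-subgroup have `p`-power order. -/
theorem exists_orderOf_eq_of_mem_sylow {p : ℕ} [Fact p.Prime] {G : Type*} [Group G]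
    (Q : Sylow p G) {x : G} (hx : x ∈ Q) : ∃ k : ℕ, orderOf x = p ^ k := by
  obtain ⟨k, hk⟩ := (IsPGroup.iff_orderOf.1 Q.isPGroup') ⟨x, hx⟩
  exact ⟨k, by rw [← hk, Subgroup.orderOf_mk]⟩

/-- If every Sylow `p`-subgroup has an element lying in no other one, none is redundant. -/
theorem not_hasRedundantSylow_of_forall {p : ℕ} [Fact p.Prime] {G : Type*} [Group G]
    (h : ∀ Q : Sylow p G, ∃ x : G, x ∈ Q ∧ ∀ P : Sylow p G, x ∈ P → P = Q) :
    ¬ HasRedundantSylow p G := by
  rintro ⟨Q, hQ⟩
  obtain ⟨x, hxQ, hx⟩ := h Q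
  obtain ⟨P, hPQ, hxP⟩ := hQ x (exists_orderOf_eq_of_mem_sylow Q hxQ)
  exact hPQ (hx P hxP)

/-- If `p` does not divide the order, there is no redundant Sylow `p`-subgroup. -/
theorem not_hasRedundantSylow_of_not_dvd {p : ℕ} [Fact p.Prime] {G : Type*} [Group G] [Finite G]
    (h : ¬ p ∣ Nat.card G) : ¬ HasRedundantSylow p G := by
  have hbot : ∀ P : Sylow p G, (P : Subgroup G) = ⊥ := by
    intro P
    apply Subgroup.eq_bot_of_card_eq
    rw [Sylow.card_eq_multiplicity, Nat.factorization_eq_zero_of_not_dvd h, pow_zero]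
  apply not_hasRedundantSylow_of_forall
  intro Q
  refine ⟨1, Subgroup.one_mem _, fun P _ => ?_⟩
  apply Sylow.ext
  rw [hbot P, hbot Q]

/-- A Sylow subgroup containing `x` equals a Sylow subgroup centralising `x`, when the centraliser
of `x` is commutative. -/
theorem sylow_eq_of_comm_centralizer {p : ℕ} [Fact p.Prime] {G : Type*} [Group G] [Finite G]
    (Q P : Sylow p G) (x : G) (hxP : x ∈ P) (hQ : ∀ y : G, y ∈ Q → y * x = x * y)
    (hC : ∀ a b : G, a * x = x * a → b * x = x * b → a * b = b * a) : P = Q := by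
  have hQab : ∀ a b : G, a ∈ Q → b ∈ Q → a * b = b * a := fun a b ha hb =>
    hC a b (hQ a ha) (hQ b hb)
  obtain ⟨g, hg⟩ := MulAction.exists_smul_eq G Q P
  have hPab : ∀ a b : G, a ∈ P → b ∈ P → a * b = b * a := by
    intro a b ha hb
    have ha' : g⁻¹ * a * g ∈ (Q : Subgroup G) := by
      have : a ∈ ((g • Q : Sylow p G) : Subgroup G) := by rw [hg]; exact ha
      rw [Sylow.coe_subgroup_smul, Subgroup.mem_pointwise_smul_iff_inv_smul_mem] at this
      simpa [MulAut.smul_def] using this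
    have hb' : g⁻¹ * b * g ∈ (Q : Subgroup G) := by
      have : b ∈ ((g • Q : Sylow p G) : Subgroup G) := by rw [hg]; exact hb
      rw [Sylow.coe_subgroup_smul, Subgroup.mem_pointwise_smul_iff_inv_smul_mem] at this
      simpa [MulAut.smul_def] using this
    have h1 := hQab _ _ ha' hb'
    have h2 : g * ((g⁻¹ * a * g) * (g⁻¹ * b * g)) * g⁻¹ = a * b := by group
    have h3 : g * ((g⁻¹ * b * g) * (g⁻¹ * a * g)) * g⁻¹ = b * a := by group
    rw [← h2, h1, h3]
  have hPQ : ∀ a b : G, a ∈ P → b ∈ Q → a * b = b * a := fun a b ha hb =>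
    hC a b (hPab a x ha hxP) (hQ b hb)
  have hnorm : (P : Subgroup G) ≤ Subgroup.normalizer ((Q : Subgroup G) : Set G) := by
    intro a ha
    rw [Subgroup.mem_normalizer_iff]
    intro b
    constructor
    · intro hb
      have : a * b * a⁻¹ = b := by rw [hPQ a b ha hb]; group
      rw [this]; exact hb
    · intro hb
      have h1 := hPQ a _ ha hb
      have h2 : a * b * a⁻¹ = b := by
        have : a * (a * b * a⁻¹) = a * b := by rw [h1]; group
        exact mul_left_cancel this
      rw [← h2]; exact hb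
  have hsup : IsPGroup p ((P : Subgroup G) ⊔ (Q : Subgroup G) : Subgroup G) :=
    IsPGroup.to_sup_of_normal_right' P.isPGroup' Q.isPGroup' hnorm
  have heq := Q.is_maximal' hsup le_sup_right
  have hle : (P : Subgroup G) ≤ Q := by rw [← heq]; exact le_sup_left
  apply Sylow.ext
  exact (P.is_maximal' Q.isPGroup' hle).symm

section Central

variable {p : ℕ} [Fact p.Prime] {G G' : Type*} [Group G] [Group G'] [Finite G]
  {f : G →* G'}

omit [Finite G] in
/-- A `p`-element of the preimage of the image of a Sylow subgroup under a map with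
central kernel lies in the Sylow subgroup. -/
theorem mem_sylow_of_map_mem (hker : f.ker ≤ Subgroup.center G) (P : Sylow p G) {x : G}
    (hx : f x ∈ (P : Subgroup G).map f) (k : ℕ) (hk : orderOf x = p ^ k) : x ∈ P := by
  have h1 : x ∈ ((P : Subgroup G).map f).comap f := hx
  rw [Subgroup.comap_map_eq] at h1
  have h2 : (P : Subgroup G) ⊔ f.ker ≤ Subgroup.normalizer ((P : Subgroup G) : Set G) := by
    apply sup_le Subgroup.le_normalizer
    exact hker.trans (Subgroup.center_le_normalizer _)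
  exact mem_sylow_of_pow_eq_one P (h2 h1) k (by rw [← hk]; exact pow_orderOf_eq_one x)

theorem mapSurjective_injective_of_central (hf : Function.Surjective f)
    (hker : f.ker ≤ Subgroup.center G) :
    Function.Injective (Sylow.mapSurjective hf : Sylow p G → Sylow p G') := by
  intro P P' h
  have h1 : (P : Subgroup G).map f = (P' : Subgroup G).map f := by
    rw [← Sylow.coe_mapSurjective hf, ← Sylow.coe_mapSurjective hf, h]
  have hle : (P' : Subgroup G) ≤ P := by
    intro a ha
    obtain ⟨k, hk⟩ := exists_orderOf_eq_of_mem_sylow P' ha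
    apply mem_sylow_of_map_mem hker P _ k hk
    rw [h1]
    exact Subgroup.mem_map_of_mem f ha
  apply Sylow.ext
  exact P'.is_maximal' P.isPGroup' hle

/-- Having a redundant Sylow subgroup passes through quotients by central subgroups. -/
theorem hasRedundantSylow_iff_of_central (hf : Function.Surjective f)
    (hker : f.ker ≤ Subgroup.center G) :
    HasRedundantSylow p G ↔ HasRedundantSylow p G' := by
  have hinj := mapSurjective_injective_of_central (p := p) hf hker
  have hsurj := Sylow.mapSurjective_surjective hf p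
  have : Finite G' := Finite.of_surjective f hf
  constructor
  · rintro ⟨Q, hQ⟩
    refine ⟨Q.mapSurjective hf, ?_⟩
    intro y hy
    obtain ⟨k, hk⟩ := hy
    have hpy : IsPGroup p (Subgroup.zpowers y) := by
      rw [IsPGroup.iff_card, Nat.card_zpowers, hk]
      exact ⟨k, rfl⟩
    obtain ⟨P₀, hP₀⟩ := hpy.exists_le_sylow
    obtain ⟨P, rfl⟩ := hsurj P₀
    have hyP : y ∈ (P : Subgroup G).map f := hP₀ (Subgroup.mem_zpowers y)
    obtain ⟨x, hxP, rfl⟩ := hyP
    obtain ⟨P', hP'Q, hxP'⟩ := hQ x (exists_orderOf_eq_of_mem_sylow P hxP)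
    refine ⟨P'.mapSurjective hf, fun h => hP'Q (hinj h), ?_⟩
    exact Subgroup.mem_map_of_mem f hxP'
  · rintro ⟨Q₀, hQ₀⟩
    obtain ⟨Q, rfl⟩ := hsurj Q₀
    refine ⟨Q, ?_⟩
    intro x hx
    obtain ⟨k, hk⟩ := hx
    have hdvd : orderOf (f x) ∣ p ^ k := by rw [← hk]; exact orderOf_map_dvd f x
    obtain ⟨j, _, hj⟩ := (Nat.dvd_prime_pow (Fact.out : p.Prime)).1 hdvd
    obtain ⟨P₀, hP₀Q, hxP₀⟩ := hQ₀ (f x) ⟨j, hj⟩
    obtain ⟨P, rfl⟩ := hsurj P₀
    refine ⟨P, fun h => hP₀Q (by rw [h]), ?_⟩
    exact mem_sylow_of_map_mem hker P hxP₀ k hk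

end Central

end Cfsg.Agent.Helper12
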