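import Mathlib
import Cfsg.Agent.Helper12.McKaySL2Two
import Cfsg.Agent.Helper12.RedundantGeneric

set_option autoImplicit false

namespace Cfsg.Agent.Helper12

open Cfsg

variable {F : Type*} [Field F]

local notation "S2" => Matrix.SpecialLinearGroup (Fin 2) F
local notation "M2" => Matrix (Fin 2) (Fin 2) F

/-- A Sylow 2-subgroup of `SL₂(q)`, `q` odd, lies in the normaliser of a cyclic torus of
order `q - 1` (`q ≡ 1 mod 4`) or `q + 1` (`q ≡ 3 mod 4`). -/
theorem exists_isTorusGen_sylow_two_card [Fintype F] (hodd : Odd (Fintype.card F))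
    (S : Sylow 2 S2) :
    ∃ (A : M2) (ε : F), IsTorusGen A ε ∧
      (∃ w : S2, (w : M2) * A = -(A * (w : M2))) ∧ (S : Subgroup S2) ≤ normA A ∧
      IsCyclic (torusA A) ∧
      ((Fintype.card F % 4 = 1 ∧ Nat.card (torusA A) = Fintype.card F - 1) ∨
        (Fintype.card F % 4 = 3 ∧ Nat.card (torusA A) = Fintype.card F + 1)) := by
  classical
  have h2 := two_ne_zero_of_odd_card hodd
  have hF : ringChar F ≠ 2 := by
    intro h
    apply h2
    have : CharP F 2 := ringChar.of_eq h
    exact CharTwo.two_eq_zero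
  have hq : 1 < Fintype.card F := Fintype.one_lt_card
  have hcardG := Cfsg.Agent.S2301.card_sl2 (F := F)
  have hmod4 : Fintype.card F % 4 = 1 ∨ Fintype.card F % 4 = 3 := by
    obtain ⟨m, hm⟩ := hodd
    omega
  rcases hmod4 with h4 | h4
  · have hgen := splitGen_isTorusGen h2 (F := F)
    have hw : ∃ w : Matrix.SpecialLinearGroup (Fin 2) F,
        (w : Matrix (Fin 2) (Fin 2) F) * splitGen =
          -(splitGen * (w : Matrix (Fin 2) (Fin 2) F)) := ⟨weylS, weylS_anticomm⟩
    have hcard := card_torusA_splitGen h2 (F := F)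
    have hcardN := hgen.card_normA hw
    rw [hcard] at hcardN
    have hidx : ¬ 2 ∣ (normA (splitGen (F := F))).index := by
      intro hdvd
      have h1 := (normA (splitGen (F := F))).index_mul_card
      rw [hcardG, hcardN] at h1
      obtain ⟨j, hj⟩ := hdvd
      obtain ⟨m, hm⟩ : ∃ m, Fintype.card F = 4 * m + 1 := ⟨Fintype.card F / 4, by omega⟩
      rw [hj, hm] at h1
      have e1 : 4 * m + 1 - 1 = 4 * m := by omega
      rw [e1] at h1
      have e2 : 2 * j * (2 * (4 * m)) = (4 * m) * (4 * j) := by ring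
      have e3 : (4 * m + 1 + 1) * (4 * m * (4 * m + 1)) =
          (4 * m) * (16 * (m * m) + 12 * m + 2) := by ring
      rw [e2, e3] at h1
      have hm0 : 0 < 4 * m := by omega
      have := Nat.eq_of_mul_eq_mul_left hm0 h1
      omega
    obtain ⟨g, hg⟩ := exists_le_normA_conjGen (splitGen (F := F)) 2
      (S : Subgroup (Matrix.SpecialLinearGroup (Fin 2) F)) S.isPGroup' hidx
    refine ⟨conjGen g splitGen, 1, conjGen_isTorusGen hgen g, exists_anticomm_conjGen g hw, hg,
      isCyclic_torusA_conjGen _ g (isCyclic_torusA_splitGen h2), Or.inl ⟨h4, ?_⟩⟩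
    rw [card_torusA_conjGen, hcard]
  · obtain ⟨ε, hε⟩ := FiniteField.exists_nonsquare hF
    have hε0 := ne_zero_of_not_isSquare hε
    have hgen := nsGen_isTorusGen h2 hε0
    have hw := exists_anticomm_nsGen h2 hε0
    have hcard := card_torusA_nsGen h2 hε
    have hcardN := hgen.card_normA hw
    rw [hcard] at hcardN
    have hidx : ¬ 2 ∣ (normA (nsGen ε)).index := by
      intro hdvd
      have h1 := (normA (nsGen ε)).index_mul_card
      rw [hcardG, hcardN] at h1
      obtain ⟨j, hj⟩ := hdvd
      obtain ⟨m, hm⟩ : ∃ m, Fintype.card F = 4 * m + 3 := ⟨Fintype.card F / 4, by omega⟩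
      rw [hj, hm] at h1
      have e1 : 4 * m + 3 - 1 = 4 * m + 2 := by omega
      rw [e1] at h1
      have e2 : 2 * j * (2 * (4 * m + 3 + 1)) = (4 * m + 3 + 1) * (4 * j) := by ring
      have e3 : (4 * m + 3 + 1) * ((4 * m + 2) * (4 * m + 3)) =
          (4 * m + 3 + 1) * (16 * (m * m) + 20 * m + 6) := by ring
      rw [e2, e3] at h1
      have hm0 : 0 < 4 * m + 3 + 1 := by omega
      have := Nat.eq_of_mul_eq_mul_left hm0 h1
      omega
    obtain ⟨g, hg⟩ := exists_le_normA_conjGen (nsGen ε) 2
      (S : Subgroup (Matrix.SpecialLinearGroup (Fin 2) F)) S.isPGroup' hidx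
    refine ⟨conjGen g (nsGen ε), ε, conjGen_isTorusGen hgen g, exists_anticomm_conjGen g hw, hg,
      isCyclic_torusA_conjGen _ g (isCyclic_torusA_nsGen hε), Or.inr ⟨h4, ?_⟩⟩
    rw [card_torusA_conjGen, hcard]

/-- When the torus attached to a Sylow 2-subgroup is a 2-group, a generator of the torus lies
in a unique Sylow 2-subgroup. -/
theorem exists_mem_unique_sylow_two [Finite F] {A : M2} {ε : F} (hgen : IsTorusGen A ε)
    (hw : ∃ w : S2, (w : M2) * A = -(A * (w : M2))) (Q : Sylow 2 S2)
    (hQ : (Q : Subgroup S2) ≤ normA A) (hcyc : IsCyclic (torusA A))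
    (k : ℕ) (hk : Nat.card (torusA A) = 2 ^ k) (h4 : 4 ≤ Nat.card (torusA A)) :
    ∃ x : S2, x ∈ Q ∧ ∀ P : Sylow 2 S2, x ∈ P → P = Q := by
  classical
  have hcardN := hgen.card_normA hw
  have hNp : IsPGroup 2 (normA A) := by
    apply IsPGroup.of_card (n := k + 1)
    rw [hcardN, hk, pow_succ]; ring
  have hQN : normA A = (Q : Subgroup S2) := Q.is_maximal' hNp hQ
  obtain ⟨g, hg⟩ := hcyc.exists_generator
  have hord : orderOf g = Nat.card (torusA A) := orderOf_eq_card_of_forall_mem_zpowers hg
  have hordx : orderOf (g : S2) = Nat.card (torusA A) := by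
    rw [← hord, Subgroup.orderOf_coe]
  have hx1 : ((g : S2) : M2) ≠ 1 := by
    intro h
    have : (g : S2) = 1 := Subtype.ext h
    rw [this, orderOf_one] at hordx
    omega
  have hx2 : ((g : S2) : M2) ≠ -1 := by
    intro h
    have h' : (g : S2) = -1 := by
      apply Subtype.ext
      rw [h, sl2_neg_one_coe]
    have h1 : (g : S2) ^ 2 = 1 := by rw [h', sq, sl2_neg_one_mul_self]
    have := orderOf_dvd_of_pow_eq_one h1
    rw [hordx] at this
    have := Nat.le_of_dvd (by norm_num) this
    omega
  have hNT := (hgen.centralizer_normalizer_of_le (torusA A) le_rfl g.2 hx1 hx2).2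
  refine ⟨(g : S2), ?_, ?_⟩
  · show (g : S2) ∈ (Q : Subgroup S2)
    rw [← hQN]
    exact torusA_le_normA A g.2
  · intro P hxP
    have hTP : torusA A ≤ (P : Subgroup S2) := by
      intro y hy
      obtain ⟨m, hm⟩ := Subgroup.mem_zpowers_iff.1 (hg ⟨y, hy⟩)
      have : (g : S2) ^ m = y := by
        have := congrArg (fun z : torusA A => (z : S2)) hm
        simpa using this
      rw [← this]
      exact (P : Subgroup S2).zpow_mem hxP m
    have hcardP : Nat.card (P : Subgroup S2) = 2 * Nat.card (torusA A) := by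
      rw [Sylow.card_eq_multiplicity, ← Sylow.card_eq_multiplicity Q, ← hQN, hcardN]
    have hidx : ((torusA A).subgroupOf (P : Subgroup S2)).index = 2 := by
      have h1 := Subgroup.card_mul_index ((torusA A).subgroupOf (P : Subgroup S2))
      have h2 : Nat.card ((torusA A).subgroupOf (P : Subgroup S2)) = Nat.card (torusA A) :=
        Nat.card_congr (Subgroup.subgroupOfEquivOfLe hTP).toEquiv
      rw [h2, hcardP] at h1
      have hpos : 0 < Nat.card (torusA A) := by omega
      have h3 : Nat.card (torusA A) * ((torusA A).subgroupOf (P : Subgroup S2)).index =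
          Nat.card (torusA A) * 2 := by rw [h1]; ring
      exact Nat.eq_of_mul_eq_mul_left hpos h3
    have hnormal : ((torusA A).subgroupOf (P : Subgroup S2)).Normal :=
      Subgroup.normal_of_index_eq_two hidx
    have hPN : (P : Subgroup S2) ≤ Subgroup.normalizer ((torusA A : Subgroup S2) : Set S2) :=
      (Subgroup.normal_subgroupOf_iff_le_normalizer hTP).1 hnormal
    rw [hNT, hQN] at hPN
    apply Sylow.ext
    exact (P.is_maximal' Q.isPGroup' hPN).symm

end Cfsg.Agent.Helper12
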