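import Mathlib
import Cfsg.Agent.Helper12.RedundantSL2A

set_option autoImplicit false

namespace Cfsg.Agent.Helper12

open Cfsg
open scoped Pointwise

variable {F : Type*} [Field F]

local notation "S2" => Matrix.SpecialLinearGroup (Fin 2) F
local notation "M2" => Matrix (Fin 2) (Fin 2) F

/-- A scalar element of `SL₂` squares to one. -/
theorem sl2_sq_eq_one_of_isScalar2 (x : S2) (hx : IsScalar2 (x : M2)) : x ^ 2 = 1 := by
  obtain ⟨a, ha⟩ := (isScalar2_iff _).1 hx
  have hdet := x.2
  rw [ha, Matrix.det_fin_two] at hdet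
  simp at hdet
  apply Subtype.ext
  rw [sq, Matrix.SpecialLinearGroup.coe_mul, ha, Matrix.SpecialLinearGroup.coe_one]
  simp only [Matrix.smul_mul, Matrix.mul_smul, Matrix.mul_one, smul_smul, hdet, one_smul]

/-- In characteristic two, a scalar element of `SL₂` is trivial. -/
theorem sl2_eq_one_of_isScalar2_char_two (h2 : (2 : F) = 0) (x : S2)
    (hx : IsScalar2 (x : M2)) : x = 1 := by
  obtain ⟨a, ha⟩ := (isScalar2_iff _).1 hx
  have hdet := x.2
  rw [ha, Matrix.det_fin_two] at hdet
  simp at hdet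
  have h1 : (a - 1) * (a - 1) = 0 := by linear_combination hdet + (1 - a) * h2
  have h3 : a = 1 := by
    have := mul_self_eq_zero.1 h1
    linear_combination this
  apply Subtype.ext
  rw [ha, h3, one_smul, Matrix.SpecialLinearGroup.coe_one]

/-- The centraliser of a non-scalar element of `SL₂` is commutative. -/
theorem sl2_comm_of_comm_nonscalar (x : S2) (hx : ¬ IsScalar2 (x : M2)) (a b : S2)
    (ha : a * x = x * a) (hb : b * x = x * b) : a * b = b * a := by
  have ha' : (x : M2) * (a : M2) = (a : M2) * (x : M2) := by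
    rw [← Matrix.SpecialLinearGroup.coe_mul, ← Matrix.SpecialLinearGroup.coe_mul, ha]
  have hb' : (x : M2) * (b : M2) = (b : M2) * (x : M2) := by
    rw [← Matrix.SpecialLinearGroup.coe_mul, ← Matrix.SpecialLinearGroup.coe_mul, hb]
  obtain ⟨α, β, hab⟩ := exists_eq_add_smul_of_comm (x : M2) (a : M2) hx ha'
  apply Subtype.ext
  rw [Matrix.SpecialLinearGroup.coe_mul, Matrix.SpecialLinearGroup.coe_mul, hab]
  simp only [Matrix.mul_add, Matrix.add_mul, Matrix.mul_smul, Matrix.smul_mul, Matrix.mul_one,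
    Matrix.one_mul, hb']

/-- If nontrivial `p`-elements are non-scalar, then every Sylow `p`-subgroup has an element lying
in no other Sylow `p`-subgroup. -/
theorem exists_mem_unique_sylow_of_nonscalar [Finite F] (p : ℕ) [Fact p.Prime]
    (hdvd : p ∣ Nat.card S2)
    (hns : ∀ x : S2, x ≠ 1 → (∃ k : ℕ, orderOf x = p ^ k) → ¬ IsScalar2 (x : M2))
    (Q : Sylow p S2) : ∃ x : S2, x ∈ Q ∧ ∀ P : Sylow p S2, x ∈ P → P = Q := by
  classical
  have hcard : Nat.card (Q : Subgroup S2) ≠ 1 := by
    rw [Sylow.card_eq_multiplicity]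
    have hpos : 0 < (Nat.card S2).factorization p :=
      (Fact.out : p.Prime).factorization_pos_of_dvd Nat.card_pos.ne' hdvd
    have h1 : 1 < p := (Fact.out : p.Prime).one_lt
    exact (Nat.one_lt_pow hpos.ne' h1).ne'
  have hnt : Nontrivial (Q : Subgroup S2) := by
    rw [← Finite.one_lt_card_iff_nontrivial]
    have : 0 < Nat.card (Q : Subgroup S2) := Nat.card_pos
    omega
  have hcen := Q.isPGroup'.center_nontrivial
  obtain ⟨z, hz⟩ := exists_ne (1 : Subgroup.center (Q : Subgroup S2))
  have hz1 : ((z : (Q : Subgroup S2)) : S2) ≠ 1 := by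
    intro h
    apply hz
    apply Subtype.ext
    apply Subtype.ext
    exact h
  have hzQ : ((z : (Q : Subgroup S2)) : S2) ∈ Q := (z : (Q : Subgroup S2)).2
  have hzc : ∀ y : S2, y ∈ Q → y * ((z : (Q : Subgroup S2)) : S2) =
      ((z : (Q : Subgroup S2)) : S2) * y := by
    intro y hy
    have := (Subgroup.mem_center_iff.1 z.2) ⟨y, hy⟩
    exact congrArg (fun w : (Q : Subgroup S2) => (w : S2)) this
  have hnsz := hns _ hz1 (exists_orderOf_eq_of_mem_sylow Q hzQ)
  refine ⟨_, hzQ, fun P hP => ?_⟩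
  exact sylow_eq_of_comm_centralizer Q P _ hP hzc
    (fun a b ha hb => sl2_comm_of_comm_nonscalar _ hnsz a b ha hb)

/-- For odd `p` there is no redundant Sylow `p`-subgroup in `SL₂(q)`. -/
theorem not_hasRedundantSylow_sl2_odd [Finite F] (p : ℕ) [Fact p.Prime] (hp2 : p ≠ 2) :
    ¬ HasRedundantSylow p S2 := by
  by_cases hdvd : p ∣ Nat.card S2
  · apply not_hasRedundantSylow_of_forall
    apply exists_mem_unique_sylow_of_nonscalar p hdvd
    intro x hx1 hxk hsc
    obtain ⟨k, hk⟩ := hxk
    have h1 := sl2_sq_eq_one_of_isScalar2 x hsc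
    have h2 := orderOf_dvd_of_pow_eq_one h1
    rw [hk] at h2
    have hk0 : k = 0 := by
      by_contra hne
      have : p ∣ 2 := (dvd_pow_self p hne).trans h2
      exact hp2 ((Nat.prime_dvd_prime_iff_eq Fact.out Nat.prime_two).1 this)
    rw [hk0, pow_zero, orderOf_eq_one_iff] at hk
    exact hx1 hk
  · exact not_hasRedundantSylow_of_not_dvd hdvd

/-- In characteristic two there is no redundant Sylow 2-subgroup in `SL₂(q)`. -/
theorem not_hasRedundantSylow_sl2_char_two [Fintype F] (h2 : (2 : F) = 0) :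
    ¬ HasRedundantSylow 2 S2 := by
  classical
  have hdvd : 2 ∣ Nat.card S2 := by
    rw [Cfsg.Agent.S2301.card_sl2]
    have : 2 ∣ (Fintype.card F - 1) * Fintype.card F := by
      have h1 : 1 ≤ Fintype.card F := Fintype.card_pos
      obtain ⟨m, hm⟩ : ∃ m, Fintype.card F = m + 1 := ⟨Fintype.card F - 1, by omega⟩
      rw [hm, Nat.add_sub_cancel]
      exact (Nat.even_mul_succ_self m).two_dvd
    exact Dvd.dvd.mul_left this _
  apply not_hasRedundantSylow_of_forall
  apply exists_mem_unique_sylow_of_nonscalar 2 hdvd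
  intro x hx1 _ hsc
  exact hx1 (sl2_eq_one_of_isScalar2_char_two h2 x hsc)

end Cfsg.Agent.Helper12
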