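import Mathlib
import Cfsg.Agent.Helper5.BlockSupport
import Cfsg.Agent.Helper5.DefectOrder
import Cfsg.Agent.Helper5.DefectGroups2
import Cfsg.Agent.Helper5.Central
import Cfsg.Agent.Helper24.Regular
import Cfsg.Agent.Helper24.RealChar
import Cfsg.Agent.S0931
import Cfsg.Agent.S0914

set_option autoImplicit false

/-! Generic block-theoretic lemmas used for the `p`-blocks of `SL₂(q)`. -/

namespace Cfsg.Agent.Helper12

open Cfsg Cfsg.Agent.Helper24 Cfsg.Agent.Helper5 Cfsg.Agent.Helper5.Loc Cfsg.Agent.Helper5.CC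
  Cfsg.Agent.Helper14

/-- An irreducible character takes the value `±χ(1)` at a central involution. -/
theorem irr_central_involution {G : Type*} [Group G] (χ : IrrCharacter G) {z : G}
    (hz : z ∈ Subgroup.center G) (hz2 : z * z = 1) :
    (χ : G → ℂ) z = (χ : G → ℂ) 1 ∨ (χ : G → ℂ) z = -(χ : G → ℂ) 1 := by
  obtain ⟨n, ρ, hirr, hχ⟩ := χ.2
  have hT : ∀ g : G, ρ z ∘ₗ ρ g = ρ g ∘ₗ ρ z := by
    intro g
    rw [← Module.End.mul_eq_comp, ← Module.End.mul_eq_comp, ← map_mul, ← map_mul]
    congr 1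
    exact ((Subgroup.mem_center_iff.1 hz) g).symm
  obtain ⟨c, hc⟩ := schur_scalar ρ (ρ z) hT
  have hpos := Cfsg.Agent.Helper5.finrank_pos_of_isIrreducible ρ
  have hsq : c * c = 1 := by
    have h1 : ρ z * ρ z = 1 := by rw [← map_mul, hz2, map_one]
    rw [hc] at h1
    have h2 : (c • (LinearMap.id : (Fin n → ℂ) →ₗ[ℂ] (Fin n → ℂ))) *
        (c • (LinearMap.id : (Fin n → ℂ) →ₗ[ℂ] (Fin n → ℂ))) =
        (c * c) • (LinearMap.id : (Fin n → ℂ) →ₗ[ℂ] (Fin n → ℂ)) := by
      ext v i
      simp [mul_assoc]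
    rw [h2] at h1
    have h3 := congrArg (LinearMap.trace ℂ (Fin n → ℂ)) h1
    rw [map_smul, LinearMap.trace_id, LinearMap.trace_one, smul_eq_mul] at h3
    have hne : (Module.finrank ℂ (Fin n → ℂ) : ℂ) ≠ 0 := by exact_mod_cast hpos.ne'
    exact mul_right_cancel₀ hne (h3.trans (one_mul _).symm)
  have hval : (χ : G → ℂ) z = c * (χ : G → ℂ) 1 := by
    rw [← hχ]
    show LinearMap.trace ℂ _ (ρ z) = c * LinearMap.trace ℂ _ (ρ 1)
    rw [hc, map_one, map_smul, LinearMap.trace_id, LinearMap.trace_one, smul_eq_mul]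
  have hc' : (c - 1) * (c + 1) = 0 := by linear_combination hsq
  rcases mul_eq_zero.1 hc' with h | h
  · left
    rw [hval, sub_eq_zero.1 h, one_mul]
  · right
    rw [hval, eq_neg_of_add_eq_zero_left h, neg_one_mul]

/-- The central character at a central element. -/
theorem centralChar_of_mem_center {G : Type*} [Group G] (χ : G → ℂ) {z : G}
    (hz : z ∈ Subgroup.center G) : centralChar χ z = χ z / χ 1 := by
  unfold centralChar
  have : Subgroup.centralizer ({z} : Set G) = ⊤ := by
    rw [eq_top_iff]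
    intro g _
    rw [Subgroup.mem_centralizer_iff]
    intro h hh
    rw [Set.mem_singleton_iff] at hh
    subst hh
    exact (Subgroup.mem_center_iff.1 hz g).symm
  rw [this, Subgroup.index_top, Nat.cast_one, one_mul]

/-- If `p` divides the class size of `g` but not the degree of `χ`, the central character of `χ`
at `g` lies in the local ideal. -/
theorem centralChar_li_of_dvd_index {G : Type*} [Group G] [Finite G] {M : Ideal AlgInt} {p : ℕ}
    [Fact p.Prime] (hM : IsPModular p M) (χ : IrrCharacter G) (g : G)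
    (hdeg : ¬ p ∣ irrDeg χ) (hidx : p ∣ (Subgroup.centralizer ({g} : Set G)).index) :
    MemLocalIdeal M (centralChar (χ : G → ℂ) g) := by
  have hMp := isPrime_of_isPModular hM
  unfold centralChar
  rw [irrDeg_spec χ]
  obtain ⟨k, hk⟩ := hidx
  rw [hk]
  have hp : MemLocalIdeal M (p : ℂ) := (memLocalIdeal_natCast_iff hM p).2 dvd_rfl
  have e : ((p * k : ℕ) : ℂ) * (χ : G → ℂ) g / (irrDeg χ : ℂ) =
      (p : ℂ) * (((k : ℂ) * (χ : G → ℂ) g) * (irrDeg χ : ℂ)⁻¹) := by
    push_cast
    rw [div_eq_mul_inv]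
    ring
  rw [e]
  apply li_mul_right hMp hp
  exact lr_mul hMp (lr_mul hMp (memLocalRing_natCast hMp k)
    (memLocalRing_of_isIntegral hMp (irr_isIntegral χ g))) (memLocalRing_inv_natCast hM hdeg)

/-- A block containing a character of degree prime to `p` has the Sylow `p`-subgroups as defect
groups. -/
theorem isDefectGroup_sylow_of_not_dvd {G : Type*} [Group G] [Finite G] {M : Ideal AlgInt}
    {p : ℕ} [Fact p.Prime] (hM : IsPModular p M) {B : Set (IrrCharacter G)} (hB : IsPBlock M B)
    {χ : IrrCharacter G} (hχ : χ ∈ B) (hdeg : ¬ p ∣ irrDeg χ) (P : Sylow p G) :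
    IsDefectGroup p M B (P : Subgroup G) := by
  classical
  have hp : p.Prime := Fact.out
  have : Fintype G := Fintype.ofFinite G
  have : Fintype (IrrCharacter G) := Fintype.ofFinite _
  obtain ⟨D, hD⟩ := Cfsg.Agent.S0931.exists_defectGroup p M hM B hB
  have hcard := card_defectGroup hM hB hD
  have hdef : blockDefect p B = (Nat.card G).factorization p := by
    unfold blockDefect
    have h0 : sInf ((fun χ : IrrCharacter G => (charDegree (χ : G → ℂ)).factorization p) '' B)
        = 0 := by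
      apply Nat.eq_zero_of_le_zero
      apply Nat.sInf_le
      refine ⟨χ, hχ, ?_⟩
      show (charDegree (χ : G → ℂ)).factorization p = 0
      rw [Cfsg.Agent.Helper5.CC.charDegree_eq_irrDeg]
      exact Nat.factorization_eq_zero_of_not_dvd hdeg
    rw [h0, Nat.sub_zero]
  rw [hdef] at hcard
  let D' : Sylow p G := Sylow.ofCard D hcard
  obtain ⟨g, hg⟩ := MulAction.exists_smul_eq G D' P
  have h1 := isDefectGroup_map_cj hD g
  have h2 : D.map (cj g) = (P : Subgroup G) := by
    rw [← hg]
    rfl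
  rwa [h2] at h1

end Cfsg.Agent.Helper12
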