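import Mathlib
import Cfsg.Agent.Helper12.SL2TableOdd
import Cfsg.Agent.Helper12.ConjCount
import Cfsg.Agent.Helper12.SL2SplitTorus

set_option autoImplicit false

namespace Cfsg.Agent.Helper12

open Cfsg

variable {F : Type*} [Field F]

local notation "S2" => Matrix.SpecialLinearGroup (Fin 2) F
local notation "M2" => Matrix (Fin 2) (Fin 2) F

/-- Conjugation inside the Borel subgroup of `SL₂`. -/
theorem borelMk_conj (a u : Fˣ) (s r : F) :
    borelMk a s * borelMk u r * (borelMk a s)⁻¹ =
      borelMk u ((a : F) ^ 2 * r + (a : F) * s * (((u⁻¹ : Fˣ) : F) - (u : F))) := by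
  apply Subtype.ext
  apply Subtype.ext
  show (((borelMk a s : S2) * (borelMk u r : S2) * (borelMk a s : S2)⁻¹ : S2) : M2) = _
  rw [Matrix.SpecialLinearGroup.coe_mul, Matrix.SpecialLinearGroup.coe_mul,
    Matrix.SpecialLinearGroup.coe_inv, borelMk_coe, borelMk_coe, borelMk_coe,
    Matrix.adjugate_fin_two_of]
  ext i j
  fin_cases i <;> fin_cases j
  · simp [Matrix.mul_apply, Fin.sum_univ_two]
    field_simp
  · simp [Matrix.mul_apply, Fin.sum_univ_two]
    field_simp
    ring
  · simp [Matrix.mul_apply, Fin.sum_univ_two]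
  · simp [Matrix.mul_apply, Fin.sum_univ_two]
    field_simp

/-- The target of the complete invariant for the Borel subgroup. -/
abbrev BorelInv (F : Type*) [Field F] := (Bool × Option Bool) ⊕ {u : Fˣ // u ≠ 1 ∧ u ≠ -1}

/-- The truth value of a proposition. -/
noncomputable def boolOf (p : Prop) : Bool := @decide p (Classical.propDecidable p)

theorem boolOf_eq_iff {p q : Prop} : boolOf p = boolOf q ↔ (p ↔ q) := by
  unfold boolOf
  exact decide_eq_decide

theorem boolOf_of {p : Prop} (h : p) : boolOf p = true := by
  unfold boolOf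
  exact @decide_eq_true p (Classical.propDecidable p) h

theorem boolOf_of_not {p : Prop} (h : ¬ p) : boolOf p = false := by
  unfold boolOf
  exact @decide_eq_false p (Classical.propDecidable p) h

/-- The square class of a field element: `none` for zero. -/
noncomputable def sqClass (r : F) : Option Bool :=
  @ite _ (r = 0) (Classical.propDecidable _) none (some (boolOf (IsSquare r)))

theorem sqClass_zero : sqClass (0 : F) = none := by
  unfold sqClass
  rw [if_pos rfl]

theorem sqClass_of_ne {r : F} (hr : r ≠ 0) : sqClass r = some (boolOf (IsSquare r)) := by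
  unfold sqClass
  rw [if_neg hr]

/-- The complete conjugacy invariant of the Borel subgroup of `SL₂(q)`, `q` odd, on
coordinates. -/
noncomputable def borelInv (p : Fˣ × F) : BorelInv F :=
  @dite _ (p.1 = 1 ∨ p.1 = -1) (Classical.propDecidable _)
    (fun _ => Sum.inl (boolOf (p.1 = 1), sqClass p.2))
    (fun h => Sum.inr ⟨p.1, not_or.1 h⟩)

theorem borelInv_central (u : Fˣ) (r : F) (h : u = 1 ∨ u = -1) :
    borelInv (u, r) = Sum.inl (boolOf (u = 1), sqClass r) := by
  unfold borelInv
  rw [dif_pos h]

theorem borelInv_regular (u : Fˣ) (r : F) (h : ¬ (u = 1 ∨ u = -1)) :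
    borelInv (u, r) = Sum.inr ⟨u, not_or.1 h⟩ := by
  unfold borelInv
  rw [dif_neg h]

theorem units_one_ne_neg_one (h2 : (2 : F) ≠ 0) : (1 : Fˣ) ≠ -1 := by
  intro h
  have := congrArg (fun u : Fˣ => (u : F)) h
  simp only [Units.val_one, Units.val_neg] at this
  apply h2
  linear_combination this

theorem units_inv_sub_ne_zero {u : Fˣ} (h : ¬ (u = 1 ∨ u = -1)) :
    ((u⁻¹ : Fˣ) : F) - (u : F) ≠ 0 := by
  intro h0
  apply h
  have hu : (u : F) ≠ 0 := u.ne_zero
  have h1 : ((u : F) - 1) * ((u : F) + 1) = 0 := by
    have : ((u⁻¹ : Fˣ) : F) * (u : F) = 1 := by rw [← Units.val_mul, inv_mul_cancel, Units.val_one]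
    have h3 : ((u⁻¹ : Fˣ) : F) = (u : F) := by linear_combination h0
    rw [h3] at this
    linear_combination this
  rcases mul_eq_zero.1 h1 with h' | h'
  · left; apply Units.ext; rw [Units.val_one]; linear_combination h'
  · right; apply Units.ext; rw [Units.val_neg, Units.val_one]; linear_combination h'

/-- The invariant is complete. -/
theorem borelInv_eq_iff [Fintype F] [DecidableEq F] (h2 : (2 : F) ≠ 0) (u u' : Fˣ) (r r' : F) :
    borelInv (u, r) = borelInv (u', r') ↔
      u = u' ∧ ∃ (a : Fˣ) (s : F),
        r' = (a : F) ^ 2 * r + (a : F) * s * (((u⁻¹ : Fˣ) : F) - (u : F)) := by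
  have hne := units_one_ne_neg_one h2
  constructor
  · intro h
    by_cases hu : u = 1 ∨ u = -1
    · by_cases hu' : u' = 1 ∨ u' = -1
      · rw [borelInv_central u r hu, borelInv_central u' r' hu'] at h
        have h1 := Sum.inl.inj h
        have h3 := (Prod.ext_iff.1 h1).1
        have h4 := (Prod.ext_iff.1 h1).2
        rw [boolOf_eq_iff] at h3
        have huu : u = u' := by
          rcases hu with rfl | rfl
          · exact (h3.1 rfl).symm
          · rcases hu' with rfl | rfl
            · exact absurd (h3.2 rfl) (Ne.symm hne)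
            · rfl
        refine ⟨huu, ?_⟩
        have hz : ((u⁻¹ : Fˣ) : F) - (u : F) = 0 := by
          rcases hu with rfl | rfl
          · simp
          · simp
        simp only [hz, mul_zero, add_zero]
        by_cases hr : r = 0
        · rw [hr, sqClass_zero] at h4
          by_cases hr' : r' = 0
          · exact ⟨1, 0, by rw [hr, hr']; ring⟩
          · rw [sqClass_of_ne hr'] at h4
            exact absurd h4 (by simp)
        · rw [sqClass_of_ne hr] at h4
          by_cases hr' : r' = 0
          · rw [hr', sqClass_zero] at h4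
            exact absurd h4 (by simp)
          · rw [sqClass_of_ne hr'] at h4
            have h5 := Option.some.inj h4
            rw [boolOf_eq_iff] at h5
            by_cases hs : IsSquare r
            · obtain ⟨x, hx⟩ := hs
              obtain ⟨y, hy⟩ := h5.1 ⟨x, hx⟩
              have hx0 : x ≠ 0 := by
                rintro rfl
                apply hr; rw [hx]; ring
              have hy0 : y ≠ 0 := by
                rintro rfl
                apply hr'; rw [hy]; ring
              refine ⟨Units.mk0 (y / x) (div_ne_zero hy0 hx0), 0, ?_⟩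
              rw [Units.val_mk0, hx, hy]
              field_simp
            · have hs' : ¬ IsSquare r' := fun h' => hs (h5.2 h')
              obtain ⟨t, ht0, ht⟩ := exists_sq_mul_of_not_isSquare hs hs'
              refine ⟨Units.mk0 t ht0, 0, ?_⟩
              rw [Units.val_mk0, ht]; ring
      · rw [borelInv_central u r hu, borelInv_regular u' r' hu'] at h
        exact absurd h (by simp)
    · by_cases hu' : u' = 1 ∨ u' = -1
      · rw [borelInv_regular u r hu, borelInv_central u' r' hu'] at h
        exact absurd h (by simp)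
      · rw [borelInv_regular u r hu, borelInv_regular u' r' hu'] at h
        have h1 := Sum.inr.inj h
        have huu : u = u' := congrArg Subtype.val h1
        refine ⟨huu, 1, (r' - r) / (((u⁻¹ : Fˣ) : F) - (u : F)), ?_⟩
        have hne0 := units_inv_sub_ne_zero hu
        rw [Units.val_one]
        field_simp
        ring
  · rintro ⟨rfl, a, s, hrs⟩
    by_cases hu : u = 1 ∨ u = -1
    · rw [borelInv_central u r hu, borelInv_central u r' hu]
      have hz : ((u⁻¹ : Fˣ) : F) - (u : F) = 0 := by
        rcases hu with rfl | rfl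
        · simp
        · simp
      simp only [hz, mul_zero, add_zero] at hrs
      have ha0 : (a : F) ≠ 0 := a.ne_zero
      congr 2
      by_cases hr : r = 0
      · have hr' : r' = 0 := by rw [hrs, hr, mul_zero]
        rw [hr, hr']
      · have hr' : r' ≠ 0 := by
          rw [hrs]
          exact mul_ne_zero (pow_ne_zero 2 ha0) hr
        rw [sqClass_of_ne hr, sqClass_of_ne hr']
        congr 1
        rw [boolOf_eq_iff]
        constructor
        · rintro ⟨x, hx⟩
          exact ⟨(a : F) * x, by rw [hrs, hx]; ring⟩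
        · rintro ⟨y, hy⟩
          refine ⟨y / (a : F), ?_⟩
          have : r = r' / (a : F) ^ 2 := by
            rw [hrs]; field_simp
          rw [this, hy]
          field_simp
    · rw [borelInv_regular u r hu, borelInv_regular u r' hu]

/-- The invariant takes all values. -/
theorem borelInv_surjective [Fintype F] (h2 : (2 : F) ≠ 0) {ε : F} (hε : ¬ IsSquare ε) :
    Function.Surjective (borelInv (F := F)) := by
  have hne := units_one_ne_neg_one h2
  have hε0 : ε ≠ 0 := by
    rintro rfl
    exact hε ⟨0, by simp⟩
  have h1 : IsSquare (1 : F) := ⟨1, by simp⟩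
  rintro (⟨b, o⟩ | ⟨u, hu⟩)
  · have key : ∃ r : F, sqClass r = o := by
      rcases o with _ | b'
      · exact ⟨0, sqClass_zero⟩
      · cases b'
        · exact ⟨ε, by rw [sqClass_of_ne hε0, boolOf_of_not hε]⟩
        · exact ⟨1, by rw [sqClass_of_ne one_ne_zero, boolOf_of h1]⟩
    obtain ⟨r, hr⟩ := key
    cases b
    · refine ⟨(-1, r), ?_⟩
      rw [borelInv_central _ _ (Or.inr rfl), hr, boolOf_of_not (fun h => hne h.symm)]
    · refine ⟨(1, r), ?_⟩
      rw [borelInv_central _ _ (Or.inl rfl), hr, boolOf_of rfl]
  · refine ⟨(u, 0), ?_⟩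
    rw [borelInv_regular u 0 (not_or.2 hu)]

theorem card_borelInv [Fintype F] [DecidableEq F] (h2 : (2 : F) ≠ 0) (h3 : 3 ≤ Fintype.card F) :
    Nat.card (BorelInv F) = Fintype.card F + 3 := by
  classical
  have hne := units_one_ne_neg_one h2
  have e1 : Fintype.card {u : Fˣ // u ≠ 1 ∧ u ≠ -1} = Fintype.card F - 3 := by
    rw [Fintype.card_subtype]
    have : (Finset.univ.filter (fun u : Fˣ => u ≠ 1 ∧ u ≠ -1)) =
        (Finset.univ.erase (1 : Fˣ)).erase (-1) := by
      ext u
      simp only [Finset.mem_filter, Finset.mem_univ, true_and, Finset.mem_erase, and_true]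
      tauto
    rw [this, Finset.card_erase_of_mem, Finset.card_erase_of_mem (Finset.mem_univ _),
      Finset.card_univ, Fintype.card_units]
    · omega
    · rw [Finset.mem_erase]
      exact ⟨Ne.symm hne, Finset.mem_univ _⟩
  rw [Nat.card_eq_fintype_card, Fintype.card_sum, Fintype.card_prod, Fintype.card_bool,
    Fintype.card_option, Fintype.card_bool, e1]
  omega

/-- **The Borel subgroup of `SL₂(q)`, `q` odd, has `q + 3` conjugacy classes.** -/
theorem card_conjClasses_borelSL [Fintype F] (hodd : Odd (Fintype.card F)) :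
    Nat.card (ConjClasses (borelSL F)) = Fintype.card F + 3 := by
  classical
  have h2 := two_ne_zero_of_odd_card hodd
  have hF : ringChar F ≠ 2 := ringChar_ne_two_of_odd hodd
  obtain ⟨ε, hε⟩ := FiniteField.exists_nonsquare hF
  have h3 : 3 ≤ Fintype.card F := by
    have : 1 < Fintype.card F := Fintype.one_lt_card
    obtain ⟨k, hk⟩ := hodd
    omega
  let e := Equiv.ofBijective _ (borelMk_bijective (F := F))
  have he : ∀ p : Fˣ × F, e p = borelMk p.1 p.2 := fun _ => rfl
  rw [card_conjClasses_eq (fun b : borelSL F => borelInv (e.symm b)) ?_ ?_, card_borelInv h2 h3]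
  · intro b b'
    obtain ⟨⟨u, r⟩, rfl⟩ := e.surjective b
    obtain ⟨⟨u', r'⟩, rfl⟩ := e.surjective b'
    simp only [Equiv.symm_apply_apply]
    rw [borelInv_eq_iff h2, isConj_iff, he, he]
    constructor
    · rintro ⟨rfl, a, s, hrs⟩
      refine ⟨borelMk a s, ?_⟩
      rw [borelMk_conj, hrs]
    · rintro ⟨c, hc⟩
      obtain ⟨⟨a, s⟩, rfl⟩ := e.surjective c
      rw [he, borelMk_conj] at hc
      have hc' : (fun p : Fˣ × F => borelMk p.1 p.2)
          (u, (a : F) ^ 2 * r + (a : F) * s * (((u⁻¹ : Fˣ) : F) - (u : F))) =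
        (fun p : Fˣ × F => borelMk p.1 p.2) (u', r') := hc
      have := (borelMk_bijective (F := F)).1 hc'
      have h1 := (Prod.ext_iff.1 this).1
      have h2' := (Prod.ext_iff.1 this).2
      exact ⟨h1, a, s, h2'.symm⟩
  · intro t
    obtain ⟨p, hp⟩ := borelInv_surjective h2 hε t
    exact ⟨e p, by simp only [Equiv.symm_apply_apply]; exact hp⟩

end Cfsg.Agent.Helper12
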