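import Mathlib
import Cfsg.Agent.Helper12.BorelClasses
import Cfsg.Agent.Helper12.McKayGeneral
import Cfsg.Agent.S2301

set_option autoImplicit false

namespace Cfsg.Agent.Helper12

open Cfsg Cfsg.Agent.Helper8 Cfsg.Agent.Helper24

variable {F : Type*} [Field F]

local notation "S2" => Matrix.SpecialLinearGroup (Fin 2) F
local notation "M2" => Matrix (Fin 2) (Fin 2) F

/-- The upper unitriangular subgroup of `SL₂`. -/
def unipSL (F : Type*) [Field F] : Subgroup (Matrix.SpecialLinearGroup (Fin 2) F) where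
  carrier := {g | (g : Matrix (Fin 2) (Fin 2) F) 1 0 = 0 ∧ (g : Matrix (Fin 2) (Fin 2) F) 0 0 = 1}
  one_mem' := by simp
  mul_mem' := by
    rintro a b ⟨ha1, ha2⟩ ⟨hb1, hb2⟩
    simp only [Set.mem_ofPred_eq, Matrix.SpecialLinearGroup.coe_mul, Matrix.mul_apply,
      Fin.sum_univ_two]
    rw [ha1, ha2, hb1, hb2]
    simp
  inv_mem' := by
    rintro a ⟨ha1, ha2⟩
    have hdet := a.2
    rw [Matrix.det_fin_two, ha1, ha2] at hdet
    simp only [Set.mem_ofPred_eq, Matrix.SpecialLinearGroup.coe_inv, Matrix.adjugate_fin_two,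
      Matrix.of_apply, Matrix.cons_val', Matrix.cons_val_zero, Matrix.cons_val_one,
      Matrix.cons_val_fin_one]
    refine ⟨by rw [ha1, neg_zero], ?_⟩
    linear_combination hdet

theorem mem_unipSL_iff (g : S2) :
    g ∈ unipSL F ↔ (g : M2) 1 0 = 0 ∧ (g : M2) 0 0 = 1 := Iff.rfl

theorem unipSL_le_borelSL : unipSL F ≤ borelSL F := fun g hg => (mem_borelSL_iff g).2 hg.1

/-- The unitriangular element with entry `r`. -/
def uMat (r : F) : S2 := ⟨!![1, r; 0, 1], by simp [Matrix.det_fin_two_of]⟩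

theorem uMat_mem (r : F) : uMat r ∈ unipSL F := by
  rw [mem_unipSL_iff]
  simp [uMat]

theorem eq_uMat_of_mem {g : S2} (hg : g ∈ unipSL F) : g = uMat ((g : M2) 0 1) := by
  obtain ⟨h1, h2⟩ := hg
  have hdet := g.2
  rw [Matrix.det_fin_two, h1, h2] at hdet
  apply Subtype.ext
  ext i j
  fin_cases i <;> fin_cases j <;> simp [uMat, h1, h2]
  linear_combination hdet

theorem uMat_coe (r : F) : ((uMat r : S2) : M2) = !![1, r; 0, 1] := rfl

theorem uMat_mul (r s : F) : uMat r * uMat s = uMat (r + s) := by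
  apply Subtype.ext
  show ((uMat r * uMat s : S2) : M2) = ((uMat (r + s) : S2) : M2)
  rw [Matrix.SpecialLinearGroup.coe_mul, uMat_coe, uMat_coe, uMat_coe]
  ext i j
  fin_cases i <;> fin_cases j <;> simp [Matrix.mul_apply, Fin.sum_univ_two, add_comm]

theorem card_unipSL [Fintype F] : Nat.card (unipSL F) = Fintype.card F := by
  rw [← Nat.card_eq_fintype_card]
  refine Nat.card_congr ⟨fun g => ((g : S2) : M2) 0 1, fun r => ⟨uMat r, uMat_mem r⟩, ?_, ?_⟩
  · rintro ⟨g, hg⟩
    apply Subtype.ext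
    exact (eq_uMat_of_mem hg).symm
  · intro r
    simp [uMat]

theorem unipSL_comm {a b : S2} (ha : a ∈ unipSL F) (hb : b ∈ unipSL F) : a * b = b * a := by
  rw [eq_uMat_of_mem ha, eq_uMat_of_mem hb, uMat_mul, uMat_mul, add_comm]

/-- The Borel subgroup normalises the unitriangular subgroup. -/
theorem conj_mem_unipSL {b u : S2} (hb : b ∈ borelSL F) (hu : u ∈ unipSL F) :
    b * u * b⁻¹ ∈ unipSL F := by
  rw [mem_borelSL_iff] at hb
  obtain ⟨hu1, hu2⟩ := hu
  have hdet := b.2
  rw [Matrix.det_fin_two, hb] at hdet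
  rw [mem_unipSL_iff]
  simp only [Matrix.SpecialLinearGroup.coe_mul, Matrix.SpecialLinearGroup.coe_inv,
    Matrix.adjugate_fin_two, Matrix.mul_apply, Fin.sum_univ_two, Matrix.of_apply,
    Matrix.cons_val', Matrix.cons_val_zero, Matrix.cons_val_one, Matrix.cons_val_fin_one]
  rw [hb, hu1, hu2]
  constructor
  · ring
  · linear_combination hdet

/-- The normaliser of the unitriangular subgroup is the Borel subgroup. -/
theorem normalizer_unipSL : Subgroup.normalizer ((unipSL F : Subgroup S2) : Set S2) = borelSL F := by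
  apply le_antisymm
  · intro n hn
    have h1 := (Subgroup.mem_normalizer_iff.1 hn (uMat 1)).1 (uMat_mem 1)
    rw [mem_unipSL_iff] at h1
    have h10 := h1.1
    rw [Matrix.SpecialLinearGroup.coe_mul, Matrix.SpecialLinearGroup.coe_mul,
      Matrix.SpecialLinearGroup.coe_inv, uMat_coe, Matrix.adjugate_fin_two] at h10
    simp only [Matrix.mul_apply, Fin.sum_univ_two, Matrix.of_apply,
      Matrix.cons_val', Matrix.cons_val_zero, Matrix.cons_val_one, Matrix.cons_val_fin_one] at h10
    rw [mem_borelSL_iff]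
    have : (n : M2) 1 0 * (n : M2) 1 0 = 0 := by
      linear_combination -h10
    exact mul_self_eq_zero.1 this
  · intro b hb
    rw [Subgroup.mem_normalizer_iff]
    intro u
    constructor
    · exact conj_mem_unipSL hb
    · intro hu
      have := conj_mem_unipSL ((borelSL F).inv_mem hb) hu
      have e : b⁻¹ * (b * u * b⁻¹) * b⁻¹⁻¹ = u := by group
      rwa [e] at this

/-- The diagonal entry as a homomorphism on the Borel subgroup. -/
def borelDiag (K : Type*) [Field K] : borelSL K →* K where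
  toFun b := ((b : Matrix.SpecialLinearGroup (Fin 2) K) : Matrix (Fin 2) (Fin 2) K) 0 0
  map_one' := by simp
  map_mul' := by
    rintro ⟨a, ha⟩ ⟨b, hb⟩
    rw [mem_borelSL_iff] at hb
    show ((a * b : Matrix.SpecialLinearGroup (Fin 2) K) : Matrix (Fin 2) (Fin 2) K) 0 0 =
      (a : Matrix (Fin 2) (Fin 2) K) 0 0 * (b : Matrix (Fin 2) (Fin 2) K) 0 0
    rw [Matrix.SpecialLinearGroup.coe_mul, Matrix.mul_apply, Fin.sum_univ_two, hb, mul_zero,
      add_zero]

/-- Elements of `p`-power order of the Borel subgroup are unitriangular. -/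
theorem mem_unipSL_of_pow_eq_one [Fintype F] (p : ℕ) [Fact p.Prime] [CharP F p] {b : S2}
    (hb : b ∈ borelSL F) (k : ℕ) (hk : b ^ (p ^ k) = 1) : b ∈ unipSL F := by
  classical
  have hp : p.Prime := Fact.out
  obtain ⟨n, _, hn⟩ := FiniteField.card F p
  refine ⟨(mem_borelSL_iff b).1 hb, ?_⟩
  have h1 : borelDiag F ⟨b, hb⟩ ^ (p ^ k) = 1 := by
    rw [← map_pow]
    have : (⟨b, hb⟩ : borelSL F) ^ (p ^ k) = 1 := Subtype.ext hk
    rw [this, map_one]
  have hb00 : (b : M2) 0 0 ≠ 0 := by
    intro h0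
    have hdet := b.2
    rw [Matrix.det_fin_two, h0, (mem_borelSL_iff b).1 hb] at hdet
    simp at hdet
  set u : Fˣ := Units.mk0 _ hb00 with hu
  have h2 : u ^ (p ^ k) = 1 := by
    apply Units.ext
    rw [Units.val_pow_eq_pow_val, Units.val_one, hu, Units.val_mk0]
    exact h1
  have h3 : u ^ (Fintype.card F - 1) = 1 := by
    rw [← Fintype.card_units]
    exact pow_card_eq_one
  have hcop : Nat.Coprime (p ^ k) (Fintype.card F - 1) := by
    apply Nat.Coprime.pow_left
    rw [Nat.Prime.coprime_iff_not_dvd hp]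
    intro hdvd
    have hpq : p ∣ Fintype.card F := by
      rw [hn]; exact dvd_pow_self p n.ne_zero
    have h1' : 1 ≤ Fintype.card F := Fintype.card_pos
    have : p ∣ (Fintype.card F - 1) + 1 := by rw [Nat.sub_add_cancel h1']; exact hpq
    have := (Nat.dvd_add_right hdvd).1 this
    exact hp.one_lt.ne' (Nat.dvd_one.1 this)
  have ho : orderOf u = 1 :=
    Nat.eq_one_of_dvd_coprimes hcop (orderOf_dvd_of_pow_eq_one h2) (orderOf_dvd_of_pow_eq_one h3)
  have hu1 : u = 1 := orderOf_eq_one_iff.1 ho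
  have := congrArg (fun z : Fˣ => (z : F)) hu1
  simpa [hu] using this

theorem index_borelSL [Fintype F] : (borelSL F).index = Fintype.card F + 1 := by
  classical
  have h1 := (borelSL F).index_mul_card
  rw [Cfsg.Agent.S2301.card_sl2, card_borelSL] at h1
  have hq : 1 < Fintype.card F := Fintype.one_lt_card
  have hpos : 0 < (Fintype.card F - 1) * Fintype.card F :=
    Nat.mul_pos (by omega) (by omega)
  exact Nat.eq_of_mul_eq_mul_right hpos h1

/-- Every Sylow `p`-subgroup of `SL₂(q)` is conjugate to the unitriangular subgroup. -/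
theorem exists_conj_sylow_eq_unipSL [Fintype F] (p : ℕ) [Fact p.Prime] [CharP F p]
    (S : Sylow p S2) :
    ∃ g : S2, (S : Subgroup S2).map (MulAut.conj g).toMonoidHom = unipSL F := by
  classical
  have hp : p.Prime := Fact.out
  obtain ⟨n, _, hn⟩ := FiniteField.card F p
  have hpq : p ∣ Fintype.card F := by
    rw [hn]; exact dvd_pow_self p n.ne_zero
  have hidx : ¬ p ∣ (borelSL F).index := by
    rw [index_borelSL]
    intro h
    have := (Nat.dvd_add_right hpq).1 h
    exact hp.one_lt.ne' (Nat.dvd_one.1 this)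
  have hfix := S.isPGroup'.nonempty_fixed_point_of_prime_not_dvd_card (S2 ⧸ borelSL F) (by
    rw [← Subgroup.index_eq_card]; exact hidx)
  obtain ⟨a, ha⟩ := hfix
  obtain ⟨g, rfl⟩ := QuotientGroup.mk_surjective a
  refine ⟨g⁻¹, ?_⟩
  have hle : (S : Subgroup S2).map (MulAut.conj g⁻¹).toMonoidHom ≤ unipSL F := by
    rintro _ ⟨x, hx, rfl⟩
    show g⁻¹ * x * g⁻¹⁻¹ ∈ unipSL F
    rw [inv_inv]
    have h1 := ha ⟨x, hx⟩
    have h2 : ((x * g : S2) : S2 ⧸ borelSL F) = (g : S2 ⧸ borelSL F) := h1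
    rw [QuotientGroup.eq] at h2
    have h3 := (borelSL F).inv_mem h2
    have e : ((x * g)⁻¹ * g)⁻¹ = g⁻¹ * x * g := by group
    rw [e] at h3
    obtain ⟨k, hk⟩ := S.isPGroup' ⟨x, hx⟩
    have hk' : x ^ (p ^ k) = 1 := by
      have := congrArg (fun y : (S : Subgroup S2) => (y : S2)) hk
      simpa using this
    apply mem_unipSL_of_pow_eq_one p h3 k
    have : (g⁻¹ * x * g) ^ (p ^ k) = g⁻¹ * x ^ (p ^ k) * g := by
      have := conj_pow (a := g⁻¹) (b := x) (i := p ^ k)
      rw [inv_inv] at this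
      exact this
    rw [this, hk']; group
  apply Subgroup.eq_of_le_of_card_ge hle
  rw [card_unipSL]
  have hcard : Nat.card ((S : Subgroup S2).map (MulAut.conj g⁻¹).toMonoidHom) =
      Nat.card (S : Subgroup S2) :=
    Subgroup.card_map_of_injective (MulAut.conj g⁻¹).injective
  rw [hcard]
  have hdvd : p ^ (n : ℕ) ∣ Nat.card S2 := by
    rw [Cfsg.Agent.S2301.card_sl2, ← hn]
    exact ⟨(Fintype.card F + 1) * (Fintype.card F - 1), by ring⟩
  have := S.pow_dvd_card_of_pow_dvd_card hdvd
  rw [← hn] at this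
  exact Nat.le_of_dvd Nat.card_pos this

/-- The normaliser of a Sylow `p`-subgroup of `SL₂(q)` is isomorphic to the Borel subgroup. -/
theorem nonempty_normalizer_sylow_equiv_borelSL [Fintype F] (p : ℕ) [Fact p.Prime] [CharP F p]
    (S : Sylow p S2) :
    Nonempty (Subgroup.normalizer ((S : Subgroup S2) : Set S2) ≃* borelSL F) := by
  obtain ⟨g, hg⟩ := exists_conj_sylow_eq_unipSL p S
  have h1 := Subgroup.map_equiv_normalizer_eq (S : Subgroup S2) (MulAut.conj g)
  rw [hg, normalizer_unipSL] at h1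
  exact ⟨(Subgroup.equivMapOfInjective _ _ (MulAut.conj g).injective).trans
    (MulEquiv.subgroupCongr h1)⟩

/-- McKay count of the Borel subgroup at the characteristic. -/
theorem mkCount_borelSL [Fintype F] (p : ℕ) [Fact p.Prime] [CharP F p]
    (hodd : Odd (Fintype.card F)) : mkCount p (borelSL F) = Fintype.card F + 3 := by
  classical
  have hp : p.Prime := Fact.out
  obtain ⟨n, _, hn⟩ := FiniteField.card F p
  have hpq : p ∣ Fintype.card F := by
    rw [hn]; exact dvd_pow_self p n.ne_zero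
  have hq : 1 < Fintype.card F := Fintype.one_lt_card
  set T : Subgroup (borelSL F) := (unipSL F).subgroupOf (borelSL F) with hT
  have hTn : T.Normal := by
    constructor
    rintro ⟨u, hu⟩ hu' ⟨b, hb⟩
    rw [hT, Subgroup.mem_subgroupOf] at hu' ⊢
    exact conj_mem_unipSL hb hu'
  have hab : ∀ a ∈ T, ∀ b ∈ T, a * b = b * a := by
    rintro ⟨a, ha⟩ ha' ⟨b, hb⟩ hb'
    rw [hT, Subgroup.mem_subgroupOf] at ha' hb'
    apply Subtype.ext
    exact unipSL_comm ha' hb'
  have hTcard : Nat.card T = Fintype.card F := by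
    rw [← card_unipSL]
    exact Nat.card_congr (Subgroup.subgroupOfEquivOfLe unipSL_le_borelSL).toEquiv
  have hidx : T.index = Fintype.card F - 1 := by
    have h1 := T.index_mul_card
    rw [hTcard, card_borelSL] at h1
    exact Nat.eq_of_mul_eq_mul_right (by omega) h1
  rw [mkCount_eq_card_conjClasses, card_conjClasses_borelSL hodd]
  intro χ hdvd
  have h1 := charDegree_dvd_index T hab χ
  rw [hidx] at h1
  have h2 := hdvd.trans h1
  have : p ∣ (Fintype.card F - 1) + 1 := by rw [Nat.sub_add_cancel (by omega)]; exact hpq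
  have := (Nat.dvd_add_right h2).1 this
  exact hp.one_lt.ne' (Nat.dvd_one.1 this)

end Cfsg.Agent.Helper12
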