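import Mathlib
import Cfsg.Agent.Helper12.BlockGeneric
import Cfsg.Agent.Helper12.BorelUnip
import Cfsg.Agent.Helper12.McKaySL2G
import Cfsg.Agent.Helper12.SL2OrderFour

set_option autoImplicit false

/-! The `p`-blocks of `SL₂(q)` in the defining characteristic. -/

namespace Cfsg.Agent.Helper12

open Cfsg Cfsg.Agent.Helper24 Cfsg.Agent.Helper5 Cfsg.Agent.Helper5.Loc Cfsg.Agent.Helper5.CC

variable {F : Type*} [Field F]

local notation "S2" => Matrix.SpecialLinearGroup (Fin 2) F
local notation "M2" => Matrix (Fin 2) (Fin 2) F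

theorem uMat_zero : uMat (0 : F) = 1 := by
  apply Subtype.ext
  rw [uMat_coe, Matrix.SpecialLinearGroup.coe_one]
  ext i j
  fin_cases i <;> fin_cases j <;> simp

theorem uMat_pow (r : F) (n : ℕ) : uMat r ^ n = uMat ((n : F) * r) := by
  induction n with
  | zero => rw [pow_zero, Nat.cast_zero, zero_mul, uMat_zero]
  | succ k ih =>
    rw [pow_succ, ih, uMat_mul]
    congr 1
    push_cast
    ring

/-- A `p`-regular element of `SL₂(q)` whose class size is prime to `p` is `±1`. -/
theorem eq_one_or_neg_one_of_regular [Fintype F] (p : ℕ) [Fact p.Prime] [CharP F p]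
    (hp2 : p ≠ 2) (g : S2) (hreg : ¬ p ∣ orderOf g)
    (hidx : ¬ p ∣ (Subgroup.centralizer ({g} : Set S2)).index) : g = 1 ∨ g = -1 := by
  classical
  have hp : p.Prime := Fact.out
  have h2 : (2 : F) ≠ 0 := by
    intro h
    have h' : ((2 : ℕ) : F) = 0 := by exact_mod_cast h
    have := (CharP.cast_eq_zero_iff F p 2).1 h'
    exact hp2 ((Nat.prime_dvd_prime_iff_eq hp Nat.prime_two).1 this)
  obtain ⟨n, _, hn⟩ := FiniteField.card F p
  set C := Subgroup.centralizer ({g} : Set S2) with hC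
  have hU : IsPGroup p (unipSL F) := by
    apply IsPGroup.of_card (n := (n : ℕ))
    rw [card_unipSL, hn]
  have hfix := hU.nonempty_fixed_point_of_prime_not_dvd_card (S2 ⧸ C) (by
    rw [← Subgroup.index_eq_card]; exact hidx)
  obtain ⟨a, ha⟩ := hfix
  obtain ⟨a, rfl⟩ := QuotientGroup.mk_surjective a
  have h1 := ha ⟨uMat 1, uMat_mem 1⟩
  have h2' : ((uMat 1 * a : S2) : S2 ⧸ C) = (a : S2 ⧸ C) := h1
  rw [QuotientGroup.eq] at h2'
  -- `(u a)⁻¹ a = a⁻¹ u⁻¹ a ∈ C`
  have h3 : a⁻¹ * uMat 1 * a ∈ C := by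
    have := C.inv_mem h2'
    have e : ((uMat 1 * a)⁻¹ * a)⁻¹ = a⁻¹ * uMat 1 * a := by group
    rwa [e] at this
  rw [hC, Subgroup.mem_centralizer_iff] at h3
  have h4 := h3 g (Set.mem_singleton g)
  -- `g' = a g a⁻¹` commutes with `uMat 1`
  set g' := a * g * a⁻¹ with hg'
  have hcomm : g' * uMat 1 = uMat 1 * g' := by
    have e1 : g' * uMat 1 = a * (g * (a⁻¹ * uMat 1 * a)) * a⁻¹ := by rw [hg']; group
    have e2 : uMat 1 * g' = a * ((a⁻¹ * uMat 1 * a) * g) * a⁻¹ := by rw [hg']; group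
    rw [e1, e2, h4]
  have hm := congrArg (fun y : S2 => (y : M2)) hcomm
  simp only [Matrix.SpecialLinearGroup.coe_mul, uMat_coe] at hm
  have h00 := congrFun (congrFun hm 0) 0
  have h01 := congrFun (congrFun hm 0) 1
  simp only [Matrix.mul_apply, Fin.sum_univ_two, Matrix.of_apply, Matrix.cons_val',
    Matrix.cons_val_zero, Matrix.cons_val_one, Matrix.cons_val_fin_one] at h00 h01
  have hz : (g' : M2) 1 0 = 0 := by linear_combination -h00
  have hxw : (g' : M2) 0 0 = (g' : M2) 1 1 := by linear_combination h01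
  have hdet := g'.2
  rw [Matrix.det_fin_two, hz, mul_zero, sub_zero, ← hxw] at hdet
  -- `g' * g'` is unitriangular
  have hsq : g' * g' = uMat (2 * (g' : M2) 0 0 * (g' : M2) 0 1) := by
    apply Subtype.ext
    rw [Matrix.SpecialLinearGroup.coe_mul, uMat_coe]
    ext i j
    fin_cases i <;> fin_cases j <;>
      simp only [Matrix.mul_apply, Fin.sum_univ_two, Matrix.of_apply, Matrix.cons_val',
        Matrix.cons_val_zero, Matrix.cons_val_one, Matrix.cons_val_fin_one, Fin.zero_eta,
        Fin.mk_one]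
    · rw [hz, mul_zero, add_zero, hdet]
    · rw [← hxw]; ring
    · rw [hz]; ring
    · rw [hz, zero_mul, zero_add, ← hxw, hdet]
  have hpow : (g' * g') ^ p = 1 := by
    rw [hsq, uMat_pow, CharP.cast_eq_zero, zero_mul, uMat_zero]
  have hgsq : (g * g) ^ p = 1 := by
    have e : g * g = a⁻¹ * (g' * g') * a := by rw [hg']; group
    rw [e]
    have := conj_pow (a := a⁻¹) (b := g' * g') (i := p)
    rw [inv_inv] at this
    rw [this, hpow]
    group
  have hord : orderOf (g * g) = 1 := by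
    have hd := orderOf_dvd_of_pow_eq_one hgsq
    rcases (Nat.dvd_prime hp).1 hd with h | h
    · exact h
    · exfalso
      apply hreg
      rw [← h, ← pow_two]
      exact orderOf_pow_dvd 2
  rw [orderOf_eq_one_iff] at hord
  exact sl2_eq_of_sq_eq_one h2 g hord

end Cfsg.Agent.Helper12
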