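import Mathlib
import Cfsg.Agent.Helper12.SL2Nonsplit
import Cfsg.Agent.Helper12.Mat2Comm

set_option autoImplicit false

namespace Cfsg.Agent.Helper12

variable {F : Type*} [Field F]

/-- Powers of a 2×2 matrix of determinant one with two distinct eigenvalues `l`, `m`. -/
theorem pow_formula_of_roots (A : Matrix (Fin 2) (Fin 2) F) (l m : F) (hlm : l * m = 1)
    (hA : A * A = (l + m) • A - (1 : Matrix (Fin 2) (Fin 2) F)) (k : ℕ) :
    (l - m) • A ^ k = l ^ k • (A - m • (1 : Matrix (Fin 2) (Fin 2) F)) -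
      m ^ k • (A - l • (1 : Matrix (Fin 2) (Fin 2) F)) := by
  induction k with
  | zero =>
    simp only [pow_zero, one_smul]
    rw [sub_smul]
    abel
  | succ k ih =>
    have h1 : A * (A - m • (1 : Matrix (Fin 2) (Fin 2) F)) =
        l • (A - m • (1 : Matrix (Fin 2) (Fin 2) F)) := by
      rw [mul_sub, hA, Matrix.mul_smul, Matrix.mul_one, smul_sub, smul_smul, hlm, one_smul, add_smul]
      abel
    have h2 : A * (A - l • (1 : Matrix (Fin 2) (Fin 2) F)) =
        m • (A - l • (1 : Matrix (Fin 2) (Fin 2) F)) := by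
      rw [mul_sub, hA, Matrix.mul_smul, Matrix.mul_one, smul_sub, smul_smul, mul_comm m l, hlm,
        one_smul, add_smul]
      abel
    rw [pow_succ', ← Matrix.mul_smul, ih, mul_sub, Matrix.mul_smul, Matrix.mul_smul, h1, h2,
      smul_smul, smul_smul, pow_succ, pow_succ]

/-- If the eigenvalues have equal `k`-th powers then the `k`-th power is scalar. -/
theorem pow_isScalar2_of_roots (A : Matrix (Fin 2) (Fin 2) F) (l m : F) (hlm : l * m = 1)
    (hne : l ≠ m) (hA : A * A = (l + m) • A - (1 : Matrix (Fin 2) (Fin 2) F)) (k : ℕ)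
    (hk : l ^ k = m ^ k) : A ^ k = l ^ k • (1 : Matrix (Fin 2) (Fin 2) F) := by
  have h := pow_formula_of_roots A l m hlm hA k
  rw [← hk, ← smul_sub] at h
  have h' : (A - m • (1 : Matrix (Fin 2) (Fin 2) F)) - (A - l • (1 : Matrix (Fin 2) (Fin 2) F)) =
      (l - m) • (1 : Matrix (Fin 2) (Fin 2) F) := by
    rw [sub_smul]; abel
  rw [h', smul_smul, mul_comm, ← smul_smul] at h
  have hne' : l - m ≠ 0 := sub_ne_zero.2 hne
  exact smul_right_injective _ hne' h

/-- For odd `q`, an element of `SL₂(q)` without eigenvectors has scalar `(q+1)/2`-th power. -/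
theorem sl2_pow_half_isScalar2 [Fintype F] (X : Matrix.SpecialLinearGroup (Fin 2) F)
    (h : ∀ (c : F) (v : Fin 2 → F), v ≠ 0 → (X : Matrix (Fin 2) (Fin 2) F).mulVec v ≠ c • v)
    (m : ℕ) (hm : 2 * m = Fintype.card F + 1) :
    IsScalar2 ((X ^ m : Matrix.SpecialLinearGroup (Fin 2) F) : Matrix (Fin 2) (Fin 2) F) := by
  set A : Matrix (Fin 2) (Fin 2) F := (X : Matrix (Fin 2) (Fin 2) F) with hA
  have hpow := sl2_pow_card_add_one_eq_one X h
  rw [Matrix.SpecialLinearGroup.coe_pow]
  set B : Matrix (Fin 2) (Fin 2) F := A ^ m with hB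
  have hBB : B * B = 1 := by
    rw [hB, ← pow_add, ← two_mul, hm, ← Matrix.SpecialLinearGroup.coe_pow, hpow,
      Matrix.SpecialLinearGroup.coe_one]
  have hAns : ¬ IsScalar2 A := by
    intro hs
    obtain ⟨a, ha⟩ := (isScalar2_iff _).1 hs
    apply h a ![1, 0] (by simp)
    rw [ha, Matrix.smul_mulVec, Matrix.one_mulVec]
  have hcomm : A * B = B * A := by
    rw [hB, ← pow_succ', ← pow_succ]
  obtain ⟨x, y, hxy⟩ := exists_eq_add_smul_of_comm A B hAns hcomm
  by_cases hy : y = 0
  · rw [isScalar2_iff]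
    exact ⟨x, by rw [hxy, hy, zero_smul, add_zero]⟩
  · exfalso
    -- an eigenvector of `B` is an eigenvector of `A`
    have heig : ∀ (c : F) (v : Fin 2 → F), v ≠ 0 → B.mulVec v = c • v → False := by
      intro c v hv hBv
      apply h ((c - x) / y) v hv
      rw [hxy, Matrix.add_mulVec, Matrix.smul_mulVec, Matrix.smul_mulVec, Matrix.one_mulVec] at hBv
      have h1 : y • A.mulVec v = (c - x) • v := by
        rw [sub_smul, ← hBv]; abel
      have h2 := congrArg (fun w => y⁻¹ • w) h1
      simp only [smul_smul, inv_mul_cancel₀ hy, one_smul] at h2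
      rw [h2, div_eq_inv_mul]
    have hprod : (B - 1) * (B + 1) = 0 := by
      have h1 : (B - 1) * (B + 1) = B * B - 1 := by noncomm_ring
      rw [h1, hBB, sub_self]
    have hdet : (B - 1).det * (B + 1).det = 0 := by
      rw [← Matrix.det_mul, hprod]
      simp
    rcases mul_eq_zero.1 hdet with h0 | h0
    · obtain ⟨v, hv, hv0⟩ := Matrix.exists_mulVec_eq_zero_iff.2 h0
      apply heig 1 v hv
      rw [Matrix.sub_mulVec, Matrix.one_mulVec, sub_eq_zero] at hv0
      rw [hv0, one_smul]
    · obtain ⟨v, hv, hv0⟩ := Matrix.exists_mulVec_eq_zero_iff.2 h0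
      apply heig (-1) v hv
      rw [Matrix.add_mulVec, Matrix.one_mulVec] at hv0
      rw [neg_smul, one_smul]
      exact eq_neg_of_add_eq_zero_left hv0

/-- `SL₂(q)` contains an element of order `q + 1` whose `(q+1)/2`-th power is scalar when `q` is
odd. -/
theorem exists_sl2_orderOf_card_add_one [Fintype F] (p : ℕ) [Fact p.Prime] [CharP F p] :
    ∃ Y : Matrix.SpecialLinearGroup (Fin 2) F, orderOf Y = Fintype.card F + 1 ∧
      ∀ m : ℕ, 2 * m = Fintype.card F + 1 →
        IsScalar2 ((Y ^ m : Matrix.SpecialLinearGroup (Fin 2) F) : Matrix (Fin 2) (Fin 2) F) := by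
  classical
  set q := Fintype.card F with hq
  have hq2 : 2 ≤ q := Fintype.one_lt_card
  let K := FiniteField.Extension F p 2
  let b : Module.Basis (Fin 2) F K :=
    Module.finBasisOfFinrankEq F K (FiniteField.finrank_extension F p 2)
  let φ : K →ₐ[F] Matrix (Fin 2) (Fin 2) F := Algebra.leftMulMatrix b
  have hφ : Function.Injective φ := Algebra.leftMulMatrix_injective b
  obtain ⟨ζ, hζ⟩ := IsCyclic.exists_generator (α := Kˣ)
  have hordζ : orderOf ζ = q ^ 2 - 1 := by
    rw [orderOf_eq_card_of_forall_mem_zpowers hζ, Nat.card_units,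
      FiniteField.natCard_extension, Nat.card_eq_fintype_card]
  have hfac : q ^ 2 - 1 = (q - 1) * (q + 1) := by
    obtain ⟨r, hr⟩ : ∃ r, q = r + 1 := ⟨q - 1, by omega⟩
    rw [hr]
    have : (r + 1) ^ 2 = (r + 1 - 1) * (r + 1 + 1) + 1 := by
      simp only [Nat.add_sub_cancel]; ring
    rw [this]; simp
  set η : Kˣ := ζ ^ (q - 1) with hη
  have hordη : orderOf η = q + 1 := by
    rw [hη, orderOf_pow_of_dvd (by omega) (by rw [hordζ, hfac]; exact dvd_mul_right _ _), hordζ,
      hfac, Nat.mul_div_cancel_left _ (by omega)]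
  -- determinants
  have hdetζ : (φ (ζ : K)).det ≠ 0 := by
    intro h0
    have h1 : φ (ζ : K) * φ ((ζ⁻¹ : Kˣ) : K) = 1 := by
      rw [← map_mul, ← Units.val_mul, mul_inv_cancel, Units.val_one, map_one]
    have h2 := congrArg Matrix.det h1
    rw [Matrix.det_mul, h0, zero_mul, Matrix.det_one] at h2
    exact zero_ne_one h2
  have hdetη : (φ (η : K)).det = 1 := by
    rw [hη, Units.val_pow_eq_pow_val, map_pow, Matrix.det_pow]
    exact FiniteField.pow_card_sub_one_eq_one _ hdetζ
  set Y : Matrix.SpecialLinearGroup (Fin 2) F := ⟨φ (η : K), hdetη⟩ with hY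
  have hYpow : ∀ k : ℕ, ((Y ^ k : Matrix.SpecialLinearGroup (Fin 2) F) :
      Matrix (Fin 2) (Fin 2) F) = φ ((η ^ k : Kˣ) : K) := by
    intro k
    rw [Matrix.SpecialLinearGroup.coe_pow, Units.val_pow_eq_pow_val, map_pow]
  refine ⟨Y, ?_, ?_⟩
  · rw [← hordη, orderOf_eq_orderOf_iff]
    intro n
    constructor
    · intro h
      have h1 := congrArg (fun Z : Matrix.SpecialLinearGroup (Fin 2) F =>
        (Z : Matrix (Fin 2) (Fin 2) F)) h
      simp only [hYpow, Matrix.SpecialLinearGroup.coe_one] at h1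
      rw [← map_one φ] at h1
      exact Units.ext (hφ h1)
    · intro h
      apply Subtype.ext
      rw [hYpow, h, Units.val_one, map_one, Matrix.SpecialLinearGroup.coe_one]
  · intro m hm
    rw [hYpow]
    have hsq : ((η ^ m : Kˣ) : K) * ((η ^ m : Kˣ) : K) = 1 := by
      rw [← Units.val_mul, ← pow_add, ← two_mul, hm, ← hordη, pow_orderOf_eq_one, Units.val_one]
    rcases mul_self_eq_one_iff.1 hsq with h1 | h1
    · rw [h1, map_one, isScalar2_iff]
      exact ⟨1, by rw [one_smul]⟩
    · rw [h1, map_neg, map_one, isScalar2_iff]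
      exact ⟨-1, by rw [neg_smul, one_smul]⟩

end Cfsg.Agent.Helper12
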