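import Mathlib
import Cfsg.Agent.Helper28.Siegel6

set_option autoImplicit false
set_option linter.unusedSectionVars false
set_option linter.unusedVariables false

/-! Generation criterion for `Ω` of a quadratic form: a subgroup containing the two opposite
"unipotent radicals" `{E(e,w)}`, `{E(f,w)}` (`w ⊥ e, f`) of a hyperbolic pair `e, f` contains every
Siegel (Eichler) transformation. Any characteristic. -/

namespace Cfsg.Agent.Helper12.OrthGen

open Matrix Cfsg.Agent.Helper28.Sg Cfsg.Agent.Helper28.Spin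

variable {F : Type*} [Field F] {ι : Type} [Fintype ι] [DecidableEq ι]
  {Q : QuadraticForm F (ι → F)}

/-- the additive group of parameters `v` with `E(u, v) ∈ H` -/
def Rad (H : Subgroup ↥(Cfsg.isometryGroup F ⇑Q)) (u : ι → F) (hu : Q u = 0) :
    AddSubgroup (ι → F) where
  carrier := {v | ∃ huv : B Q u v = 0, siegO Q u v hu huv ∈ H}
  zero_mem' := ⟨QuadraticMap.polar_zero_right _ _, by rw [siegO_zero]; exact H.one_mem⟩
  add_mem' := by
    rintro v w ⟨hv, hv'⟩ ⟨hw, hw'⟩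
    refine ⟨B_add_right_zero Q hv hw, ?_⟩
    rw [← siegO_mul Q hu hv hw]
    exact H.mul_mem hv' hw'
  neg_mem' := by
    rintro v ⟨hv, hv'⟩
    have h : B Q u (-v) = 0 := by rw [B_neg_right, hv, neg_zero]
    refine ⟨h, ?_⟩
    rw [← siegO_inv Q hu hv h]
    exact H.inv_mem hv'

variable {H : Subgroup ↥(Cfsg.isometryGroup F ⇑Q)}

theorem mem_Rad {u : ι → F} {hu : Q u = 0} {v : ι → F} :
    v ∈ Rad H u hu ↔ ∃ huv : B Q u v = 0, siegO Q u v hu huv ∈ H := Iff.rfl

theorem Rad_perp {u : ι → F} {hu : Q u = 0} {v : ι → F} (hv : v ∈ Rad H u hu) : B Q u v = 0 :=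
  hv.1

theorem mem_Rad_of_eq {u u' : ι → F} {hu : Q u = 0} (hu' : Q u' = 0) {v v' : ι → F}
    (hv : v ∈ Rad H u hu) (h1 : u = u') (h2 : v = v') : v' ∈ Rad H u' hu' := by
  subst h1; subst h2; exact hv

/-- conjugation by an element of `H` -/
theorem Rad_conj {g : ↥(Cfsg.isometryGroup F ⇑Q)} (hg : g ∈ H) {u : ι → F} {hu : Q u = 0}
    {v : ι → F} (hv : v ∈ Rad H u hu) (hu' : Q (mt Q g *ᵥ u) = 0) :
    mt Q g *ᵥ v ∈ Rad H (mt Q g *ᵥ u) hu' := by
  obtain ⟨huv, hmem⟩ := hv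
  have huv' : B Q (mt Q g *ᵥ u) (mt Q g *ᵥ v) = 0 := by rw [B_isom]; exact huv
  refine ⟨huv', ?_⟩
  rw [← siegO_conj Q g hu huv hu' huv']
  exact H.mul_mem (H.mul_mem hg hmem) (H.inv_mem hg)

theorem Q_isom (g : ↥(Cfsg.isometryGroup F ⇑Q)) (u : ι → F) : Q (mt Q g *ᵥ u) = Q u :=
  Cfsg.Agent.Helper28.Spin.isom_apply Q g u

theorem Rad_conj' {g : ↥(Cfsg.isometryGroup F ⇑Q)} (hg : g ∈ H) {u : ι → F} {hu : Q u = 0}
    {v : ι → F} (hv : v ∈ Rad H u hu) {u' v' : ι → F} (hu' : Q u' = 0)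
    (h1 : mt Q g *ᵥ u = u') (h2 : mt Q g *ᵥ v = v') : v' ∈ Rad H u' hu' := by
  subst h1; subst h2
  exact Rad_conj hg hv _

/-- multiples of `u` itself -/
theorem smul_self_mem_Rad {u : ι → F} (hu : Q u = 0) (c : F) : c • u ∈ Rad H u hu := by
  have h0 : B Q u (0 : ι → F) = 0 := QuadraticMap.polar_zero_right _ _
  have h1 : B Q u (0 + c • u) = 0 := by
    rw [zero_add]; exact B_smul_right_zero Q c (B_self_of_singular Q hu)
  have := siegO_add_smul_self (Q := Q) c hu h0 h1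
  refine ⟨by rw [zero_add] at h1; exact h1, ?_⟩
  have e : siegO Q u (c • u) hu (by rw [zero_add] at h1; exact h1) = siegO Q u (0 + c • u) hu h1 :=
    siegO_congr Q hu _ hu _ rfl (zero_add _).symm
  rw [e, this, siegO_zero]
  exact H.one_mem

/-- scaling the singular vector -/
theorem Rad_smul_left {u : ι → F} (hu : Q u = 0) (c : F) (hcu : Q (c • u) = 0) {v : ι → F}
    (hv : v ∈ Rad H (c • u) hcu) : c • v ∈ Rad H u hu := by
  obtain ⟨huv, hmem⟩ := hv
  by_cases hc : c = 0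
  · subst hc; rw [zero_smul]; exact (Rad H u hu).zero_mem
  have huv0 : B Q u v = 0 := by
    have : B Q (c • u) v = c * B Q u v := by
      show QuadraticMap.polar ⇑Q (c • u) v = _
      rw [QuadraticMap.polar_smul_left]; rfl
    rw [this] at huv
    exact (mul_eq_zero.mp huv).resolve_left hc
  have h3 : B Q u (c • v) = 0 := B_smul_right_zero Q c huv0
  refine ⟨h3, ?_⟩
  rw [← siegO_smul (Q := Q) c hu huv0 hcu huv h3]
  exact hmem

theorem Rad_smul_left' {u : ι → F} (hu : Q u = 0) (c : F) (hcu : Q (c • u) = 0) {v : ι → F}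
    (hv : c • v ∈ Rad H u hu) (hc : c ≠ 0) : v ∈ Rad H (c • u) hcu := by
  obtain ⟨huv, hmem⟩ := hv
  have huv0 : B Q u v = 0 := by
    have : B Q u (c • v) = c * B Q u v := by
      show QuadraticMap.polar ⇑Q u (c • v) = _
      rw [QuadraticMap.polar_smul_right]; rfl
    rw [this] at huv
    exact (mul_eq_zero.mp huv).resolve_left hc
  have h3 : B Q (c • u) v = 0 := B_smul_left_zero Q c huv0
  refine ⟨h3, ?_⟩
  rw [siegO_smul (Q := Q) c hu huv0 hcu h3 huv]
  exact hmem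

/-- swapping two singular orthogonal vectors -/
theorem siegO_swap {u v : ι → F} (hu : Q u = 0) (hv : Q v = 0) (huv : B Q u v = 0)
    (hvu : B Q v (-u) = 0) : siegO Q u v hu huv = siegO Q v (-u) hv hvu := by
  apply O_ext
  intro x
  rw [siegO_mulVec, siegO_mulVec, hv]
  have : Q (-u) = 0 := by rw [QuadraticMap.map_neg, hu]
  rw [this]
  simp only [B, QuadraticMap.polar_neg_left]
  module

theorem Rad_swap {u v : ι → F} {hu : Q u = 0} (hv : Q v = 0) (h : v ∈ Rad H u hu) :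
    u ∈ Rad H v hv := by
  obtain ⟨huv, hmem⟩ := h
  have hvu : B Q v (-u) = 0 := by rw [B_neg_right, B_comm, huv, neg_zero]
  have : -u ∈ Rad H v hv := ⟨hvu, by rw [← siegO_swap hu hv huv hvu]; exact hmem⟩
  simpa using (Rad H v hv).neg_mem this

/-- the commutator relation -/
theorem Rad_comm {u u' v v' : ι → F} {hu : Q u = 0} {hu' : Q u' = 0}
    (hv : v ∈ Rad H u hu) (hv' : v' ∈ Rad H u' hu')
    (h1 : B Q u u' = 0) (h2 : B Q u v' = 0) (h3 : B Q u' v = 0) :
    B Q v' v • u' ∈ Rad H u hu := by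
  obtain ⟨huv, hmem⟩ := hv
  obtain ⟨huv', hmem'⟩ := hv'
  have hfix : mt Q (siegO Q u' v' hu' huv') *ᵥ u = u := by
    rw [siegO_mulVec, B_comm Q u' u, h1, B_comm Q v' u, h2]
    simp
  have hgv : mt Q (siegO Q u' v' hu' huv') *ᵥ v - v = (- B Q v' v) • u' := by
    rw [siegO_mulVec, h3]
    module
  have h' : B Q u (mt Q (siegO Q u' v' hu' huv') *ᵥ v - v) = 0 := by
    rw [hgv]; exact B_smul_right_zero Q _ h1
  have hc := comm_siegO (Q := Q) (siegO Q u' v' hu' huv') hu huv hfix h'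
  have hmem2 : mt Q (siegO Q u' v' hu' huv') *ᵥ v - v ∈ Rad H u hu := by
    refine ⟨h', ?_⟩
    rw [← hc]
    exact H.mul_mem (H.mul_mem (H.mul_mem hmem' hmem) (H.inv_mem hmem')) (H.inv_mem hmem)
  rw [hgv] at hmem2
  have := (Rad H u hu).neg_mem hmem2
  rwa [← neg_smul, neg_neg] at this

end Cfsg.Agent.Helper12.OrthGen
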