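import Mathlib
import Cfsg.Agent.Helper12.OrthGenA

set_option autoImplicit false
set_option linter.unusedSectionVars false
set_option linter.unusedVariables false

/-! The criterion: a subgroup containing `E(e, w)` and `E(f, w)` for all `w ⊥ e, f` (`e, f` a
hyperbolic pair) contains all Siegel transformations. -/

namespace Cfsg.Agent.Helper12.OrthGen

open Matrix Cfsg.Agent.Helper28.Sg Cfsg.Agent.Helper28.Spin

variable {F : Type*} [Field F] {ι : Type} [Fintype ι] [DecidableEq ι]
  {Q : QuadraticForm F (ι → F)}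

/-- hyperbolic pair -/
structure HypPair (Q : QuadraticForm F (ι → F)) (e f : ι → F) : Prop where
  Qe : Q e = 0
  Qf : Q f = 0
  Bef : B Q e f = 1

namespace HypPair

variable {e f : ι → F} (hp : HypPair Q e f)
include hp

theorem Bfe : B Q f e = 1 := by rw [B_comm]; exact hp.Bef

theorem Bee : B Q e e = 0 := B_self_of_singular Q hp.Qe

theorem Bff : B Q f f = 0 := B_self_of_singular Q hp.Qf

/-- decomposition of a vector along the hyperbolic pair -/
theorem decomp (u : ι → F) :
    ∃ w : ι → F, u = B Q f u • e + B Q e u • f + w ∧ B Q e w = 0 ∧ B Q f w = 0 := by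
  refine ⟨u - B Q f u • e - B Q e u • f, by module, ?_, ?_⟩
  · simp only [B, QuadraticMap.polar_sub_right, QuadraticMap.polar_smul_right, smul_eq_mul]
    have h1 := hp.Bee; have h2 := hp.Bef
    simp only [B] at h1 h2
    rw [h1, h2]; ring
  · simp only [B, QuadraticMap.polar_sub_right, QuadraticMap.polar_smul_right, smul_eq_mul]
    have h1 := hp.Bff; have h2 := hp.Bfe
    simp only [B] at h1 h2
    rw [h1, h2]; ring

theorem Q_decomp (a b : F) {w : ι → F} (hew : B Q e w = 0) (hfw : B Q f w = 0) :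
    Q (a • e + b • f + w) = a * b + Q w := by
  rw [Q_add, Q_add, Q_smul, Q_smul, hp.Qe, hp.Qf]
  have h2 := hp.Bef
  simp only [B] at h2 hew hfw
  simp only [B, QuadraticMap.polar_add_left, QuadraticMap.polar_smul_left,
    QuadraticMap.polar_smul_right, smul_eq_mul, h2, hew, hfw]
  ring

end HypPair

variable {H : Subgroup ↥(Cfsg.isometryGroup F ⇑Q)} {e f : ι → F}

/-- first move: kill the part orthogonal to the pair when the `e`-coefficient is nonzero -/
theorem move_one (hp : HypPair Q e f) {a b : F} {w : ι → F} (ha : a ≠ 0) (hew : B Q e w = 0)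
    (hfw : B Q f w = 0) (hQ0 : Q (a • e + b • f + w) = 0)
    (h' : B Q f ((-a⁻¹) • w) = 0) :
    mt Q (siegO Q f ((-a⁻¹) • w) hp.Qf h') *ᵥ (a • e + b • f + w) = a • e := by
  rw [hp.Q_decomp a b hew hfw] at hQ0
  have hQw : Q w = -(a * b) := by linear_combination hQ0
  rw [siegO_mulVec, Q_smul, hQw]
  have h1 := hp.Bfe; have h2 := hp.Bff
  have hww : B Q w w = 2 * Q w := B_self Q w
  have hwe : B Q w e = 0 := by rw [B_comm]; exact hew
  have hwf : B Q w f = 0 := by rw [B_comm]; exact hfw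
  simp only [B] at h1 h2 hww hwe hwf hfw hew
  simp only [B, QuadraticMap.polar_add_right, QuadraticMap.polar_smul_right,
    QuadraticMap.polar_smul_left, smul_eq_mul, h1, h2, hww, hwe, hwf, hfw, hQw]
  ext i
  simp only [Pi.add_apply, Pi.sub_apply, Pi.smul_apply, smul_eq_mul]
  field_simp
  ring

/-- the same with the roles of `e` and `f` exchanged -/
theorem HypPair.symm (hp : HypPair Q e f) : HypPair Q f e := ⟨hp.Qf, hp.Qe, hp.Bfe⟩

/-- moving a nonzero singular vector to a multiple of `e` -/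
theorem exists_move (hQ : (QuadraticMap.polarBilin Q).Nondegenerate) (hp : HypPair Q e f)
    (hE : ∀ w, B Q e w = 0 → B Q f w = 0 → w ∈ Rad H e hp.Qe)
    (hF : ∀ w, B Q e w = 0 → B Q f w = 0 → w ∈ Rad H f hp.Qf)
    {w₀ : ι → F} (h0e : B Q e w₀ = 0) (h0f : B Q f w₀ = 0) (h0 : Q w₀ ≠ 0)
    {u : ι → F} (hu : Q u = 0) (hu0 : u ≠ 0) :
    ∃ h ∈ H, ∃ a : F, a ≠ 0 ∧ mt Q h *ᵥ u = a • e := by
  -- step 1: the case of a nonzero `e`-coefficient
  have step1 : ∀ (a b : F) (w : ι → F), a ≠ 0 → B Q e w = 0 → B Q f w = 0 →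
      Q (a • e + b • f + w) = 0 →
      ∃ h ∈ H, ∃ a' : F, a' ≠ 0 ∧ mt Q h *ᵥ (a • e + b • f + w) = a' • e := by
    intro a b w ha hew hfw hQ0
    have h' : B Q f ((-a⁻¹) • w) = 0 := B_smul_right_zero Q _ hfw
    have hmem := hF ((-a⁻¹) • w) (B_smul_right_zero Q _ hew) h'
    exact ⟨_, hmem.2, a, ha, move_one hp ha hew hfw hQ0 h'⟩
  -- step 2: nonzero `f`-coefficient
  have step2 : ∀ (b : F) (w : ι → F), b ≠ 0 → B Q e w = 0 → B Q f w = 0 →
      Q ((0 : F) • e + b • f + w) = 0 →
      ∃ h ∈ H, ∃ a' : F, a' ≠ 0 ∧ mt Q h *ᵥ ((0 : F) • e + b • f + w) = a' • e := by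
    intro b w hb hew hfw hQ0
    have h' : B Q e ((-b⁻¹) • w) = 0 := B_smul_right_zero Q _ hew
    have hmem := hE ((-b⁻¹) • w) h' (B_smul_right_zero Q _ hfw)
    have hQ0' : Q (b • f + (0 : F) • e + w) = 0 := by
      rw [add_comm (b • f)]; exact hQ0
    have e1 := move_one hp.symm hb hfw hew hQ0' h'
    -- now `b • f`, move it by `E(e, w₀)`
    have hmem0 := hE w₀ h0e h0f
    have e2 : mt Q (siegO Q e w₀ hp.Qe h0e) *ᵥ (b • f) =
        (-(b * Q w₀)) • e + b • f + b • w₀ := by
      rw [siegO_mulVec]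
      have h1 := hp.Bef
      have hwf : B Q w₀ f = 0 := by rw [B_comm]; exact h0f
      simp only [B] at h1 hwf
      simp only [B, QuadraticMap.polar_smul_right, smul_eq_mul, h1, hwf]
      module
    have hQ3 : Q ((-(b * Q w₀)) • e + b • f + b • w₀) = 0 := by
      rw [← e2, Q_isom, Q_smul, hp.Qf, mul_zero]
    obtain ⟨h3, hh3, a', ha', e3⟩ := step1 (-(b * Q w₀)) b (b • w₀)
      (neg_ne_zero.mpr (mul_ne_zero hb h0)) (B_smul_right_zero Q _ h0e)
      (B_smul_right_zero Q _ h0f) hQ3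
    refine ⟨h3 * (siegO Q e w₀ hp.Qe h0e * siegO Q e ((-b⁻¹) • w) hp.Qe h'),
      H.mul_mem hh3 (H.mul_mem hmem0.2 hmem.2), a', ha', ?_⟩
    rw [mt_mul_mulVec, mt_mul_mulVec, add_comm ((0 : F) • e) (b • f), e1, e2, e3]
  obtain ⟨w, huw, hew, hfw⟩ := hp.decomp u
  by_cases ha : B Q f u = 0
  · by_cases hb : B Q e u = 0
    · -- `u = w` lies in the orthogonal complement of the pair
      rw [ha, hb, zero_smul, zero_smul, zero_add, zero_add] at huw
      subst huw
      -- find `y` with `B(u, y) ≠ 0`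
      obtain ⟨y, hy⟩ : ∃ y, B Q u y ≠ 0 := by
        by_contra hcon
        push Not at hcon
        apply hu0
        have := hQ.1 u (fun y => by
          have := hcon y
          simpa [B] using this)
        exact this
      obtain ⟨y₁, hy₁, hey, hfy⟩ := hp.decomp y
      have huy₁ : B Q u y₁ ≠ 0 := by
        intro h
        apply hy
        rw [hy₁]
        simp only [B, QuadraticMap.polar_add_right, QuadraticMap.polar_smul_right, smul_eq_mul]
        have h1 : B Q u e = 0 := by rw [B_comm]; exact hew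
        have h2 : B Q u f = 0 := by rw [B_comm]; exact hfw
        simp only [B] at h1 h2 h
        rw [h1, h2, h]; ring
      have hmem := hF y₁ hey hfy
      have e1 : mt Q (siegO Q f y₁ hp.Qf hfy) *ᵥ u = (0 : F) • e + (-(B Q y₁ u)) • f + u := by
        rw [siegO_mulVec, hfw]
        module
      have hQ1 : Q ((0 : F) • e + (-(B Q y₁ u)) • f + u) = 0 := by
        rw [← e1, Q_isom, hu]
      obtain ⟨h2, hh2, a', ha', e2⟩ := step2 (-(B Q y₁ u)) u
        (neg_ne_zero.mpr (by rw [B_comm]; exact huy₁)) hew hfw hQ1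
      refine ⟨h2 * siegO Q f y₁ hp.Qf hfy, H.mul_mem hh2 hmem.2, a', ha', ?_⟩
      rw [mt_mul_mulVec, e1, e2]
    · rw [ha] at huw
      rw [huw]
      apply step2 _ _ hb hew hfw
      rw [← huw]; exact hu
  · rw [huw]
    apply step1 _ _ _ ha hew hfw
    rw [← huw]; exact hu

/-- **The criterion.** -/
theorem S_le_of_rad (hQ : (QuadraticMap.polarBilin Q).Nondegenerate) (hp : HypPair Q e f)
    (hE : ∀ w, B Q e w = 0 → B Q f w = 0 → w ∈ Rad H e hp.Qe)
    (hF : ∀ w, B Q e w = 0 → B Q f w = 0 → w ∈ Rad H f hp.Qf)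
    {w₀ : ι → F} (h0e : B Q e w₀ = 0) (h0f : B Q f w₀ = 0) (h0 : Q w₀ ≠ 0) :
    S Q ≤ H := by
  unfold S
  rw [Subgroup.closure_le]
  rintro g ⟨u, v, hu, huv, rfl⟩
  show siegO Q u v hu huv ∈ H
  by_cases hu0 : u = 0
  · subst hu0
    rw [siegO_zero_left]
    exact H.one_mem
  obtain ⟨h, hh, a, ha, hmove⟩ := exists_move hQ hp hE hF h0e h0f h0 hu hu0
  -- `E(u, v) = h⁻¹ E(a e, h v) h`
  have hae : Q (a • e) = 0 := by rw [Q_smul, hp.Qe, mul_zero]
  have hu' : Q (mt Q h *ᵥ u) = 0 := by rw [Q_isom]; exact hu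
  have huv' : B Q (mt Q h *ᵥ u) (mt Q h *ᵥ v) = 0 := by rw [B_isom]; exact huv
  have hconj := siegO_conj Q h hu huv hu' huv'
  have hkey : siegO Q (mt Q h *ᵥ u) (mt Q h *ᵥ v) hu' huv' ∈ H := by
    -- the vector `v' = h v` is orthogonal to `a e`
    set v' := mt Q h *ᵥ v with hv'
    have hev' : B Q e v' = 0 := by
      have : B Q (a • e) v' = 0 := by rw [← hmove]; exact huv'
      have e1 : B Q (a • e) v' = a * B Q e v' := by
        show QuadraticMap.polar ⇑Q (a • e) v' = _
        rw [QuadraticMap.polar_smul_left]; rfl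
      rw [e1] at this
      exact (mul_eq_zero.mp this).resolve_left ha
    obtain ⟨w, hvw, hew, hfw⟩ := hp.decomp v'
    rw [hev', zero_smul, add_zero] at hvw
    -- `v' = c e + w`
    have hw : w ∈ Rad H e hp.Qe := hE w hew hfw
    have hv'mem : v' ∈ Rad H e hp.Qe := by
      rw [hvw]
      exact (Rad H e hp.Qe).add_mem (smul_self_mem_Rad hp.Qe _) hw
    have h2 : a • v' ∈ Rad H e hp.Qe := by
      obtain ⟨p1, p2⟩ := hv'mem
      have : a • v' = v' + (a - 1) • v' := by module
      -- use the additive structure over multiples is not available; use scaling via `hE`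
      have hw' : a • w ∈ Rad H e hp.Qe :=
        hE (a • w) (B_smul_right_zero Q _ hew) (B_smul_right_zero Q _ hfw)
      rw [hvw, smul_add, smul_smul]
      exact (Rad H e hp.Qe).add_mem (smul_self_mem_Rad hp.Qe _) hw'
    have h3 := Rad_smul_left' hp.Qe a hae h2 ha
    exact (mem_Rad_of_eq hu' h3 hmove.symm rfl).2
  have : siegO Q u v hu huv = h⁻¹ * siegO Q (mt Q h *ᵥ u) (mt Q h *ᵥ v) hu' huv' * h := by
    rw [← hconj]; group
  rw [this]
  exact H.mul_mem (H.mul_mem (H.inv_mem hh) hkey) hh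

end Cfsg.Agent.Helper12.OrthGen
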