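import Cfsg.Agent.Helper12.S5702Lib

set_option autoImplicit false
set_option linter.unusedSectionVars false
set_option linter.unusedVariables false

/-! # S5702: definitions for the transfer argument (the plane root group `R_π`)

`π = ⟨e_{κ 0}, e_{κ 1}, e_{κ 2}⟩` (a rational totally singular plane), `lin3 κ c = Σ c_k e_{κ k}`,
`xi3 κ x = (B(e_{κ k}, x))_k`, `rho a b κ t : x ↦ x + lin3 κ (t ⨯₃ xi3 κ x)` (the elements of the centre `Λ²π`
of the unipotent radical of the stabiliser of `π`; each is a long root element whose line lies in `π`),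
`Rgrp F₀ κ` (the rational ones), `Dgrp F₀ κ g = ⟨Rgrp, g⟩`, `Jmap v w x = B(x,v) w - B(x,w) v`
(`= (E(v,w) - 1) x`), `Tens`, `FixW`. -/

namespace Cfsg.Agent.S5702P

open Matrix Cfsg.Agent.Helper28.Sg Cfsg.Agent.Helper28.Spin Cfsg.Agent.Helper12.OrthGen
  Cfsg.Agent.S5683P

variable {F : Type*} [Field F] {m : ℕ} {a b : F}

/-- the vector `Σ_k c_k e_{κ k}` of the plane `π` -/
def lin3 (κ : Fin 3 → Fin m) (c : Fin 3 → F) : Idx m → F := ∑ k, c k • ee F (κ k)

/-- the pairings `B(e_{κ k}, x)` (they are coordinates of `x`) -/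
def xi3 (κ : Fin 3 → Fin m) (x : Idx m → F) : Fin 3 → F := fun k => x (Sum.inl (Sum.inr (κ k)))

theorem xi3_eq_B (κ : Fin 3 → Fin m) (x : Idx m → F) (k : Fin 3) :
    xi3 κ x k = B (QfMinus m F a b) (ee F (κ k)) x := (B_ee _ _).symm

theorem xi3_add (κ : Fin 3 → Fin m) (x y : Idx m → F) : xi3 κ (x + y) = xi3 κ x + xi3 κ y := rfl

theorem xi3_smul (κ : Fin 3 → Fin m) (c : F) (x : Idx m → F) : xi3 κ (c • x) = c • xi3 κ x := rfl

theorem xi3_ee (κ : Fin 3 → Fin m) (i : Fin m) : xi3 κ (ee F i) = 0 := by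
  funext k
  simp [xi3, ee]

theorem xi3_lin3 (κ : Fin 3 → Fin m) (c : Fin 3 → F) : xi3 κ (lin3 κ c) = 0 := by
  funext k
  simp [xi3, lin3, ee, Finset.sum_apply]

theorem lin3_add (κ : Fin 3 → Fin m) (c c' : Fin 3 → F) :
    lin3 κ (c + c') = lin3 κ c + lin3 κ c' := by
  simp [lin3, add_smul, Finset.sum_add_distrib]

theorem lin3_smul (κ : Fin 3 → Fin m) (s : F) (c : Fin 3 → F) :
    lin3 κ (s • c) = s • lin3 κ c := by
  simp [lin3, Finset.smul_sum, smul_smul]

theorem lin3_zero (κ : Fin 3 → Fin m) : lin3 κ (0 : Fin 3 → F) = 0 := by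
  simp [lin3]

theorem lin3_single (κ : Fin 3 → Fin m) (k : Fin 3) :
    lin3 κ (Pi.single k (1 : F)) = ee F (κ k) := by
  simp [lin3, Pi.single_apply, Finset.sum_ite_eq']

/-- the pairing of a vector of `π` with an arbitrary vector -/
theorem B_lin3 (κ : Fin 3 → Fin m) (c : Fin 3 → F) (x : Idx m → F) :
    B (QfMinus m F a b) (lin3 κ c) x = c ⬝ᵥ xi3 κ x := by
  unfold lin3
  rw [show (B (QfMinus m F a b) (∑ k, c k • ee F (κ k)) x) =
    QuadraticMap.polarBilin (QfMinus m F a b) (∑ k, c k • ee F (κ k)) x from rfl, map_sum,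
    LinearMap.sum_apply]
  unfold dotProduct
  apply Finset.sum_congr rfl
  intro k _
  rw [map_smul, LinearMap.smul_apply, smul_eq_mul]
  congr 1
  exact B_ee _ _

theorem B_lin3_lin3 (κ : Fin 3 → Fin m) (c c' : Fin 3 → F) :
    B (QfMinus m F a b) (lin3 κ c) (lin3 κ c') = 0 := by
  rw [B_lin3, xi3_lin3, dotProduct_zero]

theorem Q_lin3 (κ : Fin 3 → Fin m) (c : Fin 3 → F) : QfMinus m F a b (lin3 κ c) = 0 := by
  rw [Q_apply]
  have h1 : ∀ i : Fin m, lin3 κ c (Sum.inl (Sum.inr i)) = 0 := by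
    intro i
    simp [lin3, ee, Finset.sum_apply]
  have h2 : ∀ u : Fin 2, lin3 κ c (Sum.inr u) = 0 := by
    intro u
    simp [lin3, ee, Finset.sum_apply]
  simp [h1, h2]

theorem rho_aux1 (κ : Fin 3 → Fin m) (t : Fin 3 → F) :
    B (QfMinus m F a b) (ee F (κ 0)) (t 2 • ee F (κ 1) - t 1 • ee F (κ 2)) = 0 := by
  rw [B_ee]
  simp [ee]

theorem rho_aux2 (κ : Fin 3 → Fin m) (t : Fin 3 → F) :
    B (QfMinus m F a b) (ee F (κ 1)) (t 0 • ee F (κ 2)) = 0 := by
  rw [B_ee]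
  simp [ee]

/-- the element `x ↦ x + lin3 κ (t ⨯₃ xi3 κ x)` of the centre of the unipotent radical of the stabiliser
of `π`, as a product of two Siegel transformations -/
noncomputable def rho (a b : F) (κ : Fin 3 → Fin m) (t : Fin 3 → F) : OG m F a b :=
  siegO (QfMinus m F a b) (ee F (κ 0)) (t 2 • ee F (κ 1) - t 1 • ee F (κ 2)) (Q_ee _)
      (rho_aux1 κ t) *
    siegO (QfMinus m F a b) (ee F (κ 1)) (t 0 • ee F (κ 2)) (Q_ee _) (rho_aux2 κ t)

/-- the action of `rho` -/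
theorem rho_mulVec (κ : Fin 3 → Fin m) (hκ : Function.Injective κ) (t : Fin 3 → F)
    (x : Idx m → F) :
    mt (QfMinus m F a b) (rho a b κ t) *ᵥ x = x + lin3 κ (t ⨯₃ xi3 κ x) := by
  have h01 : κ 0 ≠ κ 1 := fun h => by simpa using hκ h
  have h02 : κ 0 ≠ κ 2 := fun h => by simpa using hκ h
  have h12 : κ 1 ≠ κ 2 := fun h => by simpa using hκ h
  unfold rho
  rw [mt_mul_mulVec, siegO_mulVec, siegO_mulVec]
  have hQ1 : QfMinus m F a b (t 0 • ee F (κ 2)) = 0 := by rw [Q_smul, Q_ee, mul_zero]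
  have hQ2 : QfMinus m F a b (t 2 • ee F (κ 1) - t 1 • ee F (κ 2)) = 0 := by
    have := Q_lin3 (a := a) (b := b) κ ![0, t 2, -t 1]
    have e : lin3 κ ![0, t 2, -t 1] = t 2 • ee F (κ 1) - t 1 • ee F (κ 2) := by
      simp [lin3, Fin.sum_univ_three]
      module
    rwa [e] at this
  rw [hQ1, hQ2]
  simp only [zero_mul, zero_smul, sub_zero]
  -- now compare coordinates
  simp only [B, QuadraticMap.polar_add_right, QuadraticMap.polar_sub_right,
    QuadraticMap.polar_smul_right, QuadraticMap.polar_sub_left, QuadraticMap.polar_smul_left,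
    smul_eq_mul]
  have e00 : QuadraticMap.polar ⇑(QfMinus m F a b) (ee F (κ 0)) (ee F (κ 2)) = 0 := by
    have := B_ee (a := a) (b := b) (κ 0) (ee F (κ 2)); simp only [B] at this; rw [this]; simp [ee]
  have e01 : QuadraticMap.polar ⇑(QfMinus m F a b) (ee F (κ 0)) (ee F (κ 1)) = 0 := by
    have := B_ee (a := a) (b := b) (κ 0) (ee F (κ 1)); simp only [B] at this; rw [this]; simp [ee]
  have e10 : QuadraticMap.polar ⇑(QfMinus m F a b) (ee F (κ 1)) (ee F (κ 2)) = 0 := by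
    have := B_ee (a := a) (b := b) (κ 1) (ee F (κ 2)); simp only [B] at this; rw [this]; simp [ee]
  have e11 : QuadraticMap.polar ⇑(QfMinus m F a b) (ee F (κ 1)) (ee F (κ 1)) = 0 := by
    have := B_ee (a := a) (b := b) (κ 1) (ee F (κ 1)); simp only [B] at this; rw [this]; simp [ee]
  have e21 : QuadraticMap.polar ⇑(QfMinus m F a b) (ee F (κ 2)) (ee F (κ 1)) = 0 := by
    have := B_ee (a := a) (b := b) (κ 2) (ee F (κ 1)); simp only [B] at this; rw [this]; simp [ee]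
  have e22 : QuadraticMap.polar ⇑(QfMinus m F a b) (ee F (κ 2)) (ee F (κ 2)) = 0 := by
    have := B_ee (a := a) (b := b) (κ 2) (ee F (κ 2)); simp only [B] at this; rw [this]; simp [ee]
  have x0 : QuadraticMap.polar ⇑(QfMinus m F a b) (ee F (κ 0)) x = xi3 κ x 0 := by
    have := B_ee (a := a) (b := b) (κ 0) x; simp only [B] at this; rw [this]; rfl
  have x1 : QuadraticMap.polar ⇑(QfMinus m F a b) (ee F (κ 1)) x = xi3 κ x 1 := by
    have := B_ee (a := a) (b := b) (κ 1) x; simp only [B] at this; rw [this]; rfl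
  have x2 : QuadraticMap.polar ⇑(QfMinus m F a b) (ee F (κ 2)) x = xi3 κ x 2 := by
    have := B_ee (a := a) (b := b) (κ 2) x; simp only [B] at this; rw [this]; rfl
  rw [e00, e01, e10, e11, e21, e22, x0, x1, x2]
  simp only [lin3, Fin.sum_univ_three, cross_apply, Matrix.cons_val_zero, Matrix.cons_val_one,
    Matrix.cons_val_two, Matrix.head_cons, Matrix.tail_cons]
  module

/-- the rational part of `Λ²π` -/
def Rgrp (F₀ : Subfield F) (a b : F) (κ : Fin 3 → Fin m) : Subgroup (OG m F a b) :=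
  Subgroup.closure {g | ∃ t : Fin 3 → F, (∀ k, t k ∈ F₀) ∧ g = rho a b κ t}

/-- the group generated by `R_π(F₀)` and `g` -/
def Dgrp (F₀ : Subfield F) (κ : Fin 3 → Fin m) (g : OG m F a b) : Subgroup (OG m F a b) :=
  Rgrp F₀ a b κ ⊔ Subgroup.zpowers g

/-- `(E(v,w) - 1) x = B(x,v) w - B(x,w) v` -/
def Jmap (a b : F) (v w x : Idx m → F) : Idx m → F :=
  B (QfMinus m F a b) x v • w - B (QfMinus m F a b) x w • v

/-- `d` fixes pointwise the orthogonal complement of `π + ⟨v, w⟩` -/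
def FixW (κ : Fin 3 → Fin m) (v w : Idx m → F) (d : OG m F a b) : Prop :=
  ∀ x : Idx m → F, xi3 κ x = 0 → B (QfMinus m F a b) v x = 0 → B (QfMinus m F a b) w x = 0 →
    mt (QfMinus m F a b) d *ᵥ x = x

/-- `d` acts on `(π + ⟨v, w⟩)/p` as `!![α, β; γ, δ] ⊗ 1` with respect to `π ⊕ J π` -/
def Tens (κ : Fin 3 → Fin m) (v w p : Idx m → F) (d : OG m F a b) : Prop :=
  ∃ α β γ δ : F,
    (∀ c : Fin 3 → F, ∃ s : F, mt (QfMinus m F a b) d *ᵥ lin3 κ c =
      α • lin3 κ c + γ • Jmap a b v w (lin3 κ c) + s • p) ∧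
    (∀ c : Fin 3 → F, ∃ s : F, mt (QfMinus m F a b) d *ᵥ Jmap a b v w (lin3 κ c) =
      β • lin3 κ c + δ • Jmap a b v w (lin3 κ c) + s • p)

/-- `F₀`-linear independence of the three coordinates of `p` -/
def Indep3 (F₀ : Subfield F) (γ : Fin 3 → F) : Prop :=
  ∀ t : Fin 3 → F, (∀ k, t k ∈ F₀) → t ⬝ᵥ γ = 0 → t = 0

end Cfsg.Agent.S5702P
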