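import Mathlib
import Cfsg.Agent.Helper25.QPSwap
import Cfsg.Agent.Helper18.SL2Ext5
import Cfsg.Agent.Helper19.QPFIT
import Cfsg.Agent.Helper14.QPVANU
import Cfsg.Agent.Helper3.QPUNIPM1
import Cfsg.Agent.Helper20.QPIDEM
import Cfsg.Agent.Helper21.QPFAITH
import Cfsg.Agent.Helper7.QPS5060R
import Cfsg.Agent.Helper25.QPLEMG
import Cfsg.Agent.Helper6.QPSTEP3

set_option autoImplicit false
set_option linter.unusedVariables false

/-! Quadratic pairs, piece THMA: Theorem A (`a` and `b` vanish on the Fitting null component). -/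

noncomputable section

namespace Cfsg.Agent.QPP

open Cfsg Cfsg.Agent.Helper25.QP Cfsg.Agent.Helper25.QuadPair Polynomial

variable {k : Type*} [Field k] {M : Type*} [AddCommGroup M] [Module k M]

local notation "GLkM" => LinearMap.GeneralLinearGroup k M

/-- `f(z)` commutes with `z` on vectors -/
theorem thma_aeval_z (z : Module.End k M) (f : k[X]) (v : M) :
    aeval z f (z v) = z (aeval z f v) := by
  have h := (commute_aeval_of_commute (Commute.refl z) f).eq
  exact congrArg (fun w : Module.End k M => w v) h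

/-- `(X f)(z) v = f(z) (z v)` -/
theorem thma_aeval_X_mul (z : Module.End k M) (f : k[X]) (v : M) :
    aeval z (X * f) v = aeval z f (z v) := by
  rw [map_mul, aeval_X, Module.End.mul_apply, thma_aeval_z]

/-- a multiple of `p` kills the vectors killed by `p(z)` -/
theorem thma_dvd (z : Module.End k M) {p f : k[X]} (hd : p ∣ f) {v : M} (hv : aeval z p v = 0) :
    aeval z f v = 0 := by
  obtain ⟨c, rfl⟩ := hd
  rw [mul_comm, map_mul, Module.End.mul_apply, hv, map_zero]

/-- the action of an element of the pair group on `A₁` -/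
theorem thma_apply_A {a b : Module.End k M} (ha : a * a = 0) (hb : b * b = 0)
    {x : GLkM × Matrix.SpecialLinearGroup (Fin 2) k[X]} {P : Co k} (h : Coords a b x P)
    {u : M} (hu : u ∈ A1 a b) :
    (x.1 : Module.End k M) u = aeval (zz a b) (Co.al P) u + aeval (zz a b) P.s (b u) ∧
      a ((x.1 : Module.End k M) u) = aeval (zz a b) (Co.ga P) u := by
  have hau : a u = 0 := LinearMap.mem_ker.mp hu.2
  have habu : a (b u) = zz a b u := by
    simp [zz, hau]
  have cza := fun f : k[X] => fun v : M =>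
    congrArg (fun w : Module.End k M => w v) (commute_aeval_a (a := a) (b := b) ha f).eq
  have h1 : (x.1 : Module.End k M) u
      = aeval (zz a b) (Co.al P) u + aeval (zz a b) P.s (b u) := by
    rw [h.2]
    simp only [opn, Co.al, LinearMap.add_apply, Module.End.one_apply, Module.End.mul_apply, hau,
      map_zero, habu, add_zero, map_add, map_one]
    rw [thma_aeval_X_mul, add_assoc]
  refine ⟨h1, ?_⟩
  rw [h1, map_add]
  have e1 : a (aeval (zz a b) (Co.al P) u) = 0 := by
    have := cza (Co.al P) u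
    simp only [Module.End.mul_apply] at this
    rw [← this, hau, map_zero]
  have e2 : a (aeval (zz a b) P.s (b u)) = aeval (zz a b) (Co.ga P) u := by
    have := cza P.s (b u)
    simp only [Module.End.mul_apply] at this
    rw [← this, habu, Co.ga, thma_aeval_X_mul]
  rw [e1, e2, zero_add]

/-- the action of an element of the pair group on `B₁` -/
theorem thma_apply_B {a b : Module.End k M} (ha : a * a = 0) (hb : b * b = 0)
    {x : GLkM × Matrix.SpecialLinearGroup (Fin 2) k[X]} {P : Co k} (h : Coords a b x P)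
    {u : M} (hu : u ∈ B1 a b) :
    (x.1 : Module.End k M) u = aeval (zz a b) (Co.de P) u + aeval (zz a b) P.q (a u) ∧
      b ((x.1 : Module.End k M) u) = aeval (zz a b) (X * Co.be P) u := by
  have hbu : b u = 0 := LinearMap.mem_ker.mp hu.2
  have hbau : b (a u) = zz a b u := by
    simp [zz, hbu]
  have czb := fun f : k[X] => fun v : M =>
    congrArg (fun w : Module.End k M => w v) (commute_aeval_b (a := a) (b := b) hb f).eq
  have h1 : (x.1 : Module.End k M) u
      = aeval (zz a b) (Co.de P) u + aeval (zz a b) P.q (a u) := by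
    rw [h.2]
    simp only [opn, Co.de, LinearMap.add_apply, Module.End.one_apply, Module.End.mul_apply, hbu,
      map_zero, hbau, add_zero, zero_add, map_add, map_one]
    rw [thma_aeval_X_mul]
    abel
  refine ⟨h1, ?_⟩
  rw [h1, map_add]
  have e1 : b (aeval (zz a b) (Co.de P) u) = 0 := by
    have := czb (Co.de P) u
    simp only [Module.End.mul_apply] at this
    rw [← this, hbu, map_zero]
  have e2 : b (aeval (zz a b) P.q (a u)) = aeval (zz a b) (X * Co.be P) u := by
    have := czb P.q (a u)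
    simp only [Module.End.mul_apply] at this
    rw [← this, hbau, Co.be, thma_aeval_X_mul]
  rw [e1, e2, zero_add]

/-- the prime `p` above `Van1` -/
theorem thma_prime [FiniteDimensional k M] (a b : Module.End k M) (ha : a * a = 0)
    (hb : b * b = 0) (hnu : ¬ UnipPair a b) :
    ∃ p : k[X], Irreducible p ∧ Van1 a b ≤ Ideal.span {p} ∧ ¬ p ∣ X := by
  have hne : Van1 a b ≠ ⊤ := by
    intro htop
    apply hnu
    rw [UNIP_M1 a b ha hb, eq_bot_iff]
    intro m hm
    have h1 : (1 : k[X]) ∈ Van1 a b := by rw [htop]; exact Submodule.mem_top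
    have := h1 m hm
    rw [map_one, Module.End.one_apply] at this
    exact (Submodule.mem_bot k).mpr this
  obtain ⟨I, hI, hle⟩ := Ideal.exists_le_maximal _ hne
  obtain ⟨u, hu⟩ := FIT_invpoly (zz a b)
  have huI : X * u - 1 ∈ I := hle hu
  have hu0 : X * u - 1 ≠ (0 : k[X]) := by
    intro h
    have := congrArg (eval 0) h
    simp at this
  have hgen : Ideal.span {Submodule.IsPrincipal.generator I} = I :=
    Ideal.span_singleton_generator I
  have hp0 : Submodule.IsPrincipal.generator I ≠ 0 := by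
    intro h0
    rw [h0] at hgen
    have hbot : I = ⊥ := by rw [← hgen]; simp
    rw [hbot] at huI
    exact hu0 ((Submodule.mem_bot _).mp huI)
  have hprime : Prime (Submodule.IsPrincipal.generator I) := by
    rw [← Ideal.span_singleton_prime hp0, hgen]
    exact hI.isPrime
  refine ⟨Submodule.IsPrincipal.generator I, hprime.irreducible, ?_, ?_⟩
  · rw [hgen]; exact hle
  · intro hd
    have hX : X ∈ I := by
      rw [← hgen]; exact Ideal.mem_span_singleton.mpr hd
    have h1 : (1 : k[X]) ∈ I := by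
      have h := I.sub_mem (I.mul_mem_right u hX) huI
      have e : X * u - (X * u - 1) = (1 : k[X]) := by ring
      rwa [e] at h
    exact hI.ne_top ((Ideal.eq_top_iff_one I).mpr h1)

/-- the induction step of Theorem A -/
theorem thma_step [FiniteDimensional k M] (hk2 : ringChar k ≠ 2) (hk3 : Nat.card k ≠ 3)
    {G : Subgroup GLkM} {d : ℕ} {a b : Module.End k M} (hp : QPair G d a b)
    (hnu : ¬ UnipPair a b) (ih : IHA G d (Module.finrank k (M1 a b))) : VanM0 a b := by
  have h2 : (2 : k) ≠ 0 := Ring.two_ne_zero hk2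
  have ha : a * a = 0 := hp.qa.1.1
  have hb : b * b = 0 := hp.qb.1.1
  obtain ⟨p, hpi, hple, hpX⟩ := thma_prime a b ha hb hnu
  obtain ⟨s, hs0, hs1, hs2⟩ := Cfsg.Agent.Helper18.SL2Ext.exists_good_of_card (k := k) hk2 hk3
  have hss : s * s ≠ 1 := by
    intro h
    have : (s - 1) * (s + 1) = 0 := by ring_nf; rw [pow_two, h]; ring
    rcases mul_eq_zero.mp this with h' | h'
    · exact hs1 (sub_eq_zero.mp h')
    · exact hs2 (eq_neg_of_add_eq_zero_left h')
  have hss' : s⁻¹ * s⁻¹ ≠ 1 := by
    intro h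
    apply hss
    have : (s * s)⁻¹ = 1 := by rw [mul_inv]; exact h
    exact inv_eq_one.mp this
  obtain ⟨g, hg, h01, h10, h00, h11⟩ := EXX hk2 hk3 p hpi hpX s hs0
  have hgm : g ∈ (Hpair a b ha hb).map
      (MonoidHom.snd GLkM (Matrix.SpecialLinearGroup (Fin 2) k[X])) := by
    rw [map_snd_Hpair]; exact hg
  obtain ⟨x, hx, hxg⟩ := hgm
  have hxg' : x.2 = g := hxg
  obtain ⟨P, hP⟩ := COORD ha hb x hx
  have hh : x.1 ∈ Hgrp a b ha hb := by
    rw [← map_fst_Hpair]; exact ⟨x, hx, rfl⟩
  -- the entries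
  obtain ⟨e00, e01, e10, e11⟩ := matn_entries P
  have hgP : (g : Matrix (Fin 2) (Fin 2) k[X]) = 1 + Co.matn P := by rw [← hxg']; exact hP.1
  have d00 : p ∣ Co.al P - C s := by
    have : (g : Matrix (Fin 2) (Fin 2) k[X]) 0 0 = Co.al P := by rw [hgP]; exact e00
    rw [← this]; exact h00
  have d01 : p ∣ Co.be P := by
    have : (g : Matrix (Fin 2) (Fin 2) k[X]) 0 1 = Co.be P := by rw [hgP]; exact e01
    rw [← this]; exact h01
  have d10 : p ∣ Co.ga P := by
    have : (g : Matrix (Fin 2) (Fin 2) k[X]) 1 0 = Co.ga P := by rw [hgP]; exact e10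
    rw [← this]; exact h10
  have d11 : p ∣ Co.de P - C s⁻¹ := by
    have : (g : Matrix (Fin 2) (Fin 2) k[X]) 1 1 = Co.de P := by rw [hgP]; exact e11
    rw [← this]; exact h11
  have ds : p ∣ P.s := (hpi.prime.dvd_or_dvd d10).resolve_left hpX
  -- invariance of A1, B1 under z
  have hzM1 : ∀ m ∈ M1 a b, zz a b m ∈ M1 a b :=
    FIT_inv1 (zz a b) (zz a b) (Commute.refl _)
  have hzA : ∀ m ∈ A1 a b, zz a b m ∈ A1 a b := by
    intro m hm
    refine ⟨hzM1 m hm.1, LinearMap.mem_ker.mpr ?_⟩
    have := congrArg (fun w : Module.End k M => w m) (zz_mul_a (a := a) (b := b) ha)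
    simp only [Module.End.mul_apply] at this
    rw [← this, LinearMap.mem_ker.mp hm.2, map_zero]
  have hzB : ∀ m ∈ B1 a b, zz a b m ∈ B1 a b := by
    intro m hm
    refine ⟨hzM1 m hm.1, LinearMap.mem_ker.mpr ?_⟩
    have := congrArg (fun w : Module.End k M => w m) (zz_mul_b (a := a) (b := b) hb)
    simp only [Module.End.mul_apply] at this
    rw [← this, LinearMap.mem_ker.mp hm.2, map_zero]
  obtain ⟨u, huA, hu0, hpu⟩ := VAN_prime (zz a b) (M1 a b) (A1 a b) hzA inf_le_left
    (FAITH_A a b ha hb) p hpi hple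
  obtain ⟨u', huB, hu'0, hpu'⟩ := VAN_prime (zz a b) (M1 a b) (B1 a b) hzB inf_le_left
    (FAITH_B a b ha hb) p hpi hple
  -- hA
  have hA : ∀ v ∈ A1 a b, a ((x.1 : Module.End k M) v) = 0 := by
    refine LEMG h2 hp hnu ih x.1 hh ⟨u, huA, hu0, ?_⟩
    rw [(thma_apply_A ha hb hP huA).2]
    exact thma_dvd _ d10 hpu
  -- the swapped pair
  have hnu' : ¬ UnipPair b a := fun h => hnu (UnipPair_swap h)
  have ih' : IHA G d (Module.finrank k (M1 b a)) := by rw [M1_swap]; exact ih
  have hh' : x.1 ∈ Hgrp b a hb ha := by rw [Hgrp_swap]; exact hh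
  have hB' : ∀ v ∈ A1 b a, b ((x.1 : Module.End k M) v) = 0 := by
    refine LEMG h2 hp.swap hnu' ih' x.1 hh' ⟨u', ?_, hu'0, ?_⟩
    · rw [A1_swap]; exact huB
    · rw [(thma_apply_B ha hb hP huB).2]
      exact thma_dvd _ (Dvd.dvd.mul_left d01 X) hpu'
  have hB : ∀ v ∈ B1 a b, b ((x.1 : Module.End k M) v) = 0 := by
    intro v hv
    exact hB' v (by rw [A1_swap]; exact hv)
  have hA' : ∀ v ∈ B1 b a, a ((x.1 : Module.End k M) v) = 0 := by
    intro v hv
    exact hA v (by rw [← B1_swap]; exact hv)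
  -- the eigenvectors
  have hs : ∃ v ∈ A1 a b, v ≠ 0 ∧ ∃ t : k, t * t ≠ 1 ∧ (x.1 : Module.End k M) v = t • v := by
    refine ⟨u, huA, hu0, s, hss, ?_⟩
    rw [(thma_apply_A ha hb hP huA).1]
    have e1 : aeval (zz a b) (Co.al P) u = s • u := by
      have := thma_dvd (zz a b) d00 hpu
      rw [map_sub, LinearMap.sub_apply, sub_eq_zero] at this
      rw [this, aeval_C]
      rfl
    have e2 : aeval (zz a b) P.s (b u) = 0 := by
      have := congrArg (fun w : Module.End k M => w u)
        (commute_aeval_b (a := a) (b := b) hb P.s).eq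
      simp only [Module.End.mul_apply] at this
      rw [this, thma_dvd _ ds hpu, map_zero]
    rw [e1, e2, add_zero]
  have hs' : ∃ v ∈ A1 b a, v ≠ 0 ∧ ∃ t : k, t * t ≠ 1 ∧ (x.1 : Module.End k M) v = t • v := by
    refine ⟨u', by rw [A1_swap]; exact huB, hu'0, s⁻¹, hss', ?_⟩
    rw [(thma_apply_B ha hb hP huB).1]
    have e1 : aeval (zz a b) (Co.de P) u' = s⁻¹ • u' := by
      have := thma_dvd (zz a b) d11 hpu'
      rw [map_sub, LinearMap.sub_apply, sub_eq_zero] at this
      rw [this, aeval_C]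
      rfl
    have e2 : aeval (zz a b) P.q (a u') = 0 := by
      have := congrArg (fun w : Module.End k M => w u')
        (commute_aeval_a (a := a) (b := b) ha P.q).eq
      simp only [Module.End.mul_apply] at this
      have d01' : p ∣ P.q := d01
      rw [this, thma_dvd _ d01' hpu', map_zero]
    rw [e1, e2, add_zero]
  have r1 : ∀ m ∈ M0 a b, a m = 0 := STEP3 h2 hp hnu x.1 hh hA hB hs
  have r2 : ∀ m ∈ M0 b a, b m = 0 := STEP3 h2 hp.swap hnu' x.1 hh' hB' hA' hs'
  intro m hm
  exact ⟨r1 m hm, r2 m (by rw [M0_swap]; exact hm)⟩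

theorem THMA [FiniteDimensional k M] (hk2 : ringChar k ≠ 2) (hk3 : Nat.card k ≠ 3)
    {G : Subgroup GLkM} {d : ℕ} {a b : Module.End k M} (hp : QPair G d a b)
    (hnu : ¬ UnipPair a b) : VanM0 a b := by
  have key : ∀ n : ℕ, ∀ a b : Module.End k M, QPair G d a b → ¬ UnipPair a b →
      Module.finrank k (M1 a b) = n → VanM0 a b := by
    intro n
    induction n using Nat.strong_induction_on with
    | _ n ih =>
      intro a b hp hnu hn
      refine thma_step hk2 hk3 hp hnu ?_
      intro a' b' qa' qb' hnu' hlt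
      exact ih _ (hn ▸ hlt) a' b' ⟨hp.min, qa', qb'⟩ hnu' rfl
  exact key _ a b hp hnu rfl

end Cfsg.Agent.QPP

end
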