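import Mathlib
import Cfsg.Agent.Helper25.QPSwap
import Cfsg.Agent.Helper19.QPFIT
import Cfsg.Agent.Helper20.QPIDEM

set_option autoImplicit false

/-! Quadratic pairs, piece STRA: the structure (A) from the vanishing on `M₀`. -/

noncomputable section

namespace Cfsg.Agent.QPP

open Cfsg Cfsg.Agent.Helper25.QP Cfsg.Agent.Helper25.QuadPair Polynomial

variable {k : Type*} [Field k] {M : Type*} [AddCommGroup M] [Module k M]

local notation "GLkM" => LinearMap.GeneralLinearGroup k M

/-- modular-law helper: `(N ⊔ A) ⊓ B = ⊥` when `N`, `P` are disjoint, `A, B ≤ P`, `A ⊓ B = ⊥` -/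
theorem stra_disj (N P A B : Submodule k M) (hd : Disjoint N P) (hA : A ≤ P) (hB : B ≤ P)
    (hAB : A ⊓ B = ⊥) : (N ⊔ A) ⊓ B = ⊥ := by
  rw [eq_bot_iff]
  intro x hx
  obtain ⟨hx1, hx2⟩ := hx
  obtain ⟨n, hn, u, hu, rfl⟩ := Submodule.mem_sup.mp hx1
  have hnP : n ∈ P := by
    have : n = (n + u) - u := by abel
    rw [this]
    exact P.sub_mem (hB hx2) (hA hu)
  have hn0 : n = 0 := by
    have : n ∈ N ⊓ P := ⟨hn, hnP⟩
    rw [hd.eq_bot] at this
    exact (Submodule.mem_bot k).mp this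
  subst hn0
  rw [zero_add] at hx2 ⊢
  rw [← hAB]
  exact ⟨hu, hx2⟩

/-- range of `w` is `P.map w` when `w` vanishes on a complement `N` of `P` -/
theorem stra_range (N P : Submodule k M) (hc : IsCompl N P) (w : Module.End k M)
    (hw : ∀ m ∈ N, w m = 0) : LinearMap.range w = P.map w := by
  apply le_antisymm
  · rintro _ ⟨m, rfl⟩
    have hm : m ∈ N ⊔ P := by rw [hc.sup_eq_top]; exact Submodule.mem_top
    obtain ⟨n, hn, u, hu, rfl⟩ := Submodule.mem_sup.mp hm
    rw [map_add, hw n hn, zero_add]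
    exact Submodule.mem_map_of_mem hu
  · exact LinearMap.map_le_range

/-- kernel of `w` is `N ⊔ (P ⊓ ker w)` when `w` vanishes on a complement `N` of `P` -/
theorem stra_ker (N P : Submodule k M) (hc : IsCompl N P) (w : Module.End k M)
    (hw : ∀ m ∈ N, w m = 0) : LinearMap.ker w = N ⊔ (P ⊓ LinearMap.ker w) := by
  apply le_antisymm
  · intro m hmk
    have hm : m ∈ N ⊔ P := by rw [hc.sup_eq_top]; exact Submodule.mem_top
    obtain ⟨n, hn, u, hu, rfl⟩ := Submodule.mem_sup.mp hm
    have hu0 : w u = 0 := by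
      have := LinearMap.mem_ker.mp hmk
      rwa [map_add, hw n hn, zero_add] at this
    exact Submodule.add_mem_sup hn ⟨hu, LinearMap.mem_ker.mpr hu0⟩
  · refine sup_le ?_ inf_le_right
    intro m hm
    exact LinearMap.mem_ker.mpr (hw m hm)

theorem STRA [FiniteDimensional k M] (a b : Module.End k M) (ha : a * a = 0) (hb : b * b = 0)
    (h : VanM0 a b) : StrA a b ∧ LinearMap.range a = A1 a b ∧ LinearMap.range b = B1 a b ∧
      LinearMap.ker a = M0 a b ⊔ A1 a b ∧ LinearMap.ker b = M0 a b ⊔ B1 a b := by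
  have hc : IsCompl (M0 a b) (M1 a b) := FIT_compl (zz a b)
  have hra : LinearMap.range a = A1 a b := by
    rw [stra_range _ _ hc a (fun m hm => (h m hm).1), IDEM_mapa a b ha hb]
  have hrb : LinearMap.range b = B1 a b := by
    rw [stra_range _ _ hc b (fun m hm => (h m hm).2), IDEM_mapb a b ha hb]
  have hka : LinearMap.ker a = M0 a b ⊔ A1 a b :=
    stra_ker _ _ hc a (fun m hm => (h m hm).1)
  have hkb : LinearMap.ker b = M0 a b ⊔ B1 a b :=
    stra_ker _ _ hc b (fun m hm => (h m hm).2)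
  refine ⟨⟨?_, ?_⟩, hra, hrb, hka, hkb⟩
  · rw [hka, hrb]
    exact stra_disj _ _ _ _ hc.disjoint inf_le_left inf_le_left (IDEM_inf a b ha hb)
  · rw [hkb, hra]
    refine stra_disj _ _ _ _ hc.disjoint inf_le_left inf_le_left ?_
    rw [inf_comm]
    exact IDEM_inf a b ha hb

end Cfsg.Agent.QPP

end
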