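import Mathlib
import Cfsg.Agent.Helper25.QPDefs2
import Cfsg.Agent.Helper25.QPAct
import Cfsg.Agent.Helper18.SL2Ext5
import Cfsg.Agent.Helper12.QPSTRA
import Cfsg.Agent.Helper12.QPTHMA

set_option autoImplicit false

/-! Quadratic pairs, piece NONU: a non-unipotent pair of members is opposite. -/

noncomputable section

universe u v

namespace Cfsg.Agent.QPP

open Cfsg Cfsg.Agent.Helper25.QP Cfsg.Agent.Helper25.QuadPair Polynomial

variable {k : Type u} [Field k] {M : Type v} [AddCommGroup M] [Module k M]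

local notation "GLkM" => LinearMap.GeneralLinearGroup k M

/-- `(N ⊔ A) ⊓ (N ⊔ B) = N` when `N`, `P` are disjoint, `A, B ≤ P` and `A ⊓ B = ⊥` -/
theorem nonu_inf (N P A B : Submodule k M) (hd : Disjoint N P) (hA : A ≤ P) (hB : B ≤ P)
    (hAB : A ⊓ B = ⊥) : (N ⊔ A) ⊓ (N ⊔ B) = N := by
  apply le_antisymm
  · intro x hx
    obtain ⟨hx1, hx2⟩ := hx
    obtain ⟨n, hn, u, hu, rfl⟩ := Submodule.mem_sup.mp hx1
    obtain ⟨n', hn', u', hu', he⟩ := Submodule.mem_sup.mp hx2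
    have hdiff : n - n' = u' - u := by
      have : n + u - (n' + u') = 0 := by rw [he]; exact sub_self _
      have e : n - n' - (u' - u) = n + u - (n' + u') := by abel
      exact sub_eq_zero.mp (e.trans this)
    have h0 : n - n' ∈ N ⊓ P :=
      ⟨N.sub_mem hn hn', by rw [hdiff]; exact P.sub_mem (hB hu') (hA hu)⟩
    rw [hd.eq_bot] at h0
    have h1 : u' - u = 0 := by rw [← hdiff]; exact (Submodule.mem_bot k).mp h0
    have huu : u' = u := sub_eq_zero.mp h1
    have hu0 : u ∈ A ⊓ B := ⟨hu, by rw [← huu]; exact hu'⟩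
    rw [hAB] at hu0
    rw [(Submodule.mem_bot k).mp hu0, add_zero]
    exact hn
  · exact le_inf le_sup_left le_sup_left

theorem NONU [FiniteDimensional k M] (hk2 : ringChar k ≠ 2) (hk3 : Nat.card k ≠ 3)
    {G : Subgroup GLkM} {d : ℕ} {a b : Module.End k M} (hp : QPair G d a b)
    (hnu : ¬ UnipPair a b) :
    OppPair a b ∧ M0 a b = LinearMap.ker a ⊓ LinearMap.ker b ∧
      M1 a b = LinearMap.range a ⊔ LinearMap.range b := by
  have ha : a * a = 0 := hp.qa.1.1
  have hb : b * b = 0 := hp.qb.1.1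
  have hv : VanM0 a b := THMA hk2 hk3 hp hnu
  obtain ⟨hS, hra, hrb, hka, hkb⟩ := STRA a b ha hb hv
  have hc : IsCompl (M0 a b) (M1 a b) := FIT_compl (zz a b)
  have hsup : A1 a b ⊔ B1 a b = M1 a b := IDEM_sup a b ha hb
  have hinf : A1 a b ⊓ B1 a b = ⊥ := IDEM_inf a b ha hb
  refine ⟨⟨⟨?_, ?_⟩, ⟨?_, ?_⟩⟩, ?_, ?_⟩
  · exact disjoint_iff.mpr hS.1
  · rw [codisjoint_iff, hka, hrb, sup_assoc, hsup]
    exact hc.sup_eq_top
  · exact disjoint_iff.mpr hS.2
  · rw [codisjoint_iff, hkb, hra, sup_assoc, sup_comm (B1 a b), hsup]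
    exact hc.sup_eq_top
  · rw [hka, hkb]
    exact (nonu_inf _ _ _ _ hc.disjoint inf_le_left inf_le_left hinf).symm
  · rw [hra, hrb, hsup]

end Cfsg.Agent.QPP

end
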