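import Mathlib
import Cfsg.Agent.Helper12.Mat2

set_option autoImplicit false

namespace Cfsg.Agent.Helper12

variable {F : Type*} [Field F]

/-- The image in `PSL₂` of an element of `SL₂` is trivial iff the matrix is scalar. -/
theorem psl2_mk_eq_one_iff (G : Matrix.SpecialLinearGroup (Fin 2) F) :
    (QuotientGroup.mk G : Matrix.ProjectiveSpecialLinearGroup (Fin 2) F) = 1 ↔
      IsScalar2 (G : Matrix (Fin 2) (Fin 2) F) := by
  rw [QuotientGroup.eq_one_iff, Matrix.SpecialLinearGroup.mem_center_iff]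
  constructor
  · rintro ⟨r, -, hr⟩
    rw [isScalar2_iff]
    refine ⟨r, ?_⟩
    rw [← hr]
    ext i j
    simp [Matrix.scalar, Matrix.diagonal_apply, Matrix.one_apply]
  · intro h
    obtain ⟨a, ha⟩ := (isScalar2_iff _).1 h
    have hdet : (G : Matrix (Fin 2) (Fin 2) F).det = 1 := G.2
    rw [ha, Matrix.det_smul, Matrix.det_one, mul_one] at hdet
    refine ⟨a, by simpa using hdet, ?_⟩
    rw [ha]
    ext i j
    simp [Matrix.scalar, Matrix.diagonal_apply, Matrix.one_apply]

/-- If a power of `x` is a scalar matrix then the corresponding power in `PSL₂` is trivial. -/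
theorem psl2_mk_pow_eq_one_of_scalar (x : Matrix.SpecialLinearGroup (Fin 2) F) (k : ℕ) (c : F)
    (h : (x : Matrix (Fin 2) (Fin 2) F) ^ k = c • (1 : Matrix (Fin 2) (Fin 2) F)) :
    (QuotientGroup.mk x : Matrix.ProjectiveSpecialLinearGroup (Fin 2) F) ^ k = 1 := by
  rw [← QuotientGroup.mk_pow, psl2_mk_eq_one_iff, isScalar2_iff]
  exact ⟨c, by rw [Matrix.SpecialLinearGroup.coe_pow, h]⟩

/-- Two elements of `SL₂` differing by a scalar matrix have the same image in `PSL₂`. -/
theorem psl2_mk_eq_mk_of_smul (G H : Matrix.SpecialLinearGroup (Fin 2) F) (c : F)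
    (h : (H : Matrix (Fin 2) (Fin 2) F) = c • (G : Matrix (Fin 2) (Fin 2) F)) :
    (QuotientGroup.mk H : Matrix.ProjectiveSpecialLinearGroup (Fin 2) F) = QuotientGroup.mk G := by
  have h1 : (QuotientGroup.mk (H * G⁻¹) : Matrix.ProjectiveSpecialLinearGroup (Fin 2) F) = 1 := by
    rw [psl2_mk_eq_one_iff, isScalar2_iff]
    refine ⟨c, ?_⟩
    rw [Matrix.SpecialLinearGroup.coe_mul, h, Matrix.smul_mul, ← Matrix.SpecialLinearGroup.coe_mul,
      mul_inv_cancel, Matrix.SpecialLinearGroup.coe_one]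
  rw [QuotientGroup.mk_mul, QuotientGroup.mk_inv, mul_inv_eq_one] at h1
  exact h1

end Cfsg.Agent.Helper12
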