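import Mathlib

set_option autoImplicit false

/-! Semisimple endomorphisms with the same characteristic polynomial are conjugate. Part A:
irreducible factors of the characteristic polynomial have nonzero kernel. -/

open Polynomial Module

namespace Cfsg.Agent.Helper12

universe u v

variable {K : Type u} [Field K] {V : Type v} [AddCommGroup V] [Module K V] [FiniteDimensional K V]

/-- An irreducible factor `p` of the characteristic polynomial of `h` has `ker p(h) ≠ 0`. -/
theorem exists_ne_zero_aeval_eq_zero (h : Module.End K V) (p : K[X]) (hp : Irreducible p)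
    (hdvd : p ∣ LinearMap.charpoly h) : ∃ w : V, w ≠ 0 ∧ aeval h p w = 0 := by
  by_contra hcon
  push Not at hcon
  have hinj : Function.Injective (aeval h p) := by
    rw [injective_iff_map_eq_zero]
    intro w hw
    by_contra hw0
    exact hcon w hw0 hw
  have : Fact (Irreducible p) := ⟨hp⟩
  have hroot : (LinearMap.charpoly (LinearMap.baseChange (AdjoinRoot p) h)).IsRoot
      (AdjoinRoot.root p) := by
    rw [LinearMap.charpoly_baseChange]
    obtain ⟨r, hr⟩ := hdvd
    rw [hr, Polynomial.map_mul, IsRoot, eval_mul]
    have := AdjoinRoot.isRoot_root p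
    rw [IsRoot] at this
    rw [AdjoinRoot.algebraMap_eq, this, zero_mul]
  obtain ⟨x, hx⟩ := ((End.hasEigenvalue_iff_isRoot_charpoly _ _).2 hroot).exists_hasEigenvector
  have h1 : aeval (LinearMap.baseChange (AdjoinRoot p) h) (p.map (algebraMap K (AdjoinRoot p))) x =
      0 := by
    rw [End.aeval_apply_of_hasEigenvector hx]
    have := AdjoinRoot.isRoot_root p
    rw [IsRoot] at this
    rw [AdjoinRoot.algebraMap_eq, this, zero_smul]
  have h2 : aeval (LinearMap.baseChange (AdjoinRoot p) h) (p.map (algebraMap K (AdjoinRoot p))) =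
      LinearMap.baseChange (AdjoinRoot p) (aeval h p) := by
    rw [aeval_map_algebraMap]
    have := Polynomial.aeval_algHom_apply (End.baseChangeHom K (AdjoinRoot p) V) h p
    exact this
  rw [h2] at h1
  have h3 : Function.Injective (LinearMap.baseChange (AdjoinRoot p) (aeval h p)) := by
    have := Module.Flat.lTensor_preserves_injective_linearMap (M := AdjoinRoot p) (aeval h p) hinj
    exact this
  exact hx.2 (h3 (h1.trans (map_zero _).symm))

/-- The evaluation map `q ↦ q(g) v`. -/
noncomputable def evalAt (g : Module.End K V) (v : V) : K[X] →ₗ[K] V :=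
  (LinearMap.applyₗ v) ∘ₗ (aeval g).toLinearMap

omit [FiniteDimensional K V] in
theorem evalAt_apply (g : Module.End K V) (v : V) (q : K[X]) : evalAt g v q = aeval g q v := rfl

omit [FiniteDimensional K V] in
theorem evalAt_X_mul (g : Module.End K V) (v : V) (q : K[X]) :
    evalAt g v (X * q) = g (evalAt g v q) := by
  rw [evalAt_apply, evalAt_apply, map_mul, aeval_X, Module.End.mul_apply]

omit [FiniteDimensional K V] in
theorem mem_ker_evalAt_iff (g : Module.End K V) {v : V} (hv : v ≠ 0) {p : K[X]}
    (hp : Irreducible p) (hpv : aeval g p v = 0) (q : K[X]) :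
    q ∈ LinearMap.ker (evalAt g v) ↔ p ∣ q := by
  rw [LinearMap.mem_ker, evalAt_apply]
  constructor
  · intro hq
    by_contra hndvd
    have hcop : IsCoprime p q := (hp.coprime_iff_not_dvd).2 hndvd
    obtain ⟨a, b, hab⟩ := hcop
    apply hv
    have h1 : aeval g (a * p + b * q) v = v := by
      rw [hab, map_one, Module.End.one_apply]
    rw [map_add, map_mul, map_mul, LinearMap.add_apply, Module.End.mul_apply,
      Module.End.mul_apply, hpv, hq, map_zero, map_zero, add_zero] at h1
    exact h1.symm
  · rintro ⟨r, rfl⟩
    rw [mul_comm, map_mul, Module.End.mul_apply, hpv, map_zero]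

omit [FiniteDimensional K V] in
theorem range_evalAt_mem_invtSubmodule (g : Module.End K V) (v : V) :
    LinearMap.range (evalAt g v) ∈ g.invtSubmodule := by
  rw [Module.End.mem_invtSubmodule]
  rintro _ ⟨q, rfl⟩
  rw [Submodule.mem_comap, ← evalAt_X_mul]
  exact ⟨_, rfl⟩

omit [FiniteDimensional K V] in
theorem self_mem_range_evalAt (g : Module.End K V) (v : V) : v ∈ LinearMap.range (evalAt g v) :=
  ⟨1, by rw [evalAt_apply, map_one, Module.End.one_apply]⟩

end Cfsg.Agent.Helper12
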