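import Mathlib
import Cfsg.Agent.Helper12.SemisimpleConjA

set_option autoImplicit false

/-! Semisimple endomorphisms with the same characteristic polynomial are conjugate. Part B:
the induction. -/

open Polynomial Module

namespace Cfsg.Agent.Helper12

universe u v

variable {K : Type u} [Field K]

section Cyclic

variable {V : Type v} [AddCommGroup V] [Module K V] {W : Type v} [AddCommGroup W] [Module K W]

/-- The isomorphism between two cyclic subspaces with the same irreducible annihilator. -/
noncomputable def cyclicEquiv (g : Module.End K V) (h : Module.End K W) (v : V) (w : W)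
    (heq : LinearMap.ker (evalAt g v) = LinearMap.ker (evalAt h w)) :
    LinearMap.range (evalAt g v) ≃ₗ[K] LinearMap.range (evalAt h w) :=
  ((evalAt g v).quotKerEquivRange.symm.trans (Submodule.quotEquivOfEq _ _ heq)).trans
    (evalAt h w).quotKerEquivRange

theorem cyclicEquiv_apply (g : Module.End K V) (h : Module.End K W) (v : V) (w : W)
    (heq : LinearMap.ker (evalAt g v) = LinearMap.ker (evalAt h w)) (q : K[X]) :
    cyclicEquiv g h v w heq ⟨evalAt g v q, ⟨q, rfl⟩⟩ = ⟨evalAt h w q, ⟨q, rfl⟩⟩ := by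
  simp only [cyclicEquiv, LinearEquiv.trans_apply]
  have h1 : (evalAt g v).quotKerEquivRange.symm ⟨evalAt g v q, ⟨q, rfl⟩⟩ =
      Submodule.Quotient.mk q := by
    rw [LinearEquiv.symm_apply_eq]
    rfl
  rw [h1, Submodule.quotEquivOfEq_mk]
  rfl

end Cyclic

section Split

variable {V : Type v} [AddCommGroup V] [Module K V] [FiniteDimensional K V]

/-- The characteristic polynomial is multiplicative over a decomposition into invariant
complementary subspaces. -/
theorem charpoly_eq_mul_of_isCompl (φ : Module.End K V) {U U₂ : Submodule K V}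
    (hU : ∀ x ∈ U, φ x ∈ U) (hU₂ : ∀ x ∈ U₂, φ x ∈ U₂) (hc : IsCompl U U₂) :
    LinearMap.charpoly φ = LinearMap.charpoly (φ.restrict hU) * LinearMap.charpoly (φ.restrict hU₂) := by
  let e := Submodule.prodEquivOfIsCompl U U₂ hc
  have hψ : (φ.restrict hU).prodMap (φ.restrict hU₂) = e.symm.conj φ := by
    apply LinearMap.ext
    rintro ⟨a, b⟩
    rw [LinearEquiv.conj_apply]
    simp only [LinearMap.prodMap_apply, LinearMap.coe_comp, LinearEquiv.coe_coe,
      Function.comp_apply, LinearEquiv.symm_symm]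
    rw [LinearEquiv.eq_symm_apply]
    simp only [e, Submodule.coe_prodEquivOfIsCompl', map_add]
    rfl
  rw [← e.symm.charpoly_conj φ, ← hψ, LinearMap.charpoly_prodMap]

end Split

/-- Semisimple endomorphisms with the same characteristic polynomial are conjugate. -/
theorem exists_intertwining_aux : ∀ (n : ℕ) (V W : Type v) [AddCommGroup V] [Module K V]
    [FiniteDimensional K V] [AddCommGroup W] [Module K W] [FiniteDimensional K W]
    (g : Module.End K V) (h : Module.End K W), finrank K V = n → g.IsSemisimple → h.IsSemisimple →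
    LinearMap.charpoly g = LinearMap.charpoly h →
    ∃ φ : V ≃ₗ[K] W, ∀ x, φ (g x) = h (φ x) := by
  intro n
  induction n using Nat.strong_induction_on with
  | _ n ih =>
  intro V W _ _ _ _ _ _ g h hn hg hh hc
  have hW : finrank K W = n := by
    rw [← LinearMap.charpoly_natDegree h, ← hc, LinearMap.charpoly_natDegree g, hn]
  by_cases h0 : n = 0
  · subst h0
    have hsV : Subsingleton V := Module.finrank_zero_iff.1 hn
    have hsW : Subsingleton W := Module.finrank_zero_iff.1 hW
    exact ⟨LinearEquiv.ofSubsingleton V W, fun x => Subsingleton.elim _ _⟩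
  -- an irreducible factor of the characteristic polynomial
  have hdeg : (LinearMap.charpoly g).natDegree = n := by rw [LinearMap.charpoly_natDegree g, hn]
  have hnu : ¬ IsUnit (LinearMap.charpoly g) := by
    intro hu
    have := natDegree_eq_zero_of_isUnit hu
    omega
  have hne0 : LinearMap.charpoly g ≠ 0 := (LinearMap.charpoly_monic g).ne_zero
  obtain ⟨p, hp, hpdvd⟩ := WfDvdMonoid.exists_irreducible_factor hnu hne0
  obtain ⟨v, hv0, hv⟩ := exists_ne_zero_aeval_eq_zero g p hp hpdvd
  obtain ⟨w, hw0, hw⟩ := exists_ne_zero_aeval_eq_zero h p hp (hc ▸ hpdvd)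
  have heq : LinearMap.ker (evalAt g v) = LinearMap.ker (evalAt h w) := by
    ext q
    rw [mem_ker_evalAt_iff g hv0 hp hv, mem_ker_evalAt_iff h hw0 hp hw]
  have hU : ∀ x ∈ LinearMap.range (evalAt g v), g x ∈ LinearMap.range (evalAt g v) :=
    fun x hx => range_evalAt_mem_invtSubmodule g v hx
  have hU' : ∀ x ∈ LinearMap.range (evalAt h w), h x ∈ LinearMap.range (evalAt h w) :=
    fun x hx => range_evalAt_mem_invtSubmodule h w hx
  obtain ⟨U₂, hU₂m, hcU⟩ := Module.End.isSemisimple_iff.1 hg _ (range_evalAt_mem_invtSubmodule g v)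
  obtain ⟨U₂', hU₂m', hcU'⟩ := Module.End.isSemisimple_iff.1 hh _ (range_evalAt_mem_invtSubmodule h w)
  have hU₂ : ∀ x ∈ U₂, g x ∈ U₂ := fun x hx => hU₂m hx
  have hU₂' : ∀ x ∈ U₂', h x ∈ U₂' := fun x hx => hU₂m' hx
  set φ₁ := cyclicEquiv g h v w heq with hφ₁
  -- φ₁ intertwines
  have hint₁ : ∀ x, φ₁ ((g.restrict hU) x) = (h.restrict hU') (φ₁ x) := by
    rintro ⟨_, ⟨q, rfl⟩⟩
    have e1 : (g.restrict hU) ⟨evalAt g v q, ⟨q, rfl⟩⟩ = ⟨evalAt g v (X * q), ⟨X * q, rfl⟩⟩ := by
      apply Subtype.ext
      exact (evalAt_X_mul g v q).symm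
    rw [e1, hφ₁, cyclicEquiv_apply, cyclicEquiv_apply]
    apply Subtype.ext
    exact evalAt_X_mul h w q
  have hcp₁ : LinearMap.charpoly (g.restrict hU) = LinearMap.charpoly (h.restrict hU') := by
    have : h.restrict hU' = φ₁.conj (g.restrict hU) := by
      apply LinearMap.ext
      intro x
      rw [LinearEquiv.conj_apply]
      simp only [LinearMap.coe_comp, LinearEquiv.coe_coe, Function.comp_apply]
      rw [hint₁, LinearEquiv.apply_symm_apply]
    rw [this, LinearEquiv.charpoly_conj]
  have hcp₂ : LinearMap.charpoly (g.restrict hU₂) = LinearMap.charpoly (h.restrict hU₂') := by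
    have e1 := charpoly_eq_mul_of_isCompl g hU hU₂ hcU
    have e2 := charpoly_eq_mul_of_isCompl h hU' hU₂' hcU'
    rw [hc, e2, hcp₁] at e1
    exact (mul_left_cancel₀ (LinearMap.charpoly_monic _).ne_zero e1).symm
  have hlt : finrank K U₂ < n := by
    have e1 := Submodule.finrank_add_eq_of_isCompl hcU
    have e2 : 0 < finrank K (LinearMap.range (evalAt g v)) := by
      rw [Module.finrank_pos_iff_exists_ne_zero]
      exact ⟨⟨v, self_mem_range_evalAt g v⟩, fun h => hv0 (congrArg Subtype.val h)⟩
    omega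
  obtain ⟨φ₂, hint₂⟩ := ih _ hlt U₂ U₂' (g.restrict hU₂) (h.restrict hU₂') rfl
    (hg.restrict hU₂m) (hh.restrict hU₂m') hcp₂
  refine ⟨((Submodule.prodEquivOfIsCompl _ _ hcU).symm.trans (φ₁.prodCongr φ₂)).trans
    (Submodule.prodEquivOfIsCompl _ _ hcU'), ?_⟩
  intro x
  obtain ⟨⟨a, b⟩, rfl⟩ := (Submodule.prodEquivOfIsCompl _ _ hcU).surjective x
  have e1 : g ((Submodule.prodEquivOfIsCompl _ _ hcU) (a, b)) =
      (Submodule.prodEquivOfIsCompl _ _ hcU) ((g.restrict hU) a, (g.restrict hU₂) b) := by
    simp only [Submodule.coe_prodEquivOfIsCompl', map_add]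
    rfl
  rw [e1]
  simp only [LinearEquiv.trans_apply, LinearEquiv.symm_apply_apply, LinearEquiv.prodCongr_apply,
    hint₁, hint₂]
  simp only [Submodule.coe_prodEquivOfIsCompl', map_add]
  rfl

/-- Semisimple endomorphisms with the same characteristic polynomial are conjugate. -/
theorem exists_intertwining {V W : Type v} [AddCommGroup V] [Module K V]
    [FiniteDimensional K V] [AddCommGroup W] [Module K W] [FiniteDimensional K W]
    (g : Module.End K V) (h : Module.End K W) (hg : g.IsSemisimple) (hh : h.IsSemisimple)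
    (hc : LinearMap.charpoly g = LinearMap.charpoly h) :
    ∃ φ : V ≃ₗ[K] W, ∀ x, φ (g x) = h (φ x) :=
  exists_intertwining_aux _ V W g h rfl hg hh hc

end Cfsg.Agent.Helper12
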