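import Mathlib
import Cfsg.Agent.Helper12.SemisimpleConjB

set_option autoImplicit false

/-! Semisimple matrices with the same characteristic polynomial are conjugate; elements of `GL_n`
of order prime to the characteristic are semisimple. -/

open Polynomial Module Matrix

namespace Cfsg.Agent.Helper12

universe u

variable {K : Type u} [Field K] {n : ℕ}

/-- Matrix form of the conjugacy of semisimple endomorphisms with equal characteristic
polynomial. -/
theorem exists_gl_conj_of_semisimple (g h : Matrix (Fin n) (Fin n) K)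
    (hg : Module.End.IsSemisimple (Matrix.toLin' g)) (hh : Module.End.IsSemisimple (Matrix.toLin' h))
    (hc : g.charpoly = h.charpoly) :
    ∃ P : GL (Fin n) K, (P : Matrix (Fin n) (Fin n) K) * g = h * (P : Matrix (Fin n) (Fin n) K) := by
  have hc' : LinearMap.charpoly (Matrix.toLin' g) = LinearMap.charpoly (Matrix.toLin' h) := by
    rw [Matrix.charpoly_toLin', Matrix.charpoly_toLin', hc]
  obtain ⟨φ, hφ⟩ := exists_intertwining (Matrix.toLin' g) (Matrix.toLin' h) hg hh hc'
  have h1 : LinearMap.toMatrix' (φ : (Fin n → K) →ₗ[K] (Fin n → K)) *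
      LinearMap.toMatrix' (φ.symm : (Fin n → K) →ₗ[K] (Fin n → K)) = 1 := by
    rw [← LinearMap.toMatrix'_comp, LinearEquiv.comp_coe, LinearEquiv.symm_trans_self,
      LinearEquiv.refl_toLinearMap, LinearMap.toMatrix'_id]
  have h2 : LinearMap.toMatrix' (φ.symm : (Fin n → K) →ₗ[K] (Fin n → K)) *
      LinearMap.toMatrix' (φ : (Fin n → K) →ₗ[K] (Fin n → K)) = 1 := by
    rw [← LinearMap.toMatrix'_comp, LinearEquiv.comp_coe, LinearEquiv.self_trans_symm,
      LinearEquiv.refl_toLinearMap, LinearMap.toMatrix'_id]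
  refine ⟨⟨_, _, h1, h2⟩, ?_⟩
  show LinearMap.toMatrix' (φ : (Fin n → K) →ₗ[K] (Fin n → K)) * g =
    h * LinearMap.toMatrix' (φ : (Fin n → K) →ₗ[K] (Fin n → K))
  have e1 : g = LinearMap.toMatrix' (Matrix.toLin' g) := (LinearMap.toMatrix'_toLin' g).symm
  have e2 : h = LinearMap.toMatrix' (Matrix.toLin' h) := (LinearMap.toMatrix'_toLin' h).symm
  rw [e1, e2, ← LinearMap.toMatrix'_comp, ← LinearMap.toMatrix'_comp]
  congr 1
  apply LinearMap.ext
  intro x
  exact hφ x

/-- An invertible matrix of finite order prime to the characteristic is semisimple. -/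
theorem isSemisimple_of_pow_eq_one (g : Matrix (Fin n) (Fin n) K) (m : ℕ)
    (hm : (m : K) ≠ 0) (hgm : g ^ m = 1) : Module.End.IsSemisimple (Matrix.toLin' g) := by
  have hsq : Squarefree (X ^ m - C (1 : K)) :=
    (Polynomial.separable_X_pow_sub_C (1 : K) hm one_ne_zero).squarefree
  apply Module.End.isSemisimple_of_squarefree_aeval_eq_zero hsq
  rw [map_sub, map_pow, aeval_X, aeval_C, ← Matrix.toLin'_pow, hgm, Matrix.toLin'_one, map_one]
  exact sub_self _

/-- In `GL_n` over a field of characteristic `p`, elements of order prime to `p` are semisimple. -/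
theorem isSemisimple_of_coprime_order (p : ℕ) [Fact p.Prime] [CharP K p] (g : GL (Fin n) K)
    (hg : (orderOf g).Coprime p) :
    Module.End.IsSemisimple (Matrix.toLin' (g : Matrix (Fin n) (Fin n) K)) := by
  apply isSemisimple_of_pow_eq_one _ (orderOf g)
  · intro h0
    have h1 : p ∣ orderOf g := (CharP.cast_eq_zero_iff K p _).1 h0
    have h2 : p ∣ Nat.gcd (orderOf g) p := Nat.dvd_gcd h1 dvd_rfl
    rw [hg] at h2
    exact (Fact.out : p.Prime).one_lt.ne' (Nat.dvd_one.1 h2)
  · have := pow_orderOf_eq_one g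
    have h2 := congrArg (fun x : GL (Fin n) K => (x : Matrix (Fin n) (Fin n) K)) this
    simp only [Units.val_pow_eq_pow_val, Units.val_one] at h2
    exact h2

/-- Conjugacy in `GL_n` of elements of order prime to `p` with the same characteristic
polynomial. -/
theorem gl_isConj_of_charpoly_eq (p : ℕ) [Fact p.Prime] [CharP K p] (g h : GL (Fin n) K)
    (hg : (orderOf g).Coprime p) (hh : (orderOf h).Coprime p)
    (hc : (g : Matrix (Fin n) (Fin n) K).charpoly = (h : Matrix (Fin n) (Fin n) K).charpoly) :
    IsConj g h := by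
  obtain ⟨P, hP⟩ := exists_gl_conj_of_semisimple _ _ (isSemisimple_of_coprime_order p g hg)
    (isSemisimple_of_coprime_order p h hh) hc
  rw [isConj_iff]
  refine ⟨P, ?_⟩
  rw [mul_inv_eq_iff_eq_mul]
  apply Units.ext
  rw [Units.val_mul, Units.val_mul]
  exact hP

end Cfsg.Agent.Helper12
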