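import Mathlib
import Cfsg.Agent.Helper12.SemisimpleConjC

set_option autoImplicit false

/-! Centralisers of semisimple endomorphisms over finite fields contain elements of every
determinant. -/

open Polynomial Module

namespace Cfsg.Agent.Helper12

universe u v

variable {K : Type u} [Field K] {V : Type v} [AddCommGroup V] [Module K V]

theorem span_restrictScalars_eq_ker_evalAt (g : Module.End K V) {v : V} (hv : v ≠ 0) {p : K[X]}
    (hp : Irreducible p) (hpv : aeval g p v = 0) :
    (Ideal.span {p} : Submodule K[X] K[X]).restrictScalars K = LinearMap.ker (evalAt g v) := by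
  ext q
  rw [Submodule.restrictScalars_mem, Ideal.mem_span_singleton, mem_ker_evalAt_iff g hv hp hpv]

/-- The cyclic subspace generated by a vector annihilated by the irreducible polynomial `p` is a
copy of `K[X]/(p)`. -/
noncomputable def adjoinRootEquiv (g : Module.End K V) {v : V} (hv : v ≠ 0) {p : K[X]}
    (hp : Irreducible p) (hpv : aeval g p v = 0) :
    AdjoinRoot p ≃ₗ[K] LinearMap.range (evalAt g v) :=
  ((Submodule.Quotient.restrictScalarsEquiv K (Ideal.span {p} : Submodule K[X] K[X])).symm.trans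
    (Submodule.quotEquivOfEq _ _ (span_restrictScalars_eq_ker_evalAt g hv hp hpv))).trans
    (evalAt g v).quotKerEquivRange

theorem adjoinRootEquiv_mk (g : Module.End K V) {v : V} (hv : v ≠ 0) {p : K[X]}
    (hp : Irreducible p) (hpv : aeval g p v = 0) (q : K[X]) :
    adjoinRootEquiv g hv hp hpv (AdjoinRoot.mk p q) = ⟨evalAt g v q, ⟨q, rfl⟩⟩ := by
  rfl

/-- On a cyclic subspace with irreducible annihilator, over a finite field there are commuting
endomorphisms of every determinant. -/
theorem exists_commuting_det_cyclic [Finite K] (g : Module.End K V) {v : V} (hv : v ≠ 0) {p : K[X]}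
    (hp : Irreducible p) (hpv : aeval g p v = 0)
    (hU : ∀ x ∈ LinearMap.range (evalAt g v), g x ∈ LinearMap.range (evalAt g v)) (δ : K) :
    ∃ c : Module.End K (LinearMap.range (evalAt g v)),
      (∀ x, c ((g.restrict hU) x) = (g.restrict hU) (c x)) ∧ LinearMap.det c = δ := by
  have : Fact (Irreducible p) := ⟨hp⟩
  have hfd : FiniteDimensional K (AdjoinRoot p) := (AdjoinRoot.powerBasis hp.ne_zero).finite
  have hfin : Finite (AdjoinRoot p) := Module.finite_of_finite K
  obtain ⟨u, hu⟩ := FiniteField.norm_surjective K (AdjoinRoot p) δ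
  set ψ := adjoinRootEquiv g hv hp hpv with hψ
  have key : ∀ y : AdjoinRoot p, (g.restrict hU) (ψ y) = ψ (AdjoinRoot.root p * y) := by
    intro y
    obtain ⟨q, rfl⟩ := AdjoinRoot.mk_surjective y
    have e0 : AdjoinRoot.root p * AdjoinRoot.mk p q = AdjoinRoot.mk p (X * q) := by
      rw [map_mul, AdjoinRoot.mk_X]
    rw [e0, hψ, adjoinRootEquiv_mk, adjoinRootEquiv_mk]
    apply Subtype.ext
    exact (evalAt_X_mul g v q).symm
  refine ⟨(ψ : AdjoinRoot p →ₗ[K] _) ∘ₗ (LinearMap.mul K (AdjoinRoot p) u) ∘ₗ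
    (ψ.symm : _ →ₗ[K] AdjoinRoot p), ?_, ?_⟩
  · intro x
    obtain ⟨y, rfl⟩ := ψ.surjective x
    simp only [LinearMap.coe_comp, LinearEquiv.coe_coe, Function.comp_apply, key,
      LinearEquiv.symm_apply_apply, LinearMap.mul_apply']
    rw [mul_left_comm]
  · rw [LinearMap.det_conj, ← hu, Algebra.norm_apply, Algebra.coe_lmul_eq_mul]

/-- Over a finite field, the centraliser of a semisimple endomorphism of a nonzero space contains
endomorphisms of every determinant. -/
theorem exists_commuting_det [Finite K] [FiniteDimensional K V] [Nontrivial V]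
    (g : Module.End K V) (hg : g.IsSemisimple) (δ : K) :
    ∃ c : Module.End K V, (∀ x, c (g x) = g (c x)) ∧ LinearMap.det c = δ := by
  have hn : 0 < finrank K V := Module.finrank_pos
  have hdeg : (LinearMap.charpoly g).natDegree = finrank K V := LinearMap.charpoly_natDegree g
  have hnu : ¬ IsUnit (LinearMap.charpoly g) := by
    intro hu
    have := natDegree_eq_zero_of_isUnit hu
    omega
  have hne0 : LinearMap.charpoly g ≠ 0 := (LinearMap.charpoly_monic g).ne_zero
  obtain ⟨p, hp, hpdvd⟩ := WfDvdMonoid.exists_irreducible_factor hnu hne0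
  obtain ⟨v, hv0, hv⟩ := exists_ne_zero_aeval_eq_zero g p hp hpdvd
  have hU : ∀ x ∈ LinearMap.range (evalAt g v), g x ∈ LinearMap.range (evalAt g v) :=
    fun x hx => range_evalAt_mem_invtSubmodule g v hx
  obtain ⟨U₂, hU₂m, hcU⟩ := Module.End.isSemisimple_iff.1 hg _ (range_evalAt_mem_invtSubmodule g v)
  have hU₂ : ∀ x ∈ U₂, g x ∈ U₂ := fun x hx => hU₂m hx
  obtain ⟨c₁, hc₁, hdet⟩ := exists_commuting_det_cyclic g hv0 hp hv hU δ
  set e := Submodule.prodEquivOfIsCompl _ _ hcU with he
  have e1 : ∀ a b, g (e (a, b)) = e ((g.restrict hU) a, (g.restrict hU₂) b) := by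
    intro a b
    simp only [he, Submodule.coe_prodEquivOfIsCompl', map_add]
    rfl
  refine ⟨(e : _ →ₗ[K] V) ∘ₗ (c₁.prodMap (LinearMap.id : U₂ →ₗ[K] U₂)) ∘ₗ
    (e.symm : V →ₗ[K] (LinearMap.range (evalAt g v) × U₂)), ?_, ?_⟩
  · intro x
    obtain ⟨⟨a, b⟩, rfl⟩ := e.surjective x
    simp only [LinearMap.coe_comp, LinearEquiv.coe_coe, Function.comp_apply,
      LinearEquiv.symm_apply_apply, LinearMap.prodMap_apply, LinearMap.id_apply, e1, hc₁]
  · rw [LinearMap.det_conj, LinearMap.det_prodMap, LinearMap.det_id, mul_one, hdet]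

/-- Matrix form. -/
theorem exists_commuting_matrix_det [Finite K] {n : ℕ} (hn : 0 < n)
    (g : Matrix (Fin n) (Fin n) K) (hg : Module.End.IsSemisimple (Matrix.toLin' g)) (δ : K) :
    ∃ C : Matrix (Fin n) (Fin n) K, C * g = g * C ∧ C.det = δ := by
  have : Nonempty (Fin n) := ⟨⟨0, hn⟩⟩
  have : Nontrivial (Fin n → K) := Function.nontrivial
  obtain ⟨c, hc, hdet⟩ := exists_commuting_det (Matrix.toLin' g) hg δ
  refine ⟨LinearMap.toMatrix' c, ?_, ?_⟩
  · have e1 : g = LinearMap.toMatrix' (Matrix.toLin' g) := (LinearMap.toMatrix'_toLin' g).symm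
    have e2 : LinearMap.toMatrix' c * LinearMap.toMatrix' (Matrix.toLin' g) =
        LinearMap.toMatrix' (Matrix.toLin' g) * LinearMap.toMatrix' c := by
      rw [← LinearMap.toMatrix'_comp, ← LinearMap.toMatrix'_comp]
      congr 1
      apply LinearMap.ext
      intro x
      exact hc x
    rw [← e1] at e2
    exact e2
  · rw [LinearMap.det_toMatrix']
    exact hdet

/-- In `SL_n` over a finite field of characteristic `p`, elements of order prime to `p` with the
same characteristic polynomial are conjugate. -/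
theorem sl_isConj_of_charpoly_eq [Finite K] (p : ℕ) [Fact p.Prime] [CharP K p] {n : ℕ}
    (g h : Matrix.SpecialLinearGroup (Fin n) K) (hg : (orderOf g).Coprime p)
    (hh : (orderOf h).Coprime p)
    (hc : (g : Matrix (Fin n) (Fin n) K).charpoly = (h : Matrix (Fin n) (Fin n) K).charpoly) :
    IsConj g h := by
  rcases Nat.eq_zero_or_pos n with h0 | hn
  · subst h0
    have : g = h := by
      apply Subtype.ext
      apply Matrix.ext
      intro i
      exact i.elim0
    rw [this]
  have hss : ∀ x : Matrix.SpecialLinearGroup (Fin n) K, (orderOf x).Coprime p →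
      Module.End.IsSemisimple (Matrix.toLin' (x : Matrix (Fin n) (Fin n) K)) := by
    intro x hx
    apply isSemisimple_of_pow_eq_one _ (orderOf x)
    · intro h0
      have h1 : p ∣ orderOf x := (CharP.cast_eq_zero_iff K p _).1 h0
      have h2 : p ∣ Nat.gcd (orderOf x) p := Nat.dvd_gcd h1 dvd_rfl
      rw [hx] at h2
      exact (Fact.out : p.Prime).one_lt.ne' (Nat.dvd_one.1 h2)
    · rw [← Matrix.SpecialLinearGroup.coe_pow, pow_orderOf_eq_one, Matrix.SpecialLinearGroup.coe_one]
  obtain ⟨P, hP⟩ := exists_gl_conj_of_semisimple _ _ (hss g hg) (hss h hh) hc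
  have hdP : (P : Matrix (Fin n) (Fin n) K).det ≠ 0 := by
    have := (Matrix.isUnit_iff_isUnit_det (P : Matrix (Fin n) (Fin n) K)).1 P.isUnit
    exact this.ne_zero
  obtain ⟨C, hC, hdC⟩ := exists_commuting_matrix_det hn (g : Matrix (Fin n) (Fin n) K) (hss g hg)
    ((P : Matrix (Fin n) (Fin n) K).det)⁻¹
  have hdet : ((P : Matrix (Fin n) (Fin n) K) * C).det = 1 := by
    rw [Matrix.det_mul, hdC, mul_inv_cancel₀ hdP]
  rw [isConj_iff]
  let Q : Matrix.SpecialLinearGroup (Fin n) K := ⟨_, hdet⟩
  have hQ : (Q : Matrix (Fin n) (Fin n) K) = (P : Matrix (Fin n) (Fin n) K) * C := rfl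
  refine ⟨Q, ?_⟩
  rw [mul_inv_eq_iff_eq_mul]
  apply Subtype.ext
  rw [Matrix.SpecialLinearGroup.coe_mul, Matrix.SpecialLinearGroup.coe_mul, hQ]
  rw [Matrix.mul_assoc, hC, ← Matrix.mul_assoc, hP, Matrix.mul_assoc]

end Cfsg.Agent.Helper12
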