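import Mathlib
import Cfsg.Agent.Helper12.SemisimpleConjD

set_option autoImplicit false

/-! Existence of elements of order prime to `p` with prescribed characteristic polynomial, and the
parametrisation of monic polynomials by their coefficient vectors. -/

open Polynomial Module

namespace Cfsg.Agent.Helper12

universe u

variable {K : Type u} [Field K]

/-- Every monic polynomial is a characteristic polynomial. -/
theorem exists_matrix_charpoly_eq {n : ℕ} (f : K[X]) (hf : f.Monic) (hn : f.natDegree = n) :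
    ∃ M : Matrix (Fin n) (Fin n) K, M.charpoly = f := by
  subst hn
  have hf0 : f ≠ 0 := hf.ne_zero
  have hdim : (AdjoinRoot.powerBasis hf0).dim = f.natDegree := AdjoinRoot.powerBasis_dim hf0
  have h1 : (Algebra.leftMulMatrix (AdjoinRoot.powerBasis hf0).basis
      (AdjoinRoot.powerBasis hf0).gen).charpoly = minpoly K (AdjoinRoot.powerBasis hf0).gen :=
    charpoly_leftMulMatrix (AdjoinRoot.powerBasis hf0)
  have h2 : minpoly K (AdjoinRoot.powerBasis hf0).gen = f := by
    rw [AdjoinRoot.powerBasis_gen, AdjoinRoot.minpoly_root hf0, hf.leadingCoeff, inv_one, map_one,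
      mul_one]
  refine ⟨Matrix.reindex (finCongr hdim) (finCongr hdim) (Algebra.leftMulMatrix
    (AdjoinRoot.powerBasis hf0).basis (AdjoinRoot.powerBasis hf0).gen), ?_⟩
  rw [Matrix.charpoly_reindex, h1, h2]

/-- In a finite group, a suitable `q^k`-th power (`p ∣ q`) has order prime to `p`. -/
theorem exists_pow_pow_coprime {G : Type*} [Group G] [Finite G] (x : G) (p q : ℕ) (hp : p.Prime)
    (hq : p ∣ q) : ∃ k : ℕ, (orderOf (x ^ (q ^ k))).Coprime p := by
  have hN : orderOf x ≠ 0 := (orderOf_pos x).ne'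
  obtain ⟨k, m, hm, hNm⟩ := Nat.exists_eq_pow_mul_and_not_dvd hN p hp.ne_one
  refine ⟨k, ?_⟩
  have h1 : (x ^ (q ^ k)) ^ m = 1 := by
    rw [← pow_mul]
    apply orderOf_dvd_iff_pow_eq_one.1
    rw [hNm]
    exact Nat.mul_dvd_mul_right (pow_dvd_pow_of_dvd hq k) m
  have h2 : orderOf (x ^ (q ^ k)) ∣ m := orderOf_dvd_of_pow_eq_one h1
  have h3 : m.Coprime p := ((Nat.Prime.coprime_iff_not_dvd hp).2 hm).symm
  exact Nat.Coprime.coprime_dvd_left h2 h3

theorem charpoly_pow_card_pow [Fintype K] {n : ℕ} (M : Matrix (Fin n) (Fin n) K) (k : ℕ) :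
    (M ^ (Fintype.card K ^ k)).charpoly = M.charpoly := by
  induction k with
  | zero => rw [pow_zero, pow_one]
  | succ k ih => rw [pow_succ, pow_mul, FiniteField.Matrix.charpoly_pow_card, ih]

theorem char_dvd_fintype_card [Fintype K] (p : ℕ) [CharP K p] : p ∣ Fintype.card K := by
  rw [← CharP.cast_eq_zero_iff K p]
  exact Nat.cast_card_eq_zero K

/-- Elements of `GL_n` of order prime to `p` with prescribed characteristic polynomial. -/
theorem exists_gl_coprime_charpoly [Fintype K] (p : ℕ) [Fact p.Prime] [CharP K p] {n : ℕ}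
    (f : K[X]) (hf : f.Monic) (hn : f.natDegree = n) (h0 : f.coeff 0 ≠ 0) :
    ∃ s : GL (Fin n) K, (s : Matrix (Fin n) (Fin n) K).charpoly = f ∧ (orderOf s).Coprime p := by
  obtain ⟨M, hM⟩ := exists_matrix_charpoly_eq f hf hn
  have hdet : M.det ≠ 0 := by
    rw [Matrix.det_eq_sign_charpoly_coeff, hM]
    exact mul_ne_zero (pow_ne_zero _ (neg_ne_zero.2 one_ne_zero)) h0
  obtain ⟨k, hk⟩ := exists_pow_pow_coprime (Matrix.GeneralLinearGroup.mkOfDetNeZero M hdet) p
    (Fintype.card K) (Fact.out : p.Prime) (char_dvd_fintype_card p)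
  refine ⟨_, ?_, hk⟩
  rw [Units.val_pow_eq_pow_val]
  show (M ^ (Fintype.card K ^ k)).charpoly = f
  rw [charpoly_pow_card_pow, hM]

/-- Elements of `SL_n` of order prime to `p` with prescribed characteristic polynomial. -/
theorem exists_sl_coprime_charpoly [Fintype K] (p : ℕ) [Fact p.Prime] [CharP K p] {n : ℕ}
    (f : K[X]) (hf : f.Monic) (hn : f.natDegree = n) (h0 : f.coeff 0 = (-1) ^ n) :
    ∃ s : Matrix.SpecialLinearGroup (Fin n) K,
      (s : Matrix (Fin n) (Fin n) K).charpoly = f ∧ (orderOf s).Coprime p := by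
  obtain ⟨M, hM⟩ := exists_matrix_charpoly_eq f hf hn
  have hdet : M.det = 1 := by
    rw [Matrix.det_eq_sign_charpoly_coeff, hM, h0, Fintype.card_fin, ← mul_pow]
    simp
  let M' : Matrix.SpecialLinearGroup (Fin n) K := ⟨M, hdet⟩
  have hM' : (M' : Matrix (Fin n) (Fin n) K) = M := rfl
  obtain ⟨k, hk⟩ := exists_pow_pow_coprime M' p
    (Fintype.card K) (Fact.out : p.Prime) (char_dvd_fintype_card p)
  refine ⟨_, ?_, hk⟩
  rw [Matrix.SpecialLinearGroup.coe_pow, hM', charpoly_pow_card_pow, hM]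

/-! ### Monic polynomials and coefficient vectors -/

/-- The monic polynomial with given lower coefficients. -/
noncomputable def polyOf {n : ℕ} (a : Fin n → K) : K[X] :=
  X ^ n + ((degreeLTEquiv K n).symm a : K[X])

theorem polyOf_degree_lt {n : ℕ} (a : Fin n → K) :
    (((degreeLTEquiv K n).symm a : K[X])).degree < n :=
  mem_degreeLT.1 ((degreeLTEquiv K n).symm a).2

theorem polyOf_monic {n : ℕ} (a : Fin n → K) : (polyOf a).Monic :=
  monic_X_pow_add (polyOf_degree_lt a)

theorem polyOf_natDegree {n : ℕ} (a : Fin n → K) : (polyOf a).natDegree = n := by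
  apply natDegree_eq_of_degree_eq_some
  rw [polyOf, degree_add_eq_left_of_degree_lt, degree_X_pow]
  rw [degree_X_pow]
  exact polyOf_degree_lt a

theorem polyOf_coeff {n : ℕ} (a : Fin n → K) (i : Fin n) : (polyOf a).coeff i = a i := by
  rw [polyOf, coeff_add, coeff_X_pow, if_neg (by have := i.2; omega), zero_add]
  have : (((degreeLTEquiv K n).symm a : K[X])).coeff i =
      degreeLTEquiv K n ((degreeLTEquiv K n).symm a) i := rfl
  rw [this, LinearEquiv.apply_symm_apply]

theorem monic_ext_of_coeff {f g : K[X]} {n : ℕ} (hf : f.Monic) (hg : g.Monic)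
    (hfn : f.natDegree = n) (hgn : g.natDegree = n) (h : ∀ i : Fin n, f.coeff i = g.coeff i) :
    f = g := by
  ext i
  rcases lt_trichotomy i n with hi | hi | hi
  · exact h ⟨i, hi⟩
  · have e1 : f.coeff n = 1 := by
      rw [← hfn]
      exact hf.coeff_natDegree
    have e2 : g.coeff n = 1 := by
      rw [← hgn]
      exact hg.coeff_natDegree
    rw [hi, e1, e2]
  · rw [coeff_eq_zero_of_natDegree_lt (hfn ▸ hi), coeff_eq_zero_of_natDegree_lt (hgn ▸ hi)]

theorem polyOf_coeff_eq {n : ℕ} (f : K[X]) (hf : f.Monic) (hfn : f.natDegree = n) :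
    polyOf (fun i : Fin n => f.coeff i) = f :=
  monic_ext_of_coeff (polyOf_monic _) hf (polyOf_natDegree _) hfn (fun i => polyOf_coeff _ i)

theorem polyOf_injective {n : ℕ} : Function.Injective (polyOf : (Fin n → K) → K[X]) := by
  intro a b hab
  funext i
  rw [← polyOf_coeff a i, hab, polyOf_coeff]

/-! ### Counting coefficient vectors -/

theorem card_vec_ne_zero [Finite K] (m : ℕ) :
    Nat.card {a : Fin (m + 1) → K // a 0 ≠ 0} = (Nat.card K - 1) * Nat.card K ^ m := by
  have e1 : {a : Fin (m + 1) → K // a 0 ≠ 0} ≃ {s : K × (Fin m → K) // s.1 ≠ 0} :=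
    Equiv.subtypeEquiv (Fin.consEquiv (fun _ => K)).symm (fun a => Iff.rfl)
  have e2 : {s : K × (Fin m → K) // s.1 ≠ 0} ≃ {x : K // x ≠ 0} × (Fin m → K) :=
    Equiv.prodSubtypeFstEquivSubtypeProd (p := fun x : K => x ≠ 0)
  rw [Nat.card_congr (e1.trans e2), Nat.card_prod, Nat.card_fun, Nat.card_fin,
    Nat.card_congr (unitsEquivNeZero (G₀ := K)).symm, Nat.card_units]

theorem card_vec_eq [Finite K] (m : ℕ) (c : K) :
    Nat.card {a : Fin (m + 1) → K // a 0 = c} = Nat.card K ^ m := by
  have e1 : {a : Fin (m + 1) → K // a 0 = c} ≃ {s : K × (Fin m → K) // s.1 = c} :=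
    Equiv.subtypeEquiv (Fin.consEquiv (fun _ => K)).symm (fun a => Iff.rfl)
  have e2 : {s : K × (Fin m → K) // s.1 = c} ≃ {x : K // x = c} × (Fin m → K) :=
    Equiv.prodSubtypeFstEquivSubtypeProd (p := fun x : K => x = c)
  rw [Nat.card_congr (e1.trans e2), Nat.card_prod, Nat.card_fun, Nat.card_fin,
    Nat.card_unique, one_mul]

end Cfsg.Agent.Helper12
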