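import Mathlib
import Cfsg.Agent.Helper12.SemisimpleConjE

set_option autoImplicit false

/-! The number of conjugacy classes of elements of order prime to `p` in `GL_n(q)` and `SL_n(q)`. -/

open Polynomial Module

namespace Cfsg.Agent.Helper12

universe u

variable {K : Type u} [Field K]

theorem charpoly_eq_of_isConj_gl {n : ℕ} {g h : GL (Fin n) K} (hc : IsConj g h) :
    (g : Matrix (Fin n) (Fin n) K).charpoly = (h : Matrix (Fin n) (Fin n) K).charpoly := by
  rw [isConj_iff] at hc
  obtain ⟨c, hc⟩ := hc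
  rw [← hc, Units.val_mul, Units.val_mul, Matrix.coe_units_inv]
  exact (Matrix.charpoly_units_conj c _).symm

theorem charpoly_eq_of_isConj_sl {n : ℕ} {g h : Matrix.SpecialLinearGroup (Fin n) K}
    (hc : IsConj g h) :
    (g : Matrix (Fin n) (Fin n) K).charpoly = (h : Matrix (Fin n) (Fin n) K).charpoly := by
  have := charpoly_eq_of_isConj_gl (MonoidHom.map_isConj Matrix.SpecialLinearGroup.toGL hc)
  rw [Matrix.SpecialLinearGroup.coe_GL_coe_matrix, Matrix.SpecialLinearGroup.coe_GL_coe_matrix]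
    at this
  exact this

/-- The number of classes of elements of order prime to `p` in `GL_{m+1}(q)`. -/
theorem card_gl_coprime_classes [Fintype K] (p : ℕ) [Fact p.Prime] [CharP K p] (m : ℕ) :
    Nat.card {c : ConjClasses (GL (Fin (m + 1)) K) //
      ∃ g : GL (Fin (m + 1)) K, ConjClasses.mk g = c ∧ (orderOf g).Coprime p} =
      (Fintype.card K - 1) * Fintype.card K ^ m := by
  rw [← Nat.card_eq_fintype_card, ← card_vec_ne_zero m]
  symm
  have hex : ∀ a : {a : Fin (m + 1) → K // a 0 ≠ 0}, ∃ s : GL (Fin (m + 1)) K,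
      (s : Matrix (Fin (m + 1)) (Fin (m + 1)) K).charpoly = polyOf a.1 ∧ (orderOf s).Coprime p := by
    intro a
    apply exists_gl_coprime_charpoly p _ (polyOf_monic _) (polyOf_natDegree _)
    have := polyOf_coeff a.1 0
    rw [Fin.val_zero] at this
    rw [this]
    exact a.2
  choose s hs1 hs2 using hex
  apply Nat.card_eq_of_bijective (fun a => (⟨ConjClasses.mk (s a), ⟨s a, rfl, hs2 a⟩⟩ :
    {c : ConjClasses (GL (Fin (m + 1)) K) //
      ∃ g : GL (Fin (m + 1)) K, ConjClasses.mk g = c ∧ (orderOf g).Coprime p}))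
  constructor
  · intro a b hab
    have h1 : ConjClasses.mk (s a) = ConjClasses.mk (s b) := congrArg Subtype.val hab
    rw [ConjClasses.mk_eq_mk_iff_isConj] at h1
    have h2 := charpoly_eq_of_isConj_gl h1
    rw [hs1, hs1] at h2
    exact Subtype.ext (polyOf_injective h2)
  · rintro ⟨_, g, rfl, hg⟩
    have hfm : (g : Matrix (Fin (m + 1)) (Fin (m + 1)) K).charpoly.Monic := Matrix.charpoly_monic _
    have hfn : (g : Matrix (Fin (m + 1)) (Fin (m + 1)) K).charpoly.natDegree = m + 1 := by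
      rw [Matrix.charpoly_natDegree_eq_dim, Fintype.card_fin]
    have hf0 : (g : Matrix (Fin (m + 1)) (Fin (m + 1)) K).charpoly.coeff 0 ≠ 0 := by
      intro h0
      have h1 := Matrix.det_eq_sign_charpoly_coeff (g : Matrix (Fin (m + 1)) (Fin (m + 1)) K)
      rw [h0, mul_zero] at h1
      have h2 := (Matrix.isUnit_iff_isUnit_det (g : Matrix (Fin (m + 1)) (Fin (m + 1)) K)).1
        g.isUnit
      exact h2.ne_zero h1
    refine ⟨⟨fun i => (g : Matrix (Fin (m + 1)) (Fin (m + 1)) K).charpoly.coeff i, ?_⟩, ?_⟩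
    · show (g : Matrix (Fin (m + 1)) (Fin (m + 1)) K).charpoly.coeff ((0 : Fin (m + 1)) : ℕ) ≠ 0
      rw [Fin.val_zero]
      exact hf0
    · apply Subtype.ext
      show ConjClasses.mk (s _) = ConjClasses.mk g
      rw [ConjClasses.mk_eq_mk_iff_isConj]
      apply gl_isConj_of_charpoly_eq p _ _ (hs2 _) hg
      rw [hs1]
      exact polyOf_coeff_eq _ hfm hfn

/-- The number of classes of elements of order prime to `p` in `SL_{m+1}(q)`. -/
theorem card_sl_coprime_classes [Fintype K] (p : ℕ) [Fact p.Prime] [CharP K p] (m : ℕ) :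
    Nat.card {c : ConjClasses (Matrix.SpecialLinearGroup (Fin (m + 1)) K) //
      ∃ g : Matrix.SpecialLinearGroup (Fin (m + 1)) K,
        ConjClasses.mk g = c ∧ (orderOf g).Coprime p} = Fintype.card K ^ m := by
  rw [← Nat.card_eq_fintype_card, ← card_vec_eq m ((-1 : K) ^ (m + 1))]
  symm
  have hex : ∀ a : {a : Fin (m + 1) → K // a 0 = (-1) ^ (m + 1)},
      ∃ s : Matrix.SpecialLinearGroup (Fin (m + 1)) K,
      (s : Matrix (Fin (m + 1)) (Fin (m + 1)) K).charpoly = polyOf a.1 ∧ (orderOf s).Coprime p := by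
    intro a
    apply exists_sl_coprime_charpoly p _ (polyOf_monic _) (polyOf_natDegree _)
    have := polyOf_coeff a.1 0
    rw [Fin.val_zero] at this
    rw [this]
    exact a.2
  choose s hs1 hs2 using hex
  apply Nat.card_eq_of_bijective (fun a => (⟨ConjClasses.mk (s a), ⟨s a, rfl, hs2 a⟩⟩ :
    {c : ConjClasses (Matrix.SpecialLinearGroup (Fin (m + 1)) K) //
      ∃ g : Matrix.SpecialLinearGroup (Fin (m + 1)) K,
        ConjClasses.mk g = c ∧ (orderOf g).Coprime p}))
  constructor
  · intro a b hab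
    have h1 : ConjClasses.mk (s a) = ConjClasses.mk (s b) := congrArg Subtype.val hab
    rw [ConjClasses.mk_eq_mk_iff_isConj] at h1
    have h2 := charpoly_eq_of_isConj_sl h1
    rw [hs1, hs1] at h2
    exact Subtype.ext (polyOf_injective h2)
  · rintro ⟨_, g, rfl, hg⟩
    have hfm : (g : Matrix (Fin (m + 1)) (Fin (m + 1)) K).charpoly.Monic := Matrix.charpoly_monic _
    have hfn : (g : Matrix (Fin (m + 1)) (Fin (m + 1)) K).charpoly.natDegree = m + 1 := by
      rw [Matrix.charpoly_natDegree_eq_dim, Fintype.card_fin]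
    have hf0 : (g : Matrix (Fin (m + 1)) (Fin (m + 1)) K).charpoly.coeff 0 = (-1) ^ (m + 1) := by
      have h1 := Matrix.det_eq_sign_charpoly_coeff (g : Matrix (Fin (m + 1)) (Fin (m + 1)) K)
      rw [g.2, Fintype.card_fin] at h1
      have h2 : ((-1 : K) ^ (m + 1)) * (-1) ^ (m + 1) = 1 := by
        rw [← mul_pow]
        simp
      calc (g : Matrix (Fin (m + 1)) (Fin (m + 1)) K).charpoly.coeff 0
          = ((-1 : K) ^ (m + 1) * (-1) ^ (m + 1)) *
            (g : Matrix (Fin (m + 1)) (Fin (m + 1)) K).charpoly.coeff 0 := by rw [h2, one_mul]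
        _ = (-1) ^ (m + 1) * ((-1) ^ (m + 1) *
            (g : Matrix (Fin (m + 1)) (Fin (m + 1)) K).charpoly.coeff 0) := by ring
        _ = (-1) ^ (m + 1) := by rw [← h1, mul_one]
    refine ⟨⟨fun i => (g : Matrix (Fin (m + 1)) (Fin (m + 1)) K).charpoly.coeff i, ?_⟩, ?_⟩
    · show (g : Matrix (Fin (m + 1)) (Fin (m + 1)) K).charpoly.coeff ((0 : Fin (m + 1)) : ℕ) =
        (-1) ^ (m + 1)
      rw [Fin.val_zero]
      exact hf0
    · apply Subtype.ext
      show ConjClasses.mk (s _) = ConjClasses.mk g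
      rw [ConjClasses.mk_eq_mk_iff_isConj]
      apply sl_isConj_of_charpoly_eq p _ _ (hs2 _) hg
      rw [hs1]
      exact polyOf_coeff_eq _ hfm hfn

end Cfsg.Agent.Helper12
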