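import Mathlib
import Cfsg.Agent.Helper12.SemisimpleConjF

set_option autoImplicit false

/-! Semisimple matrices and the irreducible factors of their characteristic polynomials. -/

open Polynomial Module UniqueFactorizationMonoid

namespace Cfsg.Agent.Helper12.POC

universe u

variable {K : Type u} [Field K]

/-- A squarefree polynomial all of whose irreducible factors divide `N` divides `N`. -/
theorem dvd_of_squarefree_of_forall_irreducible_dvd {m N : K[X]} (hm : Squarefree m) (hN : N ≠ 0)
    (h : ∀ Q : K[X], Irreducible Q → Q ∣ m → Q ∣ N) : m ∣ N := by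
  classical
  have hm0 : m ≠ 0 := hm.ne_zero
  rw [dvd_iff_normalizedFactors_le_normalizedFactors hm0 hN,
    Multiset.le_iff_subset ((squarefree_iff_nodup_normalizedFactors hm0).1 hm)]
  intro Q hQ
  rw [mem_normalizedFactors_iff' hm0] at hQ
  rw [mem_normalizedFactors_iff' hN]
  exact ⟨hQ.1, hQ.2.1, h Q hQ.1 hQ.2.2⟩

/-- A semisimple matrix is annihilated by any `N` divisible by all irreducible factors of its
characteristic polynomial. -/
theorem aeval_eq_zero_of_semisimple {n : ℕ} (g : Matrix (Fin n) (Fin n) K)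
    (hss : Module.End.IsSemisimple (Matrix.toLin' g)) (N : K[X]) (hN0 : N ≠ 0)
    (h : ∀ Q : K[X], Irreducible Q → Q ∣ g.charpoly → Q ∣ N) : aeval g N = 0 := by
  have hsq : Squarefree (minpoly K g) := by
    rw [← Matrix.minpoly_toLin']
    exact hss.minpoly_squarefree
  have hdvd : minpoly K g ∣ N :=
    dvd_of_squarefree_of_forall_irreducible_dvd hsq hN0
      (fun Q hQ hQm => h Q hQ (hQm.trans (Matrix.minpoly_dvd_charpoly g)))
  obtain ⟨k, rfl⟩ := hdvd
  rw [map_mul, minpoly.aeval, zero_mul]

/-- Irreducible factors of the characteristic polynomial divide every annihilating polynomial. -/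
theorem dvd_of_irreducible_dvd_charpoly {n : ℕ} (g : Matrix (Fin n) (Fin n) K) (N : K[X])
    (hN : aeval g N = 0) (Q : K[X]) (hQ : Irreducible Q) (hQg : Q ∣ g.charpoly) : Q ∣ N := by
  have hQ' : Q ∣ LinearMap.charpoly (Matrix.toLin' g) := by
    rw [Matrix.charpoly_toLin']
    exact hQg
  obtain ⟨w, hw0, hw⟩ := exists_ne_zero_aeval_eq_zero (Matrix.toLin' g) Q hQ hQ'
  by_contra hndvd
  obtain ⟨a, b, hab⟩ := (hQ.coprime_iff_not_dvd).2 hndvd
  apply hw0
  have hN' : aeval (Matrix.toLin' g) N = 0 := by
    have := Polynomial.aeval_algHom_apply (Matrix.toLinAlgEquiv' (R := K) (n := Fin n)).toAlgHom g N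
    have e1 : ((Matrix.toLinAlgEquiv' (R := K) (n := Fin n)).toAlgHom : _ → _) g =
        Matrix.toLin' g := rfl
    rw [e1] at this
    rw [this, hN, map_zero]
  have h1 : aeval (Matrix.toLin' g) (a * Q + b * N) w = w := by
    rw [hab, map_one, Module.End.one_apply]
  rw [map_add, map_mul, map_mul, LinearMap.add_apply, Module.End.mul_apply,
    Module.End.mul_apply, hw, hN', map_zero, LinearMap.zero_apply, map_zero, add_zero] at h1
  exact h1.symm

/-- `g^r = 1` from the annihilating polynomial `X^r - 1`. -/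
theorem pow_eq_one_of_aeval {n : ℕ} (g : Matrix (Fin n) (Fin n) K) (r : ℕ)
    (h : aeval g (X ^ r - 1 : K[X]) = 0) : g ^ r = 1 := by
  rw [map_sub, map_pow, aeval_X, map_one, sub_eq_zero] at h
  exact h

theorem aeval_of_pow_eq_one {n : ℕ} (g : Matrix (Fin n) (Fin n) K) (r : ℕ)
    (h : g ^ r = 1) : aeval g (X ^ r - 1 : K[X]) = 0 := by
  rw [map_sub, map_pow, aeval_X, map_one, h, sub_self]

end Cfsg.Agent.Helper12.POC
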