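import Mathlib
import Cfsg.Agent.Helper12.OrthGenB

set_option autoImplicit false
set_option linter.unusedSectionVars false
set_option linter.unusedVariables false

/-! Hyperbolic frames of arbitrary rank: the "short root groups" `E(e_i, w)`, `E(f_i, w)`
(`w` orthogonal to the frame) generate everything. -/

namespace Cfsg.Agent.Helper12.OrthGen

open Matrix Cfsg.Agent.Helper28.Sg Cfsg.Agent.Helper28.Spin

variable {F : Type*} [Field F] {ι : Type} [Fintype ι] [DecidableEq ι]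
  {Q : QuadraticForm F (ι → F)}

/-- `r` mutually orthogonal hyperbolic pairs -/
structure HFrame (Q : QuadraticForm F (ι → F)) (r : ℕ) where
  e : Fin r → ι → F
  f : Fin r → ι → F
  Qe : ∀ i, Q (e i) = 0
  Qf : ∀ i, Q (f i) = 0
  Bee : ∀ i j, B Q (e i) (e j) = 0
  Bff : ∀ i j, B Q (f i) (f j) = 0
  Bef : ∀ i j, B Q (e i) (f j) = if i = j then 1 else 0

namespace HFrame

variable {r : ℕ} (fr : HFrame Q r)

theorem Bfe (i j : Fin r) : B Q (fr.f i) (fr.e j) = if i = j then 1 else 0 := by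
  rw [B_comm, fr.Bef]
  by_cases h : i = j
  · subst h; simp
  · rw [if_neg h, if_neg (fun h' => h h'.symm)]

theorem hypPair (i : Fin r) : HypPair Q (fr.e i) (fr.f i) :=
  ⟨fr.Qe i, fr.Qf i, by rw [fr.Bef, if_pos rfl]⟩

/-- vectors orthogonal to the frame -/
def InV0 (w : ι → F) : Prop := ∀ i, B Q (fr.e i) w = 0 ∧ B Q (fr.f i) w = 0

theorem InV0.smul {w : ι → F} (hw : fr.InV0 w) (c : F) : fr.InV0 (c • w) := fun i =>
  ⟨B_smul_right_zero Q c (hw i).1, B_smul_right_zero Q c (hw i).2⟩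

theorem InV0.add {w w' : ι → F} (hw : fr.InV0 w) (hw' : fr.InV0 w') : fr.InV0 (w + w') := fun i =>
  ⟨B_add_right_zero Q (hw i).1 (hw' i).1, B_add_right_zero Q (hw i).2 (hw' i).2⟩

/-- the component of a vector orthogonal to the frame -/
def proj0 (x : ι → F) : ι → F :=
  x - ∑ j, (B Q (fr.f j) x • fr.e j + B Q (fr.e j) x • fr.f j)

theorem B_sum_right (u : ι → F) {κ : Type*} (s : Finset κ) (g : κ → ι → F) :
    B Q u (∑ k ∈ s, g k) = ∑ k ∈ s, B Q u (g k) := by
  have : ∀ v, B Q u v = QuadraticMap.polarBilin Q u v := fun v => rfl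
  rw [this, map_sum]
  rfl

theorem inV0_proj0 (x : ι → F) : fr.InV0 (fr.proj0 x) := by
  classical
  intro i
  constructor
  · unfold proj0
    show QuadraticMap.polar ⇑Q (fr.e i) _ = 0
    rw [QuadraticMap.polar_sub_right]
    have := B_sum_right (Q := Q) (fr.e i) Finset.univ
      (fun j => B Q (fr.f j) x • fr.e j + B Q (fr.e j) x • fr.f j)
    simp only [B] at this
    rw [this]
    have h2 : ∀ j, QuadraticMap.polar ⇑Q (fr.e i)
        (QuadraticMap.polar ⇑Q (fr.f j) x • fr.e j + QuadraticMap.polar ⇑Q (fr.e j) x • fr.f j) =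
        if i = j then QuadraticMap.polar ⇑Q (fr.e j) x else 0 := by
      intro j
      rw [QuadraticMap.polar_add_right, QuadraticMap.polar_smul_right,
        QuadraticMap.polar_smul_right]
      have h3 := fr.Bee i j; have h4 := fr.Bef i j
      simp only [B] at h3 h4
      rw [h3, h4]
      by_cases h : i = j <;> simp [h]
    simp only [h2]
    rw [Finset.sum_ite_eq Finset.univ i]
    simp
  · unfold proj0
    show QuadraticMap.polar ⇑Q (fr.f i) _ = 0
    rw [QuadraticMap.polar_sub_right]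
    have := B_sum_right (Q := Q) (fr.f i) Finset.univ
      (fun j => B Q (fr.f j) x • fr.e j + B Q (fr.e j) x • fr.f j)
    simp only [B] at this
    rw [this]
    have h2 : ∀ j, QuadraticMap.polar ⇑Q (fr.f i)
        (QuadraticMap.polar ⇑Q (fr.f j) x • fr.e j + QuadraticMap.polar ⇑Q (fr.e j) x • fr.f j) =
        if i = j then QuadraticMap.polar ⇑Q (fr.f j) x else 0 := by
      intro j
      rw [QuadraticMap.polar_add_right, QuadraticMap.polar_smul_right,
        QuadraticMap.polar_smul_right]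
      have h3 := fr.Bff i j; have h4 := fr.Bfe i j
      simp only [B] at h3 h4
      rw [h3, h4]
      by_cases h : i = j <;> simp [h]
    simp only [h2]
    rw [Finset.sum_ite_eq Finset.univ i]
    simp

theorem eq_sum_add_proj0 (x : ι → F) :
    x = ∑ j, (B Q (fr.f j) x • fr.e j + B Q (fr.e j) x • fr.f j) + fr.proj0 x := by
  unfold proj0; abel

end HFrame

variable {H : Subgroup ↥(Cfsg.isometryGroup F ⇑Q)} {r : ℕ}

/-- from the short root groups to the full unipotent radicals of the pair `i₀` -/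
theorem rad_of_short (fr : HFrame Q r)
    (hSe : ∀ i w, fr.InV0 w → w ∈ Rad H (fr.e i) (fr.Qe i))
    (hSf : ∀ i w, fr.InV0 w → w ∈ Rad H (fr.f i) (fr.Qf i))
    {w₁ w₂ : ι → F} (h1 : fr.InV0 w₁) (h2 : fr.InV0 w₂) (h12 : B Q w₁ w₂ ≠ 0)
    (i₀ : Fin r) (w : ι → F) (hew : B Q (fr.e i₀) w = 0) (hfw : B Q (fr.f i₀) w = 0) :
    w ∈ Rad H (fr.e i₀) (fr.Qe i₀) ∧ w ∈ Rad H (fr.f i₀) (fr.Qf i₀) := by
  classical
  -- the long root elements
  have key : ∀ (u u' : ι → F) (hu : Q u = 0) (hu' : Q u' = 0),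
      (∀ w, fr.InV0 w → w ∈ Rad H u hu) → (∀ w, fr.InV0 w → w ∈ Rad H u' hu') →
      B Q u u' = 0 → (∀ w, fr.InV0 w → B Q u w = 0) → (∀ w, fr.InV0 w → B Q u' w = 0) →
      ∀ t : F, t • u' ∈ Rad H u hu := by
    intro u u' hu hu' hU hU' huu' hperp hperp' t
    have ha := hU w₂ h2
    have hb := hU' ((t * (B Q w₁ w₂)⁻¹) • w₁) (h1.smul fr _)
    have := Rad_comm ha hb huu' (hperp _ (h1.smul fr _)) (hperp' _ h2)
    have e1 : B Q ((t * (B Q w₁ w₂)⁻¹) • w₁) w₂ = t := by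
      show QuadraticMap.polar ⇑Q ((t * (B Q w₁ w₂)⁻¹) • w₁) w₂ = t
      rw [QuadraticMap.polar_smul_left, smul_eq_mul, mul_assoc]
      show t * ((B Q w₁ w₂)⁻¹ * B Q w₁ w₂) = t
      rw [inv_mul_cancel₀ h12, mul_one]
    rwa [e1] at this
  have hperp_e : ∀ i w, fr.InV0 w → B Q (fr.e i) w = 0 := fun i w hw => (hw i).1
  have hperp_f : ∀ i w, fr.InV0 w → B Q (fr.f i) w = 0 := fun i w hw => (hw i).2
  have hx := fr.eq_sum_add_proj0 w
  have h0 := fr.inV0_proj0 w
  constructor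
  · rw [hx]
    refine (Rad H _ _).add_mem (AddSubgroup.sum_mem _ fun j _ => ?_) (hSe i₀ _ h0)
    by_cases hj : j = i₀
    · subst hj
      rw [hew, hfw, zero_smul, zero_smul, add_zero]
      exact (Rad H _ _).zero_mem
    · refine (Rad H _ _).add_mem ?_ ?_
      · exact key _ _ (fr.Qe i₀) (fr.Qe j) (hSe i₀) (hSe j) (fr.Bee i₀ j) (hperp_e i₀)
          (hperp_e j) _
      · refine key _ _ (fr.Qe i₀) (fr.Qf j) (hSe i₀) (hSf j) ?_ (hperp_e i₀) (hperp_f j) _
        rw [fr.Bef, if_neg (fun h => hj h.symm)]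
  · rw [hx]
    refine (Rad H _ _).add_mem (AddSubgroup.sum_mem _ fun j _ => ?_) (hSf i₀ _ h0)
    by_cases hj : j = i₀
    · subst hj
      rw [hew, hfw, zero_smul, zero_smul, add_zero]
      exact (Rad H _ _).zero_mem
    · refine (Rad H _ _).add_mem ?_ ?_
      · refine key _ _ (fr.Qf i₀) (fr.Qe j) (hSf i₀) (hSe j) ?_ (hperp_f i₀) (hperp_e j) _
        rw [fr.Bfe, if_neg (fun h => hj h.symm)]
      · exact key _ _ (fr.Qf i₀) (fr.Qf j) (hSf i₀) (hSf j) (fr.Bff i₀ j) (hperp_f i₀)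
          (hperp_f j) _

/-- **Criterion for frames**: the short root groups generate. -/
theorem S_le_of_short (hQ : (QuadraticMap.polarBilin Q).Nondegenerate) (fr : HFrame Q r)
    (i₀ : Fin r)
    (hSe : ∀ i w, fr.InV0 w → w ∈ Rad H (fr.e i) (fr.Qe i))
    (hSf : ∀ i w, fr.InV0 w → w ∈ Rad H (fr.f i) (fr.Qf i))
    {w₁ w₂ : ι → F} (h1 : fr.InV0 w₁) (h2 : fr.InV0 w₂) (h12 : B Q w₁ w₂ ≠ 0) :
    S Q ≤ H := by
  -- a nonsingular vector orthogonal to the frame
  obtain ⟨w₀, hw₀, hQ₀⟩ : ∃ w₀, fr.InV0 w₀ ∧ Q w₀ ≠ 0 := by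
    by_cases ha : Q w₁ = 0
    · by_cases hb : Q w₂ = 0
      · refine ⟨w₁ + w₂, h1.add fr h2, ?_⟩
        rw [Q_add, ha, hb, zero_add, zero_add]; exact h12
      · exact ⟨w₂, h2, hb⟩
    · exact ⟨w₁, h1, ha⟩
  refine S_le_of_rad hQ (fr.hypPair i₀) (fun w hew hfw => ?_) (fun w hew hfw => ?_)
    (hw₀ i₀).1 (hw₀ i₀).2 hQ₀
  · exact (rad_of_short fr hSe hSf h1 h2 h12 i₀ w hew hfw).1
  · exact (rad_of_short fr hSe hSf h1 h2 h12 i₀ w hew hfw).2

end Cfsg.Agent.Helper12.OrthGen
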