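import Mathlib
import Cfsg.Agent.Helper12.OrthGenC

set_option autoImplicit false
set_option linter.unusedSectionVars false
set_option linter.unusedVariables false
set_option linter.unusedSimpArgs false

/-! Weyl elements (as matrices) attached to a hyperbolic frame, and the Coxeter-like product. -/

namespace Cfsg.Agent.Helper12.OrthGen

open Matrix Cfsg.Agent.Helper28.Sg Cfsg.Agent.Helper28.Spin

variable {F : Type*} [Field F] {ι : Type} [Fintype ι] [DecidableEq ι]
  {Q : QuadraticForm F (ι → F)}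

/-- short Weyl element (matrix) -/
def nSM (Q : QuadraticForm F (ι → F)) (e f w : ι → F) : Matrix ι ι F :=
  siegM Q e w * siegM Q f ((Q w)⁻¹ • w) * siegM Q e w

/-- long Weyl element (matrix) -/
def nLM (Q : QuadraticForm F (ι → F)) (e f e' f' : ι → F) : Matrix ι ι F :=
  siegM Q e f' * siegM Q e' (-f) * siegM Q e f'

theorem nSM_mulVec {e f w : ι → F} (hp : HypPair Q e f) (hew : B Q e w = 0) (hfw : B Q f w = 0)
    (hκ : Q w ≠ 0) (x : ι → F) :
    nSM Q e f w *ᵥ x = x - B Q f x • e - B Q e x • f - ((Q w)⁻¹ * B Q f x) • f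
      - (Q w * B Q e x) • e - ((Q w)⁻¹ * B Q w x) • w := by
  unfold nSM
  rw [← Matrix.mulVec_mulVec, ← Matrix.mulVec_mulVec, siegM_mulVec Q e w x, siegM_mulVec,
    siegM_mulVec, Q_smul]
  have h1 := hp.Bef; have h2 := hp.Bfe; have h3 := hp.Bee; have h4 := hp.Bff
  have hww : B Q w w = 2 * Q w := B_self Q w
  have hwe : B Q w e = 0 := by rw [B_comm]; exact hew
  have hwf : B Q w f = 0 := by rw [B_comm]; exact hfw
  simp only [B] at h1 h2 h3 h4 hww hwe hwf hew hfw
  simp only [B, QuadraticMap.polar_add_right, QuadraticMap.polar_sub_right,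
    QuadraticMap.polar_smul_right, QuadraticMap.polar_smul_left, smul_eq_mul,
    h1, h2, h3, h4, hww, hwe, hwf, hew, hfw]
  ext i
  simp only [Pi.add_apply, Pi.sub_apply, Pi.smul_apply, smul_eq_mul]
  field_simp
  ring

/-- two orthogonal hyperbolic pairs -/
structure HypQuad (Q : QuadraticForm F (ι → F)) (e f e' f' : ι → F) : Prop where
  p1 : HypPair Q e f
  p2 : HypPair Q e' f'
  ee : B Q e e' = 0
  ef : B Q e f' = 0
  fe : B Q f e' = 0
  ff : B Q f f' = 0

theorem nLM_mulVec {e f e' f' : ι → F} (hq : HypQuad Q e f e' f') (x : ι → F) :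
    nLM Q e f e' f' *ᵥ x = x + (-B Q f x - B Q f' x) • e + (B Q f x - B Q f' x) • e'
      + (-B Q e x - B Q e' x) • f + (B Q e x - B Q e' x) • f' := by
  unfold nLM
  rw [← Matrix.mulVec_mulVec, ← Matrix.mulVec_mulVec, siegM_mulVec Q e f' x, siegM_mulVec,
    siegM_mulVec, hq.p2.Qf]
  have hQnf : Q (-f) = 0 := by rw [QuadraticMap.map_neg, hq.p1.Qf]
  rw [hQnf]
  have a1 := hq.p1.Bef; have a2 := hq.p1.Bfe; have a3 := hq.p1.Bee; have a4 := hq.p1.Bff
  have b1 := hq.p2.Bef; have b2 := hq.p2.Bfe; have b3 := hq.p2.Bee; have b4 := hq.p2.Bff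
  have c1 := hq.ee; have c2 := hq.ef; have c3 := hq.fe; have c4 := hq.ff
  have d1 : B Q e' e = 0 := by rw [B_comm]; exact hq.ee
  have d2 : B Q f' e = 0 := by rw [B_comm]; exact hq.ef
  have d3 : B Q e' f = 0 := by rw [B_comm]; exact hq.fe
  have d4 : B Q f' f = 0 := by rw [B_comm]; exact hq.ff
  simp only [B] at a1 a2 a3 a4 b1 b2 b3 b4 c1 c2 c3 c4 d1 d2 d3 d4
  simp only [B, QuadraticMap.polar_add_right, QuadraticMap.polar_sub_right,
    QuadraticMap.polar_smul_right, QuadraticMap.polar_smul_left, QuadraticMap.polar_neg_left,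
    QuadraticMap.polar_neg_right, smul_eq_mul,
    a1, a2, a3, a4, b1, b2, b3, b4, c1, c2, c3, c4, d1, d2, d3, d4]
  ext i
  simp only [Pi.add_apply, Pi.sub_apply, Pi.smul_apply, Pi.neg_apply, smul_eq_mul]
  ring

/-- membership of a matrix in the subgroup `S` -/
def InS (Q : QuadraticForm F (ι → F)) (M : Matrix ι ι F) : Prop :=
  ∃ g : ↥(Cfsg.isometryGroup F ⇑Q), g ∈ S Q ∧ mt Q g = M

theorem InS.mul {M N : Matrix ι ι F} (hM : InS Q M) (hN : InS Q N) : InS Q (M * N) := by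
  obtain ⟨g, hg, rfl⟩ := hM
  obtain ⟨h, hh, rfl⟩ := hN
  exact ⟨g * h, (S Q).mul_mem hg hh, rfl⟩

theorem inS_siegM {u v : ι → F} (hu : Q u = 0) (huv : B Q u v = 0) : InS Q (siegM Q u v) :=
  ⟨siegO Q u v hu huv, siegO_mem_S Q u v hu huv, rfl⟩

theorem inS_nSM {e f w : ι → F} (hp : HypPair Q e f) (hew : B Q e w = 0) (hfw : B Q f w = 0) :
    InS Q (nSM Q e f w) := by
  unfold nSM
  exact ((inS_siegM hp.Qe hew).mul (inS_siegM hp.Qf (B_smul_right_zero Q _ hfw))).mul
    (inS_siegM hp.Qe hew)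

theorem inS_nLM {e f e' f' : ι → F} (hq : HypQuad Q e f e' f') : InS Q (nLM Q e f e' f') := by
  unfold nLM
  have h : B Q e' (-f) = 0 := by rw [B_neg_right, B_comm, hq.fe, neg_zero]
  exact ((inS_siegM hq.p1.Qe hq.ef).mul (inS_siegM hq.p2.Qe h)).mul (inS_siegM hq.p1.Qe hq.ef)

/-- the reflection formula -/
def reflV (Q : QuadraticForm F (ι → F)) (w y : ι → F) : ι → F := y - ((Q w)⁻¹ * B Q w y) • w

theorem reflV_reflV {w : ι → F} (hκ : Q w ≠ 0) (y : ι → F) : reflV Q w (reflV Q w y) = y := by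
  unfold reflV
  have hww : B Q w w = 2 * Q w := B_self Q w
  simp only [B] at hww
  simp only [B, QuadraticMap.polar_sub_right, QuadraticMap.polar_smul_right, smul_eq_mul, hww]
  ext i
  simp only [Pi.sub_apply, Pi.smul_apply, smul_eq_mul]
  field_simp
  ring

namespace HFrame

variable {n : ℕ}

/-- drop the first hyperbolic pair -/
def tail (fr : HFrame Q (n + 1)) : HFrame Q n where
  e := fun i => fr.e i.succ
  f := fun i => fr.f i.succ
  Qe := fun i => fr.Qe _
  Qf := fun i => fr.Qf _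
  Bee := fun i j => fr.Bee _ _
  Bff := fun i j => fr.Bff _ _
  Bef := fun i j => by
    rw [fr.Bef]
    by_cases h : i = j
    · subst h; simp
    · rw [if_neg h, if_neg (fun h' => h (Fin.succ_injective _ h'))]

theorem InV0.tail {fr : HFrame Q (n + 1)} {w : ι → F} (hw : fr.InV0 w) : fr.tail.InV0 w :=
  fun i => hw i.succ

theorem inV0_tail_e0 (fr : HFrame Q (n + 1)) : fr.tail.InV0 (fr.e 0) := fun i => by
  constructor
  · exact fr.Bee _ _
  · show B Q (fr.f i.succ) (fr.e 0) = 0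
    rw [fr.Bfe, if_neg (Fin.succ_ne_zero i)]

theorem inV0_tail_f0 (fr : HFrame Q (n + 1)) : fr.tail.InV0 (fr.f 0) := fun i => by
  constructor
  · show B Q (fr.e i.succ) (fr.f 0) = 0
    rw [fr.Bef, if_neg (Fin.succ_ne_zero i)]
  · exact fr.Bff _ _

theorem hypQuad (fr : HFrame Q n) {i j : Fin n} (hij : i ≠ j) :
    HypQuad Q (fr.e i) (fr.f i) (fr.e j) (fr.f j) where
  p1 := fr.hypPair i
  p2 := fr.hypPair j
  ee := fr.Bee i j
  ef := by rw [fr.Bef, if_neg hij]
  fe := by rw [fr.Bfe, if_neg hij]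
  ff := fr.Bff i j

theorem InV0.reflV {fr : HFrame Q n} {w y : ι → F} (hw : fr.InV0 w) (hy : fr.InV0 y) :
    fr.InV0 (reflV Q w y) := by
  unfold OrthGen.reflV
  rw [sub_eq_add_neg, ← neg_smul]
  exact hy.add fr (hw.smul fr _)

end HFrame

/-- the Coxeter-like product of Weyl elements (matrix) -/
def coxM (Q : QuadraticForm F (ι → F)) : (n : ℕ) → (Fin (n + 1) → ι → F) →
    (Fin (n + 1) → ι → F) → (ι → F) → Matrix ι ι F
  | 0, e, f, w => nSM Q (e 0) (f 0) w
  | (n + 1), e, f, w => nLM Q (e 0) (f 0) (e 1) (f 1) * coxM Q n (Fin.tail e) (Fin.tail f) w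

theorem coxM_succ (n : ℕ) (fr : HFrame Q (n + 2)) (w : ι → F) :
    coxM Q (n + 1) fr.e fr.f w =
      nLM Q (fr.e 0) (fr.f 0) (fr.e 1) (fr.f 1) * coxM Q n fr.tail.e fr.tail.f w := rfl

theorem inS_coxM : ∀ (n : ℕ) (fr : HFrame Q (n + 1)) {w : ι → F}, fr.InV0 w →
    InS Q (coxM Q n fr.e fr.f w)
  | 0, fr, w, hw => inS_nSM (fr.hypPair 0) (hw 0).1 (hw 0).2
  | (n + 1), fr, w, hw => by
    rw [coxM_succ]
    exact (inS_nLM (fr.hypQuad (by simp))).mul (inS_coxM n fr.tail hw.tail)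

/-- on vectors orthogonal to the frame, the product acts as the reflection in `w` -/
theorem coxM_mulVec_of_inV0 : ∀ (n : ℕ) (fr : HFrame Q (n + 1)) {w : ι → F}, fr.InV0 w →
    Q w ≠ 0 → ∀ y, fr.InV0 y → coxM Q n fr.e fr.f w *ᵥ y = reflV Q w y
  | 0, fr, w, hw, hκ, y, hy => by
    show nSM Q (fr.e 0) (fr.f 0) w *ᵥ y = _
    rw [nSM_mulVec (fr.hypPair 0) (hw 0).1 (hw 0).2 hκ, (hy 0).1, (hy 0).2]
    unfold reflV
    module
  | (n + 1), fr, w, hw, hκ, y, hy => by
    rw [coxM_succ, ← Matrix.mulVec_mulVec, coxM_mulVec_of_inV0 n fr.tail hw.tail hκ y hy.tail,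
      nLM_mulVec (fr.hypQuad (by simp))]
    have h := hw.reflV hy
    rw [(h 0).1, (h 0).2, (h 1).1, (h 1).2]
    module

end Cfsg.Agent.Helper12.OrthGen
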