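import Mathlib
import Cfsg.Agent.Helper12.OrthGenD

set_option autoImplicit false
set_option linter.unusedSectionVars false
set_option linter.unusedVariables false
set_option linter.unusedSimpArgs false

/-! Action of the Coxeter-like product on the frame vectors, and propagation of the short root
groups along its orbit. -/

namespace Cfsg.Agent.Helper12.OrthGen

open Matrix Cfsg.Agent.Helper28.Sg Cfsg.Agent.Helper28.Spin

variable {F : Type*} [Field F] {ι : Type} [Fintype ι] [DecidableEq ι]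
  {Q : QuadraticForm F (ι → F)}

theorem nLM_e {e f e' f' : ι → F} (hq : HypQuad Q e f e' f') : nLM Q e f e' f' *ᵥ e = e' := by
  rw [nLM_mulVec hq, hq.p1.Bfe, hq.p1.Bee]
  have d1 : B Q e' e = 0 := by rw [B_comm]; exact hq.ee
  have d2 : B Q f' e = 0 := by rw [B_comm]; exact hq.ef
  rw [d1, d2]
  module

theorem nLM_e' {e f e' f' : ι → F} (hq : HypQuad Q e f e' f') : nLM Q e f e' f' *ᵥ e' = -e := by
  rw [nLM_mulVec hq, hq.p2.Bfe, hq.p2.Bee, hq.fe, hq.ee]
  module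

theorem nLM_f {e f e' f' : ι → F} (hq : HypQuad Q e f e' f') : nLM Q e f e' f' *ᵥ f = f' := by
  rw [nLM_mulVec hq, hq.p1.Bef, hq.p1.Bff]
  have d3 : B Q e' f = 0 := by rw [B_comm]; exact hq.fe
  have d4 : B Q f' f = 0 := by rw [B_comm]; exact hq.ff
  rw [d3, d4]
  module

theorem nLM_f' {e f e' f' : ι → F} (hq : HypQuad Q e f e' f') : nLM Q e f e' f' *ᵥ f' = -f := by
  rw [nLM_mulVec hq, hq.p2.Bef, hq.p2.Bff, hq.ff, hq.ef]
  module

theorem nLM_fix {e f e' f' : ι → F} (hq : HypQuad Q e f e' f') {y : ι → F}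
    (h1 : B Q e y = 0) (h2 : B Q f y = 0) (h3 : B Q e' y = 0) (h4 : B Q f' y = 0) :
    nLM Q e f e' f' *ᵥ y = y := by
  rw [nLM_mulVec hq, h1, h2, h3, h4]
  module

theorem nSM_e {e f w : ι → F} (hp : HypPair Q e f) (hew : B Q e w = 0) (hfw : B Q f w = 0)
    (hκ : Q w ≠ 0) : nSM Q e f w *ᵥ e = (-(Q w)⁻¹) • f := by
  have hwe : B Q w e = 0 := by rw [B_comm]; exact hew
  rw [nSM_mulVec hp hew hfw hκ, hp.Bfe, hp.Bee, hwe]
  module

theorem nSM_f {e f w : ι → F} (hp : HypPair Q e f) (hew : B Q e w = 0) (hfw : B Q f w = 0)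
    (hκ : Q w ≠ 0) : nSM Q e f w *ᵥ f = (-(Q w)) • e := by
  have hwf : B Q w f = 0 := by rw [B_comm]; exact hfw
  rw [nSM_mulVec hp hew hfw hκ, hp.Bff, hp.Bef, hwf]
  module

theorem reflV_of_perp {w y : ι → F} (h : B Q w y = 0) : reflV Q w y = y := by
  unfold reflV; rw [h]; module

section steps

variable {w : ι → F}

theorem coxM_e_step : ∀ (n : ℕ) (fr : HFrame Q (n + 1)), fr.InV0 w → Q w ≠ 0 → ∀ j : Fin n,
    coxM Q n fr.e fr.f w *ᵥ fr.e j.castSucc = fr.e j.succ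
  | 0, fr, hw, hκ, j => j.elim0
  | (n + 1), fr, hw, hκ, j => by
    rw [coxM_succ, ← Matrix.mulVec_mulVec]
    refine Fin.cases ?_ (fun k => ?_) j
    · rw [Fin.castSucc_zero, coxM_mulVec_of_inV0 n fr.tail hw.tail hκ _ fr.inV0_tail_e0,
        reflV_of_perp (by rw [B_comm]; exact (hw 0).1)]
      exact nLM_e (fr.hypQuad (by simp))
    · have e1 : fr.e k.succ.castSucc = fr.tail.e k.castSucc := by
        show fr.e k.succ.castSucc = fr.e k.castSucc.succ
        rw [Fin.succ_castSucc]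
      rw [e1, coxM_e_step n fr.tail hw.tail hκ k]
      show nLM Q (fr.e 0) (fr.f 0) (fr.e 1) (fr.f 1) *ᵥ fr.e k.succ.succ = fr.e k.succ.succ
      have h0 : (0 : Fin (n + 2)) ≠ k.succ.succ := (Fin.succ_ne_zero _).symm
      have h1 : (1 : Fin (n + 2)) ≠ k.succ.succ := by
        rw [← Fin.succ_zero_eq_one]
        exact fun h => (Fin.succ_ne_zero k) (Fin.succ_injective _ h).symm
      apply nLM_fix (fr.hypQuad (by simp))
      · exact fr.Bee _ _
      · rw [fr.Bfe, if_neg h0]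
      · exact fr.Bee _ _
      · rw [fr.Bfe, if_neg h1]

theorem coxM_f_step : ∀ (n : ℕ) (fr : HFrame Q (n + 1)), fr.InV0 w → Q w ≠ 0 → ∀ j : Fin n,
    coxM Q n fr.e fr.f w *ᵥ fr.f j.castSucc = fr.f j.succ
  | 0, fr, hw, hκ, j => j.elim0
  | (n + 1), fr, hw, hκ, j => by
    rw [coxM_succ, ← Matrix.mulVec_mulVec]
    refine Fin.cases ?_ (fun k => ?_) j
    · rw [Fin.castSucc_zero, coxM_mulVec_of_inV0 n fr.tail hw.tail hκ _ fr.inV0_tail_f0,
        reflV_of_perp (by rw [B_comm]; exact (hw 0).2)]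
      exact nLM_f (fr.hypQuad (by simp))
    · have e1 : fr.f k.succ.castSucc = fr.tail.f k.castSucc := by
        show fr.f k.succ.castSucc = fr.f k.castSucc.succ
        rw [Fin.succ_castSucc]
      rw [e1, coxM_f_step n fr.tail hw.tail hκ k]
      show nLM Q (fr.e 0) (fr.f 0) (fr.e 1) (fr.f 1) *ᵥ fr.f k.succ.succ = fr.f k.succ.succ
      have h0 : (0 : Fin (n + 2)) ≠ k.succ.succ := (Fin.succ_ne_zero _).symm
      have h1 : (1 : Fin (n + 2)) ≠ k.succ.succ := by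
        rw [← Fin.succ_zero_eq_one]
        exact fun h => (Fin.succ_ne_zero k) (Fin.succ_injective _ h).symm
      apply nLM_fix (fr.hypQuad (by simp))
      · rw [fr.Bef, if_neg h0]
      · exact fr.Bff _ _
      · rw [fr.Bef, if_neg h1]
      · exact fr.Bff _ _

theorem coxM_e_last : ∀ (n : ℕ) (fr : HFrame Q (n + 1)), fr.InV0 w → Q w ≠ 0 →
    ∃ c : F, c ≠ 0 ∧ coxM Q n fr.e fr.f w *ᵥ fr.e (Fin.last n) = c • fr.f 0
  | 0, fr, hw, hκ => ⟨-(Q w)⁻¹, neg_ne_zero.mpr (inv_ne_zero hκ),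
      nSM_e (fr.hypPair 0) (hw 0).1 (hw 0).2 hκ⟩
  | (n + 1), fr, hw, hκ => by
    obtain ⟨c, hc, h⟩ := coxM_e_last n fr.tail hw.tail hκ
    refine ⟨-c, neg_ne_zero.mpr hc, ?_⟩
    have e1 : fr.e (Fin.last (n + 1)) = fr.tail.e (Fin.last n) := by
      show _ = fr.e (Fin.last n).succ
      rw [Fin.succ_last]
    rw [coxM_succ, ← Matrix.mulVec_mulVec, e1, h, Matrix.mulVec_smul]
    have : fr.tail.f 0 = fr.f 1 := by
      show fr.f (Fin.succ 0) = fr.f 1
      rw [Fin.succ_zero_eq_one]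
    rw [this, nLM_f' (fr.hypQuad (by simp))]
    module

theorem coxM_f_last : ∀ (n : ℕ) (fr : HFrame Q (n + 1)), fr.InV0 w → Q w ≠ 0 →
    ∃ c : F, c ≠ 0 ∧ coxM Q n fr.e fr.f w *ᵥ fr.f (Fin.last n) = c • fr.e 0
  | 0, fr, hw, hκ => ⟨-(Q w), neg_ne_zero.mpr hκ,
      nSM_f (fr.hypPair 0) (hw 0).1 (hw 0).2 hκ⟩
  | (n + 1), fr, hw, hκ => by
    obtain ⟨c, hc, h⟩ := coxM_f_last n fr.tail hw.tail hκ
    refine ⟨-c, neg_ne_zero.mpr hc, ?_⟩
    have e1 : fr.f (Fin.last (n + 1)) = fr.tail.f (Fin.last n) := by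
      show _ = fr.f (Fin.last n).succ
      rw [Fin.succ_last]
    rw [coxM_succ, ← Matrix.mulVec_mulVec, e1, h, Matrix.mulVec_smul]
    have : fr.tail.e 0 = fr.e 1 := by
      show fr.e (Fin.succ 0) = fr.e 1
      rw [Fin.succ_zero_eq_one]
    rw [this, nLM_e' (fr.hypQuad (by simp))]
    module

end steps

section propagate

variable {H : Subgroup ↥(Cfsg.isometryGroup F ⇑Q)} {n : ℕ}

/-- the short root group of `u`: all `E(u, w)`, `w` orthogonal to the frame -/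
def Short (H : Subgroup ↥(Cfsg.isometryGroup F ⇑Q)) (fr : HFrame Q (n + 1)) (u : ι → F) : Prop :=
  ∃ hu : Q u = 0, ∀ w, fr.InV0 w → w ∈ Rad H u hu

theorem Short.step {fr : HFrame Q (n + 1)} {w₁ : ι → F} (hw₁ : fr.InV0 w₁) (hκ : Q w₁ ≠ 0)
    {g : ↥(Cfsg.isometryGroup F ⇑Q)} (hg : g ∈ H) (hgm : mt Q g = coxM Q n fr.e fr.f w₁)
    {u u' : ι → F} (hu : Short H fr u) (h : mt Q g *ᵥ u = u') : Short H fr u' := by
  obtain ⟨hQu, hS⟩ := hu
  have hQu' : Q u' = 0 := by rw [← h, Q_isom]; exact hQu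
  refine ⟨hQu', fun w hw => ?_⟩
  have hw' := hw₁.reflV hw
  have := hS _ hw'
  refine Rad_conj' hg this hQu' h ?_
  rw [hgm, coxM_mulVec_of_inV0 n fr hw₁ hκ _ hw', reflV_reflV hκ]

theorem Short.of_smul {fr : HFrame Q (n + 1)} {u : ι → F} {c : F} (hc : c ≠ 0)
    (hu : Short H fr (c • u)) : Short H fr u := by
  obtain ⟨hQcu, hS⟩ := hu
  have hQu : Q u = 0 := by
    rw [Q_smul] at hQcu
    exact (mul_eq_zero.mp hQcu).resolve_left (mul_ne_zero hc hc)
  refine ⟨hQu, fun w hw => ?_⟩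
  have := Rad_smul_left hQu c hQcu (hS _ (hw.smul fr c⁻¹))
  rwa [smul_smul, mul_inv_cancel₀ hc, one_smul] at this

/-- **Propagation**: from the short root group of `f₀` to all short root groups. -/
theorem short_all {fr : HFrame Q (n + 1)} {w₁ : ι → F} (hw₁ : fr.InV0 w₁) (hκ : Q w₁ ≠ 0)
    {g : ↥(Cfsg.isometryGroup F ⇑Q)} (hg : g ∈ H) (hgm : mt Q g = coxM Q n fr.e fr.f w₁)
    (hseed : Short H fr (fr.f 0)) :
    (∀ i, Short H fr (fr.f i)) ∧ (∀ i, Short H fr (fr.e i)) := by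
  have hf : ∀ (k : ℕ) (hk : k < n + 1), Short H fr (fr.f ⟨k, hk⟩) := by
    intro k
    induction k with
    | zero => intro _; exact hseed
    | succ k ih =>
      intro hk
      have h1 := ih (by omega)
      have := coxM_f_step n fr hw₁ hκ (⟨k, by omega⟩ : Fin n)
      exact h1.step hw₁ hκ hg hgm (by rw [hgm]; exact this)
  have he0 : Short H fr (fr.e 0) := by
    obtain ⟨c, hc, h⟩ := coxM_f_last n fr hw₁ hκ
    have h1 := hf n (by omega)
    have h2 : Short H fr (c • fr.e 0) := h1.step hw₁ hκ hg hgm (by rw [hgm]; exact h)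
    exact h2.of_smul hc
  have he : ∀ (k : ℕ) (hk : k < n + 1), Short H fr (fr.e ⟨k, hk⟩) := by
    intro k
    induction k with
    | zero => intro _; exact he0
    | succ k ih =>
      intro hk
      have h1 := ih (by omega)
      have := coxM_e_step n fr hw₁ hκ (⟨k, by omega⟩ : Fin n)
      exact h1.step hw₁ hκ hg hgm (by rw [hgm]; exact this)
  exact ⟨fun i => hf i.val i.isLt, fun i => he i.val i.isLt⟩

/-- **Generation theorem**: a subgroup containing the Coxeter-like element and the short root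
group of `f₀` contains all Siegel transformations. -/
theorem S_le_of_cox (hQ : (QuadraticMap.polarBilin Q).Nondegenerate) {fr : HFrame Q (n + 1)}
    {w₁ : ι → F} (hw₁ : fr.InV0 w₁) (hκ : Q w₁ ≠ 0)
    {g : ↥(Cfsg.isometryGroup F ⇑Q)} (hg : g ∈ H) (hgm : mt Q g = coxM Q n fr.e fr.f w₁)
    (hseed : Short H fr (fr.f 0))
    {w₂ w₃ : ι → F} (h2 : fr.InV0 w₂) (h3 : fr.InV0 w₃) (h23 : B Q w₂ w₃ ≠ 0) :
    S Q ≤ H := by
  obtain ⟨hf, he⟩ := short_all hw₁ hκ hg hgm hseed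
  refine S_le_of_short hQ fr 0 (fun i w hw => ?_) (fun i w hw => ?_) h2 h3 h23
  · exact (he i).2 w hw
  · exact (hf i).2 w hw

end propagate

end Cfsg.Agent.Helper12.OrthGen
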