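import Mathlib
import Cfsg.Agent.Helper12.OrthGenE

set_option autoImplicit false
set_option linter.unusedSectionVars false
set_option linter.unusedVariables false
set_option linter.unusedSimpArgs false

/-! A finite field lemma (additive subgroups stable under the square of a generator), and the
hyperbolic torus elements. -/

namespace Cfsg.Agent.Helper12.OrthGen

open Matrix Cfsg.Agent.Helper28.Sg Cfsg.Agent.Helper28.Spin

section field

variable {K : Type*} [Field K]

/-- the multipliers of an additive subgroup -/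
def multR (S : AddSubgroup K) : Subring K where
  carrier := {r | ∀ s ∈ S, r * s ∈ S}
  mul_mem' := fun {a b} ha hb s hs => by rw [mul_assoc]; exact ha _ (hb s hs)
  one_mem' := fun s hs => by rw [one_mul]; exact hs
  add_mem' := fun {a b} ha hb s hs => by rw [add_mul]; exact S.add_mem (ha s hs) (hb s hs)
  zero_mem' := fun s _ => by rw [zero_mul]; exact S.zero_mem
  neg_mem' := fun {a} ha s hs => by rw [neg_mul]; exact S.neg_mem (ha s hs)

/-- the multipliers of an additive subgroup of a finite field form a subfield -/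
def multF [Finite K] (S : AddSubgroup K) : Subfield K :=
  { multR S with
    inv_mem' := by
      intro r hr
      by_cases hr0 : r = 0
      · rw [hr0, _root_.inv_zero]; exact (multR S).zero_mem
      · have := Fintype.ofFinite K
        have h1 : r ^ (Fintype.card K - 1) = 1 := FiniteField.pow_card_sub_one_eq_one r hr0
        have hc : 2 ≤ Fintype.card K := Fintype.one_lt_card
        have e : r⁻¹ = r ^ (Fintype.card K - 2) := by
          apply inv_eq_of_mul_eq_one_right
          rw [← pow_succ']
          have : Fintype.card K - 2 + 1 = Fintype.card K - 1 := by omega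
          rw [this, h1]
        rw [e]
        exact (multR S).pow_mem hr _ }

theorem mem_multF [Finite K] {S : AddSubgroup K} {r : K} :
    r ∈ multF S ↔ ∀ s ∈ S, r * s ∈ S := Iff.rfl

/-- an additive subgroup of a finite field stable under multiplication by the square of a
generator of the unit group is zero or everything -/
theorem mem_of_stable_sq [Fintype K] {ζ : Kˣ} (hζ : ∀ x : Kˣ, x ∈ Subgroup.zpowers ζ)
    (S : AddSubgroup K) (hS : ∀ s ∈ S, (ζ : K) ^ 2 * s ∈ S) {s0 : K} (hs0 : s0 ∈ S)
    (hs00 : s0 ≠ 0) (x : K) : x ∈ S := by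
  classical
  have hfin : Finite K := Finite.of_fintype K
  set R := multF S with hR
  have hμR : (ζ : K) ^ 2 ∈ R := mem_multF.mpr hS
  have hcard : Nat.card K = Nat.card R ^ Module.finrank R K := Module.natCard_eq_pow_finrank
  set r := Nat.card R with hr
  set d := Module.finrank R K with hd
  set q := Nat.card K with hq
  have hr2 : 2 ≤ r := by rw [hr]; exact Finite.one_lt_card
  have hq2 : 2 ≤ q := by rw [hq]; exact Finite.one_lt_card
  have hord : orderOf ζ = q - 1 := by
    rw [orderOf_eq_card_of_forall_mem_zpowers hζ, Nat.card_units]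
  -- `ζ ^ (2 (r - 1)) = 1`
  have hpow : ζ ^ (2 * (r - 1)) = 1 := by
    have := Fintype.ofFinite R
    have h1 : (⟨(ζ : K) ^ 2, hμR⟩ : R) ^ (Fintype.card R - 1) = 1 :=
      FiniteField.pow_card_sub_one_eq_one _ (by
        intro h0
        have := congrArg Subtype.val h0
        simp at this)
    have h2 := congrArg (Subtype.val : R → K) h1
    rw [← Nat.card_eq_fintype_card, ← hr] at h2
    apply Units.ext
    rw [pow_mul]
    simpa using h2
  have hdvd : q - 1 ∣ 2 * (r - 1) := by
    rw [← hord]; exact orderOf_dvd_of_pow_eq_one hpow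
  have hle : q - 1 ≤ 2 * (r - 1) := Nat.le_of_dvd (by omega) hdvd
  have hd1 : d = 1 := by
    rcases Nat.lt_or_ge d 2 with h2 | h2
    · interval_cases d
      · rw [pow_zero] at hcard; omega
      · rfl
    · exfalso
      have h1 : r ^ 2 ≤ q := by
        rw [hcard]
        exact Nat.pow_le_pow_right (by omega) h2
      have h3 : q + 1 ≤ 2 * r := by omega
      have h4 : 2 * r ≤ r ^ 2 := by nlinarith
      omega
  rw [hd1, pow_one] at hcard
  have hsurj : ∀ z : K, z ∈ R := by
    have hinj : Function.Injective (Subtype.val : R → K) := Subtype.val_injective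
    have hbij : Function.Bijective (Subtype.val : R → K) := by
      have := Fintype.ofFinite R
      rw [Fintype.bijective_iff_injective_and_card]
      refine ⟨hinj, ?_⟩
      rw [← Nat.card_eq_fintype_card, ← Nat.card_eq_fintype_card, ← hr, ← hcard]
    intro z
    obtain ⟨⟨z', hz'⟩, rfl⟩ := hbij.2 z
    exact hz'
  have := mem_multF.mp (hsurj (x / s0)) s0 hs0
  rwa [div_mul_cancel₀ _ hs00] at this

end field

variable {F : Type*} [Field F] {ι : Type} [Fintype ι] [DecidableEq ι]
  {Q : QuadraticForm F (ι → F)}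

/-- the torus element of a hyperbolic pair (matrix) -/
def torM (Q : QuadraticForm F (ι → F)) (e f : ι → F) (a : F) : Matrix ι ι F :=
  1 + (a - 1) • Matrix.vecMulVec e (Cfsg.polarVec ⇑Q f)
    + (a⁻¹ - 1) • Matrix.vecMulVec f (Cfsg.polarVec ⇑Q e)

theorem torM_mulVec (e f : ι → F) (a : F) (x : ι → F) :
    torM Q e f a *ᵥ x = x + ((a - 1) * B Q f x) • e + ((a⁻¹ - 1) * B Q e x) • f := by
  unfold torM
  rw [Matrix.add_mulVec, Matrix.add_mulVec, Matrix.one_mulVec, Matrix.smul_mulVec,
    Matrix.smul_mulVec, Matrix.vecMulVec_mulVec, Matrix.vecMulVec_mulVec,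
    Cfsg.Agent.Helper28.Spin.polarVec_dot, Cfsg.Agent.Helper28.Spin.polarVec_dot]
  ext i
  simp only [Pi.sub_apply, Pi.add_apply, Pi.smul_apply, MulOpposite.smul_eq_mul_unop,
    MulOpposite.unop_op, smul_eq_mul]
  ring

theorem torM_one (e f : ι → F) : torM Q e f 1 = 1 := by
  apply Cfsg.Agent.Helper28.Spin.matrix_ext_mulVec
  intro x
  rw [torM_mulVec, Matrix.one_mulVec]
  simp

theorem torM_mul {e f : ι → F} (hp : HypPair Q e f) {a b : F} (ha : a ≠ 0) (hb : b ≠ 0) :
    torM Q e f a * torM Q e f b = torM Q e f (a * b) := by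
  apply Cfsg.Agent.Helper28.Spin.matrix_ext_mulVec
  intro x
  rw [← Matrix.mulVec_mulVec, torM_mulVec e f b x, torM_mulVec, torM_mulVec]
  have h1 := hp.Bef; have h2 := hp.Bfe; have h3 := hp.Bee; have h4 := hp.Bff
  simp only [B] at h1 h2 h3 h4
  simp only [B, QuadraticMap.polar_add_right, QuadraticMap.polar_smul_right, smul_eq_mul,
    h1, h2, h3, h4]
  ext i
  simp only [Pi.add_apply, Pi.smul_apply, smul_eq_mul]
  field_simp
  ring

theorem torM_pow {e f : ι → F} (hp : HypPair Q e f) {a : F} (ha : a ≠ 0) (k : ℕ) :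
    torM Q e f a ^ k = torM Q e f (a ^ k) := by
  induction k with
  | zero => rw [pow_zero, pow_zero, torM_one]
  | succ k ih => rw [pow_succ, ih, torM_mul hp (pow_ne_zero k ha) ha, pow_succ]

/-- the product of two short Weyl elements with proportional vectors is a torus element -/
theorem nSM_mul_nSM {e f w : ι → F} (hp : HypPair Q e f) (hew : B Q e w = 0) (hfw : B Q f w = 0)
    (hκ : Q w ≠ 0) {c : F} (hc : c ≠ 0) :
    nSM Q e f (c • w) * nSM Q e f w = torM Q e f (c ^ 2) := by
  apply Cfsg.Agent.Helper28.Spin.matrix_ext_mulVec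
  intro x
  have hκ' : Q (c • w) ≠ 0 := by rw [Q_smul]; exact mul_ne_zero (mul_ne_zero hc hc) hκ
  rw [← Matrix.mulVec_mulVec, nSM_mulVec hp hew hfw hκ x,
    nSM_mulVec hp (B_smul_right_zero Q c hew) (B_smul_right_zero Q c hfw) hκ', torM_mulVec, Q_smul]
  have h1 := hp.Bef; have h2 := hp.Bfe; have h3 := hp.Bee; have h4 := hp.Bff
  have hww : B Q w w = 2 * Q w := B_self Q w
  have hwe : B Q w e = 0 := by rw [B_comm]; exact hew
  have hwf : B Q w f = 0 := by rw [B_comm]; exact hfw
  simp only [B] at h1 h2 h3 h4 hww hwe hwf hew hfw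
  simp only [B, QuadraticMap.polar_add_right, QuadraticMap.polar_sub_right,
    QuadraticMap.polar_smul_right, QuadraticMap.polar_smul_left, smul_eq_mul,
    h1, h2, h3, h4, hww, hwe, hwf, hew, hfw]
  ext i
  simp only [Pi.add_apply, Pi.sub_apply, Pi.smul_apply, smul_eq_mul]
  field_simp
  ring

theorem inS_torM_sq {e f w : ι → F} (hp : HypPair Q e f) (hew : B Q e w = 0) (hfw : B Q f w = 0)
    (hκ : Q w ≠ 0) {c : F} (hc : c ≠ 0) : InS Q (torM Q e f (c ^ 2)) := by
  rw [← nSM_mul_nSM hp hew hfw hκ hc]
  exact (inS_nSM hp (B_smul_right_zero Q c hew) (B_smul_right_zero Q c hfw)).mul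
    (inS_nSM hp hew hfw)

theorem torM_f {e f : ι → F} (hp : HypPair Q e f) (a : F) : torM Q e f a *ᵥ f = a⁻¹ • f := by
  rw [torM_mulVec, hp.Bff, hp.Bef]
  module

theorem torM_fix {e f : ι → F} (a : F) {y : ι → F} (h1 : B Q e y = 0) (h2 : B Q f y = 0) :
    torM Q e f a *ᵥ y = y := by
  rw [torM_mulVec, h1, h2]
  module

end Cfsg.Agent.Helper12.OrthGen
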