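import Mathlib
import Cfsg.Agent.Helper12.OrthGenF

set_option autoImplicit false
set_option linter.unusedSectionVars false
set_option linter.unusedVariables false
set_option linter.unusedSimpArgs false

/-! Two generators when the orthogonal complement of the frame is a nonsingular line
(odd-dimensional orthogonal groups). -/

namespace Cfsg.Agent.Helper12.OrthGen

open Matrix Cfsg.Agent.Helper28.Sg Cfsg.Agent.Helper28.Spin

variable {F : Type*} [Field F] {ι : Type} [Fintype ι] [DecidableEq ι]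
  {Q : QuadraticForm F (ι → F)}

theorem mt_pow (g : ↥(Cfsg.isometryGroup F ⇑Q)) (k : ℕ) : mt Q (g ^ k) = mt Q g ^ k := by
  induction k with
  | zero => rw [pow_zero, pow_zero]; rfl
  | succ k ih => rw [pow_succ, pow_succ, mt_mul, ih]

theorem eq_one_of_mt {g : ↥(Cfsg.isometryGroup F ⇑Q)} (h : mt Q g = 1) : g = 1 := by
  apply O_ext
  intro x
  rw [h, mt_one]

theorem siegO_pow {u v : ι → F} (hu : Q u = 0) (huv : B Q u v = 0) (k : ℕ)
    (h' : B Q u ((k : F) • v) = 0) :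
    siegO Q u v hu huv ^ k = siegO Q u ((k : F) • v) hu h' := by
  induction k with
  | zero =>
    rw [pow_zero]
    have e : ((0 : ℕ) : F) • v = 0 := by simp
    rw [siegO_congr Q hu h' hu (QuadraticMap.polar_zero_right _ _) rfl e, siegO_zero]
  | succ k ih =>
    have hk : B Q u ((k : F) • v) = 0 := B_smul_right_zero Q _ huv
    rw [pow_succ, ih hk, siegO_mul Q hu hk huv (B_add_right_zero Q hk huv)]
    apply siegO_congr Q hu _ hu _ rfl
    push_cast
    module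

theorem siegO_pow_card [Fintype F] {u v : ι → F} (hu : Q u = 0) (huv : B Q u v = 0) :
    siegO Q u v hu huv ^ Fintype.card F = 1 := by
  rw [siegO_pow hu huv _ (B_smul_right_zero Q _ huv)]
  have e : ((Fintype.card F : ℕ) : F) • v = 0 := by
    rw [FiniteField.cast_card_eq_zero, zero_smul]
  rw [siegO_congr Q hu _ hu (QuadraticMap.polar_zero_right _ _) rfl e, siegO_zero]

section line

variable [Fintype F] {n : ℕ} {H : Subgroup ↥(Cfsg.isometryGroup F ⇑Q)}

/-- **Two generators, line case.** -/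
theorem S_le_of_line (hQ : (QuadraticMap.polarBilin Q).Nondegenerate) (h2 : (2 : F) ≠ 0)
    (fr : HFrame Q (n + 2)) {w₁ : ι → F} (hw₁ : fr.InV0 w₁) (hκ : Q w₁ ≠ 0)
    (hline : ∀ w, fr.InV0 w → ∃ t : F, w = t • w₁)
    {ζ : Fˣ} (hζ : ∀ x : Fˣ, x ∈ Subgroup.zpowers ζ)
    {gB gg : ↥(Cfsg.isometryGroup F ⇑Q)}
    (hgB : mt Q gB = coxM Q (n + 1) fr.e fr.f w₁)
    (hgg : mt Q gg = torM Q (fr.e 0) (fr.f 0) ((ζ : F) ^ 2))
    (hA : gg * siegO Q (fr.e (Fin.last (n + 1))) w₁ (fr.Qe _) (hw₁ _).1 ∈ H) (hB : gB ∈ H) :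
    S Q ≤ H := by
  classical
  set gT := siegO Q (fr.e (Fin.last (n + 1))) w₁ (fr.Qe _) (hw₁ _).1 with hgT
  have hp0 := fr.hypPair 0
  have hζ0 : (ζ : F) ^ 2 ≠ 0 := pow_ne_zero 2 ζ.ne_zero
  have hlast : (0 : Fin (n + 2)) ≠ Fin.last (n + 1) := by
    intro h
    have := congrArg Fin.val h
    simp at this
  -- `gg` fixes the vectors orthogonal to the first pair
  have hfix_last : mt Q gg *ᵥ fr.e (Fin.last (n + 1)) = fr.e (Fin.last (n + 1)) := by
    rw [hgg]
    apply torM_fix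
    · exact fr.Bee _ _
    · rw [fr.Bfe, if_neg hlast]
  have hfix_w : ∀ w, fr.InV0 w → mt Q gg *ᵥ w = w := by
    intro w hw
    rw [hgg]
    exact torM_fix _ (hw 0).1 (hw 0).2
  -- commutation
  have hcomm : Commute gg gT := by
    have h1 : Q (mt Q gg *ᵥ fr.e (Fin.last (n + 1))) = 0 := by rw [Q_isom]; exact fr.Qe _
    have h2' : B Q (mt Q gg *ᵥ fr.e (Fin.last (n + 1))) (mt Q gg *ᵥ w₁) = 0 := by
      rw [B_isom]; exact (hw₁ _).1
    have := siegO_conj Q gg (fr.Qe (Fin.last (n + 1))) (hw₁ _).1 h1 h2'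
    rw [siegO_congr Q h1 h2' (fr.Qe _) (hw₁ _).1 hfix_last (hfix_w _ hw₁)] at this
    show gg * gT = gT * gg
    calc gg * gT = (gg * gT * gg⁻¹) * gg := by group
      _ = gT * gg := by rw [hgT, this]
  -- orders
  have hq1 : 1 ≤ Fintype.card F := Fintype.card_pos
  have hgg_pow : gg ^ (Fintype.card F - 1) = 1 := by
    apply eq_one_of_mt
    rw [mt_pow, hgg, torM_pow hp0 hζ0, ← pow_mul, mul_comm, pow_mul,
      FiniteField.pow_card_sub_one_eq_one _ ζ.ne_zero, one_pow, torM_one]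
  have hgT_pow : gT ^ Fintype.card F = 1 := siegO_pow_card _ _
  have hApow : (gg * gT) ^ Fintype.card F = gg := by
    rw [hcomm.mul_pow, hgT_pow, mul_one]
    have : Fintype.card F = (Fintype.card F - 1) + 1 := by omega
    rw [this, pow_succ, hgg_pow, one_mul]
  have hggH : gg ∈ H := by rw [← hApow]; exact H.pow_mem hA _
  have hgTH : gT ∈ H := by
    have : gT = gg⁻¹ * (gg * gT) := by group
    rw [this]; exact H.mul_mem (H.inv_mem hggH) hA
  -- the seed
  obtain ⟨c, hc, hcl⟩ := coxM_e_last (n + 1) fr hw₁ hκ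
  have hQcf : Q (c • fr.f 0) = 0 := by rw [Q_smul, fr.Qf, mul_zero]
  have hw1mem : w₁ ∈ Rad H (fr.e (Fin.last (n + 1))) (fr.Qe _) := ⟨(hw₁ _).1, hgTH⟩
  have h3 : reflV Q w₁ w₁ ∈ Rad H (c • fr.f 0) hQcf := by
    refine Rad_conj' hB hw1mem hQcf (by rw [hgB]; exact hcl) ?_
    rw [hgB, coxM_mulVec_of_inV0 (n + 1) fr hw₁ hκ _ hw₁]
  have h4 := Rad_smul_left (fr.Qf 0) c hQcf h3
  have hrefl : reflV Q w₁ w₁ = -w₁ := by
    unfold reflV
    rw [B_self]
    ext i
    simp only [Pi.sub_apply, Pi.smul_apply, Pi.neg_apply, smul_eq_mul]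
    field_simp
    ring
  rw [hrefl] at h4
  -- the additive group of admissible multiples of `w₁`
  let A : AddSubgroup F :=
    { carrier := {s | s • w₁ ∈ Rad H (fr.f 0) (fr.Qf 0)}
      zero_mem' := by
        show (0 : F) • w₁ ∈ Rad H (fr.f 0) (fr.Qf 0)
        rw [zero_smul]; exact (Rad H _ _).zero_mem
      add_mem' := by
        intro a b ha hb
        show (a + b) • w₁ ∈ Rad H (fr.f 0) (fr.Qf 0)
        rw [add_smul]; exact (Rad H _ _).add_mem ha hb
      neg_mem' := by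
        intro a ha
        show (-a) • w₁ ∈ Rad H (fr.f 0) (fr.Qf 0)
        rw [neg_smul]; exact (Rad H _ _).neg_mem ha }
  have hAmem : ∀ s, s ∈ A ↔ s • w₁ ∈ Rad H (fr.f 0) (fr.Qf 0) := fun s => Iff.rfl
  have hAc : -c ∈ A := by
    rw [hAmem]
    have : (-c) • w₁ = c • -w₁ := by module
    rw [this]; exact h4
  -- stability under `(ζ⁻¹)²`... we use the generator `ζ⁻¹`
  have hstab : ∀ s ∈ A, ((ζ⁻¹ : Fˣ) : F) ^ 2 * s ∈ A := by
    intro s hs
    rw [hAmem] at hs ⊢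
    have hQ' : Q ((((ζ : F) ^ 2)⁻¹) • fr.f 0) = 0 := by rw [Q_smul, fr.Qf, mul_zero]
    have h5 : s • w₁ ∈ Rad H ((((ζ : F) ^ 2)⁻¹) • fr.f 0) hQ' := by
      refine Rad_conj' hggH hs hQ' ?_ (hfix_w _ (hw₁.smul fr s))
      rw [hgg]; exact torM_f hp0 _
    have h6 := Rad_smul_left (fr.Qf 0) _ hQ' h5
    rw [smul_smul] at h6
    have e : ((ζ⁻¹ : Fˣ) : F) ^ 2 = ((ζ : F) ^ 2)⁻¹ := by
      rw [Units.val_inv_eq_inv_val, inv_pow]
    rw [e]; exact h6
  have hζ' : ∀ x : Fˣ, x ∈ Subgroup.zpowers ζ⁻¹ := by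
    intro x
    rw [Subgroup.zpowers_inv]; exact hζ x
  have hall : ∀ s : F, s ∈ A := fun s =>
    mem_of_stable_sq hζ' A hstab hAc (neg_ne_zero.mpr hc) s
  have hseed : Short H fr (fr.f 0) := by
    refine ⟨fr.Qf 0, fun w hw => ?_⟩
    obtain ⟨t, rfl⟩ := hline w hw
    exact (hAmem t).mp (hall t)
  have h12 : B Q w₁ w₁ ≠ 0 := by
    rw [B_self]; exact mul_ne_zero h2 hκ
  exact S_le_of_cox hQ hw₁ hκ hB hgB hseed hw₁ hw₁ h12

end line

end Cfsg.Agent.Helper12.OrthGen
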