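import Mathlib
import Cfsg.Agent.Helper12.OrthGenG

set_option autoImplicit false
set_option linter.unusedSectionVars false
set_option linter.unusedVariables false
set_option linter.unusedSimpArgs false

/-! Squares of isometries lie in `Ω`; coordinate frames; passage to subgroups and quotients. -/

namespace Cfsg.Agent.Helper12.OrthGen

open Matrix Cfsg.Agent.Helper28.Sg Cfsg.Agent.Helper28.Spin

variable {F : Type*} [Field F] {ι : Type} [Fintype ι] [DecidableEq ι]
  {Q : QuadraticForm F (ι → F)}

/-- if the reflections generate the isometry group, every square lies in `Ω` -/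
theorem sq_mem_Omega
    (hgen : ∀ (H : Subgroup ↥(Cfsg.isometryGroup F ⇑Q)),
      (∀ (v : ι → F) (hv : Q v ≠ 0), reflO Q v hv ∈ H) → ∀ g, g ∈ H)
    (g : ↥(Cfsg.isometryGroup F ⇑Q)) : g * g ∈ Cfsg.Omega F ⇑Q := by
  let π : ↥(Cfsg.isometryGroup F ⇑Q) →* Abelianization ↥(Cfsg.isometryGroup F ⇑Q) :=
    Abelianization.of
  let sq : Abelianization ↥(Cfsg.isometryGroup F ⇑Q) →*
      Abelianization ↥(Cfsg.isometryGroup F ⇑Q) := powMonoidHom 2
  have hK := hgen ((sq.comp π).ker) (by
    intro v hv
    rw [MonoidHom.mem_ker, MonoidHom.comp_apply]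
    show (π (reflO Q v hv)) ^ 2 = 1
    rw [← map_pow, pow_two, reflO_mul_self, map_one]) g
  rw [MonoidHom.mem_ker, MonoidHom.comp_apply] at hK
  have h1 : π (g * g) = 1 := by
    rw [map_mul, ← pow_two]; exact hK
  have h2 : g * g ∈ π.ker := h1
  rw [show π.ker = commutator ↥(Cfsg.isometryGroup F ⇑Q) from Abelianization.ker_of _] at h2
  exact h2

/-- in odd characteristic the Siegel transformations lie in `Ω` -/
theorem S_le_Omega_of_gen (h2 : (2 : F) ≠ 0)
    (hgen : ∀ (H : Subgroup ↥(Cfsg.isometryGroup F ⇑Q)),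
      (∀ (v : ι → F) (hv : Q v ≠ 0), reflO Q v hv ∈ H) → ∀ g, g ∈ H) :
    S Q ≤ Cfsg.Omega F ⇑Q := by
  unfold S
  rw [Subgroup.closure_le]
  rintro g ⟨u, v, hu, huv, rfl⟩
  have hv2 : B Q u ((2 : F)⁻¹ • v) = 0 := B_smul_right_zero Q _ huv
  have e : siegO Q u v hu huv =
      siegO Q u ((2 : F)⁻¹ • v) hu hv2 * siegO Q u ((2 : F)⁻¹ • v) hu hv2 := by
    rw [siegO_mul Q hu hv2 hv2 (B_add_right_zero Q hv2 hv2)]
    apply siegO_congr Q hu _ hu _ rfl
    rw [← add_smul]
    have : (2 : F)⁻¹ + (2 : F)⁻¹ = 1 := by field_simp; norm_num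
    rw [this, one_smul]
  rw [SetLike.mem_coe, e]
  exact sq_mem_Omega hgen _

/-- coordinate frames -/
noncomputable def coordFrame {r : ℕ} (a b : Fin r → ι) (hinj : Function.Injective (Sum.elim a b))
    (H : ∀ j, IsHypPair Q (a j) (b j)) : HFrame Q r where
  e j := Pi.single (a j) 1
  f j := Pi.single (b j) 1
  Qe j := Q_single_left (H j)
  Qf j := Q_single_right (H j)
  Bee i j := by
    show QuadraticMap.polar ⇑Q _ _ = 0
    rw [polar_single_left (H i), Pi.single_apply, if_neg]
    intro h
    have := @hinj (Sum.inr i) (Sum.inl j) (by simpa using h)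
    simp at this
  Bff i j := by
    show QuadraticMap.polar ⇑Q _ _ = 0
    rw [polar_single_right (H i), Pi.single_apply, if_neg]
    intro h
    have := @hinj (Sum.inl i) (Sum.inr j) (by simpa using h)
    simp at this
  Bef i j := by
    show QuadraticMap.polar ⇑Q _ _ = _
    rw [polar_single_left (H i), Pi.single_apply]
    by_cases hij : i = j
    · subst hij; simp
    · rw [if_neg hij, if_neg]
      intro h
      have := @hinj (Sum.inr i) (Sum.inr j) (by simpa using h)
      simp at this
      exact hij this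

theorem coordFrame_inV0_iff {r : ℕ} (a b : Fin r → ι)
    (hinj : Function.Injective (Sum.elim a b)) (H : ∀ j, IsHypPair Q (a j) (b j)) (w : ι → F) :
    (coordFrame a b hinj H).InV0 w ↔ ∀ j, w (a j) = 0 ∧ w (b j) = 0 := by
  unfold HFrame.InV0
  refine forall_congr' fun j => ?_
  show QuadraticMap.polar ⇑Q (Pi.single (a j) 1) w = 0 ∧
    QuadraticMap.polar ⇑Q (Pi.single (b j) 1) w = 0 ↔ _
  rw [polar_single_left (H j), polar_single_right (H j)]
  exact and_comm

/-- generation of a subgroup by two of its elements, inside the subgroup -/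
theorem closure_pair_subtype {G : Type*} [Group G] (K : Subgroup G) {a b : G} (ha : a ∈ K)
    (hb : b ∈ K) (h : K ≤ Subgroup.closure {a, b}) :
    Subgroup.closure ({⟨a, ha⟩, ⟨b, hb⟩} : Set K) = ⊤ := by
  apply Subgroup.map_injective K.subtype_injective
  rw [MonoidHom.map_closure, Set.image_pair, ← MonoidHom.range_eq_map, Subgroup.range_subtype]
  apply le_antisymm
  · rw [Subgroup.closure_le]
    intro x hx
    rcases hx with rfl | rfl
    · exact ha
    · exact hb
  · exact h

/-- two generators of a group give two generators of any quotient -/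
theorem exists_pair_quotient {G : Type*} [Group G] (N : Subgroup G) [N.Normal] {a b : G}
    (h : Subgroup.closure ({a, b} : Set G) = ⊤) :
    ∃ x y : G ⧸ N, Subgroup.closure ({x, y} : Set (G ⧸ N)) = ⊤ := by
  refine ⟨QuotientGroup.mk a, QuotientGroup.mk b, ?_⟩
  have hsurj : Function.Surjective (QuotientGroup.mk' N) := QuotientGroup.mk'_surjective _
  have := Subgroup.map_top_of_surjective _ hsurj
  rw [← h, MonoidHom.map_closure, Set.image_pair] at this
  exact this

end Cfsg.Agent.Helper12.OrthGen
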