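import Mathlib
import Cfsg.Agent.Helper12.OrthGenM
import Cfsg.Agent.S2615
import Cfsg.Agent.S2171
import Cfsg.Agent.S2621

set_option autoImplicit false
set_option linter.unusedSectionVars false
set_option linter.unusedVariables false
set_option linter.unusedSimpArgs false

/-! Two generators of `Ω⁻_{2m}(q)`, `m ≥ 4`, all `q`. -/

namespace Cfsg.Agent.Helper12.OrthGen

open Matrix Cfsg.Agent.Helper28.Sg Cfsg.Agent.Helper28.Spin

variable {F : Type*} [Field F]

theorem polar_minus_z0 (k : ℕ) (a c : F) (y : (Fin k ⊕ Fin k) ⊕ Fin 2 → F) :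
    QuadraticMap.polar ⇑(QfMinus k F a c) (Pi.single (Sum.inr 0) 1) y =
      2 * y (Sum.inr 0) + a * y (Sum.inr 1) := by
  classical
  rw [QfMinus_coe, Cfsg.Agent.S2621.polar_minus, single_one_dotProduct]
  simp [Matrix.mulVec, dotProduct, Fintype.sum_sum_type, Fin.sum_univ_two]

theorem polar_minus_z1 (k : ℕ) (a c : F) (y : (Fin k ⊕ Fin k) ⊕ Fin 2 → F) :
    QuadraticMap.polar ⇑(QfMinus k F a c) (Pi.single (Sum.inr 1) 1) y =
      a * y (Sum.inr 0) + 2 * c * y (Sum.inr 1) := by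
  classical
  rw [QfMinus_coe, Cfsg.Agent.S2621.polar_minus, single_one_dotProduct]
  simp [Matrix.mulVec, dotProduct, Fintype.sum_sum_type, Fin.sum_univ_two]

theorem QfMinus_z0 (k : ℕ) (a c : F) :
    QfMinus k F a c (Pi.single (Sum.inr 0) 1) = 1 := by
  classical
  rw [QfMinus_coe]
  simp [Cfsg.quadFormMinus]

/-- two generators of `Ω⁻_{2m}(q)`, `m ≥ 4` -/
theorem exists_two_gen_minus [Fintype F] (n : ℕ) (a c : F)
    (hac : ∀ z₁ z₂ : F, z₁ ^ 2 + a * z₁ * z₂ + c * z₂ ^ 2 = 0 → z₁ = 0 ∧ z₂ = 0) :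
    ∃ A B : ↥(Cfsg.Omega F ⇑(QfMinus (n + 3) F a c)),
      Subgroup.closure ({A, B} : Set ↥(Cfsg.Omega F ⇑(QfMinus (n + 3) F a c))) = ⊤ := by
  classical
  have hcardι : Fintype.card ((Fin (n + 3) ⊕ Fin (n + 3)) ⊕ Fin 2) = 2 * (n + 4) := by
    rw [Fintype.card_sum, Fintype.card_sum, Fintype.card_fin, Fintype.card_fin]; omega
  -- nondegeneracy and the Cartan-Dieudonne property
  have hQgen : (QuadraticMap.polarBilin (QfMinus (n + 3) F a c)).Nondegenerate ∧
      (∀ (H : Subgroup ↥(Cfsg.isometryGroup F ⇑(QfMinus (n + 3) F a c))),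
      (∀ (v : (Fin (n + 3) ⊕ Fin (n + 3)) ⊕ Fin 2 → F) (hv : QfMinus (n + 3) F a c v ≠ 0),
        reflO (QfMinus (n + 3) F a c) v hv ∈ H) → ∀ g, g ∈ H) ∧ ((2 : F) = 0 → a ≠ 0) := by
    by_cases h2 : (2 : F) = 0
    · haveI : CharP F 2 := CharTwo.of_one_ne_zero_of_two_eq_zero one_ne_zero h2
      have ha := Cfsg.Agent.S2171.ne_zero_of_aniso a c hac
      have hQ : (QuadraticMap.polarBilin (QfMinus (n + 3) F a c)).Nondegenerate := by
        apply Cfsg.Agent.S2171.QfMinus_nondeg_of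
        rw [show (4 : F) = 2 * 2 by norm_num, h2]
        simpa using ha
      exact ⟨hQ, hgen_even h2 hQ (Or.inr (by rw [hcardι]; omega)), fun _ => ha⟩
    · have hδ := Cfsg.Agent.S2621.not_isSquare_disc h2 a c hac
      have hQ : (QuadraticMap.polarBilin (QfMinus (n + 3) F a c)).Nondegenerate := by
        apply Cfsg.Agent.S2171.QfMinus_nondeg_of
        intro h
        apply hδ
        have : a ^ 2 - 4 * c = 0 := by linear_combination -h
        rw [this]
        exact ⟨0, by simp⟩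
      exact ⟨hQ, hgen_odd h2 hQ, fun h => absurd h h2⟩
  obtain ⟨hQ, hgen, ha2⟩ := hQgen
  -- the three-dimensional frame giving `Ω = S`
  let a3 : Fin 3 → (Fin (n + 3) ⊕ Fin (n + 3)) ⊕ Fin 2 :=
    fun j => Sum.inl (Sum.inl (Fin.castLE (by omega) j))
  let b3 : Fin 3 → (Fin (n + 3) ⊕ Fin (n + 3)) ⊕ Fin 2 :=
    fun j => Sum.inl (Sum.inr (Fin.castLE (by omega) j))
  have hinj3 : Function.Injective (Sum.elim a3 b3) := by
    intro x y h
    rcases x with x | x <;> rcases y with y | y <;>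
      simp only [Sum.elim_inl, Sum.elim_inr, a3, b3, Sum.inl.injEq, Sum.inr.injEq, reduceCtorEq,
        Fin.castLE_inj] at h
    · rw [h]
    · rw [h]
  let fr3 : Frame3 (QfMinus (n + 3) F a c) := frameOf a3 b3 hinj3
    (fun j => Cfsg.Agent.S2615.hypPair_minus (n + 3) a c _)
  have hΩ : Cfsg.Omega F ⇑(QfMinus (n + 3) F a c) = S (QfMinus (n + 3) F a c) :=
    Omega_eq_S hQ fr3 hgen
  -- the frame of all `n + 3` pairs
  let a' : Fin (n + 3) → (Fin (n + 3) ⊕ Fin (n + 3)) ⊕ Fin 2 := fun j => Sum.inl (Sum.inl j)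
  let b' : Fin (n + 3) → (Fin (n + 3) ⊕ Fin (n + 3)) ⊕ Fin 2 := fun j => Sum.inl (Sum.inr j)
  have hinj : Function.Injective (Sum.elim a' b') := by
    intro x y h
    rcases x with x | x <;> rcases y with y | y <;>
      simp only [Sum.elim_inl, Sum.elim_inr, a', b', Sum.inl.injEq, Sum.inr.injEq, reduceCtorEq] at h
    · rw [h]
    · rw [h]
  let fr : HFrame (QfMinus (n + 3) F a c) (n + 3) :=
    coordFrame a' b' hinj (fun j => Cfsg.Agent.S2615.hypPair_minus (n + 3) a c j)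
  let z0 : (Fin (n + 3) ⊕ Fin (n + 3)) ⊕ Fin 2 → F := Pi.single (Sum.inr 0) 1
  let z1 : (Fin (n + 3) ⊕ Fin (n + 3)) ⊕ Fin 2 → F := Pi.single (Sum.inr 1) 1
  have hz0V : fr.InV0 z0 := by
    rw [coordFrame_inV0_iff]
    intro j
    constructor <;> simp [z0, a', b']
  have hz1V : fr.InV0 z1 := by
    rw [coordFrame_inV0_iff]
    intro j
    constructor <;> simp [z1, a', b']
  have hQz0 : QfMinus (n + 3) F a c z0 ≠ 0 := by
    rw [QfMinus_z0]; exact one_ne_zero
  have hB01 : B (QfMinus (n + 3) F a c) z0 z1 = a := by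
    show QuadraticMap.polar _ _ _ = a
    rw [polar_minus_z0]
    simp [z1]
  have hB00 : B (QfMinus (n + 3) F a c) z0 z0 = 2 := by
    show QuadraticMap.polar _ _ _ = 2
    rw [polar_minus_z0]
    simp [z0]
  have hplane : ∀ w, fr.InV0 w → ∃ s t : F, w = s • z0 + t • z1 := by
    intro w hw
    rw [coordFrame_inV0_iff] at hw
    refine ⟨w (Sum.inr 0), w (Sum.inr 1), ?_⟩
    funext k
    rcases k with (j | j) | j
    · simpa [z0, z1, a'] using (hw j).1
    · simpa [z0, z1, b'] using (hw j).2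
    · fin_cases j <;> simp [z0, z1]
  have hB1 : Fintype.card F = 2 → B (QfMinus (n + 3) F a c) z0 z1 ≠ 0 := by
    intro hc
    rw [hB01]
    apply ha2
    have := Nat.cast_card_eq_zero F
    rw [hc] at this
    exact_mod_cast this
  have hex : ∃ A B' : ↥(Cfsg.isometryGroup F ⇑(QfMinus (n + 3) F a c)),
      A ∈ S (QfMinus (n + 3) F a c) ∧ B' ∈ S (QfMinus (n + 3) F a c) ∧
      S (QfMinus (n + 3) F a c) ≤ Subgroup.closure {A, B'} := by
    by_cases h2 : (2 : F) = 0
    · exact exists_two_gen_plane hQ fr hz0V hQz0 hz1V hplane hz0V hz1V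
        (by rw [hB01]; exact ha2 h2) hB1
    · exact exists_two_gen_plane hQ fr hz0V hQz0 hz1V hplane hz0V hz0V
        (by rw [hB00]; exact h2) hB1
  obtain ⟨A, B', hA, hB, hle⟩ := hex
  rw [← hΩ] at hA hB hle
  exact ⟨⟨A, hA⟩, ⟨B', hB⟩, closure_pair_subtype _ hA hB hle⟩

end Cfsg.Agent.Helper12.OrthGen
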