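import Mathlib
import Cfsg.Agent.Helper28.S2789Defs

/-! Definitions for the board `s2999pieces` (S2999: `p`-minimal group with an offender `A` satisfying (i)–(iii) is `SL₂(q)` on
its natural module). Blueprint: `departures/helper12_S2999_blueprint.md`. Uses `fixV`, `cjs`, `Dcl`, `RootData`, `NatOut` of
`Cfsg.Agent.S2789P`. -/

set_option autoImplicit false

namespace Cfsg.Agent.S2999P

open Cfsg.Agent.S2789P

variable {G : Type*} [Group G]

/-- the core of `Mg` in `P`: the intersection of the `P`-conjugates of `Mg` -/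
def coreIn (P Mg : Subgroup G) : Subgroup G := ⨅ h : ↥P, cjs (h : G) Mg

/-- `V₁`: the join of the fixed-point groups `C_V(gAg⁻¹)`, `g ∈ P` -/
def V1 (V P A : Subgroup G) : Subgroup G := ⨆ g : ↥P, fixV V (cjs (g : G) A)

/-- The hypotheses of S2999 inside the ambient group: `Mg`, `Tg`, `R` are the images in `G` of the maximal subgroup `M`, the
Sylow `p`-subgroup `T` and `O_p(P)`. -/
structure Setup (p : ℕ) (V P Mg Tg R A : Subgroup G) : Prop where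
  hV : Cfsg.IsElementaryAbelian p V
  hPV : P ≤ Subgroup.normalizer (V : Set G)
  hf : P ⊓ Subgroup.centralizer (V : Set G) = ⊥
  hMP : Mg ≤ P
  hMne : ∃ x ∈ P, x ∉ Mg
  hTM : Tg ≤ Mg
  hAT : A ≤ Tg
  hA : Cfsg.IsElementaryAbelian p A
  /-- every `p`-element of `M` lies in an `M`-conjugate of `T` -/
  hsyl : ∀ c ∈ Mg, (∃ k : ℕ, c ^ p ^ k = 1) → ∃ m ∈ Mg, c ∈ cjs m Tg
  hRP : R ≤ P
  hRn : P ≤ Subgroup.normalizer (R : Set G)
  hRT : R ≤ Tg
  /-- `T ∩ core(M) ≤ O_p(P)` -/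
  hRcore : Tg ⊓ coreIn P Mg ≤ R
  /-- normal `p`-subgroups of `P` lie in `O_p(P)` -/
  hRmax : ∀ K : Subgroup G, K ≤ P → P ≤ Subgroup.normalizer (K : Set G) → IsPGroup p ↥K → K ≤ R
  hi1 : Nat.card ↥V ≤ Nat.card ↥A * Nat.card ↥(fixV V A)
  hi2 : ∀ A₀ : Subgroup G, A₀ ≤ A → A₀ ≠ ⊥ → A₀ ≠ A →
    Nat.card ↥A₀ * Nat.card ↥(fixV V A₀) < Nat.card ↥A * Nat.card ↥(fixV V A)
  hii : ¬ fixV V Tg ≤ fixV V P
  hiii : ∀ x ∈ P, x ∉ Mg → A ⊔ cjs x A = P

end Cfsg.Agent.S2999P
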