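import Mathlib
import Cfsg.Agent.Helper12.S2999Defs
import Cfsg.Agent.Helper11.S2789GEOconj

/-! Basic API for the board `s2999pieces`: conjugation `cjs`, fixed points `fixV`, the subgroup `V1`, and the first consequences
of `Setup`. Blueprint: `departures/helper12_S2999_blueprint.md`. -/

set_option autoImplicit false

namespace Cfsg.Agent.S2999P

open Cfsg.Agent.S2789P

variable {G : Type*} [Group G]

theorem cj_mem {g x : G} {E : Subgroup G} : x ∈ cjs g E ↔ g⁻¹ * x * g ∈ E := GEO_conj_aux_mem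

theorem cj_mem_conj {g e : G} {E : Subgroup G} : g * e * g⁻¹ ∈ cjs g E ↔ e ∈ E := by
  rw [cj_mem]
  have : g⁻¹ * (g * e * g⁻¹) * g = e := by group
  rw [this]

theorem cj_one (E : Subgroup G) : cjs 1 E = E := by
  ext x; rw [cj_mem]; simp

theorem cj_mul (g h : G) (E : Subgroup G) : cjs g (cjs h E) = cjs (g * h) E := by
  ext x
  rw [cj_mem, cj_mem, cj_mem]
  have : h⁻¹ * (g⁻¹ * x * g) * h = (g * h)⁻¹ * x * (g * h) := by group
  rw [this]

theorem cj_inv_cj (g : G) (E : Subgroup G) : cjs g⁻¹ (cjs g E) = E := by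
  rw [cj_mul, inv_mul_cancel, cj_one]

theorem cj_cj_inv (g : G) (E : Subgroup G) : cjs g (cjs g⁻¹ E) = E := by
  rw [cj_mul, mul_inv_cancel, cj_one]

theorem cj_mono {g : G} {E F : Subgroup G} (h : E ≤ F) : cjs g E ≤ cjs g F := Subgroup.map_mono h

theorem cj_le_iff {g : G} {E F : Subgroup G} : cjs g E ≤ cjs g F ↔ E ≤ F := by
  constructor
  · intro h
    have := cj_mono (g := g⁻¹) h
    rwa [cj_inv_cj, cj_inv_cj] at this
  · exact cj_mono

theorem cj_inj {g : G} {E F : Subgroup G} : cjs g E = cjs g F ↔ E = F := by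
  constructor
  · intro h; exact le_antisymm (cj_le_iff.mp h.le) (cj_le_iff.mp h.ge)
  · rintro rfl; rfl

theorem cj_sup (g : G) (E F : Subgroup G) : cjs g (E ⊔ F) = cjs g E ⊔ cjs g F := Subgroup.map_sup _ _ _

theorem cj_inf (g : G) (E F : Subgroup G) : cjs g (E ⊓ F) = cjs g E ⊓ cjs g F :=
  Subgroup.map_inf _ _ _ (GEO_conj_aux_inj g)

theorem cj_comm (g : G) (E F : Subgroup G) : cjs g ⁅E, F⁆ = ⁅cjs g E, cjs g F⁆ := Subgroup.map_commutator _ _ _

theorem cj_bot (g : G) : cjs g (⊥ : Subgroup G) = ⊥ := Subgroup.map_bot _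

theorem cj_card (g : G) (E : Subgroup G) : Nat.card ↥(cjs g E) = Nat.card ↥E := GEO_conj_aux_card g E

theorem cj_norm {g : G} {E : Subgroup G} (hg : g ∈ Subgroup.normalizer (E : Set G)) : cjs g E = E :=
  GEO_conj_aux_norm hg

theorem cj_le_of_mem {g : G} {E K : Subgroup G} (hg : g ∈ K) (hE : E ≤ K) : cjs g E ≤ K := by
  intro x hx
  rw [cj_mem] at hx
  have h1 : g * (g⁻¹ * x * g) * g⁻¹ ∈ K := K.mul_mem (K.mul_mem hg (hE hx)) (K.inv_mem hg)
  have : g * (g⁻¹ * x * g) * g⁻¹ = x := by group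
  rwa [this] at h1

theorem cj_self {g : G} {K : Subgroup G} (hg : g ∈ K) : cjs g K = K :=
  cj_norm (Subgroup.le_normalizer hg)

theorem cj_fix {V : Subgroup G} (E : Subgroup G) {g : G} (hg : g ∈ Subgroup.normalizer (V : Set G)) :
    fixV V (cjs g E) = cjs g (fixV V E) := GEO_conj_aux_fix E hg

theorem mem_fix {V E : Subgroup G} {v : G} : v ∈ fixV V E ↔ v ∈ V ∧ ∀ e ∈ E, e * v = v * e := by
  unfold fixV
  rw [Subgroup.mem_inf, Subgroup.mem_centralizer_iff]
  rfl

theorem fix_le (V E : Subgroup G) : fixV V E ≤ V := inf_le_left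

theorem fix_anti {V E F : Subgroup G} (h : E ≤ F) : fixV V F ≤ fixV V E :=
  inf_le_inf_left V (Subgroup.centralizer_le h)

theorem fix_sup (V E F : Subgroup G) : fixV V (E ⊔ F) = fixV V E ⊓ fixV V F := by
  apply le_antisymm
  · exact le_inf (fix_anti le_sup_left) (fix_anti le_sup_right)
  · intro v hv
    rw [Subgroup.mem_inf] at hv
    refine ⟨hv.1.1, ?_⟩
    have h1 : E ≤ Subgroup.centralizer ((Subgroup.zpowers v : Subgroup G) : Set G) := by
      intro e he
      rw [Subgroup.mem_centralizer_iff]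
      intro w hw
      obtain ⟨k, rfl⟩ := Subgroup.mem_zpowers_iff.mp hw
      have : Commute e v := ((mem_fix.mp hv.1).2 e he)
      exact ((this.zpow_right k).eq).symm
    have h2 : F ≤ Subgroup.centralizer ((Subgroup.zpowers v : Subgroup G) : Set G) := by
      intro e he
      rw [Subgroup.mem_centralizer_iff]
      intro w hw
      obtain ⟨k, rfl⟩ := Subgroup.mem_zpowers_iff.mp hw
      have : Commute e v := ((mem_fix.mp hv.2).2 e he)
      exact ((this.zpow_right k).eq).symm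
    show v ∈ Subgroup.centralizer ((E ⊔ F : Subgroup G) : Set G)
    rw [Subgroup.mem_centralizer_iff]
    intro e he
    have h3 := (sup_le h1 h2) he
    rw [Subgroup.mem_centralizer_iff] at h3
    exact (h3 v (Subgroup.mem_zpowers v)).symm

/-! ### `V1` -/

theorem V1_le (V P A : Subgroup G) : V1 V P A ≤ V := iSup_le fun _ => inf_le_left

theorem fix_le_V1 {V P A : Subgroup G} {g : G} (hg : g ∈ P) : fixV V (cjs g A) ≤ V1 V P A :=
  le_iSup (fun k : ↥P => fixV V (cjs (k : G) A)) ⟨g, hg⟩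

theorem fixA_le_V1 (V P A : Subgroup G) : fixV V A ≤ V1 V P A := by
  have := fix_le_V1 (V := V) (A := A) (P.one_mem)
  rwa [cj_one] at this

theorem cj_V1 {V P A : Subgroup G} (hPV : P ≤ Subgroup.normalizer (V : Set G)) {k : G} (hk : k ∈ P) :
    cjs k (V1 V P A) = V1 V P A := by
  have key : ∀ k ∈ P, cjs k (V1 V P A) ≤ V1 V P A := by
    intro k hk
    have h0 : cjs k (V1 V P A) = ⨆ g : ↥P, cjs k (fixV V (cjs (g : G) A)) := by
      unfold V1 cjs
      rw [Subgroup.map_iSup]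
    rw [h0]
    refine iSup_le fun g => ?_
    have h1 : cjs k (fixV V (cjs (g : G) A)) = fixV V (cjs (k * g) A) := by
      have := cj_fix (V := V) (cjs (g : G) A) (hPV hk)
      rw [cj_mul] at this
      exact this.symm
    rw [h1]
    exact fix_le_V1 (P.mul_mem hk g.2)
  apply le_antisymm (key k hk)
  have := cj_mono (g := k) (key k⁻¹ (P.inv_mem hk))
  rwa [cj_cj_inv] at this

theorem V1_norm {V P A : Subgroup G} (hPV : P ≤ Subgroup.normalizer (V : Set G)) :
    P ≤ Subgroup.normalizer ((V1 V P A : Subgroup G) : Set G) := by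
  intro k hk
  rw [Subgroup.mem_normalizer_iff]
  intro x
  have h1 := cj_V1 (A := A) hPV (P.inv_mem hk)
  constructor
  · intro hx
    have : k * x * k⁻¹ ∈ cjs k (V1 V P A) := cj_mem_conj.mpr hx
    rwa [cj_V1 hPV hk] at this
  · intro hx
    have : k⁻¹ * (k * x * k⁻¹) * k⁻¹⁻¹ ∈ cjs k⁻¹ (V1 V P A) := cj_mem_conj.mpr hx
    rw [h1] at this
    have e : k⁻¹ * (k * x * k⁻¹) * k⁻¹⁻¹ = x := by group
    rwa [e] at this

/-! ### First consequences of `Setup` -/

variable {p : ℕ} {V P Mg Tg R A : Subgroup G}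

theorem Setup.hTP (S : Setup p V P Mg Tg R A) : Tg ≤ P := S.hTM.trans S.hMP

theorem Setup.hAP (S : Setup p V P Mg Tg R A) : A ≤ P := S.hAT.trans S.hTP

theorem Setup.hAM (S : Setup p V P Mg Tg R A) : A ≤ Mg := S.hAT.trans S.hTM

theorem Setup.cjV (S : Setup p V P Mg Tg R A) {g : G} (hg : g ∈ P) : cjs g V = V := cj_norm (S.hPV hg)

theorem Setup.cjP (_S : Setup p V P Mg Tg R A) {g : G} (hg : g ∈ P) : cjs g P = P := cj_self hg

theorem Setup.cjR (S : Setup p V P Mg Tg R A) {g : G} (hg : g ∈ P) : cjs g R = R := cj_norm (S.hRn hg)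

theorem Setup.cjfix (S : Setup p V P Mg Tg R A) (E : Subgroup G) {g : G} (hg : g ∈ P) :
    fixV V (cjs g E) = cjs g (fixV V E) := cj_fix E (S.hPV hg)

theorem Setup.cjV0 (S : Setup p V P Mg Tg R A) {g : G} (hg : g ∈ P) : cjs g (fixV V P) = fixV V P := by
  rw [← S.cjfix P hg, S.cjP hg]

theorem Setup.cjV1 (S : Setup p V P Mg Tg R A) {g : G} (hg : g ∈ P) : cjs g (V1 V P A) = V1 V P A :=
  cj_V1 S.hPV hg

theorem Setup.V0_le_fix (_S : Setup p V P Mg Tg R A) {E : Subgroup G} (hE : E ≤ P) : fixV V P ≤ fixV V E :=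
  fix_anti hE

theorem Setup.V0_le_V1 (S : Setup p V P Mg Tg R A) : fixV V P ≤ V1 V P A :=
  (S.V0_le_fix S.hAP).trans (fixA_le_V1 V P A)

theorem Setup.cjA_le (S : Setup p V P Mg Tg R A) {g : G} (hg : g ∈ P) : cjs g A ≤ P := cj_le_of_mem hg S.hAP

theorem Setup.cjM_le (S : Setup p V P Mg Tg R A) {g : G} (hg : g ∈ P) : cjs g Mg ≤ P := cj_le_of_mem hg S.hMP

theorem Setup.cjM_of_mem (_S : Setup p V P Mg Tg R A) {g : G} (hg : g ∈ Mg) : cjs g Mg = Mg := cj_self hg

theorem Setup.cardfix (S : Setup p V P Mg Tg R A) (E : Subgroup G) {g : G} (hg : g ∈ P) :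
    Nat.card ↥(fixV V (cjs g E)) = Nat.card ↥(fixV V E) := by
  rw [S.cjfix E hg, cj_card]

/-- elements of `V₀ = C_V(P)` commute with elements of `P` -/
theorem Setup.V0_comm (_S : Setup p V P Mg Tg R A) {v g : G} (hv : v ∈ fixV V P) (hg : g ∈ P) : g * v = v * g :=
  (mem_fix.mp hv).2 g hg

/-- `V` is commutative -/
theorem Setup.V_comm (S : Setup p V P Mg Tg R A) {v w : G} (hv : v ∈ V) (hw : w ∈ V) : v * w = w * v := by
  have := S.hV.1.is_comm.comm ⟨v, hv⟩ ⟨w, hw⟩
  exact congrArg Subtype.val this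

theorem Setup.conj_mem_V (S : Setup p V P Mg Tg R A) {v g : G} (hv : v ∈ V) (hg : g ∈ P) : g * v * g⁻¹ ∈ V := by
  have := cj_mem_conj (g := g) (E := V) |>.mpr hv
  rwa [S.cjV hg] at this

/-- elements of `E ⊔ F` (`E, F ≤ V`) are products -/
theorem Setup.mem_sup (S : Setup p V P Mg Tg R A) {E F : Subgroup G} (hE : E ≤ V) (hF : F ≤ V) {x : G} :
    x ∈ E ⊔ F ↔ ∃ y ∈ E, ∃ z ∈ F, y * z = x := by
  constructor
  · intro hx
    have hc' : ∀ (a : E) (b : F), Commute (E.subtype a) (F.subtype b) := fun a b => S.V_comm (hE a.2) (hF b.2)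
    have h1 := MonoidHom.noncommCoprod_range E.subtype F.subtype hc'
    rw [Subgroup.range_subtype, Subgroup.range_subtype] at h1
    rw [← h1] at hx
    obtain ⟨⟨a, b⟩, rfl⟩ := hx
    exact ⟨a, a.2, b, b.2, by simp [MonoidHom.noncommCoprod_apply]⟩
  · rintro ⟨y, hy, z, hz, rfl⟩
    exact Subgroup.mul_mem_sup hy hz

/-- the product formula inside `V` -/
theorem Setup.card_sup [Finite G] (S : Setup p V P Mg Tg R A) {E F : Subgroup G} (hE : E ≤ V) (hF : F ≤ V) :
    Nat.card ↥(E ⊔ F) * Nat.card ↥(E ⊓ F) = Nat.card ↥E * Nat.card ↥F := by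
  have hEN : E ≤ Subgroup.normalizer (F : Set G) := by
    intro x hx
    rw [Subgroup.mem_normalizer_iff]
    intro y
    constructor
    · intro hy
      have : x * y * x⁻¹ = y := by
        rw [S.V_comm (hE hx) (hF hy)]; group
      rwa [this]
    · intro hy
      have h2 : x⁻¹ * (x * y * x⁻¹) * x ∈ F := by
        have h3 : x * y * x⁻¹ ∈ V := hF hy
        have : x⁻¹ * (x * y * x⁻¹) * x = x * y * x⁻¹ := by
          rw [mul_assoc, ← S.V_comm (hE hx) h3]; group
        rwa [this]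
      have e : x⁻¹ * (x * y * x⁻¹) * x = y := by group
      rwa [e] at h2
  have h1 := Subgroup.card_mul_index ((F.subgroupOf (E ⊔ F)))
  have h2 := Subgroup.card_mul_index ((F.subgroupOf E))
  haveI := Subgroup.normal_subgroupOf_of_le_normalizer hEN
  haveI := Subgroup.normal_subgroupOf_sup_of_le_normalizer hEN
  have h3 : F.relIndex (E ⊔ F) = F.relIndex E :=
    Nat.card_congr (QuotientGroup.quotientInfEquivProdNormalizerQuotient E F hEN).toEquiv.symm
  have h4 : Nat.card ↥(F.subgroupOf (E ⊔ F)) = Nat.card ↥F :=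
    Nat.card_congr (Subgroup.subgroupOfEquivOfLe (le_sup_right : F ≤ E ⊔ F)).toEquiv
  have h5 : Nat.card ↥(F.subgroupOf E) = Nat.card ↥(E ⊓ F) := by
    rw [inf_comm]
    exact Nat.card_congr (Subgroup.subgroupOfEquivOfLe (inf_le_right : F ⊓ E ≤ E)).toEquiv |>.symm ▸ (by
      rw [Subgroup.inf_subgroupOf_right])
  change Nat.card ↥(F.subgroupOf (E ⊔ F)) * F.relIndex (E ⊔ F) = Nat.card ↥(E ⊔ F : Subgroup G) at h1
  change Nat.card ↥(F.subgroupOf E) * F.relIndex E = Nat.card ↥E at h2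
  rw [h4, h3] at h1
  rw [h5] at h2
  rw [← h1, ← h2]
  ring

end Cfsg.Agent.S2999P
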