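import Mathlib
import Cfsg.Agent.Helper12.S2999Basic
import Cfsg.Agent.Helper14.S2999SPLIT
import Cfsg.Agent.Helper20.S2999COUNT
import Cfsg.Agent.Helper23.S2999STRONG
import Cfsg.Agent.Helper22.S2999G2Pcore
import Cfsg.Agent.Helper21.S2999ACEQcore
import Cfsg.Agent.Helper24.S2999ORBIT

/-! Board `s2999pieces`, pieces ZFACT, ACBOT, NUM, RBOT (blueprint §6, §7, §9 first half): the numerical assemblies. -/

set_option autoImplicit false

namespace Cfsg.Agent.S2999P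

open Cfsg.Agent.S2789P
open scoped commutatorElement

variable {G : Type*} [Group G]

theorem NUM_aux_le_normalizer_of_cj {P Y : Subgroup G} (h : ∀ k ∈ P, cjs k Y = Y) :
    P ≤ Subgroup.normalizer (Y : Set G) := by
  intro k hk
  rw [Subgroup.mem_normalizer_iff]
  intro x
  constructor
  · intro hx
    have : k * x * k⁻¹ ∈ cjs k Y := cj_mem_conj.mpr hx
    rwa [h k hk] at this
  · intro hx
    have : k⁻¹ * (k * x * k⁻¹) * k⁻¹⁻¹ ∈ cjs k⁻¹ Y := cj_mem_conj.mpr hx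
    rw [h k⁻¹ (P.inv_mem hk)] at this
    have e : k⁻¹ * (k * x * k⁻¹) * k⁻¹⁻¹ = x := by group
    rwa [e] at this

variable [Finite G] {p : ℕ} [Fact p.Prime] {V P Mg Tg R A : Subgroup G}

/-- ZFACT (S): `Z = C_V(T) ≤ C_V(R) ∩ C_V(A)`, and `C_V(A) ≰ V₀`. -/
theorem ZFACT (S : Setup p V P Mg Tg R A) :
    fixV V Tg ≤ fixV V R ⊓ fixV V A ∧ ¬ fixV V A ≤ fixV V P := by
  refine ⟨le_inf (fix_anti S.hRT) (fix_anti S.hAT), fun h => S.hii ((fix_anti S.hAT).trans h)⟩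

/-- ORBIT, through the landed cores (`ORBIT_core`, `ACEQ_core`, `G2P_aux_core`) and `STRONG` -/
theorem NUM_aux_orbit (S : Setup p V P Mg Tg R A) :
    Nat.card ↥A + Nat.card ↥(A ⊓ coreIn P Mg : Subgroup G) ≤ Nat.card ↥(A ⊓ coreIn P Mg : Subgroup G) * Mg.relIndex P :=
  ORBIT_core S (fun _ hx hxM => ACEQ_core S
    (fun hg hgM hc hcM _ hh => G2P_aux_core S hg hgM hc hcM hh
      (fun hgh hcm _ hv hcv => STRONG S hg hh hgh hc hcm hv hcv)) hx hxM)

/-- `C_V(R) ∩ V₁` is `P`-invariant, between `V₀` and `V₁`, and `C_V(T) ≤ C_V(R) ∩ V₁ ∩ C_V(A)`. -/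
theorem NUM_aux_Y (S : Setup p V P Mg Tg R A) :
    P ≤ Subgroup.normalizer ((fixV V R ⊓ V1 V P A : Subgroup G) : Set G) ∧ fixV V P ≤ fixV V R ⊓ V1 V P A ∧
      fixV V R ⊓ V1 V P A ≤ V1 V P A ∧ ¬ ((fixV V R ⊓ V1 V P A) ⊓ fixV V A : Subgroup G) ≤ fixV V P := by
  refine ⟨?_, le_inf (S.V0_le_fix S.hRP) S.V0_le_V1, inf_le_right, ?_⟩
  · apply NUM_aux_le_normalizer_of_cj
    intro k hk
    rw [cj_inf, ← S.cjfix R hk, S.cjR hk, S.cjV1 hk]
  · intro h
    have hZ := ZFACT S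
    apply S.hii
    refine le_trans (le_inf (le_inf (hZ.1.trans inf_le_left) ?_) (hZ.1.trans inf_le_right)) h
    exact (hZ.1.trans inf_le_right).trans (fixA_le_V1 V P A)

theorem NUM_aux_arith1 {q c u a y w f v0 n : ℕ} (hu : 0 < u) (ha : 0 < a) (hv : 0 < v0)
    (h1 : n * v0 ≤ a + v0) (h2 : y * v0 = a ^ 2) (h3 : q + c ≤ c * n) (h4 : c * f < q * u) (h5 : w * a = y * u)
    (h6 : w ≤ f) : False := by
  have e1 : c * w * (a * v0) < q * u * (a * v0) :=
    Nat.mul_lt_mul_of_pos_right (lt_of_le_of_lt (Nat.mul_le_mul_left c h6) h4) (Nat.mul_pos ha hv)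
  have e2 : c * w * (a * v0) = c * a * (u * a) := by
    calc c * w * (a * v0) = c * (w * a) * v0 := by ring
      _ = c * (y * u) * v0 := by rw [h5]
      _ = c * u * (y * v0) := by ring
      _ = c * u * a ^ 2 := by rw [h2]
      _ = c * a * (u * a) := by ring
  have e3 : q * u * (a * v0) = q * v0 * (u * a) := by ring
  rw [e2, e3] at e1
  have e4 : c * a < q * v0 := Nat.lt_of_mul_lt_mul_right e1
  have e5 : q * v0 + c * v0 ≤ c * a + c * v0 := by
    calc q * v0 + c * v0 = (q + c) * v0 := by ring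
      _ ≤ c * n * v0 := Nat.mul_le_mul_right v0 h3
      _ = c * (n * v0) := by ring
      _ ≤ c * (a + v0) := Nat.mul_le_mul_left c h1
      _ = c * a + c * v0 := by ring
  omega

/-- ACBOT (M): blueprint §6. -/
theorem ACBOT (S : Setup p V P Mg Tg R A) : A ⊓ coreIn P Mg = ⊥ := by
  by_contra hne
  obtain ⟨x, hxP, hxM⟩ := S.hMne
  have hAcA : A ⊓ coreIn P Mg ≠ A := by
    intro h
    have h1 : A ≤ cjs x Mg := by
      have h0 : A ≤ coreIn P Mg := by rw [← h]; exact inf_le_right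
      exact h0.trans (iInf_le (fun k : ↥P => cjs (k : G) Mg) ⟨x, hxP⟩)
    have h2 : cjs x A ≤ cjs x Mg := cj_mono S.hAM
    have h3 : P ≤ cjs x Mg := by rw [← S.hiii x hxP hxM]; exact sup_le h1 h2
    have h4 := h3 hxP
    rw [cj_mem] at h4
    apply hxM
    simpa using h4
  have hAcR : A ⊓ coreIn P Mg ≤ R := (inf_le_inf_right _ S.hAT).trans S.hRcore
  obtain ⟨hYP, hY0, hY1, hYne⟩ := NUM_aux_Y S
  have hcount := COUNT S _ hYP hY0 hY1 hYne
  have hsplit := SPLIT S _ hYP hY0 hY1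
  have horbit := NUM_aux_orbit S
  have hi2 := S.hi2 _ inf_le_left hne hAcA
  have hsup : (fixV V R ⊓ V1 V P A) ⊔ fixV V A ≤ fixV V (A ⊓ coreIn P Mg) :=
    sup_le (inf_le_left.trans (fix_anti hAcR)) (fix_anti inf_le_left)
  have hcs := S.card_sup (E := fixV V R ⊓ V1 V P A) (F := fixV V A) (inf_le_left.trans (fix_le V R)) (fix_le V A)
  have hwf := Subgroup.card_le_of_le hsup
  exact NUM_aux_arith1 (Nat.card_pos (α := ↥(fixV V A)))
    (Nat.card_pos (α := ↥((fixV V R ⊓ V1 V P A) ⊓ fixV V A : Subgroup G))) (Nat.card_pos (α := ↥(fixV V P)))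
    hcount hsplit horbit hi2 hcs hwf

theorem NUM_aux_arith2 {q u y1 vv v0 n : ℕ} (hu : 0 < u) (hv : 0 < v0)
    (h1 : n * v0 ≤ u + v0) (h2 : y1 * v0 = u ^ 2) (h3 : q + 1 ≤ n) (h4 : vv ≤ q * u) (h5 : y1 ≤ vv) :
    n = q + 1 ∧ u = q * v0 ∧ y1 = vv ∧ vv = q ^ 2 * v0 := by
  have e1 : q * v0 ≤ u := by
    have : (q + 1) * v0 ≤ u + v0 := (Nat.mul_le_mul_right v0 h3).trans h1
    have e : (q + 1) * v0 = q * v0 + v0 := by ring
    omega
  have e2 : u ≤ q * v0 := by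
    have : u * u ≤ q * v0 * u := by
      calc u * u = u ^ 2 := by ring
        _ = y1 * v0 := h2.symm
        _ ≤ vv * v0 := Nat.mul_le_mul_right v0 h5
        _ ≤ q * u * v0 := Nat.mul_le_mul_right v0 h4
        _ = q * v0 * u := by ring
    exact Nat.le_of_mul_le_mul_right this hu
  have e3 : u = q * v0 := le_antisymm e2 e1
  have e4 : n ≤ q + 1 := by
    have : n * v0 ≤ (q + 1) * v0 := by
      have e : (q + 1) * v0 = q * v0 + v0 := by ring
      omega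
    exact Nat.le_of_mul_le_mul_right this hv
  have e5 : y1 = q ^ 2 * v0 := by
    have : y1 * v0 = q ^ 2 * v0 * v0 := by rw [h2, e3]; ring
    exact Nat.eq_of_mul_eq_mul_right hv this
  have e6 : vv ≤ q ^ 2 * v0 := by
    calc vv ≤ q * u := h4
      _ = q ^ 2 * v0 := by rw [e3]; ring
  refine ⟨le_antisymm e4 h3, e3, ?_, ?_⟩ <;> omega

/-- NUM (M): blueprint §7. -/
theorem NUM (S : Setup p V P Mg Tg R A) :
    Mg.relIndex P = Nat.card ↥A + 1 ∧ Nat.card ↥(fixV V A) = Nat.card ↥A * Nat.card ↥(fixV V P) ∧ V1 V P A = V ∧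
      Nat.card ↥V = Nat.card ↥A ^ 2 * Nat.card ↥(fixV V P) := by
  have hZ := ZFACT S
  have hinf : (V1 V P A ⊓ fixV V A : Subgroup G) = fixV V A := inf_eq_right.mpr (fixA_le_V1 V P A)
  have hcount := COUNT S (V1 V P A) (V1_norm S.hPV) S.V0_le_V1 le_rfl (by rw [hinf]; exact hZ.2)
  have hsplit := SPLIT S (V1 V P A) (V1_norm S.hPV) S.V0_le_V1 le_rfl
  rw [hinf] at hcount hsplit
  have horbit := NUM_aux_orbit S
  rw [ACBOT S, Subgroup.card_bot, one_mul] at horbit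
  have hle := Subgroup.card_le_of_le (V1_le V P A)
  obtain ⟨h1, h2, h3, h4⟩ := NUM_aux_arith2 (Nat.card_pos (α := ↥(fixV V A))) (Nat.card_pos (α := ↥(fixV V P)))
    hcount hsplit horbit S.hi1 hle
  refine ⟨h1, h2, ?_, h4⟩
  exact Subgroup.eq_of_le_of_card_ge (V1_le V P A) h3.ge

theorem NUM_aux_arith3 {q a y v0 n : ℕ} (hv : 0 < v0)
    (h1 : n * v0 ≤ a + v0) (h2 : y * v0 = a ^ 2) (h3 : n = q + 1) (h4 : a ≤ q * v0) :
    y = q ^ 2 * v0 := by
  have e1 : q * v0 ≤ a := by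
    have e : (q + 1) * v0 = q * v0 + v0 := by ring
    rw [h3] at h1
    omega
  have e2 : a = q * v0 := le_antisymm h4 e1
  have : y * v0 = q ^ 2 * v0 * v0 := by rw [h2, e2]; ring
  exact Nat.eq_of_mul_eq_mul_right hv this

/-- RBOT (M): blueprint §9, first half. -/
theorem RBOT (S : Setup p V P Mg Tg R A) : R = ⊥ := by
  obtain ⟨hn, hu, hV1, hV⟩ := NUM S
  obtain ⟨hYP, hY0, hY1, hYne⟩ := NUM_aux_Y S
  have hY : (fixV V R ⊓ V1 V P A : Subgroup G) = fixV V R := by rw [hV1]; exact inf_eq_left.mpr (fix_le V R)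
  rw [hY] at hYP hY0 hY1 hYne
  have hcount := COUNT S _ hYP hY0 hY1 hYne
  have hsplit := SPLIT S _ hYP hY0 hY1
  have hle : Nat.card ↥(fixV V R ⊓ fixV V A : Subgroup G) ≤ Nat.card ↥A * Nat.card ↥(fixV V P) := by
    rw [← hu]; exact Subgroup.card_le_of_le inf_le_right
  have hy := NUM_aux_arith3 (Nat.card_pos (α := ↥(fixV V P))) hcount hsplit hn hle
  have hYV : fixV V R = V := Subgroup.eq_of_le_of_card_ge (fix_le V R) (by rw [hy, hV])
  have hRC : R ≤ Subgroup.centralizer (V : Set G) := by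
    intro r hr
    rw [Subgroup.mem_centralizer_iff]
    intro v hv
    have hv' : v ∈ fixV V R := by rw [hYV]; exact hv
    exact ((mem_fix.mp hv').2 r hr).symm
  have := le_inf S.hRP hRC
  rw [S.hf] at this
  exact le_bot_iff.mp this

end Cfsg.Agent.S2999P
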