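import Mathlib
import Cfsg.Agent.Helper12.S2999Basic
import Cfsg.Agent.Helper12.S2999NUM
import Cfsg.Agent.Helper20.S2999OPP
import Cfsg.Agent.Helper8.S2999PACK
import Cfsg.Agent.Helper20.S2999SPREADCore
import Cfsg.Agent.Helper24.S2999KER
import Cfsg.Agent.Helper26.Replacement
import Cfsg.Agent.Helper6.S2999QUAD
import Cfsg.Agent.Helper23.S2999STRONG

/-! Board `s2999pieces`: the last wrappers (SPREAD, DSP, KER through the landed cores), under `FIN_*` names. -/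

set_option autoImplicit false

namespace Cfsg.Agent.S2999P

open Cfsg.Agent.S2789P
open scoped commutatorElement

variable {G : Type*} [Group G] [Finite G] {p : ℕ} [Fact p.Prime] {V P Mg Tg R A : Subgroup G}

/-- SPREAD through `SPREAD_aux_core`, `NUM`, `PACK` -/
theorem FIN_spread (S : Setup p V P Mg Tg R A) {m : G} (hm : m ∈ Mg) : fixV V (cjs m A) = fixV V A :=
  SPREAD_aux_core S (NUM S) (fun Rp h1 h2 => PACK S V S.hPV (fix_le V P) Rp h1 h2) hm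

/-- KER through `KER_core`, `RBOT` -/
theorem FIN_ker (S : Setup p V P Mg Tg R A) : ∀ h ∈ P, (∀ v ∈ V, ⁅v, h⁆ ∈ fixV V P) → h = 1 :=
  KER_core S (RBOT S)

/-- DSP: the spread property for all conjugates -/
theorem FIN_dsp (S : Setup p V P Mg Tg R A) {g h : G} (hg : g ∈ P) (hh : h ∈ P) :
    fixV V (cjs g A) = fixV V (cjs h A) ∨ fixV V (cjs g A) ⊓ fixV V (cjs h A) = fixV V P := by
  by_cases hgh : g⁻¹ * h ∈ Mg
  · left
    have e : cjs h A = cjs g (cjs (g⁻¹ * h) A) := by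
      rw [cj_mul]
      have : g * (g⁻¹ * h) = h := by group
      rw [this]
    rw [e, S.cjfix (cjs (g⁻¹ * h) A) hg, FIN_spread S hgh, ← S.cjfix A hg]
  · right
    exact (OPP S hg hh hgh).2

/-- the commutator map `v ↦ ⁅a, v⁆` is a homomorphism on `V` -/
theorem FIN_aux_comm_hom (S : Setup p V P Mg Tg R A) {a v w : G} (ha : a ∈ P) (hv : v ∈ V) (hw : w ∈ V) :
    ⁅a, v⁆⁻¹ * ⁅a, w⁆ = ⁅a, v⁻¹ * w⁆ := by
  have h1 : a * v⁻¹ * a⁻¹ ∈ V := S.conj_mem_V (V.inv_mem hv) ha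
  have h2 : a * w * a⁻¹ ∈ V := S.conj_mem_V hw ha
  have h3 : a * v⁻¹ * a⁻¹ * (a * w * a⁻¹) * w⁻¹ ∈ V := V.mul_mem (V.mul_mem h1 h2) (V.inv_mem hw)
  have h4 := S.V_comm hv h3
  rw [commutatorElement_def, commutatorElement_def, commutatorElement_def]
  have e1 : (a * v * a⁻¹ * v⁻¹)⁻¹ * (a * w * a⁻¹ * w⁻¹) = v * (a * v⁻¹ * a⁻¹ * (a * w * a⁻¹) * w⁻¹) := by group
  have e2 : a * (v⁻¹ * w) * a⁻¹ * (v⁻¹ * w)⁻¹ = a * v⁻¹ * a⁻¹ * (a * w * a⁻¹) * w⁻¹ * v := by group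
  rw [e1, e2, h4]

/-- CVA: `C_V(A) = [V,A] C_V(P)` -/
theorem FIN_cva (S : Setup p V P Mg Tg R A) : fixV V A = ⁅V, A⁆ ⊔ fixV V P := by
  have hle : ⁅V, A⁆ ⊔ fixV V P ≤ fixV V A := sup_le (QUAD S) (S.V0_le_fix S.hAP)
  symm
  apply Subgroup.eq_of_le_of_card_ge hle
  obtain ⟨x, hxP, hxM⟩ := S.hMne
  have hx1 : (1 : G)⁻¹ * x ∉ Mg := by rwa [inv_one, one_mul]
  obtain ⟨a, haA, haM⟩ := MOVE S P.one_mem hxP hx1
  have haA' : a ∈ A := by rwa [cj_one] at haA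
  have haP : a ∈ P := S.hAP haA'
  have hopp := (OPP S P.one_mem hxP hx1).2
  rw [cj_one] at hopp
  have key := Cfsg.Agent.Helper26.card_mul_card_le_of_fiber' (A := fixV V (cjs x A)) (N := fixV V P)
    (W := ⁅V, A⁆ ⊔ fixV V P) (M := fixV V P) (S.V0_le_fix (S.cjA_le hxP)) le_sup_right (fun u => ⁅a, u⁆)
    (by
      intro u hu
      apply Subgroup.mem_sup_left
      have h1 : ⁅u, a⁆ ∈ ⁅V, A⁆ := Subgroup.commutator_mem_commutator (fix_le V _ hu) haA'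
      have h2 : ⁅a, u⁆ = ⁅u, a⁆⁻¹ := (commutatorElement_inv u a).symm
      rw [h2]
      exact Subgroup.inv_mem _ h1)
    (by
      intro u hu u' hu' h
      rw [FIN_aux_comm_hom S haP (fix_le V _ hu) (fix_le V _ hu')] at h
      have hmem : u⁻¹ * u' ∈ fixV V (cjs x A) := Subgroup.mul_mem _ (Subgroup.inv_mem _ hu) hu'
      have h1 := STRONG S P.one_mem hxP hx1 haA haM (fix_le_V1 hxP hmem) h
      rw [cj_one] at h1
      rw [← hopp]
      exact ⟨h1, hmem⟩)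
  rw [S.cardfix A hxP, mul_comm] at key
  exact Nat.le_of_mul_le_mul_left key Nat.card_pos

end Cfsg.Agent.S2999P
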