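import Mathlib
import Cfsg.Agent.Helper12.S2999Basic
import Cfsg.Agent.Helper14.PCore
import Cfsg.Agent.S2905

/-! Board `s2999pieces`, piece SETUP: the hypotheses of S2999 give a `Setup`. -/

set_option autoImplicit false

namespace Cfsg.Agent.S2999P

open Cfsg.Agent.S2789P Cfsg.Agent.Helper14
open scoped commutatorElement

variable {G : Type*} [Group G] [Finite G] {p : ℕ} [Fact p.Prime]

/-- every `p`-element of `M` lies in an `M`-conjugate of the Sylow `p`-subgroup `T ≤ M` -/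
theorem SETUP_aux_syl {H : Type*} [Group H] [Finite H] (T : Sylow p H) (M : Subgroup H) (hTM : (T : Subgroup H) ≤ M)
    {c : H} (hcM : c ∈ M) {k : ℕ} (hck : c ^ p ^ k = 1) : ∃ m ∈ M, ∃ t ∈ (T : Subgroup H), m * t * m⁻¹ = c := by
  have hp : IsPGroup p ↥(Subgroup.zpowers (⟨c, hcM⟩ : ↥M)) := by
    intro x
    obtain ⟨x, hx⟩ := x
    obtain ⟨j, rfl⟩ := Subgroup.mem_zpowers_iff.mp hx
    refine ⟨k, ?_⟩
    apply Subtype.ext
    apply Subtype.ext
    simp only [Subgroup.coe_pow, Subgroup.coe_zpow, Subgroup.coe_one]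
    rw [← zpow_natCast, ← zpow_mul, mul_comm, zpow_mul, zpow_natCast, hck, one_zpow]
  obtain ⟨Q, hQ⟩ := hp.exists_le_sylow
  obtain ⟨m, hm⟩ := MulAction.exists_smul_eq ↥M (T.subtype hTM) Q
  have hc : (⟨c, hcM⟩ : ↥M) ∈ (Q : Subgroup ↥M) := hQ (Subgroup.mem_zpowers _)
  rw [← hm, Sylow.coe_subgroup_smul, Subgroup.mem_pointwise_smul_iff_inv_smul_mem] at hc
  rw [Sylow.coe_subtype, Subgroup.mem_subgroupOf] at hc
  refine ⟨(m : H), m.2, _, hc, ?_⟩
  simp [MulAut.smul_def, mul_assoc]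

/-- SETUP (M/L): the hypotheses of S2999 give a `Setup`. -/
theorem SETUP (V P : Subgroup G) (hV : Cfsg.IsElementaryAbelian p V) (hPV : P ≤ Subgroup.normalizer (V : Set G))
    (hfaith : P ⊓ Subgroup.centralizer (V : Set G) = ⊥) (hmin : Cfsg.IsPMinimal p ↥P) (T : Sylow p ↥P) (M : Subgroup ↥P)
    (hM : IsCoatom M) (hTM : (T : Subgroup ↥P) ≤ M) (A : Subgroup G) (hAT : A ≤ ((T : Subgroup ↥P).map P.subtype))
    (hAel : Cfsg.IsElementaryAbelian p A)
    (hi : Nat.card ↥V ≤ Nat.card ↥A * Nat.card ↥(V ⊓ Subgroup.centralizer ((A : Subgroup G) : Set G)) ∧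
      ∀ A₀ : Subgroup G, A₀ ≤ A → A₀ ≠ ⊥ → A₀ ≠ A →
        Nat.card ↥A₀ * Nat.card ↥(V ⊓ Subgroup.centralizer ((A₀ : Subgroup G) : Set G)) <
          Nat.card ↥A * Nat.card ↥(V ⊓ Subgroup.centralizer ((A : Subgroup G) : Set G)))
    (hii : ⁅(V ⊓ Subgroup.centralizer ((((T : Subgroup ↥P).map P.subtype) : Subgroup G) : Set G)), P⁆ ≠ ⊥)
    (hiii : ∀ x : ↥P, x ∉ M → A ⊔ A.map (MulAut.conj (x : G)).toMonoidHom = P) :
    Setup p V P (M.map P.subtype) ((T : Subgroup ↥P).map P.subtype) ((Cfsg.pCore p ↥P).map P.subtype) A := by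
  have hmemM : ∀ (x : G) (hx : x ∈ P), x ∈ M.map P.subtype ↔ (⟨x, hx⟩ : ↥P) ∈ M := by
    intro x hx
    constructor
    · rintro ⟨y, hy, hyx⟩
      have : y = ⟨x, hx⟩ := Subtype.ext hyx
      rwa [← this]
    · intro h
      exact ⟨⟨x, hx⟩, h, rfl⟩
  have hmemT : ∀ (x : G) (hx : x ∈ P), x ∈ (T : Subgroup ↥P).map P.subtype ↔ (⟨x, hx⟩ : ↥P) ∈ (T : Subgroup ↥P) := by
    intro x hx
    constructor
    · rintro ⟨y, hy, hyx⟩
      have : y = ⟨x, hx⟩ := Subtype.ext hyx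
      rwa [← this]
    · intro h
      exact ⟨⟨x, hx⟩, h, rfl⟩
  refine
    { hV := hV, hPV := hPV, hf := hfaith, hMP := Subgroup.map_subtype_le M, hMne := ?_, hTM := Subgroup.map_mono hTM,
      hAT := hAT, hA := hAel, hsyl := ?_, hRP := Subgroup.map_subtype_le _, hRn := le_normalizer_pCoreOf p P,
      hRT := Subgroup.map_mono (pCore_le_sylow p T), hRcore := ?_, hRmax := ?_, hi1 := hi.1, hi2 := hi.2, hii := ?_,
      hiii := ?_ }
  · obtain ⟨x, -, hx⟩ := SetLike.exists_of_lt (lt_top_iff_ne_top.mpr hM.1)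
    exact ⟨x, x.2, fun h => hx ((hmemM x x.2).mp h)⟩
  · rintro c hc ⟨k, hk⟩
    have hcP : c ∈ P := Subgroup.map_subtype_le M hc
    have hcM : (⟨c, hcP⟩ : ↥P) ∈ M := (hmemM c hcP).mp hc
    have hck : (⟨c, hcP⟩ : ↥P) ^ p ^ k = 1 := Subtype.ext (by simpa using hk)
    obtain ⟨m, hm, t, ht, hmt⟩ := SETUP_aux_syl T M hTM hcM hck
    refine ⟨(m : G), (hmemM m m.2).mpr hm, ?_⟩
    rw [cj_mem]
    have : (m : G)⁻¹ * c * (m : G) = (t : G) := by
      have := congrArg Subtype.val hmt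
      simp only [Subgroup.coe_mul, Subgroup.coe_inv] at this
      rw [← this]; group
    rw [this]
    exact (hmemT t t.2).mpr ht
  · intro c hc
    obtain ⟨hcT, hcC⟩ := hc
    have hcP : c ∈ P := Subgroup.map_subtype_le _ hcT
    have hcT' : (⟨c, hcP⟩ : ↥P) ∈ (T : Subgroup ↥P) := (hmemT c hcP).mp hcT
    have hcore : (⟨c, hcP⟩ : ↥P) ∈ M.normalCore := by
      intro b
      have h1 := (Subgroup.mem_iInf.mp hcC) b⁻¹
      rw [cj_mem] at h1
      have h2 : ((b⁻¹ : ↥P) : G)⁻¹ * c * ((b⁻¹ : ↥P) : G) ∈ P := by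
        exact P.mul_mem (P.mul_mem (P.inv_mem (b⁻¹).2) hcP) (b⁻¹).2
      have h3 := (hmemM _ h2).mp h1
      have : (⟨((b⁻¹ : ↥P) : G)⁻¹ * c * ((b⁻¹ : ↥P) : G), h2⟩ : ↥P) = b * ⟨c, hcP⟩ * b⁻¹ := by
        apply Subtype.ext
        simp
      rwa [this] at h3
    have h5 := (Cfsg.Agent.S2905.result hmin T M hM hTM).1 M.normalCore
      (Subgroup.Normal.isSubnormal (Subgroup.normalCore_normal M)) (Subgroup.normalCore_le M) ⟨hcore, hcT'⟩
    exact ⟨⟨c, hcP⟩, h5, rfl⟩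
  · intro K hKP hKn hKp
    exact le_pCoreOf p hKP hKn hKp
  · intro h
    apply hii
    rw [Subgroup.commutator_eq_bot_iff_le_centralizer]
    exact h.trans inf_le_right
  · intro x hxP hxM
    exact hiii ⟨x, hxP⟩ (fun h => hxM ((hmemM x hxP).mpr h))

end Cfsg.Agent.S2999P
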