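import Mathlib
import Cfsg.Agent.Helper12.S2999Basic
import Cfsg.Agent.Helper14.PMinimal

/-! S3000/S3001 (BHS FF-module theorem for `p`-minimal groups), piece F1, part a: pure group theory.
* `F1_aux_lstar`: a minimal member `E` of the family `⟨A, xAx⁻¹⟩` (`x ∈ L ∖ L₀`);
* `F1_aux_pmin`: a group generated by two conjugates of a `p`-subgroup `A` all of whose proper subgroups over `A` lie in `M` is
  `p`-minimal, `M` is the coatom over the Sylow subgroups containing `A`;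
* `F1_aux_sylow_conj`: a `p`-subgroup of `M ≥ T` lies in an `M`-conjugate of the Sylow subgroup `T`. -/

set_option autoImplicit false

namespace Cfsg.Agent.S3000P

open Cfsg.Agent.S2789P Cfsg.Agent.S2999P

section Lstar

variable {G : Type*} [Group G] [Finite G]

theorem F1_aux_lstar {A L L₀ R : Subgroup G} (hAL : A ≤ L) (hRL0 : R ≤ L₀) (hne : ∃ y ∈ L, y ∉ L₀)
    (hgen : ∀ x ∈ L, x ∉ L₀ → (A ⊔ cjs x A) ⊔ R = L) :
    ∃ E : Subgroup G, A ≤ E ∧ E ≤ L ∧ ¬ E ≤ L₀ ∧ (∀ x ∈ E, x ∉ L₀ → A ⊔ cjs x A = E) ∧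
      (∀ X : Subgroup G, A ≤ X → X < E → X ≤ L₀) := by
  classical
  let 𝓕 : Set (Subgroup G) := {K | ∃ y ∈ L, y ∉ L₀ ∧ K = A ⊔ cjs y A}
  have h𝓕 : 𝓕.Nonempty := by
    obtain ⟨y, hy, hy0⟩ := hne
    exact ⟨_, y, hy, hy0, rfl⟩
  let E := Function.argminOn (fun K : Subgroup G => Nat.card ↥K) 𝓕 h𝓕
  have hE : E ∈ 𝓕 := Function.argminOn_mem _ 𝓕 h𝓕
  have hmin : ∀ K ∈ 𝓕, Nat.card ↥E ≤ Nat.card ↥K := fun K hK => Function.argminOn_le (fun K : Subgroup G => Nat.card ↥K) 𝓕 hK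
  obtain ⟨y, hyL, hy0, hEy⟩ := hE
  have hAE : A ≤ E := by rw [hEy]; exact le_sup_left
  have hEL : E ≤ L := by
    rw [hEy]
    exact sup_le hAL (cj_le_of_mem hyL hAL)
  have hEL0 : ¬ E ≤ L₀ := by
    intro h
    have h1 := hgen y hyL hy0
    rw [← hEy] at h1
    have : L ≤ L₀ := by rw [← h1]; exact sup_le h hRL0
    exact hy0 (this hyL)
  have hiii : ∀ x ∈ E, x ∉ L₀ → A ⊔ cjs x A = E := by
    intro x hx hx0
    have hK : A ⊔ cjs x A ∈ 𝓕 := ⟨x, hEL hx, hx0, rfl⟩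
    have hle : A ⊔ cjs x A ≤ E := sup_le hAE (cj_le_of_mem hx hAE)
    exact Subgroup.eq_of_le_of_card_ge hle (hmin _ hK)
  refine ⟨E, hAE, hEL, hEL0, hiii, ?_⟩
  intro X hAX hXE
  by_contra hX0
  obtain ⟨x, hxX, hx0⟩ := SetLike.not_le_iff_exists.mp hX0
  have h1 := hiii x (hXE.le hxX) hx0
  have h2 : E ≤ X := by
    rw [← h1]
    exact sup_le hAX (cj_le_of_mem hxX hAX)
  exact absurd hXE (not_lt_of_ge h2)

end Lstar

section Pmin

variable {H : Type*} [Group H] [Finite H] {p : ℕ} [Fact p.Prime]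

theorem F1_aux_pmin (A M : Subgroup H) (hAp : IsPGroup p ↥A) (hM : M ≠ ⊤) (hAM : A ≤ M)
    (hprop : ∀ X : Subgroup H, A ≤ X → X ≠ ⊤ → X ≤ M) (hgen : ∃ x : H, A ⊔ cjs x A = ⊤) :
    Cfsg.IsPMinimal p H ∧ IsCoatom M ∧ ∀ T : Sylow p H, A ≤ (T : Subgroup H) → (T : Subgroup H) ≤ M := by
  obtain ⟨x, hx⟩ := hgen
  have hco : IsCoatom M := by
    refine ⟨hM, fun X hX => ?_⟩
    by_contra hXt
    exact absurd (hprop X (hAM.trans hX.le) hXt) (not_le_of_gt hX)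
  have hnp : ¬ IsPGroup p H := by
    intro hp
    haveI : Group.IsNilpotent H := hp.isNilpotent
    have hn : M.Normal := Subgroup.NormalizerCondition.normal_of_coatom M Group.normalizerCondition_of_isNilpotent hco
    have h1 : cjs x M = M := cj_norm (by rw [Subgroup.normalizer_eq_top]; trivial)
    have h2 : cjs x A ≤ M := by rw [← h1]; exact cj_mono hAM
    apply hM
    rw [eq_top_iff, ← hx]
    exact sup_le hAM h2
  have hT : ∀ T : Sylow p H, A ≤ (T : Subgroup H) → (T : Subgroup H) ≤ M := by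
    intro T hAT
    apply hprop _ hAT
    intro h
    apply hnp
    have := T.isPGroup'
    rw [h] at this
    exact this.of_equiv Subgroup.topEquiv
  refine ⟨?_, hco, hT⟩
  obtain ⟨S, hAS⟩ := hAp.exists_le_sylow
  apply Cfsg.Agent.Helper14.isPMinimal_of_sylow S
  · intro hn
    have h1 : cjs x (S : Subgroup H) = S := cj_norm (by rw [Subgroup.normalizer_eq_top]; trivial)
    have h2 : cjs x A ≤ S := by rw [← h1]; exact cj_mono hAS
    have h3 : (S : Subgroup H) = ⊤ := by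
      rw [eq_top_iff, ← hx]
      exact sup_le hAS h2
    apply hnp
    have := S.isPGroup'
    rw [h3] at this
    exact this.of_equiv Subgroup.topEquiv
  · refine ⟨M, ⟨hco, hT S hAS⟩, ?_⟩
    rintro M' ⟨hM', hSM'⟩
    have h1 : M' ≤ M := hprop M' (hAS.trans hSM') hM'.1
    rcases eq_or_lt_of_le h1 with h | h
    · exact h
    · exact absurd (hM'.2 M h) hM

/-- a `p`-subgroup of `M ≥ T` lies in an `M`-conjugate of the Sylow `p`-subgroup `T` -/
theorem F1_aux_sylow_conj (T : Sylow p H) (M : Subgroup H) (hTM : (T : Subgroup H) ≤ M) (Q : Subgroup H) (hQM : Q ≤ M)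
    (hQ : IsPGroup p ↥Q) : ∃ m ∈ M, Q ≤ cjs m (T : Subgroup H) := by
  have hQ' : IsPGroup p ↥(Q.subgroupOf M) := hQ.comap_subtype
  obtain ⟨S', hS'⟩ := hQ'.exists_le_sylow
  obtain ⟨m, hm⟩ := MulAction.exists_smul_eq ↥M (T.subtype hTM) S'
  refine ⟨(m : H), m.2, ?_⟩
  intro q hq
  have h1 : (⟨q, hQM hq⟩ : ↥M) ∈ (S' : Subgroup ↥M) := hS' (by rw [Subgroup.mem_subgroupOf]; exact hq)
  rw [← hm, Sylow.coe_subgroup_smul, Subgroup.mem_pointwise_smul_iff_inv_smul_mem] at h1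
  rw [Sylow.coe_subtype, Subgroup.mem_subgroupOf] at h1
  rw [cj_mem]
  have h2 : ((((MulAut.conj m)⁻¹ : MulAut ↥M) • (⟨q, hQM hq⟩ : ↥M) : ↥M) : H) = (m : H)⁻¹ * q * (m : H) := by
    simp [MulAut.smul_def, mul_assoc]
  rw [← h2]
  exact h1

end Pmin

end Cfsg.Agent.S3000P
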