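import Mathlib
import Cfsg.Agent.Helper12.S3000F1a
import Cfsg.Agent.S2834
import Cfsg.Agent.S2905

/-! S3000/S3001, piece F1, part b: the L-Lemma (S2834) in the ambient group. -/

set_option autoImplicit false

namespace Cfsg.Agent.S3000P

open Cfsg.Agent.S2789P Cfsg.Agent.S2999P Cfsg.Agent.Helper14

section TypeLevel

variable {H : Type*} [Group H] [Finite H] {p : ℕ} [Fact p.Prime]

/-- `IsPMinimal` gives `IsMinimalOver` for every Sylow `p`-subgroup -/
theorem F1_aux_isMinimalOver (hP : Cfsg.IsPMinimal p H) (T : Sylow p H) : Cfsg.IsMinimalOver (T : Subgroup H) := by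
  obtain ⟨hn, M, ⟨hM, hTM⟩, huniq⟩ := hP T
  refine ⟨?_, M, ⟨hM, hTM⟩, huniq⟩
  by_contra hne
  set N := Subgroup.normalClosure ((T : Subgroup H) : Set H) with hN
  have hTN : (T : Subgroup H) ≤ N := Subgroup.le_normalClosure
  have h1 : N ≤ M := Cfsg.Agent.S2905.le_of_ne_top hP T M hM hTM hTN hne
  have hnorm : Subgroup.normalizer ((T : Subgroup H) : Set H) ≠ ⊤ := by
    intro h
    exact hn (Subgroup.normalizer_eq_top_iff.1 h)
  have h2 : Subgroup.normalizer ((T : Subgroup H) : Set H) ≤ M :=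
    Cfsg.Agent.S2905.le_of_ne_top hP T M hM hTM Subgroup.le_normalizer hnorm
  haveI : N.Normal := Subgroup.normalClosure_normal
  have h3 := Sylow.normalizer_sup_eq_top (T.subtype hTN)
  have h4 : ((T.subtype hTN : Sylow p ↥N) : Subgroup ↥N).map N.subtype = (T : Subgroup H) := by
    rw [Sylow.coe_subtype, Subgroup.subgroupOf_map_subtype]
    exact inf_eq_left.mpr hTN
  rw [h4] at h3
  apply hM.1
  rw [eq_top_iff, ← h3]
  exact sup_le h2 h1

end TypeLevel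

variable {G : Type*} [Group G]

theorem F1_aux_map_cj (P : Subgroup G) (K : Subgroup ↥P) (x : ↥P) :
    (K.map (MulAut.conj x).toMonoidHom).map P.subtype = cjs (x : G) (K.map P.subtype) := by
  unfold cjs
  rw [Subgroup.map_map, Subgroup.map_map]
  congr 1

theorem F1_aux_mem_map {P : Subgroup G} {K : Subgroup ↥P} {x : G} (hx : x ∈ P) :
    x ∈ K.map P.subtype ↔ (⟨x, hx⟩ : ↥P) ∈ K := by
  constructor
  · rintro ⟨y, hy, hyx⟩
    have : y = ⟨x, hx⟩ := Subtype.ext hyx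
    rwa [← this]
  · intro h
    exact ⟨⟨x, hx⟩, h, rfl⟩

variable [Finite G] {p : ℕ} [Fact p.Prime]

/-- the L-Lemma in the ambient group (`O_p(P) = 1`) -/
theorem F1_aux_llemma (P : Subgroup G) (hmin : Cfsg.IsPMinimal p ↥P) (T : Sylow p ↥P) (M : Subgroup ↥P)
    (hM : IsCoatom M) (hTM : (T : Subgroup ↥P) ≤ M) (hOp : Cfsg.pCore p ↥P = ⊥) (A : Subgroup G)
    (hAT : A ≤ (T : Subgroup ↥P).map P.subtype) (hA1 : A ≠ ⊥) :
    ∃ (L L₀ R : Subgroup G) (g : G), g ∈ P ∧ L ≤ P ∧ A ≤ L₀ ∧ R ≤ L₀ ∧ L₀ ≤ L ∧ (∃ y ∈ L, y ∉ L₀) ∧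
      L₀ = L ⊓ cjs g (M.map P.subtype) ∧ ∀ x ∈ L, x ∉ L₀ → (A ⊔ cjs x A) ⊔ R = L := by
  have hAP : A ≤ P := hAT.trans (Subgroup.map_subtype_le _)
  have hA'map : (A.subgroupOf P).map P.subtype = A := by
    rw [Subgroup.subgroupOf_map_subtype]; exact inf_eq_left.mpr hAP
  have hAT' : A.subgroupOf P ≤ (T : Subgroup ↥P) := by
    intro a ha
    rw [Subgroup.mem_subgroupOf] at ha
    exact (F1_aux_mem_map a.2).mp (hAT ha)
  have hA' : ¬ A.subgroupOf P ≤ Cfsg.pCore p ↥P := by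
    rw [hOp]
    intro h
    apply hA1
    rw [eq_bot_iff, ← hA'map]
    intro x hx
    obtain ⟨y, hy, rfl⟩ := hx
    have := h hy
    rw [Subgroup.mem_bot] at this
    rw [this]; exact Subgroup.one_mem _
  obtain ⟨L', hL', L₀', hL₀', hlt, -, ⟨g', hg'⟩, hgen⟩ :=
    Cfsg.Agent.S2834.result T (F1_aux_isMinimalOver hmin T) M ⟨hM, hTM⟩ (A.subgroupOf P) hAT' hA'
  refine ⟨L'.map P.subtype, L₀'.map P.subtype, (Cfsg.pCoreOf p L').map P.subtype, (g' : G), g'.2,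
    Subgroup.map_subtype_le _, ?_, ?_, Subgroup.map_mono hlt.le, ?_, ?_, ?_⟩
  · rw [← hA'map]; exact Subgroup.map_mono (le_sup_left.trans hL₀')
  · exact Subgroup.map_mono (le_sup_right.trans hL₀')
  · obtain ⟨y, hy, hy0⟩ := SetLike.exists_of_lt hlt
    exact ⟨(y : G), ⟨y, hy, rfl⟩, fun h => hy0 ((F1_aux_mem_map y.2).mp h)⟩
  · rw [hg', Subgroup.map_inf _ _ _ (Subgroup.subtype_injective P), F1_aux_map_cj]
  · rintro x ⟨x', hx', rfl⟩ hx0
    have hx0' : x' ∉ L₀' := fun h => hx0 ⟨x', h, rfl⟩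
    have := hgen x' hx' hx0'
    have h2 := congrArg (Subgroup.map P.subtype) this
    rw [Subgroup.map_sup, Subgroup.map_sup, F1_aux_map_cj, hA'map] at h2
    exact h2

end Cfsg.Agent.S3000P
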