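import Mathlib
import Cfsg.Agent.Helper12.S3000F1b
import Cfsg.Agent.S2999
import Cfsg.Agent.Helper12.S2999SETUP

/-! S3000/S3001 (BHS FF-module theorem for `p`-minimal groups), piece F1: every strict offender `A ≤ T` of a `p`-minimal group
`P` with `O_p(P) = 1` and `C_P(C_V(T)) ≤ M` lies in a subgroup `E ≅ SL₂(q)`, `q = |A|`, generated by two conjugates of `A`, with
`V / C_V(E)` the natural module (L-Lemma S2834 + a minimal `⟨A, xAx⁻¹⟩` + S2999). -/

set_option autoImplicit false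

namespace Cfsg.Agent.S3000P

open Cfsg.Agent.S2789P Cfsg.Agent.S2999P Cfsg.Agent.Helper14
open scoped commutatorElement

variable {G : Type*} [Group G]

/-- a strict offender on `V`: nontrivial elementary abelian with hypothesis (i) of S2999 -/
structure StrictOff (p : ℕ) (V A : Subgroup G) : Prop where
  hA : Cfsg.IsElementaryAbelian p A
  ne : A ≠ ⊥
  hi1 : Nat.card ↥V ≤ Nat.card ↥A * Nat.card ↥(fixV V A)
  hi2 : ∀ A₀ : Subgroup G, A₀ ≤ A → A₀ ≠ ⊥ → A₀ ≠ A →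
    Nat.card ↥A₀ * Nat.card ↥(fixV V A₀) < Nat.card ↥A * Nat.card ↥(fixV V A)

theorem F1_aux_map_cjs (P : Subgroup G) (K : Subgroup ↥P) (x : ↥P) :
    (cjs x K).map P.subtype = cjs (x : G) (K.map P.subtype) := F1_aux_map_cj P K x

variable [Finite G] {p : ℕ} [Fact p.Prime]

/-- F1, core: the subgroup `E`, the element `g` (`E ∩ gMg⁻¹` is the maximal subgroup of `E` over `A`), a Sylow subgroup `TE ≥ A` of `E`,
and all the hypotheses of S2999 for `(V, E, TE, E ∩ gMg⁻¹, A)`. -/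
theorem F1_core (V P : Subgroup G) (hPV : P ≤ Subgroup.normalizer (V : Set G))
    (hmin : Cfsg.IsPMinimal p ↥P) (T : Sylow p ↥P) (M : Subgroup ↥P)
    (hM : IsCoatom M) (hTM : (T : Subgroup ↥P) ≤ M) (hOp : Cfsg.pCore p ↥P = ⊥)
    (hCT : P ⊓ Subgroup.centralizer ((fixV V ((T : Subgroup ↥P).map P.subtype) : Subgroup G) : Set G) ≤ M.map P.subtype)
    (A : Subgroup G) (hAT : A ≤ (T : Subgroup ↥P).map P.subtype) (hAel : Cfsg.IsElementaryAbelian p A) (hA1 : A ≠ ⊥) :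
    ∃ (E : Subgroup G) (g : G) (TE : Sylow p ↥E), g ∈ P ∧ A ≤ E ∧ E ≤ P ∧ ¬ E ≤ cjs g (M.map P.subtype) ∧
      (∀ X : Subgroup G, A ≤ X → X < E → X ≤ cjs g (M.map P.subtype)) ∧
      (∀ y ∈ E, y ∉ cjs g (M.map P.subtype) → A ⊔ cjs y A = E) ∧
      Cfsg.IsPMinimal p ↥E ∧ IsCoatom ((cjs g (M.map P.subtype)).subgroupOf E) ∧
      (TE : Subgroup ↥E) ≤ (cjs g (M.map P.subtype)).subgroupOf E ∧ A ≤ (TE : Subgroup ↥E).map E.subtype ∧
      ⁅fixV V ((TE : Subgroup ↥E).map E.subtype), E⁆ ≠ ⊥ := by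
  obtain ⟨L, L₀, R, g, hgP, hLP, hAL₀, hRL₀, hL₀L, hne, hL₀eq, hgen⟩ :=
    F1_aux_llemma P hmin T M hM hTM hOp A hAT hA1
  obtain ⟨E, hAE, hEL, hEL₀, hiii, hprop⟩ := F1_aux_lstar (hAL₀.trans hL₀L) hRL₀ hne hgen
  set Mg := M.map P.subtype with hMg
  have hmemL₀ : ∀ x ∈ E, x ∈ L₀ ↔ x ∈ cjs g Mg := by
    intro x hx
    rw [hL₀eq, Subgroup.mem_inf]
    exact ⟨fun h => h.2, fun h => ⟨hEL hx, h⟩⟩
  have hEP : E ≤ P := hEL.trans hLP
  have hEM : ¬ E ≤ cjs g Mg := fun h => hEL₀ (fun x hx => (hmemL₀ x hx).mpr (h hx))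
  have hprop' : ∀ X : Subgroup G, A ≤ X → X < E → X ≤ cjs g Mg :=
    fun X hAX hXE x hx => (hmemL₀ x (hXE.le hx)).mp (hprop X hAX hXE hx)
  have hiii' : ∀ x ∈ E, x ∉ cjs g Mg → A ⊔ cjs x A = E :=
    fun x hx hxM => hiii x hx (fun h => hxM ((hmemL₀ x hx).mp h))
  have hAMg : A ≤ cjs g Mg := by
    have : A ≤ L ⊓ cjs g Mg := by rw [← hL₀eq]; exact hAL₀
    exact this.trans inf_le_right
  -- inside `↥E`
  have hAEmap : (A.subgroupOf E).map E.subtype = A := by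
    rw [Subgroup.subgroupOf_map_subtype]; exact inf_eq_left.mpr hAE
  have hAp : IsPGroup p ↥(A.subgroupOf E) := by
    intro a
    refine ⟨1, ?_⟩
    obtain ⟨a, ha⟩ := a
    rw [Subgroup.mem_subgroupOf] at ha
    apply Subtype.ext
    apply Subtype.ext
    simp only [pow_one, Subgroup.coe_pow, Subgroup.coe_one]
    exact hAel.2 _ ha
  have hME : (cjs g Mg).subgroupOf E ≠ ⊤ := by
    intro h
    exact hEM (Subgroup.subgroupOf_eq_top.mp h)
  have hAME : A.subgroupOf E ≤ (cjs g Mg).subgroupOf E := by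
    intro a ha
    rw [Subgroup.mem_subgroupOf] at ha ⊢
    exact hAMg ha
  have hpropE : ∀ X : Subgroup ↥E, A.subgroupOf E ≤ X → X ≠ ⊤ → X ≤ (cjs g Mg).subgroupOf E := by
    intro X hAX hX
    have h1 : A ≤ X.map E.subtype := by
      rw [← hAEmap]; exact Subgroup.map_mono hAX
    have h2 : X.map E.subtype < E := by
      refine lt_of_le_of_ne (Subgroup.map_subtype_le X) ?_
      intro h
      apply hX
      rw [eq_top_iff]
      intro e _
      have he : (e : G) ∈ X.map E.subtype := by rw [h]; exact e.2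
      exact (F1_aux_mem_map e.2).mp he
    have h3 := hprop' _ h1 h2
    intro x hx
    rw [Subgroup.mem_subgroupOf]
    exact h3 ⟨x, hx, rfl⟩
  have hgenE : ∃ x : ↥E, A.subgroupOf E ⊔ cjs x (A.subgroupOf E) = ⊤ := by
    obtain ⟨x₀, hx₀E, hx₀M⟩ := SetLike.not_le_iff_exists.mp hEM
    refine ⟨⟨x₀, hx₀E⟩, ?_⟩
    apply Subgroup.map_injective (Subgroup.subtype_injective E)
    rw [Subgroup.map_sup]
    have h1 : (cjs (⟨x₀, hx₀E⟩ : ↥E) (A.subgroupOf E)).map E.subtype = cjs x₀ A := by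
      have := F1_aux_map_cj E (A.subgroupOf E) ⟨x₀, hx₀E⟩
      rw [hAEmap] at this
      exact this
    rw [h1, hAEmap, hiii' x₀ hx₀E hx₀M, ← MonoidHom.range_eq_map, Subgroup.range_subtype]
  obtain ⟨hPminE, hcoE, hTE⟩ := F1_aux_pmin (A.subgroupOf E) ((cjs g Mg).subgroupOf E) hAp hME hAME hpropE hgenE
  obtain ⟨TE, hATE⟩ := hAp.exists_le_sylow
  have hATE' : A ≤ (TE : Subgroup ↥E).map E.subtype := by
    rw [← hAEmap]; exact Subgroup.map_mono hATE
  refine ⟨E, g, TE, hgP, hAE, hEP, hEM, hprop', hiii', hPminE, hcoE, hTE TE hATE, hATE', ?_⟩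
  -- hypothesis (ii)
  set Tg := (TE : Subgroup ↥E).map E.subtype with hTg
  set T'g := (T : Subgroup ↥P).map P.subtype with hT'g
  have hTgM : Tg ≤ cjs g Mg := by
    rintro _ ⟨t, ht, rfl⟩
    have := hTE TE hATE ht
    rwa [Subgroup.mem_subgroupOf] at this
  have hTgP : Tg ≤ P := (Subgroup.map_subtype_le _).trans hEP
  have hTgp : IsPGroup p ↥Tg := TE.isPGroup'.map _
  -- Sylow in `↥P`
  let g' : ↥P := ⟨g, hgP⟩
  have hT'' : ((g' • T : Sylow p ↥P) : Subgroup ↥P) = cjs g' (T : Subgroup ↥P) := by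
    rw [Sylow.coe_subgroup_smul]
    rfl
  have hM''map : (cjs g' M).map P.subtype = cjs g Mg := F1_aux_map_cjs P M g'
  have hT''M : ((g' • T : Sylow p ↥P) : Subgroup ↥P) ≤ cjs g' M := by
    rw [hT'']; exact cj_mono hTM
  have hQM : Tg.subgroupOf P ≤ cjs g' M := by
    intro q hq
    rw [Subgroup.mem_subgroupOf] at hq
    have h1 : (q : G) ∈ (cjs g' M).map P.subtype := by rw [hM''map]; exact hTgM hq
    exact (F1_aux_mem_map q.2).mp h1
  obtain ⟨m, hmM, hQ⟩ := F1_aux_sylow_conj (g' • T) (cjs g' M) hT''M (Tg.subgroupOf P) hQM hTgp.comap_subtype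
  have hmMg : (m : G) ∈ cjs g Mg := by rw [← hM''map]; exact ⟨m, hmM, rfl⟩
  have hTgh : Tg ≤ cjs ((m : G) * g) T'g := by
    intro t ht
    have h1 : (⟨t, hTgP ht⟩ : ↥P) ∈ cjs m ((g' • T : Sylow p ↥P) : Subgroup ↥P) :=
      hQ (by rw [Subgroup.mem_subgroupOf]; exact ht)
    rw [hT''] at h1
    have h2 : t ∈ (cjs m (cjs g' (T : Subgroup ↥P))).map P.subtype := ⟨_, h1, rfl⟩
    rw [F1_aux_map_cjs, F1_aux_map_cjs, cj_mul] at h2
    exact h2
  have hhM : cjs ((m : G) * g) Mg = cjs g Mg := by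
    rw [← cj_mul, cj_self hmMg]
  have hhP : (m : G) * g ∈ P := P.mul_mem m.2 hgP
  intro hbot
  apply hEM
  have h1 : E ≤ Subgroup.centralizer ((fixV V Tg : Subgroup G) : Set G) := by
    rw [Subgroup.commutator_eq_bot_iff_le_centralizer] at hbot
    exact Subgroup.le_centralizer_iff.mp hbot
  have h2 : fixV V (cjs ((m : G) * g) T'g) ≤ fixV V Tg := fix_anti hTgh
  have h3 : E ≤ Subgroup.centralizer ((fixV V (cjs ((m : G) * g) T'g) : Subgroup G) : Set G) :=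
    h1.trans (Subgroup.centralizer_le h2)
  rw [cj_fix T'g (hPV hhP), GEO_conj_aux_centralizer] at h3
  have h4 : E ≤ cjs ((m : G) * g) (P ⊓ Subgroup.centralizer ((fixV V T'g : Subgroup G) : Set G)) := by
    rw [cj_inf, cj_self hhP]
    exact le_inf hEP h3
  rw [← hhM]
  exact h4.trans (cj_mono hCT)

/-- F1: every strict offender `A ≤ T` lies in a subgroup `E ≅ SL₂(q)` (`q = |A|`) of `P`, generated by `A` and any conjugate `yAy⁻¹`
(`y ∈ E` outside `gMg⁻¹`), not contained in `gMg⁻¹`, with `V / C_V(E)` the natural module; `(V, E, E ∩ gMg⁻¹, A)` is a `Setup` of the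
board `s2999pieces`, so that all the results of that board (`NUM`, `FIN_spread`, `FIN_cva`, …) apply to `E`. -/
theorem F1 (V P : Subgroup G) (hV : Cfsg.IsElementaryAbelian p V) (hPV : P ≤ Subgroup.normalizer (V : Set G))
    (hfaith : P ⊓ Subgroup.centralizer (V : Set G) = ⊥)
    (hmin : Cfsg.IsPMinimal p ↥P) (T : Sylow p ↥P) (M : Subgroup ↥P)
    (hM : IsCoatom M) (hTM : (T : Subgroup ↥P) ≤ M) (hOp : Cfsg.pCore p ↥P = ⊥)
    (hCT : P ⊓ Subgroup.centralizer ((fixV V ((T : Subgroup ↥P).map P.subtype) : Subgroup G) : Set G) ≤ M.map P.subtype)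
    (A : Subgroup G) (hAT : A ≤ (T : Subgroup ↥P).map P.subtype) (hS : StrictOff p V A) :
    ∃ (E : Subgroup G) (g : G), g ∈ P ∧ A ≤ E ∧ E ≤ P ∧ ¬ E ≤ cjs g (M.map P.subtype) ∧
      (∀ X : Subgroup G, A ≤ X → X < E → X ≤ cjs g (M.map P.subtype)) ∧
      (∀ y ∈ E, y ∉ cjs g (M.map P.subtype) → A ⊔ cjs y A = E) ∧
      Cfsg.IsPMinimal p ↥E ∧
      (∃ TE RE : Subgroup G, Setup p V E (cjs g (M.map P.subtype) ⊓ E) TE RE A) ∧
      ∃ (F : Type) (_ : Field F) (_ : Fintype F), Fintype.card F = Nat.card ↥A ∧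
        Nonempty (↥E ≃* Matrix.SpecialLinearGroup (Fin 2) F) ∧ fixV V A = ⁅V, A⁆ ⊔ fixV V E ∧
        Cfsg.ActsAsSL2OnSection F ⊤ E V (fixV V E) := by
  obtain ⟨E, g, TE, hgP, hAE, hEP, hEM, hprop, hiii, hPminE, hcoE, hTEM, hATE, hii⟩ :=
    F1_core V P hPV hmin T M hM hTM hOp hCT A hAT hS.hA hS.ne
  have hfE : E ⊓ Subgroup.centralizer (V : Set G) = ⊥ := by
    rw [eq_bot_iff, ← hfaith]
    exact inf_le_inf_right _ hEP
  have hiiiE : ∀ x : ↥E, x ∉ (cjs g (M.map P.subtype)).subgroupOf E →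
      A ⊔ A.map (MulAut.conj (x : G)).toMonoidHom = E := by
    intro x hx
    exact hiii x x.2 (fun h => hx (by rw [Subgroup.mem_subgroupOf]; exact h))
  refine ⟨E, g, hgP, hAE, hEP, hEM, hprop, hiii, hPminE, ?_, ?_⟩
  · have hS' := SETUP V E hV (hEP.trans hPV) hfE hPminE TE _ hcoE hTEM A hATE hS.hA ⟨hS.hi1, hS.hi2⟩ hii hiiiE
    rw [Subgroup.subgroupOf_map_subtype] at hS'
    exact ⟨_, _, hS'⟩
  · exact Cfsg.Agent.S2999.result V E hV (hEP.trans hPV) hfE hPminE TE _ hcoE hTEM A hATE hS.hA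
      ⟨hS.hi1, hS.hi2⟩ hii hiiiE

end Cfsg.Agent.S3000P
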