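import Mathlib
import Cfsg.Agent.Helper12.S3000F1
import Cfsg.Agent.Helper12.S2999NUM

/-! S3000/S3001, pieces F2 (no over-offenders) and the standing hypotheses `Hyp`. -/

set_option autoImplicit false

namespace Cfsg.Agent.S3000P

open Cfsg.Agent.S2789P Cfsg.Agent.S2999P Cfsg.Agent.Helper14
open scoped commutatorElement

variable {G : Type*} [Group G]

/-- the standing hypotheses of S3000 -/
structure Hyp (p : ℕ) (V P : Subgroup G) (T : Sylow p ↥P) (M : Subgroup ↥P) : Prop where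
  hV : Cfsg.IsElementaryAbelian p V
  hPV : P ≤ Subgroup.normalizer (V : Set G)
  hf : P ⊓ Subgroup.centralizer (V : Set G) = ⊥
  hmin : Cfsg.IsPMinimal p ↥P
  hM : IsCoatom M
  hTM : (T : Subgroup ↥P) ≤ M
  hOp : Cfsg.pCore p ↥P = ⊥
  hCT : P ⊓ Subgroup.centralizer ((fixV V ((T : Subgroup ↥P).map P.subtype) : Subgroup G) : Set G) ≤ M.map P.subtype

/-- elementary abelian subgroups are `p`-groups -/
theorem F2_aux_isPGroup {p : ℕ} {B : Subgroup G} (hB : Cfsg.IsElementaryAbelian p B) : IsPGroup p ↥B := by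
  intro b
  refine ⟨1, ?_⟩
  apply Subtype.ext
  simp only [pow_one, Subgroup.coe_pow, Subgroup.coe_one]
  exact hB.2 _ b.2

theorem F2_aux_elab_cj {p : ℕ} {B : Subgroup G} (hB : Cfsg.IsElementaryAbelian p B) (h : G) :
    Cfsg.IsElementaryAbelian p (cjs h B) := by
  constructor
  · refine ⟨⟨?_⟩⟩
    rintro ⟨x, hx⟩ ⟨y, hy⟩
    rw [cj_mem] at hx hy
    have := hB.1.is_comm.comm ⟨_, hx⟩ ⟨_, hy⟩
    have h2 := congrArg Subtype.val this
    simp only [Subgroup.coe_mul] at h2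
    apply Subtype.ext
    simp only [Subgroup.coe_mul]
    have e1 : x * y = h * ((h⁻¹ * x * h) * (h⁻¹ * y * h)) * h⁻¹ := by group
    have e2 : y * x = h * ((h⁻¹ * y * h) * (h⁻¹ * x * h)) * h⁻¹ := by group
    rw [e1, e2, h2]
  · intro x hx
    rw [cj_mem] at hx
    have := hB.2 _ hx
    have e : x ^ p = h * (h⁻¹ * x * h) ^ p * h⁻¹ := by
      have e1 : h⁻¹ * x * h = h⁻¹ * x * h⁻¹⁻¹ := by rw [inv_inv]
      rw [e1, conj_pow]; group
    rw [e, this]; group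

theorem F2_aux_elab_of_le {p : ℕ} {B C : Subgroup G} (hB : Cfsg.IsElementaryAbelian p B) (hC : C ≤ B) :
    Cfsg.IsElementaryAbelian p C := by
  constructor
  · refine ⟨⟨?_⟩⟩
    rintro ⟨x, hx⟩ ⟨y, hy⟩
    have := hB.1.is_comm.comm ⟨x, hC hx⟩ ⟨y, hC hy⟩
    have h2 := congrArg Subtype.val this
    exact Subtype.ext h2
  · intro x hx
    exact hB.2 x (hC hx)

/-- `StrictOff` is invariant under conjugation by the normalizer of `V` -/
theorem StrictOff.conj {p : ℕ} {V A : Subgroup G} (hS : StrictOff p V A) {h : G}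
    (hh : h ∈ Subgroup.normalizer (V : Set G)) : StrictOff p V (cjs h A) := by
  have hcard : ∀ B : Subgroup G, Nat.card ↥(cjs h B) * Nat.card ↥(fixV V (cjs h B)) =
      Nat.card ↥B * Nat.card ↥(fixV V B) := by
    intro B
    rw [cj_fix B hh, cj_card, cj_card]
  refine ⟨F2_aux_elab_cj hS.hA h, ?_, ?_, ?_⟩
  · intro hb
    apply hS.ne
    have := congrArg (cjs h⁻¹) hb
    rwa [cj_inv_cj, cj_bot] at this
  · rw [hcard]; exact hS.hi1
  · intro A₀ hA₀ hne hneA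
    have h1 : cjs h (cjs h⁻¹ A₀) = A₀ := cj_cj_inv h A₀
    have h2 : cjs h⁻¹ A₀ ≤ A := by
      have := cj_mono (g := h⁻¹) hA₀
      rwa [cj_inv_cj] at this
    have h3 : cjs h⁻¹ A₀ ≠ ⊥ := by
      intro hb
      apply hne
      rw [← h1, hb, cj_bot]
    have h4 : cjs h⁻¹ A₀ ≠ A := by
      intro hb
      apply hneA
      rw [← h1, hb]
    have := hS.hi2 _ h2 h3 h4
    rw [← h1, hcard, hcard]
    exact this

variable [Finite G] {p : ℕ} [Fact p.Prime]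

/-- a `p`-subgroup of `P` is conjugate in `P` into the Sylow subgroup `T` -/
theorem F2_aux_conj_into (P : Subgroup G) (T : Sylow p ↥P) {B : Subgroup G} (hBP : B ≤ P) (hB : IsPGroup p ↥B) :
    ∃ h ∈ P, cjs h B ≤ (T : Subgroup ↥P).map P.subtype := by
  obtain ⟨m, -, hQ⟩ := F1_aux_sylow_conj T ⊤ le_top (B.subgroupOf P) le_top hB.comap_subtype
  refine ⟨(m : G)⁻¹, P.inv_mem m.2, ?_⟩
  intro x hx
  rw [cj_mem, inv_inv] at hx
  have hxP : x ∈ P := by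
    have h1 : (m : G)⁻¹ * ((m : G) * x * (m : G)⁻¹) * (m : G) ∈ P :=
      P.mul_mem (P.mul_mem (P.inv_mem m.2) (hBP hx)) m.2
    have e : (m : G)⁻¹ * ((m : G) * x * (m : G)⁻¹) * (m : G) = x := by group
    rwa [e] at h1
  have h2 : (m * ⟨x, hxP⟩ * m⁻¹ : ↥P) ∈ B.subgroupOf P := by
    rw [Subgroup.mem_subgroupOf]
    simpa using hx
  have h3 := hQ h2
  rw [cj_mem] at h3
  have e : m⁻¹ * (m * ⟨x, hxP⟩ * m⁻¹) * m = (⟨x, hxP⟩ : ↥P) := by group
  rw [e] at h3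
  exact ⟨⟨x, hxP⟩, h3, rfl⟩

/-- a strict offender `A ≤ P` has `|A|·|C_V(A)| = |V|` (F1 + NUM) -/
theorem F2_aux_strict_value {V P : Subgroup G} {T : Sylow p ↥P} {M : Subgroup ↥P} (H : Hyp p V P T M)
    {A : Subgroup G} (hAP : A ≤ P) (hS : StrictOff p V A) :
    Nat.card ↥A * Nat.card ↥(fixV V A) = Nat.card ↥V := by
  obtain ⟨h, hhP, hh⟩ := F2_aux_conj_into P T hAP (F2_aux_isPGroup hS.hA)
  have hS' := hS.conj (H.hPV hhP)
  obtain ⟨E, g, -, -, -, -, -, -, -, ⟨TE, RE, S⟩, -⟩ :=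
    F1 V P H.hV H.hPV H.hf H.hmin T M H.hM H.hTM H.hOp H.hCT (cjs h A) hh hS'
  obtain ⟨-, h2, -, h4⟩ := NUM S
  rw [cj_fix A (H.hPV hhP), cj_card, cj_card] at h2
  rw [cj_card] at h4
  rw [h2, h4]; ring

/-- F2: no over-offenders. -/
theorem F2 {V P : Subgroup G} {T : Sylow p ↥P} {M : Subgroup ↥P} (H : Hyp p V P T M)
    (B : Subgroup G) (hBP : B ≤ P) (hB : Cfsg.IsElementaryAbelian p B) :
    Nat.card ↥B * Nat.card ↥(fixV V B) ≤ Nat.card ↥V := by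
  classical
  by_contra hcon
  rw [not_le] at hcon
  -- the family of over-offenders
  let 𝓕 : Set (Subgroup G) := {B | B ≤ P ∧ Cfsg.IsElementaryAbelian p B}
  have h𝓕fin : 𝓕.Finite := Set.toFinite _
  have h𝓕ne : 𝓕.Nonempty := ⟨B, hBP, hB⟩
  obtain ⟨B₁, hB₁, hmax⟩ := Set.exists_max_image 𝓕 (fun B : Subgroup G => Nat.card ↥B * Nat.card ↥(fixV V B)) h𝓕fin h𝓕ne
  let 𝓖 : Set (Subgroup G) := {C | C ∈ 𝓕 ∧ Nat.card ↥C * Nat.card ↥(fixV V C) = Nat.card ↥B₁ * Nat.card ↥(fixV V B₁)}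
  have h𝓖ne : 𝓖.Nonempty := ⟨B₁, hB₁, rfl⟩
  let A := Function.argminOn (fun K : Subgroup G => Nat.card ↥K) 𝓖 h𝓖ne
  have hA𝓖 : A ∈ 𝓖 := Function.argminOn_mem _ 𝓖 h𝓖ne
  have hAmin : ∀ K ∈ 𝓖, Nat.card ↥A ≤ Nat.card ↥K :=
    fun K hK => Function.argminOn_le (fun K : Subgroup G => Nat.card ↥K) 𝓖 hK
  obtain ⟨⟨hAP, hAel⟩, hAval⟩ := hA𝓖
  have hbig : Nat.card ↥V < Nat.card ↥A * Nat.card ↥(fixV V A) := by
    rw [hAval]
    exact lt_of_lt_of_le hcon (hmax B ⟨hBP, hB⟩)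
  have hS : StrictOff p V A := by
    refine ⟨hAel, ?_, hbig.le, ?_⟩
    · intro hb
      rw [hb] at hbig
      have h1 : fixV V (⊥ : Subgroup G) ≤ V := fix_le V ⊥
      have h2 := Subgroup.card_le_of_le h1
      rw [Subgroup.card_bot, one_mul] at hbig
      omega
    · intro A₀ hA₀ hne hneA
      have hA₀𝓕 : A₀ ∈ 𝓕 := ⟨hA₀.trans hAP, F2_aux_elab_of_le hAel hA₀⟩
      have h1 := hmax A₀ hA₀𝓕
      rw [← hAval] at h1
      rcases lt_or_eq_of_le h1 with h | h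
      · exact h
      · exfalso
        have h2 : A₀ ∈ 𝓖 := ⟨hA₀𝓕, by rw [h, hAval]⟩
        have h3 := hAmin A₀ h2
        exact hneA (Subgroup.eq_of_le_of_card_ge hA₀ h3)
  have := F2_aux_strict_value H hAP hS
  omega

end Cfsg.Agent.S3000P
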