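import Mathlib
import Cfsg.Agent.Helper12.S3000F2
import Cfsg.Agent.Helper12.S2999FIN
import Cfsg.Agent.Helper21.S2999ACEQ
import Cfsg.Agent.Helper20.S2999OPP
import Cfsg.Agent.Helper23.S2999STRONG
import Cfsg.Agent.Helper6.S2999QUAD

/-! S3000/S3001, piece F3: for a strict offender `A ≤ P`: `|A|·|C_V(A)| = |V|`, `[V,A] ≤ C_V(A)`, `C_V(a) = C_V(A)` for `a ∈ A#`,
`A` is the full stability group of `1 ≤ C_V(A) ≤ V` in `P`; strict offenders with the same fixed points coincide, different strict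
offenders meet trivially. -/

set_option autoImplicit false

namespace Cfsg.Agent.S3000P

open Cfsg.Agent.S2789P Cfsg.Agent.S2999P Cfsg.Agent.Helper14
open scoped commutatorElement

variable {G : Type*} [Group G] [Finite G] {p : ℕ} [Fact p.Prime]

/-- in a `Setup`: a nontrivial element of `A` has the same fixed points as `A` -/
theorem F3_aux_setup_fix {V P Mg Tg R A : Subgroup G} (S : Setup p V P Mg Tg R A) {a v : G} (ha : a ∈ A) (ha1 : a ≠ 1)
    (hv : v ∈ V) (hav : a * v = v * a) : v ∈ fixV V A := by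
  obtain ⟨x, hxP, hxM⟩ := S.hMne
  have hx1 : (1 : G)⁻¹ * x ∉ Mg := by rwa [inv_one, one_mul]
  have hmove : a ∉ cjs x Mg := by
    intro h
    have h1 : a ∈ A ⊓ cjs x Mg := ⟨ha, h⟩
    rw [ACEQ S hxP hxM, ACBOT S] at h1
    exact ha1 (Subgroup.mem_bot.mp h1)
  have hV1 : v ∈ V1 V P A := by rw [(NUM S).2.2.1]; exact hv
  have hcomm : ⁅a, v⁆ ∈ fixV V P := by
    have : ⁅a, v⁆ = 1 := by rw [commutatorElement_def, hav]; group
    rw [this]; exact Subgroup.one_mem _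
  have := STRONG S P.one_mem hxP hx1 (by rw [cj_one]; exact ha) hmove hV1 hcomm
  rwa [cj_one] at this

/-- a strict offender `A ≤ P` is conjugate to the `A` of a `Setup` inside `P` -/
theorem F3_aux_setup {V P : Subgroup G} {T : Sylow p ↥P} {M : Subgroup ↥P} (H : Hyp p V P T M)
    {A : Subgroup G} (hAP : A ≤ P) (hS : StrictOff p V A) :
    ∃ h ∈ P, ∃ E Mg' TE RE : Subgroup G, E ≤ P ∧ Setup p V E Mg' TE RE (cjs h A) := by
  obtain ⟨h, hhP, hh⟩ := F2_aux_conj_into P T hAP (F2_aux_isPGroup hS.hA)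
  have hS' := hS.conj (H.hPV hhP)
  obtain ⟨E, g, -, -, hEP, -, -, -, -, ⟨TE, RE, S⟩, -⟩ :=
    F1 V P H.hV H.hPV H.hf H.hmin T M H.hM H.hTM H.hOp H.hCT (cjs h A) hh hS'
  exact ⟨h, hhP, E, _, TE, RE, hEP, S⟩

variable {V P : Subgroup G} {T : Sylow p ↥P} {M : Subgroup ↥P}

/-- F3 (a): `|A|·|C_V(A)| = |V|` -/
theorem F3_card (H : Hyp p V P T M) {A : Subgroup G} (hAP : A ≤ P) (hS : StrictOff p V A) :
    Nat.card ↥A * Nat.card ↥(fixV V A) = Nat.card ↥V := F2_aux_strict_value H hAP hS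

/-- F3 (b): a strict offender is quadratic -/
theorem F3_quad (H : Hyp p V P T M) {A : Subgroup G} (hAP : A ≤ P) (hS : StrictOff p V A) :
    ⁅V, A⁆ ≤ fixV V A := by
  obtain ⟨h, hhP, E, Mg', TE, RE, -, S⟩ := F3_aux_setup H hAP hS
  have h1 := QUAD S
  rw [cj_fix A (H.hPV hhP)] at h1
  have h2 : ⁅V, cjs h A⁆ = cjs h ⁅V, A⁆ := by
    rw [cj_comm, cj_norm (H.hPV hhP)]
  rw [h2] at h1
  exact cj_le_iff.mp h1

/-- F3 (c): `C_V(a) = C_V(A)` for `1 ≠ a ∈ A` -/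
theorem F3_fix_elt (H : Hyp p V P T M) {A : Subgroup G} (hAP : A ≤ P) (hS : StrictOff p V A) {a v : G}
    (ha : a ∈ A) (ha1 : a ≠ 1) (hv : v ∈ V) (hav : a * v = v * a) : v ∈ fixV V A := by
  obtain ⟨h, hhP, E, Mg', TE, RE, -, S⟩ := F3_aux_setup H hAP hS
  have ha' : h * a * h⁻¹ ∈ cjs h A := cj_mem_conj.mpr ha
  have ha1' : h * a * h⁻¹ ≠ 1 := by
    intro hc
    apply ha1
    have : a = h⁻¹ * (h * a * h⁻¹) * h := by group
    rw [this, hc]; group
  have hv' : h * v * h⁻¹ ∈ V := Cfsg.Agent.Helper26.conj_mem_of_mem_normalizer (H.hPV hhP) hv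
  have hav' : (h * a * h⁻¹) * (h * v * h⁻¹) = (h * v * h⁻¹) * (h * a * h⁻¹) := by
    have e1 : (h * a * h⁻¹) * (h * v * h⁻¹) = h * (a * v) * h⁻¹ := by group
    have e2 : (h * v * h⁻¹) * (h * a * h⁻¹) = h * (v * a) * h⁻¹ := by group
    rw [e1, e2, hav]
  have := F3_aux_setup_fix S ha' ha1' hv' hav'
  rw [cj_fix A (H.hPV hhP)] at this
  exact cj_mem_conj.mp this

/-! ### the stability group of `1 ≤ U ≤ V` in `P` -/

section Stab

variable {G : Type*} [Group G]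

/-- the stability group of `1 ≤ U ≤ V` in `P`: the `s ∈ P` with `[V,s] ≤ U` and `[U,s] = 1` -/
def stabOf (V P U : Subgroup G) : Subgroup G where
  carrier := {s | s ∈ P ∧ (∀ v ∈ V, ⁅s, v⁆ ∈ U) ∧ ∀ u ∈ U, s * u = u * s}
  one_mem' := by
    refine ⟨P.one_mem, ?_, ?_⟩
    · intro v _
      have : ⁅(1 : G), v⁆ = 1 := by rw [commutatorElement_def]; group
      rw [this]; exact U.one_mem
    · intro u _; simp
  mul_mem' := by
    rintro s t ⟨hsP, hsV, hsU⟩ ⟨htP, htV, htU⟩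
    refine ⟨P.mul_mem hsP htP, ?_, ?_⟩
    · intro v hv
      have e : ⁅s * t, v⁆ = s * ⁅t, v⁆ * s⁻¹ * ⁅s, v⁆ := by
        rw [commutatorElement_def, commutatorElement_def, commutatorElement_def]; group
      rw [e, hsU _ (htV v hv)]
      have e2 : ⁅t, v⁆ * s * s⁻¹ * ⁅s, v⁆ = ⁅t, v⁆ * ⁅s, v⁆ := by group
      rw [e2]
      exact U.mul_mem (htV v hv) (hsV v hv)
    · intro u hu
      rw [mul_assoc, htU u hu, ← mul_assoc, hsU u hu, mul_assoc]
  inv_mem' := by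
    rintro s ⟨hsP, hsV, hsU⟩
    have hsU' : ∀ u ∈ U, s⁻¹ * u = u * s⁻¹ := by
      intro u hu
      have := hsU u hu
      calc s⁻¹ * u = s⁻¹ * (u * s) * s⁻¹ := by group
        _ = s⁻¹ * (s * u) * s⁻¹ := by rw [this]
        _ = u * s⁻¹ := by group
    refine ⟨P.inv_mem hsP, ?_, hsU'⟩
    intro v hv
    have e : ⁅s⁻¹, v⁆ = s⁻¹ * ⁅s, v⁆⁻¹ * s := by
      rw [commutatorElement_def, commutatorElement_def]; group
    rw [e, hsU' _ (U.inv_mem (hsV v hv))]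
    have e2 : ⁅s, v⁆⁻¹ * s⁻¹ * s = ⁅s, v⁆⁻¹ := by group
    rw [e2]
    exact U.inv_mem (hsV v hv)

theorem mem_stabOf {V P U : Subgroup G} {s : G} :
    s ∈ stabOf V P U ↔ s ∈ P ∧ (∀ v ∈ V, ⁅s, v⁆ ∈ U) ∧ ∀ u ∈ U, s * u = u * s := Iff.rfl

theorem stabOf_le (V P U : Subgroup G) : stabOf V P U ≤ P := fun _ hs => hs.1

theorem le_fix_stabOf {V P U : Subgroup G} (hUV : U ≤ V) : U ≤ fixV V (stabOf V P U) := by
  intro u hu
  rw [mem_fix]
  exact ⟨hUV hu, fun s hs => hs.2.2 u hu⟩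

/-- the conjugation action of a stabilising element: `s v s⁻¹ = ⁅s,v⁆ v` and its powers -/
theorem stabOf_aux_pow {V P U : Subgroup G} {s : G} (hs : s ∈ stabOf V P U) {v : G} (hv : v ∈ V) (k : ℕ) :
    s ^ k * v * (s ^ k)⁻¹ = ⁅s, v⁆ ^ k * v := by
  induction k with
  | zero => simp
  | succ k ih =>
    have hc : s * ⁅s, v⁆ ^ k = ⁅s, v⁆ ^ k * s := hs.2.2 _ (U.pow_mem (hs.2.1 v hv) k)
    have e1 : s ^ (k + 1) * v * (s ^ (k + 1))⁻¹ = s * (s ^ k * v * (s ^ k)⁻¹) * s⁻¹ := by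
      rw [pow_succ']; group
    rw [e1, ih]
    have e2 : s * (⁅s, v⁆ ^ k * v) * s⁻¹ = (s * ⁅s, v⁆ ^ k) * v * s⁻¹ := by group
    rw [e2, hc]
    have e3 : ⁅s, v⁆ ^ k * s * v * s⁻¹ = ⁅s, v⁆ ^ k * ⁅s, v⁆ * v := by
      rw [commutatorElement_def]; group
    rw [e3, ← pow_succ]

/-- the stability group is elementary abelian when `P` is faithful on the elementary abelian `V` -/
theorem stabOf_isElementaryAbelian {p : ℕ} {V P U : Subgroup G} (hV : Cfsg.IsElementaryAbelian p V)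
    (hf : P ⊓ Subgroup.centralizer (V : Set G) = ⊥) (hUV : U ≤ V) :
    Cfsg.IsElementaryAbelian p (stabOf V P U) := by
  have hVc : ∀ v ∈ V, ∀ w ∈ V, v * w = w * v := by
    intro v hv w hw
    exact congrArg Subtype.val (hV.1.is_comm.comm ⟨v, hv⟩ ⟨w, hw⟩)
  have hbot : ∀ c ∈ P, (∀ v ∈ V, c * v = v * c) → c = 1 := by
    intro c hc hcv
    have : c ∈ P ⊓ Subgroup.centralizer (V : Set G) := by
      refine ⟨hc, ?_⟩
      show c ∈ Subgroup.centralizer (V : Set G)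
      rw [Subgroup.mem_centralizer_iff]
      intro v hv
      exact (hcv v hv).symm
    rw [hf] at this
    exact Subgroup.mem_bot.mp this
  constructor
  · refine ⟨⟨?_⟩⟩
    rintro ⟨s, hs⟩ ⟨t, ht⟩
    apply Subtype.ext
    show s * t = t * s
    have key : ∀ v ∈ V, (s * t) * v * (s * t)⁻¹ = (t * s) * v * (t * s)⁻¹ := by
      intro v hv
      have h1 := stabOf_aux_pow hs hv 1
      have h2 := stabOf_aux_pow ht hv 1
      simp only [pow_one] at h1 h2
      have e1 : (s * t) * v * (s * t)⁻¹ = s * (t * v * t⁻¹) * s⁻¹ := by group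
      have e2 : (t * s) * v * (t * s)⁻¹ = t * (s * v * s⁻¹) * t⁻¹ := by group
      rw [e1, e2, h1, h2]
      have c1 : s * ⁅t, v⁆ = ⁅t, v⁆ * s := hs.2.2 _ (ht.2.1 v hv)
      have c2 : t * ⁅s, v⁆ = ⁅s, v⁆ * t := ht.2.2 _ (hs.2.1 v hv)
      have e3 : s * (⁅t, v⁆ * v) * s⁻¹ = (s * ⁅t, v⁆) * v * s⁻¹ := by group
      have e4 : t * (⁅s, v⁆ * v) * t⁻¹ = (t * ⁅s, v⁆) * v * t⁻¹ := by group
      rw [e3, e4, c1, c2]
      have e5 : ⁅t, v⁆ * s * v * s⁻¹ = ⁅t, v⁆ * (s * v * s⁻¹) := by group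
      have e6 : ⁅s, v⁆ * t * v * t⁻¹ = ⁅s, v⁆ * (t * v * t⁻¹) := by group
      rw [e5, e6, h1, h2, ← mul_assoc, ← mul_assoc, hVc _ (hUV (ht.2.1 v hv)) _ (hUV (hs.2.1 v hv))]
    have hc : (t * s)⁻¹ * (s * t) = 1 := by
      apply hbot _ (P.mul_mem (P.inv_mem (P.mul_mem ht.1 hs.1)) (P.mul_mem hs.1 ht.1))
      intro v hv
      have := key v hv
      calc (t * s)⁻¹ * (s * t) * v = (t * s)⁻¹ * ((s * t) * v * (s * t)⁻¹) * (s * t) := by group
        _ = (t * s)⁻¹ * ((t * s) * v * (t * s)⁻¹) * (s * t) := by rw [this]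
        _ = v * ((t * s)⁻¹ * (s * t)) := by group
    calc s * t = (t * s) * ((t * s)⁻¹ * (s * t)) := by group
      _ = t * s := by rw [hc, mul_one]
  · intro s hs
    apply hbot _ (P.pow_mem hs.1 p)
    intro v hv
    have h1 := stabOf_aux_pow hs hv p
    have h2 : ⁅s, v⁆ ^ p = 1 := hV.2 _ (hUV (hs.2.1 v hv))
    rw [h2, one_mul] at h1
    calc s ^ p * v = (s ^ p * v * (s ^ p)⁻¹) * s ^ p := by group
      _ = v * s ^ p := by rw [h1]

end Stab

variable {V P : Subgroup G} {T : Sylow p ↥P} {M : Subgroup ↥P}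

/-- F3 (d): a strict offender is the full stability group of `1 ≤ C_V(A) ≤ V` in `P` -/
theorem F3_stab (H : Hyp p V P T M) {A : Subgroup G} (hAP : A ≤ P) (hS : StrictOff p V A) :
    stabOf V P (fixV V A) = A := by
  have hq := F3_quad H hAP hS
  have hle : A ≤ stabOf V P (fixV V A) := by
    intro a ha
    refine ⟨hAP ha, ?_, ?_⟩
    · intro v hv
      have h1 : ⁅v, a⁆ ∈ ⁅V, A⁆ := Subgroup.commutator_mem_commutator hv ha
      have h2 : ⁅a, v⁆ = ⁅v, a⁆⁻¹ := (commutatorElement_inv v a).symm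
      rw [h2]
      exact Subgroup.inv_mem _ (hq h1)
    · intro u hu
      exact (mem_fix.mp hu).2 a ha
  symm
  apply Subgroup.eq_of_le_of_card_ge hle
  have hel := stabOf_isElementaryAbelian (P := P) H.hV H.hf (fix_le V A)
  have h1 := F2 H _ (stabOf_le V P (fixV V A)) hel
  have h2 : fixV V (stabOf V P (fixV V A)) = fixV V A :=
    le_antisymm (fix_anti hle) (le_fix_stabOf (fix_le V A))
  rw [h2, ← F3_card H hAP hS] at h1
  exact Nat.le_of_mul_le_mul_right h1 Nat.card_pos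

/-- F3 (e): strict offenders with the same fixed points coincide -/
theorem F3_eq_of_fix (H : Hyp p V P T M) {A D : Subgroup G} (hAP : A ≤ P) (hS : StrictOff p V A) (hDP : D ≤ P)
    (hD : StrictOff p V D) (h : fixV V A = fixV V D) : A = D := by
  rw [← F3_stab H hAP hS, ← F3_stab H hDP hD, h]

/-- F3 (f): different strict offenders meet trivially -/
theorem F3_TI (H : Hyp p V P T M) {A D : Subgroup G} (hAP : A ≤ P) (hS : StrictOff p V A) (hDP : D ≤ P)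
    (hD : StrictOff p V D) (hne : A ≠ D) : A ⊓ D = ⊥ := by
  rw [eq_bot_iff]
  intro a ha
  rw [Subgroup.mem_bot]
  by_contra ha1
  apply hne
  apply F3_eq_of_fix H hAP hS hDP hD
  apply le_antisymm
  · intro v hv
    exact F3_fix_elt H hDP hD ha.2 ha1 (fix_le V A hv) ((mem_fix.mp hv).2 a ha.1)
  · intro v hv
    exact F3_fix_elt H hAP hS ha.1 ha1 (fix_le V D hv) ((mem_fix.mp hv).2 a ha.2)

/-- F3 (g): `N_P(C_V(A)) ≤ N_P(A)` -/
theorem F3_norm (H : Hyp p V P T M) {A : Subgroup G} (hAP : A ≤ P) (hS : StrictOff p V A) {n : G} (hn : n ∈ P)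
    (hnU : cjs n (fixV V A) = fixV V A) : cjs n A = A := by
  apply F3_eq_of_fix H (cj_le_of_mem hn hAP) (hS.conj (H.hPV hn)) hAP hS
  rw [cj_fix A (H.hPV hn), hnU]

end Cfsg.Agent.S3000P
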