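import Mathlib
import Cfsg.Agent.Helper12.S3000F3
import Cfsg.Agent.Helper26.Replacement

/-! S3000/S3001, pieces F6/F7: offenders (`Off`: elementary abelian `B ≤ P` with `|B|·|C_V(B)| = |V|`) are closed under commuting
products and intersections; consequences for strict offenders. -/

set_option autoImplicit false

namespace Cfsg.Agent.S3000P

open Cfsg.Agent.S2789P Cfsg.Agent.S2999P Cfsg.Agent.Helper14
open scoped commutatorElement

variable {G : Type*} [Group G]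

/-- an (exact) offender of `P` on `V` -/
structure Off (p : ℕ) (V P B : Subgroup G) : Prop where
  le : B ≤ P
  hel : Cfsg.IsElementaryAbelian p B
  val : Nat.card ↥B * Nat.card ↥(fixV V B) = Nat.card ↥V

theorem Off.bot {p : ℕ} (V P : Subgroup G) : Off p V P ⊥ := by
  refine ⟨bot_le, ?_, ?_⟩
  · constructor
    · refine ⟨⟨?_⟩⟩
      rintro ⟨x, hx⟩ ⟨y, hy⟩
      rw [Subgroup.mem_bot] at hx hy
      subst hx; subst hy; rfl
    · intro a ha
      rw [Subgroup.mem_bot] at ha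
      rw [ha, one_pow]
  · have h : fixV V (⊥ : Subgroup G) = V := by
      apply le_antisymm (fix_le V ⊥)
      intro v hv
      rw [mem_fix]
      refine ⟨hv, fun e he => ?_⟩
      rw [Subgroup.mem_bot] at he
      rw [he, one_mul, mul_one]
    rw [Subgroup.card_bot, one_mul, h]

/-- the join of two commuting elementary abelian subgroups is elementary abelian -/
theorem F6_aux_elab_sup {p : ℕ} {B₁ B₂ : Subgroup G} (h₁ : Cfsg.IsElementaryAbelian p B₁)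
    (h₂ : Cfsg.IsElementaryAbelian p B₂) (hc : ∀ x ∈ B₁, ∀ y ∈ B₂, x * y = y * x) :
    Cfsg.IsElementaryAbelian p (B₁ ⊔ B₂) := by
  have hmem : ∀ x ∈ B₁ ⊔ B₂, ∃ y ∈ B₁, ∃ z ∈ B₂, x = y * z := by
    intro x hx
    have hc' : ∀ (a : B₁) (b : B₂), Commute (B₁.subtype a) (B₂.subtype b) := fun a b => hc a a.2 b b.2
    have h1 := MonoidHom.noncommCoprod_range B₁.subtype B₂.subtype hc'
    rw [Subgroup.range_subtype, Subgroup.range_subtype] at h1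
    rw [← h1] at hx
    obtain ⟨⟨a, b⟩, rfl⟩ := hx
    exact ⟨a, a.2, b, b.2, by simp [MonoidHom.noncommCoprod_apply]⟩
  have c₁ : ∀ x ∈ B₁, ∀ y ∈ B₁, x * y = y * x := fun x hx y hy =>
    congrArg Subtype.val (h₁.1.is_comm.comm ⟨x, hx⟩ ⟨y, hy⟩)
  have c₂ : ∀ x ∈ B₂, ∀ y ∈ B₂, x * y = y * x := fun x hx y hy =>
    congrArg Subtype.val (h₂.1.is_comm.comm ⟨x, hx⟩ ⟨y, hy⟩)
  constructor
  · refine ⟨⟨?_⟩⟩
    rintro ⟨x, hx⟩ ⟨y, hy⟩
    apply Subtype.ext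
    show x * y = y * x
    obtain ⟨x₁, hx₁, x₂, hx₂, rfl⟩ := hmem x hx
    obtain ⟨y₁, hy₁, y₂, hy₂, rfl⟩ := hmem y hy
    calc x₁ * x₂ * (y₁ * y₂) = x₁ * (x₂ * y₁) * y₂ := by group
      _ = x₁ * (y₁ * x₂) * y₂ := by rw [(hc y₁ hy₁ x₂ hx₂).symm]
      _ = (x₁ * y₁) * (x₂ * y₂) := by group
      _ = (y₁ * x₁) * (y₂ * x₂) := by rw [c₁ x₁ hx₁ y₁ hy₁, c₂ x₂ hx₂ y₂ hy₂]
      _ = y₁ * (x₁ * y₂) * x₂ := by group
      _ = y₁ * (y₂ * x₁) * x₂ := by rw [hc x₁ hx₁ y₂ hy₂]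
      _ = y₁ * y₂ * (x₁ * x₂) := by group
  · intro x hx
    obtain ⟨x₁, hx₁, x₂, hx₂, rfl⟩ := hmem x hx
    have : Commute x₁ x₂ := hc x₁ hx₁ x₂ hx₂
    rw [this.mul_pow, h₁.2 x₁ hx₁, h₂.2 x₂ hx₂, one_mul]

variable [Finite G] {p : ℕ} [Fact p.Prime] {V P : Subgroup G} {T : Sylow p ↥P} {M : Subgroup ↥P}

theorem StrictOff.off (H : Hyp p V P T M) {A : Subgroup G} (hAP : A ≤ P) (hS : StrictOff p V A) : Off p V P A :=
  ⟨hAP, hS.hA, F3_card H hAP hS⟩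

/-- F6: commuting offenders: the join and the intersection are offenders, and `C_V(B₁ ∩ B₂) = C_V(B₁) C_V(B₂)` -/
theorem F6 (H : Hyp p V P T M) {B₁ B₂ : Subgroup G} (h₁ : Off p V P B₁) (h₂ : Off p V P B₂)
    (hc : ∀ x ∈ B₁, ∀ y ∈ B₂, x * y = y * x) :
    Off p V P (B₁ ⊔ B₂) ∧ Off p V P (B₁ ⊓ B₂) ∧ fixV V (B₁ ⊓ B₂) = fixV V B₁ ⊔ fixV V B₂ := by
  have hVab := Cfsg.Agent.Helper26.le_centralizer_of_isElementaryAbelian H.hV
  have hsupel := F6_aux_elab_sup h₁.hel h₂.hel hc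
  have hinfel : Cfsg.IsElementaryAbelian p (B₁ ⊓ B₂) := F2_aux_elab_of_le h₁.hel inf_le_left
  have hsupP : B₁ ⊔ B₂ ≤ P := sup_le h₁.le h₂.le
  have hinfP : B₁ ⊓ B₂ ≤ P := inf_le_left.trans h₁.le
  have k1 := F2 H _ hsupP hsupel
  have k2 := F2 H _ hinfP hinfel
  obtain ⟨k3, k4⟩ := Cfsg.Agent.Helper26.fval_mul_fval_le hVab B₁ B₂
  have v1 := h₁.val
  have v2 := h₂.val
  unfold Cfsg.Agent.Helper26.fval at k3 k4
  change Nat.card ↥B₁ * Nat.card ↥(fixV V B₁) * (Nat.card ↥B₂ * Nat.card ↥(fixV V B₂)) ≤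
    Nat.card ↥(B₁ ⊓ B₂ : Subgroup G) * Nat.card ↥(fixV V (B₁ ⊓ B₂)) *
      (Nat.card ↥(B₁ ⊔ B₂ : Subgroup G) * Nat.card ↥(fixV V (B₁ ⊔ B₂))) at k3
  rw [v1, v2] at k3
  have hpos : 0 < Nat.card ↥V := Nat.card_pos
  have e1 : Nat.card ↥(B₁ ⊓ B₂ : Subgroup G) * Nat.card ↥(fixV V (B₁ ⊓ B₂)) = Nat.card ↥V := by
    apply le_antisymm k2
    by_contra hlt
    rw [not_le] at hlt
    have : Nat.card ↥(B₁ ⊓ B₂ : Subgroup G) * Nat.card ↥(fixV V (B₁ ⊓ B₂)) *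
        (Nat.card ↥(B₁ ⊔ B₂ : Subgroup G) * Nat.card ↥(fixV V (B₁ ⊔ B₂))) < Nat.card ↥V * Nat.card ↥V :=
      calc _ ≤ Nat.card ↥(B₁ ⊓ B₂ : Subgroup G) * Nat.card ↥(fixV V (B₁ ⊓ B₂)) * Nat.card ↥V :=
            Nat.mul_le_mul_left _ k1
        _ < Nat.card ↥V * Nat.card ↥V := Nat.mul_lt_mul_of_pos_right hlt hpos
    omega
  have e2 : Nat.card ↥(B₁ ⊔ B₂ : Subgroup G) * Nat.card ↥(fixV V (B₁ ⊔ B₂)) = Nat.card ↥V := by
    apply le_antisymm k1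
    rw [e1] at k3
    exact Nat.le_of_mul_le_mul_left k3 hpos
  refine ⟨⟨hsupP, hsupel, e2⟩, ⟨hinfP, hinfel, e1⟩, ?_⟩
  apply k4
  change Nat.card ↥B₁ * Nat.card ↥(fixV V B₁) * (Nat.card ↥B₂ * Nat.card ↥(fixV V B₂)) =
    Nat.card ↥(B₁ ⊓ B₂ : Subgroup G) * Nat.card ↥(fixV V (B₁ ⊓ B₂)) *
      (Nat.card ↥(B₁ ⊔ B₂ : Subgroup G) * Nat.card ↥(fixV V (B₁ ⊔ B₂)))
  rw [v1, v2, e1, e2]

/-- an offender contained in a strict offender is trivial or everything -/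
theorem F6_aux_sub_strict (H : Hyp p V P T M) {A B : Subgroup G} (hAP : A ≤ P) (hS : StrictOff p V A)
    (hB : Off p V P B) (hBA : B ≤ A) : B = ⊥ ∨ B = A := by
  by_contra hcon
  push_neg at hcon
  have h1 := hS.hi2 B hBA hcon.1 hcon.2
  have h2 := F3_card H hAP hS
  rw [hB.val] at h1
  omega

/-- F6, corollary: commuting strict offenders `A ≠ D`: `V = C_V(A) C_V(D)`, `[V,A] ≤ C_V(D)`, `[V,D] ≤ C_V(A)`. -/
theorem F6_cor (H : Hyp p V P T M) {A D : Subgroup G} (hAP : A ≤ P) (hA : StrictOff p V A) (hDP : D ≤ P)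
    (hD : StrictOff p V D) (hne : A ≠ D) (hc : ∀ x ∈ A, ∀ y ∈ D, x * y = y * x) :
    fixV V A ⊔ fixV V D = V ∧ ⁅V, A⁆ ≤ fixV V D ∧ ⁅V, D⁆ ≤ fixV V A := by
  have h1 := (F6 H (hA.off H hAP) (hD.off H hDP) hc).2.2
  rw [F3_TI H hAP hA hDP hD hne] at h1
  have hbot : fixV V (⊥ : Subgroup G) = V := by
    apply le_antisymm (fix_le V ⊥)
    intro v hv
    rw [mem_fix]
    refine ⟨hv, fun e he => ?_⟩
    rw [Subgroup.mem_bot] at he
    rw [he, one_mul, mul_one]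
  rw [hbot] at h1
  have hVc : ∀ v ∈ V, ∀ w ∈ V, v * w = w * v := fun v hv w hw =>
    congrArg Subtype.val (H.hV.1.is_comm.comm ⟨v, hv⟩ ⟨w, hw⟩)
  -- `[V, X] ≤ C_V(Y)` for commuting strict offenders `X, Y` with `V = C_V(X) C_V(Y)`
  have key : ∀ X Y : Subgroup G, X ≤ P → (∀ x ∈ X, ∀ y ∈ Y, x * y = y * x) → fixV V X ⊔ fixV V Y = V →
      ⁅V, X⁆ ≤ fixV V Y := by
    intro X Y hXP hXY hsum
    rw [Subgroup.commutator_le]
    intro v hv x hx
    rw [← hsum] at hv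
    have hmem : ∃ y ∈ fixV V X, ∃ z ∈ fixV V Y, y * z = v := by
      have hc' : ∀ (a : fixV V X) (b : fixV V Y), Commute ((fixV V X).subtype a) ((fixV V Y).subtype b) :=
        fun a b => hVc a (fix_le V X a.2) b (fix_le V Y b.2)
      have h1 := MonoidHom.noncommCoprod_range (fixV V X).subtype (fixV V Y).subtype hc'
      rw [Subgroup.range_subtype, Subgroup.range_subtype] at h1
      rw [← h1] at hv
      obtain ⟨⟨a, b⟩, rfl⟩ := hv
      exact ⟨a, a.2, b, b.2, by simp [MonoidHom.noncommCoprod_apply]⟩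
    obtain ⟨y, hy, z, hz, rfl⟩ := hmem
    -- `⁅y z, x⁆ = ⁅z, x⁆` and `⁅z, x⁆ ∈ C_V(Y)`
    have hxy : x * y = y * x := (mem_fix.mp hy).2 x hx
    have hzV : z ∈ V := fix_le V Y hz
    have hxzx : x * z * x⁻¹ ∈ fixV V Y := by
      rw [mem_fix]
      refine ⟨Cfsg.Agent.Helper26.conj_mem_of_mem_normalizer (H.hPV (hXP hx)) hzV, ?_⟩
      intro e he
      have h2 : e * z = z * e := (mem_fix.mp hz).2 e he
      have h3 : x * e = e * x := hXY x hx e he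
      calc e * (x * z * x⁻¹) = (e * x) * z * x⁻¹ := by group
        _ = (x * e) * z * x⁻¹ := by rw [h3]
        _ = x * (e * z) * x⁻¹ := by group
        _ = x * (z * e) * x⁻¹ := by rw [h2]
        _ = x * z * (x⁻¹ * (x * e) * x⁻¹) := by group
        _ = x * z * (x⁻¹ * (e * x) * x⁻¹) := by rw [h3]
        _ = x * z * x⁻¹ * e := by group
    have hw : ⁅z, x⁆ ∈ fixV V Y := by
      have : ⁅z, x⁆ = z * (x * z * x⁻¹)⁻¹ := by rw [commutatorElement_def]; group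
      rw [this]
      exact (fixV V Y).mul_mem hz ((fixV V Y).inv_mem hxzx)
    have e0 : ⁅y * z, x⁆ = y * ⁅z, x⁆ * y⁻¹ * ⁅y, x⁆ := by
      rw [commutatorElement_def, commutatorElement_def, commutatorElement_def]; group
    have e1 : ⁅y, x⁆ = 1 := by
      rw [commutatorElement_def]
      calc y * x * y⁻¹ * x⁻¹ = (y * x) * y⁻¹ * x⁻¹ := by group
        _ = (x * y) * y⁻¹ * x⁻¹ := by rw [hxy]
        _ = 1 := by group
    have e2 : y * ⁅z, x⁆ * y⁻¹ = ⁅z, x⁆ := by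
      rw [hVc y (fix_le V X hy) _ (fix_le V Y hw)]; group
    rw [e0, e1, mul_one, e2]
    exact hw
  refine ⟨h1.symm, key A D hAP hc h1.symm, ?_⟩
  apply key D A hDP (fun x hx y hy => (hc y hy x hx).symm)
  rw [sup_comm]; exact h1.symm

/-- F7: three pairwise commuting distinct strict offenders: `A₃ ≤ A₁A₂` or `C_V(A₁) ∩ C_V(A₂) ≰ C_V(A₃)`. -/
theorem F7 (H : Hyp p V P T M) {A₁ A₂ A₃ : Subgroup G} (h1P : A₁ ≤ P) (h1 : StrictOff p V A₁) (h2P : A₂ ≤ P)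
    (h2 : StrictOff p V A₂) (h3P : A₃ ≤ P) (h3 : StrictOff p V A₃)
    (c12 : ∀ x ∈ A₁, ∀ y ∈ A₂, x * y = y * x) (c13 : ∀ x ∈ A₁, ∀ y ∈ A₃, x * y = y * x)
    (c23 : ∀ x ∈ A₂, ∀ y ∈ A₃, x * y = y * x) :
    A₃ ≤ A₁ ⊔ A₂ ∨ ¬ fixV V A₁ ⊓ fixV V A₂ ≤ fixV V A₃ := by
  have hB := (F6 H (h1.off H h1P) (h2.off H h2P) c12).1
  have hc : ∀ x ∈ A₁ ⊔ A₂, ∀ y ∈ A₃, x * y = y * x := by
    intro x hx y hy
    have h1' : A₁ ≤ Subgroup.centralizer ((Subgroup.zpowers y : Subgroup G) : Set G) := by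
      intro a ha
      rw [Subgroup.mem_centralizer_iff]
      intro w hw
      obtain ⟨k, rfl⟩ := Subgroup.mem_zpowers_iff.mp hw
      have : Commute a y := c13 a ha y hy
      exact ((this.zpow_right k).eq).symm
    have h2' : A₂ ≤ Subgroup.centralizer ((Subgroup.zpowers y : Subgroup G) : Set G) := by
      intro a ha
      rw [Subgroup.mem_centralizer_iff]
      intro w hw
      obtain ⟨k, rfl⟩ := Subgroup.mem_zpowers_iff.mp hw
      have : Commute a y := c23 a ha y hy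
      exact ((this.zpow_right k).eq).symm
    have h3' := (sup_le h1' h2') hx
    rw [Subgroup.mem_centralizer_iff] at h3'
    exact (h3' y (Subgroup.mem_zpowers y)).symm
  obtain ⟨-, hinf, hfix⟩ := F6 H hB (h3.off H h3P) hc
  rcases F6_aux_sub_strict H h3P h3 hinf inf_le_right with h | h
  · right
    intro hle
    rw [h] at hfix
    have hbot : fixV V (⊥ : Subgroup G) = V := by
      apply le_antisymm (fix_le V ⊥)
      intro v hv
      rw [mem_fix]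
      refine ⟨hv, fun e he => ?_⟩
      rw [Subgroup.mem_bot] at he
      rw [he, one_mul, mul_one]
    rw [hbot, fix_sup, sup_eq_right.mpr hle] at hfix
    -- `C_V(A₃) = V` contradicts the value of `A₃` (`A₃ ≠ 1`)
    have v3 := F3_card H h3P h3
    rw [← hfix] at v3
    have hpos : 0 < Nat.card ↥V := Nat.card_pos
    have : Nat.card ↥A₃ = 1 := by
      have h4 : Nat.card ↥A₃ * Nat.card ↥V = 1 * Nat.card ↥V := by rw [v3, one_mul]
      exact Nat.eq_of_mul_eq_mul_right hpos h4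
    exact h3.ne (Subgroup.card_eq_one.mp this)
  · left
    rw [← h]
    exact inf_le_left

end Cfsg.Agent.S3000P
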