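import Mathlib
import Cfsg.Agent.Helper12.S3000F6

/-! S3000/S3001, piece NC: for strict offenders `A ≠ D` of `P` with `|D| ≤ |A|`: `[V,A] ≤ C_V(D)` implies `[V,D] ≤ C_V(A)`
(and then `[A,D] = 1`, piece F4). -/

set_option autoImplicit false

namespace Cfsg.Agent.S3000P

open Cfsg.Agent.S2789P Cfsg.Agent.S2999P Cfsg.Agent.Helper14
open scoped commutatorElement

variable {G : Type*} [Group G]

/-- conjugating a stabilising element by an element of `P` centralising `K` -/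
theorem stabOf_conj_mem {V P K : Subgroup G} (hPV : P ≤ Subgroup.normalizer (V : Set G)) {s d : G}
    (hs : s ∈ stabOf V P K) (hd : d ∈ P) (hdK : ∀ k ∈ K, d * k = k * d) : d * s * d⁻¹ ∈ stabOf V P K := by
  have hdK' : ∀ k ∈ K, d⁻¹ * k = k * d⁻¹ := by
    intro k hk
    calc d⁻¹ * k = d⁻¹ * (k * d) * d⁻¹ := by group
      _ = d⁻¹ * (d * k) * d⁻¹ := by rw [hdK k hk]
      _ = k * d⁻¹ := by group
  refine ⟨P.mul_mem (P.mul_mem hd hs.1) (P.inv_mem hd), ?_, ?_⟩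
  · intro v hv
    have hv' : d⁻¹ * v * d⁻¹⁻¹ ∈ V :=
      Cfsg.Agent.Helper26.conj_mem_of_mem_normalizer (hPV (P.inv_mem hd)) hv
    rw [inv_inv] at hv'
    have h1 := hs.2.1 _ hv'
    have e : ⁅d * s * d⁻¹, v⁆ = d * ⁅s, d⁻¹ * v * d⁆ * d⁻¹ := by
      rw [commutatorElement_def, commutatorElement_def]; group
    rw [e, hdK _ h1]
    have : ⁅s, d⁻¹ * v * d⁆ * d * d⁻¹ = ⁅s, d⁻¹ * v * d⁆ := by group
    rw [this]
    exact h1
  · intro k hk
    calc d * s * d⁻¹ * k = d * s * (d⁻¹ * k) := by group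
      _ = d * s * (k * d⁻¹) := by rw [hdK' k hk]
      _ = d * (s * k) * d⁻¹ := by group
      _ = d * (k * s) * d⁻¹ := by rw [hs.2.2 k hk]
      _ = (d * k) * s * d⁻¹ := by group
      _ = (k * d) * s * d⁻¹ := by rw [hdK k hk]
      _ = k * (d * s * d⁻¹) := by group

variable [Finite G] {p : ℕ} [Fact p.Prime] {V P : Subgroup G} {T : Sylow p ↥P} {M : Subgroup ↥P}

/-- a strict offender lies in the stability group of any `K` with `[V,A] ≤ K ≤ C_V(A)` -/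
theorem NC_aux_mem_stab {A K : Subgroup G} (hAP : A ≤ P) (hRK : ⁅V, A⁆ ≤ K) (hKU : K ≤ fixV V A) {a : G} (ha : a ∈ A) :
    a ∈ stabOf V P K := by
  refine ⟨hAP ha, ?_, ?_⟩
  · intro v hv
    have h1 : ⁅v, a⁆ ∈ ⁅V, A⁆ := Subgroup.commutator_mem_commutator hv ha
    have h2 : ⁅a, v⁆ = ⁅v, a⁆⁻¹ := (commutatorElement_inv v a).symm
    rw [h2]
    exact K.inv_mem (hRK h1)
  · intro k hk
    exact (mem_fix.mp (hKU hk)).2 a ha

/-- NC, first half: if `[V,A] ≤ C_V(D)` then `⁅a,d⁆ ∈ D` and `[V,⁅a,d⁆] ≤ C_V(A)` -/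
theorem NC_aux_comm (H : Hyp p V P T M) {A D : Subgroup G} (hAP : A ≤ P) (hA : StrictOff p V A) (hDP : D ≤ P)
    (hD : StrictOff p V D) (hR : ⁅V, A⁆ ≤ fixV V D) {a d : G} (ha : a ∈ A) (hd : d ∈ D) :
    ⁅a, d⁆ ∈ D ∧ ∀ v ∈ V, ⁅⁅a, d⁆, v⁆ ∈ fixV V A := by
  have hqA := F3_quad H hAP hA
  set K := fixV V A ⊓ fixV V D with hK
  have hRK : ⁅V, A⁆ ≤ K := le_inf hqA hR
  have hdK : ∀ k ∈ K, d * k = k * d := fun k hk => (mem_fix.mp hk.2).2 d hd
  have h1 : a ∈ stabOf V P K := NC_aux_mem_stab hAP hRK inf_le_left ha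
  have h2 : d * a⁻¹ * d⁻¹ ∈ stabOf V P K :=
    stabOf_conj_mem H.hPV ((stabOf V P K).inv_mem h1) (hDP hd) hdK
  have h3 : ⁅a, d⁆ ∈ stabOf V P K := by
    have : ⁅a, d⁆ = a * (d * a⁻¹ * d⁻¹) := by rw [commutatorElement_def]; group
    rw [this]
    exact (stabOf V P K).mul_mem h1 h2
  refine ⟨?_, fun v hv => (h3.2.1 v hv).1⟩
  rw [← F3_stab H hDP hD]
  refine ⟨h3.1, fun v hv => (h3.2.1 v hv).2, ?_⟩
  -- `⁅a,d⁆` centralises `C_V(D)`
  intro u hu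
  have hdu : d * u = u * d := (mem_fix.mp hu).2 d hd
  have hu' : a⁻¹ * u * a ∈ fixV V D := by
    have h4 : ⁅a⁻¹, u⁆ ∈ fixV V D := by
      have h5 : ⁅u, a⁻¹⁆ ∈ ⁅V, A⁆ := Subgroup.commutator_mem_commutator (fix_le V D hu) (A.inv_mem ha)
      have h6 : ⁅a⁻¹, u⁆ = ⁅u, a⁻¹⁆⁻¹ := (commutatorElement_inv u a⁻¹).symm
      rw [h6]
      exact (fixV V D).inv_mem (hR h5)
    have : a⁻¹ * u * a = ⁅a⁻¹, u⁆ * u := by rw [commutatorElement_def]; group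
    rw [this]
    exact (fixV V D).mul_mem h4 hu
  have hdu' : d * (a⁻¹ * u * a) = (a⁻¹ * u * a) * d := (mem_fix.mp hu').2 d hd
  have hdu'' : d⁻¹ * u = u * d⁻¹ := by
    calc d⁻¹ * u = d⁻¹ * (u * d) * d⁻¹ := by group
      _ = d⁻¹ * (d * u) * d⁻¹ := by rw [hdu]
      _ = u * d⁻¹ := by group
  rw [commutatorElement_def]
  calc a * d * a⁻¹ * d⁻¹ * u = a * d * a⁻¹ * (d⁻¹ * u) := by group
    _ = a * d * a⁻¹ * (u * d⁻¹) := by rw [hdu'']
    _ = a * (d * (a⁻¹ * u * a)) * a⁻¹ * d⁻¹ := by group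
    _ = a * ((a⁻¹ * u * a) * d) * a⁻¹ * d⁻¹ := by rw [hdu']
    _ = u * (a * d * a⁻¹ * d⁻¹) := by group

/-- NC: `A ≠ D` strict offenders, `|D| ≤ |A|`, `[V,A] ≤ C_V(D)`. Then `[V,D] ≤ C_V(A)`. -/
theorem NC (H : Hyp p V P T M) {A D : Subgroup G} (hAP : A ≤ P) (hA : StrictOff p V A) (hDP : D ≤ P)
    (hD : StrictOff p V D) (hcard : Nat.card ↥D ≤ Nat.card ↥A) (hR : ⁅V, A⁆ ≤ fixV V D) :
    ⁅V, D⁆ ≤ fixV V A := by
  classical
  by_contra hcon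
  -- `D₀ = {d ∈ D : [V,d] ≤ C_V(A)}`
  let D₀ : Subgroup G := D ⊓ stabOf V P (fixV V A ⊓ fixV V D)
  have hD₀ : D₀ ≤ D := inf_le_left
  have hne : D₀ ≠ D := by
    intro h
    apply hcon
    rw [Subgroup.commutator_le]
    intro v hv d hd
    have hd' : d ∈ D₀ := by rw [h]; exact hd
    have h1 := (hd'.2.2.1 v hv).1
    have h2 : ⁅v, d⁆ = ⁅d, v⁆⁻¹ := (commutatorElement_inv d v).symm
    rw [h2]
    exact (fixV V A).inv_mem h1
  obtain ⟨d, hd, hd0⟩ : ∃ d ∈ D, d ∉ D₀ := by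
    by_contra hall
    push_neg at hall
    exact hne (le_antisymm hD₀ hall)
  have hqD := F3_quad H hDP hD
  have hVc : ∀ v ∈ V, ∀ w ∈ V, v * w = w * v := fun v hv w hw =>
    congrArg Subtype.val (H.hV.1.is_comm.comm ⟨v, hv⟩ ⟨w, hw⟩)
  have key := Cfsg.Agent.Helper26.card_mul_card_le_of_fiber' (A := A) (N := ⊥) (W := D₀) (M := ⊥) bot_le bot_le
    (fun a => ⁅a, d⁆)
    (by
      intro a ha
      obtain ⟨h1, h2⟩ := NC_aux_comm H hAP hA hDP hD hR ha hd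
      refine ⟨h1, hDP h1, ?_, ?_⟩
      · intro v hv
        refine ⟨h2 v hv, ?_⟩
        have h3 : ⁅v, ⁅a, d⁆⁆ ∈ ⁅V, D⁆ := Subgroup.commutator_mem_commutator hv h1
        have h4 : ⁅⁅a, d⁆, v⁆ = ⁅v, ⁅a, d⁆⁆⁻¹ := (commutatorElement_inv v _).symm
        rw [h4]
        exact (fixV V D).inv_mem (hqD h3)
      · intro k hk
        exact (mem_fix.mp hk.2).2 _ h1)
    (by
      intro a ha b hb hab
      rw [Subgroup.mem_bot] at hab ⊢
      by_contra hne1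
      -- `a' = a⁻¹ b ≠ 1` commutes with `d`
      have hcomm : (a⁻¹ * b) * d = d * (a⁻¹ * b) := by
        have h1 : ⁅a, d⁆ = ⁅b, d⁆ := by
          have := hab
          rw [inv_mul_eq_one] at this
          exact this
        rw [commutatorElement_def, commutatorElement_def] at h1
        have h2 : a * d * a⁻¹ = b * d * b⁻¹ := by
          have := congrArg (· * d) h1
          simpa [mul_assoc] using this
        calc (a⁻¹ * b) * d = a⁻¹ * (b * d * b⁻¹) * b := by group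
          _ = a⁻¹ * (a * d * a⁻¹) * b := by rw [h2]
          _ = d * (a⁻¹ * b) := by group
      have ha' : a⁻¹ * b ∈ A := A.mul_mem (A.inv_mem ha) hb
      apply hd0
      refine ⟨hd, hDP hd, ?_, fun k hk => (mem_fix.mp hk.2).2 d hd⟩
      intro v hv
      have hdv : ⁅d, v⁆ ∈ fixV V D := by
        have h3 : ⁅v, d⁆ ∈ ⁅V, D⁆ := Subgroup.commutator_mem_commutator hv hd
        have h4 : ⁅d, v⁆ = ⁅v, d⁆⁻¹ := (commutatorElement_inv v d).symm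
        rw [h4]
        exact (fixV V D).inv_mem (hqD h3)
      refine ⟨?_, hdv⟩
      -- `a'` centralises `⁅d,v⁆`
      apply F3_fix_elt H hAP hA ha' hne1 (fix_le V D hdv)
      set a' := a⁻¹ * b with ha'def
      -- `a' ⁅d,v⁆ a'⁻¹ = ⁅d, a' v a'⁻¹⁆ = ⁅d, ⁅a',v⁆ v⁆ = ⁅d,v⁆`
      have hr : ⁅a', v⁆ ∈ fixV V D := by
        have h3 : ⁅v, a'⁆ ∈ ⁅V, A⁆ := Subgroup.commutator_mem_commutator hv ha'
        have h4 : ⁅a', v⁆ = ⁅v, a'⁆⁻¹ := (commutatorElement_inv v a').symm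
        rw [h4]
        exact (fixV V D).inv_mem (hR h3)
      have hdr : d * ⁅a', v⁆ = ⁅a', v⁆ * d := (mem_fix.mp hr).2 d hd
      have e1 : a' * ⁅d, v⁆ * a'⁻¹ = ⁅a' * d * a'⁻¹, a' * v * a'⁻¹⁆ := by
        rw [commutatorElement_def, commutatorElement_def]; group
      have e2 : a' * d * a'⁻¹ = d := by rw [hcomm]; group
      have e3 : a' * v * a'⁻¹ = ⁅a', v⁆ * v := by rw [commutatorElement_def]; group
      have e4 : ⁅d, ⁅a', v⁆ * v⁆ = ⁅d, v⁆ := by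
        rw [commutatorElement_def, commutatorElement_def]
        calc d * (⁅a', v⁆ * v) * d⁻¹ * (⁅a', v⁆ * v)⁻¹ = (d * ⁅a', v⁆) * v * d⁻¹ * v⁻¹ * ⁅a', v⁆⁻¹ := by group
          _ = (⁅a', v⁆ * d) * v * d⁻¹ * v⁻¹ * ⁅a', v⁆⁻¹ := by rw [hdr]
          _ = ⁅a', v⁆ * (d * v * d⁻¹ * v⁻¹) * ⁅a', v⁆⁻¹ := by group
          _ = d * v * d⁻¹ * v⁻¹ := by
              have hw : d * v * d⁻¹ * v⁻¹ ∈ V := by
                have := fix_le V D hdv
                rwa [commutatorElement_def] at this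
              rw [hVc _ (fix_le V D hr) _ hw]; group
      have e5 : a' * ⁅d, v⁆ * a'⁻¹ = ⁅d, v⁆ := by rw [e1, e2, e3, e4]
      calc a' * ⁅d, v⁆ = (a' * ⁅d, v⁆ * a'⁻¹) * a' := by group
        _ = ⁅d, v⁆ * a' := by rw [e5])
  rw [Subgroup.card_bot, mul_one, one_mul] at key
  have hlt : Nat.card ↥D₀ < Nat.card ↥D := by
    apply lt_of_le_of_ne (Subgroup.card_le_of_le hD₀)
    intro h
    exact hne (Subgroup.eq_of_le_of_card_ge hD₀ h.ge)
  omega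

end Cfsg.Agent.S3000P
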