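import Mathlib
import Cfsg.Agent.Helper12.S3000NC

/-! S3000/S3001, pieces F4 (commuting criterion) and LC (Lemma C: two strict offenders of the same order generating a `p`-group
commute). -/

set_option autoImplicit false

namespace Cfsg.Agent.S3000P

open Cfsg.Agent.S2789P Cfsg.Agent.S2999P Cfsg.Agent.Helper14
open scoped commutatorElement

variable {G : Type*} [Group G]

/-- the join of a family of pairwise (elementwise) commuting subgroups of exponent `p` is elementary abelian -/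
theorem LC_aux_elab_iSup {p : ℕ} {ι : Type*} (B : ι → Subgroup G)
    (hc : ∀ i j, ∀ x ∈ B i, ∀ y ∈ B j, x * y = y * x) (hp : ∀ i, ∀ x ∈ B i, x ^ p = 1) :
    Cfsg.IsElementaryAbelian p (⨆ i, B i) := by
  have hcl : (⨆ i, B i) = Subgroup.closure (⋃ i, (B i : Set G)) := by
    rw [Subgroup.closure_iUnion]
    congr 1
    funext i
    exact (Subgroup.closure_eq (B i)).symm
  have hS : ∀ x ∈ (⋃ i, (B i : Set G)), ∀ y ∈ (⋃ i, (B i : Set G)), x * y = y * x := by
    intro x hx y hy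
    obtain ⟨i, hi⟩ := Set.mem_iUnion.mp hx
    obtain ⟨j, hj⟩ := Set.mem_iUnion.mp hy
    exact hc i j x hi y hj
  have hcomm : ∀ x ∈ Subgroup.closure (⋃ i, (B i : Set G)), ∀ y ∈ Subgroup.closure (⋃ i, (B i : Set G)),
      x * y = y * x := by
    intro x hx y hy
    have h1 : Subgroup.closure (⋃ i, (B i : Set G)) ≤ Subgroup.centralizer (⋃ i, (B i : Set G)) := by
      rw [Subgroup.closure_le]
      intro z hz
      rw [SetLike.mem_coe, Subgroup.mem_centralizer_iff]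
      intro w hw
      exact hS w hw z hz
    have h2 : Subgroup.closure (⋃ i, (B i : Set G)) ≤
        Subgroup.centralizer ((Subgroup.closure (⋃ i, (B i : Set G)) : Subgroup G) : Set G) := by
      rw [Subgroup.closure_le]
      intro z hz
      rw [SetLike.mem_coe, Subgroup.mem_centralizer_iff]
      intro w hw
      have h3 := h1 hw
      rw [Subgroup.mem_centralizer_iff] at h3
      exact (h3 z hz).symm
    have := h2 hy
    rw [Subgroup.mem_centralizer_iff] at this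
    exact this x hx
  rw [hcl]
  constructor
  · refine ⟨⟨?_⟩⟩
    rintro ⟨x, hx⟩ ⟨y, hy⟩
    exact Subtype.ext (hcomm x hx y hy)
  · intro x hx
    induction hx using Subgroup.closure_induction with
    | mem z hz =>
      obtain ⟨i, hi⟩ := Set.mem_iUnion.mp hz
      exact hp i z hi
    | one => exact one_pow p
    | mul y z hy hz ihy ihz =>
      have : Commute y z := hcomm y hy z hz
      rw [this.mul_pow, ihy, ihz, one_mul]
    | inv y hy ihy => rw [inv_pow, ihy, inv_one]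

variable [Finite G] {p : ℕ} [Fact p.Prime] {V P : Subgroup G} {T : Sylow p ↥P} {M : Subgroup ↥P}

/-- F4: if `[V,A] ≤ C_V(D)` and `[V,D] ≤ C_V(A)` then `A` and `D` commute (`P` faithful on the abelian `V`). -/
theorem F4 (H : Hyp p V P T M) {A D : Subgroup G} (hAP : A ≤ P) (hDP : D ≤ P)
    (h1 : ⁅V, A⁆ ≤ fixV V D) (h2 : ⁅V, D⁆ ≤ fixV V A) : ∀ a ∈ A, ∀ d ∈ D, a * d = d * a := by
  intro a ha d hd
  have hVc : ∀ v ∈ V, ∀ w ∈ V, v * w = w * v := fun v hv w hw =>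
    congrArg Subtype.val (H.hV.1.is_comm.comm ⟨v, hv⟩ ⟨w, hw⟩)
  have hav : ∀ v ∈ V, ⁅a, v⁆ ∈ fixV V D := by
    intro v hv
    have h3 : ⁅v, a⁆ ∈ ⁅V, A⁆ := Subgroup.commutator_mem_commutator hv ha
    have h4 : ⁅a, v⁆ = ⁅v, a⁆⁻¹ := (commutatorElement_inv v a).symm
    rw [h4]; exact (fixV V D).inv_mem (h1 h3)
  have hdv : ∀ v ∈ V, ⁅d, v⁆ ∈ fixV V A := by
    intro v hv
    have h3 : ⁅v, d⁆ ∈ ⁅V, D⁆ := Subgroup.commutator_mem_commutator hv hd
    have h4 : ⁅d, v⁆ = ⁅v, d⁆⁻¹ := (commutatorElement_inv v d).symm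
    rw [h4]; exact (fixV V A).inv_mem (h2 h3)
  have key : ∀ v ∈ V, (a * d) * v * (a * d)⁻¹ = (d * a) * v * (d * a)⁻¹ := by
    intro v hv
    have c1 : a * ⁅d, v⁆ = ⁅d, v⁆ * a := (mem_fix.mp (hdv v hv)).2 a ha
    have c2 : d * ⁅a, v⁆ = ⁅a, v⁆ * d := (mem_fix.mp (hav v hv)).2 d hd
    have e1 : (a * d) * v * (a * d)⁻¹ = (a * ⁅d, v⁆) * v * a⁻¹ := by
      rw [commutatorElement_def]; group
    have e2 : (d * a) * v * (d * a)⁻¹ = (d * ⁅a, v⁆) * v * d⁻¹ := by
      rw [commutatorElement_def]; group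
    rw [e1, e2, c1, c2]
    have e3 : ⁅d, v⁆ * a * v * a⁻¹ = ⁅d, v⁆ * ⁅a, v⁆ * v := by
      rw [commutatorElement_def, commutatorElement_def]; group
    have e4 : ⁅a, v⁆ * d * v * d⁻¹ = ⁅a, v⁆ * ⁅d, v⁆ * v := by
      rw [commutatorElement_def, commutatorElement_def]; group
    rw [e3, e4, hVc _ (fix_le V A (hdv v hv)) _ (fix_le V D (hav v hv))]
  have hc : (d * a)⁻¹ * (a * d) = 1 := by
    have hmem : (d * a)⁻¹ * (a * d) ∈ P ⊓ Subgroup.centralizer (V : Set G) := by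
      refine ⟨P.mul_mem (P.inv_mem (P.mul_mem (hDP hd) (hAP ha))) (P.mul_mem (hAP ha) (hDP hd)), ?_⟩
      show (d * a)⁻¹ * (a * d) ∈ Subgroup.centralizer (V : Set G)
      rw [Subgroup.mem_centralizer_iff]
      intro v hv
      have := key v hv
      calc v * ((d * a)⁻¹ * (a * d)) = (d * a)⁻¹ * ((d * a) * v * (d * a)⁻¹) * (a * d) := by group
        _ = (d * a)⁻¹ * ((a * d) * v * (a * d)⁻¹) * (a * d) := by rw [this]
        _ = (d * a)⁻¹ * (a * d) * v := by group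
    rw [H.hf] at hmem
    exact Subgroup.mem_bot.mp hmem
  calc a * d = (d * a) * ((d * a)⁻¹ * (a * d)) := by group
    _ = d * a := by rw [hc, mul_one]

/-- NC + F4: `A ≠ D` strict offenders of the same order with `[V,A] ≤ C_V(D)` commute. -/
theorem NC_comm (H : Hyp p V P T M) {A D : Subgroup G} (hAP : A ≤ P) (hA : StrictOff p V A) (hDP : D ≤ P)
    (hD : StrictOff p V D) (hcard : Nat.card ↥D ≤ Nat.card ↥A) (hR : ⁅V, A⁆ ≤ fixV V D) :
    ∀ a ∈ A, ∀ d ∈ D, a * d = d * a :=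
  F4 H hAP hDP hR (NC H hAP hA hDP hD hcard hR)

/-- in a finite `p`-subgroup `Q`, a proper subgroup `A` lies in a proper subgroup `N` of `Q` normalised by `Q` -/
theorem LC_aux_normal_max {Q A : Subgroup G} (hQ : IsPGroup p ↥Q) (hAQ : A ≤ Q) (hne : A ≠ Q) :
    ∃ N : Subgroup G, A ≤ N ∧ N ≤ Q ∧ N ≠ Q ∧ ∀ x ∈ Q, cjs x N = N := by
  haveI : Group.IsNilpotent ↥Q := hQ.isNilpotent
  have hA' : A.subgroupOf Q ≠ ⊤ := by
    intro h
    rw [Subgroup.subgroupOf_eq_top] at h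
    exact hne (le_antisymm hAQ h)
  obtain h | ⟨N', hN', hAN'⟩ := eq_top_or_exists_le_coatom (A.subgroupOf Q)
  · exact absurd h hA'
  have hn : N'.Normal :=
    Subgroup.NormalizerCondition.normal_of_coatom N' Group.normalizerCondition_of_isNilpotent hN'
  have hconj : ∀ x ∈ Q, ∀ y ∈ N'.map Q.subtype, x * y * x⁻¹ ∈ N'.map Q.subtype := by
    rintro x hx _ ⟨y, hy, rfl⟩
    exact ⟨⟨x, hx⟩ * y * ⟨x, hx⟩⁻¹, hn.conj_mem y hy ⟨x, hx⟩, rfl⟩
  refine ⟨N'.map Q.subtype, ?_, Subgroup.map_subtype_le N', ?_, ?_⟩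
  · intro a ha
    exact ⟨⟨a, hAQ ha⟩, hAN' (Subgroup.mem_subgroupOf.mpr ha), rfl⟩
  · intro h
    apply hN'.1
    rw [eq_top_iff]
    intro x _
    have hx : (x : G) ∈ N'.map Q.subtype := by rw [h]; exact x.2
    obtain ⟨y, hy, hyx⟩ := hx
    have : y = x := Subtype.ext hyx
    rwa [← this]
  · intro x hx
    apply cj_norm
    rw [Subgroup.mem_normalizer_iff]
    intro y
    constructor
    · intro hy; exact hconj x hx y hy
    · intro hy
      have h2 := hconj x⁻¹ (Q.inv_mem hx) _ hy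
      have e : x⁻¹ * (x * y * x⁻¹) * x⁻¹⁻¹ = y := by group
      rwa [e] at h2

/-- LC, the counting step: if `A` commutes with a conjugate `Aˣ ≠ A`, `x ∈ ⟨A, D⟩`, then `[V,A] ≤ C_V(D)` -/
theorem LC_aux_step (H : Hyp p V P T M) {A D : Subgroup G} (hAP : A ≤ P) (hA : StrictOff p V A) (hDP : D ≤ P)
    (hD : StrictOff p V D) (hcard : Nat.card ↥A = Nat.card ↥D) {x : G} (hx : x ∈ A ⊔ D) (hne : cjs x A ≠ A)
    (hc : ∀ a ∈ A, ∀ b ∈ cjs x A, a * b = b * a) : ⁅V, A⁆ ≤ fixV V D := by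
  have hQP : A ⊔ D ≤ P := sup_le hAP hDP
  have hxP : x ∈ P := hQP hx
  have hAxP : cjs x A ≤ P := cj_le_of_mem hxP hAP
  have hAx : StrictOff p V (cjs x A) := hA.conj (H.hPV hxP)
  obtain ⟨h1, h2, -⟩ := F6_cor H hAP hA hAxP hAx (Ne.symm hne) hc
  have hq := F3_quad H hAP hA
  have hle : fixV V (A ⊔ D) ≤ fixV V A ⊓ fixV V (cjs x A) := by
    apply le_inf (fix_anti le_sup_left)
    apply fix_anti
    exact cj_le_of_mem hx le_sup_left
  have hVab := Cfsg.Agent.Helper26.le_centralizer_of_isElementaryAbelian H.hV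
  have c1 := Cfsg.Agent.Helper26.card_sup_mul_card_inf (Cfsg.Agent.Helper26.inf_centralizer_le_normalizer hVab
    (fixV V A) (fixV V (cjs x A)) (fix_le V A) (fix_le V _))
  have c2 := Cfsg.Agent.Helper26.card_sup_mul_card_inf (Cfsg.Agent.Helper26.inf_centralizer_le_normalizer hVab
    (fixV V A) (fixV V D) (fix_le V A) (fix_le V _))
  rw [h1] at c1
  have v2 := F3_card H hDP hD
  have v3 := F3_card H hAxP hAx
  rw [cj_card] at v3
  have hcard' : Nat.card ↥(fixV V (cjs x A)) = Nat.card ↥(fixV V D) := by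
    have h3 : Nat.card ↥A * Nat.card ↥(fixV V (cjs x A)) = Nat.card ↥A * Nat.card ↥(fixV V D) := by
      rw [v3, hcard, v2]
    exact Nat.eq_of_mul_eq_mul_left Nat.card_pos h3
  have hsup_le : Nat.card ↥(fixV V A ⊔ fixV V D) ≤ Nat.card ↥V :=
    Subgroup.card_le_of_le (sup_le (fix_le V A) (fix_le V D))
  have hge : Nat.card ↥(fixV V A ⊓ fixV V (cjs x A)) ≤ Nat.card ↥(fixV V A ⊓ fixV V D) := by
    have h3 : Nat.card ↥V * Nat.card ↥(fixV V A ⊓ fixV V (cjs x A)) ≤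
        Nat.card ↥V * Nat.card ↥(fixV V A ⊓ fixV V D) := by
      rw [c1, hcard', ← c2]
      exact Nat.mul_le_mul_right _ hsup_le
    exact Nat.le_of_mul_le_mul_left h3 Nat.card_pos
  have heq : fixV V (A ⊔ D) = fixV V A ⊓ fixV V (cjs x A) := by
    apply Subgroup.eq_of_le_of_card_ge hle
    rw [fix_sup]; exact hge
  calc ⁅V, A⁆ ≤ fixV V A ⊓ fixV V (cjs x A) := le_inf hq h2
    _ = fixV V (A ⊔ D) := heq.symm
    _ ≤ fixV V D := fix_anti le_sup_right

/-- LC, the inductive step for conjugates: under the induction hypothesis, `A` commutes with `Aˣ`, `x ∈ ⟨A, D⟩` -/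
theorem LC_aux_conj (H : Hyp p V P T M) {n : ℕ}
    (ih : ∀ m < n, ∀ {A D : Subgroup G}, A ≤ P → StrictOff p V A → D ≤ P → StrictOff p V D →
      Nat.card ↥A = Nat.card ↥D → IsPGroup p ↥(A ⊔ D) → Nat.card ↥(A ⊔ D) = m →
      ∀ a ∈ A, ∀ d ∈ D, a * d = d * a)
    {A D : Subgroup G} (hAP : A ≤ P) (hA : StrictOff p V A) (hDP : D ≤ P)
    (hcard : Nat.card ↥A = Nat.card ↥D) (hAD : A ≠ D) (hQ : IsPGroup p ↥(A ⊔ D)) (hn : Nat.card ↥(A ⊔ D) = n)
    {x : G} (hx : x ∈ A ⊔ D) : ∀ a ∈ A, ∀ b ∈ cjs x A, a * b = b * a := by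
  have hQP : A ⊔ D ≤ P := sup_le hAP hDP
  have hxP : x ∈ P := hQP hx
  have hneQ : A ≠ A ⊔ D := by
    intro h
    apply hAD
    have hDA : D ≤ A := by rw [h]; exact le_sup_right
    exact (Subgroup.eq_of_le_of_card_ge hDA hcard.le).symm
  obtain ⟨N, hAN, hNQ, hNne, hNn⟩ := LC_aux_normal_max hQ le_sup_left hneQ
  have hAxN : cjs x A ≤ N := by rw [← hNn x hx]; exact cj_mono hAN
  have hle : A ⊔ cjs x A ≤ N := sup_le hAN hAxN
  have hlt : Nat.card ↥(A ⊔ cjs x A) < n := by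
    rw [← hn]
    apply lt_of_le_of_lt (Subgroup.card_le_of_le hle)
    apply lt_of_le_of_ne (Subgroup.card_le_of_le hNQ)
    intro h
    exact hNne (Subgroup.eq_of_le_of_card_ge hNQ h.ge)
  exact ih _ hlt hAP hA (cj_le_of_mem hxP hAP) (hA.conj (H.hPV hxP)) (cj_card x A).symm
    (hQ.to_le (hle.trans hNQ)) rfl

/-- LC (Lemma C), inductive form -/
theorem LC_aux_ind (H : Hyp p V P T M) : ∀ (n : ℕ) {A D : Subgroup G}, A ≤ P → StrictOff p V A → D ≤ P →
    StrictOff p V D → Nat.card ↥A = Nat.card ↥D → IsPGroup p ↥(A ⊔ D) → Nat.card ↥(A ⊔ D) = n →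
    ∀ a ∈ A, ∀ d ∈ D, a * d = d * a := by
  intro n
  induction n using Nat.strong_induction_on with
  | _ n ih =>
  intro A D hAP hA hDP hD hcard hQ hn
  by_cases hAD : A = D
  · subst hAD
    intro a ha d hd
    exact congrArg Subtype.val (hA.hA.1.is_comm.comm ⟨a, ha⟩ ⟨d, hd⟩)
  by_cases hnA : ∀ x ∈ A ⊔ D, cjs x A = A
  · by_cases hnD : ∀ x ∈ A ⊔ D, cjs x D = D
    · -- both normal in `⟨A, D⟩`
      intro a ha d hd
      have h1 : ⁅a, d⁆ ∈ D := by
        have h2 : a * d * a⁻¹ ∈ cjs a D := cj_mem_conj.mpr hd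
        rw [hnD a (Subgroup.mem_sup_left ha)] at h2
        rw [commutatorElement_def]
        exact D.mul_mem h2 (D.inv_mem hd)
      have h2 : ⁅a, d⁆ ∈ A := by
        have h3 : d * a⁻¹ * d⁻¹ ∈ cjs d A := cj_mem_conj.mpr (A.inv_mem ha)
        rw [hnA d (Subgroup.mem_sup_right hd)] at h3
        have e : ⁅a, d⁆ = a * (d * a⁻¹ * d⁻¹) := by rw [commutatorElement_def]; group
        rw [e]
        exact A.mul_mem ha h3
      have h3 : ⁅a, d⁆ ∈ A ⊓ D := ⟨h2, h1⟩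
      rw [F3_TI H hAP hA hDP hD hAD, Subgroup.mem_bot] at h3
      exact commutatorElement_eq_one_iff_mul_comm.mp h3
    · push_neg at hnD
      obtain ⟨x, hx, hxD⟩ := hnD
      have hQ' : IsPGroup p ↥(D ⊔ A) := by rw [sup_comm]; exact hQ
      have hn' : Nat.card ↥(D ⊔ A) = n := by rw [sup_comm]; exact hn
      have hx' : x ∈ D ⊔ A := by rw [sup_comm]; exact hx
      have hc := LC_aux_conj H ih hDP hD hAP hcard.symm (Ne.symm hAD) hQ' hn' hx'
      have hR := LC_aux_step H hDP hD hAP hA hcard.symm hx' hxD hc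
      intro a ha d hd
      exact (NC_comm H hDP hD hAP hA hcard.le hR d hd a ha).symm
  · push_neg at hnA
    obtain ⟨x, hx, hxA⟩ := hnA
    have hc := LC_aux_conj H ih hAP hA hDP hcard hAD hQ hn hx
    have hR := LC_aux_step H hAP hA hDP hD hcard hx hxA hc
    exact NC_comm H hAP hA hDP hD hcard.symm.le hR

/-- LC (Lemma C): two strict offenders of the same order generating a `p`-group commute -/
theorem LC (H : Hyp p V P T M) {A D : Subgroup G} (hAP : A ≤ P) (hA : StrictOff p V A) (hDP : D ≤ P)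
    (hD : StrictOff p V D) (hcard : Nat.card ↥A = Nat.card ↥D) (hQ : IsPGroup p ↥(A ⊔ D)) :
    ∀ a ∈ A, ∀ d ∈ D, a * d = d * a :=
  LC_aux_ind H _ hAP hA hDP hD hcard hQ rfl

end Cfsg.Agent.S3000P
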