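import Mathlib
import Cfsg.Agent.Helper12.S3000LC

/-! S3000/S3001, piece J: for a `p`-subgroup `S ≤ P` and `q`, `J_q(S) := ⟨strict offenders of order q inside S⟩`.
J1 `JOff_elab`, `JOff_off`; J2 `JOff_weakly_closed`; J3 `JOff_normalizer_le`; J4 `JOff_le_cj_M`; J5 `JOff_mem_of_comm`. -/

set_option autoImplicit false

namespace Cfsg.Agent.S3000P

open Cfsg.Agent.S2789P Cfsg.Agent.S2999P Cfsg.Agent.Helper14
open scoped commutatorElement

variable {G : Type*} [Group G]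

/-- the strict offenders of order `q` inside `S` -/
def AqIn (p : ℕ) (V S : Subgroup G) (q : ℕ) : Set (Subgroup G) :=
  {A | A ≤ S ∧ StrictOff p V A ∧ Nat.card ↥A = q}

/-- `J_q(S)`: the subgroup generated by the strict offenders of order `q` inside `S` -/
def JOff (p : ℕ) (V S : Subgroup G) (q : ℕ) : Subgroup G := sSup (AqIn p V S q)

theorem mem_AqIn {p : ℕ} {V S A : Subgroup G} {q : ℕ} :
    A ∈ AqIn p V S q ↔ A ≤ S ∧ StrictOff p V A ∧ Nat.card ↥A = q := Iff.rfl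

theorem le_JOff {p : ℕ} {V S A : Subgroup G} {q : ℕ} (h : A ∈ AqIn p V S q) : A ≤ JOff p V S q := le_sSup h

theorem JOff_le (p : ℕ) (V S : Subgroup G) (q : ℕ) : JOff p V S q ≤ S := sSup_le (fun _ hA => hA.1)

theorem AqIn_mono {p : ℕ} {V S S' : Subgroup G} {q : ℕ} (h : S ≤ S') : AqIn p V S q ⊆ AqIn p V S' q :=
  fun _ hA => ⟨hA.1.trans h, hA.2⟩

theorem JOff_mono {p : ℕ} {V S S' : Subgroup G} {q : ℕ} (h : S ≤ S') : JOff p V S q ≤ JOff p V S' q :=
  sSup_le_sSup (AqIn_mono h)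

/-- a member of `AqIn` that lies in `S'` is a member for `S'` -/
theorem AqIn_of_le {p : ℕ} {V S S' A : Subgroup G} {q : ℕ} (h : A ∈ AqIn p V S q) (hA : A ≤ S') :
    A ∈ AqIn p V S' q := ⟨hA, h.2⟩

theorem JOff_ne_bot {p : ℕ} {V S A : Subgroup G} {q : ℕ} (h : A ∈ AqIn p V S q) : JOff p V S q ≠ ⊥ := by
  intro hb
  apply h.2.1.ne
  rw [eq_bot_iff, ← hb]
  exact le_JOff h

/-- `cjs g E = E` puts `g` in the normalizer -/
theorem J_aux_mem_normalizer {g : G} {E : Subgroup G} (h : cjs g E = E) : g ∈ Subgroup.normalizer (E : Set G) := by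
  rw [Subgroup.mem_normalizer_iff]
  intro x
  constructor
  · intro hx
    rw [← h]; exact cj_mem_conj.mpr hx
  · intro hx
    rw [← h] at hx; exact cj_mem_conj.mp hx

/-- a subgroup commuting elementwise with every member of a family commutes with its join -/
theorem J_aux_comm_sSup {B : Subgroup G} {𝒮 : Set (Subgroup G)}
    (hc : ∀ B' ∈ 𝒮, ∀ x ∈ B, ∀ y ∈ B', x * y = y * x) : ∀ x ∈ B, ∀ y ∈ sSup 𝒮, x * y = y * x := by
  have h1 : sSup 𝒮 ≤ Subgroup.centralizer (B : Set G) := by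
    apply sSup_le
    intro B' hB' y hy
    rw [Subgroup.mem_centralizer_iff]
    intro x hx
    exact hc B' hB' x hx y hy
  intro x hx y hy
  have := h1 hy
  rw [Subgroup.mem_centralizer_iff] at this
  exact this x hx

variable {p : ℕ}

theorem AqIn_conj {V S A : Subgroup G} {q : ℕ} {g : G} (hg : g ∈ Subgroup.normalizer (V : Set G))
    (h : A ∈ AqIn p V S q) : cjs g A ∈ AqIn p V (cjs g S) q :=
  ⟨cj_mono h.1, h.2.1.conj hg, by rw [cj_card]; exact h.2.2⟩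

theorem JOff_conj {V S : Subgroup G} {q : ℕ} {g : G} (hg : g ∈ Subgroup.normalizer (V : Set G)) :
    JOff p V (cjs g S) q = cjs g (JOff p V S q) := by
  apply le_antisymm
  · apply sSup_le
    intro A hA
    have h1 : cjs g⁻¹ A ∈ AqIn p V (cjs g⁻¹ (cjs g S)) q :=
      AqIn_conj ((Subgroup.normalizer (V : Set G)).inv_mem hg) hA
    rw [cj_inv_cj] at h1
    have h2 : cjs g (cjs g⁻¹ A) ≤ cjs g (JOff p V S q) := cj_mono (le_JOff h1)
    rwa [cj_cj_inv] at h2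
  · have h0 : ∀ A ∈ AqIn p V S q, A ≤ cjs g⁻¹ (JOff p V (cjs g S) q) := by
      intro A hA
      have h1 : cjs g A ≤ JOff p V (cjs g S) q := le_JOff (AqIn_conj hg hA)
      have h2 := cj_mono (g := g⁻¹) h1
      rwa [cj_inv_cj] at h2
    have h3 : JOff p V S q ≤ cjs g⁻¹ (JOff p V (cjs g S) q) := sSup_le h0
    have h4 := cj_mono (g := g) h3
    rwa [cj_cj_inv] at h4

variable [Finite G] [Fact p.Prime] {V P : Subgroup G} {T : Sylow p ↥P} {M : Subgroup ↥P}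

/-- J1 (a): `J_q(S)` is elementary abelian for a `p`-subgroup `S ≤ P` -/
theorem JOff_elab (H : Hyp p V P T M) {S : Subgroup G} (hSP : S ≤ P) (hS : IsPGroup p ↥S) (q : ℕ) :
    Cfsg.IsElementaryAbelian p (JOff p V S q) := by
  unfold JOff
  rw [sSup_eq_iSup']
  apply LC_aux_elab_iSup
  · rintro ⟨A, hA⟩ ⟨D, hD⟩
    exact LC H (hA.1.trans hSP) hA.2.1 (hD.1.trans hSP) hD.2.1 (hA.2.2.trans hD.2.2.symm)
      (hS.to_le (sup_le hA.1 hD.1))
  · rintro ⟨A, hA⟩ x hx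
    exact hA.2.1.hA.2 x hx

/-- the join of a family of pairwise commuting offenders is an offender -/
theorem Off_sSup (H : Hyp p V P T M) (𝒮 : Set (Subgroup G)) (hoff : ∀ B ∈ 𝒮, Off p V P B)
    (hc : ∀ B ∈ 𝒮, ∀ B' ∈ 𝒮, ∀ x ∈ B, ∀ y ∈ B', x * y = y * x) : Off p V P (sSup 𝒮) := by
  have hfin : 𝒮.Finite := Set.toFinite 𝒮
  induction 𝒮, hfin using Set.Finite.induction_on with
  | empty => rw [sSup_empty]; exact Off.bot V P
  | @insert B s hBs _ ih =>
    rw [sSup_insert]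
    have ih' := ih (fun B' hB' => hoff B' (Set.mem_insert_of_mem _ hB'))
      (fun B₁ h₁ B₂ h₂ => hc B₁ (Set.mem_insert_of_mem _ h₁) B₂ (Set.mem_insert_of_mem _ h₂))
    have hcomm : ∀ x ∈ B, ∀ y ∈ sSup s, x * y = y * x :=
      J_aux_comm_sSup (fun B' hB' => hc B (Set.mem_insert _ _) B' (Set.mem_insert_of_mem _ hB'))
    exact (F6 H (hoff B (Set.mem_insert _ _)) ih' hcomm).1

/-- J1 (b): `J_q(S)` is an offender -/
theorem JOff_off (H : Hyp p V P T M) {S : Subgroup G} (hSP : S ≤ P) (hS : IsPGroup p ↥S) (q : ℕ) :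
    Off p V P (JOff p V S q) := by
  apply Off_sSup H
  · intro A hA
    exact hA.2.1.off H (hA.1.trans hSP)
  · intro A hA D hD
    exact LC H (hA.1.trans hSP) hA.2.1 (hD.1.trans hSP) hD.2.1 (hA.2.2.trans hD.2.2.symm)
      (hS.to_le (sup_le hA.1 hD.1))

/-- J2: `J_q(S)` is weakly closed in `S` with respect to `P` -/
theorem JOff_weakly_closed (H : Hyp p V P T M) {S : Subgroup G} {q : ℕ} {g : G} (hg : g ∈ P)
    (h : JOff p V S q ≤ cjs g S) : cjs g (JOff p V S q) = JOff p V S q := by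
  have h1 : JOff p V S q ≤ JOff p V (cjs g S) q := by
    apply sSup_le
    intro A hA
    exact le_JOff (AqIn_of_le hA ((le_JOff hA).trans h))
  rw [JOff_conj (H.hPV hg)] at h1
  exact (Subgroup.eq_of_le_of_card_ge h1 (cj_card g _).le).symm

/-- elements of `S` normalise `J_q(S)` -/
theorem JOff_cj_self (H : Hyp p V P T M) {S : Subgroup G} (hSP : S ≤ P) {q : ℕ} {g : G} (hg : g ∈ S) :
    cjs g (JOff p V S q) = JOff p V S q := by
  rw [← JOff_conj (H.hPV (hSP hg)), cj_self hg]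

/-- a `p`-subgroup of `M` is conjugate in `M` into the Sylow subgroup `T` -/
theorem J_aux_conj_into (P : Subgroup G) (T : Sylow p ↥P) (M : Subgroup ↥P) (hTM : (T : Subgroup ↥P) ≤ M)
    {B : Subgroup G} (hBM : B ≤ M.map P.subtype) (hB : IsPGroup p ↥B) :
    ∃ h ∈ M.map P.subtype, cjs h B ≤ (T : Subgroup ↥P).map P.subtype := by
  have hBP : B ≤ P := hBM.trans (Subgroup.map_subtype_le M)
  have hBM' : B.subgroupOf P ≤ M := by
    intro x hx
    rw [Subgroup.mem_subgroupOf] at hx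
    obtain ⟨y, hy, hyx⟩ := hBM hx
    have : y = x := Subtype.ext hyx
    rwa [← this]
  obtain ⟨m, hmM, hQ⟩ := F1_aux_sylow_conj T M hTM (B.subgroupOf P) hBM' hB.comap_subtype
  refine ⟨(m : G)⁻¹, (M.map P.subtype).inv_mem ⟨m, hmM, rfl⟩, ?_⟩
  intro x hx
  rw [cj_mem, inv_inv] at hx
  have hxP : x ∈ P := by
    have h1 : (m : G)⁻¹ * ((m : G) * x * (m : G)⁻¹) * (m : G) ∈ P :=
      P.mul_mem (P.mul_mem (P.inv_mem m.2) (hBP hx)) m.2
    have e : (m : G)⁻¹ * ((m : G) * x * (m : G)⁻¹) * (m : G) = x := by group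
    rwa [e] at h1
  have h2 : (m * ⟨x, hxP⟩ * m⁻¹ : ↥P) ∈ B.subgroupOf P := by
    rw [Subgroup.mem_subgroupOf]
    simpa using hx
  have h3 := hQ h2
  rw [cj_mem] at h3
  have e : m⁻¹ * (m * ⟨x, hxP⟩ * m⁻¹) * m = (⟨x, hxP⟩ : ↥P) := by group
  rw [e] at h3
  exact ⟨⟨x, hxP⟩, h3, rfl⟩

/-- the Sylow subgroup `T` as a `p`-subgroup of the ambient group -/
theorem J_aux_isPGroup_T (P : Subgroup G) (T : Sylow p ↥P) : IsPGroup p ↥((T : Subgroup ↥P).map P.subtype) :=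
  T.isPGroup'.map P.subtype

/-- J3: `N_P(J) ≤ M` for `J = J_q(T) ≠ 1` -/
theorem JOff_normalizer_le (H : Hyp p V P T M) {q : ℕ}
    (hne : JOff p V ((T : Subgroup ↥P).map P.subtype) q ≠ ⊥) :
    P ⊓ Subgroup.normalizer ((JOff p V ((T : Subgroup ↥P).map P.subtype) q : Subgroup G) : Set G) ≤
      M.map P.subtype := by
  set Tg := (T : Subgroup ↥P).map P.subtype with hTg
  set J := JOff p V Tg q with hJ
  have hTP : Tg ≤ P := Subgroup.map_subtype_le _
  have hJT : J ≤ Tg := JOff_le p V Tg q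
  set N : Subgroup ↥P := (P ⊓ Subgroup.normalizer (J : Set G)).subgroupOf P with hN
  have hTN : (T : Subgroup ↥P) ≤ N := by
    intro t ht
    rw [hN, Subgroup.mem_subgroupOf]
    refine ⟨t.2, ?_⟩
    have htT : (t : G) ∈ Tg := ⟨t, ht, rfl⟩
    exact J_aux_mem_normalizer (JOff_cj_self H hTP htT)
  have hNne : N ≠ ⊤ := by
    intro htop
    apply hne
    -- `J` is a normal `p`-subgroup of `P`
    have hnorm : P ≤ Subgroup.normalizer (J : Set G) := by
      intro x hx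
      have h1 : (⟨x, hx⟩ : ↥P) ∈ N := by rw [htop]; trivial
      rw [hN, Subgroup.mem_subgroupOf] at h1
      exact h1.2
    haveI hJn : (J.subgroupOf P).Normal := by
      constructor
      intro n hn g
      rw [Subgroup.mem_subgroupOf] at hn ⊢
      have h2 := hnorm g.2
      rw [Subgroup.mem_normalizer_iff] at h2
      have := (h2 (n : G)).mp hn
      simpa using this
    have hJp : IsPGroup p ↥(J.subgroupOf P) :=
      ((J_aux_isPGroup_T P T).to_le hJT).comap_subtype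
    have h3 : J.subgroupOf P ≤ Cfsg.pCore p ↥P := le_sSup ⟨hJn, hJp⟩
    rw [H.hOp] at h3
    rw [eq_bot_iff]
    intro x hx
    have hxP : x ∈ P := hTP (hJT hx)
    have h5 : (⟨x, hxP⟩ : ↥P) ∈ J.subgroupOf P := by rw [Subgroup.mem_subgroupOf]; exact hx
    have h6 := h3 h5
    rw [Subgroup.mem_bot] at h6 ⊢
    exact congrArg Subtype.val h6
  have h4 : N ≤ M := Cfsg.Agent.S2905.le_of_ne_top H.hmin T M H.hM H.hTM hTN hNne
  intro x hx
  have hxP : x ∈ P := hx.1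
  have h5 : (⟨x, hxP⟩ : ↥P) ∈ N := by rw [hN, Subgroup.mem_subgroupOf]; exact hx
  exact ⟨⟨x, hxP⟩, h4 h5, rfl⟩

/-- J4: `J = J_q(T)` fixes only the point `M`: `J ≤ gMg⁻¹` (`g ∈ P`) forces `g ∈ M` -/
theorem JOff_le_cj_M (H : Hyp p V P T M) {q : ℕ}
    (hne : JOff p V ((T : Subgroup ↥P).map P.subtype) q ≠ ⊥) {g : G} (hg : g ∈ P)
    (h : JOff p V ((T : Subgroup ↥P).map P.subtype) q ≤ cjs g (M.map P.subtype)) : g ∈ M.map P.subtype := by
  set Tg := (T : Subgroup ↥P).map P.subtype with hTg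
  set J := JOff p V Tg q with hJ
  set Mg := M.map P.subtype with hMg
  have hTP : Tg ≤ P := Subgroup.map_subtype_le _
  have hMP : Mg ≤ P := Subgroup.map_subtype_le _
  have hJT : J ≤ Tg := JOff_le p V Tg q
  have hJp : IsPGroup p ↥J := (J_aux_isPGroup_T P T).to_le hJT
  -- `g⁻¹ J g ≤ M`
  have h1 : cjs g⁻¹ J ≤ Mg := by
    have := cj_mono (g := g⁻¹) h
    rwa [cj_inv_cj] at this
  have h1p : IsPGroup p ↥(cjs g⁻¹ J) := by
    unfold cjs
    exact hJp.map _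
  obtain ⟨m, hmM, hm⟩ := J_aux_conj_into P T M H.hTM h1 h1p
  rw [cj_mul] at hm
  -- `J ≤ (m g⁻¹)⁻¹ T (m g⁻¹)`
  have h2 : J ≤ cjs (m * g⁻¹)⁻¹ Tg := by
    have := cj_mono (g := (m * g⁻¹)⁻¹) hm
    rwa [cj_inv_cj] at this
  have hmgP : (m * g⁻¹)⁻¹ ∈ P := P.inv_mem (P.mul_mem (hMP hmM) (P.inv_mem hg))
  have h3 := JOff_weakly_closed H hmgP h2
  have h4 : (m * g⁻¹)⁻¹ ∈ Mg :=
    JOff_normalizer_le H hne ⟨hmgP, J_aux_mem_normalizer h3⟩
  have h5 : g = (m * g⁻¹)⁻¹ * m := by group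
  rw [h5]
  exact Mg.mul_mem h4 hmM

/-- J5: a strict offender of order `q` in `P` commuting elementwise with every member of `𝒜_q ∩ T` lies in `T` (and in `J`) -/
theorem JOff_mem_of_comm (H : Hyp p V P T M) {q : ℕ} {D : Subgroup G} (hD : D ∈ AqIn p V P q)
    (hc : ∀ A ∈ AqIn p V ((T : Subgroup ↥P).map P.subtype) q, ∀ x ∈ D, ∀ y ∈ A, x * y = y * x) :
    D ∈ AqIn p V ((T : Subgroup ↥P).map P.subtype) q := by
  set Tg := (T : Subgroup ↥P).map P.subtype with hTg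
  set J := JOff p V Tg q with hJ
  have hTP : Tg ≤ P := Subgroup.map_subtype_le _
  have hJT : J ≤ Tg := JOff_le p V Tg q
  have hTp := J_aux_isPGroup_T P T
  have hJel : Cfsg.IsElementaryAbelian p J := JOff_elab H hTP hTp q
  have hcJ : ∀ x ∈ D, ∀ y ∈ J, x * y = y * x := J_aux_comm_sSup hc
  have hDJel : Cfsg.IsElementaryAbelian p (D ⊔ J) := F6_aux_elab_sup hD.2.1.hA hJel hcJ
  have hDJP : D ⊔ J ≤ P := sup_le hD.1 (hJT.trans hTP)
  obtain ⟨h, hhP, hh⟩ := F2_aux_conj_into P T hDJP (F2_aux_isPGroup hDJel)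
  -- `D ⊔ J ≤ h⁻¹ T h`
  have h1 : D ⊔ J ≤ cjs h⁻¹ Tg := by
    have := cj_mono (g := h⁻¹) hh
    rwa [cj_inv_cj] at this
  have hhP' : h⁻¹ ∈ P := P.inv_mem hhP
  have h2 := JOff_weakly_closed H hhP' (le_sup_right.trans h1)
  have h3 : D ∈ AqIn p V (cjs h⁻¹ Tg) q := AqIn_of_le hD (le_sup_left.trans h1)
  have h4 : D ≤ JOff p V (cjs h⁻¹ Tg) q := le_JOff h3
  rw [JOff_conj (H.hPV hhP'), h2] at h4
  exact AqIn_of_le hD (h4.trans hJT)

end Cfsg.Agent.S3000P
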