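import Mathlib
import Cfsg.Agent.Helper12.S3000F6
import Cfsg.Agent.Helper28.S3000Defs

/-! S3000, board `s3000pieces`, piece OFFQ: an offender of order `q` is a member of `𝒜`. -/

set_option autoImplicit false

namespace Cfsg.Agent.S3000P

open Cfsg.Agent.S2789P Cfsg.Agent.S2999P
open scoped commutatorElement

variable {G : Type*} [Group G] [Finite G] {p : ℕ} [Fact p.Prime] {V P : Subgroup G} {T : Sylow p ↥P} {M : Subgroup ↥P} {q : ℕ}

/-- a nontrivial offender contains a strict offender -/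
theorem OFFQ_aux_strict_le (Hy : Hyp p V P T M) {B : Subgroup G} (hB : Off p V P B) (hne : B ≠ ⊥) :
    ∃ B₀ : Subgroup G, B₀ ≤ B ∧ StrictOff p V B₀ := by
  classical
  let 𝓢 : Set (Subgroup G) := {B₀ | B₀ ≤ B ∧ B₀ ≠ ⊥ ∧ Nat.card ↥V ≤ Nat.card ↥B₀ * Nat.card ↥(fixV V B₀)}
  have hfin : 𝓢.Finite := Set.toFinite _
  have hnon : 𝓢.Nonempty := ⟨B, le_rfl, hne, hB.val.ge⟩
  obtain ⟨B₀, hB₀⟩ := hfin.exists_minimal hnon
  obtain ⟨⟨hle, hne₀, hval⟩, hmin⟩ := hB₀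
  have hel : Cfsg.IsElementaryAbelian p B₀ := F2_aux_elab_of_le hB.hel hle
  have hB₀P : B₀ ≤ P := hle.trans hB.le
  refine ⟨B₀, hle, hel, hne₀, hval, ?_⟩
  intro A₀ hA₀ hA₀ne hA₀ne'
  by_contra hcon
  rw [not_lt] at hcon
  have h1 : Nat.card ↥V ≤ Nat.card ↥A₀ * Nat.card ↥(fixV V A₀) := hval.trans hcon
  have h2 : A₀ ∈ 𝓢 := ⟨hA₀.trans hle, hA₀ne, h1⟩
  exact hA₀ne' (le_antisymm hA₀ (hmin h2 hA₀))

/-- OFFQ (M): an offender of order `q` is a member of `𝒜`. -/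
theorem OFFQ (Hy : Hyp p V P T M) (hq : MinQ p V P q) {B : Subgroup G} (hB : Off p V P B) (hc : Nat.card ↥B = q) :
    InA p V P q B := by
  have hq2 : 2 ≤ q := by
    obtain ⟨⟨A, _, hA, hcA⟩, _⟩ := hq
    rw [← hcA]
    have hne : Nontrivial ↥A := (Subgroup.nontrivial_iff_ne_bot A).2 hA.ne
    exact Finite.one_lt_card
  have hne : B ≠ ⊥ := by
    intro h
    rw [h, Subgroup.card_bot] at hc
    omega
  obtain ⟨B₀, hle, hS⟩ := OFFQ_aux_strict_le Hy hB hne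
  have h1 : q ≤ Nat.card ↥B₀ := hq.2 B₀ (hle.trans hB.le) hS
  have h2 : B₀ = B := by
    apply Subgroup.eq_of_le_of_card_ge hle
    rw [hc]; exact h1
  rw [h2] at hS
  exact ⟨hB.le, hS, hc⟩

end Cfsg.Agent.S3000P
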