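import Mathlib
import Cfsg.Agent.Helper12.S3000J
import Cfsg.Agent.Helper24.S2999KER

/-! S3000/S3001, piece PKG1: the output of F1 as an `SL₂`-package in normalised coordinates:
`ρ : E ≃* SL₂(F)` (injective by `KER`), `ψ : V →* F²` surjective with kernel `C_V(E)`, `ψ(e v e⁻¹) = ρ(e) ψ(v)`, and
`ρ(A)` = the upper unitriangular group. -/

set_option autoImplicit false

namespace Cfsg.Agent.S3000P

open Cfsg.Agent.S2789P Cfsg.Agent.S2999P Cfsg.Agent.Helper14
open scoped commutatorElement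
open Matrix

/-- `SL₂(F)` is transitive on nonzero vectors: some `g` maps `x` to `e₁` -/
theorem PKG_aux_sl2_trans {F : Type*} [Field F] (x : Fin 2 → F) (hx : x ≠ 0) :
    ∃ g : SpecialLinearGroup (Fin 2) F, (g : Matrix (Fin 2) (Fin 2) F).mulVec x = ![1, 0] := by
  by_cases ha : x 0 = 0
  · have hb : x 1 ≠ 0 := by
      intro hb
      apply hx
      funext i
      fin_cases i
      · exact ha
      · exact hb
    refine ⟨⟨!![0, (x 1)⁻¹; -(x 1), 0], ?_⟩, ?_⟩
    · rw [Matrix.det_fin_two_of]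
      field_simp
      ring
    · funext i
      fin_cases i
      · simp [Matrix.mulVec, dotProduct, Fin.sum_univ_two, ha, hb]
      · simp [Matrix.mulVec, dotProduct, Fin.sum_univ_two, ha]
  · refine ⟨⟨!![(x 0)⁻¹, 0; -(x 1), x 0], ?_⟩, ?_⟩
    · rw [Matrix.det_fin_two_of]
      field_simp
      ring
    · funext i
      fin_cases i
      · simp [Matrix.mulVec, dotProduct, Fin.sum_univ_two, ha]
      · simp [Matrix.mulVec, dotProduct, Fin.sum_univ_two]
        ring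

/-- the stabiliser of `e₁` in `SL₂(F)` is the upper unitriangular group -/
theorem PKG_aux_sl2_stab {F : Type*} [Field F] (g : SpecialLinearGroup (Fin 2) F)
    (h : (g : Matrix (Fin 2) (Fin 2) F).mulVec ![1, 0] = ![1, 0]) :
    ∃ t : F, (g : Matrix (Fin 2) (Fin 2) F) = !![1, t; 0, 1] := by
  have h0 := congrFun h 0
  have h1 := congrFun h 1
  simp [Matrix.mulVec, dotProduct, Fin.sum_univ_two] at h0 h1
  have hdet := g.2
  rw [Matrix.det_fin_two, h0, h1] at hdet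
  simp at hdet
  refine ⟨g.1 0 1, ?_⟩
  ext i j
  fin_cases i <;> fin_cases j <;> simp [h0, h1, hdet]

variable {G : Type*} [Group G]

/-- an `SL₂`-package in normalised coordinates: `ρ : E ≃* SL₂(F)`, `ψ : V → F²` onto with kernel `C_V(E)`, equivariant,
`|F| = |A|` and `ρ(A)` = the upper unitriangular group -/
structure SL2Pkg (V A E : Subgroup G) (F : Type) [Field F] [Fintype F]
    (ρ : ↥E ≃* SpecialLinearGroup (Fin 2) F) (ψ : ↥V →* Multiplicative (Fin 2 → F)) : Prop where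
  hAE : A ≤ E
  hEV : E ≤ Subgroup.normalizer (V : Set G)
  card : Fintype.card F = Nat.card ↥A
  surj : Function.Surjective ψ
  ker : ∀ v : ↥V, ψ v = 1 ↔ (v : G) ∈ fixV V E
  equiv : ∀ (e : ↥E) (v : ↥V) (hw : (e : G) * (v : G) * (e : G)⁻¹ ∈ V),
    Multiplicative.toAdd (ψ ⟨(e : G) * (v : G) * (e : G)⁻¹, hw⟩) =
      ((ρ e : SpecialLinearGroup (Fin 2) F) : Matrix (Fin 2) (Fin 2) F).mulVec (Multiplicative.toAdd (ψ v))
  unip : ∀ e : ↥E, (e : G) ∈ A ↔
    ∃ t : F, ((ρ e : SpecialLinearGroup (Fin 2) F) : Matrix (Fin 2) (Fin 2) F) = !![1, t; 0, 1]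

variable [Finite G] {p : ℕ} [Fact p.Prime]

/-- injectivity of `ρ` (from `KER`) -/
theorem PKG_aux_inj {V E Mg TE RE A : Subgroup G} (S : Setup p V E Mg TE RE A) {F : Type*} [Field F]
    (ρ : ↥E →* SpecialLinearGroup (Fin 2) F) (ψ : ↥V →* Multiplicative (Fin 2 → F))
    (hker : ∀ u : ↥V, ψ u = 1 ↔ (u : G) ∈ fixV V E)
    (heq : ∀ (e : ↥E) (u : ↥V), ∃ w : ↥V, (w : G) = (e : G) * (u : G) * (e : G)⁻¹ ∧
      Multiplicative.toAdd (ψ w) =
        ((ρ e : SpecialLinearGroup (Fin 2) F) : Matrix (Fin 2) (Fin 2) F).mulVec (Multiplicative.toAdd (ψ u))) :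
    Function.Injective ρ := by
  rw [injective_iff_map_eq_one]
  intro e he
  have h0 : (e : G) = 1 := by
    apply FIN_ker S e e.2
    intro v hv
    obtain ⟨w, hw, hψ⟩ := heq e ⟨v, hv⟩
    rw [he] at hψ
    simp only [Matrix.SpecialLinearGroup.coe_one, Matrix.one_mulVec] at hψ
    have h1 : ψ w = ψ ⟨v, hv⟩ := by
      apply Multiplicative.toAdd.injective
      exact hψ
    have h2 : ψ (⟨v, hv⟩ * w⁻¹) = 1 := by rw [map_mul, map_inv, h1, mul_inv_cancel]
    have h3 := (hker _).mp h2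
    have e1 : ⁅v, (e : G)⁆ = v * ((e : G) * v * (e : G)⁻¹)⁻¹ := by rw [commutatorElement_def]; group
    rw [e1, ← hw]
    simpa using h3
  exact Subtype.ext h0

variable {V P : Subgroup G} {T : Sylow p ↥P} {M : Subgroup ↥P}

/-- PKG1, core form: F1 in normalised coordinates -/
theorem PKG1_core (H : Hyp p V P T M) {A : Subgroup G} (hAT : A ≤ (T : Subgroup ↥P).map P.subtype)
    (hS : StrictOff p V A) :
    ∃ (E : Subgroup G) (g : G), g ∈ P ∧ A ≤ E ∧ E ≤ P ∧ ¬ E ≤ cjs g (M.map P.subtype) ∧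
      (∀ X : Subgroup G, A ≤ X → X < E → X ≤ cjs g (M.map P.subtype)) ∧
      (∀ y ∈ E, y ∉ cjs g (M.map P.subtype) → A ⊔ cjs y A = E) ∧
      Cfsg.IsPMinimal p ↥E ∧
      (∃ TE RE : Subgroup G, Setup p V E (cjs g (M.map P.subtype) ⊓ E) TE RE A) ∧
      ∃ (F : Type) (_ : Field F) (_ : Fintype F) (ρ : ↥E ≃* SpecialLinearGroup (Fin 2) F)
        (ψ : ↥V →* Multiplicative (Fin 2 → F)), SL2Pkg V A E F ρ ψ := by
  obtain ⟨E, g, hgP, hAE, hEP, hEM, hprop, hiii, hPmin, ⟨TE, RE, S⟩, F, iF, iFt, hcard, -, -, hact⟩ :=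
    F1 V P H.hV H.hPV H.hf H.hmin T M H.hM H.hTM H.hOp H.hCT A hAT hS
  refine ⟨E, g, hgP, hAE, hEP, hEM, hprop, hiii, hPmin, ⟨TE, RE, S⟩, F, iF, iFt, ?_⟩
  obtain ⟨hEV, -, ρ₀, ψ₀, hrange, hsurj, hker, heq⟩ := hact
  have hinj := PKG_aux_inj S ρ₀ ψ₀ hker heq
  have hsurjρ : Function.Surjective ρ₀ := by
    rw [← MonoidHom.range_eq_top]; exact hrange
  -- a vector fixed by `A` outside `C_V(E)`
  obtain ⟨u, huA, huE⟩ := SetLike.not_le_iff_exists.mp (ZFACT S).2
  have huV : u ∈ V := fix_le V A huA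
  set x : Fin 2 → F := Multiplicative.toAdd (ψ₀ ⟨u, huV⟩) with hx
  have hx0 : x ≠ 0 := by
    intro h0
    apply huE
    apply (hker ⟨u, huV⟩).mp
    apply Multiplicative.toAdd.injective
    exact h0
  obtain ⟨g₀, hg₀⟩ := PKG_aux_sl2_trans x hx0
  -- the new coordinates
  let ρ : ↥E ≃* SpecialLinearGroup (Fin 2) F :=
    (MulEquiv.ofBijective ρ₀ ⟨hinj, hsurjρ⟩).trans (MulAut.conj g₀)
  let ψ : ↥V →* Multiplicative (Fin 2 → F) :=
    (AddMonoidHom.toMultiplicative (Matrix.mulVecLin (g₀ : Matrix (Fin 2) (Fin 2) F)).toAddMonoidHom).comp ψ₀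
  have hρ : ∀ e : ↥E, ρ e = g₀ * ρ₀ e * g₀⁻¹ := fun e => rfl
  have hψ : ∀ v : ↥V, Multiplicative.toAdd (ψ v) =
      (g₀ : Matrix (Fin 2) (Fin 2) F).mulVec (Multiplicative.toAdd (ψ₀ v)) := fun v => rfl
  have hginv : ∀ y : Fin 2 → F, ((g₀⁻¹ : SpecialLinearGroup (Fin 2) F) : Matrix (Fin 2) (Fin 2) F).mulVec
      ((g₀ : Matrix (Fin 2) (Fin 2) F).mulVec y) = y := by
    intro y
    rw [Matrix.mulVec_mulVec, ← Matrix.SpecialLinearGroup.coe_mul, inv_mul_cancel, Matrix.SpecialLinearGroup.coe_one,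
      Matrix.one_mulVec]
  have hginv' : ∀ y : Fin 2 → F, (g₀ : Matrix (Fin 2) (Fin 2) F).mulVec
      (((g₀⁻¹ : SpecialLinearGroup (Fin 2) F) : Matrix (Fin 2) (Fin 2) F).mulVec y) = y := by
    intro y
    rw [Matrix.mulVec_mulVec, ← Matrix.SpecialLinearGroup.coe_mul, mul_inv_cancel, Matrix.SpecialLinearGroup.coe_one,
      Matrix.one_mulVec]
  -- equivariance in the old coordinates, in the `hw`-form
  have heq' : ∀ (e : ↥E) (v : ↥V) (hw : (e : G) * (v : G) * (e : G)⁻¹ ∈ V),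
      Multiplicative.toAdd (ψ₀ ⟨(e : G) * (v : G) * (e : G)⁻¹, hw⟩) =
        ((ρ₀ e : SpecialLinearGroup (Fin 2) F) : Matrix (Fin 2) (Fin 2) F).mulVec
          (Multiplicative.toAdd (ψ₀ v)) := by
    intro e v hw
    obtain ⟨w, hw', hψw⟩ := heq e v
    have : w = ⟨(e : G) * (v : G) * (e : G)⁻¹, hw⟩ := Subtype.ext hw'
    rw [← this]; exact hψw
  -- `ρ(a)` fixes `e₁` for `a ∈ A`
  have hfix : ∀ e : ↥E, (e : G) ∈ A →
      ((ρ e : SpecialLinearGroup (Fin 2) F) : Matrix (Fin 2) (Fin 2) F).mulVec ![1, 0] = ![1, 0] := by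
    intro e he
    have hcomm : (e : G) * u * (e : G)⁻¹ = u := by
      have := (mem_fix.mp huA).2 (e : G) he
      rw [this]; group
    have hw : (e : G) * ((⟨u, huV⟩ : ↥V) : G) * (e : G)⁻¹ ∈ V := by rw [hcomm]; exact huV
    have h1 := heq' e ⟨u, huV⟩ hw
    have h2 : (⟨(e : G) * ((⟨u, huV⟩ : ↥V) : G) * (e : G)⁻¹, hw⟩ : ↥V) = ⟨u, huV⟩ := Subtype.ext hcomm
    rw [h2] at h1
    -- `ρ₀(e) x = x`
    rw [hρ, Matrix.SpecialLinearGroup.coe_mul, Matrix.SpecialLinearGroup.coe_mul, ← hg₀, ← Matrix.mulVec_mulVec,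
      ← Matrix.mulVec_mulVec, hginv, ← h1]
  refine ⟨ρ, ψ, ⟨hAE, hEV, hcard, ?_, ?_, ?_, ?_⟩⟩
  · -- surjectivity
    intro y
    obtain ⟨v, hv⟩ := hsurj (Multiplicative.ofAdd
      (((g₀⁻¹ : SpecialLinearGroup (Fin 2) F) : Matrix (Fin 2) (Fin 2) F).mulVec (Multiplicative.toAdd y)))
    refine ⟨v, ?_⟩
    apply Multiplicative.toAdd.injective
    rw [hψ, hv, toAdd_ofAdd, hginv']
  · -- kernel
    intro v
    rw [← hker v]
    constructor
    · intro h
      apply Multiplicative.toAdd.injective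
      have h1 : Multiplicative.toAdd (ψ v) = 0 := by rw [h]; rfl
      rw [hψ] at h1
      have h2 := congrArg (((g₀⁻¹ : SpecialLinearGroup (Fin 2) F) : Matrix (Fin 2) (Fin 2) F).mulVec) h1
      rw [hginv, Matrix.mulVec_zero] at h2
      exact h2
    · intro h
      apply Multiplicative.toAdd.injective
      rw [hψ, h]
      show (g₀ : Matrix (Fin 2) (Fin 2) F).mulVec 0 = 0
      exact Matrix.mulVec_zero _
  · -- equivariance
    intro e v hw
    rw [hψ, hψ, heq' e v hw, hρ, Matrix.SpecialLinearGroup.coe_mul, Matrix.SpecialLinearGroup.coe_mul,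
      ← Matrix.mulVec_mulVec, ← Matrix.mulVec_mulVec, hginv]
  · -- `ρ(A)` is the upper unitriangular group
    intro e
    constructor
    · intro he
      exact PKG_aux_sl2_stab (ρ e) (hfix e he)
    · rintro ⟨t, ht⟩
      -- the map `A → F`, `a ↦ t_a`, is injective, hence onto
      have hex : ∀ a : ↥A, ∃ s : F,
          ((ρ ⟨(a : G), hAE a.2⟩ : SpecialLinearGroup (Fin 2) F) : Matrix (Fin 2) (Fin 2) F) = !![1, s; 0, 1] :=
        fun a => PKG_aux_sl2_stab _ (hfix ⟨(a : G), hAE a.2⟩ a.2)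
      let f : ↥A → F := fun a => Classical.choose (hex a)
      have hf : ∀ a : ↥A,
          ((ρ ⟨(a : G), hAE a.2⟩ : SpecialLinearGroup (Fin 2) F) : Matrix (Fin 2) (Fin 2) F) = !![1, f a; 0, 1] :=
        fun a => Classical.choose_spec (hex a)
      have hfinj : Function.Injective f := by
        intro a b hab
        have h1 : ρ ⟨(a : G), hAE a.2⟩ = ρ ⟨(b : G), hAE b.2⟩ := by
          apply Subtype.ext
          rw [hf a, hf b, hab]
        have h2 := ρ.injective h1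
        exact Subtype.ext (congrArg (fun z : ↥E => (z : G)) h2)
      have hfbij : Function.Bijective f := by
        apply hfinj.bijective_of_nat_card_le
        rw [Nat.card_eq_fintype_card, hcard]
      obtain ⟨a, ha⟩ := hfbij.2 t
      have h1 : ρ e = ρ ⟨(a : G), hAE a.2⟩ := by
        apply Subtype.ext
        rw [ht, hf a, ha]
      have h2 := ρ.injective h1
      rw [h2]
      exact a.2

end Cfsg.Agent.S3000P
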