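import Mathlib
import Cfsg.Agent.Helper12.S3000PKG1

/-! S3000/S3001, piece PKGco: coordinate calculus for an `SL2Pkg`.
`pco ψ v` = coordinates of `v ∈ V` in `F²` (junk `0` outside `V`); `pel ρ g` = the element of `E` with matrix `g`. -/

set_option autoImplicit false

namespace Cfsg.Agent.S3000P

open Cfsg.Agent.S2789P Cfsg.Agent.S2999P Cfsg.Agent.Helper14
open scoped commutatorElement
open Matrix

variable {G : Type*} [Group G] {V A E : Subgroup G} {F : Type} [Field F]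
  {ρ : ↥E ≃* SpecialLinearGroup (Fin 2) F} {ψ : ↥V →* Multiplicative (Fin 2 → F)}

/-- coordinates of `v ∈ V` (junk value `0` outside `V`) -/
noncomputable def pco (ψ : ↥V →* Multiplicative (Fin 2 → F)) (v : G) : Fin 2 → F := by
  classical exact if h : v ∈ V then Multiplicative.toAdd (ψ ⟨v, h⟩) else 0

theorem pco_of_mem {v : G} (hv : v ∈ V) : pco ψ v = Multiplicative.toAdd (ψ ⟨v, hv⟩) := by
  unfold pco; rw [dif_pos hv]

theorem pco_mul {v w : G} (hv : v ∈ V) (hw : w ∈ V) : pco ψ (v * w) = pco ψ v + pco ψ w := by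
  rw [pco_of_mem hv, pco_of_mem hw, pco_of_mem (V.mul_mem hv hw)]
  have : (⟨v * w, V.mul_mem hv hw⟩ : ↥V) = ⟨v, hv⟩ * ⟨w, hw⟩ := rfl
  rw [this, map_mul]; rfl

theorem pco_one : pco ψ (1 : G) = 0 := by
  rw [pco_of_mem V.one_mem]
  have : (⟨1, V.one_mem⟩ : ↥V) = 1 := rfl
  rw [this, map_one]; rfl

theorem pco_inv {v : G} (hv : v ∈ V) : pco ψ v⁻¹ = - pco ψ v := by
  have h := pco_mul (ψ := ψ) hv (V.inv_mem hv)
  rw [mul_inv_cancel, pco_one] at h
  exact (neg_eq_of_add_eq_zero_right h.symm).symm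

/-- the element of `E` with matrix `g` -/
def pel (ρ : ↥E ≃* SpecialLinearGroup (Fin 2) F) (g : SpecialLinearGroup (Fin 2) F) : G := (ρ.symm g : G)

theorem pel_mem (g : SpecialLinearGroup (Fin 2) F) : pel ρ g ∈ E := (ρ.symm g).2

theorem rho_pel (g : SpecialLinearGroup (Fin 2) F) : ρ ⟨pel ρ g, pel_mem g⟩ = g := by
  have : (⟨pel ρ g, pel_mem g⟩ : ↥E) = ρ.symm g := rfl
  rw [this, MulEquiv.apply_symm_apply]

theorem pel_rho {e : G} (he : e ∈ E) : pel ρ (ρ ⟨e, he⟩) = e := by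
  unfold pel; rw [MulEquiv.symm_apply_apply]

theorem pel_mul (g h : SpecialLinearGroup (Fin 2) F) : pel ρ (g * h) = pel ρ g * pel ρ h := by
  unfold pel; rw [map_mul]; rfl

theorem pel_one : pel ρ (1 : SpecialLinearGroup (Fin 2) F) = 1 := by
  unfold pel; rw [map_one]; rfl

theorem pel_inv (g : SpecialLinearGroup (Fin 2) F) : pel ρ g⁻¹ = (pel ρ g)⁻¹ := by
  unfold pel; rw [map_inv]; rfl

theorem pel_injective : Function.Injective (pel ρ) := by
  intro g h hgh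
  have : ρ.symm g = ρ.symm h := Subtype.ext hgh
  exact ρ.symm.injective this

theorem pel_eq_one_iff {g : SpecialLinearGroup (Fin 2) F} : pel ρ g = 1 ↔ g = 1 := by
  rw [← pel_one (ρ := ρ)]
  exact pel_injective.eq_iff

/-- the upper unitriangular matrix -/
def unipU (t : F) : SpecialLinearGroup (Fin 2) F := ⟨!![1, t; 0, 1], by simp [Matrix.det_fin_two_of]⟩

/-- the lower unitriangular matrix -/
def unipL (t : F) : SpecialLinearGroup (Fin 2) F := ⟨!![1, 0; t, 1], by simp [Matrix.det_fin_two_of]⟩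

/-- the diagonal matrix `diag(λ, λ⁻¹)` -/
def diagT (l : Fˣ) : SpecialLinearGroup (Fin 2) F :=
  ⟨!![(l : F), 0; 0, ((l⁻¹ : Fˣ) : F)], by simp [Matrix.det_fin_two_of]⟩

/-- the Weyl element -/
def weylW : SpecialLinearGroup (Fin 2) F := ⟨!![0, 1; -1, 0], by simp [Matrix.det_fin_two_of]⟩

theorem unipU_coe (t : F) : ((unipU t : SpecialLinearGroup (Fin 2) F) : Matrix (Fin 2) (Fin 2) F) = !![1, t; 0, 1] := rfl
theorem unipL_coe (t : F) : ((unipL t : SpecialLinearGroup (Fin 2) F) : Matrix (Fin 2) (Fin 2) F) = !![1, 0; t, 1] := rfl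
theorem diagT_coe (l : Fˣ) :
    ((diagT l : SpecialLinearGroup (Fin 2) F) : Matrix (Fin 2) (Fin 2) F) = !![(l : F), 0; 0, ((l⁻¹ : Fˣ) : F)] := rfl
theorem weylW_coe : ((weylW : SpecialLinearGroup (Fin 2) F) : Matrix (Fin 2) (Fin 2) F) = !![0, 1; -1, 0] := rfl

theorem unipU_mulVec (t : F) (x : Fin 2 → F) :
    ((unipU t : SpecialLinearGroup (Fin 2) F) : Matrix (Fin 2) (Fin 2) F).mulVec x = ![x 0 + t * x 1, x 1] := by
  rw [unipU_coe]
  funext i
  fin_cases i <;> simp [Matrix.mulVec, dotProduct, Fin.sum_univ_two]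

theorem unipL_mulVec (t : F) (x : Fin 2 → F) :
    ((unipL t : SpecialLinearGroup (Fin 2) F) : Matrix (Fin 2) (Fin 2) F).mulVec x = ![x 0, t * x 0 + x 1] := by
  rw [unipL_coe]
  funext i
  fin_cases i <;> simp [Matrix.mulVec, dotProduct, Fin.sum_univ_two]

theorem diagT_mulVec (l : Fˣ) (x : Fin 2 → F) :
    ((diagT l : SpecialLinearGroup (Fin 2) F) : Matrix (Fin 2) (Fin 2) F).mulVec x =
      ![(l : F) * x 0, ((l⁻¹ : Fˣ) : F) * x 1] := by
  rw [diagT_coe]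
  funext i
  fin_cases i <;> simp [Matrix.mulVec, dotProduct, Fin.sum_univ_two]

theorem weylW_mulVec (x : Fin 2 → F) :
    ((weylW : SpecialLinearGroup (Fin 2) F) : Matrix (Fin 2) (Fin 2) F).mulVec x = ![x 1, - x 0] := by
  rw [weylW_coe]
  funext i
  fin_cases i <;> simp [Matrix.mulVec, dotProduct, Fin.sum_univ_two]

theorem unipU_mul (s t : F) : (unipU s * unipU t : SpecialLinearGroup (Fin 2) F) = unipU (s + t) := by
  apply Subtype.ext
  rw [Matrix.SpecialLinearGroup.coe_mul, unipU_coe, unipU_coe, unipU_coe]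
  ext i j
  fin_cases i <;> fin_cases j <;> simp [Matrix.mul_apply, Fin.sum_univ_two, add_comm]

theorem unipU_zero : (unipU (0 : F) : SpecialLinearGroup (Fin 2) F) = 1 := by
  apply Subtype.ext
  rw [unipU_coe, Matrix.SpecialLinearGroup.coe_one]
  ext i j
  fin_cases i <;> fin_cases j <;> simp

theorem unipU_injective : Function.Injective (unipU : F → SpecialLinearGroup (Fin 2) F) := by
  intro s t h
  have h1 := congrArg (fun g : SpecialLinearGroup (Fin 2) F => (g : Matrix (Fin 2) (Fin 2) F) 0 1) h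
  simpa [unipU_coe] using h1

theorem diagT_mul (l m : Fˣ) : (diagT l * diagT m : SpecialLinearGroup (Fin 2) F) = diagT (l * m) := by
  apply Subtype.ext
  rw [Matrix.SpecialLinearGroup.coe_mul, diagT_coe, diagT_coe, diagT_coe]
  ext i j
  fin_cases i <;> fin_cases j <;> simp [Matrix.mul_apply, Fin.sum_univ_two, mul_comm]

theorem diagT_one : (diagT (1 : Fˣ) : SpecialLinearGroup (Fin 2) F) = 1 := by
  apply Subtype.ext
  rw [diagT_coe, Matrix.SpecialLinearGroup.coe_one]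
  ext i j
  fin_cases i <;> fin_cases j <;> simp

theorem diagT_injective : Function.Injective (diagT : Fˣ → SpecialLinearGroup (Fin 2) F) := by
  intro s t h
  have h1 := congrArg (fun g : SpecialLinearGroup (Fin 2) F => (g : Matrix (Fin 2) (Fin 2) F) 0 0) h
  apply Units.ext
  simpa [diagT_coe] using h1

/-- `diag(λ,λ⁻¹) u(t) diag(λ,λ⁻¹)⁻¹ = u(λ² t)` -/
theorem diagT_conj_unipU (l : Fˣ) (t : F) :
    (diagT l * unipU t * (diagT l)⁻¹ : SpecialLinearGroup (Fin 2) F) = unipU ((l : F) ^ 2 * t) := by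
  have h : (diagT l * unipU t : SpecialLinearGroup (Fin 2) F) = unipU ((l : F) ^ 2 * t) * diagT l := by
    apply Subtype.ext
    rw [Matrix.SpecialLinearGroup.coe_mul, Matrix.SpecialLinearGroup.coe_mul, diagT_coe, unipU_coe, unipU_coe]
    ext i j
    fin_cases i <;> fin_cases j <;> simp [Matrix.mul_apply, Fin.sum_univ_two]
    field_simp
  rw [h, mul_assoc, mul_inv_cancel, mul_one]

/-- `diag(λ,λ⁻¹) l(t) diag(λ,λ⁻¹)⁻¹ = l(λ⁻² t)` -/
theorem diagT_conj_unipL (l : Fˣ) (t : F) :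
    (diagT l * unipL t * (diagT l)⁻¹ : SpecialLinearGroup (Fin 2) F) = unipL ((((l⁻¹ : Fˣ) : F)) ^ 2 * t) := by
  have h : (diagT l * unipL t : SpecialLinearGroup (Fin 2) F) = unipL ((((l⁻¹ : Fˣ) : F)) ^ 2 * t) * diagT l := by
    apply Subtype.ext
    rw [Matrix.SpecialLinearGroup.coe_mul, Matrix.SpecialLinearGroup.coe_mul, diagT_coe, unipL_coe, unipL_coe]
    ext i j
    fin_cases i <;> fin_cases j <;> simp [Matrix.mul_apply, Fin.sum_univ_two]
    field_simp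
  rw [h, mul_assoc, mul_inv_cancel, mul_one]

/-- `w u(t) w⁻¹ = l(-t)` -/
theorem weylW_conj_unipU (t : F) :
    (weylW * unipU t * weylW⁻¹ : SpecialLinearGroup (Fin 2) F) = unipL (-t) := by
  have h : (weylW * unipU t : SpecialLinearGroup (Fin 2) F) = unipL (-t) * weylW := by
    apply Subtype.ext
    rw [Matrix.SpecialLinearGroup.coe_mul, Matrix.SpecialLinearGroup.coe_mul, weylW_coe, unipL_coe, unipU_coe]
    ext i j
    fin_cases i <;> fin_cases j <;> simp [Matrix.mul_apply, Fin.sum_univ_two]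
  rw [h, mul_assoc, mul_inv_cancel, mul_one]

/-- `w diag(λ,λ⁻¹) w⁻¹ = diag(λ⁻¹,λ)` -/
theorem weylW_conj_diagT (l : Fˣ) :
    (weylW * diagT l * weylW⁻¹ : SpecialLinearGroup (Fin 2) F) = diagT l⁻¹ := by
  have h : (weylW * diagT l : SpecialLinearGroup (Fin 2) F) = diagT l⁻¹ * weylW := by
    apply Subtype.ext
    rw [Matrix.SpecialLinearGroup.coe_mul, Matrix.SpecialLinearGroup.coe_mul, weylW_coe, diagT_coe, diagT_coe]
    ext i j
    fin_cases i <;> fin_cases j <;> simp [Matrix.mul_apply, Fin.sum_univ_two]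
  rw [h, mul_assoc, mul_inv_cancel, mul_one]

namespace SL2Pkg

variable [Fintype F] (K : SL2Pkg V A E F ρ ψ)
include K

theorem conj_mem_V {e v : G} (he : e ∈ E) (hv : v ∈ V) : e * v * e⁻¹ ∈ V :=
  Cfsg.Agent.Helper26.conj_mem_of_mem_normalizer (K.hEV he) hv

theorem pco_conj {e v : G} (he : e ∈ E) (hv : v ∈ V) :
    pco ψ (e * v * e⁻¹) =
      ((ρ ⟨e, he⟩ : SpecialLinearGroup (Fin 2) F) : Matrix (Fin 2) (Fin 2) F).mulVec (pco ψ v) := by
  rw [pco_of_mem (K.conj_mem_V he hv), pco_of_mem hv]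
  exact K.equiv ⟨e, he⟩ ⟨v, hv⟩ (K.conj_mem_V he hv)

theorem pco_pel_conj (g : SpecialLinearGroup (Fin 2) F) {v : G} (hv : v ∈ V) :
    pco ψ (pel ρ g * v * (pel ρ g)⁻¹) = (g : Matrix (Fin 2) (Fin 2) F).mulVec (pco ψ v) := by
  rw [K.pco_conj (pel_mem g) hv, rho_pel]

theorem pco_eq_zero {v : G} (hv : v ∈ V) : pco ψ v = 0 ↔ v ∈ fixV V E := by
  rw [pco_of_mem hv, ← K.ker ⟨v, hv⟩]
  constructor
  · intro h
    apply Multiplicative.toAdd.injective
    exact h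
  · intro h
    rw [h]; rfl

theorem pco_surj (x : Fin 2 → F) : ∃ v ∈ V, pco ψ v = x := by
  obtain ⟨v, hv⟩ := K.surj (Multiplicative.ofAdd x)
  refine ⟨v, v.2, ?_⟩
  rw [pco_of_mem v.2]
  have : (⟨(v : G), v.2⟩ : ↥V) = v := rfl
  rw [this, hv]; rfl

theorem pco_eq_iff {v w : G} (hv : v ∈ V) (hw : w ∈ V) : pco ψ v = pco ψ w ↔ v * w⁻¹ ∈ fixV V E := by
  rw [← K.pco_eq_zero (V.mul_mem hv (V.inv_mem hw)), pco_mul hv (V.inv_mem hw), pco_inv hw, ← sub_eq_add_neg,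
    sub_eq_zero]

theorem fixE_le : fixV V E ≤ V := fix_le V E

theorem mem_A_iff {e : G} (he : e ∈ E) : e ∈ A ↔ ∃ t : F, ρ ⟨e, he⟩ = unipU t := by
  rw [K.unip ⟨e, he⟩]
  constructor
  · rintro ⟨t, ht⟩
    exact ⟨t, Subtype.ext ht⟩
  · rintro ⟨t, ht⟩
    exact ⟨t, by rw [ht]; rfl⟩

theorem pel_unipU_mem (t : F) : pel ρ (unipU t) ∈ A := by
  rw [K.mem_A_iff (pel_mem _)]
  exact ⟨t, rho_pel _⟩

theorem exists_of_mem_A {a : G} (ha : a ∈ A) : ∃ t : F, a = pel ρ (unipU t) := by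
  obtain ⟨t, ht⟩ := (K.mem_A_iff (K.hAE ha)).mp ha
  refine ⟨t, ?_⟩
  rw [← ht, pel_rho]

/-- easy half of `U_A = ψ⁻¹(F e₁)` -/
theorem pco_of_mem_fixA {v : G} (h : v ∈ fixV V A) : pco ψ v 1 = 0 := by
  have hv : v ∈ V := fix_le V A h
  have ha : pel ρ (unipU (1 : F)) ∈ A := K.pel_unipU_mem 1
  have hco := K.pco_pel_conj (unipU (1 : F)) hv
  rw [unipU_mulVec] at hco
  have h1 := (mem_fix.mp h).2 _ ha
  have h2 : pel ρ (unipU (1 : F)) * v * (pel ρ (unipU (1 : F)))⁻¹ = v := by rw [h1]; group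
  rw [h2] at hco
  have h3 := congrFun hco 0
  simp at h3
  exact h3

/-- easy half of `U_{gAg⁻¹} = ψ⁻¹(F g e₁)` -/
theorem pco_of_mem_fix_cj (g : SpecialLinearGroup (Fin 2) F) {v : G} (h : v ∈ fixV V (cjs (pel ρ g) A)) :
    ((g⁻¹ : SpecialLinearGroup (Fin 2) F) : Matrix (Fin 2) (Fin 2) F).mulVec (pco ψ v) 1 = 0 := by
  have hv : v ∈ V := fix_le V _ h
  have hgN : pel ρ g ∈ Subgroup.normalizer (V : Set G) := K.hEV (pel_mem g)
  rw [cj_fix A hgN, cj_mem] at h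
  have h1 : (pel ρ g)⁻¹ * v * pel ρ g = pel ρ g⁻¹ * v * (pel ρ g⁻¹)⁻¹ := by rw [pel_inv, inv_inv]
  rw [h1] at h
  have h2 := K.pco_of_mem_fixA h
  rwa [K.pco_pel_conj g⁻¹ hv] at h2

end SL2Pkg

section SetupLevel

variable [Fintype F] [Finite G] {p : ℕ} [Fact p.Prime]

/-- `STRONG` for `A` itself: `[a,v] ∈ C_V(P)` with `1 ≠ a ∈ A` forces `v ∈ C_V(A)` -/
theorem F3_aux_setup_fix' {V P Mg Tg R A : Subgroup G} (S : Setup p V P Mg Tg R A) {a v : G} (ha : a ∈ A)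
    (ha1 : a ≠ 1) (hv : v ∈ V) (hcomm : ⁅a, v⁆ ∈ fixV V P) : v ∈ fixV V A := by
  obtain ⟨x, hxP, hxM⟩ := S.hMne
  have hx1 : (1 : G)⁻¹ * x ∉ Mg := by rwa [inv_one, one_mul]
  have hmove : a ∉ cjs x Mg := by
    intro h
    have h1 : a ∈ A ⊓ cjs x Mg := ⟨ha, h⟩
    rw [ACEQ S hxP hxM, ACBOT S] at h1
    exact ha1 (Subgroup.mem_bot.mp h1)
  have hV1 : v ∈ V1 V P A := by rw [(NUM S).2.2.1]; exact hv
  have := STRONG S P.one_mem hxP hx1 (by rw [cj_one]; exact ha) hmove hV1 hcomm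
  rwa [cj_one] at this

namespace SL2Pkg

variable (K : SL2Pkg V A E F ρ ψ) {Mg TE RE : Subgroup G} (S : Setup p V E Mg TE RE A)
include K S

/-- `U_A = ψ⁻¹(F e₁)` -/
theorem mem_fixA {v : G} (hv : v ∈ V) : v ∈ fixV V A ↔ pco ψ v 1 = 0 := by
  have ha : pel ρ (unipU (1 : F)) ∈ A := K.pel_unipU_mem 1
  have hco := K.pco_pel_conj (unipU (1 : F)) hv
  rw [unipU_mulVec] at hco
  constructor
  · intro h
    have h1 := (mem_fix.mp h).2 _ ha
    have h2 : pel ρ (unipU (1 : F)) * v * (pel ρ (unipU (1 : F)))⁻¹ = v := by rw [h1]; group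
    rw [h2] at hco
    have h3 := congrFun hco 0
    simp at h3
    exact h3
  · intro h
    have ha1 : pel ρ (unipU (1 : F)) ≠ 1 := by
      rw [Ne, pel_eq_one_iff, ← unipU_zero]
      intro h0
      exact one_ne_zero (unipU_injective h0)
    apply F3_aux_setup_fix' S ha ha1 hv
    have hcv : pel ρ (unipU (1 : F)) * v * (pel ρ (unipU (1 : F)))⁻¹ ∈ V := K.conj_mem_V (pel_mem _) hv
    have h4 : pco ψ (pel ρ (unipU (1 : F)) * v * (pel ρ (unipU (1 : F)))⁻¹) = pco ψ v := by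
      rw [hco]
      funext i
      fin_cases i
      · simp [h]
      · simp
    have h5 := (K.pco_eq_iff hcv hv).mp h4
    rw [commutatorElement_def]
    exact h5

/-- `U_{gAg⁻¹} = ψ⁻¹(F g e₁)` -/
theorem mem_fix_cj (g : SpecialLinearGroup (Fin 2) F) {v : G} (hv : v ∈ V) :
    v ∈ fixV V (cjs (pel ρ g) A) ↔
      ((g⁻¹ : SpecialLinearGroup (Fin 2) F) : Matrix (Fin 2) (Fin 2) F).mulVec (pco ψ v) 1 = 0 := by
  have hgN : pel ρ g ∈ Subgroup.normalizer (V : Set G) := K.hEV (pel_mem g)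
  rw [cj_fix A hgN, cj_mem]
  have h1 : (pel ρ g)⁻¹ * v * pel ρ g = pel ρ g⁻¹ * v * (pel ρ g⁻¹)⁻¹ := by rw [pel_inv, inv_inv]
  rw [h1, K.mem_fixA S (K.conj_mem_V (pel_mem _) hv), K.pco_pel_conj g⁻¹ hv]

/-- TK1: the subgroups `U_{eAe⁻¹}`, `e ∈ E`, cover `V` -/
theorem cover {v : G} (hv : v ∈ V) : ∃ g : SpecialLinearGroup (Fin 2) F, v ∈ fixV V (cjs (pel ρ g) A) := by
  by_cases h0 : pco ψ v = 0
  · refine ⟨1, ?_⟩
    rw [K.mem_fix_cj S 1 hv, h0, Matrix.mulVec_zero]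
    rfl
  · obtain ⟨g₀, hg₀⟩ := PKG_aux_sl2_trans (pco ψ v) h0
    refine ⟨g₀⁻¹, ?_⟩
    rw [K.mem_fix_cj S g₀⁻¹ hv, inv_inv, hg₀]
    rfl

end SL2Pkg

end SetupLevel

end Cfsg.Agent.S3000P
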