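import Mathlib
import Cfsg.Agent.Helper12.S3000PKGco
import Cfsg.Agent.Helper28.S3000Defs

/-! S3000, board `s3000pieces`, piece TOOLc: the torus acts by scalars on the two coordinate lines.
Also the adapter `Coord.toSL2Pkg` (helper28's `Coord` ⇒ helper12's `SL2Pkg`, so that the coordinate calculus of
`Cfsg.Agent.Helper12.S3000PKGco` applies) and the basic facts on `Coord.torus`, `Coord.weyl`. -/

set_option autoImplicit false

namespace Cfsg.Agent.S3000P

open Cfsg.Agent.S2789P Cfsg.Agent.S2999P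
open scoped commutatorElement
open Matrix

variable {G : Type*} [Group G]

/-- helper28's coordinates give a normalised `SL2Pkg` -/
theorem Coord.toSL2Pkg {F : Type} [Field F] [Fintype F] {V A E : Subgroup G} (c : Coord F V A E) (hAE : A ≤ E)
    (hEV : E ≤ Subgroup.normalizer (V : Set G)) (hcard : Fintype.card F = Nat.card ↥A) :
    SL2Pkg V A E F c.ρ c.ψ := by
  refine ⟨hAE, hEV, hcard, c.surj, c.ker, ?_, ?_⟩
  · intro e v hw
    obtain ⟨w, hw', h⟩ := c.eqv e v
    have : w = ⟨(e : G) * (v : G) * (e : G)⁻¹, hw⟩ := Subtype.ext hw'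
    rw [← this]; exact h
  · intro e
    rw [c.hA e]
    constructor
    · rintro ⟨h10, h00⟩
      have hdet := (c.ρ e).2
      rw [Matrix.det_fin_two, h10, h00] at hdet
      simp at hdet
      refine ⟨(c.ρ e : Matrix (Fin 2) (Fin 2) F) 0 1, ?_⟩
      ext i j
      fin_cases i <;> fin_cases j <;> simp [h10, h00, hdet]
    · rintro ⟨t, ht⟩
      rw [ht]; simp

/-- the Weyl element in the `pel` form -/
theorem Coord.weyl_eq {F : Type} [Field F] {V A E : Subgroup G} (c : Coord F V A E) :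
    c.weyl = pel c.ρ (weylW : SpecialLinearGroup (Fin 2) F) := rfl

/-- the diagonal elements lie in the torus -/
theorem Coord.pel_diagT_mem_torus {F : Type} [Field F] {V A E : Subgroup G} (c : Coord F V A E) (l : Fˣ) :
    pel c.ρ (diagT l) ∈ c.torus := by
  refine ⟨⟨pel c.ρ (diagT l), pel_mem _⟩, ?_, rfl⟩
  show c.ρ ⟨pel c.ρ (diagT l), pel_mem _⟩ ∈ diagSL F
  rw [rho_pel]
  constructor <;> simp [diagT_coe]

/-- every element of the torus is diagonal -/
theorem Coord.exists_of_mem_torus {F : Type} [Field F] {V A E : Subgroup G} (c : Coord F V A E) {h : G}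
    (hh : h ∈ c.torus) : ∃ l : Fˣ, h = pel c.ρ (diagT l) := by
  obtain ⟨e, he, rfl⟩ := hh
  have he' : c.ρ e ∈ diagSL F := he
  obtain ⟨h01, h10⟩ := he'
  have hdet := (c.ρ e).2
  rw [Matrix.det_fin_two, h01, h10] at hdet
  simp at hdet
  have h00 : (c.ρ e : Matrix (Fin 2) (Fin 2) F) 0 0 ≠ 0 := by
    intro h0
    rw [h0, zero_mul] at hdet
    exact zero_ne_one hdet
  have h11 : (c.ρ e : Matrix (Fin 2) (Fin 2) F) 1 1 = ((c.ρ e : Matrix (Fin 2) (Fin 2) F) 0 0)⁻¹ :=
    eq_inv_of_mul_eq_one_right hdet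
  refine ⟨Units.mk0 _ h00, ?_⟩
  have h1 : c.ρ e = diagT (Units.mk0 _ h00) := by
    apply Subtype.ext
    rw [diagT_coe]
    ext i j
    fin_cases i <;> fin_cases j <;> simp [h01, h10, h11]
  have h3 : (e : G) = pel c.ρ (c.ρ e) := (pel_rho e.2).symm
  rw [← h1]
  exact h3

variable [Finite G] {p : ℕ} [Fact p.Prime] {V P : Subgroup G} {T : Sylow p ↥P} {M : Subgroup ↥P} {q : ℕ}

/-- TOOLc (M/L): the torus acts by scalars on the two coordinate lines. -/
theorem TOOLc (Hy : Hyp p V P T M) (hq2 : 2 < q) {A E : Subgroup G} (hA : InA p V P q A) (hAE : A ≤ E) (hEP : E ≤ P)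
    {F : Type} [Field F] [Fintype F] (hF : Fintype.card F = q) (c : Coord F V A E) :
    (∃ h₁ ∈ c.torus, ∃ h₂ ∈ c.torus, h₁ ≠ 1 ∧ h₂ ≠ 1 ∧
        ∀ x ∈ fixV V (cjs c.weyl A), (h₁ * x * h₁⁻¹) * (h₂ * x * h₂⁻¹) * x⁻¹ ∈ fixV V E) ∧
      (∀ u ∈ fixV V A, u ∉ fixV V E → ∀ u' ∈ fixV V A, u' ∉ fixV V E → ∃ h ∈ c.torus, h * u * h⁻¹ * u'⁻¹ ∈ fixV V E) := by
  have K : SL2Pkg V A E F c.ρ c.ψ := c.toSL2Pkg hAE (hEP.trans Hy.hPV) (hF.trans hA.card.symm)
  constructor
  · -- `μ₁ + μ₂ = 1` with `μ_i ∉ {0, 1}`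
    have hcard3 : 2 < Fintype.card F := by rw [hF]; exact hq2
    obtain ⟨μ, hμ0, hμ1⟩ : ∃ μ : F, μ ≠ 0 ∧ μ ≠ 1 := by
      classical
      by_contra hcon
      push Not at hcon
      have hsub : (Finset.univ : Finset F) ⊆ {0, 1} := by
        intro x _
        by_cases hx : x = 0
        · simp [hx]
        · simp [hcon x hx]
      have := Finset.card_le_card hsub
      rw [Finset.card_univ] at this
      have h2 : ({0, 1} : Finset F).card ≤ 2 := Finset.card_insert_le _ _
      omega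
    have hν0 : (1 - μ : F) ≠ 0 := sub_ne_zero.mpr (Ne.symm hμ1)
    have hν1 : (1 - μ : F) ≠ 1 := by
      intro h
      apply hμ0
      have : (1 : F) - μ = 1 - 0 := by rw [h, sub_zero]
      exact (sub_right_injective this)
    -- `l_i = μ_i⁻¹`
    set l₁ : Fˣ := (Units.mk0 μ hμ0)⁻¹ with hl₁
    set l₂ : Fˣ := (Units.mk0 (1 - μ) hν0)⁻¹ with hl₂
    have hl₁1 : l₁ ≠ 1 := by
      intro h
      apply hμ1
      have : Units.mk0 μ hμ0 = 1 := by rw [← inv_inv (Units.mk0 μ hμ0), ← hl₁, h, inv_one]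
      have h2 := congrArg (fun u : Fˣ => (u : F)) this
      simpa using h2
    have hl₂1 : l₂ ≠ 1 := by
      intro h
      apply hν1
      have : Units.mk0 (1 - μ) hν0 = 1 := by rw [← inv_inv (Units.mk0 (1 - μ) hν0), ← hl₂, h, inv_one]
      have h2 := congrArg (fun u : Fˣ => (u : F)) this
      simpa using h2
    refine ⟨pel c.ρ (diagT l₁), c.pel_diagT_mem_torus l₁, pel c.ρ (diagT l₂), c.pel_diagT_mem_torus l₂, ?_, ?_, ?_⟩
    · rw [Ne, pel_eq_one_iff, ← diagT_one]
      intro h; exact hl₁1 (diagT_injective h)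
    · rw [Ne, pel_eq_one_iff, ← diagT_one]
      intro h; exact hl₂1 (diagT_injective h)
    · intro x hx
      have hxV : x ∈ V := fix_le V _ hx
      rw [c.weyl_eq] at hx
      have h0 := K.pco_of_mem_fix_cj weylW hx
      -- `pco x 0 = 0`
      have hx0 : pco c.ψ x 0 = 0 := by
        have e1 : ((weylW⁻¹ : SpecialLinearGroup (Fin 2) F) : Matrix (Fin 2) (Fin 2) F) = !![0, -1; 1, 0] := by
          rw [Matrix.SpecialLinearGroup.coe_inv, weylW_coe, Matrix.adjugate_fin_two_of]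
          simp
        rw [e1] at h0
        simpa [Matrix.mulVec, dotProduct, Fin.sum_univ_two] using h0
      have hc1 : pel c.ρ (diagT l₁) * x * (pel c.ρ (diagT l₁))⁻¹ ∈ V := K.conj_mem_V (pel_mem _) hxV
      have hc2 : pel c.ρ (diagT l₂) * x * (pel c.ρ (diagT l₂))⁻¹ ∈ V := K.conj_mem_V (pel_mem _) hxV
      rw [← K.pco_eq_zero (V.mul_mem (V.mul_mem hc1 hc2) (V.inv_mem hxV)),
        pco_mul (V.mul_mem hc1 hc2) (V.inv_mem hxV), pco_mul hc1 hc2, pco_inv hxV, K.pco_pel_conj _ hxV,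
        K.pco_pel_conj _ hxV, diagT_mulVec, diagT_mulVec]
      funext i
      fin_cases i
      · simp [hx0]
      · simp only [hl₁, hl₂, inv_inv, Units.val_mk0, Pi.add_apply, Pi.neg_apply, Pi.zero_apply]
        simp
        ring
  · intro u hu huE u' hu' huE'
    have huV : u ∈ V := fix_le V A hu
    have huV' : u' ∈ V := fix_le V A hu'
    have h1 := K.pco_of_mem_fixA hu
    have h1' := K.pco_of_mem_fixA hu'
    have h0 : pco c.ψ u 0 ≠ 0 := by
      intro h0
      apply huE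
      rw [← K.pco_eq_zero huV]
      funext i
      fin_cases i
      · exact h0
      · exact h1
    have h0' : pco c.ψ u' 0 ≠ 0 := by
      intro h0
      apply huE'
      rw [← K.pco_eq_zero huV']
      funext i
      fin_cases i
      · exact h0
      · exact h1'
    set l : Fˣ := Units.mk0 (pco c.ψ u' 0) h0' * (Units.mk0 (pco c.ψ u 0) h0)⁻¹ with hl
    refine ⟨pel c.ρ (diagT l), c.pel_diagT_mem_torus l, ?_⟩
    have hc1 : pel c.ρ (diagT l) * u * (pel c.ρ (diagT l))⁻¹ ∈ V := K.conj_mem_V (pel_mem _) huV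
    rw [← K.pco_eq_iff hc1 huV', K.pco_pel_conj _ huV, diagT_mulVec]
    funext i
    fin_cases i
    · simp only [hl, Units.val_mul, Units.val_mk0, Units.val_inv_eq_inv_val]
      simp
      field_simp
    · simp [h1, h1']

end Cfsg.Agent.S3000P
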