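import Mathlib
import Cfsg.Agent.Helper12.S3000PKGco
import Cfsg.Agent.Helper28.S3000Defs

/-! S3000, board `s3000pieces`, piece PKG1: the F1 output (`PKG1_core`, `Cfsg.Agent.Helper12.S3000PKG1`) in helper28's final shape:
a package `Pack p V P q A E` with coordinates, based at the point `g M`. -/

set_option autoImplicit false

namespace Cfsg.Agent.S3000P

open Cfsg.Agent.S2789P Cfsg.Agent.S2999P
open scoped commutatorElement
open Matrix

variable {G : Type*} [Group G]

/-- an `SL2Pkg` gives helper28's coordinates -/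
noncomputable def SL2Pkg.toCoord {F : Type} [Field F] [Fintype F] {V A E : Subgroup G}
    {ρ : ↥E ≃* SpecialLinearGroup (Fin 2) F} {ψ : ↥V →* Multiplicative (Fin 2 → F)} (K : SL2Pkg V A E F ρ ψ) :
    Coord F V A E where
  ρ := ρ
  ψ := ψ
  surj := K.surj
  ker := K.ker
  eqv := by
    intro e v
    have hw : (e : G) * (v : G) * (e : G)⁻¹ ∈ V := K.conj_mem_V e.2 v.2
    exact ⟨⟨_, hw⟩, rfl, K.equiv e v hw⟩
  hA := by
    intro e
    rw [K.unip e]
    constructor
    · rintro ⟨t, ht⟩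
      rw [ht]; simp
    · rintro ⟨h10, h00⟩
      have hdet := (ρ e).2
      rw [Matrix.det_fin_two, h10, h00] at hdet
      simp at hdet
      refine ⟨(ρ e : Matrix (Fin 2) (Fin 2) F) 0 1, ?_⟩
      ext i j
      fin_cases i <;> fin_cases j <;> simp [h10, h00, hdet]

variable [Finite G] {p : ℕ} [Fact p.Prime] {V P : Subgroup G} {T : Sylow p ↥P} {M : Subgroup ↥P} {q : ℕ}

/-- PKG1 (L): F1 output ⇒ package with coordinates, based at the point `g M`. -/
theorem PKG1 (Hy : Hyp p V P T M) (hq : MinQ p V P q) {A : Subgroup G} (hA : InA p V P q A) (hAT : A ≤ TT T) :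
    ∃ (E : Subgroup G) (g : G), g ∈ P ∧ Pack p V P q A E ∧ Based (cjs g (MM M)) A E := by
  obtain ⟨E, g, hgP, hAE, hEP, hEM, -, hiii, -, ⟨TE, RE, S⟩, F, iF, iFt, ρ, ψ, K⟩ := PKG1_core Hy hAT hA.so
  have hAM : A ≤ cjs g (MM M) := fun a ha => (S.hTM (S.hAT ha)).1
  -- `M^g ∩ E` normalises `A`
  have hnorm : ∀ e ∈ E, e ∈ cjs g (MM M) → cjs e A = A := by
    intro e heE heM
    have h1 : fixV V (cjs e A) = fixV V A := FIN_spread S ⟨heM, heE⟩
    have heP : e ∈ P := hEP heE
    exact F3_eq_of_fix Hy (cj_le_of_mem heP hA.le) (hA.so.conj (Hy.hPV heP)) hA.le hA.so h1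
  refine ⟨E, g, hgP, ⟨hA, hAE, hEP, ?_, FIN_cva S, ⟨F, iF, iFt, K.card.trans hA.card, ⟨K.toCoord⟩⟩⟩, ⟨hAM, hEM, ?_⟩⟩
  · intro e heE hne
    apply hiii e heE
    intro heM
    exact hne (hnorm e heE heM)
  · intro e heE hfix
    by_contra heM
    have h1 := hiii e heE heM
    rw [hfix, sup_idem] at h1
    apply hEM
    rw [← h1]
    exact hAM

end Cfsg.Agent.S3000P
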