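import Cfsg.Agent.Helper1.S5639Lib
import Cfsg.Agent.Helper27.S5639RGRP

set_option autoImplicit false

/-! # S5639 piece RCENT (driver helper1; helper12): an element conjugating a non-identity element
of `R` into `R` fixes the point `⟨u₀⟩` (compare a non-zero column of the two rank one matrices). -/

namespace Cfsg.Agent.S5639P

open Matrix
open Cfsg.Agent.Helper28.SLMax Cfsg.Agent.Helper28.SimMax

variable {F : Type*} [Field F] {n : ℕ}

local notation "GLn" => Matrix.GeneralLinearGroup (Fin n) F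
local notation "Mat" => Matrix (Fin n) (Fin n) F

namespace RCENT

/-- RCENT: an element commuting with a non-identity element of `R`, or conjugating a non-identity
element of `R` into `R`, fixes the point `⟨u₀⟩`. -/
theorem fix_of_conj (F₀ : Subfield F) (u₀ : Fin n → F) (hu0 : u₀ ≠ 0) (g a : GLn)
    (ha : a ∈ Rgrp F₀ u₀) (ha1 : a ≠ 1) (hc : g * a * g⁻¹ ∈ Rgrp F₀ u₀) :
    ∃ c : F, (g : Mat) *ᵥ u₀ = c • u₀ := by
  have _ := hu0
  obtain ⟨ψ, -, -, hψ⟩ := (RGRP.mem_Rgrp_iff F₀ u₀ a).mp ha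
  obtain ⟨ψ', -, -, hψ'⟩ := (RGRP.mem_Rgrp_iff F₀ u₀ (g * a * g⁻¹)).mp hc
  -- `ψ ≠ 0`
  have hψ0 : ψ ≠ 0 := by
    intro h0
    apply ha1
    apply Units.ext
    rw [hψ, h0, E_zero_right, Units.val_one]
  -- the conjugate
  have hconj : ((g * a * g⁻¹ : GLn) : Mat) =
      E ((g : Mat) *ᵥ u₀) (ψ ᵥ* ((g⁻¹ : GLn) : Mat)) := by
    rw [← conj_E, ← hψ, Units.val_mul, Units.val_mul]
  rw [hconj] at hψ'
  -- `ψ g⁻¹ ≠ 0`
  have hφ0 : ψ ᵥ* ((g⁻¹ : GLn) : Mat) ≠ 0 := by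
    intro h0
    apply hψ0
    have : ψ = (ψ ᵥ* ((g⁻¹ : GLn) : Mat)) ᵥ* (g : Mat) := by
      rw [Matrix.vecMul_vecMul, ← Units.val_mul, inv_mul_cancel, Units.val_one, Matrix.vecMul_one]
    rw [this, h0, Matrix.zero_vecMul]
  obtain ⟨j, hj⟩ : ∃ j, (ψ ᵥ* ((g⁻¹ : GLn) : Mat)) j ≠ 0 := by
    by_contra hcon
    push Not at hcon
    exact hφ0 (funext hcon)
  refine ⟨ψ' j / (ψ ᵥ* ((g⁻¹ : GLn) : Mat)) j, ?_⟩
  funext i
  have h1 := congrFun (congrFun hψ' i) j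
  unfold E at h1
  simp only [Matrix.add_apply, Matrix.vecMulVec_apply, add_right_inj] at h1
  rw [Pi.smul_apply, smul_eq_mul]
  field_simp
  rw [h1]
  ring

end RCENT

end Cfsg.Agent.S5639P
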