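import Mathlib

set_option autoImplicit false

/-! `SL_n(F)` is transitive on linearly independent `k`-tuples for `k < n`. -/

namespace Cfsg.Agent.Helper12

open Module Matrix

variable {F : Type*} [Field F]

theorem sumExtend_inl {V ι : Type*} [AddCommGroup V] [Module F V] (v : ι → V)
    (hs : LinearIndependent F v) (i : ι) : Basis.sumExtend hs (Sum.inl i) = v i := by
  unfold Basis.sumExtend
  simp only [Basis.reindex_apply, Basis.coe_extend, Trans.trans]
  erw [Equiv.symm_symm]
  rfl

/-- The determinant of a diagonal rescaling of a basis. -/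
theorem det_equiv_unitsSMul {V ι : Type*} [AddCommGroup V] [Module F V] [Fintype ι]
    [DecidableEq ι] (b : Basis ι F V) (w : ι → Fˣ) :
    LinearMap.det ((b.equiv (b.unitsSMul w) (Equiv.refl ι) : V ≃ₗ[F] V) : V →ₗ[F] V) =
      ∏ i, (w i : F) := by
  rw [← LinearMap.det_toMatrix b]
  have : LinearMap.toMatrix b b ((b.equiv (b.unitsSMul w) (Equiv.refl ι) : V ≃ₗ[F] V) : V →ₗ[F] V) =
      Matrix.diagonal (fun i => (w i : F)) := by
    ext i j
    rw [LinearMap.toMatrix_apply]
    simp only [LinearEquiv.coe_coe, Basis.equiv_apply, Equiv.refl_apply, Basis.unitsSMul_apply]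
    rw [Units.smul_def, map_smul, Basis.repr_self, Finsupp.smul_apply, Finsupp.single_apply,
      Matrix.diagonal_apply]
    by_cases h : i = j
    · subst h; simp
    · rw [if_neg (fun h' => h h'.symm), if_neg h]; simp
  rw [this, Matrix.det_diagonal]

/-- `SL_n(F)` is transitive on linearly independent `k`-tuples, `k < n`. -/
theorem exists_sl_map_family {n k : ℕ} (hk : k < n) (s s' : Fin k → (Fin n → F))
    (hs : LinearIndependent F s) (hs' : LinearIndependent F s') :
    ∃ g : Matrix.SpecialLinearGroup (Fin n) F,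
      ∀ i, (g : Matrix (Fin n) (Fin n) F) *ᵥ s i = s' i := by
  classical
  set b := Basis.sumExtend hs with hb
  set b' := Basis.sumExtend hs' with hb'
  have hfin : Finite (Fin k ⊕ Basis.sumExtendIndex hs) := Module.Finite.finite_basis b
  have hfin' : Finite (Fin k ⊕ Basis.sumExtendIndex hs') := Module.Finite.finite_basis b'
  have hJ : Finite (Basis.sumExtendIndex hs) :=
    Finite.of_injective (Sum.inr : _ → Fin k ⊕ Basis.sumExtendIndex hs) Sum.inr_injective
  have hJ' : Finite (Basis.sumExtendIndex hs') :=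
    Finite.of_injective (Sum.inr : _ → Fin k ⊕ Basis.sumExtendIndex hs') Sum.inr_injective
  have : Fintype (Basis.sumExtendIndex hs) := Fintype.ofFinite _
  have : Fintype (Basis.sumExtendIndex hs') := Fintype.ofFinite _
  have hc : Fintype.card (Fin k ⊕ Basis.sumExtendIndex hs) = n := by
    rw [← Module.finrank_eq_card_basis b, Module.finrank_fin_fun]
  have hc' : Fintype.card (Fin k ⊕ Basis.sumExtendIndex hs') = n := by
    rw [← Module.finrank_eq_card_basis b', Module.finrank_fin_fun]
  rw [Fintype.card_sum, Fintype.card_fin] at hc hc'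
  have hcJ : Fintype.card (Basis.sumExtendIndex hs) = Fintype.card (Basis.sumExtendIndex hs') := by
    omega
  obtain ⟨j₀⟩ : Nonempty (Basis.sumExtendIndex hs') := by
    rw [← Fintype.card_pos_iff]; omega
  let ε : Basis.sumExtendIndex hs ≃ Basis.sumExtendIndex hs' := Fintype.equivOfCardEq hcJ
  let T : (Fin n → F) ≃ₗ[F] (Fin n → F) := b.equiv b' (Equiv.sumCongr (Equiv.refl _) ε)
  let δ : Fˣ := LinearEquiv.det T
  let w : Fin k ⊕ Basis.sumExtendIndex hs' → Fˣ := Function.update (fun _ => 1) (Sum.inr j₀) δ⁻¹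
  let D : (Fin n → F) ≃ₗ[F] (Fin n → F) := b'.equiv (b'.unitsSMul w) (Equiv.refl _)
  have hdetD : LinearMap.det (D : (Fin n → F) →ₗ[F] (Fin n → F)) = ((δ⁻¹ : Fˣ) : F) := by
    rw [det_equiv_unitsSMul]
    rw [← Units.coe_prod]
    congr 1
    rw [Finset.prod_update_of_mem (Finset.mem_univ _)]
    simp
  have hdetT : LinearMap.det (T : (Fin n → F) →ₗ[F] (Fin n → F)) = (δ : F) := by
    rw [← LinearEquiv.coe_det]
  let T' : (Fin n → F) →ₗ[F] (Fin n → F) := (D : (Fin n → F) →ₗ[F] (Fin n → F)) ∘ₗ
    (T : (Fin n → F) →ₗ[F] (Fin n → F))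
  have hdet : LinearMap.det T' = 1 := by
    rw [LinearMap.det_comp, hdetD, hdetT, ← Units.val_mul, inv_mul_cancel, Units.val_one]
  refine ⟨⟨LinearMap.toMatrix' T', by rw [LinearMap.det_toMatrix', hdet]⟩, ?_⟩
  intro i
  show LinearMap.toMatrix' T' *ᵥ s i = s' i
  rw [LinearMap.toMatrix'_mulVec]
  have h1 : s i = b (Sum.inl i) := (sumExtend_inl s hs i).symm
  have h2 : s' i = b' (Sum.inl i) := (sumExtend_inl s' hs' i).symm
  rw [h1, h2]
  show D (T (b (Sum.inl i))) = b' (Sum.inl i)
  rw [Basis.equiv_apply, Equiv.sumCongr_apply, Sum.map_inl, Equiv.refl_apply, Basis.equiv_apply,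
    Equiv.refl_apply, Basis.unitsSMul_apply]
  have : w (Sum.inl i) = 1 := by
    simp only [w]
    rw [Function.update_of_ne (by simp)]
  rw [this, one_smul]

end Cfsg.Agent.Helper12
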