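import Cfsg.Agent.Helper1.S5639Lib
import Cfsg.Agent.Helper23.S5639RATSL
import Cfsg.Agent.Helper23.S5639TRANS

set_option autoImplicit false

/-! # S5639 piece ROOTRAT (driver helper1; helper12): `K = F₀` in coordinates gives the coordinate
free statement `RootRat` (move the incident pair to `(e_0, e_1^*)` by a rational element of `M`). -/

namespace Cfsg.Agent.S5639P

open Matrix
open Cfsg.Agent.Helper28.SLMax Cfsg.Agent.Helper28.SimMax

variable {F : Type*} [Field F] {n : ℕ}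

local notation "GLn" => Matrix.GeneralLinearGroup (Fin n) F
local notation "Mat" => Matrix (Fin n) (Fin n) F

namespace ROOTRAT

/-- ROOTRAT: `K = F₀` in coordinates gives the coordinate-free statement (TRANS + RATSL + MS_conj_E). -/
theorem rootRat (F₀ : Subfield F) (hn : 3 ≤ n) (M : Subgroup GLn) (hM : HasRat F₀ M)
    (hK : ∀ i j : Fin n, i ≠ j → ∀ c ∈ Kij M i j, c ∈ F₀) : RootRat F₀ M := by
  intro u ψ c hu hψ hu0 hψ0 hperp hE
  have hij : (⟨0, by omega⟩ : Fin n) ≠ ⟨1, by omega⟩ := by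
    intro h
    have := congrArg Fin.val h
    simp at this
  obtain ⟨g, a, hgR, hgd, haF, ha0, hgu, hgψ⟩ :=
    TRANS.exists_move F₀ hn u ψ hu hψ hu0 hψ0 hperp ⟨0, by omega⟩ ⟨1, by omega⟩ hij
  have hgM : g ∈ M := RATSL.rat_mem F₀ (by omega) M hM g hgR hgd
  have h1 := MS_conj_E g hgM (c • u) ψ hE
  rw [Matrix.mulVec_smul, hgu, hgψ, E_smul_left, smul_smul, ← E_smul_left] at h1
  have h2 : (c * a) • (Pi.single (⟨0, by omega⟩ : Fin n) (1 : F)) =
      Pi.single (⟨0, by omega⟩ : Fin n) (c * a) := by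
    rw [← Pi.single_smul, smul_eq_mul, mul_one]
  rw [h2] at h1
  have h3 : c * a ∈ F₀ := hK _ _ hij (c * a) h1
  have h4 : c = (c * a) * a⁻¹ := by
    rw [mul_assoc, mul_inv_cancel₀ ha0, mul_one]
  rw [h4]
  exact F₀.mul_mem h3 (F₀.inv_mem haF)

end ROOTRAT

end Cfsg.Agent.S5639P
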