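import Mathlib
import Cfsg.Agent.Helper12.PrimeOrderClassA

set_option autoImplicit false

/-! Monic polynomials built from a finite set of irreducible factors of the same degree and
`X - 1`, parametrised by tuples of multiplicities. -/

open Polynomial UniqueFactorizationMonoid

namespace Cfsg.Agent.Helper12.POC

universe u

variable {K : Type u} [Field K]

/-- A finite set of monic irreducible polynomials of the same degree `i`, none of them `X - 1` or
`X`. -/
structure FactorSet (S : Finset K[X]) (i : ℕ) : Prop where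
  monic : ∀ P ∈ S, P.Monic
  irred : ∀ P ∈ S, Irreducible P
  deg : ∀ P ∈ S, P.natDegree = i
  notMem : (X - C 1 : K[X]) ∉ S
  coeff_zero : ∀ P ∈ S, P.coeff 0 ≠ 0

/-- The polynomial attached to a tuple of multiplicities. -/
noncomputable def tuplePoly (S : Finset K[X]) (i n : ℕ) (a : S → ℕ) : K[X] :=
  (X - C 1) ^ (n - i * ∑ P, a P) * ∏ P : S, (P : K[X]) ^ a P

variable {S : Finset K[X]} {i : ℕ}

theorem tuplePoly_monic (hS : FactorSet S i) (n : ℕ) (a : S → ℕ) : (tuplePoly S i n a).Monic := by
  apply Monic.mul
  · exact (monic_X_sub_C 1).pow _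
  · apply monic_prod_of_monic
    intro P _
    exact (hS.monic P P.2).pow _

theorem tuplePoly_natDegree (hS : FactorSet S i) (n : ℕ) (a : S → ℕ) (h : i * ∑ P, a P ≤ n) :
    (tuplePoly S i n a).natDegree = n := by
  have h1 : (∏ P : S, (P : K[X]) ^ a P).Monic := by
    apply monic_prod_of_monic
    intro P _
    exact (hS.monic P P.2).pow _
  rw [tuplePoly, Monic.natDegree_mul ((monic_X_sub_C 1).pow _) h1,
    Monic.natDegree_pow (monic_X_sub_C 1), natDegree_X_sub_C, mul_one,
    natDegree_prod_of_monic Finset.univ (fun P : S => (P : K[X]) ^ a P)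
      (fun P _ => (hS.monic P P.2).pow _)]
  have h2 : ∀ P : S, ((P : K[X]) ^ a P).natDegree = i * a P := by
    intro P
    rw [Monic.natDegree_pow (hS.monic P P.2), hS.deg P P.2, mul_comm]
  rw [Finset.sum_congr rfl (fun P _ => h2 P), ← Finset.mul_sum]
  omega

theorem tuplePoly_coeff_zero (hS : FactorSet S i) (n : ℕ) (a : S → ℕ) :
    (tuplePoly S i n a).coeff 0 ≠ 0 := by
  rw [coeff_zero_eq_eval_zero, tuplePoly, eval_mul, eval_pow, eval_prod]
  apply mul_ne_zero
  · apply pow_ne_zero
    rw [eval_sub, eval_X, eval_C]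
    simp
  · rw [Finset.prod_ne_zero_iff]
    intro P _
    rw [eval_pow]
    apply pow_ne_zero
    rw [← coeff_zero_eq_eval_zero]
    exact hS.coeff_zero P P.2

theorem not_dvd_of_ne {P Q : K[X]} (hP : P.Monic) (hPi : Irreducible P) (hQ : Q.Monic)
    (hQi : Irreducible Q) (hne : P ≠ Q) : ¬ P ∣ Q := fun h =>
  hne (eq_of_monic_of_associated hP hQ (hPi.associated_of_dvd hQi h))

theorem tuplePoly_emultiplicity (hS : FactorSet S i) (n : ℕ) (a : S → ℕ) (P₀ : S) :
    emultiplicity (P₀ : K[X]) (tuplePoly S i n a) = a P₀ := by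
  have hp : Prime (P₀ : K[X]) := (hS.irred P₀ P₀.2).prime
  have h1 : emultiplicity (P₀ : K[X]) (X - C 1) = 0 := by
    rw [emultiplicity_eq_zero]
    apply not_dvd_of_ne (hS.monic P₀ P₀.2) (hS.irred P₀ P₀.2) (monic_X_sub_C 1)
      (irreducible_X_sub_C 1)
    intro h
    exact hS.notMem (h ▸ P₀.2)
  rw [tuplePoly, emultiplicity_mul hp, emultiplicity_pow hp, h1, mul_zero, zero_add,
    Finset.emultiplicity_prod hp]
  rw [Finset.sum_eq_single P₀]
  · exact emultiplicity_pow_self_of_prime hp _
  · intro P _ hne
    rw [emultiplicity_pow hp]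
    have : emultiplicity (P₀ : K[X]) (P : K[X]) = 0 := by
      rw [emultiplicity_eq_zero]
      apply not_dvd_of_ne (hS.monic P₀ P₀.2) (hS.irred P₀ P₀.2) (hS.monic P P.2) (hS.irred P P.2)
      intro h
      exact hne (Subtype.ext h.symm)
    rw [this, mul_zero]
  · intro h
    exact absurd (Finset.mem_univ _) h

theorem tuplePoly_injective (hS : FactorSet S i) (n : ℕ) :
    Function.Injective (tuplePoly S i n) := by
  intro a b hab
  funext P₀
  have h1 := tuplePoly_emultiplicity hS n a P₀
  rw [hab, tuplePoly_emultiplicity hS n b P₀] at h1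
  exact_mod_cast h1.symm

/-- Irreducible factors of a tuple polynomial. -/
theorem dvd_of_irreducible_dvd_tuplePoly (n : ℕ) (a : S → ℕ) (N : K[X])
    (h1 : (X - C 1 : K[X]) ∣ N) (hS' : ∀ P ∈ S, P ∣ N) (Q : K[X]) (hQ : Irreducible Q)
    (hQd : Q ∣ tuplePoly S i n a) : Q ∣ N := by
  have hp : Prime Q := hQ.prime
  rcases hp.dvd_or_dvd hQd with h | h
  · exact (hp.dvd_of_dvd_pow h).trans h1
  · rw [hp.dvd_finsetProd_iff] at h
    obtain ⟨P, _, hP⟩ := h
    exact (hp.dvd_of_dvd_pow hP).trans (hS' P P.2)

/-- Every monic polynomial of degree `n` whose monic irreducible factors are `X - 1` or in `S`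
is a tuple polynomial. -/
theorem exists_tuple (hS : FactorSet S i) (n : ℕ) (f : K[X]) (hf : f.Monic)
    (hfn : f.natDegree = n)
    (hfac : ∀ Q : K[X], Q.Monic → Irreducible Q → Q ∣ f → Q = X - C 1 ∨ Q ∈ S) :
    ∃ a : S → ℕ, i * ∑ P, a P ≤ n ∧ f = tuplePoly S i n a := by
  classical
  have hf0 : f ≠ 0 := hf.ne_zero
  have hmon : ∀ Q ∈ normalizedFactors f, Q.Monic := by
    intro Q hQ
    have h1 := normalize_normalized_factor Q hQ
    rw [← h1]
    exact monic_normalize (irreducible_of_normalized_factor Q hQ).ne_zero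
  have hprod : (normalizedFactors f).prod = f := by
    apply eq_of_monic_of_associated _ hf (prod_normalizedFactors hf0)
    have := monic_multiset_prod_of_monic (normalizedFactors f) id hmon
    rwa [Multiset.map_id] at this
  have hsub : (normalizedFactors f).toFinset ⊆ insert (X - C 1) S := by
    intro Q hQ
    rw [Multiset.mem_toFinset] at hQ
    rw [Finset.mem_insert]
    exact hfac Q (hmon Q hQ) (irreducible_of_normalized_factor Q hQ)
      (dvd_of_mem_normalizedFactors hQ)
  have hcount : f = (X - C 1) ^ (Multiset.count (X - C 1) (normalizedFactors f)) *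
      ∏ P : S, (P : K[X]) ^ (Multiset.count (P : K[X]) (normalizedFactors f)) := by
    conv_lhs => rw [← hprod, Finset.prod_multiset_count]
    rw [Finset.prod_subset hsub, Finset.prod_insert hS.notMem,
      Finset.prod_coe_sort S (fun P => P ^ Multiset.count P (normalizedFactors f))]
    intro Q _ hQ
    rw [Multiset.mem_toFinset] at hQ
    rw [Multiset.count_eq_zero_of_notMem hQ, pow_zero]
  have hdeg : n = Multiset.count (X - C 1) (normalizedFactors f) +
      i * ∑ P : S, Multiset.count (P : K[X]) (normalizedFactors f) := by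
    have h1 : (∏ P : S, (P : K[X]) ^
        (Multiset.count (P : K[X]) (normalizedFactors f))).Monic := by
      apply monic_prod_of_monic
      intro P _
      exact (hS.monic P P.2).pow _
    have h3 := congrArg natDegree hcount
    rw [hfn, Monic.natDegree_mul ((monic_X_sub_C 1).pow _) h1,
      Monic.natDegree_pow (monic_X_sub_C 1), natDegree_X_sub_C, mul_one,
      natDegree_prod_of_monic Finset.univ
        (fun P : S => (P : K[X]) ^ Multiset.count (P : K[X]) (normalizedFactors f))
        (fun P _ => (hS.monic P P.2).pow _)] at h3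
    have h2 : ∀ P : S, ((P : K[X]) ^ Multiset.count (P : K[X]) (normalizedFactors f)).natDegree =
        i * Multiset.count (P : K[X]) (normalizedFactors f) := by
      intro P
      rw [Monic.natDegree_pow (hS.monic P P.2), hS.deg P P.2, mul_comm]
    rw [Finset.sum_congr rfl (fun P _ => h2 P), ← Finset.mul_sum] at h3
    exact h3
  refine ⟨fun P => Multiset.count (P : K[X]) (normalizedFactors f), by dsimp only; omega, ?_⟩
  rw [tuplePoly]
  have : n - i * ∑ P : S, Multiset.count (P : K[X]) (normalizedFactors f) =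
      Multiset.count (X - C 1) (normalizedFactors f) := by omega
  rw [this]
  exact hcount

end Cfsg.Agent.Helper12.POC
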