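import Mathlib
import Cfsg.Agent.Helper12.PrimeOrderClassB

set_option autoImplicit false

/-! The irreducible factors of `X^r - 1` over a finite field, `r` a prime different from the
characteristic. -/

open Polynomial UniqueFactorizationMonoid

namespace Cfsg.Agent.Helper12.POC

universe u

variable {K : Type u} [Field K]

theorem X_sub_one_dvd_X_pow_sub_one (r : ℕ) : (X - C 1 : K[X]) ∣ X ^ r - 1 := by
  rw [dvd_iff_isRoot, IsRoot, eval_sub, eval_pow, eval_X, eval_one, one_pow, sub_self]

theorem exists_factorSet [Fintype K] (p : ℕ) [Fact p.Prime] [CharP K p] (r : ℕ) (hr : r.Prime)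
    (hrp : r ≠ p) :
    ∃ S : Finset K[X], FactorSet S (orderOf ((Fintype.card K : ℕ) : ZMod r)) ∧
      S.card * orderOf ((Fintype.card K : ℕ) : ZMod r) = r - 1 ∧
      (∀ P ∈ S, P ∣ (X ^ r - 1 : K[X])) ∧
      (∀ Q : K[X], Q.Monic → Irreducible Q → Q ∣ (X ^ r - 1 : K[X]) → Q = X - C 1 ∨ Q ∈ S) := by
  classical
  have hp : p.Prime := Fact.out
  have hrf : Fact r.Prime := ⟨hr⟩
  obtain ⟨f, -, hK⟩ := FiniteField.card K p
  have hn : p.Coprime r := (Nat.coprime_primes hp hr).2 (Ne.symm hrp)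
  have hord : orderOf (ZMod.unitOfCoprime (p ^ (f : ℕ)) (hn.pow_left f)) =
      orderOf ((Fintype.card K : ℕ) : ZMod r) := by
    rw [← orderOf_units, ZMod.coe_unitOfCoprime, hK]
  have hΦ0 : cyclotomic r K ≠ 0 := cyclotomic_ne_zero r K
  have hΦ : cyclotomic r K * (X - 1) = X ^ r - 1 := cyclotomic_prime_mul_X_sub_one K r
  have hmem : ∀ P, P ∈ (normalizedFactors (cyclotomic r K)).toFinset ↔
      Irreducible P ∧ normalize P = P ∧ P ∣ cyclotomic r K := by
    intro P
    rw [Multiset.mem_toFinset, mem_normalizedFactors_iff' hΦ0]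
  have hmonic : ∀ P ∈ (normalizedFactors (cyclotomic r K)).toFinset, P.Monic := by
    intro P hP
    rw [hmem] at hP
    rw [← hP.2.1]
    exact monic_normalize hP.1.ne_zero
  have hdvd : ∀ P ∈ (normalizedFactors (cyclotomic r K)).toFinset, P ∣ (X ^ r - 1 : K[X]) := by
    intro P hP
    rw [hmem] at hP
    rw [← hΦ]
    exact hP.2.2.mul_right _
  refine ⟨(normalizedFactors (cyclotomic r K)).toFinset, ⟨hmonic, ?_, ?_, ?_, ?_⟩, ?_, hdvd, ?_⟩
  · intro P hP
    exact ((hmem P).1 hP).1
  · intro P hP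
    rw [Multiset.mem_toFinset] at hP
    rw [← hord]
    exact natDegree_of_mem_normalizedFactors_cyclotomic hK hn hP
  · intro h
    rw [hmem] at h
    have h1 := h.2.2
    rw [dvd_iff_isRoot, IsRoot, eval_one_cyclotomic_prime] at h1
    have h2 : p ∣ r := (CharP.cast_eq_zero_iff K p r).1 h1
    exact hrp ((Nat.prime_dvd_prime_iff_eq hp hr).1 h2).symm
  · intro P hP h0
    have h1 : (X : K[X]) ∣ X ^ r - 1 := (X_dvd_iff.2 h0).trans (hdvd P hP)
    rw [X_dvd_iff, coeff_sub, coeff_X_pow, coeff_one_zero, if_neg hr.pos.ne] at h1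
    simp at h1
  · have h1 := normalizedFactors_cyclotomic_card hK hn
    rw [h1, hord, Nat.totient_prime hr]
    apply Nat.div_mul_cancel
    rw [← hord, ← Nat.totient_prime hr, ← ZMod.card_units_eq_totient r]
    exact orderOf_dvd_card
  · intro Q hQm hQi hQd
    rw [← hΦ] at hQd
    rcases hQi.prime.dvd_or_dvd hQd with h | h
    · right
      rw [hmem]
      exact ⟨hQi, hQm.normalize_eq_self, h⟩
    · left
      have h' : Q ∣ (X - C 1 : K[X]) := by
        rw [map_one]
        exact h
      exact eq_of_monic_of_associated hQm (monic_X_sub_C 1)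
        (hQi.associated_of_dvd (irreducible_X_sub_C 1) h')

end Cfsg.Agent.Helper12.POC
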