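import Mathlib
import Cfsg.Agent.Helper12.PrimeOrderClassD

set_option autoImplicit false

/-! The reciprocal involution `P ↦ P*` on monic polynomials with nonzero constant term, and its
action on tuple polynomials. -/

open Polynomial

namespace Cfsg.Agent.Helper12.SpPrime

universe u

variable {K : Type u} [Field K]

/-- `mirror` as a multiplicative equivalence of `K[X]`. -/
noncomputable def mirrorEquiv : K[X] ≃* K[X] where
  toFun := mirror
  invFun := mirror
  left_inv := mirror_involutive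
  right_inv := mirror_involutive
  map_mul' := fun p q => mirror_mul_of_domain p q

@[simp] theorem mirrorEquiv_apply (P : K[X]) : mirrorEquiv P = P.mirror := rfl

theorem mirror_one' : (1 : K[X]).mirror = 1 := by
  have := mirror_C (1 : K)
  rwa [map_one] at this

theorem mirror_pow' (P : K[X]) (k : ℕ) : (P ^ k).mirror = P.mirror ^ k := by
  have := map_pow (mirrorEquiv (K := K)) P k
  simp only [mirrorEquiv_apply] at this
  exact this

theorem mirror_prod' {ι : Type*} (s : Finset ι) (f : ι → K[X]) :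
    (∏ j ∈ s, f j).mirror = ∏ j ∈ s, (f j).mirror := by
  have := map_prod (mirrorEquiv (K := K)) f s
  simp only [mirrorEquiv_apply] at this
  exact this

theorem mirror_eq_reverse {P : K[X]} (h0 : P.coeff 0 ≠ 0) : P.mirror = P.reverse := by
  rw [mirror, natTrailingDegree_eq_zero.2 (Or.inr h0), pow_zero, mul_one]

/-- The monic reciprocal polynomial. -/
noncomputable def recip (P : K[X]) : K[X] := C (P.coeff 0)⁻¹ * P.mirror

theorem mirror_eq_C_mul_recip {P : K[X]} (h0 : P.coeff 0 ≠ 0) :
    P.mirror = C (P.coeff 0) * recip P := by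
  rw [recip, ← mul_assoc, ← C_mul, mul_inv_cancel₀ h0, map_one, one_mul]

theorem mirror_coeff_zero {P : K[X]} (h0 : P.coeff 0 ≠ 0) : P.mirror.coeff 0 = P.leadingCoeff := by
  rw [mirror_eq_reverse h0, coeff_zero_reverse]

theorem mirror_leadingCoeff' {P : K[X]} (h0 : P.coeff 0 ≠ 0) :
    P.mirror.leadingCoeff = P.coeff 0 := by
  rw [mirror_leadingCoeff, trailingCoeff_eq_coeff_zero h0]

theorem recip_monic {P : K[X]} (h0 : P.coeff 0 ≠ 0) : (recip P).Monic := by
  rw [Monic, recip, leadingCoeff_mul, leadingCoeff_C, mirror_leadingCoeff' h0, inv_mul_cancel₀ h0]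

theorem recip_coeff_zero {P : K[X]} (hP : P.Monic) (h0 : P.coeff 0 ≠ 0) :
    (recip P).coeff 0 = (P.coeff 0)⁻¹ := by
  rw [recip, coeff_C_mul, mirror_coeff_zero h0, hP.leadingCoeff, mul_one]

theorem recip_natDegree {P : K[X]} (h0 : P.coeff 0 ≠ 0) : (recip P).natDegree = P.natDegree := by
  rw [recip, natDegree_C_mul (inv_ne_zero h0), mirror_natDegree]

theorem recip_irreducible {P : K[X]} (hP : Irreducible P) (h0 : P.coeff 0 ≠ 0) :
    Irreducible (recip P) := by
  rw [recip, irreducible_isUnit_mul (isUnit_C.2 (isUnit_iff_ne_zero.2 (inv_ne_zero h0)))]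
  have := (MulEquiv.irreducible_iff (mirrorEquiv (K := K))).2 hP
  rwa [mirrorEquiv_apply] at this

theorem recip_recip {P : K[X]} (hP : P.Monic) (h0 : P.coeff 0 ≠ 0) : recip (recip P) = P := by
  rw [recip, recip_coeff_zero hP h0, inv_inv]
  rw [recip, mirror_mul_of_domain, mirror_C, mirror_mirror, ← mul_assoc, ← C_mul,
    mul_inv_cancel₀ h0, map_one, one_mul]

theorem mirror_X_pow_sub_one (r : ℕ) (hr : 0 < r) :
    (X ^ r - 1 : K[X]).mirror = -(X ^ r - 1) := by
  have h0 : (X ^ r - 1 : K[X]).coeff 0 ≠ 0 := by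
    rw [coeff_sub, coeff_X_pow, coeff_one_zero, if_neg hr.ne]
    simp
  rw [mirror_eq_reverse h0]
  have e : (X ^ r - 1 : K[X]) = X ^ r + C (-1) := by
    rw [map_neg, map_one, sub_eq_add_neg]
  rw [e, reverse_add_C, natDegree_X_pow]
  have e2 : (X ^ r : K[X]).reverse = 1 := by
    have := reverse_mul_X_pow (1 : K[X]) r
    rw [one_mul] at this
    rw [this]
    have h1 := reverse_C (1 : K)
    rwa [map_one] at h1
  rw [e2, map_neg, map_one]
  ring

theorem recip_dvd_X_pow_sub_one {P : K[X]} (h0 : P.coeff 0 ≠ 0) (r : ℕ) (hr : 0 < r)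
    (hd : P ∣ (X ^ r - 1 : K[X])) : recip P ∣ (X ^ r - 1 : K[X]) := by
  have h1 : P.mirror ∣ (X ^ r - 1 : K[X]).mirror := by
    have := map_dvd (mirrorEquiv (K := K)) hd
    rwa [mirrorEquiv_apply, mirrorEquiv_apply] at this
  rw [mirror_X_pow_sub_one r hr, dvd_neg] at h1
  rw [recip]
  exact (IsUnit.mul_left_dvd (isUnit_C.2 (isUnit_iff_ne_zero.2 (inv_ne_zero h0)))).2 h1

theorem recip_X_sub_one : recip (X - C 1 : K[X]) = X - C 1 := by
  have e : (X - C 1 : K[X]) = X ^ 1 - 1 := by rw [pow_one, map_one]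
  have h0 : (X ^ 1 - 1 : K[X]).coeff 0 = -1 := by
    rw [coeff_sub, coeff_X_pow, coeff_one_zero, if_neg (by norm_num)]
    simp
  rw [e, recip, mirror_X_pow_sub_one 1 one_pos, h0, inv_neg, inv_one, map_neg, map_one]
  ring

/-- Evaluation at `1` of a monic irreducible polynomial other than `X - 1`. -/
theorem eval_one_ne_zero {P : K[X]} (hP : P.Monic) (hPi : Irreducible P) (hne : P ≠ X - C 1) :
    P.eval 1 ≠ 0 := by
  intro h
  have h1 : (X - C 1 : K[X]) ∣ P := dvd_iff_isRoot.2 h
  have h2 := (irreducible_X_sub_C (1 : K)).associated_of_dvd hPi h1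
  exact hne (eq_of_monic_of_associated hP (monic_X_sub_C 1) h2.symm)

end Cfsg.Agent.Helper12.SpPrime
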