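import Mathlib
import Cfsg.Agent.Helper12.SpPrimeB

set_option autoImplicit false

/-! The reciprocal permutation of a factor set, and palindromic tuple polynomials. -/

open Polynomial

namespace Cfsg.Agent.Helper12.SpPrime

open Cfsg.Agent.Helper12.POC

universe u

variable {K : Type u} [Field K] {S : Finset K[X]} {i : ℕ}

/-- The reciprocal permutation of a factor set closed under `recip`. -/
noncomputable def starPerm (hS : FactorSet S i) (hc : ∀ P ∈ S, recip P ∈ S) : Equiv.Perm S :=
  Function.Involutive.toPerm (fun P => ⟨recip (P : K[X]), hc P P.2⟩) (by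
    intro P
    apply Subtype.ext
    exact recip_recip (hS.monic P P.2) (hS.coeff_zero P P.2))

theorem starPerm_apply (hS : FactorSet S i) (hc : ∀ P ∈ S, recip P ∈ S) (P : S) :
    ((starPerm hS hc P : S) : K[X]) = recip (P : K[X]) := rfl

theorem starPerm_starPerm (hS : FactorSet S i) (hc : ∀ P ∈ S, recip P ∈ S) (P : S) :
    starPerm hS hc (starPerm hS hc P) = P := by
  apply Subtype.ext
  rw [starPerm_apply, starPerm_apply]
  exact recip_recip (hS.monic P P.2) (hS.coeff_zero P P.2)

/-- Mirror of the `S`-part of a tuple polynomial. -/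
theorem mirror_prod_pow (hS : FactorSet S i) (hc : ∀ P ∈ S, recip P ∈ S) (a : S → ℕ) :
    ∃ u : K, (∏ P : S, (P : K[X]) ^ a P).mirror =
      C u * ∏ P : S, (P : K[X]) ^ a (starPerm hS hc P) := by
  refine ⟨∏ P : S, ((P : K[X]).coeff 0) ^ a P, ?_⟩
  rw [mirror_prod']
  have h1 : ∀ P : S, ((P : K[X]) ^ a P).mirror =
      C (((P : K[X]).coeff 0) ^ a P) * ((starPerm hS hc P : S) : K[X]) ^ a P := by
    intro P
    rw [mirror_pow', mirror_eq_C_mul_recip (hS.coeff_zero P P.2), mul_pow, ← C_pow, starPerm_apply]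
  rw [Finset.prod_congr rfl (fun P _ => h1 P), Finset.prod_mul_distrib, ← map_prod]
  congr 1
  have h2 := Equiv.prod_comp (starPerm hS hc)
    (fun Q : S => (Q : K[X]) ^ a (starPerm hS hc Q))
  rw [← h2]
  apply Finset.prod_congr rfl
  intro P _
  rw [starPerm_starPerm]

theorem sum_comp_starPerm (hS : FactorSet S i) (hc : ∀ P ∈ S, recip P ∈ S) (a : S → ℕ) :
    ∑ P, a (starPerm hS hc P) = ∑ P, a P :=
  Equiv.sum_comp (starPerm hS hc) a

theorem mirror_X_sub_one_pow (k : ℕ) :
    ((X - C 1 : K[X]) ^ k).mirror = C ((-1 : K) ^ k) * (X - C 1) ^ k := by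
  have e : (X - C 1 : K[X]) = X ^ 1 - 1 := by rw [pow_one, map_one]
  rw [mirror_pow', e, mirror_X_pow_sub_one 1 one_pos, neg_eq_neg_one_mul, mul_pow, map_pow, map_neg,
    map_one]

/-- A palindromic tuple polynomial has a `recip`-invariant tuple. -/
theorem tuple_invariant_of_mirror (hS : FactorSet S i) (hc : ∀ P ∈ S, recip P ∈ S) (n : ℕ)
    (a : S → ℕ) (h : (tuplePoly S i n a).mirror = tuplePoly S i n a) :
    (fun P => a (starPerm hS hc P)) = a := by
  obtain ⟨u, hu⟩ := mirror_prod_pow hS hc a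
  have h1 : (tuplePoly S i n a).mirror =
      C ((-1 : K) ^ (n - i * ∑ P, a P) * u) * tuplePoly S i n (fun P => a (starPerm hS hc P)) := by
    rw [tuplePoly, mirror_mul_of_domain, hu, mirror_X_sub_one_pow, tuplePoly,
      sum_comp_starPerm hS hc a, map_mul]
    ring
  rw [h] at h1
  have h2 := congrArg leadingCoeff h1
  rw [leadingCoeff_mul, leadingCoeff_C, (tuplePoly_monic hS n a).leadingCoeff,
    (tuplePoly_monic hS n _).leadingCoeff, mul_one] at h2
  rw [← h2, map_one, one_mul] at h1
  exact (tuplePoly_injective hS n h1).symm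

/-- A `recip`-invariant tuple with even `X - 1` exponent gives a palindromic polynomial. -/
theorem mirror_tuplePoly_of_invariant (hS : FactorSet S i) (hc : ∀ P ∈ S, recip P ∈ S) (n : ℕ)
    (a : S → ℕ) (ha : (fun P => a (starPerm hS hc P)) = a) (hk : Even (n - i * ∑ P, a P)) :
    (tuplePoly S i n a).mirror = tuplePoly S i n a := by
  obtain ⟨u, hu⟩ := mirror_prod_pow hS hc a
  have ha' : ∀ P, a (starPerm hS hc P) = a P := fun P => congrFun ha P
  simp only [ha'] at hu
  have h1 := mirror_eval_one (∏ P : S, (P : K[X]) ^ a P)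
  rw [hu, eval_mul, eval_C] at h1
  have h2 : (∏ P : S, (P : K[X]) ^ a P).eval 1 ≠ 0 := by
    rw [eval_prod]
    apply Finset.prod_ne_zero_iff.2
    intro P _
    rw [eval_pow]
    apply pow_ne_zero
    apply eval_one_ne_zero (hS.monic P P.2) (hS.irred P P.2)
    intro h
    exact hS.notMem (h ▸ P.2)
  have h3 : u = 1 := by
    have : (u - 1) * (∏ P : S, (P : K[X]) ^ a P).eval 1 = 0 := by
      rw [sub_mul, h1, one_mul, sub_self]
    rcases mul_eq_zero.1 this with h | h
    · exact sub_eq_zero.1 h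
    · exact absurd h h2
  rw [h3, map_one, one_mul] at hu
  rw [tuplePoly, mirror_mul_of_domain, hu, mirror_X_sub_one_pow, hk.neg_one_pow, map_one, one_mul]

end Cfsg.Agent.Helper12.SpPrime
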