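import Mathlib
import Cfsg.Agent.Helper12.SpPrimeC

set_option autoImplicit false

/-! Fixed points of the reciprocal involution on the irreducible factors of `X^r - 1`. -/

open Polynomial

namespace Cfsg.Agent.Helper12.SpPrime

universe u

variable {K : Type u} [Field K]

/-- A palindromic polynomial of odd degree vanishes at `-1`. -/
theorem eval_neg_one_of_reverse_eq {P : K[X]} (h : P.reverse = P) (hodd : Odd P.natDegree) :
    P.eval (-1) = 0 := by
  have hc : ∀ k, k ≤ P.natDegree → P.coeff (P.natDegree - k) = P.coeff k := by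
    intro k hk
    conv_rhs => rw [← h, coeff_reverse, revAt_le hk]
  rw [eval_eq_sum_range]
  apply Finset.sum_involution (fun k _ => P.natDegree - k)
  · intro k hk
    rw [Finset.mem_range] at hk
    rw [hc k (by omega)]
    rcases Nat.even_or_odd k with hk2 | hk2
    · have h3 : Odd (P.natDegree - k) := by
        rcases hodd with ⟨a, ha⟩
        rcases hk2 with ⟨b, hb⟩
        exact ⟨a - b, by omega⟩
      rw [hk2.neg_one_pow, h3.neg_one_pow]
      ring
    · have h3 : Even (P.natDegree - k) := by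
        rcases hodd with ⟨a, ha⟩
        rcases hk2 with ⟨b, hb⟩
        exact ⟨a - b, by omega⟩
      rw [hk2.neg_one_pow, h3.neg_one_pow]
      ring
  · intro k hk _ heq
    rw [Finset.mem_range] at hk
    rcases hodd with ⟨a, ha⟩
    omega
  · intro k hk
    rw [Finset.mem_range] at hk ⊢
    omega
  · intro k hk
    rw [Finset.mem_range] at hk
    omega

/-- An irreducible factor of odd degree of `X^r - 1` (`r` odd) other than `X - 1` is not
self-reciprocal. -/
theorem recip_ne_self_of_odd (r : ℕ) (hr : Odd r) {P : K[X]} (hPm : P.Monic)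
    (hPi : Irreducible P) (h0 : P.coeff 0 ≠ 0) (hd : P ∣ (X ^ r - 1 : K[X])) (hne : P ≠ X - C 1)
    (hodd : Odd P.natDegree) : recip P ≠ P := by
  intro h
  have h1 := mirror_eq_C_mul_recip h0
  rw [h] at h1
  have h2 := mirror_eval_one P
  rw [h1, eval_mul, eval_C] at h2
  have h3 : P.eval 1 ≠ 0 := eval_one_ne_zero hPm hPi hne
  have h4 : P.coeff 0 = 1 := by
    have : (P.coeff 0 - 1) * P.eval 1 = 0 := by rw [sub_mul, h2, one_mul, sub_self]
    rcases mul_eq_zero.1 this with h | h
    · exact sub_eq_zero.1 h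
    · exact absurd h h3
  rw [h4, map_one, one_mul, mirror_eq_reverse h0] at h1
  have h5 := eval_neg_one_of_reverse_eq h1 hodd
  have h6 : (X - C (-1) : K[X]) ∣ P := dvd_iff_isRoot.2 h5
  have h7 := (irreducible_X_sub_C (-1 : K)).associated_of_dvd hPi h6
  have h8 : P = X - C (-1) := eq_of_monic_of_associated hPm (monic_X_sub_C _) h7.symm
  have h9 : (X ^ r - 1 : K[X]).eval (-1) = 0 := by
    obtain ⟨Q, hQ⟩ := hd
    rw [hQ, eval_mul, h5, zero_mul]
  rw [eval_sub, eval_pow, eval_X, eval_one, hr.neg_one_pow] at h9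
  have h10 : (-1 : K) = 1 := by
    have : (-1 : K) - 1 = 0 := h9
    exact sub_eq_zero.1 this
  apply hne
  rw [h8, h10]

variable [Fintype K]

/-- Frobenius powers of a root are roots. -/
theorem aeval_pow_card_pow {L : Type*} [CommRing L] [Algebra K L] (P : K[X]) (x : L)
    (hx : aeval x P = 0) (j : ℕ) : aeval (x ^ (Fintype.card K ^ j)) P = 0 := by
  induction j with
  | zero => rwa [pow_zero, pow_one]
  | succ j ih =>
    rw [pow_succ, pow_mul, ← expand_aeval, FiniteField.expand_card, map_pow, ih, zero_pow]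
    exact Fintype.card_ne_zero

/-- If the order of `q` modulo `r` is even, `q^(i/2) ≡ -1`. -/
theorem dvd_pow_half_add_one (q r : ℕ) (hr : r.Prime)
    (hev : Even (orderOf (q : ZMod r))) (hpos : 0 < orderOf (q : ZMod r)) :
    r ∣ q ^ (orderOf (q : ZMod r) / 2) + 1 := by
  have : Fact r.Prime := ⟨hr⟩
  obtain ⟨e, he⟩ := hev
  have he' : orderOf (q : ZMod r) / 2 = e := by omega
  rw [he']
  have h1 : ((q : ZMod r) ^ e) * ((q : ZMod r) ^ e) = 1 := by
    rw [← pow_add, ← he, pow_orderOf_eq_one]
  have h2 : (q : ZMod r) ^ e ≠ 1 := by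
    intro h
    have := orderOf_dvd_of_pow_eq_one h
    have := Nat.le_of_dvd (by omega) this
    omega
  rcases mul_self_eq_one_iff.1 h1 with h | h
  · exact absurd h h2
  · rw [← ZMod.natCast_eq_zero_iff]
    push_cast
    rw [h]
    ring

/-- An irreducible factor of `X^r - 1` is self-reciprocal when the order of `q` modulo `r` is
even. -/
theorem recip_eq_self_of_even (r : ℕ) (hr : r.Prime) {P : K[X]} (hPm : P.Monic)
    (hPi : Irreducible P) (h0 : P.coeff 0 ≠ 0) (hd : P ∣ (X ^ r - 1 : K[X]))
    (hev : Even (orderOf ((Fintype.card K : ℕ) : ZMod r)))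
    (hpos : 0 < orderOf ((Fintype.card K : ℕ) : ZMod r)) : recip P = P := by
  have : Fact (Irreducible P) := ⟨hPi⟩
  set x : AdjoinRoot P := AdjoinRoot.root P with hxdef
  have hx : aeval x P = 0 := by
    rw [AdjoinRoot.aeval_eq, AdjoinRoot.mk_self]
  have hxr : x ^ r = 1 := by
    obtain ⟨Q, hQ⟩ := hd
    have := congrArg (aeval x) hQ
    rw [map_mul, hx, zero_mul, map_sub, map_pow, aeval_X, map_one, sub_eq_zero] at this
    exact this
  obtain ⟨c, hc⟩ := dvd_pow_half_add_one (Fintype.card K) r hr hev hpos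
  set N := Fintype.card K ^ (orderOf ((Fintype.card K : ℕ) : ZMod r) / 2) with hN
  have hz : x ^ N * x = 1 := by
    rw [← pow_succ, hc, pow_mul, hxr, one_pow]
  have hzP : aeval (x ^ N) P = 0 := aeval_pow_card_pow P x hx _
  let _ : Invertible x := ⟨x ^ N, hz, by rw [mul_comm]; exact hz⟩
  have hzR : aeval (x ^ N) (recip P) = 0 := by
    rw [recip, mirror_eq_reverse h0, map_mul]
    have h1 : aeval (x ^ N) P.reverse = 0 := by
      have := (eval₂_reverse_eq_zero_iff (algebraMap K (AdjoinRoot P)) x P).2 hx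
      exact this
    rw [h1, mul_zero]
  have e1 := minpoly.eq_of_irreducible_of_monic hPi hzP hPm
  have e2 := minpoly.eq_of_irreducible_of_monic (recip_irreducible hPi h0) hzR (recip_monic h0)
  exact e2.trans e1.symm

end Cfsg.Agent.Helper12.SpPrime
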