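import Mathlib
import Cfsg.Agent.Helper12.SemisimpleConjB

set_option autoImplicit false

/-! Semisimple isometries of alternating spaces, part A: the adjoint of a polynomial in an
isometry of finite order. -/

open Polynomial Module

namespace Cfsg.Agent.Helper12.SympConj

universe u v

variable {K : Type u} [Field K] {V : Type v} [AddCommGroup V] [Module K V]

/-- The data of an isometry `g` of a bilinear form `B`, with `g ^ M = 1`. -/
structure IsIsom (B : LinearMap.BilinForm K V) (g : Module.End K V) (M : ℕ) : Prop where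
  inv : ∀ x y, B (g x) (g y) = B x y
  pow : g ^ M = 1
  two_le : 2 ≤ M

variable {B : LinearMap.BilinForm K V} {g : Module.End K V} {M : ℕ}

theorem IsIsom.pow_inv (h : IsIsom B g M) (n : ℕ) (x y : V) :
    B ((g ^ n) x) ((g ^ n) y) = B x y := by
  induction n generalizing x y with
  | zero => simp
  | succ n ih =>
    rw [pow_succ, Module.End.mul_apply, Module.End.mul_apply, ih, h.inv]

theorem IsIsom.pow_mul_eq_one (h : IsIsom B g M) (n : ℕ) : g ^ (n * M) = 1 := by
  rw [mul_comm, pow_mul, h.pow, one_pow]

theorem IsIsom.pow_adj (h : IsIsom B g M) (n : ℕ) (x y : V) :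
    B ((g ^ n) x) y = B x ((g ^ (n * (M - 1))) y) := by
  have e : g ^ n * g ^ (n * (M - 1)) = 1 := by
    rw [← pow_add]
    have : n + n * (M - 1) = n * M := by
      have := h.two_le
      obtain ⟨k, rfl⟩ : ∃ k, M = k + 1 := ⟨M - 1, by omega⟩
      simp only [Nat.add_sub_cancel]
      ring
    rw [this, h.pow_mul_eq_one]
  have := h.pow_inv n x ((g ^ (n * (M - 1))) y)
  rw [← this, ← Module.End.mul_apply, e, Module.End.one_apply]

/-- The twist `a(X) ↦ a(X^(M-1))`, the adjoint on polynomials in `g`. -/
noncomputable def tw (M : ℕ) (a : K[X]) : K[X] := expand K (M - 1) a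

theorem tw_mul (a b : K[X]) : tw M (a * b) = tw M a * tw M b := by
  simp only [tw, map_mul]

theorem tw_add (a b : K[X]) : tw M (a + b) = tw M a + tw M b := by
  simp only [tw, map_add]

theorem aeval_tw (g : Module.End K V) (a : K[X]) : aeval g (tw M a) = aeval (g ^ (M - 1)) a := by
  rw [tw, expand_aeval]

theorem IsIsom.pow_sq (h : IsIsom B g M) : g ^ ((M - 1) * (M - 1)) = g := by
  have h2 := h.two_le
  obtain ⟨k, rfl⟩ : ∃ k, M = k + 2 := ⟨M - 2, by omega⟩
  have : (k + 2 - 1) * (k + 2 - 1) = k * (k + 2) + 1 := by
    simp only [show k + 2 - 1 = k + 1 by omega]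
    ring
  rw [this, pow_succ, h.pow_mul_eq_one, one_mul]

theorem IsIsom.aeval_tw_tw (h : IsIsom B g M) (a : K[X]) :
    aeval g (tw M (tw M a)) = aeval g a := by
  rw [aeval_tw, aeval_tw, ← pow_mul, h.pow_sq]

theorem IsIsom.adj (h : IsIsom B g M) (a : K[X]) (x y : V) :
    B (aeval g a x) y = B x (aeval g (tw M a) y) := by
  induction a using Polynomial.induction_on' with
  | add p q hp hq =>
    rw [tw_add, map_add, map_add, LinearMap.add_apply, LinearMap.add_apply, map_add,
      LinearMap.add_apply, map_add, hp, hq]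
  | monomial n c =>
    rw [tw, expand_monomial, aeval_monomial, aeval_monomial, Algebra.algebraMap_eq_smul_one,
      smul_mul_assoc, one_mul, smul_mul_assoc, one_mul, LinearMap.smul_apply, LinearMap.smul_apply,
      map_smul, LinearMap.smul_apply, map_smul, h.pow_adj]

theorem IsIsom.adj' (h : IsIsom B g M) (a : K[X]) (x y : V) :
    B x (aeval g a y) = B (aeval g (tw M a) x) y := by
  rw [h.adj, h.aeval_tw_tw]

/-- Invariant subspaces are invariant under polynomials. -/
theorem aeval_mem {U : Submodule K V} (hU : ∀ x ∈ U, g x ∈ U) (a : K[X]) {x : V} (hx : x ∈ U) :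
    aeval g a x ∈ U := by
  induction a using Polynomial.induction_on' with
  | add p q hp hq =>
    rw [map_add, LinearMap.add_apply]
    exact U.add_mem hp hq
  | monomial n c =>
    rw [aeval_monomial, Algebra.algebraMap_eq_smul_one, smul_mul_assoc, one_mul,
      LinearMap.smul_apply]
    apply U.smul_mem
    clear c
    induction n with
    | zero => simpa using hx
    | succ n ih =>
      rw [pow_succ', Module.End.mul_apply]
      exact hU _ ih

/-- The orthogonal complement of an invariant subspace is invariant. -/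
theorem IsIsom.orthogonal_invariant (h : IsIsom B g M) {U : Submodule K V}
    (hU : ∀ x ∈ U, g x ∈ U) : ∀ y ∈ B.orthogonal U, g y ∈ B.orthogonal U := by
  intro y hy
  rw [LinearMap.BilinForm.mem_orthogonal_iff] at hy ⊢
  intro u hu
  change B u (g y) = 0
  have e1 : B u (g y) = B u (aeval g (X : K[X]) y) := by rw [aeval_X]
  rw [e1, h.adj']
  exact hy _ (aeval_mem hU _ hu)

/-- `g` is injective. -/
theorem IsIsom.injective (h : IsIsom B g M) : Function.Injective g := by
  have : g ^ (M - 1) * g = 1 := by
    rw [← pow_succ]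
    have := h.two_le
    rw [show M - 1 + 1 = M by omega, h.pow]
  intro x y hxy
  have h2 := congrArg (g ^ (M - 1)) hxy
  rwa [← Module.End.mul_apply, ← Module.End.mul_apply, this, Module.End.one_apply,
    Module.End.one_apply] at h2

/-- The restriction of an isometry to an invariant subspace. -/
theorem IsIsom.restrict (h : IsIsom B g M) {U : Submodule K V} (hU : ∀ x ∈ U, g x ∈ U) :
    IsIsom (B.restrict U) (g.restrict hU) M := by
  refine ⟨fun x y => h.inv x y, ?_, h.two_le⟩
  rw [Module.End.pow_restrict]
  apply LinearMap.ext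
  intro x
  apply Subtype.ext
  rw [LinearMap.coe_restrict_apply, h.pow]
  rfl

end Cfsg.Agent.Helper12.SympConj
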