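import Mathlib
import Cfsg.Agent.Helper12.SympConjA
import Cfsg.Agent.Helper12.SemisimpleConjD

set_option autoImplicit false

/-! Semisimple isometries of alternating spaces, part B: cyclic subspaces and isotropy. -/

open Polynomial Module

namespace Cfsg.Agent.Helper12.SympConj

universe u v

variable {K : Type u} [Field K] {V : Type v} [AddCommGroup V] [Module K V]

variable {B : LinearMap.BilinForm K V} {g : Module.End K V} {M : ℕ}

/-- The cyclic subspace generated by `v`. -/
noncomputable abbrev Cyc (g : Module.End K V) (v : V) : Submodule K V :=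
  LinearMap.range (evalAt g v)

theorem cyc_invariant (g : Module.End K V) (v : V) : ∀ x ∈ Cyc g v, g x ∈ Cyc g v :=
  fun _ hx => range_evalAt_mem_invtSubmodule g v hx

theorem mem_cyc_iff (g : Module.End K V) (v x : V) : x ∈ Cyc g v ↔ ∃ a : K[X], aeval g a v = x :=
  Iff.rfl

theorem aeval_mem_cyc (g : Module.End K V) (v : V) (a : K[X]) : aeval g a v ∈ Cyc g v :=
  ⟨a, rfl⟩

theorem self_mem_cyc (g : Module.End K V) (v : V) : v ∈ Cyc g v := self_mem_range_evalAt g v

/-- A cyclic subspace with irreducible annihilator is simple: every nonzero element generates. -/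
theorem exists_aeval_eq_of_mem_cyc {p : K[X]} (hp : Irreducible p) {v : V} (hv : v ≠ 0)
    (hpv : aeval g p v = 0) {y : V} (hy : y ∈ Cyc g v) (hy0 : y ≠ 0) :
    ∃ b : K[X], aeval g b y = v := by
  obtain ⟨a, rfl⟩ := hy
  have hnd : ¬ p ∣ a := by
    intro hd
    apply hy0
    exact (mem_ker_evalAt_iff g hv hp hpv a).2 hd
  obtain ⟨s, t, hst⟩ := (hp.coprime_iff_not_dvd).2 hnd
  refine ⟨t, ?_⟩
  rw [evalAt_apply, ← Module.End.mul_apply, ← map_mul]
  have : t * a = 1 - s * p := by linear_combination hst
  rw [this, map_sub, map_one, map_mul, LinearMap.sub_apply, Module.End.one_apply,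
    Module.End.mul_apply, hpv, map_zero, sub_zero]

/-- Elements killed by `p` in a cyclic subspace killed by `p`. -/
theorem aeval_eq_zero_of_mem_cyc {p : K[X]} {v : V} (hpv : aeval g p v = 0) {y : V}
    (hy : y ∈ Cyc g v) : aeval g p y = 0 := by
  obtain ⟨a, rfl⟩ := hy
  rw [evalAt_apply, ← Module.End.mul_apply, ← map_mul, mul_comm, map_mul, Module.End.mul_apply, hpv,
    map_zero]

/-- The annihilator of a nonzero element of a cyclic subspace with irreducible annihilator. -/
theorem dvd_of_aeval_eq_zero {p : K[X]} (hp : Irreducible p) {y : V} (hy : y ≠ 0)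
    (hpy : aeval g p y = 0) {a : K[X]} (ha : aeval g a y = 0) : p ∣ a :=
  (mem_ker_evalAt_iff g hy hp hpy a).1 ha

/-- The dimension of a cyclic subspace with irreducible annihilator. -/
theorem finrank_cyc {p : K[X]} (hp : Irreducible p) {v : V} (hv : v ≠ 0)
    (hpv : aeval g p v = 0) : finrank K (Cyc g v) = p.natDegree := by
  rw [← (adjoinRootEquiv g hv hp hpv).finrank_eq, (AdjoinRoot.powerBasis hp.ne_zero).finrank,
    AdjoinRoot.powerBasis_dim]

section FD

variable [FiniteDimensional K V]

/-- Isotropy of the kernel of `a(g)` when its adjoint `b(g)` is injective on it. -/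
theorem isotropic_ker (a b : K[X]) (hab : ∀ x y, B x (aeval g b y) = B (aeval g a x) y)
    (hinj : ∀ y, aeval g a y = 0 → aeval g b y = 0 → y = 0) :
    ∀ x y, aeval g a x = 0 → aeval g a y = 0 → B x y = 0 := by
  intro x y hx hy
  have hinv : ∀ z ∈ LinearMap.ker (aeval g a), aeval g b z ∈ LinearMap.ker (aeval g a) := by
    intro z hz
    rw [LinearMap.mem_ker] at hz ⊢
    rw [← Module.End.mul_apply, ← map_mul, mul_comm, map_mul, Module.End.mul_apply, hz, map_zero]
  have hi : Function.Injective ((aeval g b).restrict hinv) := by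
    rw [injective_iff_map_eq_zero]
    rintro ⟨z, hz⟩ h0
    have h1 : aeval g b z = 0 := congrArg Subtype.val h0
    apply Subtype.ext
    exact hinj z (LinearMap.mem_ker.1 hz) h1
  obtain ⟨⟨y', hy'⟩, hyy⟩ := (LinearMap.injective_iff_surjective.1 hi) ⟨y, LinearMap.mem_ker.2 hy⟩
  have e : aeval g b y' = y := congrArg Subtype.val hyy
  rw [← e, hab, hx, LinearMap.map_zero₂]

end FD

end Cfsg.Agent.Helper12.SympConj
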