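import Mathlib
import Cfsg.Agent.Helper12.SympConjB

set_option autoImplicit false

/-! Semisimple isometries of alternating spaces, part C: hyperbolic pieces. -/

open Polynomial Module

namespace Cfsg.Agent.Helper12.SympConj

universe u v

variable {K : Type u} [Field K] {V : Type v} [AddCommGroup V] [Module K V]

variable {B : LinearMap.BilinForm K V} {g : Module.End K V} {M : ℕ}

/-- A hyperbolic piece: an isotropic cyclic subspace `Cyc g v` and an isotropic invariant subspace
`N` in perfect duality. -/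
structure HypPiece (B : LinearMap.BilinForm K V) (g : Module.End K V) (v : V)
    (N : Submodule K V) : Prop where
  invN : ∀ x ∈ N, g x ∈ N
  isoC : ∀ x ∈ Cyc g v, ∀ y ∈ Cyc g v, B x y = 0
  isoN : ∀ x ∈ N, ∀ y ∈ N, B x y = 0
  sepC : ∀ c ∈ Cyc g v, (∀ n ∈ N, B c n = 0) → c = 0
  sepN : ∀ n ∈ N, (∀ c ∈ Cyc g v, B c n = 0) → n = 0
  rank : finrank K N = finrank K (Cyc g v)

theorem isotropic_of_finrank_le_one (hA : B.IsAlt) (S : Submodule K V) (hS : finrank K S ≤ 1)
    [FiniteDimensional K S] : ∀ x ∈ S, ∀ y ∈ S, B x y = 0 := by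
  obtain ⟨e, he⟩ := finrank_le_one_iff.1 hS
  intro x hx y hy
  obtain ⟨c, hc⟩ := he ⟨x, hx⟩
  obtain ⟨d, hd⟩ := he ⟨y, hy⟩
  have hc' : x = c • (e : V) := (congrArg Subtype.val hc).symm
  have hd' : y = d • (e : V) := (congrArg Subtype.val hd).symm
  rw [hc', hd', map_smul, map_smul, LinearMap.smul_apply, hA (e : V), smul_zero, smul_zero]

variable [FiniteDimensional K V]

theorem exists_hypPiece (h : IsIsom B g M) (hA : B.IsAlt) (hnd : B.Nondegenerate)
    (hss : g.IsSemisimple) {p : K[X]} (hp : Irreducible p) {v : V} (hv : v ≠ 0)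
    (hpv : aeval g p v = 0) (hnsd : ¬ (p ∣ tw M p ∧ 2 ≤ p.natDegree)) :
    ∃ N : Submodule K V, HypPiece B g v N := by
  have hC := cyc_invariant g v
  have hCo := h.orthogonal_invariant hC
  have hmem : B.orthogonal (Cyc g v) ∈ g.invtSubmodule := by
    rw [Module.End.mem_invtSubmodule]
    exact fun y hy => hCo y hy
  obtain ⟨N, hNm, hcN⟩ := Module.End.isSemisimple_iff.1 hss _ hmem
  have hN : ∀ x ∈ N, g x ∈ N := fun x hx => hNm hx
  have hsepN : ∀ n ∈ N, (∀ c ∈ Cyc g v, B c n = 0) → n = 0 := by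
    intro n hn hc
    have h1 : n ∈ B.orthogonal (Cyc g v) := by
      rw [LinearMap.BilinForm.mem_orthogonal_iff]
      exact fun c hc' => hc c hc'
    have : n ∈ B.orthogonal (Cyc g v) ⊓ N := ⟨h1, hn⟩
    rw [hcN.inf_eq_bot] at this
    exact (Submodule.mem_bot K).1 this
  have hsepC : ∀ c ∈ Cyc g v, (∀ n ∈ N, B c n = 0) → c = 0 := by
    intro c hc hn
    apply hnd.1
    intro y
    have hy : y ∈ B.orthogonal (Cyc g v) ⊔ N := by rw [hcN.sup_eq_top]; trivial
    obtain ⟨y₁, hy₁, y₂, hy₂, rfl⟩ := Submodule.mem_sup.1 hy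
    rw [map_add, hn y₂ hy₂, add_zero]
    rw [LinearMap.BilinForm.mem_orthogonal_iff] at hy₁
    exact hy₁ c hc
  have hrank : finrank K N = finrank K (Cyc g v) := by
    have e1 := Submodule.finrank_add_eq_of_isCompl hcN
    have e2 := LinearMap.BilinForm.finrank_orthogonal hnd (Cyc g v)
    have e3 := Submodule.finrank_le (Cyc g v)
    omega
  have hpN : ∀ n ∈ N, aeval g (tw M p) n = 0 := by
    intro n hn
    apply hsepN _ (aeval_mem hN _ hn)
    intro c hc
    rw [h.adj', h.aeval_tw_tw, aeval_eq_zero_of_mem_cyc hpv hc, LinearMap.map_zero₂]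
  refine ⟨N, hN, ?_, ?_, hsepC, hsepN, hrank⟩
  · by_cases hd : p ∣ tw M p
    · have hdeg : p.natDegree < 2 := by
        by_contra hcon
        exact hnsd ⟨hd, by omega⟩
      have hfr : finrank K (Cyc g v) ≤ 1 := by rw [finrank_cyc hp hv hpv]; omega
      exact isotropic_of_finrank_le_one hA _ hfr
    · intro x hx y hy
      refine isotropic_ker (B := B) (g := g) p (tw M p) ?_ ?_ x y
        (aeval_eq_zero_of_mem_cyc hpv hx) (aeval_eq_zero_of_mem_cyc hpv hy)
      · intro x y
        rw [h.adj', h.aeval_tw_tw]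
      · intro y h1 h2
        by_contra hy0
        exact hd (dvd_of_aeval_eq_zero hp hy0 h1 h2)
  · by_cases hd : p ∣ tw M p
    · have hdeg : p.natDegree < 2 := by
        by_contra hcon
        exact hnsd ⟨hd, by omega⟩
      have hfr : finrank K N ≤ 1 := by rw [hrank, finrank_cyc hp hv hpv]; omega
      exact isotropic_of_finrank_le_one hA _ hfr
    · intro x hx y hy
      refine isotropic_ker (B := B) (g := g) (tw M p) p ?_ ?_ x y (hpN x hx) (hpN y hy)
      · intro x y
        rw [h.adj']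
      · intro y h1 h2
        by_contra hy0
        exact hd (dvd_of_aeval_eq_zero hp hy0 h2 h1)

end Cfsg.Agent.Helper12.SympConj
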