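import Mathlib
import Cfsg.Agent.Helper12.SympConjC

set_option autoImplicit false

/-! Semisimple isometries of alternating spaces, part D: matching hyperbolic pieces. -/

open Polynomial Module

namespace Cfsg.Agent.Helper12.SympConj

universe u v

variable {K : Type u} [Field K] {V : Type v} [AddCommGroup V] [Module K V]
  {W : Type v} [AddCommGroup W] [Module K W]

/-- A matched pair of nondegenerate invariant pieces of two isometry spaces. -/
structure Piece (B : LinearMap.BilinForm K V) (g : Module.End K V)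
    (B' : LinearMap.BilinForm K W) (h : Module.End K W)
    (U : Submodule K V) (U' : Submodule K W) (φ : U ≃ₗ[K] U') : Prop where
  invU : ∀ x ∈ U, g x ∈ U
  invU' : ∀ x ∈ U', h x ∈ U'
  ndU : ∀ x ∈ U, (∀ y ∈ U, B x y = 0) → x = 0
  ne : U ≠ ⊥
  inter : ∀ (x : U) (hx : g x ∈ U), ((φ ⟨g x, hx⟩ : U') : W) = h (φ x)
  isom : ∀ x y : U, B' (φ x) (φ y) = B x y

variable {B : LinearMap.BilinForm K V} {g : Module.End K V} {M : ℕ}
  {B' : LinearMap.BilinForm K W} {h : Module.End K W}

theorem IsIsom.exists_preimage (hg : IsIsom B g M) {U : Submodule K V} (hU : ∀ x ∈ U, g x ∈ U)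
    {x : V} (hx : x ∈ U) : ∃ x₀ ∈ U, g x₀ = x := by
  refine ⟨aeval g (X ^ (M - 1) : K[X]) x, aeval_mem hU _ hx, ?_⟩
  rw [map_pow, aeval_X, ← Module.End.mul_apply, ← pow_succ']
  have := hg.two_le
  rw [show M - 1 + 1 = M by omega, hg.pow, Module.End.one_apply]

/-- The pairing map `N → Dual C`. -/
noncomputable def pairMap (B : LinearMap.BilinForm K V) (C N : Submodule K V) :
    N →ₗ[K] Module.Dual K C :=
  (LinearMap.lcomp K K C.subtype) ∘ₗ B.flip ∘ₗ N.subtype

theorem pairMap_apply (B : LinearMap.BilinForm K V) (C N : Submodule K V) (n : N) (c : C) :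
    pairMap B C N n c = B c n := rfl

section FD

variable [FiniteDimensional K V] [FiniteDimensional K W]

/-- The pairing equivalence `N ≃ Dual C` of a hyperbolic piece. -/
noncomputable def pairEquiv {v : V} {N : Submodule K V} (hp : HypPiece B g v N) :
    N ≃ₗ[K] Module.Dual K (Cyc g v) :=
  LinearEquiv.ofBijective (pairMap B (Cyc g v) N) (by
    have hinj : Function.Injective (pairMap B (Cyc g v) N) := by
      rw [injective_iff_map_eq_zero]
      intro n hn
      apply Subtype.ext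
      apply hp.sepN n n.2
      intro c hc
      have := LinearMap.congr_fun hn ⟨c, hc⟩
      rwa [pairMap_apply] at this
    refine ⟨hinj, ?_⟩
    have hfr : finrank K N = finrank K (Module.Dual K (Cyc g v)) := by
      rw [Subspace.dual_finrank_eq, hp.rank]
    exact (LinearMap.injective_iff_surjective_of_finrank_eq_finrank hfr).1 hinj)

theorem pairEquiv_apply {v : V} {N : Submodule K V} (hp : HypPiece B g v N) (n : N)
    (c : Cyc g v) : pairEquiv hp n c = B c n := rfl

/-- The dual equivalence `N ≃ N'` induced by `φ₁ : C ≃ C'`. -/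
noncomputable def dualEquiv {v : V} {N : Submodule K V} (hp : HypPiece B g v N)
    {w : W} {N' : Submodule K W} (hp' : HypPiece B' h w N') (φ₁ : Cyc g v ≃ₗ[K] Cyc h w) :
    N ≃ₗ[K] N' :=
  ((pairEquiv hp).trans φ₁.dualMap.symm).trans (pairEquiv hp').symm

theorem dualEquiv_spec {v : V} {N : Submodule K V} (hp : HypPiece B g v N)
    {w : W} {N' : Submodule K W} (hp' : HypPiece B' h w N') (φ₁ : Cyc g v ≃ₗ[K] Cyc h w)
    (c : Cyc g v) (n : N) : B' (φ₁ c) (dualEquiv hp hp' φ₁ n) = B c n := by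
  have e1 : pairEquiv hp' (dualEquiv hp hp' φ₁ n) = φ₁.dualMap.symm (pairEquiv hp n) := by
    simp only [dualEquiv, LinearEquiv.trans_apply, LinearEquiv.apply_symm_apply]
  have e2 : φ₁.dualMap (pairEquiv hp' (dualEquiv hp hp' φ₁ n)) = pairEquiv hp n := by
    rw [e1, LinearEquiv.apply_symm_apply]
  have e3 := LinearMap.congr_fun e2 c
  rwa [LinearEquiv.dualMap_apply, pairEquiv_apply, pairEquiv_apply] at e3

theorem dualEquiv_inter {v : V} {N : Submodule K V} (hp : HypPiece B g v N)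
    {w : W} {N' : Submodule K W} (hp' : HypPiece B' h w N') (φ₁ : Cyc g v ≃ₗ[K] Cyc h w)
    (hg : IsIsom B g M) (hh : IsIsom B' h M)
    (hint : ∀ (x : Cyc g v) (hx : g x ∈ Cyc g v), ((φ₁ ⟨g x, hx⟩ : Cyc h w) : W) = h (φ₁ x))
    (n : N) (hn : g n ∈ N) :
    ((dualEquiv hp hp' φ₁ ⟨g n, hn⟩ : N') : W) = h (dualEquiv hp hp' φ₁ n) := by
  have hmem : ((dualEquiv hp hp' φ₁ ⟨g n, hn⟩ : N') : W) - h (dualEquiv hp hp' φ₁ n) ∈ N' :=
    N'.sub_mem (Subtype.mem _) (hp'.invN _ (Subtype.mem _))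
  have := hp'.sepN _ hmem ?_
  · exact sub_eq_zero.1 this
  intro c' hc'
  obtain ⟨c, hcc⟩ := φ₁.surjective ⟨c', hc'⟩
  have hcc' : c' = ((φ₁ c : Cyc h w) : W) := by rw [hcc]
  rw [hcc']
  obtain ⟨c₀, hc₀, hgc⟩ := hg.exists_preimage (cyc_invariant g v) c.2
  have e1 : c = ⟨g (⟨c₀, hc₀⟩ : Cyc g v), by rw [hgc]; exact c.2⟩ := by
    apply Subtype.ext
    exact hgc.symm
  rw [map_sub, dualEquiv_spec]
  rw [e1, hint ⟨c₀, hc₀⟩, hh.inv, dualEquiv_spec]
  change B (g c₀) (g n) - B c₀ n = 0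
  rw [hg.inv, sub_self]

end FD

end Cfsg.Agent.Helper12.SympConj
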