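import Mathlib
import Cfsg.Agent.Helper12.SympConjD

set_option autoImplicit false

/-! Semisimple isometries of alternating spaces, part E: the matched hyperbolic piece. -/

open Polynomial Module

namespace Cfsg.Agent.Helper12.SympConj

universe u v

variable {K : Type u} [Field K] {V : Type v} [AddCommGroup V] [Module K V]
  {W : Type v} [AddCommGroup W] [Module K W]

/-- The sum map `C × N → V`. -/
noncomputable def sumMap (C N : Submodule K V) : (C × N) →ₗ[K] V := C.subtype.coprod N.subtype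

theorem sumMap_apply (C N : Submodule K V) (x : C × N) : sumMap C N x = (x.1 : V) + (x.2 : V) := by
  simp [sumMap]

theorem sumMap_injective {C N : Submodule K V} (hd : Disjoint C N) :
    Function.Injective (sumMap C N) := by
  rw [injective_iff_map_eq_zero]
  rintro ⟨c, n⟩ hcn
  rw [sumMap_apply] at hcn
  have hc : (c : V) ∈ C ⊓ N := by
    refine ⟨c.2, ?_⟩
    have : (c : V) = -(n : V) := eq_neg_of_add_eq_zero_left hcn
    rw [this]
    exact N.neg_mem n.2
  rw [hd.eq_bot, Submodule.mem_bot] at hc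
  have hn : (n : V) = 0 := by
    simp only [hc, zero_add] at hcn
    exact hcn
  exact Prod.ext (Subtype.ext hc) (Subtype.ext hn)

variable {B : LinearMap.BilinForm K V} {g : Module.End K V} {M : ℕ}
  {B' : LinearMap.BilinForm K W} {h : Module.End K W}

theorem HypPiece.disjoint {v : V} {N : Submodule K V} (hp : HypPiece B g v N) :
    Disjoint (Cyc g v) N := by
  rw [Submodule.disjoint_def]
  intro x hx hxN
  exact hp.sepC x hx (fun n hn => hp.isoN x hxN n hn)

variable [FiniteDimensional K V] [FiniteDimensional K W]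

theorem exists_piece_of_hypPiece {v : V} {N : Submodule K V} (hp : HypPiece B g v N)
    {w : W} {N' : Submodule K W} (hp' : HypPiece B' h w N') (hA : B.IsAlt) (hA' : B'.IsAlt)
    (hg : IsIsom B g M) (hh : IsIsom B' h M) (hv : v ≠ 0) (φ₁ : Cyc g v ≃ₗ[K] Cyc h w)
    (hint : ∀ (x : Cyc g v) (hx : g x ∈ Cyc g v), ((φ₁ ⟨g x, hx⟩ : Cyc h w) : W) = h (φ₁ x)) :
    ∃ (U : Submodule K V) (U' : Submodule K W) (φ : U ≃ₗ[K] U'), Piece B g B' h U U' φ := by
  set φ₂ := dualEquiv hp hp' φ₁ with hφ₂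
  set eV := LinearEquiv.ofInjective (sumMap (Cyc g v) N) (sumMap_injective hp.disjoint) with heV
  set eW := LinearEquiv.ofInjective (sumMap (Cyc h w) N') (sumMap_injective hp'.disjoint) with heW
  have heVa : ∀ x, ((eV x : LinearMap.range (sumMap (Cyc g v) N)) : V) = (x.1 : V) + (x.2 : V) := by
    intro x
    rw [heV, LinearEquiv.ofInjective_apply, sumMap_apply]
  have heWa : ∀ x, ((eW x : LinearMap.range (sumMap (Cyc h w) N')) : W) = (x.1 : W) + (x.2 : W) := by
    intro x
    rw [heW, LinearEquiv.ofInjective_apply, sumMap_apply]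
  set φ := (eV.symm.trans (φ₁.prodCongr φ₂)).trans eW with hφ
  have hφa : ∀ c n, φ (eV (c, n)) = eW (φ₁ c, φ₂ n) := by
    intro c n
    simp only [hφ, LinearEquiv.trans_apply, LinearEquiv.symm_apply_apply,
      LinearEquiv.prodCongr_apply]
  have hskew : ∀ x y, B y x = - B x y := fun x y => (hA.neg_eq x y).symm
  have hskew' : ∀ x y, B' y x = - B' x y := fun x y => (hA'.neg_eq x y).symm
  have hinvU : ∀ x ∈ LinearMap.range (sumMap (Cyc g v) N),
      g x ∈ LinearMap.range (sumMap (Cyc g v) N) := by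
    rintro _ ⟨⟨c, n⟩, rfl⟩
    refine ⟨(⟨g c, cyc_invariant g v c c.2⟩, ⟨g n, hp.invN n n.2⟩), ?_⟩
    rw [sumMap_apply, sumMap_apply, map_add]
  have hinvU' : ∀ x ∈ LinearMap.range (sumMap (Cyc h w) N'),
      h x ∈ LinearMap.range (sumMap (Cyc h w) N') := by
    rintro _ ⟨⟨c, n⟩, rfl⟩
    refine ⟨(⟨h c, cyc_invariant h w c c.2⟩, ⟨h n, hp'.invN n n.2⟩), ?_⟩
    rw [sumMap_apply, sumMap_apply, map_add]
  refine ⟨LinearMap.range (sumMap (Cyc g v) N), LinearMap.range (sumMap (Cyc h w) N'), φ,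
    hinvU, hinvU', ?_, ?_, ?_, ?_⟩
  · rintro _ ⟨⟨c, n⟩, rfl⟩ hx
    rw [sumMap_apply] at hx ⊢
    have hn0 : (n : V) = 0 := by
      apply hp.sepN n n.2
      intro c' hc'
      have := hx c' ⟨(⟨c', hc'⟩, 0), by rw [sumMap_apply]; simp⟩
      simp only at this
      rw [map_add, LinearMap.add_apply, hp.isoC c c.2 c' hc', zero_add] at this
      rw [hskew, this, neg_zero]
    have hc0 : (c : V) = 0 := by
      apply hp.sepC c c.2
      intro n' hn'
      have := hx n' ⟨(0, ⟨n', hn'⟩), by rw [sumMap_apply]; simp⟩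
      simp only at this
      rw [map_add, LinearMap.add_apply, hp.isoN n n.2 n' hn', add_zero] at this
      exact this
    simp only [hn0, hc0, add_zero]
  · intro hbot
    apply hv
    have : v ∈ LinearMap.range (sumMap (Cyc g v) N) :=
      ⟨(⟨v, self_mem_cyc g v⟩, 0), by rw [sumMap_apply]; simp⟩
    rw [hbot] at this
    exact (Submodule.mem_bot K).1 this
  · intro x hx
    obtain ⟨⟨c, n⟩, rfl⟩ := eV.surjective x
    have e1 : (⟨g (eV (c, n)), hx⟩ : LinearMap.range (sumMap (Cyc g v) N)) =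
        eV (⟨g c, cyc_invariant g v c c.2⟩, ⟨g n, hp.invN n n.2⟩) := by
      apply Subtype.ext
      have e2 := heVa (c, n)
      have e3 := heVa (⟨g c, cyc_invariant g v c c.2⟩, ⟨g n, hp.invN n n.2⟩)
      simp only at e2 e3
      rw [e3]
      change g ((eV (c, n) : _) : V) = _
      rw [e2, map_add]
    rw [e1, hφa, hφa, heWa, heWa, map_add]
    simp only
    rw [hint c, hφ₂, dualEquiv_inter hp hp' φ₁ hg hh hint n]
  · intro x y
    obtain ⟨⟨c, n⟩, rfl⟩ := eV.surjective x
    obtain ⟨⟨c', n'⟩, rfl⟩ := eV.surjective y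
    rw [hφa, hφa]
    change B' ((eW (φ₁ c, φ₂ n) : _) : W) ((eW (φ₁ c', φ₂ n') : _) : W) =
      B ((eV (c, n) : _) : V) ((eV (c', n') : _) : V)
    rw [heWa, heWa, heVa, heVa]
    simp only [map_add, LinearMap.add_apply]
    rw [hp'.isoC _ (φ₁ c).2 _ (φ₁ c').2, hp'.isoN _ (φ₂ n).2 _ (φ₂ n').2,
      hp.isoC _ c.2 _ c'.2, hp.isoN _ n.2 _ n'.2, hφ₂, dualEquiv_spec,
      hskew' (φ₁ c' : W) (dualEquiv hp hp' φ₁ n : W), dualEquiv_spec, hskew (c' : V) (n : V)]

end Cfsg.Agent.Helper12.SympConj
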