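import Mathlib
import Cfsg.Agent.Helper12.SympConjE

set_option autoImplicit false

/-! Semisimple isometries of alternating spaces, part F: existence of a nondegenerate cyclic
subspace in the self-dual case. -/

open Polynomial Module

namespace Cfsg.Agent.Helper12.SympConj

universe u v

variable {K : Type u} [Field K] {V : Type v} [AddCommGroup V] [Module K V]

variable {B : LinearMap.BilinForm K V} {g : Module.End K V} {M : ℕ}

/-- An irreducible polynomial dividing `X^M - 1` and `X - X^(M-1)` has degree one. -/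
theorem natDegree_lt_two_of_dvd {p : K[X]} (hp : Irreducible p) (hM : 1 ≤ M)
    (h1 : p ∣ X ^ M - 1) (h2 : p ∣ X - X ^ (M - 1)) : p.natDegree < 2 := by
  have h3 : p ∣ (X - C (1 : K)) * (X + C (1 : K)) := by
    have : (X - C (1 : K)) * (X + C (1 : K)) = (X ^ M - 1) + X * (X - X ^ (M - 1)) := by
      have e : (X : K[X]) * X ^ (M - 1) = X ^ M := by
        rw [← pow_succ', show M - 1 + 1 = M by omega]
      simp only [map_one]
      linear_combination e
    rw [this]
    exact dvd_add h1 (Dvd.dvd.mul_left h2 _)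
  rcases hp.prime.dvd_or_dvd h3 with h4 | h4
  · have := natDegree_le_of_dvd h4 (X_sub_C_ne_zero 1)
    rw [natDegree_X_sub_C] at this
    omega
  · have := natDegree_le_of_dvd h4 (X_add_C_ne_zero 1)
    rw [natDegree_X_add_C] at this
    omega

theorem IsIsom.dvd_pow_sub_one (h : IsIsom B g M) {p : K[X]} (hp : Irreducible p) {y : V}
    (hy : y ≠ 0) (hpy : aeval g p y = 0) : p ∣ X ^ M - 1 := by
  apply dvd_of_aeval_eq_zero hp hy hpy
  rw [map_sub, map_pow, aeval_X, map_one, h.pow, sub_self, LinearMap.zero_apply]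

variable [FiniteDimensional K V]

theorem exists_nondeg_cyc (h : IsIsom B g M) (hA : B.IsAlt) (hnd : B.Nondegenerate)
    (hss : g.IsSemisimple) {p : K[X]} (hp : Irreducible p) (hsd : p ∣ tw M p)
    (hdeg : 2 ≤ p.natDegree) {v : V} (hv : v ≠ 0) (hpv : aeval g p v = 0) :
    ∃ z : V, z ≠ 0 ∧ aeval g p z = 0 ∧
      ∀ x ∈ Cyc g z, (∀ y ∈ Cyc g z, B x y = 0) → x = 0 := by
  have hM1 : 1 ≤ M := le_trans (by norm_num) h.two_le
  -- Step 1: a vector of the kernel pairing nontrivially with `v`
  have hKinv : LinearMap.ker (aeval g p) ∈ g.invtSubmodule := by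
    rw [Module.End.mem_invtSubmodule]
    intro y hy
    rw [Submodule.mem_comap, LinearMap.mem_ker] at *
    have : aeval g p (g y) = g (aeval g p y) := by
      have e : aeval g p * g = g * aeval g p := by
        have := (map_mul (aeval g) p X).symm.trans
          ((congrArg (aeval g) (mul_comm p X)).trans (map_mul (aeval g) X p))
        rwa [aeval_X] at this
      rw [← Module.End.mul_apply, e, Module.End.mul_apply]
    rw [this, hy, map_zero]
  obtain ⟨N₀, hN₀m, hcN₀⟩ := Module.End.isSemisimple_iff.1 hss _ hKinv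
  have hN₀ : ∀ x ∈ N₀, g x ∈ N₀ := fun x hx => hN₀m hx
  have hN₀p : ∀ x ∈ N₀, aeval g p x ∈ N₀ := fun x hx => aeval_mem hN₀ p hx
  have hsurj : ∀ y ∈ N₀, ∃ y' ∈ N₀, aeval g p y' = y := by
    have hi : Function.Injective ((aeval g p).restrict hN₀p) := by
      rw [injective_iff_map_eq_zero]
      rintro ⟨z, hz⟩ h0
      have h1 : aeval g p z = 0 := congrArg Subtype.val h0
      have : z ∈ LinearMap.ker (aeval g p) ⊓ N₀ := ⟨LinearMap.mem_ker.2 h1, hz⟩
      rw [hcN₀.inf_eq_bot, Submodule.mem_bot] at this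
      exact Subtype.ext this
    intro y hy
    obtain ⟨⟨y', hy'⟩, hyy⟩ := (LinearMap.injective_iff_surjective.1 hi) ⟨y, hy⟩
    exact ⟨y', hy', congrArg Subtype.val hyy⟩
  obtain ⟨r, hr⟩ := hsd
  have hvN₀ : ∀ y ∈ N₀, B v y = 0 := by
    intro y hy
    obtain ⟨y', -, rfl⟩ := hsurj y hy
    rw [h.adj', hr, mul_comm, map_mul, Module.End.mul_apply, hpv, map_zero, LinearMap.map_zero₂]
  obtain ⟨y₁, hy₁, hvy₁⟩ : ∃ y₁, aeval g p y₁ = 0 ∧ B v y₁ ≠ 0 := by
    by_contra hcon
    push Not at hcon
    apply hv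
    apply hnd.1
    intro y
    have hy : y ∈ LinearMap.ker (aeval g p) ⊔ N₀ := by rw [hcN₀.sup_eq_top]; trivial
    obtain ⟨a, ha, b, hb, rfl⟩ := Submodule.mem_sup.1 hy
    rw [map_add, hcon a (LinearMap.mem_ker.1 ha), hvN₀ b hb, add_zero]
  -- Step 2
  by_contra hcon
  push Not at hcon
  have hself : ∀ z, aeval g p z = 0 → B z (g z) = 0 := by
    intro z hz
    by_cases hz0 : z = 0
    · rw [hz0, LinearMap.map_zero₂]
    obtain ⟨x, hx, hxy, hx0⟩ := hcon z hz0 hz
    obtain ⟨b, hb⟩ := exists_aeval_eq_of_mem_cyc hp hz0 hz hx hx0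
    rw [← hb, h.adj, hb]
    apply hxy
    exact aeval_mem (cyc_invariant g z) _ (cyc_invariant g z z (self_mem_cyc g z))
  have hpol : ∀ x y, aeval g p x = 0 → aeval g p y = 0 → B x (g y) + B y (g x) = 0 := by
    intro x y hx hy
    have h1 := hself (x + y) (by rw [map_add, hx, hy, add_zero])
    have e : B (x + y) (g (x + y)) = B x (g x) + B x (g y) + B y (g x) + B y (g y) := by
      simp only [map_add, LinearMap.add_apply]
      ring
    rw [e, hself x hx, hself y hy] at h1
    linear_combination h1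
  set D : K[X] := X - X ^ (M - 1) with hD
  have hDzero : ∀ x y, aeval g p x = 0 → aeval g p y = 0 → B x (aeval g D y) = 0 := by
    intro x y hx hy
    have h1 := hpol x y hx hy
    have h2 : B y (g x) = - B x ((g ^ (M - 1)) y) := by
      rw [← hA.neg_eq]
      have := h.pow_adj 1 x y
      rw [pow_one, one_mul] at this
      rw [this]
    rw [hD, map_sub, aeval_X, map_pow, aeval_X, LinearMap.sub_apply, map_sub]
    linear_combination h1 - h2
  have hDinv : ∀ z ∈ LinearMap.ker (aeval g p), aeval g D z ∈ LinearMap.ker (aeval g p) := by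
    intro z hz
    rw [LinearMap.mem_ker] at hz ⊢
    rw [← Module.End.mul_apply, ← map_mul, mul_comm, map_mul, Module.End.mul_apply, hz, map_zero]
  have hDi : Function.Injective ((aeval g D).restrict hDinv) := by
    rw [injective_iff_map_eq_zero]
    rintro ⟨z, hz⟩ h0
    have h1 : aeval g D z = 0 := congrArg Subtype.val h0
    apply Subtype.ext
    by_contra hz0
    have hz0' : z ≠ 0 := hz0
    have hzp := LinearMap.mem_ker.1 hz
    have := natDegree_lt_two_of_dvd hp hM1 (h.dvd_pow_sub_one hp hz0' hzp)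
      (dvd_of_aeval_eq_zero hp hz0' hzp h1)
    omega
  obtain ⟨⟨y₃, hy₃⟩, hyy⟩ := (LinearMap.injective_iff_surjective.1 hDi)
    ⟨y₁, LinearMap.mem_ker.2 hy₁⟩
  have e : aeval g D y₃ = y₁ := congrArg Subtype.val hyy
  apply hvy₁
  rw [← e]
  exact hDzero v y₃ hpv (LinearMap.mem_ker.1 hy₃)

end Cfsg.Agent.Helper12.SympConj
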