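import Mathlib
import Cfsg.Agent.Helper12.SympConjF
import Cfsg.Agent.Helper28.Norm

set_option autoImplicit false

/-! Semisimple isometries of alternating spaces, part G: matching nondegenerate cyclic pieces
(the self-dual case), via the surjectivity of the norm. -/

open Polynomial Module

namespace Cfsg.Agent.Helper12.SympConj

universe u v

variable {K : Type u} [Field K] {V : Type v} [AddCommGroup V] [Module K V]

variable {B : LinearMap.BilinForm K V} {g : Module.End K V} {M : ℕ}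

/-- The functional `q ↦ B(v, q(g) v)` on `K[X]/(p)`. -/
noncomputable def lam (B : LinearMap.BilinForm K V) (g : Module.End K V) {v : V} (hv : v ≠ 0)
    {p : K[X]} (hp : Irreducible p) (hpv : aeval g p v = 0) : AdjoinRoot p →ₗ[K] K :=
  (B v) ∘ₗ (Cyc g v).subtype ∘ₗ (adjoinRootEquiv g hv hp hpv : AdjoinRoot p →ₗ[K] Cyc g v)

theorem lam_mk {v : V} (hv : v ≠ 0) {p : K[X]} (hp : Irreducible p) (hpv : aeval g p v = 0)
    (q : K[X]) : lam B g hv hp hpv (AdjoinRoot.mk p q) = B v (aeval g q v) := rfl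

/-- The involution of `K[X]/(p)` induced by `X ↦ X^(M-1)`. -/
noncomputable def sig (M : ℕ) {p : K[X]} (hsd : p ∣ tw M p) : AdjoinRoot p →+* AdjoinRoot p :=
  AdjoinRoot.lift (algebraMap K (AdjoinRoot p)) (AdjoinRoot.root p ^ (M - 1)) (by
    rw [← aeval_def, ← expand_aeval, AdjoinRoot.aeval_eq, AdjoinRoot.mk_eq_zero]
    exact hsd)

theorem sig_mk {p : K[X]} (hsd : p ∣ tw M p) (q : K[X]) :
    sig M hsd (AdjoinRoot.mk p q) = AdjoinRoot.mk p (tw M q) := by
  rw [sig, AdjoinRoot.lift_mk, ← aeval_def, ← expand_aeval, AdjoinRoot.aeval_eq]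
  rfl

theorem IsIsom.sig_sig (hg : IsIsom B g M) {v : V} (hv : v ≠ 0) {p : K[X]} (hp : Irreducible p)
    (hpv : aeval g p v = 0) (hsd : p ∣ tw M p) (l : AdjoinRoot p) :
    sig M hsd (sig M hsd l) = l := by
  obtain ⟨q, rfl⟩ := AdjoinRoot.mk_surjective l
  rw [sig_mk, sig_mk, AdjoinRoot.mk_eq_mk]
  apply dvd_of_aeval_eq_zero hp hv hpv
  rw [map_sub, hg.aeval_tw_tw, sub_self, LinearMap.zero_apply]

theorem IsIsom.sig_ne_id (hg : IsIsom B g M) {v : V} (hv : v ≠ 0) {p : K[X]} (hp : Irreducible p)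
    (hpv : aeval g p v = 0) (hsd : p ∣ tw M p) (hdeg : 2 ≤ p.natDegree) :
    sig M hsd ≠ RingHom.id _ := by
  intro hid
  have h1 := RingHom.congr_fun hid (AdjoinRoot.mk p X)
  rw [sig_mk, RingHom.id_apply, AdjoinRoot.mk_eq_mk] at h1
  have h2 : tw M (X : K[X]) = X ^ (M - 1) := by rw [tw, expand_X]
  rw [h2] at h1
  have h3 : p ∣ X - X ^ (M - 1) := by
    have := dvd_neg.2 h1
    rwa [neg_sub] at this
  have hM1 : 1 ≤ M := le_trans (by norm_num) hg.two_le
  have := natDegree_lt_two_of_dvd hp hM1 (hg.dvd_pow_sub_one hp hv hpv) h3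
  omega

theorem IsIsom.lam_sig (hg : IsIsom B g M) (hA : B.IsAlt) {v : V} (hv : v ≠ 0) {p : K[X]}
    (hp : Irreducible p) (hpv : aeval g p v = 0) (hsd : p ∣ tw M p) (l : AdjoinRoot p) :
    lam B g hv hp hpv (sig M hsd l) = - lam B g hv hp hpv l := by
  obtain ⟨q, rfl⟩ := AdjoinRoot.mk_surjective l
  rw [sig_mk, lam_mk, lam_mk, hg.adj', hg.aeval_tw_tw, hA.neg_eq]

theorem IsIsom.form_eq_lam (hg : IsIsom B g M) {v : V} (hv : v ≠ 0) {p : K[X]}
    (hp : Irreducible p) (hpv : aeval g p v = 0) (hsd : p ∣ tw M p) (a b : K[X]) :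
    B (aeval g a v) (aeval g b v) =
      lam B g hv hp hpv (sig M hsd (AdjoinRoot.mk p a) * AdjoinRoot.mk p b) := by
  rw [sig_mk, ← map_mul, lam_mk, hg.adj, map_mul, Module.End.mul_apply]

theorem exists_lam_ne_zero {v : V} (hv : v ≠ 0) {p : K[X]} (hp : Irreducible p)
    (hpv : aeval g p v = 0) (hndv : ∀ x ∈ Cyc g v, (∀ y ∈ Cyc g v, B x y = 0) → x = 0) :
    ∃ l, lam B g hv hp hpv l ≠ 0 := by
  by_contra hcon
  push Not at hcon
  apply hv
  apply hndv v (self_mem_cyc g v)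
  rintro _ ⟨q, rfl⟩
  exact hcon (AdjoinRoot.mk p q)

end Cfsg.Agent.Helper12.SympConj
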