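import Mathlib
import Cfsg.Agent.Helper12.SympConjG

set_option autoImplicit false

/-! Semisimple isometries of alternating spaces, part H: the matched nondegenerate cyclic piece. -/

open Polynomial Module

namespace Cfsg.Agent.Helper12.SympConj

universe u v

variable {K : Type u} [Field K] {V : Type v} [AddCommGroup V] [Module K V]
  {W : Type v} [AddCommGroup W] [Module K W]

variable {B : LinearMap.BilinForm K V} {g : Module.End K V} {M : ℕ}
  {B' : LinearMap.BilinForm K W} {h : Module.End K W}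

theorem exists_piece_of_nondeg_cyc [Finite K] (hg : IsIsom B g M) (hh : IsIsom B' h M)
    (hA : B.IsAlt) (hA' : B'.IsAlt)
    {p : K[X]} (hp : Irreducible p) (hsd : p ∣ tw M p) (hdeg : 2 ≤ p.natDegree)
    {v : V} (hv : v ≠ 0) (hpv : aeval g p v = 0)
    (hndv : ∀ x ∈ Cyc g v, (∀ y ∈ Cyc g v, B x y = 0) → x = 0)
    {w : W} (hw : w ≠ 0) (hpw : aeval h p w = 0)
    (hndw : ∀ x ∈ Cyc h w, (∀ y ∈ Cyc h w, B' x y = 0) → x = 0) :
    ∃ (U : Submodule K V) (U' : Submodule K W) (φ : U ≃ₗ[K] U'), Piece B g B' h U U' φ := by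
  have : Fact (Irreducible p) := ⟨hp⟩
  have hfd : FiniteDimensional K (AdjoinRoot p) := (AdjoinRoot.powerBasis hp.ne_zero).finite
  have hfin : Finite (AdjoinRoot p) := Module.finite_of_finite K
  set lV := lam B g hv hp hpv with hlV
  set lW := lam B' h hw hp hpw with hlW
  set σ := sig M hsd with hσ
  let Θ : AdjoinRoot p →ₗ[K] Module.Dual K (AdjoinRoot p) :=
    (LinearMap.mul K (AdjoinRoot p)).compr₂ lW
  have hΘ : ∀ t l, Θ t l = lW (t * l) := fun t l => rfl
  obtain ⟨l₀, hl₀⟩ := exists_lam_ne_zero hw hp hpw hndw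
  have hΘinj : Function.Injective Θ := by
    rw [injective_iff_map_eq_zero]
    intro t ht
    by_contra ht0
    apply hl₀
    have := LinearMap.congr_fun ht (t⁻¹ * l₀)
    rw [hΘ, ← mul_assoc, mul_inv_cancel₀ ht0, one_mul] at this
    exact this
  have hΘsurj : Function.Surjective Θ :=
    (LinearMap.injective_iff_surjective_of_finrank_eq_finrank
      (Subspace.dual_finrank_eq).symm).1 hΘinj
  obtain ⟨t, ht⟩ := hΘsurj lV
  have htl : ∀ l, lW (t * l) = lV l := fun l => by rw [← hΘ, ht]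
  obtain ⟨l₁, hl₁⟩ := exists_lam_ne_zero hv hp hpv hndv
  have ht0 : t ≠ 0 := by
    rintro rfl
    apply hl₁
    rw [← htl, zero_mul, map_zero]
  have hσ2 := hg.sig_sig hv hp hpv hsd
  have hfix : σ t = t := by
    have h0 : Θ (t - σ t) = 0 := by
      apply LinearMap.ext
      intro l
      rw [hΘ, LinearMap.zero_apply]
      have e2 : lW (t * σ (σ l)) = lV (σ (σ l)) := htl _
      have e3 : lV (σ (σ l)) = - lV (σ l) := hg.lam_sig hA hv hp hpv hsd _
      have e4 : lW (σ (t * σ l)) = - lW (t * σ l) := hh.lam_sig hA' hw hp hpw hsd _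
      have e5 : lW (t * σ l) = lV (σ l) := htl _
      have e6 : (t - σ t) * l = t * σ (σ l) - σ (t * σ l) := by
        rw [map_mul, hσ2 l]
        ring
      rw [e6, map_sub, e2, e3, e4, e5]
      ring
    have := hΘinj (h0.trans (map_zero Θ).symm)
    exact (sub_eq_zero.1 this).symm
  obtain ⟨u₀, hu₀⟩ := Cfsg.Agent.Helper28.exists_norm_eq σ (hg.sig_ne_id hv hp hpv hsd hdeg)
    hσ2 t ht0 hfix
  obtain ⟨u, rfl⟩ := AdjoinRoot.mk_surjective u₀
  have hw''0 : aeval h u w ≠ 0 := by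
    intro h0
    have hd : p ∣ u := dvd_of_aeval_eq_zero hp hw hpw h0
    apply ht0
    rw [← hu₀, AdjoinRoot.mk_eq_zero.2 hd, zero_mul]
  have hpw'' : aeval h p (aeval h u w) = 0 := aeval_eq_zero_of_mem_cyc hpw (aeval_mem_cyc h w u)
  have heq : LinearMap.ker (evalAt g v) = LinearMap.ker (evalAt h (aeval h u w)) := by
    ext q
    rw [mem_ker_evalAt_iff g hv hp hpv, mem_ker_evalAt_iff h hw''0 hp hpw'']
  refine ⟨Cyc g v, Cyc h (aeval h u w), cyclicEquiv g h v _ heq, cyc_invariant g v,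
    cyc_invariant h _, hndv, ?_, ?_, ?_⟩
  · intro hbot
    apply hv
    have := self_mem_cyc g v
    rw [hbot] at this
    exact (Submodule.mem_bot K).1 this
  · rintro ⟨_, ⟨q, rfl⟩⟩ hx
    have e1 : (⟨g (evalAt g v q), hx⟩ : Cyc g v) = ⟨evalAt g v (X * q), ⟨X * q, rfl⟩⟩ := by
      apply Subtype.ext
      exact (evalAt_X_mul g v q).symm
    rw [e1, cyclicEquiv_apply, cyclicEquiv_apply]
    exact evalAt_X_mul h _ q
  · rintro ⟨_, ⟨a, rfl⟩⟩ ⟨_, ⟨b, rfl⟩⟩
    rw [cyclicEquiv_apply, cyclicEquiv_apply]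
    change B' (aeval h a (aeval h u w)) (aeval h b (aeval h u w)) = B (aeval g a v) (aeval g b v)
    rw [← Module.End.mul_apply, ← map_mul, ← Module.End.mul_apply, ← map_mul,
      hh.form_eq_lam hw hp hpw hsd, hg.form_eq_lam hv hp hpv hsd, ← htl, ← hu₀]
    congr 1
    simp only [map_mul]
    ring

end Cfsg.Agent.Helper12.SympConj
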