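import Mathlib
import Cfsg.Agent.Helper12.SympConjH

set_option autoImplicit false

/-! Semisimple isometries of alternating spaces, part I: the induction. Two semisimple isometries
of nondegenerate alternating spaces over a finite field with the same characteristic polynomial
are conjugate by an isometry. -/

open Polynomial Module

namespace Cfsg.Agent.Helper12.SympConj

universe u v

variable {K : Type u} [Field K] [Finite K]

theorem exists_piece {V : Type v} [AddCommGroup V] [Module K V]
    {W : Type v} [AddCommGroup W] [Module K W] [FiniteDimensional K V] [FiniteDimensional K W]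
    {B : LinearMap.BilinForm K V} {g : Module.End K V} {M : ℕ}
    {B' : LinearMap.BilinForm K W} {h : Module.End K W}
    (hg : IsIsom B g M) (hh : IsIsom B' h M) (hA : B.IsAlt) (hA' : B'.IsAlt)
    (hnd : B.Nondegenerate) (hnd' : B'.Nondegenerate) (hsg : g.IsSemisimple)
    (hsh : h.IsSemisimple) (hc : LinearMap.charpoly g = LinearMap.charpoly h)
    (hV : 0 < finrank K V) :
    ∃ (U : Submodule K V) (U' : Submodule K W) (φ : U ≃ₗ[K] U'), Piece B g B' h U U' φ := by
  have hdeg : (LinearMap.charpoly g).natDegree = finrank K V := LinearMap.charpoly_natDegree g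
  have hnu : ¬ IsUnit (LinearMap.charpoly g) := by
    intro hu
    have := natDegree_eq_zero_of_isUnit hu
    omega
  have hne0 : LinearMap.charpoly g ≠ 0 := (LinearMap.charpoly_monic g).ne_zero
  obtain ⟨p, hp, hpdvd⟩ := WfDvdMonoid.exists_irreducible_factor hnu hne0
  obtain ⟨v, hv0, hv⟩ := exists_ne_zero_aeval_eq_zero g p hp hpdvd
  obtain ⟨w, hw0, hw⟩ := exists_ne_zero_aeval_eq_zero h p hp (hc ▸ hpdvd)
  by_cases hsd : p ∣ tw M p ∧ 2 ≤ p.natDegree
  · obtain ⟨z, hz0, hpz, hndz⟩ := exists_nondeg_cyc hg hA hnd hsg hp hsd.1 hsd.2 hv0 hv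
    obtain ⟨z', hz0', hpz', hndz'⟩ := exists_nondeg_cyc hh hA' hnd' hsh hp hsd.1 hsd.2 hw0 hw
    exact exists_piece_of_nondeg_cyc hg hh hA hA' hp hsd.1 hsd.2 hz0 hpz hndz hz0' hpz' hndz'
  · obtain ⟨N, hN⟩ := exists_hypPiece hg hA hnd hsg hp hv0 hv hsd
    obtain ⟨N', hN'⟩ := exists_hypPiece hh hA' hnd' hsh hp hw0 hw hsd
    have heq : LinearMap.ker (evalAt g v) = LinearMap.ker (evalAt h w) := by
      ext q
      rw [mem_ker_evalAt_iff g hv0 hp hv, mem_ker_evalAt_iff h hw0 hp hw]
    refine exists_piece_of_hypPiece hN hN' hA hA' hg hh hv0 (cyclicEquiv g h v w heq) ?_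
    rintro ⟨_, ⟨q, rfl⟩⟩ hx
    have e1 : (⟨g (evalAt g v q), hx⟩ : Cyc g v) = ⟨evalAt g v (X * q), ⟨X * q, rfl⟩⟩ := by
      apply Subtype.ext
      exact (evalAt_X_mul g v q).symm
    rw [e1, cyclicEquiv_apply, cyclicEquiv_apply]
    exact evalAt_X_mul h _ q

theorem exists_isometry_aux : ∀ (n : ℕ) (V W : Type v) [AddCommGroup V] [Module K V]
    [FiniteDimensional K V] [AddCommGroup W] [Module K W] [FiniteDimensional K W]
    (B : LinearMap.BilinForm K V) (B' : LinearMap.BilinForm K W)
    (g : Module.End K V) (h : Module.End K W) (M : ℕ), finrank K V = n →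
    IsIsom B g M → IsIsom B' h M → B.IsAlt → B'.IsAlt → B.Nondegenerate → B'.Nondegenerate →
    g.IsSemisimple → h.IsSemisimple → LinearMap.charpoly g = LinearMap.charpoly h →
    ∃ φ : V ≃ₗ[K] W, (∀ x, φ (g x) = h (φ x)) ∧ ∀ x y, B' (φ x) (φ y) = B x y := by
  intro n
  induction n using Nat.strong_induction_on with
  | _ n ih =>
  intro V W _ _ _ _ _ _ B B' g h M hn hg hh hA hA' hnd hnd' hsg hsh hc
  have hW : finrank K W = n := by
    rw [← LinearMap.charpoly_natDegree h, ← hc, LinearMap.charpoly_natDegree g, hn]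
  by_cases h0 : n = 0
  · subst h0
    have hsV : Subsingleton V := Module.finrank_zero_iff.1 hn
    have hsW : Subsingleton W := Module.finrank_zero_iff.1 hW
    refine ⟨LinearEquiv.ofSubsingleton V W, fun x => Subsingleton.elim _ _, fun x y => ?_⟩
    rw [Subsingleton.elim x 0, Subsingleton.elim ((LinearEquiv.ofSubsingleton V W) 0) 0,
      LinearMap.map_zero₂, LinearMap.map_zero₂]
  obtain ⟨U, U', φ₁, hP⟩ := exists_piece hg hh hA hA' hnd hnd' hsg hsh hc (by omega)
  have hrefl : B.IsRefl := hA.isRefl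
  have hrefl' : B'.IsRefl := hA'.isRefl
  have hskew : ∀ x y, B y x = - B x y := fun x y => (hA.neg_eq x y).symm
  have hskew' : ∀ x y, B' y x = - B' x y := fun x y => (hA'.neg_eq x y).symm
  have hndU' : ∀ x ∈ U', (∀ y ∈ U', B' x y = 0) → x = 0 := by
    intro x' hx' hy'
    obtain ⟨x, hx⟩ := φ₁.surjective ⟨x', hx'⟩
    have hx0 : (x : V) = 0 := by
      apply hP.ndU x x.2
      intro y hy
      have := hP.isom x ⟨y, hy⟩
      rw [← this, hx]
      exact hy' _ (Subtype.mem _)
    have : x = 0 := Subtype.ext hx0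
    rw [this, map_zero] at hx
    exact (congrArg Subtype.val hx).symm
  have hdisj : Disjoint U (B.orthogonal U) := by
    rw [Submodule.disjoint_def]
    intro x hx hxo
    apply hP.ndU x hx
    intro y hy
    rw [LinearMap.BilinForm.mem_orthogonal_iff] at hxo
    rw [hskew]
    have := hxo y hy
    change B y x = 0 at this
    rw [this, neg_zero]
  have hdisj' : Disjoint U' (B'.orthogonal U') := by
    rw [Submodule.disjoint_def]
    intro x hx hxo
    apply hndU' x hx
    intro y hy
    rw [LinearMap.BilinForm.mem_orthogonal_iff] at hxo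
    rw [hskew']
    have := hxo y hy
    change B' y x = 0 at this
    rw [this, neg_zero]
  have hcU : IsCompl U (B.orthogonal U) :=
    (LinearMap.BilinForm.isCompl_orthogonal_iff_disjoint hrefl).2 hdisj
  have hcU' : IsCompl U' (B'.orthogonal U') :=
    (LinearMap.BilinForm.isCompl_orthogonal_iff_disjoint hrefl').2 hdisj'
  have hU₂ := hg.orthogonal_invariant hP.invU
  have hU₂' := hh.orthogonal_invariant hP.invU'
  -- nondegeneracy of the complements
  have key : ∀ {X : Type v} [AddCommGroup X] [Module K X] [FiniteDimensional K X]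
      (C : LinearMap.BilinForm K X) (hC : C.IsAlt) (hCn : C.Nondegenerate) (S : Submodule K X)
      (hS : IsCompl S (C.orthogonal S)), (C.restrict (C.orthogonal S)).Nondegenerate := by
    intro X _ _ _ C hC hCn S hS
    apply LinearMap.BilinForm.nondegenerate_restrict_of_disjoint_orthogonal C hC.isRefl
    rw [Submodule.disjoint_def]
    intro x hx hxo
    apply hCn.2
    intro y
    have hy : y ∈ S ⊔ C.orthogonal S := by rw [hS.sup_eq_top]; trivial
    obtain ⟨y₁, hy₁, y₂, hy₂, rfl⟩ := Submodule.mem_sup.1 hy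
    rw [LinearMap.BilinForm.mem_orthogonal_iff] at hx hxo
    have e1 : C y₁ x = 0 := hx y₁ hy₁
    have e2 : C y₂ x = 0 := hxo y₂ hy₂
    rw [map_add, LinearMap.add_apply, e1, e2, add_zero]
  have hnd₂ := key B hA hnd U hcU
  have hnd₂' := key B' hA' hnd' U' hcU'
  -- charpoly
  have hint₁ : ∀ x, φ₁ ((g.restrict hP.invU) x) = (h.restrict hP.invU') (φ₁ x) := by
    intro x
    apply Subtype.ext
    exact hP.inter x (hP.invU x x.2)
  have hcp₁ : LinearMap.charpoly (g.restrict hP.invU) = LinearMap.charpoly (h.restrict hP.invU') := by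
    have : h.restrict hP.invU' = φ₁.conj (g.restrict hP.invU) := by
      apply LinearMap.ext
      intro x
      rw [LinearEquiv.conj_apply]
      simp only [LinearMap.coe_comp, LinearEquiv.coe_coe, Function.comp_apply]
      rw [hint₁, LinearEquiv.apply_symm_apply]
    rw [this, LinearEquiv.charpoly_conj]
  have hcp₂ : LinearMap.charpoly (g.restrict hU₂) = LinearMap.charpoly (h.restrict hU₂') := by
    have e1 := charpoly_eq_mul_of_isCompl g hP.invU hU₂ hcU
    have e2 := charpoly_eq_mul_of_isCompl h hP.invU' hU₂' hcU'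
    rw [hc, e2, hcp₁] at e1
    exact (mul_left_cancel₀ (LinearMap.charpoly_monic _).ne_zero e1).symm
  have hlt : finrank K (B.orthogonal U) < n := by
    have e1 := Submodule.finrank_add_eq_of_isCompl hcU
    have e2 : 0 < finrank K U := by
      obtain ⟨x, hx, hx0⟩ := Submodule.exists_mem_ne_zero_of_ne_bot hP.ne
      rw [Module.finrank_pos_iff_exists_ne_zero]
      exact ⟨⟨x, hx⟩, fun h => hx0 (congrArg Subtype.val h)⟩
    omega
  have hm₂ : B.orthogonal U ≤ (B.orthogonal U).comap g := fun x hx => hU₂ x hx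
  have hm₂' : B'.orthogonal U' ≤ (B'.orthogonal U').comap h := fun x hx => hU₂' x hx
  obtain ⟨φ₂, hint₂, hiso₂⟩ := ih _ hlt (B.orthogonal U) (B'.orthogonal U')
    (B.restrict (B.orthogonal U)) (B'.restrict (B'.orthogonal U'))
    (g.restrict hU₂) (h.restrict hU₂') M rfl (hg.restrict hU₂) (hh.restrict hU₂')
    (fun x => hA x) (fun x => hA' x) hnd₂ hnd₂' (hsg.restrict hm₂) (hsh.restrict hm₂') hcp₂
  have hiso₂' : ∀ x y, B' (φ₂ x) (φ₂ y) = B x y := hiso₂
  set eV := Submodule.prodEquivOfIsCompl _ _ hcU with heV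
  set eW := Submodule.prodEquivOfIsCompl _ _ hcU' with heW
  refine ⟨(eV.symm.trans (φ₁.prodCongr φ₂)).trans eW, ?_, ?_⟩
  · intro x
    obtain ⟨⟨a, b⟩, rfl⟩ := eV.surjective x
    have e1 : g (eV (a, b)) = eV ((g.restrict hP.invU) a, (g.restrict hU₂) b) := by
      simp only [heV, Submodule.coe_prodEquivOfIsCompl', map_add]
      rfl
    rw [e1]
    simp only [LinearEquiv.trans_apply, LinearEquiv.symm_apply_apply, LinearEquiv.prodCongr_apply,
      hint₁, hint₂]
    simp only [heW, Submodule.coe_prodEquivOfIsCompl', map_add]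
    rfl
  · intro x y
    obtain ⟨⟨a, b⟩, rfl⟩ := eV.surjective x
    obtain ⟨⟨a', b'⟩, rfl⟩ := eV.surjective y
    simp only [LinearEquiv.trans_apply, LinearEquiv.symm_apply_apply, LinearEquiv.prodCongr_apply]
    simp only [heV, heW, Submodule.coe_prodEquivOfIsCompl', map_add, LinearMap.add_apply]
    have c1 : B' (φ₁ a) (φ₂ b') = 0 := by
      have := (φ₂ b').2
      rw [LinearMap.BilinForm.mem_orthogonal_iff] at this
      exact this _ (φ₁ a).2
    have c2 : B' (φ₁ a') (φ₂ b) = 0 := by
      have := (φ₂ b).2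
      rw [LinearMap.BilinForm.mem_orthogonal_iff] at this
      exact this _ (φ₁ a').2
    have c3 : B a b' = 0 := by
      have := b'.2
      rw [LinearMap.BilinForm.mem_orthogonal_iff] at this
      exact this _ a.2
    have c4 : B a' b = 0 := by
      have := b.2
      rw [LinearMap.BilinForm.mem_orthogonal_iff] at this
      exact this _ a'.2
    rw [c1, c3, hskew' (φ₁ a' : W) (φ₂ b : W), c2, hskew (a' : V) (b : V), c4, hP.isom, hiso₂']

/-- Two semisimple isometries of nondegenerate alternating spaces over a finite field with the same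
characteristic polynomial are conjugate by an isometry. -/
theorem exists_isometry {V W : Type v} [AddCommGroup V] [Module K V]
    [FiniteDimensional K V] [AddCommGroup W] [Module K W] [FiniteDimensional K W]
    {B : LinearMap.BilinForm K V} {B' : LinearMap.BilinForm K W}
    {g : Module.End K V} {h : Module.End K W} {M : ℕ}
    (hg : IsIsom B g M) (hh : IsIsom B' h M) (hA : B.IsAlt) (hA' : B'.IsAlt)
    (hnd : B.Nondegenerate) (hnd' : B'.Nondegenerate)
    (hsg : g.IsSemisimple) (hsh : h.IsSemisimple)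
    (hc : LinearMap.charpoly g = LinearMap.charpoly h) :
    ∃ φ : V ≃ₗ[K] W, (∀ x, φ (g x) = h (φ x)) ∧ ∀ x y, B' (φ x) (φ y) = B x y :=
  exists_isometry_aux _ V W B B' g h M rfl hg hh hA hA' hnd hnd' hsg hsh hc

end Cfsg.Agent.Helper12.SympConj
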