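import Mathlib
import Cfsg.Agent.Helper12.SympConjI
import Cfsg.Agent.Helper28.SympFrame

set_option autoImplicit false

/-! Semisimple elements of `Sp_2n(F)`, `F` finite, with the same characteristic polynomial are
conjugate in `Sp_2n(F)`. -/

open Polynomial Module Matrix

namespace Cfsg.Agent.Helper12.SympConj

universe u

variable {F : Type u} [Field F]

/-- An invertible matrix of finite order prime to the characteristic is semisimple (general index
type). -/
theorem isSemisimple_toLin'_of_pow_eq_one {ι : Type*} [Fintype ι] [DecidableEq ι]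
    (g : Matrix ι ι F) (m : ℕ) (hm : (m : F) ≠ 0) (hgm : g ^ m = 1) :
    Module.End.IsSemisimple (Matrix.toLin' g) := by
  have hsq : Squarefree (X ^ m - C (1 : F)) :=
    (Polynomial.separable_X_pow_sub_C (1 : F) hm one_ne_zero).squarefree
  apply Module.End.isSemisimple_of_squarefree_aeval_eq_zero hsq
  rw [map_sub, map_pow, aeval_X, aeval_C, ← Matrix.toLin'_pow, hgm, Matrix.toLin'_one, map_one]
  exact sub_self _

theorem natCast_ne_zero_of_coprime (p : ℕ) [Fact p.Prime] [CharP F p] {m : ℕ}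
    (hm : m.Coprime p) : (m : F) ≠ 0 := by
  intro h0
  have h1 : p ∣ m := (CharP.cast_eq_zero_iff F p _).1 h0
  have h2 : p ∣ Nat.gcd m p := Nat.dvd_gcd h1 dvd_rfl
  rw [hm] at h2
  exact (Fact.out : p.Prime).one_lt.ne' (Nat.dvd_one.1 h2)

variable [Finite F]

/-- Semisimple symplectic matrices with the same characteristic polynomial are conjugate in the
symplectic group. -/
theorem sp_isConj_of_semisimple (n : ℕ) (g h : Matrix.symplecticGroup (Fin n) F)
    (hsg : Module.End.IsSemisimple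
      (Matrix.toLin' (g : Matrix (Fin n ⊕ Fin n) (Fin n ⊕ Fin n) F)))
    (hsh : Module.End.IsSemisimple
      (Matrix.toLin' (h : Matrix (Fin n ⊕ Fin n) (Fin n ⊕ Fin n) F)))
    (hc : (g : Matrix (Fin n ⊕ Fin n) (Fin n ⊕ Fin n) F).charpoly =
      (h : Matrix (Fin n ⊕ Fin n) (Fin n ⊕ Fin n) F).charpoly) : IsConj g h := by
  have hfin : Finite (Matrix.symplecticGroup (Fin n) F) := Subtype.finite
  set N := Nat.card (Matrix.symplecticGroup (Fin n) F) with hN
  have hNpos : 0 < N := Nat.card_pos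
  have hisom : ∀ a : Matrix.symplecticGroup (Fin n) F,
      IsIsom (Cfsg.Agent.Helper28.SympFrame.sB n F)
        (Matrix.toLin' (a : Matrix (Fin n ⊕ Fin n) (Fin n ⊕ Fin n) F)) (2 * N) := by
    intro a
    refine ⟨?_, ?_, by omega⟩
    · intro x y
      rw [Cfsg.Agent.Helper28.SympFrame.sB_apply, Cfsg.Agent.Helper28.SympFrame.sB_apply, Matrix.toLin'_apply,
        Matrix.toLin'_apply]
      exact (Cfsg.Agent.Helper28.mem_symplecticGroup_iff_preserves _).1 a.2 x y
    · have h1 : a ^ (2 * N) = 1 := by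
        rw [mul_comm, pow_mul, hN, pow_card_eq_one', one_pow]
      have h2 := congrArg (fun x : Matrix.symplecticGroup (Fin n) F =>
        (x : Matrix (Fin n ⊕ Fin n) (Fin n ⊕ Fin n) F)) h1
      simp only [SubmonoidClass.coe_pow, OneMemClass.coe_one] at h2
      rw [← Matrix.toLin'_pow, h2, Matrix.toLin'_one]
      rfl
  have hc' : LinearMap.charpoly (Matrix.toLin' (g : Matrix (Fin n ⊕ Fin n) (Fin n ⊕ Fin n) F)) =
      LinearMap.charpoly (Matrix.toLin' (h : Matrix (Fin n ⊕ Fin n) (Fin n ⊕ Fin n) F)) := by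
    rw [Matrix.charpoly_toLin', Matrix.charpoly_toLin', hc]
  obtain ⟨φ, hφ, hiso⟩ := exists_isometry (hisom g) (hisom h) (Cfsg.Agent.Helper28.SympFrame.sB_isAlt n F)
    (Cfsg.Agent.Helper28.SympFrame.sB_isAlt n F) (Cfsg.Agent.Helper28.SympFrame.sB_nondeg n F)
    (Cfsg.Agent.Helper28.SympFrame.sB_nondeg n F) hsg hsh hc'
  set P := LinearMap.toMatrix' (φ : (Fin n ⊕ Fin n → F) →ₗ[F] (Fin n ⊕ Fin n → F)) with hP
  have hPmem : P ∈ Matrix.symplecticGroup (Fin n) F := by
    rw [Cfsg.Agent.Helper28.mem_symplecticGroup_iff_preserves]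
    intro x y
    rw [hP, LinearMap.toMatrix'_mulVec, LinearMap.toMatrix'_mulVec]
    exact hiso x y
  have hcomm : P * (g : Matrix (Fin n ⊕ Fin n) (Fin n ⊕ Fin n) F) =
      (h : Matrix (Fin n ⊕ Fin n) (Fin n ⊕ Fin n) F) * P := by
    have e1 : (g : Matrix (Fin n ⊕ Fin n) (Fin n ⊕ Fin n) F) =
        LinearMap.toMatrix' (Matrix.toLin' (g : Matrix (Fin n ⊕ Fin n) (Fin n ⊕ Fin n) F)) :=
      (LinearMap.toMatrix'_toLin' _).symm
    have e2 : (h : Matrix (Fin n ⊕ Fin n) (Fin n ⊕ Fin n) F) =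
        LinearMap.toMatrix' (Matrix.toLin' (h : Matrix (Fin n ⊕ Fin n) (Fin n ⊕ Fin n) F)) :=
      (LinearMap.toMatrix'_toLin' _).symm
    rw [e1, e2, hP, ← LinearMap.toMatrix'_comp, ← LinearMap.toMatrix'_comp]
    congr 1
    apply LinearMap.ext
    intro x
    exact hφ x
  rw [isConj_iff]
  refine ⟨⟨P, hPmem⟩, ?_⟩
  rw [mul_inv_eq_iff_eq_mul]
  apply Subtype.ext
  exact hcomm

end Cfsg.Agent.Helper12.SympConj
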