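import Mathlib
import Cfsg.Agent.Helper12.SympConjJ
import Cfsg.Agent.Helper17.TransposeConj

set_option autoImplicit false

/-! Construction of symplectic matrices `g` with `g + g⁻¹` similar to `diag(C, C)`. -/

open Polynomial Matrix

namespace Cfsg.Agent.Helper12.SpCount

universe u

variable {F : Type u} [Field F] {n : ℕ}

/-- The matrix `[[0, -1], [1, C]]`. -/
def compM (C : Matrix (Fin n) (Fin n) F) : Matrix (Fin n ⊕ Fin n) (Fin n ⊕ Fin n) F :=
  Matrix.fromBlocks 0 (-1) 1 C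

/-- Its inverse `[[C, 1], [-1, 0]]`. -/
def compM' (C : Matrix (Fin n) (Fin n) F) : Matrix (Fin n ⊕ Fin n) (Fin n ⊕ Fin n) F :=
  Matrix.fromBlocks C 1 (-1) 0

theorem compM_mul_compM' (C : Matrix (Fin n) (Fin n) F) : compM C * compM' C = 1 := by
  rw [compM, compM', Matrix.fromBlocks_multiply]
  simp [Matrix.fromBlocks_one]

theorem compM'_mul_compM (C : Matrix (Fin n) (Fin n) F) : compM' C * compM C = 1 := by
  rw [compM, compM', Matrix.fromBlocks_multiply]
  simp [Matrix.fromBlocks_one]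

theorem compM_add_compM' (C : Matrix (Fin n) (Fin n) F) :
    compM C + compM' C = Matrix.fromBlocks C 0 0 C := by
  rw [compM, compM', Matrix.fromBlocks_add]
  simp

/-- The alternating Gram matrix `[[0, P], [-P, 0]]`. -/
def omegaM (P : Matrix (Fin n) (Fin n) F) : Matrix (Fin n ⊕ Fin n) (Fin n ⊕ Fin n) F :=
  Matrix.fromBlocks 0 P (-P) 0

theorem compM_preserves (C P : Matrix (Fin n) (Fin n) F) (hPC : P * C = Cᵀ * P) :
    (compM C)ᵀ * omegaM P * compM C = omegaM P := by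
  rw [compM, omegaM, Matrix.fromBlocks_transpose, Matrix.fromBlocks_multiply,
    Matrix.fromBlocks_multiply]
  simp only [transpose_zero, transpose_one, transpose_neg, Matrix.zero_mul, Matrix.one_mul,
    Matrix.mul_zero, Matrix.mul_one, Matrix.mul_neg, Matrix.neg_mul, add_zero, zero_add, neg_neg,
    neg_zero]
  congr 1
  rw [hPC]
  abel

theorem omegaM_isUnit (P : Matrix (Fin n) (Fin n) F) (hP : IsUnit P) : IsUnit (omegaM P) := by
  obtain ⟨U, rfl⟩ := hP
  refine ⟨⟨omegaM (U : Matrix (Fin n) (Fin n) F),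
    Matrix.fromBlocks 0 (-(↑U⁻¹ : Matrix (Fin n) (Fin n) F)) (↑U⁻¹) 0, ?_, ?_⟩, rfl⟩
  · rw [omegaM, Matrix.fromBlocks_multiply]
    simp [Matrix.fromBlocks_one]
  · rw [omegaM, Matrix.fromBlocks_multiply]
    simp [Matrix.fromBlocks_one]

theorem omegaM_alt_aux (P : Matrix (Fin n) (Fin n) F) (hP : Pᵀ = P) (a b : Fin n → F) :
    Sum.elim a b ⬝ᵥ (omegaM P *ᵥ Sum.elim a b) = 0 := by
  rw [omegaM, Matrix.fromBlocks_mulVec, sumElim_dotProduct_sumElim]
  simp only [Sum.elim_comp_inl, Sum.elim_comp_inr, Matrix.zero_mulVec, zero_add, add_zero,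
    Matrix.neg_mulVec, dotProduct_neg]
  rw [Matrix.dotProduct_mulVec, ← hP, Matrix.vecMul_transpose, dotProduct_comm, hP, add_neg_cancel]

theorem omegaM_alt (P : Matrix (Fin n) (Fin n) F) (hP : Pᵀ = P) (u : Fin n ⊕ Fin n → F) :
    u ⬝ᵥ (omegaM P *ᵥ u) = 0 := by
  have hu : u = Sum.elim (u ∘ Sum.inl) (u ∘ Sum.inr) := by
    funext i
    cases i <;> rfl
  rw [hu]
  exact omegaM_alt_aux P hP _ _

end Cfsg.Agent.Helper12.SpCount
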