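import Mathlib
import Cfsg.Agent.Helper12.SpCountC

set_option autoImplicit false

/-! The isometry group of an arbitrary nondegenerate alternating Gram matrix is conjugate into the
standard symplectic group, uniformly. -/

open Polynomial Matrix

namespace Cfsg.Agent.Helper12.SpSylow

universe u

variable {F : Type u} [Field F] {n : ℕ}

/-- Uniform version of `SpCount.exists_conj_symplectic`. -/
theorem exists_uniform_conj_symplectic [Finite F]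
    (Ω : Matrix (Fin n ⊕ Fin n) (Fin n ⊕ Fin n) F)
    (hΩu : IsUnit Ω) (hΩa : ∀ u, u ⬝ᵥ (Ω *ᵥ u) = 0) :
    ∃ Φ : (Matrix (Fin n ⊕ Fin n) (Fin n ⊕ Fin n) F)ˣ,
      ∀ M : Matrix (Fin n ⊕ Fin n) (Fin n ⊕ Fin n) F, Mᵀ * Ω * M = Ω →
      (Φ : Matrix (Fin n ⊕ Fin n) (Fin n ⊕ Fin n) F) * M *
        ((Φ⁻¹ : (Matrix (Fin n ⊕ Fin n) (Fin n ⊕ Fin n) F)ˣ) :
          Matrix (Fin n ⊕ Fin n) (Fin n ⊕ Fin n) F) ∈ Matrix.symplecticGroup (Fin n) F := by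
  have hAlt : (Matrix.toBilin' Ω).IsAlt := by
    intro u
    rw [Matrix.toBilin'_apply']
    exact hΩa u
  have hdet : Ω.det ≠ 0 := by
    have := (Matrix.isUnit_iff_isUnit_det Ω).1 hΩu
    exact this.ne_zero
  have hnd : (Matrix.toBilin' Ω).Nondegenerate :=
    LinearMap.BilinForm.nondegenerate_toBilin'_of_det_ne_zero' Ω hdet
  have hI : ∀ B : LinearMap.BilinForm F (Fin n ⊕ Fin n → F),
      SympConj.IsIsom B (1 : Module.End F (Fin n ⊕ Fin n → F)) 2 :=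
    fun B => ⟨fun x y => rfl, one_pow 2, le_refl 2⟩
  have hss : (1 : Module.End F (Fin n ⊕ Fin n → F)).IsSemisimple := Module.End.isSemisimple_id
  obtain ⟨φ, -, hφ⟩ := SympConj.exists_isometry (hI (Matrix.toBilin' Ω))
    (hI (Cfsg.Agent.Helper28.SympFrame.sB n F)) hAlt
    (Cfsg.Agent.Helper28.SympFrame.sB_isAlt n F) hnd
    (Cfsg.Agent.Helper28.SympFrame.sB_nondeg n F) hss hss rfl
  have h1 : LinearMap.toMatrix' (φ : (Fin n ⊕ Fin n → F) →ₗ[F] (Fin n ⊕ Fin n → F)) *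
      LinearMap.toMatrix' (φ.symm : (Fin n ⊕ Fin n → F) →ₗ[F] (Fin n ⊕ Fin n → F)) = 1 := by
    rw [← LinearMap.toMatrix'_comp, LinearEquiv.comp_coe, LinearEquiv.symm_trans_self,
      LinearEquiv.refl_toLinearMap, LinearMap.toMatrix'_id]
  have h2 : LinearMap.toMatrix' (φ.symm : (Fin n ⊕ Fin n → F) →ₗ[F] (Fin n ⊕ Fin n → F)) *
      LinearMap.toMatrix' (φ : (Fin n ⊕ Fin n → F) →ₗ[F] (Fin n ⊕ Fin n → F)) = 1 := by
    rw [← LinearMap.toMatrix'_comp, LinearEquiv.comp_coe, LinearEquiv.self_trans_symm,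
      LinearEquiv.refl_toLinearMap, LinearMap.toMatrix'_id]
  refine ⟨⟨_, _, h1, h2⟩, ?_⟩
  intro M hM
  rw [Cfsg.Agent.Helper28.mem_symplecticGroup_iff_preserves]
  intro u v
  change Cfsg.sympForm n F
      ((LinearMap.toMatrix' (φ : (Fin n ⊕ Fin n → F) →ₗ[F] (Fin n ⊕ Fin n → F)) * M *
        LinearMap.toMatrix' (φ.symm : (Fin n ⊕ Fin n → F) →ₗ[F] (Fin n ⊕ Fin n → F))) *ᵥ u)
      ((LinearMap.toMatrix' (φ : (Fin n ⊕ Fin n → F) →ₗ[F] (Fin n ⊕ Fin n → F)) * M *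
        LinearMap.toMatrix' (φ.symm : (Fin n ⊕ Fin n → F) →ₗ[F] (Fin n ⊕ Fin n → F))) *ᵥ v) =
    Cfsg.sympForm n F u v
  rw [← Matrix.mulVec_mulVec, ← Matrix.mulVec_mulVec, ← Matrix.mulVec_mulVec,
    ← Matrix.mulVec_mulVec, LinearMap.toMatrix'_mulVec, LinearMap.toMatrix'_mulVec,
    LinearMap.toMatrix'_mulVec, LinearMap.toMatrix'_mulVec]
  have e1 := hφ (M *ᵥ (φ.symm u)) (M *ᵥ (φ.symm v))
  rw [Cfsg.Agent.Helper28.SympFrame.sB_apply] at e1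
  have e2 := hφ (φ.symm u) (φ.symm v)
  rw [Cfsg.Agent.Helper28.SympFrame.sB_apply, LinearEquiv.apply_symm_apply,
    LinearEquiv.apply_symm_apply] at e2
  simp only [LinearEquiv.coe_coe]
  rw [e1, e2, Matrix.toBilin'_apply', Matrix.toBilin'_apply']
  have key : ∀ x y : Fin n ⊕ Fin n → F, (M *ᵥ x) ⬝ᵥ (Ω *ᵥ (M *ᵥ y)) = x ⬝ᵥ (Ω *ᵥ y) := by
    intro x y
    have e3 : (M *ᵥ x) ⬝ᵥ (Ω *ᵥ (M *ᵥ y)) = x ⬝ᵥ (Mᵀ *ᵥ (Ω *ᵥ (M *ᵥ y))) := by
      rw [Matrix.dotProduct_mulVec x Mᵀ, Matrix.vecMul_transpose]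
    rw [e3, Matrix.mulVec_mulVec, Matrix.mulVec_mulVec, hM]
  exact key _ _

/-- Reindexed uniform version: an arbitrary index type in bijection with `Fin n ⊕ Fin n`. -/
theorem exists_uniform_conj_reindex [Finite F] {I : Type*} [Fintype I] [DecidableEq I]
    (ε : I ≃ Fin n ⊕ Fin n) (Ω : Matrix I I F)
    (hΩu : IsUnit Ω) (hΩa : ∀ u, u ⬝ᵥ (Ω *ᵥ u) = 0) :
    ∃ Φ : (Matrix (Fin n ⊕ Fin n) (Fin n ⊕ Fin n) F)ˣ,
      ∀ M : Matrix I I F, Mᵀ * Ω * M = Ω →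
      (Φ : Matrix (Fin n ⊕ Fin n) (Fin n ⊕ Fin n) F) * Matrix.reindex ε ε M *
        ((Φ⁻¹ : (Matrix (Fin n ⊕ Fin n) (Fin n ⊕ Fin n) F)ˣ) :
          Matrix (Fin n ⊕ Fin n) (Fin n ⊕ Fin n) F) ∈ Matrix.symplecticGroup (Fin n) F := by
  have hu : IsUnit (Matrix.reindex ε ε Ω) := by
    have := hΩu.map (Matrix.reindexAlgEquiv F F ε)
    exact this
  have ha : ∀ u : Fin n ⊕ Fin n → F, u ⬝ᵥ ((Matrix.reindex ε ε Ω) *ᵥ u) = 0 := by
    intro u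
    have h1 := hΩa (u ∘ ε)
    rw [← h1]
    simp only [Matrix.reindex_apply, dotProduct, Matrix.mulVec, Matrix.submatrix_apply,
      Function.comp_apply]
    rw [← Equiv.sum_comp ε]
    apply Finset.sum_congr rfl
    intro i _
    congr 1
    rw [← Equiv.sum_comp ε]
    apply Finset.sum_congr rfl
    intro j _
    simp
  obtain ⟨Φ, hΦ⟩ := exists_uniform_conj_symplectic (Matrix.reindex ε ε Ω) hu ha
  refine ⟨Φ, fun M hM => hΦ _ ?_⟩
  have h1 := congrArg (Matrix.reindex ε ε) hM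
  simp only [Matrix.reindex_apply, Matrix.submatrix_mul_equiv, Matrix.transpose_submatrix] at h1 ⊢
  rw [← h1]

end Cfsg.Agent.Helper12.SpSylow
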