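import Mathlib

/-! Definitions and the conjugation API for the proof of S1786 (Timmesfeld's TI lemma).
Blueprint: `departures/helper12_S1786_blueprint.md`; board `s1786pieces`. -/

set_option autoImplicit false

namespace Cfsg.Agent.S1786P

variable {G : Type*} [Group G]

/-- the conjugate `x K x⁻¹` (same shape as in the frozen statement) -/
def cj (x : G) (K : Subgroup G) : Subgroup G := K.map (MulAut.conj x).toMonoidHom

/-- The basic facts extracted from the hypotheses of S1786: `V` elementary abelian TI, `M = N_G(V)`, `Q = O_2(M)`,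
`C_M(Q) ≤ Q`, `V` a maximal abelian normal subgroup of `M`. -/
structure Setup (V Q : Subgroup G) : Prop where
  comm : ∀ a ∈ V, ∀ b ∈ V, a * b = b * a
  sq : ∀ a ∈ V, a * a = 1
  pQ : IsPGroup 2 ↥Q
  VQ : V ≤ Q
  QM : Q ≤ Subgroup.normalizer (V : Set G)
  MQ : Subgroup.normalizer (V : Set G) ≤ Subgroup.normalizer (Q : Set G)
  core : ∀ R : Subgroup G, IsPGroup 2 ↥R → R ≤ Subgroup.normalizer (V : Set G) →
    Subgroup.normalizer (V : Set G) ≤ Subgroup.normalizer (R : Set G) → R ≤ Q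
  cent : ∀ c ∈ Subgroup.normalizer (V : Set G), (∀ x ∈ Q, c * x = x * c) → c ∈ Q
  hmax : ∀ A : Subgroup G, V ≤ A → A ≤ Subgroup.normalizer (V : Set G) → (∀ a ∈ A, ∀ b ∈ A, a * b = b * a) →
    (∀ m ∈ Subgroup.normalizer (V : Set G), ∀ a ∈ A, m * a * m⁻¹ ∈ A) → A = V
  ti : ∀ x : G, cj x V = V ∨ cj x V ⊓ V = ⊥

/-- `P = C_Q(V)` -/
def PP (V Q : Subgroup G) : Subgroup G := Q ⊓ Subgroup.centralizer (V : Set G)

/-- `Λ`: the conjugates of `V` inside `Q` other than `V` -/
def Lam (V Q B : Subgroup G) : Prop := (∃ x : G, B = cj x V) ∧ B ≤ Q ∧ B ≠ V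

/-- `D = C_P(B)` -/
def DD (V Q B : Subgroup G) : Subgroup G := PP V Q ⊓ Subgroup.centralizer (B : Set G)

/-- `Z(Q)` as a subgroup of `G` -/
def ZQ (Q : Subgroup G) : Subgroup G := Q ⊓ Subgroup.centralizer (Q : Set G)

/-! ### conjugation API -/

theorem cj_def (x : G) (K : Subgroup G) : cj x K = K.map (MulAut.conj x).toMonoidHom := rfl

theorem mem_cj {x a : G} {K : Subgroup G} : a ∈ cj x K ↔ x⁻¹ * a * x ∈ K := by
  unfold cj
  constructor
  · rintro ⟨k, hk, rfl⟩
    have : x⁻¹ * ((MulAut.conj x).toMonoidHom k) * x = k := by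
      simp [MulAut.conj_apply, mul_assoc]
    rw [this]; exact hk
  · intro h
    refine ⟨x⁻¹ * a * x, h, ?_⟩
    simp [MulAut.conj_apply, mul_assoc]

theorem conj_mem_cj {x k : G} {K : Subgroup G} (hk : k ∈ K) : x * k * x⁻¹ ∈ cj x K := by
  rw [mem_cj]
  have : x⁻¹ * (x * k * x⁻¹) * x = k := by group
  rw [this]; exact hk

theorem exists_of_mem_cj {x a : G} {K : Subgroup G} (h : a ∈ cj x K) : ∃ k ∈ K, a = x * k * x⁻¹ := by
  refine ⟨x⁻¹ * a * x, mem_cj.1 h, ?_⟩
  group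

theorem cj_one (K : Subgroup G) : cj 1 K = K := by
  ext a; rw [mem_cj]; simp

theorem cj_mul (x y : G) (K : Subgroup G) : cj (x * y) K = cj x (cj y K) := by
  ext a
  rw [mem_cj, mem_cj, mem_cj]
  have : (x * y)⁻¹ * a * (x * y) = y⁻¹ * (x⁻¹ * a * x) * y := by group
  rw [this]

theorem cj_inv_cj (x : G) (K : Subgroup G) : cj x⁻¹ (cj x K) = K := by
  rw [← cj_mul, inv_mul_cancel, cj_one]

theorem cj_cj_inv (x : G) (K : Subgroup G) : cj x (cj x⁻¹ K) = K := by
  rw [← cj_mul, mul_inv_cancel, cj_one]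

theorem cj_mono {x : G} {K L : Subgroup G} (h : K ≤ L) : cj x K ≤ cj x L := Subgroup.map_mono h

theorem cj_le_iff {x : G} {K L : Subgroup G} : cj x K ≤ L ↔ K ≤ cj x⁻¹ L := by
  constructor
  · intro h
    have := cj_mono (x := x⁻¹) h
    rwa [cj_inv_cj] at this
  · intro h
    have := cj_mono (x := x) h
    rwa [cj_cj_inv] at this

theorem cj_inf (x : G) (K L : Subgroup G) : cj x (K ⊓ L) = cj x K ⊓ cj x L := by
  ext a; simp only [mem_cj, Subgroup.mem_inf]

theorem cj_sup (x : G) (K L : Subgroup G) : cj x (K ⊔ L) = cj x K ⊔ cj x L := Subgroup.map_sup K L _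

theorem cj_bot (x : G) : cj x (⊥ : Subgroup G) = ⊥ := Subgroup.map_bot _

theorem cj_eq_bot_iff {x : G} {K : Subgroup G} : cj x K = ⊥ ↔ K = ⊥ := by
  constructor
  · intro h
    have := congrArg (cj x⁻¹) h
    rwa [cj_inv_cj, cj_bot] at this
  · rintro rfl; exact cj_bot x

theorem cj_injective (x : G) {K L : Subgroup G} (h : cj x K = cj x L) : K = L := by
  have := congrArg (cj x⁻¹) h
  rwa [cj_inv_cj, cj_inv_cj] at this

theorem cj_card (x : G) (K : Subgroup G) : Nat.card ↥(cj x K) = Nat.card ↥K := by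
  unfold cj
  exact Nat.card_congr (K.equivMapOfInjective _ (MulAut.conj x).injective).symm.toEquiv

theorem cj_isPGroup {p : ℕ} {x : G} {K : Subgroup G} (h : IsPGroup p ↥K) : IsPGroup p ↥(cj x K) := by
  unfold cj
  exact h.map _

theorem cj_of_mem_normalizer {x : G} {K : Subgroup G} (hx : x ∈ Subgroup.normalizer (K : Set G)) : cj x K = K := by
  have hx' : x⁻¹ ∈ Subgroup.normalizer (K : Set G) := inv_mem hx
  ext a
  rw [mem_cj]
  have := (Subgroup.mem_normalizer_iff.1 hx') a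
  rw [inv_inv] at this
  exact this.symm

theorem mem_normalizer_of_cj_le [Finite G] {x : G} {K : Subgroup G} (h : cj x K ≤ K) :
    x ∈ Subgroup.normalizer (K : Set G) := by
  have heq : cj x K = K := by
    apply Subgroup.eq_of_le_of_card_ge h
    rw [cj_card]
  rw [Subgroup.mem_normalizer_iff]
  intro a
  constructor
  · intro ha
    rw [← heq]
    exact conj_mem_cj ha
  · intro ha
    have h2 : x * a * x⁻¹ ∈ cj x K := by rw [heq]; exact ha
    have := mem_cj.1 h2
    have e : x⁻¹ * (x * a * x⁻¹) * x = a := by group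
    rwa [e] at this

theorem mem_normalizer_iff_cj [Finite G] {x : G} {K : Subgroup G} :
    x ∈ Subgroup.normalizer (K : Set G) ↔ cj x K = K :=
  ⟨cj_of_mem_normalizer, fun h => mem_normalizer_of_cj_le h.le⟩

theorem cj_normalizer (x : G) (K : Subgroup G) :
    Subgroup.normalizer ((cj x K : Subgroup G) : Set G) = cj x (Subgroup.normalizer (K : Set G)) := by
  ext a
  rw [mem_cj, Subgroup.mem_normalizer_iff, Subgroup.mem_normalizer_iff]
  constructor
  · intro h k
    have := h (x * k * x⁻¹)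
    rw [mem_cj, mem_cj] at this
    have e1 : x⁻¹ * (x * k * x⁻¹) * x = k := by group
    have e2 : x⁻¹ * (a * (x * k * x⁻¹) * a⁻¹) * x = x⁻¹ * a * x * k * (x⁻¹ * a * x)⁻¹ := by group
    rw [e1, e2] at this
    exact this
  · intro h k
    rw [mem_cj, mem_cj]
    have := h (x⁻¹ * k * x)
    have e2 : x⁻¹ * a * x * (x⁻¹ * k * x) * (x⁻¹ * a * x)⁻¹ = x⁻¹ * (a * k * a⁻¹) * x := by group
    rw [e2] at this
    exact this

theorem cj_centralizer (x : G) (K : Subgroup G) :
    Subgroup.centralizer ((cj x K : Subgroup G) : Set G) = cj x (Subgroup.centralizer (K : Set G)) := by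
  ext a
  rw [mem_cj, Subgroup.mem_centralizer_iff, Subgroup.mem_centralizer_iff]
  constructor
  · intro h k hk
    have := h (x * k * x⁻¹) (conj_mem_cj hk)
    have e : k * (x⁻¹ * a * x) = x⁻¹ * ((x * k * x⁻¹) * a) * x := by group
    rw [e, this]; group
  · intro h k hk
    have := h (x⁻¹ * k * x) (mem_cj.1 hk)
    have e : k * a = x * ((x⁻¹ * k * x) * (x⁻¹ * a * x)) * x⁻¹ := by group
    rw [e, this]; group

/-! ### first consequences of `Setup` -/

section
variable {V Q : Subgroup G}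

theorem Setup.V_le_PP (S : Setup V Q) : V ≤ PP V Q := by
  intro v hv
  have h2 : v ∈ Subgroup.centralizer (V : Set G) := by
    rw [Subgroup.mem_centralizer_iff]
    intro a ha
    exact S.comm a ha v hv
  exact Subgroup.mem_inf.2 ⟨S.VQ hv, h2⟩

theorem PP_le_Q (V Q : Subgroup G) : PP V Q ≤ Q := inf_le_left

theorem Setup.PP_le_M (S : Setup V Q) : PP V Q ≤ Subgroup.normalizer (V : Set G) := inf_le_left.trans S.QM

theorem mem_PP {V Q : Subgroup G} {x : G} : x ∈ PP V Q ↔ x ∈ Q ∧ ∀ v ∈ V, x * v = v * x := by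
  unfold PP
  rw [Subgroup.mem_inf, Subgroup.mem_centralizer_iff]
  constructor
  · rintro ⟨h1, h2⟩; exact ⟨h1, fun v hv => (h2 v hv).symm⟩
  · rintro ⟨h1, h2⟩; exact ⟨h1, fun v hv => (h2 v hv).symm⟩

theorem mem_DD {V Q B : Subgroup G} {x : G} : x ∈ DD V Q B ↔ x ∈ PP V Q ∧ ∀ b ∈ B, x * b = b * x := by
  unfold DD
  rw [Subgroup.mem_inf, Subgroup.mem_centralizer_iff]
  constructor
  · rintro ⟨h1, h2⟩; exact ⟨h1, fun v hv => (h2 v hv).symm⟩
  · rintro ⟨h1, h2⟩; exact ⟨h1, fun v hv => (h2 v hv).symm⟩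

theorem mem_ZQ {Q : Subgroup G} {x : G} : x ∈ ZQ Q ↔ x ∈ Q ∧ ∀ y ∈ Q, x * y = y * x := by
  unfold ZQ
  rw [Subgroup.mem_inf, Subgroup.mem_centralizer_iff]
  constructor
  · rintro ⟨h1, h2⟩; exact ⟨h1, fun v hv => (h2 v hv).symm⟩
  · rintro ⟨h1, h2⟩; exact ⟨h1, fun v hv => (h2 v hv).symm⟩

theorem Setup.PP_isPGroup (S : Setup V Q) : IsPGroup 2 ↥(PP V Q) := S.pQ.to_le inf_le_left

/-- `M = N_G(V)` normalizes `P`. -/
theorem Setup.M_le_normalizer_PP (S : Setup V Q) :
    Subgroup.normalizer (V : Set G) ≤ Subgroup.normalizer ((PP V Q : Subgroup G) : Set G) := by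
  intro m hm
  have hmQ := S.MQ hm
  have hm' : m⁻¹ ∈ Subgroup.normalizer (V : Set G) := inv_mem hm
  have key : ∀ n ∈ Subgroup.normalizer (V : Set G), ∀ a ∈ PP V Q, n * a * n⁻¹ ∈ PP V Q := by
    intro n hn a ha
    rw [mem_PP] at ha ⊢
    refine ⟨(Subgroup.mem_normalizer_iff.1 (S.MQ hn) a).1 ha.1, ?_⟩
    intro v hv
    have hv' : n⁻¹ * v * n ∈ V := by
      have := (Subgroup.mem_normalizer_iff.1 (inv_mem hn) v).1 hv
      rwa [inv_inv] at this
    have h1 := ha.2 _ hv'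
    calc n * a * n⁻¹ * v = n * (a * (n⁻¹ * v * n)) * n⁻¹ := by group
      _ = n * ((n⁻¹ * v * n) * a) * n⁻¹ := by rw [h1]
      _ = v * (n * a * n⁻¹) := by group
  rw [Subgroup.mem_normalizer_iff]
  intro a
  constructor
  · exact key m hm a
  · intro h
    have := key m⁻¹ hm' _ h
    have e : m⁻¹ * (m * a * m⁻¹) * m⁻¹⁻¹ = a := by group
    rwa [e] at this

end

end Cfsg.Agent.S1786P
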