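import Cfsg.Agent.Helper12.SpTwoA

set_option autoImplicit false

/-!
# The chain criterion: coordinate hyperbolic planes
-/

namespace Cfsg.Agent.Helper12.SpTwo

open Matrix Cfsg.Agent.Helper2.Sp

section Top

variable {l : Type} [DecidableEq l] [Fintype l] {F : Type*} [Field F]

theorem eq_top_of_TS {H : Subgroup (symplecticGroup l F)} (h : ∀ v, v ∈ TS H) : H = ⊤ := by
  rw [eq_top_iff, ← TV_eq_top l F]
  unfold TV
  rw [Subgroup.closure_le]
  rintro _ ⟨p, rfl⟩
  exact h p.1 p.2

end Top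

section Basis

variable {l : Type*} [DecidableEq l] [Fintype l] {F : Type*} [Field F]

/-- The basis vector `e_i`. -/
def eb (i : l) : l ⊕ l → F := Pi.single (Sum.inl i) 1

/-- The basis vector `f_i`. -/
def fb (i : l) : l ⊕ l → F := Pi.single (Sum.inr i) 1

theorem eb_ne_zero (i : l) : (eb i : l ⊕ l → F) ≠ 0 := by
  intro h
  have := congrFun h (Sum.inl i)
  simp [eb] at this

theorem fb_ne_zero (i : l) : (fb i : l ⊕ l → F) ≠ 0 := by
  intro h
  have := congrFun h (Sum.inr i)
  simp [fb] at this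

theorem om_eb_eb (i j : l) : om (eb i : l ⊕ l → F) (eb j) = 0 := by
  rw [om_eq_sum]
  apply Finset.sum_eq_zero
  intro k _
  simp [eb]

theorem om_fb_fb (i j : l) : om (fb i : l ⊕ l → F) (fb j) = 0 := by
  rw [om_eq_sum]
  apply Finset.sum_eq_zero
  intro k _
  simp [fb]

theorem om_fb_eb (i j : l) : om (fb i : l ⊕ l → F) (eb j) = if i = j then 1 else 0 := by
  rw [om_eq_sum]
  simp only [fb, eb, Pi.single_apply, Sum.inr.injEq, Sum.inl.injEq, reduceCtorEq, if_false,
    zero_mul, sub_zero]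
  by_cases h : i = j
  · subst h
    rw [if_pos rfl, Finset.sum_eq_single i]
    · simp
    · intro k _ hk
      simp [hk]
    · intro h; exact absurd (Finset.mem_univ _) h
  · rw [if_neg h]
    apply Finset.sum_eq_zero
    intro k _
    by_cases hk : k = i
    · subst hk
      simp [h]
    · simp [hk]

theorem om_eb_fb (i j : l) : om (eb i : l ⊕ l → F) (fb j) = if i = j then -1 else 0 := by
  rw [om_swap, om_fb_eb]
  by_cases h : i = j
  · rw [if_pos h, if_pos h.symm]
  · rw [if_neg h, if_neg (Ne.symm h), neg_zero]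

/-- The coordinate hyperbolic plane. -/
def plane (i : l) : Submodule F (l ⊕ l → F) := Submodule.span F {eb i, fb i}

theorem eb_mem_plane (i : l) : (eb i : l ⊕ l → F) ∈ plane i :=
  Submodule.subset_span (by simp)

theorem fb_mem_plane (i : l) : (fb i : l ⊕ l → F) ∈ plane i :=
  Submodule.subset_span (by simp)

theorem orth_plane {i j : l} (h : i ≠ j) : Orth (plane i : Submodule F (l ⊕ l → F)) (plane j) := by
  intro y hy z hz
  obtain ⟨a, b, rfl⟩ := Submodule.mem_span_pair.mp hy
  obtain ⟨c, d, rfl⟩ := Submodule.mem_span_pair.mp hz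
  simp only [om_add_left, om_add_right, om_smul_left, om_smul_right, om_eb_eb, om_fb_fb,
    om_eb_fb, om_fb_eb, if_neg h, mul_zero, add_zero]

theorem good_plane {H : Subgroup (symplecticGroup l F)} {i : l} (he : eb i ∈ TS H)
    (hf : fb i ∈ TS H) : Good H (plane i) :=
  good_span_pair he hf (by rw [om_eb_fb, if_pos rfl]; exact neg_ne_zero.mpr one_ne_zero)

theorem eq_sum_planes (x : l ⊕ l → F) :
    x = ∑ i, (x (Sum.inl i) • eb i + x (Sum.inr i) • fb i) := by
  funext k
  rw [Finset.sum_apply]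
  rcases k with k | k
  · rw [Finset.sum_eq_single k]
    · simp [eb, fb]
    · intro j _ hj
      simp [eb, fb, Ne.symm hj]
    · intro h; exact absurd (Finset.mem_univ _) h
  · rw [Finset.sum_eq_single k]
    · simp [eb, fb]
    · intro j _ hj
      simp [eb, fb, Ne.symm hj]
    · intro h; exact absurd (Finset.mem_univ _) h

end Basis

section Chain

variable {F : Type*} [Field F] {n : ℕ}

/-- The partial sums `P_0 + ... + P_k` of the coordinate planes. -/
def Usum (F : Type*) [Field F] (n : ℕ) : ℕ → Submodule F (Fin (n + 1) ⊕ Fin (n + 1) → F)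
  | 0 => plane 0
  | k + 1 => Usum F n k ⊔ (if h : k + 1 < n + 1 then plane ⟨k + 1, h⟩ else ⊥)

theorem chain_aux {H : Subgroup (symplecticGroup (Fin (n + 1)) F)}
    (he : ∀ i, (eb i : Fin (n + 1) ⊕ Fin (n + 1) → F) ∈ TS H)
    (hf : ∀ i, (fb i : Fin (n + 1) ⊕ Fin (n + 1) → F) ∈ TS H)
    (hmix : ∀ i : Fin n, ∃ y ∈ (plane i.castSucc : Submodule F (Fin (n + 1) ⊕ Fin (n + 1) → F)),
      ∃ z ∈ (plane i.succ : Submodule F (Fin (n + 1) ⊕ Fin (n + 1) → F)),
        y ≠ 0 ∧ z ≠ 0 ∧ y + z ∈ TS H) :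
    ∀ k, k ≤ n → Good H (Usum F n k) ∧
      (∀ j : Fin (n + 1), k < j.val → Orth (Usum F n k) (plane j)) ∧
      (∀ j : Fin (n + 1), j.val ≤ k → plane j ≤ Usum F n k) := by
  intro k
  induction k with
  | zero =>
    intro _
    refine ⟨good_plane (he 0) (hf 0), ?_, ?_⟩
    · intro j hj
      apply orth_plane
      intro h
      rw [← h] at hj
      simp at hj
    · intro j hj
      have : j = 0 := by
        apply Fin.ext
        simpa using hj
      rw [this]
      exact le_rfl
  | succ k ih =>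
    intro hk
    obtain ⟨ih1, ih2, ih3⟩ := ih (by omega)
    have hlt : k + 1 < n + 1 := by omega
    have hU : Usum F n (k + 1) = Usum F n k ⊔ plane ⟨k + 1, hlt⟩ := by
      show Usum F n k ⊔ (if h : k + 1 < n + 1 then plane ⟨k + 1, h⟩ else ⊥) = _
      rw [dif_pos hlt]
    rw [hU]
    obtain ⟨y, hy, z, hz, hy0, hz0, hyz⟩ := hmix ⟨k, by omega⟩
    have e1 : (Fin.castSucc (⟨k, by omega⟩ : Fin n)) = (⟨k, by omega⟩ : Fin (n + 1)) := rfl
    have e2 : (Fin.succ (⟨k, by omega⟩ : Fin n)) = (⟨k + 1, hlt⟩ : Fin (n + 1)) := rfl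
    rw [e1] at hy
    rw [e2] at hz
    refine ⟨Good.sup ih1 (good_plane (he _) (hf _)) (ih2 _ (by simp))
      (ih3 ⟨k, by omega⟩ (by simp) hy) hz hy0 hz0 hyz, ?_, ?_⟩
    · intro j hj
      refine Orth.sup_left (ih2 j (by omega)) (orth_plane ?_)
      intro h
      rw [← h] at hj
      simp at hj
    · intro j hj
      by_cases hjk : j.val ≤ k
      · exact (ih3 j hjk).trans le_sup_left
      · have : j = ⟨k + 1, hlt⟩ := by
          apply Fin.ext
          simp only
          omega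
        rw [this]
        exact le_sup_right

/-- The chain criterion. -/
theorem eq_top_of_chain {H : Subgroup (symplecticGroup (Fin (n + 1)) F)}
    (he : ∀ i, (eb i : Fin (n + 1) ⊕ Fin (n + 1) → F) ∈ TS H)
    (hf : ∀ i, (fb i : Fin (n + 1) ⊕ Fin (n + 1) → F) ∈ TS H)
    (hmix : ∀ i : Fin n, ∃ y ∈ (plane i.castSucc : Submodule F (Fin (n + 1) ⊕ Fin (n + 1) → F)),
      ∃ z ∈ (plane i.succ : Submodule F (Fin (n + 1) ⊕ Fin (n + 1) → F)),
        y ≠ 0 ∧ z ≠ 0 ∧ y + z ∈ TS H) :
    H = ⊤ := by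
  obtain ⟨h1, _, h3⟩ := chain_aux he hf hmix n le_rfl
  apply eq_top_of_TS
  intro v
  apply h1.sub
  rw [eq_sum_planes v]
  apply Submodule.sum_mem
  intro i _
  apply h3 i (by omega)
  exact (plane i).add_mem ((plane i).smul_mem _ (eb_mem_plane i)) ((plane i).smul_mem _ (fb_mem_plane i))

end Chain

end Cfsg.Agent.Helper12.SpTwo
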