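import Mathlib
import Cfsg.Agent.Helper26.S4394Defs
import Cfsg.Agent.Lead.GenCent
import Cfsg.Agent.Lead.Coprime3

set_option autoImplicit false

/-! S4394, piece TH1: the Thompson-style minimal subgroup. -/

namespace Cfsg.Agent.S4394P

open Cfsg Subgroup

/-- elements of the closure of a commuting pair -/
theorem th1_closure_pair {Γ : Type*} [Group Γ] {s t : Γ} (hst : Commute s t) {x : Γ}
    (hx : x ∈ Subgroup.closure ({s, t} : Set Γ)) : ∃ m n : ℤ, x = s ^ m * t ^ n := by
  induction hx using Subgroup.closure_induction with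
  | mem x hx =>
    rcases hx with rfl | rfl
    · exact ⟨1, 0, by simp⟩
    · exact ⟨0, 1, by simp⟩
  | one => exact ⟨0, 0, by simp⟩
  | mul x y _ _ hx hy =>
    obtain ⟨m, n, rfl⟩ := hx
    obtain ⟨m', n', rfl⟩ := hy
    refine ⟨m + m', n + n', ?_⟩
    rw [zpow_add, zpow_add]
    have h1 : Commute (t ^ n) (s ^ m') := (hst.zpow_zpow m' n).symm
    calc s ^ m * t ^ n * (s ^ m' * t ^ n') = s ^ m * (t ^ n * s ^ m') * t ^ n' := by
          simp only [mul_assoc]
      _ = s ^ m * (s ^ m' * t ^ n) * t ^ n' := by rw [h1.eq]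
      _ = s ^ m * s ^ m' * (t ^ n * t ^ n') := by simp only [mul_assoc]
  | inv x _ hx =>
    obtain ⟨m, n, rfl⟩ := hx
    refine ⟨-m, -n, ?_⟩
    rw [mul_inv_rev, ← zpow_neg, ← zpow_neg]
    exact ((hst.zpow_zpow (-m) (-n)).symm).eq

/-- integer powers of an element of order dividing `p` are natural powers -/
theorem th1_zpow_nat {Γ : Type*} [Group Γ] {t : Γ} {p : ℕ} (hp : 0 < p) (ht : t ^ p = 1) (k : ℤ) :
    ∃ i : ℕ, t ^ k = t ^ i := by
  refine ⟨(k % p).toNat, ?_⟩
  have h0 : 0 ≤ k % (p : ℤ) := Int.emod_nonneg _ (by exact_mod_cast hp.ne')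
  rw [← zpow_natCast, Int.toNat_of_nonneg h0]
  conv_lhs => rw [← Int.emod_add_mul_ediv k p]
  rw [zpow_add, zpow_mul, zpow_natCast, ht, one_zpow, mul_one]

/-- a `p`-divisible integer power of an element of order dividing `p` is trivial -/
theorem th1_zpow_of_dvd {Γ : Type*} [Group Γ] {t : Γ} {p : ℕ} (ht : t ^ p = 1) {k : ℤ}
    (hk : (p : ℤ) ∣ k) : t ^ k = 1 := by
  obtain ⟨c, rfl⟩ := hk
  rw [zpow_mul, zpow_natCast, ht, one_zpow]

/-- if `p ∤ m` then `t` is a power of `t ^ m` -/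
theorem th1_root {Γ : Type*} [Group Γ] {t : Γ} {p : ℕ} (hp : p.Prime) (ht : t ^ p = 1) {m : ℤ}
    (hm : ¬ (p : ℤ) ∣ m) : ∃ u : ℤ, (t ^ m) ^ u = t := by
  have hcop : IsCoprime (p : ℤ) m :=
    (Prime.coprime_iff_not_dvd (Nat.prime_iff_prime_int.mp hp)).mpr hm
  obtain ⟨a, b, hab⟩ := hcop
  refine ⟨b, ?_⟩
  have : t ^ (a * (p : ℤ) + b * m) = t := by rw [hab, zpow_one]
  rw [zpow_add, mul_comm a, zpow_mul, zpow_natCast, ht, one_zpow, one_mul, mul_comm b,
    zpow_mul] at this
  exact this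

/-- conjugation by an element commuting with `b` preserves the centralizer of `b` -/
theorem th1_conj_cent {Γ : Type*} [Group Γ] {a b : Γ} (hab : a * b = b * a) (h : Γ) :
    a * h * a⁻¹ ∈ centralizer ({b} : Set Γ) ↔ h ∈ centralizer ({b} : Set Γ) := by
  rw [Subgroup.mem_centralizer_singleton_iff, Subgroup.mem_centralizer_singleton_iff]
  have e : a * b * a⁻¹ = b := by rw [hab, mul_inv_cancel_right]
  have := @Commute.conj_iff Γ _ h b a
  rw [e] at this
  exact this

theorem TH1 {p : ℕ} [Fact p.Prime] {Γ : Type*} [Group Γ] [Finite Γ] (A R : Subgroup Γ)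
    (hAc : ∀ a ∈ A, ∀ b ∈ A, a * b = b * a) (hAp : ∀ a ∈ A, a ^ p = 1)
    (hR : ¬ p ∣ Nat.card R) (hAR : A ≤ Subgroup.normalizer (R : Set Γ))
    (hnc : ∃ a ∈ A, ∃ r ∈ R, a * r ≠ r * a) :
    ∃ (R₁ : Subgroup Γ) (t : Γ), R₁ ≤ R ∧ A ≤ Subgroup.normalizer (R₁ : Set Γ) ∧ t ∈ A ∧
      (∃ r ∈ R₁, t * r ≠ r * t) ∧ ⁅R₁, A⁆ = R₁ ∧
      ∀ s ∈ A, ∃ a₀ ∈ A, ∃ i : ℕ, (∀ r ∈ R₁, a₀ * r = r * a₀) ∧ s = a₀ * t ^ i := by
  classical
  have hp : p.Prime := Fact.out
  -- the minimal subgroup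
  have hex : ∃ n : ℕ, ∃ S : Subgroup Γ, (S ≤ R ∧ A ≤ normalizer (S : Set Γ) ∧
      ∃ a ∈ A, ∃ r ∈ S, a * r ≠ r * a) ∧ Nat.card S = n := ⟨_, R, ⟨le_rfl, hAR, hnc⟩, rfl⟩
  obtain ⟨R₁, hR₁, hn⟩ := Nat.find_spec hex
  have hmin : ∀ S : Subgroup Γ, (S ≤ R ∧ A ≤ normalizer (S : Set Γ) ∧
      ∃ a ∈ A, ∃ r ∈ S, a * r ≠ r * a) → Nat.card R₁ ≤ Nat.card S := by
    intro S hS
    rw [hn]
    exact Nat.find_min' hex ⟨S, hS, rfl⟩
  obtain ⟨hR₁R, hAR₁, t, htA, r₀, hr₀, htr₀⟩ := hR₁
  have hcent : ∀ S : Subgroup Γ, S ≤ R₁ → S ≠ R₁ → A ≤ normalizer (S : Set Γ) →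
      ∀ a ∈ A, ∀ r ∈ S, a * r = r * a := by
    intro S hS hne hAS a ha r hr
    by_contra hcon
    have h1 := hmin S ⟨hS.trans hR₁R, hAS, a, ha, r, hr, hcon⟩
    exact hne (Subgroup.eq_of_le_of_card_ge hS h1)
  -- coprimality
  have hpR₁ : ¬ p ∣ Nat.card R₁ := fun h => hR (h.trans (Subgroup.card_dvd_of_le hR₁R))
  have hcopB : ∀ B : Subgroup Γ, B ≤ A → (Nat.card B).Coprime (Nat.card R₁) := by
    intro B hBA
    have hBp : IsPGroup p B := by
      intro g
      refine ⟨1, ?_⟩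
      rw [pow_one]
      exact Subtype.ext (hAp g (hBA g.2))
    obtain ⟨k, hk⟩ := IsPGroup.iff_card.mp hBp
    rw [hk]
    exact Nat.Coprime.pow_left k ((Nat.Prime.coprime_iff_not_dvd hp).mpr hpR₁)
  -- the centralizer of R₁ in A
  have hC₀pow : ∀ b : Γ, b ∈ A → (∀ r ∈ R₁, b * r = r * b) → ∀ u : ℤ,
      (b ^ u ∈ A ∧ ∀ r ∈ R₁, b ^ u * r = r * b ^ u) := by
    intro b hb hbc u
    refine ⟨A.zpow_mem hb u, fun r hr => ?_⟩
    have : Commute b r := hbc r hr
    exact (this.zpow_left u).eq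
  refine ⟨R₁, t, hR₁R, hAR₁, htA, ⟨r₀, hr₀, htr₀⟩, ?_, ?_⟩
  · -- [R₁, A] = R₁
    by_contra hne
    have hle : ⁅R₁, A⁆ ≤ R₁ := Cfsg.Agent.Lead.commutator_le_of_le_normalizer hAR₁
    have hAn : A ≤ normalizer ((⁅R₁, A⁆ : Subgroup Γ) : Set Γ) :=
      Cfsg.Agent.Lead.le_normalizer_commutator_right R₁ A
    have hc := hcent _ hle hne hAn
    have hbot : ⁅⁅R₁, A⁆, A⁆ = ⊥ := by
      rw [Subgroup.commutator_eq_bot_iff_le_centralizer]
      intro x hx
      rw [Subgroup.mem_centralizer_iff]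
      intro a ha
      exact hc a ha x hx
    have hsolvA : Group.IsSolvable A :=
      Group.isSolvable_of_comm (fun a b => Subtype.ext (hAc a a.2 b b.2))
    have h2 := Cfsg.Agent.Lead.coprime_commutator_commutator A R₁ hAR₁ (hcopB A le_rfl)
      (Or.inl hsolvA)
    rw [hbot] at h2
    -- so A centralizes R₁
    have h3 : R₁ ≤ centralizer (A : Set Γ) :=
      Subgroup.commutator_eq_bot_iff_le_centralizer.mp h2.symm
    apply htr₀
    have := (Subgroup.mem_centralizer_iff.mp (h3 hr₀)) t htA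
    exact this
  · -- the decomposition A = A₀ ⟨t⟩
    intro s hs
    by_contra hcon
    push Not at hcon
    have hst : Commute s t := hAc s hs t htA
    have hsp : s ^ p = 1 := hAp s hs
    have htp : t ^ p = 1 := hAp t htA
    have ht1 : t ≠ 1 := by
      rintro rfl
      exact htr₀ (by rw [one_mul, mul_one])
    set B : Subgroup Γ := Subgroup.closure ({s, t} : Set Γ) with hB
    have hBA : B ≤ A := by
      rw [hB, Subgroup.closure_le]
      rintro x (rfl | rfl)
      · exact hs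
      · exact htA
    have hsB : s ∈ B := Subgroup.subset_closure (by simp)
    have htB : t ∈ B := Subgroup.subset_closure (by simp)
    -- elements of B not centralizing R₁
    have hB0 : ∀ b ∈ B, (∀ r ∈ R₁, b * r = r * b) → b = 1 := by
      intro b hb hbc
      obtain ⟨m, n, rfl⟩ := th1_closure_pair hst hb
      by_cases hm : (p : ℤ) ∣ m
      · have hsm : s ^ m = 1 := th1_zpow_of_dvd hsp hm
        rw [hsm, one_mul] at hbc ⊢
        by_cases hn' : (p : ℤ) ∣ n
        · exact th1_zpow_of_dvd htp hn'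
        · exfalso
          obtain ⟨u, hu⟩ := th1_root hp htp hn'
          have := (hC₀pow _ (A.zpow_mem htA n) hbc u).2 r₀ hr₀
          rw [hu] at this
          exact htr₀ this
      · exfalso
        obtain ⟨u, hu⟩ := th1_root hp hsp hm
        -- (s^m t^n)^u = s * t^(n u)
        have hpow : (s ^ m * t ^ n) ^ u = s * t ^ (n * u) := by
          rw [(hst.zpow_zpow m n).mul_zpow, hu, ← zpow_mul]
        have hbA : s ^ m * t ^ n ∈ A := hBA hb
        obtain ⟨h1, h2⟩ := hC₀pow _ hbA hbc u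
        obtain ⟨i, hi⟩ := th1_zpow_nat hp.pos htp (-(n * u))
        refine hcon ((s ^ m * t ^ n) ^ u) h1 i h2 ?_
        rw [hpow, ← hi, mul_assoc, ← zpow_add, add_neg_cancel, zpow_zero, mul_one]
    have : IsMulCommutative B := ⟨⟨fun a b => Subtype.ext (hAc a (hBA a.2) b (hBA b.2))⟩⟩
    have hncyc : ¬ IsCyclic B := by
      intro hcyc
      have hexp : Monoid.exponent B ∣ p := by
        apply Monoid.exponent_dvd_of_forall_pow_eq_one
        intro g
        exact Subtype.ext (hAp g (hBA g.2))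
      rw [IsCyclic.exponent_eq_card] at hexp
      have hcard : Nat.card B = p := by
        rcases (Nat.dvd_prime hp).mp hexp with h | h
        · exfalso
          have := (Subgroup.card_eq_one.mp h)
          rw [this] at htB
          exact ht1 (Subgroup.mem_bot.mp htB)
        · exact h
      have hzt : zpowers t = B := by
        apply Subgroup.eq_of_le_of_card_ge (zpowers_le.mpr htB)
        rw [hcard, Nat.card_zpowers]
        have : orderOf t ∣ p := orderOf_dvd_of_pow_eq_one htp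
        rcases (Nat.dvd_prime hp).mp this with h | h
        · exact absurd (orderOf_eq_one_iff.mp h) ht1
        · exact h.ge
      have : s ∈ zpowers t := by rw [hzt]; exact hsB
      obtain ⟨k, hk⟩ := Subgroup.mem_zpowers_iff.mp this
      obtain ⟨i, hi⟩ := th1_zpow_nat hp.pos htp k
      refine hcon 1 A.one_mem i (fun r _ => by rw [one_mul, mul_one]) ?_
      rw [one_mul, ← hi, hk]
    have hgen := Cfsg.Agent.Lead.generated_by_centralizers B R₁ hncyc (hBA.trans hAR₁)
      (hcopB B hBA)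
    -- A centralizes every R₁ ⊓ C(b)
    have hle : R₁ ≤ centralizer (A : Set Γ) := by
      rw [← hgen]
      refine iSup₂_le fun b hb => ?_
      obtain ⟨hbB, hb1⟩ := hb
      have hbA : b ∈ A := hBA hbB
      have hne : R₁ ⊓ centralizer {b} ≠ R₁ := by
        intro h
        apply hb1
        apply hB0 b hbB
        intro r hr
        have : r ∈ R₁ ⊓ centralizer {b} := by rw [h]; exact hr
        have := Subgroup.mem_centralizer_iff.mp this.2 b (Set.mem_singleton b)
        exact this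
      have hAn : A ≤ normalizer ((R₁ ⊓ centralizer {b} : Subgroup Γ) : Set Γ) := by
        intro a ha
        rw [Subgroup.mem_normalizer_iff]
        intro h
        have hab : a * b = b * a := hAc a ha b hbA
        have h1 := Subgroup.mem_normalizer_iff.mp (hAR₁ ha) h
        rw [Subgroup.mem_inf, Subgroup.mem_inf, th1_conj_cent hab h, h1]
      have hc := hcent _ inf_le_left hne hAn
      intro x hx
      rw [Subgroup.mem_centralizer_iff]
      intro a ha
      exact hc a ha x hx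
    apply htr₀
    exact (Subgroup.mem_centralizer_iff.mp (hle hr₀)) t htA

end Cfsg.Agent.S4394P
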