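import Mathlib
import Cfsg.Agent.Helper12.SympConjJ
import Cfsg.Agent.Helper28.QWitt

set_option autoImplicit false

/-! Odd-order semisimple isometries of a nondegenerate quadratic space over a finite field which
are conjugate in `GL` are conjugate in the orthogonal group. Part A: the fixed-space
decomposition. -/

open Polynomial Module

namespace Cfsg.Agent.Helper12.OrthConj

universe u v

variable {F : Type u} [Field F] {V : Type v} [AddCommGroup V] [Module F V]

/-- Bezout for `X - 1` and `1 + X + ... + X^(k-1)` when `k ≠ 0` in `F`. -/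
theorem exists_bezout (k : ℕ) (hk : (k : F) ≠ 0) :
    ∃ a c : F[X], a * (X - 1) + c * (∑ i ∈ Finset.range k, X ^ i) = 1 := by
  have hirr : Irreducible (X - C (1 : F)) := irreducible_X_sub_C 1
  have hnd : ¬ (X - C (1 : F)) ∣ ∑ i ∈ Finset.range k, X ^ i := by
    rw [dvd_iff_isRoot, IsRoot, eval_finsetSum]
    simp only [eval_pow, eval_X, one_pow, Finset.sum_const, Finset.card_range, nsmul_eq_mul,
      mul_one]
    exact hk
  obtain ⟨a, c, hac⟩ := (hirr.coprime_iff_not_dvd).2 hnd
  refine ⟨a, c, ?_⟩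
  rw [map_one] at hac
  exact hac

variable (g : Module.End F V) (k : ℕ)

/-- The decomposition `v = κ + x` with `g κ = κ` and `x ∈ range (g - 1)`. -/
theorem exists_decomp (hk : (k : F) ≠ 0) (hgk : g ^ k = 1) (v : V) :
    ∃ κ x : V, g κ = κ ∧ x ∈ LinearMap.range (g - 1) ∧ v = κ + x := by
  obtain ⟨a, c, hac⟩ := exists_bezout (F := F) k hk
  have h1 : aeval g (a * (X - 1) + c * (∑ i ∈ Finset.range k, X ^ i)) v = v := by
    rw [hac, map_one, Module.End.one_apply]
  rw [map_add, LinearMap.add_apply] at h1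
  refine ⟨aeval g (c * (∑ i ∈ Finset.range k, X ^ i)) v, aeval g (a * (X - 1)) v, ?_, ?_, ?_⟩
  · have h2 : (g - 1) (aeval g (c * (∑ i ∈ Finset.range k, X ^ i)) v) = 0 := by
      have e : (g - 1) * aeval g (c * (∑ i ∈ Finset.range k, X ^ i)) = 0 := by
        have e1 : (g - 1) = aeval g (X - 1 : F[X]) := by
          rw [map_sub, aeval_X, map_one]
        rw [e1, ← map_mul]
        have e2 : (X - 1 : F[X]) * (c * ∑ i ∈ Finset.range k, X ^ i) = c * (X ^ k - 1) := by
          rw [← geom_sum_mul]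
          ring
        rw [e2, map_mul, map_sub, map_pow, aeval_X, map_one, hgk, sub_self, mul_zero]
      rw [← Module.End.mul_apply, e, LinearMap.zero_apply]
    rw [LinearMap.sub_apply, Module.End.one_apply, sub_eq_zero] at h2
    exact h2
  · refine ⟨aeval g a v, ?_⟩
    rw [mul_comm, map_mul, map_sub, aeval_X, map_one, Module.End.mul_apply]
  · rw [add_comm]
    exact h1.symm

/-- `g - 1` is injective on its range. -/
theorem eq_zero_of_mem_range (hk : (k : F) ≠ 0) (hgk : g ^ k = 1) {x : V}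
    (hx : x ∈ LinearMap.range (g - 1)) (hgx : g x = x) : x = 0 := by
  obtain ⟨y, rfl⟩ := hx
  obtain ⟨κ, x', hκ, ⟨z, rfl⟩, rfl⟩ := exists_decomp g k hk hgk y
  -- (g-1)(κ + (g-1) z) = (g-1)^2 z is fixed
  have e1 : (g - 1) (κ + (g - 1) z) = (g - 1) ((g - 1) z) := by
    rw [map_add]
    have : (g - 1) κ = 0 := by rw [LinearMap.sub_apply, hκ, Module.End.one_apply, sub_self]
    rw [this, zero_add]
  rw [e1] at hgx ⊢
  obtain ⟨a, c, hac⟩ := exists_bezout (F := F) k hk
  set w := (g - 1) z with hw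
  have hfix : (g - 1) ((g - 1) w) = 0 := by
    rw [LinearMap.sub_apply (x := (g - 1) w), hgx, Module.End.one_apply, sub_self]
  have h1 : aeval g (a * (X - 1) + c * (∑ i ∈ Finset.range k, X ^ i)) ((g - 1) w) = (g - 1) w := by
    rw [hac, map_one, Module.End.one_apply]
  have e0 : (g - 1) = aeval g (X - 1 : F[X]) := by rw [map_sub, aeval_X, map_one]
  rw [map_add, LinearMap.add_apply] at h1
  have t1 : aeval g (a * (X - 1)) ((g - 1) w) = 0 := by
    rw [map_mul, Module.End.mul_apply, ← e0, hfix, map_zero]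
  have t2 : aeval g (c * (∑ i ∈ Finset.range k, X ^ i)) ((g - 1) w) = 0 := by
    rw [e0, ← Module.End.mul_apply, ← map_mul]
    have e2 : c * (∑ i ∈ Finset.range k, X ^ i) * (X - 1 : F[X]) = c * (X ^ k - 1) := by
      rw [mul_assoc, geom_sum_mul]
    rw [e2, map_mul, map_sub, map_pow, aeval_X, map_one, hgk, sub_self, mul_zero,
      LinearMap.zero_apply]
  rw [t1, t2, add_zero] at h1
  exact h1.symm

theorem range_invariant : ∀ x ∈ LinearMap.range (g - 1), g x ∈ LinearMap.range (g - 1) := by
  rintro _ ⟨y, rfl⟩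
  refine ⟨g y, ?_⟩
  simp only [LinearMap.sub_apply, Module.End.one_apply, map_sub]

end Cfsg.Agent.Helper12.OrthConj
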