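import Mathlib
import Cfsg.Agent.Helper12.OrthConjA

set_option autoImplicit false

/-! Odd-order semisimple isometries of a nondegenerate quadratic space, part B: the auxiliary
alternating form `b((g - g⁻¹)x, y)` on `range (g - 1)`. -/

open Polynomial Module

namespace Cfsg.Agent.Helper12.OrthConj

universe u v

variable {F : Type u} [Field F] {V : Type v} [AddCommGroup V] [Module F V]

variable (Q : QuadraticForm F V) (g : Module.End F V) (k : ℕ)

/-- An isometry of `Q` preserves the polar form. -/
theorem polar_isom (hg : ∀ x, Q (g x) = Q x) (x y : V) :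
    QuadraticMap.polar Q (g x) (g y) = QuadraticMap.polar Q x y := by
  unfold QuadraticMap.polar
  rw [← map_add, hg, hg, hg]

theorem polar_pow_isom (hg : ∀ x, Q (g x) = Q x) (n : ℕ) (x y : V) :
    QuadraticMap.polar Q ((g ^ n) x) ((g ^ n) y) = QuadraticMap.polar Q x y := by
  induction n generalizing x y with
  | zero => simp
  | succ n ih => rw [pow_succ, Module.End.mul_apply, Module.End.mul_apply, ih, polar_isom Q g hg]

/-- `Q` on `range (g - 1)` is determined by the polar form. -/
theorem Q_sub (hg : ∀ x, Q (g x) = Q x) (y : V) :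
    Q (g y - y) = - QuadraticMap.polar Q (g y - y) y := by
  have h1 : QuadraticMap.polar Q (g y - y) y = Q (g y) - Q (g y - y) - Q y := by
    unfold QuadraticMap.polar
    rw [sub_add_cancel]
  rw [h1, hg]
  ring

/-- Fixed vectors are orthogonal to `range (g - 1)`. -/
theorem polar_fixed_range (hg : ∀ x, Q (g x) = Q x) {κ : V} (hκ : g κ = κ) {x : V}
    (hx : x ∈ LinearMap.range (g - 1)) : QuadraticMap.polar Q κ x = 0 := by
  obtain ⟨y, rfl⟩ := hx
  rw [LinearMap.sub_apply, Module.End.one_apply, QuadraticMap.polar_sub_right]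
  conv_lhs => rw [← hκ, polar_isom Q g hg]
  rw [hκ, sub_self]

/-- The operator `g - g⁻¹ = g - g^(k-1)`. -/
noncomputable def dOp : Module.End F V := g - g ^ (k - 1)

theorem dOp_comm (x : V) : dOp g k (g x) = g (dOp g k x) := by
  simp only [dOp, LinearMap.sub_apply, map_sub]
  congr 1
  rw [← Module.End.mul_apply, ← Module.End.mul_apply, ← pow_succ, ← pow_succ']

/-- The auxiliary alternating form. -/
noncomputable def altForm : LinearMap.BilinForm F V :=
  LinearMap.BilinForm.compLeft (QuadraticMap.polarBilin Q) (dOp g k)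

theorem altForm_apply (x y : V) : altForm Q g k x y = QuadraticMap.polar Q (dOp g k x) y := rfl

theorem altForm_isAlt (hg : ∀ x, Q (g x) = Q x) (hk : 1 ≤ k) (hgk : g ^ k = 1) :
    (altForm Q g k).IsAlt := by
  intro x
  rw [altForm_apply, dOp, LinearMap.sub_apply, QuadraticMap.polar_sub_left]
  have h1 : QuadraticMap.polar Q ((g ^ (k - 1)) x) x = QuadraticMap.polar Q x (g x) := by
    rw [← polar_isom Q g hg ((g ^ (k - 1)) x) x, ← Module.End.mul_apply, ← pow_succ',
      show k - 1 + 1 = k by omega, hgk, Module.End.one_apply]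
  rw [h1, QuadraticMap.polar_comm, sub_self]

theorem altForm_inv (hg : ∀ x, Q (g x) = Q x) (x y : V) :
    altForm Q g k (g x) (g y) = altForm Q g k x y := by
  rw [altForm_apply, altForm_apply, dOp_comm, polar_isom Q g hg]

/-- `g - g⁻¹` is injective on `range (g - 1)` when the order is odd. -/
theorem dOp_injective_on_range (hodd : Odd k) (hkF : (k : F) ≠ 0) (hgk : g ^ k = 1) {x : V}
    (hx : x ∈ LinearMap.range (g - 1)) (hdx : dOp g k x = 0) : x = 0 := by
  apply eq_zero_of_mem_range g k hkF hgk hx
  obtain ⟨j, hj⟩ := hodd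
  have h1 : g x = (g ^ (k - 1)) x := by
    rw [dOp, LinearMap.sub_apply, sub_eq_zero] at hdx
    exact hdx
  have h2 : (g ^ 2) x = x := by
    rw [pow_two, Module.End.mul_apply, h1, ← Module.End.mul_apply, ← pow_succ',
      show k - 1 + 1 = k by omega, hgk, Module.End.one_apply]
  have h3 : ∀ i : ℕ, ((g ^ 2) ^ i) x = x := by
    intro i
    induction i with
    | zero => simp
    | succ i ih => rw [pow_succ, Module.End.mul_apply, h2, ih]
  have h4 : (g ^ k) x = g x := by
    rw [hj, pow_succ', Module.End.mul_apply, pow_mul, h3]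
  rw [hgk, Module.End.one_apply] at h4
  exact h4.symm

end Cfsg.Agent.Helper12.OrthConj
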