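import Mathlib
import Cfsg.Agent.Helper12.OrthConjB

set_option autoImplicit false

/-! Odd-order semisimple isometries of a nondegenerate quadratic space, part C: the abstract
theorem. -/

open Polynomial Module

namespace Cfsg.Agent.Helper12.OrthConj

universe u v

variable {F : Type u} [Field F] {V : Type v} [AddCommGroup V] [Module F V]

theorem isSemisimple_of_pow_eq_one (g : Module.End F V) (k : ℕ) (hkF : (k : F) ≠ 0)
    (hgk : g ^ k = 1) : g.IsSemisimple := by
  have hsq : Squarefree (X ^ k - C (1 : F)) :=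
    (Polynomial.separable_X_pow_sub_C (1 : F) hkF one_ne_zero).squarefree
  apply Module.End.isSemisimple_of_squarefree_aeval_eq_zero hsq
  rw [map_sub, map_pow, aeval_X, aeval_C, hgk, map_one]
  exact sub_self _

theorem dOp_eq_aeval (g : Module.End F V) (k : ℕ) :
    dOp g k = aeval g (X - X ^ (k - 1) : F[X]) := by
  rw [dOp, map_sub, map_pow, aeval_X]

theorem map_range_eq {g h : Module.End F V} (ψ : V ≃ₗ[F] V) (hψ : ∀ x, ψ (g x) = h (ψ x)) :
    Submodule.map (ψ : V →ₗ[F] V) (LinearMap.range (g - 1)) = LinearMap.range (h - 1) := by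
  ext y
  constructor
  · rintro ⟨_, ⟨z, rfl⟩, rfl⟩
    refine ⟨ψ z, ?_⟩
    simp only [LinearMap.sub_apply, Module.End.one_apply, LinearEquiv.coe_coe, map_sub, hψ]
  · rintro ⟨z, rfl⟩
    refine ⟨(g - 1) (ψ.symm z), ⟨_, rfl⟩, ?_⟩
    simp only [LinearMap.sub_apply, Module.End.one_apply, LinearEquiv.coe_coe, map_sub, hψ,
      LinearEquiv.apply_symm_apply]

theorem pow_inter {N N' : Type*} [AddCommGroup N] [Module F N] [AddCommGroup N'] [Module F N']
    {g' : Module.End F N} {h' : Module.End F N'} (φ : N ≃ₗ[F] N')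
    (hφ : ∀ x, φ (g' x) = h' (φ x)) (n : ℕ) (x : N) : φ ((g' ^ n) x) = (h' ^ n) (φ x) := by
  induction n generalizing x with
  | zero => simp
  | succ n ih => rw [pow_succ, Module.End.mul_apply, ih, pow_succ, Module.End.mul_apply, hφ]

variable [FiniteDimensional F V]

theorem altForm_nondeg (Q : QuadraticForm F V) (hQ : (QuadraticMap.polarBilin Q).Nondegenerate)
    (g : Module.End F V) (hg : ∀ x, Q (g x) = Q x) (k : ℕ) (hodd : Odd k) (hkF : (k : F) ≠ 0)
    (hgk : g ^ k = 1) :
    ((altForm Q g k).restrict (LinearMap.range (g - 1))).Nondegenerate := by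
  have hAlt : ((altForm Q g k).restrict (LinearMap.range (g - 1))).IsAlt :=
    fun x => altForm_isAlt Q g k hg hodd.pos hgk x
  apply (LinearMap.IsRefl.nondegenerate_iff_separatingLeft hAlt.isRefl).2
  rintro ⟨x, hx⟩ hxy
  apply Subtype.ext
  apply dOp_injective_on_range g k hodd hkF hgk hx
  have hx₁ : dOp g k x ∈ LinearMap.range (g - 1) := by
    rw [dOp_eq_aeval]
    exact SympConj.aeval_mem (range_invariant g) _ hx
  apply hQ.1
  intro v
  obtain ⟨κ, y, hκ, hy, rfl⟩ := exists_decomp g k hkF hgk v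
  rw [map_add]
  have e1 : QuadraticMap.polarBilin Q (dOp g k x) κ = 0 := by
    rw [QuadraticMap.polarBilin_apply_apply, QuadraticMap.polar_comm]
    exact polar_fixed_range Q g hg hκ hx₁
  have e2 : QuadraticMap.polarBilin Q (dOp g k x) y = 0 := hxy ⟨y, hy⟩
  rw [e1, e2, add_zero]

end Cfsg.Agent.Helper12.OrthConj
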