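import Mathlib
import Cfsg.Agent.Helper12.OrthConjC

set_option autoImplicit false

/-! Odd-order semisimple isometries of a nondegenerate quadratic space over a finite field which
are conjugate in `GL` are conjugate in the orthogonal group: the abstract theorem. -/

open Polynomial Module

namespace Cfsg.Agent.Helper12.OrthConj

universe u v

variable {F : Type u} [Field F] [Finite F] {V : Type v} [AddCommGroup V] [Module F V]
  [FiniteDimensional F V]

theorem exists_quadratic_isometry (Q : QuadraticForm F V)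
    (hQ : (QuadraticMap.polarBilin Q).Nondegenerate)
    (g h : Module.End F V) (hg : ∀ x, Q (g x) = Q x) (hh : ∀ x, Q (h x) = Q x) (k : ℕ)
    (hodd : Odd k) (hkF : (k : F) ≠ 0) (hgk : g ^ k = 1) (hhk : h ^ k = 1)
    (ψ : V ≃ₗ[F] V) (hψ : ∀ x, ψ (g x) = h (ψ x)) :
    ∃ Φ : V ≃ₗ[F] V, (∀ x, Q (Φ x) = Q x) ∧ ∀ x, Φ (g x) = h (Φ x) := by
  have hk1 : 1 ≤ k := hodd.pos
  have hNg := range_invariant g
  have hNh := range_invariant h
  set g' := g.restrict hNg with hg'
  set h' := h.restrict hNh with hh'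
  have hpow2 : ∀ f : Module.End F V, f ^ k = 1 → f ^ (2 * k) = 1 := by
    intro f hf
    rw [mul_comm, pow_mul, hf, one_pow]
  have hIg : SympConj.IsIsom (altForm Q g k) g (2 * k) :=
    ⟨altForm_inv Q g k hg, hpow2 g hgk, by omega⟩
  have hIh : SympConj.IsIsom (altForm Q h k) h (2 * k) :=
    ⟨altForm_inv Q h k hh, hpow2 h hhk, by omega⟩
  have hssg := isSemisimple_of_pow_eq_one g k hkF hgk
  have hssh := isSemisimple_of_pow_eq_one h k hkF hhk
  have hmg : LinearMap.range (g - 1) ≤ (LinearMap.range (g - 1)).comap g := fun x hx => hNg x hx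
  have hmh : LinearMap.range (h - 1) ≤ (LinearMap.range (h - 1)).comap h := fun x hx => hNh x hx
  -- the GL-conjugacy restricted to the ranges
  set ψN := LinearEquiv.ofSubmodules ψ _ _ (map_range_eq ψ hψ) with hψN
  have hψN' : ∀ x, ψN (g' x) = h' (ψN x) := by
    intro x
    apply Subtype.ext
    change ψ (g x) = h (ψ x)
    exact hψ x
  have hcp : LinearMap.charpoly g' = LinearMap.charpoly h' := by
    have : h' = ψN.conj g' := by
      apply LinearMap.ext
      intro x
      rw [LinearEquiv.conj_apply]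
      simp only [LinearMap.coe_comp, LinearEquiv.coe_coe, Function.comp_apply]
      rw [hψN', LinearEquiv.apply_symm_apply]
    rw [this, LinearEquiv.charpoly_conj]
  obtain ⟨φ, hφ, hφiso⟩ := SympConj.exists_isometry (hIg.restrict hNg) (hIh.restrict hNh)
    (fun x => altForm_isAlt Q g k hg hk1 hgk x) (fun x => altForm_isAlt Q h k hh hk1 hhk x)
    (altForm_nondeg Q hQ g hg k hodd hkF hgk) (altForm_nondeg Q hQ h hh k hodd hkF hhk)
    (hssg.restrict hmg) (hssh.restrict hmh) hcp
  have hφiso' : ∀ x y : LinearMap.range (g - 1),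
      QuadraticMap.polar Q (dOp h k (φ x)) (φ y) = QuadraticMap.polar Q (dOp g k x) y := hφiso
  -- coercion lemmas
  have cpg : ∀ (n : ℕ) (x : LinearMap.range (g - 1)), (((g' ^ n) x : _) : V) = (g ^ n) x := by
    intro n x
    rw [hg', Module.End.pow_restrict]
    rfl
  have cph : ∀ (n : ℕ) (x : LinearMap.range (h - 1)), (((h' ^ n) x : _) : V) = (h ^ n) x := by
    intro n x
    rw [hh', Module.End.pow_restrict]
    rfl
  have cdg : ∀ x : LinearMap.range (g - 1), (((g' - g' ^ (k - 1)) x : _) : V) = dOp g k x := by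
    intro x
    rw [LinearMap.sub_apply, Submodule.coe_sub, cpg, dOp, LinearMap.sub_apply]
    rfl
  have cdh : ∀ x : LinearMap.range (h - 1), (((h' - h' ^ (k - 1)) x : _) : V) = dOp h k x := by
    intro x
    rw [LinearMap.sub_apply, Submodule.coe_sub, cph, dOp, LinearMap.sub_apply]
    rfl
  have hφd : ∀ x, φ ((g' - g' ^ (k - 1)) x) = (h' - h' ^ (k - 1)) (φ x) := by
    intro x
    rw [LinearMap.sub_apply, map_sub, hφ, pow_inter φ hφ, LinearMap.sub_apply]
  -- surjectivity of g' - g'^(k-1) and of g' - 1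
  have hsurjD : Function.Surjective (g' - g' ^ (k - 1) : Module.End F (LinearMap.range (g - 1))) := by
    apply LinearMap.injective_iff_surjective.1
    rw [injective_iff_map_eq_zero]
    intro x hx
    apply Subtype.ext
    apply dOp_injective_on_range g k hodd hkF hgk x.2
    rw [← cdg, hx]
    rfl
  have hsurj1 : Function.Surjective (g' - 1 : Module.End F (LinearMap.range (g - 1))) := by
    apply LinearMap.injective_iff_surjective.1
    rw [injective_iff_map_eq_zero]
    intro x hx
    apply Subtype.ext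
    apply eq_zero_of_mem_range g k hkF hgk x.2
    have := congrArg Subtype.val hx
    rw [LinearMap.sub_apply, Module.End.one_apply, Submodule.coe_sub] at this
    exact sub_eq_zero.1 this
  -- φ preserves the polar form
  have hpol : ∀ x y : LinearMap.range (g - 1),
      QuadraticMap.polar Q (φ x : V) (φ y : V) = QuadraticMap.polar Q (x : V) (y : V) := by
    intro x y
    obtain ⟨x', rfl⟩ := hsurjD x
    rw [hφd, cdh, cdg]
    exact hφiso' x' y
  -- φ preserves Q
  have hQφ : ∀ x : LinearMap.range (g - 1), Q (φ x : V) = Q (x : V) := by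
    intro x
    obtain ⟨y, rfl⟩ := hsurj1 x
    have e1 : (((g' - 1) y : _) : V) = g y - y := by
      rw [LinearMap.sub_apply, Module.End.one_apply, Submodule.coe_sub]
      rfl
    have e2 : ((φ ((g' - 1) y) : _) : V) = h (φ y) - φ y := by
      rw [LinearMap.sub_apply, Module.End.one_apply, map_sub, hφ, Submodule.coe_sub]
      rfl
    rw [e1, e2, Q_sub Q g hg, Q_sub Q h hh, ← e1, ← e2, hpol]
  obtain ⟨Φ, hΦQ, hΦφ⟩ := Cfsg.Agent.Helper28.QWitt.witt_extension Q hQ _ _ φ hQφ
  have hΦpol : ∀ x y, QuadraticMap.polar Q (Φ x) (Φ y) = QuadraticMap.polar Q x y := by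
    intro x y
    unfold QuadraticMap.polar
    rw [← map_add, hΦQ, hΦQ, hΦQ]
  -- Φ maps fixed vectors of g to fixed vectors of h
  have hfix : ∀ κ, g κ = κ → h (Φ κ) = Φ κ := by
    intro κ hκ
    rw [← sub_eq_zero]
    apply hQ.1
    intro z
    rw [QuadraticMap.polarBilin_apply_apply, QuadraticMap.polar_sub_left]
    have e1 : QuadraticMap.polar Q (h (Φ κ)) z = QuadraticMap.polar Q (Φ κ) ((h ^ (k - 1)) z) := by
      rw [← polar_isom Q h hh (Φ κ) ((h ^ (k - 1)) z), ← Module.End.mul_apply, ← pow_succ',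
        show k - 1 + 1 = k by omega, hhk, Module.End.one_apply]
    rw [e1, ← QuadraticMap.polar_sub_right]
    have hmem : (h ^ (k - 1)) z - z ∈ LinearMap.range (h - 1) := by
      refine ⟨-(h ^ (k - 1)) z, ?_⟩
      rw [map_neg, LinearMap.sub_apply, Module.End.one_apply, ← Module.End.mul_apply, ← pow_succ',
        show k - 1 + 1 = k by omega, hhk, Module.End.one_apply]
      abel
    obtain ⟨x, hx⟩ := φ.surjective ⟨_, hmem⟩
    have e2 : (h ^ (k - 1)) z - z = Φ (x : V) := by
      rw [hΦφ, hx]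
    rw [e2, hΦpol]
    exact polar_fixed_range Q g hg hκ x.2
  refine ⟨Φ, hΦQ, ?_⟩
  intro v
  obtain ⟨κ, x, hκ, hx, rfl⟩ := exists_decomp g k hkF hgk v
  rw [map_add, map_add, map_add, map_add, hκ, hfix κ hκ]
  congr 1
  have e1 := hΦφ ⟨x, hx⟩
  have e2 := hΦφ (g' ⟨x, hx⟩)
  have e3 : ((g' ⟨x, hx⟩ : _) : V) = g x := rfl
  rw [e3] at e2
  simp only at e1
  rw [e2, e1, hφ]
  rfl

end Cfsg.Agent.Helper12.OrthConj
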