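import Mathlib

set_option autoImplicit false

/-! Counting tuples of natural numbers with bounded sum (stars and bars). -/

namespace Cfsg.Agent.Helper12.POC

open Finset

variable {ι : Type*} [Fintype ι] [DecidableEq ι]

theorem card_piAntidiag_univ (k : ℕ) :
    (piAntidiag (univ : Finset ι) k).card = (Fintype.card ι).multichoose k := by
  rw [← map_sym_eq_piAntidiag, card_map, sym_univ, card_univ, Sym.card_sym_eq_multichoose]

/-- The finset of tuples with sum at most `N`. -/
noncomputable def tuplesLE (ι : Type*) [Fintype ι] [DecidableEq ι] (N : ℕ) : Finset (ι → ℕ) :=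
  (range (N + 1)).biUnion (fun k => piAntidiag (univ : Finset ι) k)

theorem mem_tuplesLE (N : ℕ) (a : ι → ℕ) : a ∈ tuplesLE ι N ↔ ∑ j, a j ≤ N := by
  simp only [tuplesLE, mem_biUnion, mem_range, mem_piAntidiag, mem_univ, implies_true, and_true]
  have e : (univ : Finset ι).sum a = ∑ j, a j := rfl
  constructor
  · rintro ⟨k, hk, rfl⟩
    rw [← e]
    omega
  · intro h
    exact ⟨_, by rw [e]; omega, rfl⟩

theorem card_tuplesLE (N : ℕ) :
    (tuplesLE ι N).card = (N + Fintype.card ι).choose (Fintype.card ι) := by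
  rw [tuplesLE, card_biUnion]
  · rw [Finset.sum_congr rfl (fun k _ => card_piAntidiag_univ (ι := ι) k),
      Nat.sum_range_multichoose]
  · intro j _ k _ hjk
    rw [Function.onFun, Finset.disjoint_left]
    intro a ha hb
    rw [mem_piAntidiag] at ha hb
    exact hjk (ha.1.symm.trans hb.1)

/-- The number of nonzero tuples `a` with `i * ∑ a ≤ n`. -/
theorem card_tuples (i n : ℕ) (hi : 0 < i) :
    Nat.card {a : ι → ℕ // a ≠ 0 ∧ i * ∑ j, a j ≤ n} =
      (n / i + Fintype.card ι).choose (Fintype.card ι) - 1 := by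
  rw [Nat.subtype_card ((tuplesLE ι (n / i)).erase 0), card_erase_of_mem, card_tuplesLE]
  · rw [mem_tuplesLE]
    simp
  · intro a
    rw [mem_erase, mem_tuplesLE, Nat.le_div_iff_mul_le hi, mul_comm]

end Cfsg.Agent.Helper12.POC
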