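import Mathlib
import Cfsg.Agent.Helper12.PrimeOrderClassC
import Cfsg.Agent.Helper12.PrimeOrderClassD

set_option autoImplicit false

/-! The number of conjugacy classes of elements of prime order `r ≠ p` in `GL_n(q)`. -/

open Polynomial UniqueFactorizationMonoid

namespace Cfsg.Agent.Helper12.POC

universe u

variable {K : Type u} [Field K] [Fintype K]

theorem tuplePoly_zero (S : Finset K[X]) (i n : ℕ) :
    tuplePoly S i n (0 : S → ℕ) = (X - C 1) ^ n := by
  simp [tuplePoly]

/-- Existence of an element of order `r` with a prescribed tuple polynomial as characteristic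
polynomial. -/
theorem exists_gl_order_eq (p : ℕ) [Fact p.Prime] [CharP K p] (n r : ℕ) (hr : r.Prime)
    (hrp : r ≠ p) {S : Finset K[X]} {i : ℕ} (hS : FactorSet S i)
    (hSd : ∀ P ∈ S, P ∣ (X ^ r - 1 : K[X])) (a : S → ℕ) (ha0 : a ≠ 0)
    (ha : i * ∑ P, a P ≤ n) :
    ∃ s : GL (Fin n) K, (s : Matrix (Fin n) (Fin n) K).charpoly = tuplePoly S i n a ∧
      orderOf s = r := by
  have hrf : Fact r.Prime := ⟨hr⟩
  obtain ⟨s, hs1, hs2⟩ := exists_gl_coprime_charpoly p (tuplePoly S i n a) (tuplePoly_monic hS n a)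
    (tuplePoly_natDegree hS n a ha) (tuplePoly_coeff_zero hS n a)
  refine ⟨s, hs1, ?_⟩
  have hss := isSemisimple_of_coprime_order p s hs2
  have hN0 : (X ^ r - 1 : K[X]) ≠ 0 := by
    intro h
    have := congrArg (fun f : K[X] => f.coeff 0) h
    simp only [coeff_sub, coeff_X_pow, coeff_one_zero, coeff_zero, if_neg hr.pos.ne] at this
    simp at this
  have h1 : aeval (s : Matrix (Fin n) (Fin n) K) (X ^ r - 1 : K[X]) = 0 := by
    apply aeval_eq_zero_of_semisimple _ hss _ hN0
    intro Q hQ hQd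
    rw [hs1] at hQd
    exact dvd_of_irreducible_dvd_tuplePoly n a _ (X_sub_one_dvd_X_pow_sub_one r) hSd Q hQ hQd
  have h2 := pow_eq_one_of_aeval _ r h1
  apply orderOf_eq_prime
  · apply Units.ext
    rw [Units.val_pow_eq_pow_val, h2, Units.val_one]
  · intro h
    rw [h, Units.val_one, Matrix.charpoly_one, Fintype.card_fin] at hs1
    have h3 : tuplePoly S i n a = tuplePoly S i n 0 := by
      rw [tuplePoly_zero, ← hs1, map_one]
    exact ha0 (tuplePoly_injective hS n h3)

/-- The tuple of an element of order `r`. -/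
theorem exists_tuple_of_order_eq (p : ℕ) [Fact p.Prime] [CharP K p] (n r : ℕ) (hr : r.Prime)
    (hrp : r ≠ p) {S : Finset K[X]} {i : ℕ} (hS : FactorSet S i)
    (hSN : ∀ Q : K[X], Q.Monic → Irreducible Q → Q ∣ (X ^ r - 1 : K[X]) → Q = X - C 1 ∨ Q ∈ S)
    (g : GL (Fin n) K) (hg : orderOf g = r) :
    ∃ a : S → ℕ, a ≠ 0 ∧ i * ∑ P, a P ≤ n ∧
      (g : Matrix (Fin n) (Fin n) K).charpoly = tuplePoly S i n a := by
  have hp : p.Prime := Fact.out
  have hgr : (g : Matrix (Fin n) (Fin n) K) ^ r = 1 := by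
    rw [← Units.val_pow_eq_pow_val, ← hg, pow_orderOf_eq_one, Units.val_one]
  have hcop : (orderOf g).Coprime p := by
    rw [hg]
    exact (Nat.coprime_primes hr hp).2 hrp
  have hss := isSemisimple_of_coprime_order p g hcop
  have hfac : ∀ Q : K[X], Q.Monic → Irreducible Q →
      Q ∣ (g : Matrix (Fin n) (Fin n) K).charpoly → Q = X - C 1 ∨ Q ∈ S := by
    intro Q hQm hQi hQd
    exact hSN Q hQm hQi (dvd_of_irreducible_dvd_charpoly _ _ (aeval_of_pow_eq_one _ r hgr) Q hQi hQd)
  obtain ⟨a, ha, hfa⟩ := exists_tuple hS n _ (Matrix.charpoly_monic _)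
    (by rw [Matrix.charpoly_natDegree_eq_dim, Fintype.card_fin]) hfac
  refine ⟨a, ?_, ha, hfa⟩
  rintro rfl
  rw [tuplePoly_zero] at hfa
  have h1 : aeval (g : Matrix (Fin n) (Fin n) K) (X - C 1 : K[X]) = 0 := by
    apply aeval_eq_zero_of_semisimple _ hss _ (X_sub_C_ne_zero 1)
    intro Q hQ hQd
    rw [hfa] at hQd
    exact hQ.prime.dvd_of_dvd_pow hQd
  rw [map_sub, aeval_X, aeval_C, map_one, sub_eq_zero] at h1
  have h2 : g = 1 := Units.ext h1
  rw [h2, orderOf_one] at hg
  exact hr.one_lt.ne hg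

/-- The number of classes of elements of prime order `r ≠ p` in `GL_n(q)`. -/
theorem card_gl_prime_order_classes (p : ℕ) [Fact p.Prime] [CharP K p] (n r t : ℕ) (hr : r.Prime)
    (hrp : r ≠ p) (ht : t * orderOf ((Fintype.card K : ℕ) : ZMod r) = r - 1) :
    Nat.card {C : ConjClasses (GL (Fin n) K) //
      ∃ g : GL (Fin n) K, ConjClasses.mk g = C ∧ orderOf g = r} =
      Nat.choose (n / orderOf ((Fintype.card K : ℕ) : ZMod r) + t) t - 1 := by
  classical
  have hp : p.Prime := Fact.out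
  obtain ⟨S, hS, hcard, hSd, hSN⟩ := exists_factorSet (K := K) p r hr hrp
  have hi : 0 < orderOf ((Fintype.card K : ℕ) : ZMod r) := by
    rcases Nat.eq_zero_or_pos (orderOf ((Fintype.card K : ℕ) : ZMod r)) with h | h
    · rw [h, mul_zero] at hcard
      have := hr.two_le
      omega
    · exact h
  have htS : t = Fintype.card S := by
    rw [Fintype.card_coe]
    exact Nat.eq_of_mul_eq_mul_right hi (ht.trans hcard.symm)
  rw [htS, ← card_tuples (ι := S) _ n hi]
  symm
  have hex : ∀ a : {a : S → ℕ // a ≠ 0 ∧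
      orderOf ((Fintype.card K : ℕ) : ZMod r) * ∑ j, a j ≤ n}, ∃ s : GL (Fin n) K,
      (s : Matrix (Fin n) (Fin n) K).charpoly = tuplePoly S _ n a.1 ∧ orderOf s = r :=
    fun a => exists_gl_order_eq p n r hr hrp hS hSd a.1 a.2.1 a.2.2
  choose s hs1 hs2 using hex
  have hcop : ∀ g : GL (Fin n) K, orderOf g = r → (orderOf g).Coprime p := by
    intro g hg
    rw [hg]
    exact (Nat.coprime_primes hr hp).2 hrp
  apply Nat.card_eq_of_bijective (fun a => (⟨ConjClasses.mk (s a), ⟨s a, rfl, hs2 a⟩⟩ :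
    {C : ConjClasses (GL (Fin n) K) // ∃ g : GL (Fin n) K, ConjClasses.mk g = C ∧ orderOf g = r}))
  constructor
  · intro a b hab
    have h1 : ConjClasses.mk (s a) = ConjClasses.mk (s b) := congrArg Subtype.val hab
    rw [ConjClasses.mk_eq_mk_iff_isConj] at h1
    have h2 := charpoly_eq_of_isConj_gl h1
    rw [hs1, hs1] at h2
    exact Subtype.ext (tuplePoly_injective hS n h2)
  · rintro ⟨_, g, rfl, hg⟩
    obtain ⟨a, ha0, ha, hfa⟩ := exists_tuple_of_order_eq p n r hr hrp hS hSN g hg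
    refine ⟨⟨a, ha0, ha⟩, ?_⟩
    apply Subtype.ext
    show ConjClasses.mk (s _) = ConjClasses.mk g
    rw [ConjClasses.mk_eq_mk_iff_isConj]
    apply gl_isConj_of_charpoly_eq p _ _ (hcop _ (hs2 _)) (hcop g hg)
    rw [hs1, hfa]

end Cfsg.Agent.Helper12.POC
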