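import Mathlib

set_option autoImplicit false

/-! Characteristic polynomials of symplectic matrices are palindromic, and palindromic polynomials
of degree `2n` are determined by `n` coefficients. -/

open Polynomial Matrix

namespace Cfsg.Agent.Helper12.SpCount

universe u

variable {F : Type u} [Field F] {n : ℕ}

/-- The characteristic polynomial of a symplectic matrix is palindromic. -/
theorem charpoly_reverse (A : Matrix.symplecticGroup (Fin n) F) :
    (A : Matrix (Fin n ⊕ Fin n) (Fin n ⊕ Fin n) F).charpoly.reverse =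
      (A : Matrix (Fin n ⊕ Fin n) (Fin n ⊕ Fin n) F).charpoly := by
  have hdet : (A : Matrix (Fin n ⊕ Fin n) (Fin n ⊕ Fin n) F).det = 1 :=
    SymplecticGroup.det_eq_one A.2
  have hunit : IsUnit (A : Matrix (Fin n ⊕ Fin n) (Fin n ⊕ Fin n) F) := by
    rw [Matrix.isUnit_iff_isUnit_det, hdet]
    exact isUnit_one
  have h1 := Matrix.charpoly_inv (A : Matrix (Fin n ⊕ Fin n) (Fin n ⊕ Fin n) F) hunit
  have hcard : Fintype.card (Fin n ⊕ Fin n) = 2 * n := by
    rw [Fintype.card_sum, Fintype.card_fin]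
    ring
  rw [hdet, Ring.inverse_one, map_one, mul_one, hcard, pow_mul, neg_one_sq, one_pow, one_mul,
    ← Matrix.reverse_charpoly] at h1
  rw [← h1, SymplecticGroup.inv_eq_symplectic_inv _ A.2]
  -- (-J) Aᵀ J is similar to Aᵀ
  let U : (Matrix (Fin n ⊕ Fin n) (Fin n ⊕ Fin n) F)ˣ :=
    ⟨-Matrix.J (Fin n) F, Matrix.J (Fin n) F, by
      rw [neg_mul, Matrix.J_squared, neg_neg], by
      rw [mul_neg, Matrix.J_squared, neg_neg]⟩
  have h2 := Matrix.charpoly_units_conj U
    ((A : Matrix (Fin n ⊕ Fin n) (Fin n ⊕ Fin n) F)ᵀ)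
  rw [Matrix.charpoly_transpose] at h2
  rw [← h2]
  congr 1
  rw [← Matrix.coe_units_inv]
  rfl

theorem charpoly_natDegree (A : Matrix.symplecticGroup (Fin n) F) :
    (A : Matrix (Fin n ⊕ Fin n) (Fin n ⊕ Fin n) F).charpoly.natDegree = 2 * n := by
  rw [Matrix.charpoly_natDegree_eq_dim, Fintype.card_sum, Fintype.card_fin]
  ring

/-- A monic palindromic polynomial of degree `2n` is determined by its coefficients in degrees
`1, ..., n`. -/
theorem eq_of_palindromic {f g : F[X]} (hf : f.Monic) (hg : g.Monic)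
    (hfn : f.natDegree = 2 * n) (hgn : g.natDegree = 2 * n) (hfr : f.reverse = f)
    (hgr : g.reverse = g) (hc : ∀ i : Fin n, f.coeff ((i : ℕ) + 1) = g.coeff ((i : ℕ) + 1)) :
    f = g := by
  have hfc : ∀ i, i ≤ 2 * n → f.coeff (2 * n - i) = f.coeff i := by
    intro i hi
    conv_rhs => rw [← hfr, coeff_reverse, hfn, revAt_le hi]
  have hgc : ∀ i, i ≤ 2 * n → g.coeff (2 * n - i) = g.coeff i := by
    intro i hi
    conv_rhs => rw [← hgr, coeff_reverse, hgn, revAt_le hi]
  have hlow : ∀ i, i ≤ n → f.coeff i = g.coeff i := by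
    intro i hi
    rcases Nat.eq_zero_or_pos i with h0 | h0
    · subst h0
      have e1 := hfc 0 (by omega)
      have e2 := hgc 0 (by omega)
      rw [Nat.sub_zero] at e1 e2
      rw [← e1, ← e2]
      have e3 : f.coeff (2 * n) = 1 := by rw [← hfn, coeff_natDegree, hf.leadingCoeff]
      have e4 : g.coeff (2 * n) = 1 := by rw [← hgn, coeff_natDegree, hg.leadingCoeff]
      rw [e3, e4]
    · have := hc ⟨i - 1, by omega⟩
      simpa only [show i - 1 + 1 = i by omega] using this
  ext i
  by_cases hi : i ≤ n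
  · exact hlow i hi
  · by_cases hi2 : i ≤ 2 * n
    · rw [← hfc i hi2, ← hgc i hi2]
      exact hlow _ (by omega)
    · rw [coeff_eq_zero_of_natDegree_lt (by omega), coeff_eq_zero_of_natDegree_lt (by omega)]

end Cfsg.Agent.Helper12.SpCount
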