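import Mathlib
import Cfsg.Agent.Helper12.SpCountC

set_option autoImplicit false

/-! Elements of `Sp_2n(F)` of order prime to the characteristic with prescribed
`charpoly (s + s⁻¹) = h ^ 2`. -/

open Polynomial Matrix

namespace Cfsg.Agent.Helper12.SpCount

universe u

variable {F : Type u} [Field F] {n : ℕ}

theorem charpoly_pow_card_pow' [Fintype F] {ι : Type*} [Fintype ι] [DecidableEq ι]
    (M : Matrix ι ι F) (k : ℕ) : (M ^ (Fintype.card F ^ k)).charpoly = M.charpoly := by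
  induction k with
  | zero => rw [pow_zero, pow_one]
  | succ k ih => rw [pow_succ, pow_mul, FiniteField.Matrix.charpoly_pow_card, ih]

/-- The class invariant `charpoly (s + s⁻¹)`. -/
noncomputable def kap (s : Matrix.symplecticGroup (Fin n) F) : F[X] :=
  ((s : Matrix (Fin n ⊕ Fin n) (Fin n ⊕ Fin n) F) +
    ((s⁻¹ : Matrix.symplecticGroup (Fin n) F) : Matrix (Fin n ⊕ Fin n) (Fin n ⊕ Fin n) F)).charpoly

theorem kap_eq_of_isConj {s t : Matrix.symplecticGroup (Fin n) F} (h : IsConj s t) :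
    kap s = kap t := by
  obtain ⟨x, hx⟩ := isConj_iff.1 h
  let U : (Matrix (Fin n ⊕ Fin n) (Fin n ⊕ Fin n) F)ˣ :=
    ⟨(x : Matrix (Fin n ⊕ Fin n) (Fin n ⊕ Fin n) F),
      ((x⁻¹ : Matrix.symplecticGroup (Fin n) F) : Matrix (Fin n ⊕ Fin n) (Fin n ⊕ Fin n) F), by
        rw [← Submonoid.coe_mul, mul_inv_cancel]; rfl, by
        rw [← Submonoid.coe_mul, inv_mul_cancel]; rfl⟩
  have e1 : (t : Matrix (Fin n ⊕ Fin n) (Fin n ⊕ Fin n) F) =
      (U : Matrix (Fin n ⊕ Fin n) (Fin n ⊕ Fin n) F) *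
        (s : Matrix (Fin n ⊕ Fin n) (Fin n ⊕ Fin n) F) *
        ((U⁻¹ : (Matrix (Fin n ⊕ Fin n) (Fin n ⊕ Fin n) F)ˣ) :
          Matrix (Fin n ⊕ Fin n) (Fin n ⊕ Fin n) F) := by
    rw [← hx]
    rfl
  have e2 : ((t⁻¹ : Matrix.symplecticGroup (Fin n) F) :
      Matrix (Fin n ⊕ Fin n) (Fin n ⊕ Fin n) F) =
      (U : Matrix (Fin n ⊕ Fin n) (Fin n ⊕ Fin n) F) *
        ((s⁻¹ : Matrix.symplecticGroup (Fin n) F) : Matrix (Fin n ⊕ Fin n) (Fin n ⊕ Fin n) F) *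
        ((U⁻¹ : (Matrix (Fin n ⊕ Fin n) (Fin n ⊕ Fin n) F)ˣ) :
          Matrix (Fin n ⊕ Fin n) (Fin n ⊕ Fin n) F) := by
    have e3 : t⁻¹ = x * s⁻¹ * x⁻¹ := by
      rw [← hx]
      group
    rw [e3]
    rfl
  rw [kap, kap, e1, e2, ← Matrix.add_mul, ← Matrix.mul_add, Matrix.coe_units_inv,
    Matrix.charpoly_units_conj]

variable [Fintype F]

theorem exists_coprime_elt (p : ℕ) [Fact p.Prime] [CharP F p] (hn : 0 < n) (h : F[X])
    (hh : h.Monic) (hdeg : h.natDegree = n) :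
    ∃ s : Matrix.symplecticGroup (Fin n) F, (orderOf s).Coprime p ∧ kap s = h ^ 2 := by
  obtain ⟨C, hC⟩ := exists_matrix_charpoly_eq h hh hdeg
  obtain ⟨P, hPu, hPs, hPC⟩ := Cfsg.Agent.Helper17.exists_symm_conj_transpose C
  obtain ⟨Φ, hΦ⟩ := exists_conj_symplectic (omegaM P) (compM C) (omegaM_isUnit P hPu)
    (omegaM_alt P hPs) (compM_preserves C P hPC)
  have hfin : Finite (Matrix.symplecticGroup (Fin n) F) := Subtype.finite
  set g : Matrix.symplecticGroup (Fin n) F := ⟨_, hΦ⟩ with hg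
  obtain ⟨k, hk⟩ := exists_pow_pow_coprime g p (Fintype.card F) (Fact.out : p.Prime)
    (char_dvd_fintype_card p)
  refine ⟨g ^ (Fintype.card F ^ k), hk, ?_⟩
  set N := Fintype.card F ^ k with hN
  have hne : Nonempty (Fin n ⊕ Fin n) := ⟨Sum.inl ⟨0, hn⟩⟩
  -- matrices
  have hs : ((g ^ N : Matrix.symplecticGroup (Fin n) F) :
      Matrix (Fin n ⊕ Fin n) (Fin n ⊕ Fin n) F) =
      (Φ : Matrix (Fin n ⊕ Fin n) (Fin n ⊕ Fin n) F) * compM C ^ N *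
        ((Φ⁻¹ : (Matrix (Fin n ⊕ Fin n) (Fin n ⊕ Fin n) F)ˣ) :
          Matrix (Fin n ⊕ Fin n) (Fin n ⊕ Fin n) F) := by
    rw [SubmonoidClass.coe_pow, hg]
    exact Units.conj_pow Φ (compM C) N
  have hcomm : Commute (compM C) (compM' C) := by
    rw [Commute, SemiconjBy, compM_mul_compM', compM'_mul_compM]
  have hsinv : (((g ^ N)⁻¹ : Matrix.symplecticGroup (Fin n) F) :
      Matrix (Fin n ⊕ Fin n) (Fin n ⊕ Fin n) F) =
      (Φ : Matrix (Fin n ⊕ Fin n) (Fin n ⊕ Fin n) F) * compM' C ^ N *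
        ((Φ⁻¹ : (Matrix (Fin n ⊕ Fin n) (Fin n ⊕ Fin n) F)ˣ) :
          Matrix (Fin n ⊕ Fin n) (Fin n ⊕ Fin n) F) := by
    rw [SymplecticGroup.coe_inv', hs]
    apply Matrix.inv_eq_right_inv
    have : (Φ : Matrix (Fin n ⊕ Fin n) (Fin n ⊕ Fin n) F) * compM C ^ N *
        ((Φ⁻¹ : (Matrix (Fin n ⊕ Fin n) (Fin n ⊕ Fin n) F)ˣ) :
          Matrix (Fin n ⊕ Fin n) (Fin n ⊕ Fin n) F) *
        ((Φ : Matrix (Fin n ⊕ Fin n) (Fin n ⊕ Fin n) F) * compM' C ^ N *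
        ((Φ⁻¹ : (Matrix (Fin n ⊕ Fin n) (Fin n ⊕ Fin n) F)ˣ) :
          Matrix (Fin n ⊕ Fin n) (Fin n ⊕ Fin n) F)) =
        (Φ : Matrix (Fin n ⊕ Fin n) (Fin n ⊕ Fin n) F) * (compM C ^ N * compM' C ^ N) *
        ((Φ⁻¹ : (Matrix (Fin n ⊕ Fin n) (Fin n ⊕ Fin n) F)ˣ) :
          Matrix (Fin n ⊕ Fin n) (Fin n ⊕ Fin n) F) := by
      simp only [Matrix.mul_assoc]
      rw [Units.inv_mul_cancel_left]
    rw [this, ← hcomm.mul_pow, compM_mul_compM', one_pow, Matrix.mul_one, Units.mul_inv]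
  -- Frobenius
  obtain ⟨⟨e, he0⟩, -, hcard⟩ := FiniteField.card F p
  have hNp : N = p ^ (e * k) := by
    rw [hN, hcard, ← pow_mul]
    rfl
  have hfrob : (compM C + compM' C) ^ N = compM C ^ N + compM' C ^ N := by
    rw [hNp]
    exact add_pow_char_pow_of_commute p (e * k) hcomm
  rw [kap, hs, hsinv, ← Matrix.add_mul, ← Matrix.mul_add, ← hfrob, Matrix.coe_units_inv,
    Matrix.charpoly_units_conj, hN, charpoly_pow_card_pow', compM_add_compM',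
    Matrix.charpoly_fromBlocks_zero₁₂, hC, sq]

end Cfsg.Agent.Helper12.SpCount
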