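import Mathlib
import Cfsg.Agent.S2385
import Cfsg.Agent.Helper12.SympConjJ

set_option autoImplicit false

/-! Every monic palindromic polynomial of degree `2n` is the characteristic polynomial of an
element of `Sp_2n(F)` of order prime to the characteristic (`F` finite). -/

open Polynomial Matrix

namespace Cfsg.Agent.Helper12.SpPrime

universe u

variable {F : Type u} [Field F] [Fintype F] {n : ℕ}

theorem coe_pow_orderOf (a : Matrix.symplecticGroup (Fin n) F) :
    (a : Matrix (Fin n ⊕ Fin n) (Fin n ⊕ Fin n) F) ^ orderOf a = 1 := by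
  have h1 := pow_orderOf_eq_one a
  have h2 := congrArg (fun x : ↥(Matrix.symplecticGroup (Fin n) F) =>
    (x : Matrix (Fin n ⊕ Fin n) (Fin n ⊕ Fin n) F)) h1
  simpa only [SubmonoidClass.coe_pow, OneMemClass.coe_one] using h2

theorem isSemisimple_of_coprime (p : ℕ) [Fact p.Prime] [CharP F p]
    (a : Matrix.symplecticGroup (Fin n) F) (ha : (orderOf a).Coprime p) :
    Module.End.IsSemisimple (Matrix.toLin' (a : Matrix (Fin n ⊕ Fin n) (Fin n ⊕ Fin n) F)) :=
  Cfsg.Agent.Helper12.SympConj.isSemisimple_toLin'_of_pow_eq_one _ (orderOf a)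
    (Cfsg.Agent.Helper12.SympConj.natCast_ne_zero_of_coprime p ha) (coe_pow_orderOf a)

/-- Elements of `Sp_2n(F)` of order prime to `p` with the same characteristic polynomial are
conjugate. -/
theorem isConj_of_charpoly_eq (p : ℕ) [Fact p.Prime] [CharP F p]
    (g g' : Matrix.symplecticGroup (Fin n) F) (hg : (orderOf g).Coprime p)
    (hg' : (orderOf g').Coprime p)
    (hc : (g : Matrix (Fin n ⊕ Fin n) (Fin n ⊕ Fin n) F).charpoly =
      (g' : Matrix (Fin n ⊕ Fin n) (Fin n ⊕ Fin n) F).charpoly) : IsConj g g' :=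
  Cfsg.Agent.Helper12.SympConj.sp_isConj_of_semisimple n g g'
    (isSemisimple_of_coprime p g hg) (isSemisimple_of_coprime p g' hg') hc

/-- Existence of a symplectic element of order prime to `p` with a prescribed palindromic
characteristic polynomial. -/
theorem exists_sp_charpoly_eq (p : ℕ) [Fact p.Prime] [CharP F p] (f : F[X]) (hf : f.Monic)
    (hdeg : f.natDegree = 2 * n) (hrev : f.reverse = f) :
    ∃ s : Matrix.symplecticGroup (Fin n) F, (orderOf s).Coprime p ∧
      (s : Matrix (Fin n ⊕ Fin n) (Fin n ⊕ Fin n) F).charpoly = f := by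
  classical
  have hfinG : Finite ↥(Matrix.symplecticGroup (Fin n) F) := Subtype.finite
  set S := {c : ConjClasses ↥(Matrix.symplecticGroup (Fin n) F) //
      ∃ g : ↥(Matrix.symplecticGroup (Fin n) F), ConjClasses.mk g = c ∧ (orderOf g).Coprime p}
    with hS
  have hfinS : Finite S := Subtype.finite
  have hcardS : Nat.card S = Fintype.card F ^ n := Cfsg.Agent.S2385.result rfl p n
  have hcardV : Nat.card (Fin n → F) = Fintype.card F ^ n := by
    rw [Nat.card_fun, Nat.card_fin, Nat.card_eq_fintype_card]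
  let Ψ : S → (Fin n → F) := fun c i =>
    ((Classical.choose c.2 : ↥(Matrix.symplecticGroup (Fin n) F)) :
      Matrix (Fin n ⊕ Fin n) (Fin n ⊕ Fin n) F).charpoly.coeff ((i : ℕ) + 1)
  have hinj : Function.Injective Ψ := by
    intro c c' hcc
    have hc := Classical.choose_spec c.2
    have hc' := Classical.choose_spec c'.2
    set g := Classical.choose c.2 with hg
    set g' := Classical.choose c'.2 with hg'
    have hcp : (g : Matrix (Fin n ⊕ Fin n) (Fin n ⊕ Fin n) F).charpoly =
        (g' : Matrix (Fin n ⊕ Fin n) (Fin n ⊕ Fin n) F).charpoly := by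
      apply Cfsg.Agent.Helper12.SpCount.eq_of_palindromic (n := n) (Matrix.charpoly_monic _)
        (Matrix.charpoly_monic _) (Cfsg.Agent.Helper12.SpCount.charpoly_natDegree g)
        (Cfsg.Agent.Helper12.SpCount.charpoly_natDegree g')
        (Cfsg.Agent.Helper12.SpCount.charpoly_reverse g)
        (Cfsg.Agent.Helper12.SpCount.charpoly_reverse g')
      intro i
      exact congrFun hcc i
    have hconj : IsConj g g' := isConj_of_charpoly_eq p g g' hc.2 hc'.2 hcp
    apply Subtype.ext
    rw [← hc.1, ← hc'.1]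
    exact ConjClasses.mk_eq_mk_iff_isConj.2 hconj
  have hbij : Function.Bijective Ψ :=
    hinj.bijective_of_nat_card_le (by rw [hcardS, hcardV])
  obtain ⟨c, hc⟩ := hbij.2 (fun i : Fin n => f.coeff ((i : ℕ) + 1))
  have hcs := Classical.choose_spec c.2
  refine ⟨Classical.choose c.2, hcs.2, ?_⟩
  apply Cfsg.Agent.Helper12.SpCount.eq_of_palindromic (n := n) (Matrix.charpoly_monic _) hf
    (Cfsg.Agent.Helper12.SpCount.charpoly_natDegree _) hdeg
    (Cfsg.Agent.Helper12.SpCount.charpoly_reverse _) hrev
  intro i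
  exact congrFun hc i

end Cfsg.Agent.Helper12.SpPrime
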