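import Mathlib
import Cfsg.Agent.Helper12.PrimeOrderClassC

set_option autoImplicit false

/-! Counting tuples invariant under a fixed-point-free involution of the index set. -/

namespace Cfsg.Agent.Helper12.SpPrime

open Finset Cfsg.Agent.Helper12.POC

variable {ι : Type*} [Fintype ι] [DecidableEq ι]

/-- A half-system of representatives for a fixed-point-free involution. -/
noncomputable def halfSystem (σ : Equiv.Perm ι) : Finset ι :=
  univ.filter (fun x => Fintype.equivFin ι x < Fintype.equivFin ι (σ x))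

theorem mem_halfSystem_iff (σ : Equiv.Perm ι) (hσ : ∀ x, σ (σ x) = x) (hfix : ∀ x, σ x ≠ x)
    (x : ι) : σ x ∈ halfSystem σ ↔ x ∉ halfSystem σ := by
  rw [halfSystem, mem_filter, mem_filter, hσ]
  simp only [mem_univ, true_and, not_lt]
  have hne : Fintype.equivFin ι (σ x) ≠ Fintype.equivFin ι x := by
    intro h
    exact hfix x ((Fintype.equivFin ι).injective h)
  constructor
  · intro h
    exact h.le
  · intro h
    exact lt_of_le_of_ne h hne

theorem sum_eq_two_mul_sum_halfSystem (σ : Equiv.Perm ι) (hσ : ∀ x, σ (σ x) = x)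
    (hfix : ∀ x, σ x ≠ x) (a : ι → ℕ) (ha : ∀ x, a (σ x) = a x) :
    ∑ x, a x = 2 * ∑ x ∈ halfSystem σ, a x := by
  rw [← Finset.sum_add_sum_compl (halfSystem σ) a, two_mul]
  congr 1
  symm
  apply Finset.sum_equiv σ
  · intro x
    rw [mem_compl, mem_halfSystem_iff σ hσ hfix, not_not]
  · intro x _
    exact (ha x).symm

theorem card_eq_two_mul_card_halfSystem (σ : Equiv.Perm ι) (hσ : ∀ x, σ (σ x) = x)
    (hfix : ∀ x, σ x ≠ x) : Fintype.card ι = 2 * (halfSystem σ).card := by
  have := sum_eq_two_mul_sum_halfSystem σ hσ hfix (fun _ => 1) (fun _ => rfl)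
  simpa using this

/-- The number of nonzero `σ`-invariant tuples `a` with `i * ∑ a ≤ 2 * m`. -/
theorem card_invariant_tuples (σ : Equiv.Perm ι) (hσ : ∀ x, σ (σ x) = x) (hfix : ∀ x, σ x ≠ x)
    (i m : ℕ) (hi : 0 < i) :
    Nat.card {a : ι → ℕ // a ≠ 0 ∧ (fun x => a (σ x)) = a ∧ i * ∑ j, a j ≤ 2 * m} =
      (m / i + Fintype.card ι / 2).choose (Fintype.card ι / 2) - 1 := by
  classical
  have hmemiff := mem_halfSystem_iff σ hσ hfix
  have hsum2 := sum_eq_two_mul_sum_halfSystem σ hσ hfix
  have hcard2 := card_eq_two_mul_card_halfSystem σ hσ hfix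
  generalize halfSystem σ = T at hmemiff hsum2 hcard2
  have hcardT : Fintype.card T = Fintype.card ι / 2 := by
    rw [Fintype.card_coe, hcard2]
    omega
  rw [← hcardT, ← card_tuples (ι := T) i m hi]
  have hsum : ∀ a : ι → ℕ, (fun x => a (σ x)) = a →
      ∑ j, a j = 2 * ∑ t : T, a t := by
    intro a ha
    rw [hsum2 a (fun x => congrFun ha x), Finset.sum_coe_sort T a]
  have hzero : ∀ a : ι → ℕ, (fun x => a (σ x)) = a → (fun t : T => a t) = 0 → a = 0 := by
    intro a ha h0
    funext x
    by_cases hx : x ∈ T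
    · exact congrFun h0 ⟨x, hx⟩
    · have hx' : σ x ∈ T := (hmemiff x).2 hx
      have := congrFun h0 ⟨σ x, hx'⟩
      rw [← congrFun ha x]
      exact this
  apply Nat.card_eq_of_bijective
    (fun a : {a : ι → ℕ // a ≠ 0 ∧ (fun x => a (σ x)) = a ∧ i * ∑ j, a j ≤ 2 * m} =>
      (⟨fun t : T => a.1 t, fun h0 => a.2.1 (hzero a.1 a.2.2.1 h0), by
        show i * ∑ t : T, a.1 t ≤ m
        have h1 := a.2.2.2
        rw [hsum a.1 a.2.2.1] at h1
        have h2 : 2 * (i * ∑ t : T, a.1 t) ≤ 2 * m := by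
          calc 2 * (i * ∑ t : T, a.1 t) = i * (2 * ∑ t : T, a.1 t) := by ring
            _ ≤ 2 * m := h1
        omega⟩ : {b : T → ℕ // b ≠ 0 ∧ i * ∑ j, b j ≤ m}))
  constructor
  · intro a a' haa
    have h1 : (fun t : T => a.1 t) = (fun t : T => a'.1 t) := congrArg Subtype.val haa
    apply Subtype.ext
    funext x
    by_cases hx : x ∈ T
    · exact congrFun h1 ⟨x, hx⟩
    · have hx' : σ x ∈ T := (hmemiff x).2 hx
      have := congrFun h1 ⟨σ x, hx'⟩
      rw [← congrFun a.2.2.1 x, ← congrFun a'.2.2.1 x]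
      exact this
  · rintro ⟨b, hb0, hb⟩
    have hmem : ∀ x, x ∉ T → σ x ∈ T := fun x hx => (hmemiff x).2 hx
    set a : ι → ℕ := fun x => if h : x ∈ T then b ⟨x, h⟩ else b ⟨σ x, hmem x h⟩ with ha
    have haT : ∀ t : T, a t = b t := by
      intro t
      rw [ha]
      dsimp only
      rw [dif_pos t.2]
    have hinv : (fun x => a (σ x)) = a := by
      funext x
      by_cases hx : x ∈ T
      · have hx' : σ x ∉ T := by
          rw [hmemiff]
          exact not_not.2 hx
        rw [ha]
        dsimp only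
        rw [dif_neg hx', dif_pos hx]
        congr 1
        apply Subtype.ext
        exact hσ x
      · rw [ha]
        dsimp only
        rw [dif_pos (hmem x hx), dif_neg hx]
    have hres : (fun t : T => a t) = b := funext haT
    refine ⟨⟨a, ?_, hinv, ?_⟩, ?_⟩
    · intro h0
      apply hb0
      rw [← hres, h0]
      rfl
    · rw [hsum a hinv, hres]
      calc i * (2 * ∑ t : T, b t) = 2 * (i * ∑ t : T, b t) := by ring
        _ ≤ 2 * m := by omega
    · apply Subtype.ext
      exact hres

end Cfsg.Agent.Helper12.SpPrime
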