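import Mathlib
import Cfsg.Agent.Helper12.SpPrimeA
import Cfsg.Agent.Helper12.SpPrimeD
import Cfsg.Agent.Helper12.SpPrimeE
import Cfsg.Agent.Helper12.PrimeOrderClassE

set_option autoImplicit false

/-! The number of conjugacy classes of elements of odd prime order `r ≠ p` in `Sp_2m(q)`. -/

open Polynomial

namespace Cfsg.Agent.Helper12.SpPrime

open Cfsg.Agent.Helper12.POC

universe u

variable {K : Type u} [Field K]

/-- General index version of `POC.aeval_eq_zero_of_semisimple`. -/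
theorem aeval_eq_zero_of_semisimple_gen {ι : Type*} [Fintype ι] [DecidableEq ι]
    (g : Matrix ι ι K) (hss : Module.End.IsSemisimple (Matrix.toLin' g)) (N : K[X]) (hN0 : N ≠ 0)
    (h : ∀ Q : K[X], Irreducible Q → Q ∣ g.charpoly → Q ∣ N) : aeval g N = 0 := by
  have hsq : Squarefree (minpoly K g) := by
    rw [← Matrix.minpoly_toLin']
    exact hss.minpoly_squarefree
  have hdvd : minpoly K g ∣ N :=
    dvd_of_squarefree_of_forall_irreducible_dvd hsq hN0
      (fun Q hQ hQm => h Q hQ (hQm.trans (Matrix.minpoly_dvd_charpoly g)))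
  obtain ⟨k, rfl⟩ := hdvd
  rw [map_mul, minpoly.aeval, zero_mul]

/-- General index version of `POC.dvd_of_irreducible_dvd_charpoly`. -/
theorem dvd_of_irreducible_dvd_charpoly_gen {ι : Type*} [Fintype ι] [DecidableEq ι]
    (g : Matrix ι ι K) (N : K[X])
    (hN : aeval g N = 0) (Q : K[X]) (hQ : Irreducible Q) (hQg : Q ∣ g.charpoly) : Q ∣ N := by
  have hQ' : Q ∣ LinearMap.charpoly (Matrix.toLin' g) := by
    rw [Matrix.charpoly_toLin']
    exact hQg
  obtain ⟨w, hw0, hw⟩ := exists_ne_zero_aeval_eq_zero (Matrix.toLin' g) Q hQ hQ'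
  by_contra hndvd
  obtain ⟨a, b, hab⟩ := (hQ.coprime_iff_not_dvd).2 hndvd
  apply hw0
  have hN' : aeval (Matrix.toLin' g) N = 0 := by
    have := Polynomial.aeval_algHom_apply (Matrix.toLinAlgEquiv' (R := K) (n := ι)).toAlgHom g N
    have e1 : ((Matrix.toLinAlgEquiv' (R := K) (n := ι)).toAlgHom : _ → _) g =
        Matrix.toLin' g := rfl
    rw [e1] at this
    rw [this, hN, map_zero]
  have h1 : aeval (Matrix.toLin' g) (a * Q + b * N) w = w := by
    rw [hab, map_one, Module.End.one_apply]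
  rw [map_add, map_mul, map_mul, LinearMap.add_apply, Module.End.mul_apply,
    Module.End.mul_apply, hw, hN', map_zero, LinearMap.zero_apply, map_zero, add_zero] at h1
  exact h1.symm

variable [Fintype K]

/-- The factor set of `X^r - 1` is closed under `recip`. -/
theorem recip_mem_of_factorSet {S : Finset K[X]} {i : ℕ} (hS : FactorSet S i) (r : ℕ)
    (hr : 0 < r) (hSd : ∀ P ∈ S, P ∣ (X ^ r - 1 : K[X]))
    (hSN : ∀ Q : K[X], Q.Monic → Irreducible Q → Q ∣ (X ^ r - 1 : K[X]) → Q = X - C 1 ∨ Q ∈ S) :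
    ∀ P ∈ S, recip P ∈ S := by
  intro P hP
  have h0 := hS.coeff_zero P hP
  rcases hSN (recip P) (recip_monic h0) (recip_irreducible (hS.irred P hP) h0)
    (recip_dvd_X_pow_sub_one h0 r hr (hSd P hP)) with h | h
  · exfalso
    have h1 := recip_recip (hS.monic P hP) h0
    rw [h, recip_X_sub_one] at h1
    exact hS.notMem (h1 ▸ hP)
  · exact h

/-- Existence of a symplectic element of order `r` with a prescribed invariant tuple. -/
theorem exists_sp_order_eq (p : ℕ) [Fact p.Prime] [CharP K p] (m r : ℕ) (hr : r.Prime)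
    {S : Finset K[X]} {i : ℕ} (hS : FactorSet S i)
    (hSd : ∀ P ∈ S, P ∣ (X ^ r - 1 : K[X])) (hc : ∀ P ∈ S, recip P ∈ S) (a : S → ℕ) (ha0 : a ≠ 0)
    (hinv : (fun P => a (starPerm hS hc P)) = a) (hk : Even (2 * m - i * ∑ P, a P))
    (ha : i * ∑ P, a P ≤ 2 * m) :
    ∃ s : Matrix.symplecticGroup (Fin m) K,
      (s : Matrix (Fin m ⊕ Fin m) (Fin m ⊕ Fin m) K).charpoly = tuplePoly S i (2 * m) a ∧
      orderOf s = r := by
  have hmir := mirror_tuplePoly_of_invariant hS hc (2 * m) a hinv hk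
  rw [mirror_eq_reverse (tuplePoly_coeff_zero hS (2 * m) a)] at hmir
  obtain ⟨s, hs2, hs1⟩ := exists_sp_charpoly_eq (n := m) p (tuplePoly S i (2 * m) a)
    (tuplePoly_monic hS (2 * m) a) (tuplePoly_natDegree hS (2 * m) a ha) hmir
  refine ⟨s, hs1, ?_⟩
  have hss := isSemisimple_of_coprime p s hs2
  have hN0 : (X ^ r - 1 : K[X]) ≠ 0 := by
    intro h
    have := congrArg (fun f : K[X] => f.coeff 0) h
    simp only [coeff_sub, coeff_X_pow, coeff_one_zero, coeff_zero, if_neg hr.pos.ne] at this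
    simp at this
  have h1 : aeval (s : Matrix (Fin m ⊕ Fin m) (Fin m ⊕ Fin m) K) (X ^ r - 1 : K[X]) = 0 := by
    apply aeval_eq_zero_of_semisimple_gen _ hss _ hN0
    intro Q hQ hQd
    rw [hs1] at hQd
    exact dvd_of_irreducible_dvd_tuplePoly (2 * m) a _ (X_sub_one_dvd_X_pow_sub_one r) hSd Q hQ hQd
  have h2 : (s : Matrix (Fin m ⊕ Fin m) (Fin m ⊕ Fin m) K) ^ r = 1 := by
    rw [map_sub, map_pow, aeval_X, map_one, sub_eq_zero] at h1
    exact h1
  have hrf : Fact r.Prime := ⟨hr⟩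
  apply orderOf_eq_prime
  · apply Subtype.ext
    rw [SubmonoidClass.coe_pow, h2]
    rfl
  · intro h
    rw [h] at hs1
    have h4 : ((1 : Matrix.symplecticGroup (Fin m) K) :
        Matrix (Fin m ⊕ Fin m) (Fin m ⊕ Fin m) K) = 1 := rfl
    rw [h4, Matrix.charpoly_one, Fintype.card_sum, Fintype.card_fin, ← two_mul] at hs1
    have h3 : tuplePoly S i (2 * m) a = tuplePoly S i (2 * m) 0 := by
      rw [tuplePoly_zero, ← hs1, map_one]
    exact ha0 (tuplePoly_injective hS (2 * m) h3)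

/-- The invariant tuple of a symplectic element of order `r`. -/
theorem exists_tuple_of_sp_order_eq (p : ℕ) [Fact p.Prime] [CharP K p] (m r : ℕ) (hr : r.Prime)
    (hrp : r ≠ p) {S : Finset K[X]} {i : ℕ} (hS : FactorSet S i)
    (hSN : ∀ Q : K[X], Q.Monic → Irreducible Q → Q ∣ (X ^ r - 1 : K[X]) → Q = X - C 1 ∨ Q ∈ S)
    (hc : ∀ P ∈ S, recip P ∈ S)
    (g : Matrix.symplecticGroup (Fin m) K) (hg : orderOf g = r) :
    ∃ a : S → ℕ, a ≠ 0 ∧ (fun P => a (starPerm hS hc P)) = a ∧ i * ∑ P, a P ≤ 2 * m ∧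
      (g : Matrix (Fin m ⊕ Fin m) (Fin m ⊕ Fin m) K).charpoly = tuplePoly S i (2 * m) a := by
  have hp : p.Prime := Fact.out
  have hgr : (g : Matrix (Fin m ⊕ Fin m) (Fin m ⊕ Fin m) K) ^ r = 1 := by
    rw [← hg]
    exact coe_pow_orderOf g
  have hcop : (orderOf g).Coprime p := by
    rw [hg]
    exact (Nat.coprime_primes hr hp).2 hrp
  have hss := isSemisimple_of_coprime p g hcop
  have hN : aeval (g : Matrix (Fin m ⊕ Fin m) (Fin m ⊕ Fin m) K) (X ^ r - 1 : K[X]) = 0 := by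
    rw [map_sub, map_pow, aeval_X, map_one, hgr, sub_self]
  have hfac : ∀ Q : K[X], Q.Monic → Irreducible Q →
      Q ∣ (g : Matrix (Fin m ⊕ Fin m) (Fin m ⊕ Fin m) K).charpoly → Q = X - C 1 ∨ Q ∈ S := by
    intro Q hQm hQi hQd
    exact hSN Q hQm hQi (dvd_of_irreducible_dvd_charpoly_gen _ _ hN Q hQi hQd)
  obtain ⟨a, ha, hfa⟩ := exists_tuple hS (2 * m) _ (Matrix.charpoly_monic _)
    (Cfsg.Agent.Helper12.SpCount.charpoly_natDegree g) hfac
  have hrev := Cfsg.Agent.Helper12.SpCount.charpoly_reverse g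
  rw [hfa, ← mirror_eq_reverse (tuplePoly_coeff_zero hS (2 * m) a)] at hrev
  refine ⟨a, ?_, tuple_invariant_of_mirror hS hc (2 * m) a hrev, ha, hfa⟩
  rintro rfl
  rw [tuplePoly_zero] at hfa
  have h1 : aeval (g : Matrix (Fin m ⊕ Fin m) (Fin m ⊕ Fin m) K) (X - C 1 : K[X]) = 0 := by
    apply aeval_eq_zero_of_semisimple_gen _ hss _ (X_sub_C_ne_zero 1)
    intro Q hQ hQd
    rw [hfa] at hQd
    exact hQ.prime.dvd_of_dvd_pow hQd
  rw [map_sub, aeval_X, aeval_C, map_one, sub_eq_zero] at h1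
  have h2 : g = 1 := Subtype.ext h1
  rw [h2, orderOf_one] at hg
  exact hr.one_lt.ne hg

end Cfsg.Agent.Helper12.SpPrime
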