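import Mathlib
import Cfsg.Agent.Helper12.SpPrimeF

set_option autoImplicit false

/-! The number of conjugacy classes of elements of odd prime order `r ≠ p` in `Sp_2m(q)`:
the final count. -/

open Polynomial

namespace Cfsg.Agent.Helper12.SpPrime

open Cfsg.Agent.Helper12.POC

universe u

variable {K : Type u} [Field K] [Fintype K]

theorem card_sp_prime_order_classes (p : ℕ) [Fact p.Prime] [CharP K p] (m r i t : ℕ)
    (hr : r.Prime) (hr2 : r ≠ 2) (hrp : r ≠ p)
    (hi : i = orderOf ((Fintype.card K : ℕ) : ZMod r)) (ht : t * i = r - 1) :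
    Nat.card {C : ConjClasses ↥(Matrix.symplecticGroup (Fin m) K) //
      ∃ g : Matrix.symplecticGroup (Fin m) K, ConjClasses.mk g = C ∧ orderOf g = r} =
      if Odd i then Nat.choose (m / i + t / 2) (t / 2) - 1
      else Nat.choose (2 * m / i + t) t - 1 := by
  classical
  have hp : p.Prime := Fact.out
  obtain ⟨S, hS, hcard, hSd, hSN⟩ := exists_factorSet (K := K) p r hr hrp
  rw [← hi] at hS hcard
  have hipos : 0 < i := by
    rcases Nat.eq_zero_or_pos i with h | h
    · rw [h, mul_zero] at hcard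
      have := hr.two_le
      omega
    · exact h
  have htS : t = Fintype.card S := by
    rw [Fintype.card_coe]
    exact Nat.eq_of_mul_eq_mul_right hipos (ht.trans hcard.symm)
  have hc := recip_mem_of_factorSet hS r hr.pos hSd hSN
  have hσσ := starPerm_starPerm hS hc
  have hrodd : Odd r := hr.odd_of_ne_two hr2
  have hfix : Odd i → ∀ P : S, starPerm hS hc P ≠ P := by
    intro hodd P h
    have h1 := congrArg (fun Q : S => (Q : K[X])) h
    simp only [starPerm_apply] at h1
    refine recip_ne_self_of_odd r hrodd (hS.monic P P.2) (hS.irred P P.2) (hS.coeff_zero P P.2)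
      (hSd P P.2) ?_ ?_ h1
    · intro h2
      exact hS.notMem (h2 ▸ P.2)
    · rw [hS.deg P P.2]
      exact hodd
  have hid : ¬ Odd i → ∀ P : S, starPerm hS hc P = P := by
    intro hodd P
    apply Subtype.ext
    rw [starPerm_apply]
    apply recip_eq_self_of_even r hr (hS.monic P P.2) (hS.irred P P.2) (hS.coeff_zero P P.2)
      (hSd P P.2)
    · rw [← hi]
      exact Nat.not_odd_iff_even.1 hodd
    · rw [← hi]
      exact hipos
  -- parity of the exponent of `X - 1`
  have heven : ∀ a : S → ℕ, (fun P => a (starPerm hS hc P)) = a →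
      Even (2 * m - i * ∑ P, a P) := by
    intro a ha
    have h1 : Even (i * ∑ P, a P) := by
      by_cases hodd : Odd i
      · rw [sum_eq_two_mul_sum_halfSystem (starPerm hS hc) hσσ (hfix hodd) a
          (fun x => congrFun ha x)]
        exact ⟨i * ∑ x ∈ halfSystem (starPerm hS hc), a x, by ring⟩
      · exact (Nat.not_odd_iff_even.1 hodd).mul_right _
    obtain ⟨c, hc'⟩ := h1
    exact ⟨m - c, by omega⟩
  -- the bijection with invariant tuples
  have hbij : Nat.card {C : ConjClasses ↥(Matrix.symplecticGroup (Fin m) K) //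
      ∃ g : Matrix.symplecticGroup (Fin m) K, ConjClasses.mk g = C ∧ orderOf g = r} =
      Nat.card {a : S → ℕ // a ≠ 0 ∧ (fun P => a (starPerm hS hc P)) = a ∧
        i * ∑ j, a j ≤ 2 * m} := by
    symm
    have hex : ∀ a : {a : S → ℕ // a ≠ 0 ∧ (fun P => a (starPerm hS hc P)) = a ∧
        i * ∑ j, a j ≤ 2 * m}, ∃ s : Matrix.symplecticGroup (Fin m) K,
        (s : Matrix (Fin m ⊕ Fin m) (Fin m ⊕ Fin m) K).charpoly = tuplePoly S i (2 * m) a.1 ∧
          orderOf s = r :=
      fun a => exists_sp_order_eq p m r hr hS hSd hc a.1 a.2.1 a.2.2.1 (heven a.1 a.2.2.1) a.2.2.2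
    choose s hs1 hs2 using hex
    have hcop : ∀ g : Matrix.symplecticGroup (Fin m) K, orderOf g = r → (orderOf g).Coprime p := by
      intro g hg
      rw [hg]
      exact (Nat.coprime_primes hr hp).2 hrp
    apply Nat.card_eq_of_bijective (fun a => (⟨ConjClasses.mk (s a), ⟨s a, rfl, hs2 a⟩⟩ :
      {C : ConjClasses ↥(Matrix.symplecticGroup (Fin m) K) //
        ∃ g : Matrix.symplecticGroup (Fin m) K, ConjClasses.mk g = C ∧ orderOf g = r}))
    constructor
    · intro a b hab
      have h1 : ConjClasses.mk (s a) = ConjClasses.mk (s b) := congrArg Subtype.val hab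
      rw [ConjClasses.mk_eq_mk_iff_isConj] at h1
      obtain ⟨x, hx⟩ := isConj_iff.1 h1
      have h3 : (s a : Matrix (Fin m ⊕ Fin m) (Fin m ⊕ Fin m) K).charpoly =
          (s b : Matrix (Fin m ⊕ Fin m) (Fin m ⊕ Fin m) K).charpoly := by
        let U : (Matrix (Fin m ⊕ Fin m) (Fin m ⊕ Fin m) K)ˣ :=
          ⟨(x : Matrix (Fin m ⊕ Fin m) (Fin m ⊕ Fin m) K),
            ((x⁻¹ : Matrix.symplecticGroup (Fin m) K) :
              Matrix (Fin m ⊕ Fin m) (Fin m ⊕ Fin m) K), by
              rw [← Submonoid.coe_mul, mul_inv_cancel]; rfl, by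
              rw [← Submonoid.coe_mul, inv_mul_cancel]; rfl⟩
        have e1 : (s b : Matrix (Fin m ⊕ Fin m) (Fin m ⊕ Fin m) K) =
            (U : Matrix (Fin m ⊕ Fin m) (Fin m ⊕ Fin m) K) *
              (s a : Matrix (Fin m ⊕ Fin m) (Fin m ⊕ Fin m) K) *
              ((U⁻¹ : (Matrix (Fin m ⊕ Fin m) (Fin m ⊕ Fin m) K)ˣ) :
                Matrix (Fin m ⊕ Fin m) (Fin m ⊕ Fin m) K) := by
          rw [← hx]
          rfl
        rw [e1, Matrix.coe_units_inv, Matrix.charpoly_units_conj]
      rw [hs1, hs1] at h3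
      exact Subtype.ext (tuplePoly_injective hS (2 * m) h3)
    · rintro ⟨_, g, rfl, hg⟩
      obtain ⟨a, ha0, hinv, ha, hfa⟩ := exists_tuple_of_sp_order_eq p m r hr hrp hS hSN hc g hg
      refine ⟨⟨a, ha0, hinv, ha⟩, ?_⟩
      apply Subtype.ext
      show ConjClasses.mk (s _) = ConjClasses.mk g
      rw [ConjClasses.mk_eq_mk_iff_isConj]
      apply isConj_of_charpoly_eq p _ _ (hcop _ (hs2 _)) (hcop g hg)
      rw [hs1, hfa]
  rw [hbij]
  split_ifs with hodd
  · rw [card_invariant_tuples (starPerm hS hc) hσσ (hfix hodd) i m hipos, ← htS]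
  · have hcongr : Nat.card {a : S → ℕ // a ≠ 0 ∧ (fun P => a (starPerm hS hc P)) = a ∧
        i * ∑ j, a j ≤ 2 * m} = Nat.card {a : S → ℕ // a ≠ 0 ∧ i * ∑ j, a j ≤ 2 * m} := by
      apply Nat.card_congr
      apply Equiv.subtypeEquivRight
      intro a
      constructor
      · rintro ⟨h1, -, h3⟩
        exact ⟨h1, h3⟩
      · rintro ⟨h1, h3⟩
        refine ⟨h1, ?_, h3⟩
        funext P
        rw [hid hodd P]
    rw [hcongr, card_tuples (ι := S) i (2 * m) hipos, ← htS]

end Cfsg.Agent.Helper12.SpPrime
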