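import Mathlib
import Cfsg.Prelude.Def_Characters
import Cfsg.Agent.Helper2.SpForm

set_option autoImplicit false

/-!
# S2347 (smallest degree of `Sp_{2n}(q)`, `q` odd): shared definitions for the Weil representation

The Heisenberg group `Heis n F = V × F`, `V = F^{2n}`, with `(v, s) (w, t) = (v + w, s + t + ω(v, w))`
(`ω` the standard symplectic form `Cfsg.Agent.Helper2.Sp.om`), the action of `Sp_{2n}(F)` on it by
`g (v, s) = (g v, s)`, the semidirect product `Gam n F = Heis n F ⋊ Sp_{2n}(F)`, and the class function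
`theta ψ (v, s) = q^n ψ(s)` if `v = 0`, `0` otherwise (`ψ` a nontrivial additive character of `F`).
-/

namespace Cfsg.Agent.Helper12.LSp

open Matrix Cfsg Cfsg.Agent.Helper2.Sp

/-- the Heisenberg group `F^{2n} × F` -/
@[ext] structure Heis (n : ℕ) (F : Type*) [Field F] where
  v : Fin n ⊕ Fin n → F
  s : F

variable {n : ℕ} {F : Type*} [Field F]

instance : Mul (Heis n F) := ⟨fun a b => ⟨a.v + b.v, a.s + b.s + om a.v b.v⟩⟩
instance : One (Heis n F) := ⟨⟨0, 0⟩⟩
instance : Inv (Heis n F) := ⟨fun a => ⟨-a.v, -a.s⟩⟩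

theorem Heis.mul_v (a b : Heis n F) : (a * b).v = a.v + b.v := rfl
theorem Heis.mul_s (a b : Heis n F) : (a * b).s = a.s + b.s + om a.v b.v := rfl
theorem Heis.one_v : (1 : Heis n F).v = 0 := rfl
theorem Heis.one_s : (1 : Heis n F).s = 0 := rfl
theorem Heis.inv_v (a : Heis n F) : (a⁻¹).v = -a.v := rfl
theorem Heis.inv_s (a : Heis n F) : (a⁻¹).s = -a.s := rfl

theorem om_zero_left' (y : Fin n ⊕ Fin n → F) : om (0 : Fin n ⊕ Fin n → F) y = 0 := by
  have := om_add_left (0 : Fin n ⊕ Fin n → F) 0 y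
  rw [add_zero] at this
  exact left_eq_add.mp this

theorem om_zero_right' (x : Fin n ⊕ Fin n → F) : om x (0 : Fin n ⊕ Fin n → F) = 0 := by
  have := om_add_right x (0 : Fin n ⊕ Fin n → F) 0
  rw [add_zero] at this
  exact left_eq_add.mp this

theorem om_neg_right' (x y : Fin n ⊕ Fin n → F) : om x (-y) = - om x y := by
  rw [om_swap, om_neg_left, om_swap y x]

instance : Group (Heis n F) where
  mul_assoc a b c := by
    apply Heis.ext
    · simp only [Heis.mul_v, add_assoc]
    · simp only [Heis.mul_s, Heis.mul_v, om_add_left, om_add_right]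
      ring
  one_mul a := by
    apply Heis.ext
    · simp only [Heis.mul_v, Heis.one_v, zero_add]
    · simp only [Heis.mul_s, Heis.one_s, Heis.one_v, om_zero_left', zero_add, add_zero]
  mul_one a := by
    apply Heis.ext
    · simp only [Heis.mul_v, Heis.one_v, add_zero]
    · simp only [Heis.mul_s, Heis.one_s, Heis.one_v, om_zero_right', add_zero]
  inv_mul_cancel a := by
    apply Heis.ext
    · simp only [Heis.mul_v, Heis.inv_v, Heis.one_v, neg_add_cancel]
    · simp only [Heis.mul_s, Heis.inv_s, Heis.inv_v, Heis.one_s, om_neg_left, om_self]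
      ring

/-- the automorphism of the Heisenberg group induced by a symplectic matrix -/
def heisAct (g : symplecticGroup (Fin n) F) : Heis n F ≃* Heis n F where
  toFun a := ⟨(g : Matrix (Fin n ⊕ Fin n) (Fin n ⊕ Fin n) F) *ᵥ a.v, a.s⟩
  invFun a := ⟨((g⁻¹ : symplecticGroup (Fin n) F) : Matrix (Fin n ⊕ Fin n) (Fin n ⊕ Fin n) F) *ᵥ a.v,
    a.s⟩
  left_inv a := by
    apply Heis.ext
    · show ((g⁻¹ : symplecticGroup (Fin n) F) : Matrix (Fin n ⊕ Fin n) (Fin n ⊕ Fin n) F) *ᵥ
        ((g : Matrix (Fin n ⊕ Fin n) (Fin n ⊕ Fin n) F) *ᵥ a.v) = a.v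
      rw [mulVec_mulVec, ← Submonoid.coe_mul, inv_mul_cancel, Submonoid.coe_one,
        one_mulVec]
    · rfl
  right_inv a := by
    apply Heis.ext
    · show (g : Matrix (Fin n ⊕ Fin n) (Fin n ⊕ Fin n) F) *ᵥ
        (((g⁻¹ : symplecticGroup (Fin n) F) : Matrix (Fin n ⊕ Fin n) (Fin n ⊕ Fin n) F) *ᵥ a.v) = a.v
      rw [mulVec_mulVec, ← Submonoid.coe_mul, mul_inv_cancel, Submonoid.coe_one,
        one_mulVec]
    · rfl
  map_mul' a b := by
    apply Heis.ext
    · show (g : Matrix (Fin n ⊕ Fin n) (Fin n ⊕ Fin n) F) *ᵥ (a.v + b.v) = _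
      rw [mulVec_add]
      rfl
    · show a.s + b.s + om a.v b.v = a.s + b.s + om _ _
      rw [mem_symplectic_iff_om.mp g.2]

theorem heisAct_v (g : symplecticGroup (Fin n) F) (a : Heis n F) :
    (heisAct g a).v = (g : Matrix (Fin n ⊕ Fin n) (Fin n ⊕ Fin n) F) *ᵥ a.v := rfl

theorem heisAct_s (g : symplecticGroup (Fin n) F) (a : Heis n F) : (heisAct g a).s = a.s := rfl

/-- the action of `Sp_{2n}(F)` on the Heisenberg group -/
def heisPhi (n : ℕ) (F : Type*) [Field F] : symplecticGroup (Fin n) F →* MulAut (Heis n F) where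
  toFun := heisAct
  map_one' := by
    apply MulEquiv.ext
    intro a
    apply Heis.ext
    · show ((1 : symplecticGroup (Fin n) F) : Matrix (Fin n ⊕ Fin n) (Fin n ⊕ Fin n) F) *ᵥ a.v = a.v
      rw [Submonoid.coe_one, one_mulVec]
    · rfl
  map_mul' g h := by
    apply MulEquiv.ext
    intro a
    apply Heis.ext
    · show ((g * h : symplecticGroup (Fin n) F) : Matrix (Fin n ⊕ Fin n) (Fin n ⊕ Fin n) F) *ᵥ a.v =
        (g : Matrix (Fin n ⊕ Fin n) (Fin n ⊕ Fin n) F) *ᵥ
          ((h : Matrix (Fin n ⊕ Fin n) (Fin n ⊕ Fin n) F) *ᵥ a.v)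
      rw [Submonoid.coe_mul, mulVec_mulVec]
    · rfl

theorem heisPhi_apply (g : symplecticGroup (Fin n) F) (a : Heis n F) :
    heisPhi n F g a = heisAct g a := rfl

/-- the semidirect product `Heis ⋊ Sp` -/
abbrev Gam (n : ℕ) (F : Type*) [Field F] : Type _ :=
  Heis n F ⋊[heisPhi n F] symplecticGroup (Fin n) F

/-- the irreducible character of degree `q^n` of the Heisenberg group with central character `ψ` -/
noncomputable def theta [Fintype F] (ψ : AddChar F ℂ) : Heis n F → ℂ := fun a =>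
  open Classical in if a.v = 0 then (Fintype.card F : ℂ) ^ n * ψ a.s else 0


/-! ### finiteness -/

/-- the underlying set of the Heisenberg group -/
def Heis.equivProd : Heis n F ≃ (Fin n ⊕ Fin n → F) × F where
  toFun a := (a.v, a.s)
  invFun x := ⟨x.1, x.2⟩
  left_inv _ := rfl
  right_inv _ := rfl

instance [Finite F] : Finite (Heis n F) := Finite.of_equiv _ Heis.equivProd.symm

noncomputable instance [Fintype F] : Fintype (Heis n F) := Fintype.ofEquiv _ Heis.equivProd.symm

theorem card_heis [Fintype F] : Nat.card (Heis n F) = Fintype.card F ^ (2 * n + 1) := by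
  rw [Nat.card_congr (Heis.equivProd (n := n) (F := F)), Nat.card_prod, Nat.card_eq_fintype_card,
    Nat.card_eq_fintype_card, Fintype.card_fun, Fintype.card_sum, Fintype.card_fin, pow_succ]
  congr 2
  ring

instance [Finite F] : Finite (Gam n F) := Finite.of_equiv _ SemidirectProduct.equivProd.symm

noncomputable instance [Fintype F] : Fintype (Gam n F) := Fintype.ofFinite _

/-! ### elementary properties of `theta` -/

theorem theta_of_v_eq_zero [Fintype F] (ψ : AddChar F ℂ) {a : Heis n F} (h : a.v = 0) :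
    theta ψ a = (Fintype.card F : ℂ) ^ n * ψ a.s := by
  unfold theta
  rw [if_pos h]

theorem theta_of_v_ne_zero [Fintype F] (ψ : AddChar F ℂ) {a : Heis n F} (h : a.v ≠ 0) :
    theta ψ a = 0 := by
  unfold theta
  rw [if_neg h]

theorem theta_one [Fintype F] (ψ : AddChar F ℂ) :
    theta ψ (1 : Heis n F) = (Fintype.card F : ℂ) ^ n := by
  rw [theta_of_v_eq_zero ψ Heis.one_v, Heis.one_s, AddChar.map_zero_eq_one, mul_one]

theorem theta_heisAct [Fintype F] (ψ : AddChar F ℂ) (g : symplecticGroup (Fin n) F) (a : Heis n F) :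
    theta ψ (heisAct g a) = theta ψ a := by
  by_cases h : a.v = 0
  · have h' : (heisAct g a).v = 0 := by rw [heisAct_v, h, mulVec_zero]
    rw [theta_of_v_eq_zero ψ h, theta_of_v_eq_zero ψ h', heisAct_s]
  · have h' : (heisAct g a).v ≠ 0 := by
      intro h0
      apply h
      have h1 : heisAct g a = heisAct g ⟨0, a.s⟩ := by
        apply Heis.ext
        · rw [h0, heisAct_v, mulVec_zero]
        · rfl
      have h2 := (heisAct g).injective h1
      rw [h2]
    rw [theta_of_v_ne_zero ψ h, theta_of_v_ne_zero ψ h']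

theorem theta_conj [Fintype F] (ψ : AddChar F ℂ) (a b : Heis n F) :
    theta ψ (a * b * a⁻¹) = theta ψ b := by
  have hv : (a * b * a⁻¹).v = b.v := by
    rw [Heis.mul_v, Heis.mul_v, Heis.inv_v]
    abel
  by_cases h : b.v = 0
  · have h' : (a * b * a⁻¹).v = 0 := by rw [hv, h]
    rw [theta_of_v_eq_zero ψ h, theta_of_v_eq_zero ψ h']
    congr 2
    rw [Heis.mul_s, Heis.mul_s, Heis.mul_v, Heis.inv_s, Heis.inv_v, h, om_zero_right', add_zero,
      add_zero, om_neg_right', om_self]
    ring
  · have h' : (a * b * a⁻¹).v ≠ 0 := by rw [hv]; exact h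
    rw [theta_of_v_ne_zero ψ h, theta_of_v_ne_zero ψ h']

/-- the central elements `(0, s)` -/
def zel (n : ℕ) {F : Type*} [Field F] (s : F) : Heis n F := ⟨0, s⟩

theorem theta_zel_mul [Fintype F] (ψ : AddChar F ℂ) (s : F) (a : Heis n F) :
    theta ψ (zel n s * a) = ψ s * theta ψ a := by
  have hv : (zel n s * a).v = a.v := by
    rw [Heis.mul_v]
    show (0 : Fin n ⊕ Fin n → F) + a.v = a.v
    rw [zero_add]
  have hs : (zel n s * a).s = s + a.s := by
    rw [Heis.mul_s]
    show s + a.s + om (0 : Fin n ⊕ Fin n → F) a.v = s + a.s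
    rw [om_zero_left', add_zero]
  by_cases h : a.v = 0
  · rw [theta_of_v_eq_zero ψ h, theta_of_v_eq_zero ψ (hv.trans h), hs, AddChar.map_add_eq_mul]
    ring
  · rw [theta_of_v_ne_zero ψ h, theta_of_v_ne_zero ψ (by rw [hv]; exact h), mul_zero]

/-! ### the normal subgroup `NH` of `Gam` -/

/-- the Heisenberg group as a subgroup of `Gam` -/
def NH (n : ℕ) (F : Type*) [Field F] : Subgroup (Gam n F) :=
  (SemidirectProduct.inl : Heis n F →* Gam n F).range

theorem mem_NH_iff (x : Gam n F) : x ∈ NH n F ↔ x.right = 1 := by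
  unfold NH
  rw [SemidirectProduct.range_inl_eq_ker_rightHom, MonoidHom.mem_ker]
  rfl

instance NH_normal : (NH n F).Normal := by
  unfold NH
  rw [SemidirectProduct.range_inl_eq_ker_rightHom]
  infer_instance

/-- `theta` transported to `NH` -/
noncomputable def thetaN [Fintype F] (ψ : AddChar F ℂ) : NH n F → ℂ := fun x => theta ψ x.1.left

theorem thetaN_inl [Fintype F] (ψ : AddChar F ℂ) (a : Heis n F) (h : SemidirectProduct.inl a ∈ NH n F) :
    thetaN ψ ⟨SemidirectProduct.inl a, h⟩ = theta ψ a := rfl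

theorem thetaN_inv [Fintype F] (ψ : AddChar F ℂ) (g : Gam n F) (x : NH n F) :
    thetaN ψ ⟨g * (x : Gam n F) * g⁻¹, NH_normal.conj_mem (x : Gam n F) x.2 g⟩ = thetaN ψ x := by
  have hx : (x : Gam n F).right = 1 := (mem_NH_iff _).mp x.2
  unfold thetaN
  show theta ψ (g * (x : Gam n F) * g⁻¹).left = theta ψ (x : Gam n F).left
  have hcancel : heisPhi n F (g.right * (x : Gam n F).right) (heisPhi n F g.right⁻¹ g.left⁻¹) =
      g.left⁻¹ := by
    rw [hx, mul_one, ← MulAut.mul_apply, ← map_mul, mul_inv_cancel, map_one]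
    rfl
  have : (g * (x : Gam n F) * g⁻¹).left =
      g.left * heisAct g.right (x : Gam n F).left * g.left⁻¹ := by
    rw [SemidirectProduct.mul_left, SemidirectProduct.mul_left, SemidirectProduct.mul_right,
      SemidirectProduct.inv_left, hcancel, heisPhi_apply]
  rw [this, theta_conj, theta_heisAct]

/-- the number `(q^m - 1)/2` -/
def NS (q m : ℕ) : ℕ := (q ^ m - 1) / 2

end Cfsg.Agent.Helper12.LSp
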