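import Mathlib
import Cfsg.Prelude.Def_Characters
import Cfsg.Agent.Helper7.S2333Defs
import Cfsg.Agent.Helper12.LSpWDefs

set_option autoImplicit false

/-!
# S2524 (Weil characters of `Sp_{2n}(q)`, `q` odd, and the degree gap): shared definitions, part A

`Q = {US Y : Y symmetric}` is the Siegel radical (helper7's `Cfsg.Agent.S2333P.US`).  For `q` odd the
linear characters of `Q` are `lamT ψ T : Y ↦ ψ (tr (T Y))`, `T` symmetric.  `specU ψ U f T` is the
multiplicity of `lamT ψ T` in `f ∘ U` for a homomorphism `U` from the symmetric matrices to a group `H`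
and a class function `f` of `H` (`spec` when `U = US`).
-/

namespace Cfsg.Agent.S2524P

open Matrix Cfsg Cfsg.Agent.S2333P

variable {F : Type*} [Field F] {n : ℕ}

/-- the symmetric matrices over a finite field are a finite type (scoped, classical) -/
noncomputable scoped instance instFintypeSymM [Finite F] : Fintype ↥(SymM n F) := Fintype.ofFinite _

/-- the symplectic group over a finite field is a finite type (scoped, classical) -/
noncomputable scoped instance instFintypeSp [Finite F] : Fintype ↥(symplecticGroup (Fin n) F) :=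
  Fintype.ofFinite _

/-- the linear character `Y ↦ ψ (tr (T Y))` of the symmetric matrices -/
noncomputable def lamT (ψ : AddChar F ℂ) (T : ↥(SymM n F)) : Multiplicative ↥(SymM n F) →* ℂ where
  toFun Y := ψ (Matrix.trace (T.1 * (Multiplicative.toAdd Y).1))
  map_one' := by
    show ψ (Matrix.trace (T.1 * ((0 : ↥(SymM n F)) : Matrix (Fin n) (Fin n) F))) = 1
    rw [AddSubgroup.coe_zero, Matrix.mul_zero, Matrix.trace_zero, AddChar.map_zero_eq_one]
  map_mul' Y Y' := by
    show ψ (Matrix.trace (T.1 * ((Multiplicative.toAdd Y + Multiplicative.toAdd Y' : ↥(SymM n F)) :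
      Matrix (Fin n) (Fin n) F))) = _
    rw [AddSubgroup.coe_add, Matrix.mul_add, Matrix.trace_add, AddChar.map_add_eq_mul]

theorem lamT_apply (ψ : AddChar F ℂ) (T Y : ↥(SymM n F)) :
    lamT ψ T (Multiplicative.ofAdd Y) = ψ (Matrix.trace (T.1 * Y.1)) := rfl

/-- the multiplicity of `lamT ψ T` in `f ∘ U` -/
noncomputable def specU [Finite F] {H : Type*} [Group H] (ψ : AddChar F ℂ)
    (U : Multiplicative ↥(SymM n F) →* H) (f : H → ℂ) (T : ↥(SymM n F)) : ℂ :=
  classInner (fun Y => f (U Y)) (fun Y => lamT ψ T Y)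

/-- the multiplicity of `lamT ψ T` in the restriction of `χ` to the Siegel radical -/
noncomputable abbrev spec [Finite F] (ψ : AddChar F ℂ) (χ : ↥(symplecticGroup (Fin n) F) → ℂ)
    (T : ↥(SymM n F)) : ℂ :=
  specU ψ (US n F) χ T

/-- the symmetric matrix `c • x xᵀ` -/
def rk1 (c : F) (x : Fin n → F) : ↥(SymM n F) :=
  ⟨c • vecMulVec x x, by
    rw [mem_SymM, transpose_smul]
    congr 1
    ext i j
    simp [vecMulVec_apply, mul_comm]⟩

theorem rk1_val (c : F) (x : Fin n → F) :
    (rk1 c x : Matrix (Fin n) (Fin n) F) = c • vecMulVec x x := rfl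

theorem rk1_apply (c : F) (x : Fin n → F) (i j : Fin n) :
    (rk1 c x : Matrix (Fin n) (Fin n) F) i j = c * (x i * x j) := by
  rw [rk1_val, Matrix.smul_apply, vecMulVec_apply, smul_eq_mul]

/-- `T = c x xᵀ` with `x ≠ 0`: the nonzero symmetric matrices of rank one "of class `c`" -/
def OfClass (c : F) (T : ↥(SymM n F)) : Prop := ∃ x : Fin n → F, x ≠ 0 ∧ T = rk1 c x

/-- all constituents of `f ∘ U` have rank at most one -/
def RankLeOne [Finite F] {H : Type*} [Group H] (ψ : AddChar F ℂ) (U : Multiplicative ↥(SymM n F) →* H)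
    (f : H → ℂ) : Prop :=
  ∀ T : ↥(SymM n F), specU ψ U f T ≠ 0 → ∃ (c : F) (x : Fin n → F), T = rk1 c x

/-- all nontrivial constituents of `f ∘ U` are of rank one and of class `c` -/
def PureClass [Finite F] {H : Type*} [Group H] (ψ : AddChar F ℂ) (U : Multiplicative ↥(SymM n F) →* H)
    (f : H → ℂ) (c : F) : Prop :=
  ∀ T : ↥(SymM n F), specU ψ U f T ≠ 0 → T = 0 ∨ OfClass c T

/-- the spectrum of a Weil character: the trivial character `e` times, every rank one matrix of
class `c` once, nothing else -/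
def WeilSpec [Finite F] (ψ : AddChar F ℂ) (χ : ↥(symplecticGroup (Fin n) F) → ℂ) (c : F) (e : ℕ) :
    Prop :=
  spec ψ χ 0 = e ∧ (∀ T : ↥(SymM n F), OfClass c T → spec ψ χ T = 1) ∧
    ∀ T : ↥(SymM n F), T ≠ 0 → ¬ OfClass c T → spec ψ χ T = 0

/-- the gap bound `(q^n - 1)(q^n - q) / (2 (q + 1))` -/
noncomputable def gapR (q n : ℕ) : ℝ :=
  ((q ^ n - 1 : ℕ) : ℝ) * ((q ^ n - q : ℕ) : ℝ) / (2 * ((q : ℝ) + 1))

/-- `g` has no nonzero fixed vector -/
def NoFix (g : ↥(symplecticGroup (Fin n) F)) : Prop :=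
  ∀ v : Fin n ⊕ Fin n → F, (g : Matrix (Fin n ⊕ Fin n) (Fin n ⊕ Fin n) F) *ᵥ v = v → v = 0

end Cfsg.Agent.S2524P
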