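import Mathlib
import Cfsg.Prelude.Def_Characters
import Cfsg.Agent.Helper12.WGDefs

set_option autoImplicit false

/-! # S2524: shared definitions, part C (Weil pairs, the induction hypothesis) -/

namespace Cfsg.Agent.S2524P

open Matrix Cfsg Cfsg.Agent.S2333P

variable {F : Type*} [Field F] [Fintype F]

/-- a pair of irreducible characters with the spectra of the two Weil characters of class `c` -/
def IsWeilPair (ψ : AddChar F ℂ) (n : ℕ) (c : F)
    (A0 A1 : ↥(symplecticGroup (Fin n) F) → ℂ) : Prop :=
  IsIrrCharacter ↥(symplecticGroup (Fin n) F) A0 ∧ IsIrrCharacter ↥(symplecticGroup (Fin n) F) A1 ∧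
    WeilSpec ψ A0 c 0 ∧ WeilSpec ψ A1 c 1

/-- the induction hypothesis at level `m`: for every class there is a Weil pair, and every nontrivial
irreducible character whose spectrum is concentrated on `0` and the rank one matrices of that class
belongs to the pair -/
def HypLevel (ψ : AddChar F ℂ) (m : ℕ) : Prop :=
  ∀ c : F, c ≠ 0 → ∃ A0 A1 : ↥(symplecticGroup (Fin m) F) → ℂ, IsWeilPair ψ m c A0 A1 ∧
    ∀ χ : ↥(symplecticGroup (Fin m) F) → ℂ, IsIrrCharacter ↥(symplecticGroup (Fin m) F) χ →
      χ ≠ (fun _ => 1) → PureClass ψ (US m F) χ c → χ = A0 ∨ χ = A1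

end Cfsg.Agent.S2524P
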