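import Mathlib
import Cfsg.Agent.Helper25.SpUC
import Cfsg.Agent.Helper12.LSpWDefs

set_option autoImplicit false

/-!
# S2347: the subgroups of `Gam = Heis ⋊ Sp` used for the prime `p`

`PP = Heis ⋊ U` (`U = SpU.uni`, the Sylow `p`-subgroup of `Sp_{2n}(F)` of helper25), and
`AP = A_W ⋊ U`, `A_W = {(v, s) : v ∈ W}`, `W = {v : v (inr i) = 0}` the standard Lagrangian, which is
preserved by `U`; `muAP ψ (a, g) = ψ (a.s)` is a linear character of `AP`.
-/

namespace Cfsg.Agent.Helper12.LSp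

open Matrix Cfsg Cfsg.Agent.Helper2.Sp Cfsg.Agent.Helper25

variable {n : ℕ} {F : Type*} [Field F]

/-- the standard Lagrangian `W = {v : v (inr i) = 0}` -/
def InW (v : Fin n ⊕ Fin n → F) : Prop := ∀ i : Fin n, v (Sum.inr i) = 0

theorem inW_zero : InW (0 : Fin n ⊕ Fin n → F) := fun _ => rfl

theorem InW.add {v w : Fin n ⊕ Fin n → F} (hv : InW v) (hw : InW w) : InW (v + w) := by
  intro i
  rw [Pi.add_apply, hv i, hw i, add_zero]

theorem InW.neg {v : Fin n ⊕ Fin n → F} (hv : InW v) : InW (-v) := by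
  intro i
  rw [Pi.neg_apply, hv i, neg_zero]

/-- `ω` vanishes on `W` -/
theorem om_of_inW {v w : Fin n ⊕ Fin n → F} (hv : InW v) (hw : InW w) : om v w = 0 := by
  rw [om_eq_sum]
  apply Finset.sum_eq_zero
  intro i _
  rw [hv i, hw i]
  ring

/-- a matrix with vanishing lower left block preserves `W` -/
theorem InW.mulVec {M : Matrix (Fin n ⊕ Fin n) (Fin n ⊕ Fin n) F} (hM : SpU.IsPar M)
    {v : Fin n ⊕ Fin n → F} (hv : InW v) : InW (M *ᵥ v) := by
  intro i
  rw [Matrix.mulVec, dotProduct, Fintype.sum_sum_type]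
  have h1 : ∀ j : Fin n, M (Sum.inr i) (Sum.inl j) = 0 := fun j => hM i j
  rw [Finset.sum_eq_zero (fun j _ => by rw [h1 j, zero_mul]),
    Finset.sum_eq_zero (fun j _ => by rw [hv j, mul_zero]), add_zero]

variable [Fintype F]

/-- `PP = Heis ⋊ U` -/
def PP (n : ℕ) (F : Type*) [Field F] [Fintype F] : Subgroup (Gam n F) :=
  (SpU.uni n F).comap SemidirectProduct.rightHom

theorem mem_PP_iff (x : Gam n F) : x ∈ PP n F ↔ x.right ∈ SpU.uni n F := Iff.rfl

theorem NH_le_PP : NH n F ≤ PP n F := by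
  intro x hx
  rw [mem_PP_iff, (mem_NH_iff x).mp hx]
  exact Subgroup.one_mem _

theorem isPar_of_mem_uni {g : symplecticGroup (Fin n) F} (hg : g ∈ SpU.uni n F) : SpU.IsPar g.1 :=
  (SpU.mem_uni.mp hg).1

/-- `AP = A_W ⋊ U` -/
def AP (n : ℕ) (F : Type*) [Field F] [Fintype F] : Subgroup (Gam n F) where
  carrier := {x | InW x.left.v ∧ x.right ∈ SpU.uni n F}
  one_mem' := ⟨inW_zero, Subgroup.one_mem _⟩
  mul_mem' := by
    rintro x y ⟨hx1, hx2⟩ ⟨hy1, hy2⟩
    refine ⟨?_, Subgroup.mul_mem _ hx2 hy2⟩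
    show InW (x.left * heisAct x.right y.left).v
    rw [Heis.mul_v, heisAct_v]
    exact hx1.add (InW.mulVec (isPar_of_mem_uni hx2) hy1)
  inv_mem' := by
    rintro x ⟨hx1, hx2⟩
    refine ⟨?_, Subgroup.inv_mem _ hx2⟩
    show InW (heisAct x.right⁻¹ x.left⁻¹).v
    rw [heisAct_v, Heis.inv_v]
    exact InW.mulVec (isPar_of_mem_uni (Subgroup.inv_mem _ hx2)) hx1.neg

theorem mem_AP_iff (x : Gam n F) : x ∈ AP n F ↔ InW x.left.v ∧ x.right ∈ SpU.uni n F := Iff.rfl

theorem AP_le_PP : AP n F ≤ PP n F := fun _ hx => hx.2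

/-- the linear character `(a, g) ↦ ψ (a.s)` of `AP` -/
noncomputable def muAP (ψ : AddChar F ℂ) : AP n F →* ℂ where
  toFun x := ψ (x : Gam n F).left.s
  map_one' := by
    show ψ ((1 : Gam n F).left.s) = 1
    rw [SemidirectProduct.one_left, Heis.one_s, AddChar.map_zero_eq_one]
  map_mul' := by
    rintro ⟨x, hx1, hx2⟩ ⟨y, hy1, hy2⟩
    show ψ (x.left * heisAct x.right y.left).s = ψ x.left.s * ψ y.left.s
    rw [Heis.mul_s, heisAct_s, heisAct_v,
      om_of_inW hx1 (InW.mulVec (isPar_of_mem_uni hx2) hy1), add_zero, AddChar.map_add_eq_mul]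

theorem muAP_apply (ψ : AddChar F ℂ) (x : AP n F) : muAP ψ x = ψ (x : Gam n F).left.s := rfl

end Cfsg.Agent.Helper12.LSp
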