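import Mathlib
import Cfsg.Prelude.Def_Characters
import Cfsg.Agent.Helper2.SpPerfect
import Cfsg.Agent.Helper7.S2333Defs
import Cfsg.Agent.Helper12.LSpWDefs
import Cfsg.Agent.Helper12.LSpWPDefs
import Cfsg.Agent.Helper12.WGDefs

set_option autoImplicit false

/-!
# S2524: shared definitions, part B (the stabiliser of a vector)

`Sp_{2(m+1)}(F)` acts on `Vec (m+1) F = (Fin (m+1) ⊕ Fin (m+1) → F)`; `e0`, `f0` are the basis vectors with
index `inl 0`, `inr 0`, `emb : Vec m F → Vec (m+1) F` is extension by zero, `res` the restriction.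
`iota : Gam m F →* Sp_{2(m+1)}(F)` is the isomorphism of `Heis ⋊ Sp_{2m}` onto the stabiliser of `e0`:
`iota ((v, s), g)` maps `e0 ↦ e0`, `emb w ↦ emb (g w) - om v (g w) • e0`, `f0 ↦ f0 + emb v - s • e0`.
-/

namespace Cfsg.Agent.S2524P

open Matrix Cfsg Cfsg.Agent.S2333P Cfsg.Agent.Helper2.Sp Cfsg.Agent.Helper12.LSp Cfsg.Agent.Helper25

variable {F : Type*} [Field F] {m : ℕ}

/-- the vectors of the symplectic space of dimension `2n` -/
abbrev Vec (n : ℕ) (F : Type*) : Type _ := Fin n ⊕ Fin n → F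

/-- restriction to the coordinates `succ i` -/
def res (x : Vec (m + 1) F) : Vec m F := fun k => x (Sum.map Fin.succ Fin.succ k)

/-- extension by zero at the coordinates `inl 0`, `inr 0` -/
def emb (w : Vec m F) : Vec (m + 1) F :=
  Sum.elim (Fin.cases 0 (fun i => w (Sum.inl i))) (Fin.cases 0 (fun i => w (Sum.inr i)))

/-- the basis vector with index `inl 0` -/
def e0 : Vec (m + 1) F := Pi.single (Sum.inl 0) 1

/-- the basis vector with index `inr 0` -/
def f0 : Vec (m + 1) F := Pi.single (Sum.inr 0) 1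

theorem res_apply_inl (x : Vec (m + 1) F) (i : Fin m) : res x (Sum.inl i) = x (Sum.inl i.succ) := rfl
theorem res_apply_inr (x : Vec (m + 1) F) (i : Fin m) : res x (Sum.inr i) = x (Sum.inr i.succ) := rfl
theorem emb_inl_zero (w : Vec m F) : emb w (Sum.inl 0) = 0 := rfl
theorem emb_inr_zero (w : Vec m F) : emb w (Sum.inr 0) = 0 := rfl
theorem emb_inl_succ (w : Vec m F) (i : Fin m) : emb w (Sum.inl i.succ) = w (Sum.inl i) := rfl
theorem emb_inr_succ (w : Vec m F) (i : Fin m) : emb w (Sum.inr i.succ) = w (Sum.inr i) := rfl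

theorem res_emb (w : Vec m F) : res (emb w) = w := by
  funext k
  rcases k with i | i <;> rfl

theorem res_add (x y : Vec (m + 1) F) : res (x + y) = res x + res y := rfl
theorem res_smul (c : F) (x : Vec (m + 1) F) : res (c • x) = c • res x := rfl
theorem res_zero : res (0 : Vec (m + 1) F) = 0 := rfl

theorem emb_add (v w : Vec m F) : emb (v + w) = emb v + emb w := by
  funext k
  rcases k with i | i <;> refine Fin.cases ?_ (fun j => ?_) i <;> simp [emb]

theorem emb_smul (c : F) (w : Vec m F) : emb (c • w) = c • emb w := by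
  funext k
  rcases k with i | i <;> refine Fin.cases ?_ (fun j => ?_) i <;> simp [emb]

theorem emb_zero : emb (0 : Vec m F) = 0 := by
  funext k
  rcases k with i | i <;> refine Fin.cases ?_ (fun j => ?_) i <;> simp [emb]

theorem res_e0 : res (e0 : Vec (m + 1) F) = 0 := by
  funext k
  rcases k with i | i
  · simp [res, e0, Fin.succ_ne_zero]
  · simp [res, e0]

theorem res_f0 : res (f0 : Vec (m + 1) F) = 0 := by
  funext k
  rcases k with i | i
  · simp [res, f0]
  · simp [res, f0, Fin.succ_ne_zero]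

theorem e0_inl_zero : (e0 : Vec (m + 1) F) (Sum.inl 0) = 1 := Pi.single_eq_same _ _
theorem e0_inr_zero : (e0 : Vec (m + 1) F) (Sum.inr 0) = 0 := Pi.single_eq_of_ne (by simp) 1
theorem f0_inl_zero : (f0 : Vec (m + 1) F) (Sum.inl 0) = 0 := Pi.single_eq_of_ne (by simp) 1
theorem f0_inr_zero : (f0 : Vec (m + 1) F) (Sum.inr 0) = 1 := Pi.single_eq_same _ _

/-- the decomposition of a vector -/
theorem vec_decomp (x : Vec (m + 1) F) :
    x = x (Sum.inl 0) • e0 + x (Sum.inr 0) • f0 + emb (res x) := by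
  funext k
  rcases k with i | i
  · refine Fin.cases ?_ (fun j => ?_) i
    · simp [e0, f0, emb]
    · simp [e0, f0, emb, res, Fin.succ_ne_zero]
  · refine Fin.cases ?_ (fun j => ?_) i
    · simp [e0, f0, emb]
    · simp [e0, f0, emb, res, Fin.succ_ne_zero]

/-- two vectors with the same three components are equal -/
theorem vec_ext {x y : Vec (m + 1) F} (h1 : x (Sum.inl 0) = y (Sum.inl 0))
    (h2 : x (Sum.inr 0) = y (Sum.inr 0)) (h3 : res x = res y) : x = y := by
  rw [vec_decomp x, vec_decomp y, h1, h2, h3]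

theorem om_split (x y : Vec (m + 1) F) :
    om x y = x (Sum.inr 0) * y (Sum.inl 0) - x (Sum.inl 0) * y (Sum.inr 0) + om (res x) (res y) := by
  rw [om_eq_sum, om_eq_sum, Fin.sum_univ_succ]
  rfl

/-! ### symplectic matrices from form-preserving linear maps -/

/-- the symplectic matrix of a form-preserving linear map -/
noncomputable def spOfFun {n : ℕ} (f : Vec n F → Vec n F) (hadd : ∀ x y, f (x + y) = f x + f y)
    (hsmul : ∀ (c : F) x, f (c • x) = c • f x) (hom : ∀ x y, om (f x) (f y) = om x y) :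
    symplecticGroup (Fin n) F :=
  ⟨LinearMap.toMatrix' (IsLinearMap.mk' f ⟨hadd, hsmul⟩), by
    rw [mem_symplectic_iff_om]
    intro x y
    rw [LinearMap.toMatrix'_mulVec, LinearMap.toMatrix'_mulVec]
    exact hom x y⟩

theorem spOfFun_mulVec {n : ℕ} (f : Vec n F → Vec n F) (hadd : ∀ x y, f (x + y) = f x + f y)
    (hsmul : ∀ (c : F) x, f (c • x) = c • f x) (hom : ∀ x y, om (f x) (f y) = om x y)
    (x : Vec n F) :
    ((spOfFun f hadd hsmul hom : symplecticGroup (Fin n) F) :
      Matrix (Fin n ⊕ Fin n) (Fin n ⊕ Fin n) F) *ᵥ x = f x := by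
  show LinearMap.toMatrix' (IsLinearMap.mk' f ⟨hadd, hsmul⟩) *ᵥ x = f x
  rw [LinearMap.toMatrix'_mulVec]
  rfl

/-! ### the embedding of `Heis ⋊ Sp_{2m}` -/

/-- the action of `((v, s), g)` -/
def iotaFun (a : Heis m F) (g : symplecticGroup (Fin m) F) (x : Vec (m + 1) F) : Vec (m + 1) F :=
  (x (Sum.inl 0) - om a.v ((g : Matrix (Fin m ⊕ Fin m) (Fin m ⊕ Fin m) F) *ᵥ res x) -
      a.s * x (Sum.inr 0)) • e0 + x (Sum.inr 0) • f0 +
    emb ((g : Matrix (Fin m ⊕ Fin m) (Fin m ⊕ Fin m) F) *ᵥ res x + x (Sum.inr 0) • a.v)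

theorem iotaFun_inl_zero (a : Heis m F) (g : symplecticGroup (Fin m) F) (x : Vec (m + 1) F) :
    iotaFun a g x (Sum.inl 0) = x (Sum.inl 0) -
      om a.v ((g : Matrix (Fin m ⊕ Fin m) (Fin m ⊕ Fin m) F) *ᵥ res x) - a.s * x (Sum.inr 0) := by
  simp [iotaFun, e0_inl_zero, f0_inl_zero, emb_inl_zero]

theorem iotaFun_inr_zero (a : Heis m F) (g : symplecticGroup (Fin m) F) (x : Vec (m + 1) F) :
    iotaFun a g x (Sum.inr 0) = x (Sum.inr 0) := by
  simp [iotaFun, e0_inr_zero, f0_inr_zero, emb_inr_zero]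

theorem res_iotaFun (a : Heis m F) (g : symplecticGroup (Fin m) F) (x : Vec (m + 1) F) :
    res (iotaFun a g x) =
      (g : Matrix (Fin m ⊕ Fin m) (Fin m ⊕ Fin m) F) *ᵥ res x + x (Sum.inr 0) • a.v := by
  unfold iotaFun
  rw [res_add, res_add, res_smul, res_smul, res_e0, res_f0, res_emb, smul_zero, smul_zero, zero_add,
    zero_add]

theorem iotaFun_add (a : Heis m F) (g : symplecticGroup (Fin m) F) (x y : Vec (m + 1) F) :
    iotaFun a g (x + y) = iotaFun a g x + iotaFun a g y := by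
  apply vec_ext
  · simp only [Pi.add_apply, iotaFun_inl_zero, res_add, mulVec_add, om_add_right]
    ring
  · simp only [Pi.add_apply, iotaFun_inr_zero]
  · simp only [res_add, res_iotaFun, Pi.add_apply, mulVec_add, add_smul]
    abel

theorem iotaFun_smul (a : Heis m F) (g : symplecticGroup (Fin m) F) (c : F) (x : Vec (m + 1) F) :
    iotaFun a g (c • x) = c • iotaFun a g x := by
  apply vec_ext
  · simp only [Pi.smul_apply, smul_eq_mul, iotaFun_inl_zero, res_smul, mulVec_smul, om_smul_right]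
    ring
  · simp only [Pi.smul_apply, iotaFun_inr_zero]
  · simp only [res_smul, res_iotaFun, Pi.smul_apply, smul_eq_mul, mulVec_smul, smul_add, mul_smul]

theorem iotaFun_om (a : Heis m F) (g : symplecticGroup (Fin m) F) (x y : Vec (m + 1) F) :
    om (iotaFun a g x) (iotaFun a g y) = om x y := by
  rw [om_split, om_split x y, iotaFun_inl_zero, iotaFun_inl_zero, iotaFun_inr_zero, iotaFun_inr_zero,
    res_iotaFun, res_iotaFun]
  simp only [om_add_left, om_add_right, om_smul_left, om_smul_right, om_g, om_self]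
  rw [om_swap a.v ((g : Matrix (Fin m ⊕ Fin m) (Fin m ⊕ Fin m) F) *ᵥ res x)]
  ring

/-- the symplectic matrix of `((v, s), g)` -/
noncomputable def iotaG (a : Heis m F) (g : symplecticGroup (Fin m) F) :
    symplecticGroup (Fin (m + 1)) F :=
  spOfFun (iotaFun a g) (iotaFun_add a g) (iotaFun_smul a g) (iotaFun_om a g)

theorem iotaG_mulVec (a : Heis m F) (g : symplecticGroup (Fin m) F) (x : Vec (m + 1) F) :
    ((iotaG a g : symplecticGroup (Fin (m + 1)) F) :
      Matrix (Fin (m + 1) ⊕ Fin (m + 1)) (Fin (m + 1) ⊕ Fin (m + 1)) F) *ᵥ x = iotaFun a g x :=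
  spOfFun_mulVec _ _ _ _ x

theorem iotaG_one : iotaG (1 : Heis m F) (1 : symplecticGroup (Fin m) F) = 1 := by
  apply ext_mulVec
  intro x
  rw [iotaG_mulVec]
  show _ = ((1 : symplecticGroup (Fin (m + 1)) F) :
    Matrix (Fin (m + 1) ⊕ Fin (m + 1)) (Fin (m + 1) ⊕ Fin (m + 1)) F) *ᵥ x
  rw [Submonoid.coe_one, one_mulVec]
  apply vec_ext
  · rw [iotaFun_inl_zero, Heis.one_v, Heis.one_s, om_zero_left']
    ring
  · rw [iotaFun_inr_zero]
  · rw [res_iotaFun, Heis.one_v, smul_zero, add_zero, Submonoid.coe_one, one_mulVec]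

theorem iotaG_mul (a b : Heis m F) (g h : symplecticGroup (Fin m) F) :
    iotaG (a * heisAct g b) (g * h) = iotaG a g * iotaG b h := by
  apply ext_mulVec
  intro x
  rw [mul_mulVec, iotaG_mulVec, iotaG_mulVec, iotaG_mulVec]
  apply vec_ext
  · rw [iotaFun_inl_zero, iotaFun_inl_zero, iotaFun_inl_zero, iotaFun_inr_zero, res_iotaFun,
      Heis.mul_v, Heis.mul_s, heisAct_v, heisAct_s, mul_mulVec]
    simp only [om_add_left, om_add_right, om_smul_right, mulVec_add, mulVec_smul, om_g]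
    ring
  · rw [iotaFun_inr_zero, iotaFun_inr_zero, iotaFun_inr_zero]
  · rw [res_iotaFun, res_iotaFun, res_iotaFun, iotaFun_inr_zero, Heis.mul_v, heisAct_v, mul_mulVec]
    simp only [mulVec_add, mulVec_smul, smul_add]
    abel

/-- **the isomorphism of `Heis ⋊ Sp_{2m}` onto the stabiliser of `e0`** -/
noncomputable def iota (m : ℕ) (F : Type*) [Field F] :
    Gam m F →* symplecticGroup (Fin (m + 1)) F where
  toFun x := iotaG x.left x.right
  map_one' := iotaG_one
  map_mul' x y := by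
    rw [SemidirectProduct.mul_left, SemidirectProduct.mul_right, heisPhi_apply]
    exact iotaG_mul _ _ _ _

theorem iota_apply (x : Gam m F) : iota m F x = iotaG x.left x.right := rfl

theorem iota_mulVec (x : Gam m F) (y : Vec (m + 1) F) :
    ((iota m F x : symplecticGroup (Fin (m + 1)) F) :
      Matrix (Fin (m + 1) ⊕ Fin (m + 1)) (Fin (m + 1) ⊕ Fin (m + 1)) F) *ᵥ y =
      iotaFun x.left x.right y :=
  iotaG_mulVec _ _ y

/-! ### the Siegel radical inside the stabiliser -/

/-- the vector part `(S 0 (i+1))_i ∈ W` of a symmetric matrix -/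
def qv (S : ↥(SymM (m + 1) F)) : Vec m F := Sum.elim (fun i => S.1 0 i.succ) 0

/-- the lower right block of a symmetric matrix -/
def qS (S : ↥(SymM (m + 1) F)) : ↥(SymM m F) :=
  ⟨S.1.submatrix Fin.succ Fin.succ, by
    rw [mem_SymM]
    ext i j
    have h := S.2
    rw [mem_SymM] at h
    have := congrFun (congrFun h i.succ) j.succ
    simpa using this⟩

theorem qS_apply (S : ↥(SymM (m + 1) F)) (i j : Fin m) : (qS S).1 i j = S.1 i.succ j.succ := rfl

theorem qv_inl (S : ↥(SymM (m + 1) F)) (i : Fin m) : qv S (Sum.inl i) = S.1 0 i.succ := rfl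
theorem qv_inr (S : ↥(SymM (m + 1) F)) (i : Fin m) : qv S (Sum.inr i) = 0 := rfl

theorem qv_inW (S : ↥(SymM (m + 1) F)) : InW (qv S) := fun _ => rfl

theorem qv_add (S T : ↥(SymM (m + 1) F)) : qv (S + T) = qv S + qv T := by
  funext k
  rcases k with i | i
  · simp [qv]
  · simp [qv]

theorem qS_add (S T : ↥(SymM (m + 1) F)) : qS (S + T) = qS S + qS T := by
  apply Subtype.ext
  ext i j
  simp [qS]

theorem US_mulVec {n : ℕ} (Y : ↥(SymM n F)) (x : Vec n F) :
    ((US n F (Multiplicative.ofAdd Y) : symplecticGroup (Fin n) F) :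
      Matrix (Fin n ⊕ Fin n) (Fin n ⊕ Fin n) F) *ᵥ x =
      Sum.elim (fun i => x (Sum.inl i) + ∑ j, Y.1 i j * x (Sum.inr j)) (fun i => x (Sum.inr i)) := by
  rw [US_val, SpU.uS]
  funext k
  rcases k with i | i
  · simp [Matrix.mulVec, dotProduct, Fintype.sum_sum_type, Matrix.fromBlocks_apply₁₁,
      Matrix.fromBlocks_apply₁₂, Matrix.one_apply]
  · simp [Matrix.mulVec, dotProduct, Fintype.sum_sum_type, Matrix.fromBlocks_apply₂₁,
      Matrix.fromBlocks_apply₂₂, Matrix.one_apply]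

theorem US_mulVec_of_inW {n : ℕ} (Y : ↥(SymM n F)) {x : Vec n F} (hx : InW x) :
    ((US n F (Multiplicative.ofAdd Y) : symplecticGroup (Fin n) F) :
      Matrix (Fin n ⊕ Fin n) (Fin n ⊕ Fin n) F) *ᵥ x = x := by
  rw [US_mulVec]
  funext k
  rcases k with i | i
  · have h0 : ∑ j, Y.1 i j * x (Sum.inr j) = 0 := by
      apply Finset.sum_eq_zero
      intro j _
      rw [hx j, mul_zero]
    simp [h0]
  · simp

/-- the Siegel radical of `Sp_{2(m+1)}`, as a subgroup of `Heis ⋊ Sp_{2m}` -/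
noncomputable def qt (m : ℕ) (F : Type*) [Field F] : Multiplicative ↥(SymM (m + 1) F) →* Gam m F where
  toFun Y := ⟨⟨qv (Multiplicative.toAdd Y), -(Multiplicative.toAdd Y).1 0 0⟩,
    US m F (Multiplicative.ofAdd (qS (Multiplicative.toAdd Y)))⟩
  map_one' := by
    apply SemidirectProduct.ext
    · apply Heis.ext
      · show qv (0 : ↥(SymM (m + 1) F)) = 0
        funext k
        rcases k with i | i <;> rfl
      · show -((0 : ↥(SymM (m + 1) F)) : Matrix (Fin (m + 1)) (Fin (m + 1)) F) 0 0 = 0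
        simp
    · show US m F (Multiplicative.ofAdd (qS (0 : ↥(SymM (m + 1) F)))) = 1
      have : qS (0 : ↥(SymM (m + 1) F)) = 0 := by
        apply Subtype.ext
        ext i j
        rfl
      rw [this]
      exact map_one _
  map_mul' Y Y' := by
    apply SemidirectProduct.ext
    · rw [SemidirectProduct.mul_left]
      apply Heis.ext
      · show qv (Multiplicative.toAdd Y + Multiplicative.toAdd Y') = _
        rw [qv_add, Heis.mul_v, heisPhi_apply, heisAct_v, US_mulVec_of_inW _ (qv_inW _)]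
      · show -((Multiplicative.toAdd Y + Multiplicative.toAdd Y' : ↥(SymM (m + 1) F)) :
          Matrix (Fin (m + 1)) (Fin (m + 1)) F) 0 0 = _
        rw [Heis.mul_s, heisPhi_apply, heisAct_v, heisAct_s, US_mulVec_of_inW _ (qv_inW _),
          om_of_inW (qv_inW _) (qv_inW _), AddSubgroup.coe_add, Matrix.add_apply]
        ring
    · rw [SemidirectProduct.mul_right]
      show US m F (Multiplicative.ofAdd (qS (Multiplicative.toAdd Y + Multiplicative.toAdd Y'))) = _
      rw [qS_add]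
      exact map_mul (US m F) _ _

theorem qt_left_v (S : ↥(SymM (m + 1) F)) : (qt m F (Multiplicative.ofAdd S)).left.v = qv S := rfl
theorem qt_left_s (S : ↥(SymM (m + 1) F)) : (qt m F (Multiplicative.ofAdd S)).left.s = -S.1 0 0 := rfl
theorem qt_right (S : ↥(SymM (m + 1) F)) :
    (qt m F (Multiplicative.ofAdd S)).right = US m F (Multiplicative.ofAdd (qS S)) := rfl

theorem symM_symm {n : ℕ} (S : ↥(SymM n F)) (i j : Fin n) : S.1 i j = S.1 j i := by
  have h := S.2
  rw [mem_SymM] at h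
  have := congrFun (congrFun h j) i
  rw [transpose_apply] at this
  exact this

/-- **`iota ∘ qt = US`** -/
theorem iota_qt_ofAdd (S : ↥(SymM (m + 1) F)) :
    iota m F (qt m F (Multiplicative.ofAdd S)) = US (m + 1) F (Multiplicative.ofAdd S) := by
  apply ext_mulVec
  intro x
  rw [iota_mulVec, US_mulVec]
  apply vec_ext
  · rw [iotaFun_inl_zero, qt_left_v, qt_left_s, qt_right, US_mulVec, om_eq_sum]
    simp only [Sum.elim_inl, Sum.elim_inr, qv_inl, qv_inr, zero_mul, zero_sub, Finset.sum_neg_distrib,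
      res_apply_inr]
    rw [Fin.sum_univ_succ]
    ring
  · rw [iotaFun_inr_zero]
    rfl
  · rw [res_iotaFun, qt_left_v, qt_right, US_mulVec]
    funext k
    rcases k with i | i
    · simp only [Pi.add_apply, Sum.elim_inl, Pi.smul_apply, qv_inl, smul_eq_mul, res_apply_inl,
        res_apply_inr, qS_apply]
      rw [Fin.sum_univ_succ, symM_symm S i.succ 0]
      ring
    · simp only [Pi.add_apply, Sum.elim_inr, Pi.smul_apply, qv_inr, smul_eq_mul, mul_zero, add_zero,
        res_apply_inr]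

theorem iota_qt (Y : Multiplicative ↥(SymM (m + 1) F)) : iota m F (qt m F Y) = US (m + 1) F Y :=
  iota_qt_ofAdd (Multiplicative.toAdd Y)

/-! ### the block embedding of `Sp_2 × Sp_{2m}` -/

/-- restriction to the coordinates `inl 0`, `inr 0` -/
def res0 (x : Vec (m + 1) F) : Vec 1 F := fun k => x (Sum.map (fun _ => 0) (fun _ => 0) k)

/-- the embedding of the plane spanned by `e0`, `f0` -/
def emb0 (u : Vec 1 F) : Vec (m + 1) F := u (Sum.inl 0) • e0 + u (Sum.inr 0) • f0

theorem res0_inl (x : Vec (m + 1) F) : res0 x (Sum.inl 0) = x (Sum.inl 0) := rfl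
theorem res0_inr (x : Vec (m + 1) F) : res0 x (Sum.inr 0) = x (Sum.inr 0) := rfl

theorem vec1_ext {u w : Vec 1 F} (h1 : u (Sum.inl 0) = w (Sum.inl 0))
    (h2 : u (Sum.inr 0) = w (Sum.inr 0)) : u = w := by
  funext k
  rcases k with i | i
  · rw [Subsingleton.elim i 0]; exact h1
  · rw [Subsingleton.elim i 0]; exact h2

theorem emb0_inl_zero (u : Vec 1 F) : (emb0 u : Vec (m + 1) F) (Sum.inl 0) = u (Sum.inl 0) := by
  simp [emb0, e0_inl_zero, f0_inl_zero]

theorem emb0_inr_zero (u : Vec 1 F) : (emb0 u : Vec (m + 1) F) (Sum.inr 0) = u (Sum.inr 0) := by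
  simp [emb0, e0_inr_zero, f0_inr_zero]

theorem res_emb0 (u : Vec 1 F) : res (emb0 u : Vec (m + 1) F) = 0 := by
  unfold emb0
  rw [res_add, res_smul, res_smul, res_e0, res_f0, smul_zero, smul_zero, add_zero]

theorem res0_emb0 (u : Vec 1 F) : res0 (emb0 u : Vec (m + 1) F) = u :=
  vec1_ext (emb0_inl_zero u) (emb0_inr_zero u)

theorem res0_emb (w : Vec m F) : res0 (emb w) = 0 := by
  apply vec1_ext <;> rfl

theorem res0_add (x y : Vec (m + 1) F) : res0 (x + y) = res0 x + res0 y := rfl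
theorem res0_smul (c : F) (x : Vec (m + 1) F) : res0 (c • x) = c • res0 x := rfl

theorem emb0_add (u w : Vec 1 F) : (emb0 (u + w) : Vec (m + 1) F) = emb0 u + emb0 w := by
  unfold emb0
  simp only [Pi.add_apply, add_smul]
  abel

theorem emb0_smul (c : F) (u : Vec 1 F) : (emb0 (c • u) : Vec (m + 1) F) = c • emb0 u := by
  unfold emb0
  simp only [Pi.smul_apply, smul_eq_mul, smul_add, mul_smul]

theorem vec_decomp0 (x : Vec (m + 1) F) : x = emb0 (res0 x) + emb (res x) := by
  conv_lhs => rw [vec_decomp x]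
  rfl

theorem vec_ext0 {x y : Vec (m + 1) F} (h0 : res0 x = res0 y) (h : res x = res y) : x = y := by
  rw [vec_decomp0 x, vec_decomp0 y, h0, h]

theorem om_split0 (x y : Vec (m + 1) F) : om x y = om (res0 x) (res0 y) + om (res x) (res y) := by
  rw [om_split, om_eq_sum (res0 x)]
  simp only [Finset.univ_unique, Finset.sum_singleton]
  rfl

/-- the action of `(g₁, g₂) ∈ Sp_2 × Sp_{2m}` -/
def jjFun (g₁ : symplecticGroup (Fin 1) F) (g₂ : symplecticGroup (Fin m) F) (x : Vec (m + 1) F) :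
    Vec (m + 1) F :=
  emb0 ((g₁ : Matrix (Fin 1 ⊕ Fin 1) (Fin 1 ⊕ Fin 1) F) *ᵥ res0 x) +
    emb ((g₂ : Matrix (Fin m ⊕ Fin m) (Fin m ⊕ Fin m) F) *ᵥ res x)

theorem res0_jjFun (g₁ : symplecticGroup (Fin 1) F) (g₂ : symplecticGroup (Fin m) F)
    (x : Vec (m + 1) F) :
    res0 (jjFun g₁ g₂ x) = (g₁ : Matrix (Fin 1 ⊕ Fin 1) (Fin 1 ⊕ Fin 1) F) *ᵥ res0 x := by
  unfold jjFun
  rw [res0_add, res0_emb0, res0_emb, add_zero]

theorem res_jjFun (g₁ : symplecticGroup (Fin 1) F) (g₂ : symplecticGroup (Fin m) F)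
    (x : Vec (m + 1) F) :
    res (jjFun g₁ g₂ x) = (g₂ : Matrix (Fin m ⊕ Fin m) (Fin m ⊕ Fin m) F) *ᵥ res x := by
  unfold jjFun
  rw [res_add, res_emb0, res_emb, zero_add]

/-- the symplectic matrix of `(g₁, g₂)` -/
noncomputable def jjG (g₁ : symplecticGroup (Fin 1) F) (g₂ : symplecticGroup (Fin m) F) :
    symplecticGroup (Fin (m + 1)) F :=
  spOfFun (jjFun g₁ g₂)
    (by
      intro x y
      apply vec_ext0
      · simp only [res0_jjFun, res0_add, mulVec_add]
      · simp only [res_jjFun, res_add, mulVec_add])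
    (by
      intro c x
      apply vec_ext0
      · simp only [res0_jjFun, res0_smul, mulVec_smul]
      · simp only [res_jjFun, res_smul, mulVec_smul])
    (by
      intro x y
      rw [om_split0, res0_jjFun, res0_jjFun, res_jjFun, res_jjFun, om_g, om_g, ← om_split0])

theorem jjG_mulVec (g₁ : symplecticGroup (Fin 1) F) (g₂ : symplecticGroup (Fin m) F)
    (x : Vec (m + 1) F) :
    ((jjG g₁ g₂ : symplecticGroup (Fin (m + 1)) F) :
      Matrix (Fin (m + 1) ⊕ Fin (m + 1)) (Fin (m + 1) ⊕ Fin (m + 1)) F) *ᵥ x = jjFun g₁ g₂ x :=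
  spOfFun_mulVec _ _ _ _ x

/-- **the block embedding `Sp_2 × Sp_{2m} → Sp_{2(m+1)}`** -/
noncomputable def jj (m : ℕ) (F : Type*) [Field F] :
    ↥(symplecticGroup (Fin 1) F) × ↥(symplecticGroup (Fin m) F) →*
      symplecticGroup (Fin (m + 1)) F where
  toFun p := jjG p.1 p.2
  map_one' := by
    apply ext_mulVec
    intro x
    rw [jjG_mulVec]
    show _ = ((1 : symplecticGroup (Fin (m + 1)) F) :
      Matrix (Fin (m + 1) ⊕ Fin (m + 1)) (Fin (m + 1) ⊕ Fin (m + 1)) F) *ᵥ x
    rw [Submonoid.coe_one, one_mulVec]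
    apply vec_ext0
    · rw [res0_jjFun]
      show ((1 : symplecticGroup (Fin 1) F) : Matrix (Fin 1 ⊕ Fin 1) (Fin 1 ⊕ Fin 1) F) *ᵥ _ = _
      rw [Submonoid.coe_one, one_mulVec]
    · rw [res_jjFun]
      show ((1 : symplecticGroup (Fin m) F) : Matrix (Fin m ⊕ Fin m) (Fin m ⊕ Fin m) F) *ᵥ _ = _
      rw [Submonoid.coe_one, one_mulVec]
  map_mul' p p' := by
    apply ext_mulVec
    intro x
    rw [mul_mulVec, jjG_mulVec, jjG_mulVec, jjG_mulVec]
    apply vec_ext0
    · rw [res0_jjFun, res0_jjFun, res0_jjFun]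
      show ((p.1 * p'.1 : symplecticGroup (Fin 1) F) :
        Matrix (Fin 1 ⊕ Fin 1) (Fin 1 ⊕ Fin 1) F) *ᵥ _ = _
      rw [mul_mulVec]
    · rw [res_jjFun, res_jjFun, res_jjFun]
      show ((p.2 * p'.2 : symplecticGroup (Fin m) F) :
        Matrix (Fin m ⊕ Fin m) (Fin m ⊕ Fin m) F) *ᵥ _ = _
      rw [mul_mulVec]

theorem jj_mulVec (p : ↥(symplecticGroup (Fin 1) F) × ↥(symplecticGroup (Fin m) F))
    (x : Vec (m + 1) F) :
    ((jj m F p : symplecticGroup (Fin (m + 1)) F) :
      Matrix (Fin (m + 1) ⊕ Fin (m + 1)) (Fin (m + 1) ⊕ Fin (m + 1)) F) *ᵥ x = jjFun p.1 p.2 x :=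
  jjG_mulVec _ _ x

/-- `iota` on the complement `Sp_{2m}` is the block embedding -/
theorem iota_inr (g : symplecticGroup (Fin m) F) :
    iota m F (SemidirectProduct.inr g) = jj m F (1, g) := by
  apply ext_mulVec
  intro x
  rw [iota_mulVec, jj_mulVec]
  apply vec_ext0
  · rw [res0_jjFun]
    show _ = ((1 : symplecticGroup (Fin 1) F) : Matrix (Fin 1 ⊕ Fin 1) (Fin 1 ⊕ Fin 1) F) *ᵥ _
    rw [Submonoid.coe_one, one_mulVec]
    apply vec1_ext
    · rw [res0_inl, res0_inl, iotaFun_inl_zero, SemidirectProduct.left_inr, Heis.one_v, Heis.one_s,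
        om_zero_left']
      ring
    · rw [res0_inr, res0_inr, iotaFun_inr_zero]
  · rw [res_jjFun, res_iotaFun, SemidirectProduct.left_inr, SemidirectProduct.right_inr, Heis.one_v,
      smul_zero, add_zero]

end Cfsg.Agent.S2524P
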