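import Mathlib
import Cfsg.Prelude.Def_Characters
import Cfsg.Agent.Helper12.WGDefs
import Cfsg.Agent.Helper12.WGDefsC
import Cfsg.Agent.Helper12.WGStruct

set_option autoImplicit false

/-!
# S2524: shared definitions, part D (the induction step)

* `zc m s = inl (0, s)`: the centre of `Gam m F = Heis m F ⋊ Sp_{2m}`;
* `LiesOver ψ ζ z`: the class function `ζ` of `Gam m F` has central character `s ↦ ψ (z s)`;
* `blk T`: the symmetric matrix of size `m + 1` with lower right block `T` and vanishing first row and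
  column;
* `symE i j t = t (E_ij + E_ji)`, `e00 t = t E_00`.
-/

namespace Cfsg.Agent.S2524P

open Matrix Cfsg Cfsg.Agent.S2333P Cfsg.Agent.Helper2.Sp Cfsg.Agent.Helper12.LSp Cfsg.Agent.Helper25

variable {F : Type*} [Field F] {m : ℕ}

/-- the central elements `((0, s), 1)` of `Heis ⋊ Sp` -/
def zc (m : ℕ) {F : Type*} [Field F] (s : F) : Gam m F := SemidirectProduct.inl (zel m s)

theorem zc_left (s : F) : (zc m s).left = zel m s := rfl
theorem zc_right (s : F) : (zc m s).right = 1 := rfl

/-- `ζ` lies over the central character `s ↦ ψ (z s)` -/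
def LiesOver (ψ : AddChar F ℂ) (ζ : Gam m F → ℂ) (z : F) : Prop :=
  ∀ (s : F) (x : Gam m F), ζ (zc m s * x) = ψ (z * s) * ζ x

/-- the symmetric matrix with lower right block `T` and vanishing first row and column -/
def blk (T : ↥(SymM m F)) : ↥(SymM (m + 1) F) :=
  ⟨Matrix.of (fun i j : Fin (m + 1) =>
      Fin.cases (0 : F) (fun i' : Fin m => Fin.cases (0 : F) (fun j' : Fin m => T.1 i' j') j) i), by
    rw [mem_SymM]
    ext i j
    rw [transpose_apply, of_apply, of_apply]
    refine Fin.cases ?_ (fun i' => ?_) i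
    · refine Fin.cases ?_ (fun j' => ?_) j
      · rfl
      · simp
    · refine Fin.cases ?_ (fun j' => ?_) j
      · simp
      · simp only [Fin.cases_succ]
        have h := T.2
        rw [mem_SymM] at h
        have := congrFun (congrFun h i') j'
        rw [transpose_apply] at this
        exact this⟩

theorem blk_zero_left (T : ↥(SymM m F)) (j : Fin (m + 1)) : (blk T).1 0 j = 0 := by
  show Matrix.of _ 0 j = 0
  rw [of_apply]
  rfl

theorem blk_zero_right (T : ↥(SymM m F)) (i : Fin (m + 1)) : (blk T).1 i 0 = 0 := by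
  show Matrix.of _ i 0 = 0
  rw [of_apply]
  refine Fin.cases ?_ (fun i' => ?_) i
  · rfl
  · simp

theorem blk_succ (T : ↥(SymM m F)) (i j : Fin m) : (blk T).1 i.succ j.succ = T.1 i j := by
  show Matrix.of _ i.succ j.succ = _
  rw [of_apply]
  simp

theorem qS_blk (T : ↥(SymM m F)) : qS (blk T) = T := by
  apply Subtype.ext
  ext i j
  rw [qS_apply, blk_succ]

theorem qv_blk (T : ↥(SymM m F)) : qv (blk T) = 0 := by
  funext k
  rcases k with i | i
  · rw [qv_inl, blk_zero_left]; rfl
  · rfl

/-- a symmetric matrix with vanishing first row is a block -/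
theorem eq_blk_of_row_zero (T : ↥(SymM (m + 1) F)) (h : ∀ j, T.1 0 j = 0) : T = blk (qS T) := by
  apply Subtype.ext
  ext i j
  refine Fin.cases ?_ (fun i' => ?_) i
  · rw [h j, blk_zero_left]
  · refine Fin.cases ?_ (fun j' => ?_) j
    · rw [blk_zero_right, symM_symm, h]
    · rw [blk_succ, qS_apply]

theorem blk_injective : Function.Injective (blk : ↥(SymM m F) → ↥(SymM (m + 1) F)) := by
  intro T T' h
  rw [← qS_blk T, ← qS_blk T', h]

theorem blk_zero : blk (0 : ↥(SymM m F)) = 0 := by
  apply Subtype.ext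
  ext i j
  refine Fin.cases ?_ (fun i' => ?_) i
  · rw [blk_zero_left]; rfl
  · refine Fin.cases ?_ (fun j' => ?_) j
    · rw [blk_zero_right]; rfl
    · rw [blk_succ]; rfl

theorem blk_eq_zero_iff (T : ↥(SymM m F)) : blk T = 0 ↔ T = 0 := by
  constructor
  · intro h
    apply blk_injective
    rw [h, blk_zero]
  · rintro rfl
    exact blk_zero

/-- the symmetric matrix `t (E_ij + E_ji)` -/
def symE {n : ℕ} (i j : Fin n) (t : F) : ↥(SymM n F) :=
  ⟨Matrix.single i j t + Matrix.single j i t, by
    rw [mem_SymM, transpose_add, transpose_single, transpose_single, add_comm]⟩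

theorem symE_val {n : ℕ} (i j : Fin n) (t : F) :
    (symE i j t : Matrix (Fin n) (Fin n) F) = Matrix.single i j t + Matrix.single j i t := rfl

/-- the symmetric matrix `t E_00` -/
def e00 (m : ℕ) {F : Type*} [Field F] (t : F) : ↥(SymM (m + 1) F) := rk1 t (Pi.single 0 1)

theorem e00_apply (t : F) (i j : Fin (m + 1)) :
    (e00 m t).1 i j = if i = 0 ∧ j = 0 then t else 0 := by
  unfold e00
  rw [rk1_apply]
  by_cases hi : i = 0
  · by_cases hj : j = 0
    · subst hi; subst hj; simp
    · simp [hj]
  · simp [hi]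

theorem qS_e00 (t : F) : qS (e00 m t) = 0 := by
  apply Subtype.ext
  ext i j
  rw [qS_apply, e00_apply, if_neg (fun h => Fin.succ_ne_zero i h.1)]
  rfl

theorem qv_e00 (t : F) : qv (e00 m t) = 0 := by
  funext k
  rcases k with i | i
  · rw [qv_inl, e00_apply, if_neg (fun h => Fin.succ_ne_zero i h.2)]; rfl
  · rfl

/-- `qt (t E_00)` is the central element `zc (-t)` -/
theorem qt_e00 (t : F) : qt m F (Multiplicative.ofAdd (e00 m t)) = zc m (-t) := by
  apply SemidirectProduct.ext
  · apply Heis.ext
    · rw [qt_left_v, qv_e00]; rfl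
    · rw [qt_left_s, e00_apply, if_pos ⟨rfl, rfl⟩]; rfl
  · rw [qt_right, qS_e00]
    exact map_one _

end Cfsg.Agent.S2524P
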