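import Mathlib
import Cfsg.Prelude.Def_Classical
import Cfsg.Prelude.Def_Characters
import Cfsg.Agent.Helper2.SU.Basic

set_option autoImplicit false

/-!
# S2335 (Landazuri–Seitz bound for `SU_{2m}(q)`): shared definitions

`G = SU_{2m}(q)` contains the abelian unipotent radical `Q ≅ (Hermitian m × m matrices, +)` of the
stabiliser of a maximal totally isotropic subspace, normalised by the matrices `A ∈ GL_m(q²)` with
`det A ∈ F_q`, acting by `Y ↦ A Y A*`.  The linear characters of `Q` are indexed by the Hermitian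
matrices `H` (`Y ↦ ψ (tr (H Y))`), permuted by `H ↦ B H B*`, and every orbit on the nonzero ones
has at least `(q^(2m) - 1)/(q + 1)` elements.
-/

namespace Cfsg.Agent.Helper12.LSU

open Matrix

variable {F : Type*} [Field F]

/-- the conjugate transpose `A* = (σ A)ᵀ` -/
def ct (σ : F →+* F) {m : ℕ} (A : Matrix (Fin m) (Fin m) F) : Matrix (Fin m) (Fin m) F :=
  (A.map σ)ᵀ

theorem ct_apply (σ : F →+* F) {m : ℕ} (A : Matrix (Fin m) (Fin m) F) (i j : Fin m) :
    ct σ A i j = σ (A j i) := rfl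

/-- the Hermitian matrices, as an additive subgroup -/
def Herm (σ : F →+* F) (m : ℕ) : AddSubgroup (Matrix (Fin m) (Fin m) F) where
  carrier := {Y | ct σ Y = Y}
  zero_mem' := by
    ext i j
    simp [ct_apply]
  add_mem' := by
    intro a b ha hb
    have ha' : ct σ a = a := ha
    have hb' : ct σ b = b := hb
    show ct σ (a + b) = a + b
    ext i j
    rw [ct_apply, Matrix.add_apply, map_add, ← ct_apply, ← ct_apply σ b, ha', hb', Matrix.add_apply]
  neg_mem' := by
    intro a ha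
    have ha' : ct σ a = a := ha
    show ct σ (-a) = -a
    ext i j
    rw [ct_apply, Matrix.neg_apply, map_neg, ← ct_apply, ha', Matrix.neg_apply]

theorem mem_Herm (σ : F →+* F) {m : ℕ} (Y : Matrix (Fin m) (Fin m) F) :
    Y ∈ Herm σ m ↔ ct σ Y = Y := Iff.rfl

/-- the action `A • Y = A Y A*` -/
def hact (σ : F →+* F) {m : ℕ} (A Y : Matrix (Fin m) (Fin m) F) : Matrix (Fin m) (Fin m) F :=
  A * Y * ct σ A

/-- the block diagonal matrix `diag(t, A')` of size `m + 1` -/
def dblock {m : ℕ} (t : F) (A' : Matrix (Fin m) (Fin m) F) : Matrix (Fin (m + 1)) (Fin (m + 1)) F :=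
  Matrix.of fun i j =>
    Fin.cases (Fin.cases t (fun _ => 0) j) (fun i' => Fin.cases 0 (fun j' => A' i' j') j) i

/-- the embedding `H' ↦ 0 ⊕ H'` -/
def emb {m : ℕ} (H' : Matrix (Fin m) (Fin m) F) : Matrix (Fin (m + 1)) (Fin (m + 1)) F :=
  dblock 0 H'

/-- block matrices of size `m + m` -/
def bm {m : ℕ} (A B C E : Matrix (Fin m) (Fin m) F) : Matrix (Fin (m + m)) (Fin (m + m)) F :=
  Matrix.reindex finSumFinEquiv finSumFinEquiv (Matrix.fromBlocks A B C E)

/-- the model of the radical: `[[1, Y], [0, 1]]` -/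
def uM {m : ℕ} (Y : Matrix (Fin m) (Fin m) F) : Matrix (Fin (m + m)) (Fin (m + m)) F :=
  bm 1 Y 0 1

/-- the model of the Levi factor: `[[A, 0], [0, (A*)⁻¹]]` -/
noncomputable def lM (σ : F →+* F) {m : ℕ} (A : Matrix (Fin m) (Fin m) F) :
    Matrix (Fin (m + m)) (Fin (m + m)) F :=
  bm A 0 0 (ct σ A)⁻¹

/-- the model Hermitian form with Gram matrix `[[0, a], [σ a, 0]]` (hyperbolic when `σ a = -a`) -/
def fJ (σ : F →+* F) (a : F) {m : ℕ} (x y : Fin (m + m) → F) : F :=
  ∑ i : Fin m, (a * x (Fin.castAdd m i) * σ (y (Fin.natAdd m i)) +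
    σ a * x (Fin.natAdd m i) * σ (y (Fin.castAdd m i)))

/-- the lower bound `(q^(2m) - 1)/(q + 1)` -/
def NN (q m : ℕ) : ℕ := (q ^ (2 * m) - 1) / (q + 1)

end Cfsg.Agent.Helper12.LSU
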