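import Mathlib
import Cfsg.Agent.Helper12.LSpWDefs

set_option autoImplicit false

/-! S2347: two computations in the Heisenberg group shared by the pieces WTHa and WPc. -/

namespace Cfsg.Agent.Helper12.LSp

open Matrix Cfsg Cfsg.Agent.Helper2.Sp

variable {n : ℕ} {F : Type*} [Field F]

/-- conjugation in the Heisenberg group -/
theorem heis_conj_v (h b : Heis n F) : (h⁻¹ * b * h).v = b.v := by
  rw [Heis.mul_v, Heis.mul_v, Heis.inv_v]
  abel

theorem heis_conj_s (h b : Heis n F) : (h⁻¹ * b * h).s = b.s + 2 * om b.v h.v := by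
  rw [Heis.mul_s, Heis.mul_s, Heis.mul_v, Heis.inv_s, Heis.inv_v, om_add_left, om_neg_left,
    om_neg_left, om_self, om_swap b.v h.v]
  ring

/-- the additive character `u ↦ ψ (2 ω(v, u))` of `F^{2n}` -/
noncomputable def omChar (ψ : AddChar F ℂ) (v : Fin n ⊕ Fin n → F) :
    AddChar (Fin n ⊕ Fin n → F) ℂ where
  toFun u := ψ (2 * om v u)
  map_zero_eq_one' := by
    rw [om_zero_right', mul_zero, AddChar.map_zero_eq_one]
  map_add_eq_mul' u u' := by
    rw [om_add_right, mul_add, AddChar.map_add_eq_mul]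

theorem omChar_apply (ψ : AddChar F ℂ) (v u : Fin n ⊕ Fin n → F) :
    omChar ψ v u = ψ (2 * om v u) := rfl

/-- orthogonality: `Σ_u ψ (2 ω(v, u)) = q^{2n} [v = 0]` -/
theorem sum_psi_om [Fintype F] (h2 : (2 : F) ≠ 0) (ψ : AddChar F ℂ) (hψ : ψ 1 ≠ 1)
    (v : Fin n ⊕ Fin n → F) :
    ∑ u : Fin n ⊕ Fin n → F, ψ (2 * om v u) =
      open Classical in if v = 0 then (Fintype.card F : ℂ) ^ (2 * n) else 0 := by
  classical
  by_cases hv : v = 0
  · rw [if_pos hv, hv]
    simp only [om_zero_left', mul_zero, AddChar.map_zero_eq_one, Finset.sum_const,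
      Finset.card_univ, nsmul_eq_mul, mul_one]
    rw [Fintype.card_fun, Fintype.card_sum, Fintype.card_fin]
    push_cast
    congr 1
    ring
  · rw [if_neg hv]
    have hne : omChar ψ v ≠ 1 := by
      intro h
      obtain ⟨x, hx⟩ := exists_om_ne_zero hv
      have h1 := congrArg (fun χ : AddChar (Fin n ⊕ Fin n → F) ℂ => χ ((2 * om v x)⁻¹ • x)) h
      simp only [omChar_apply, AddChar.one_apply, om_smul_right] at h1
      have h3 : 2 * ((2 * om v x)⁻¹ * om v x) = 1 := by
        field_simp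
      rw [h3] at h1
      exact hψ h1
    have := AddChar.sum_eq_zero_of_ne_one hne
    simpa [omChar_apply] using this

end Cfsg.Agent.Helper12.LSp
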