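import Mathlib
import Cfsg.Prelude.Def_Characters
import Cfsg.Agent.Helper24.Linear
import Cfsg.Agent.Helper24.Induced
import Cfsg.Agent.Helper12.ExtraspecialInd
import Cfsg.Agent.Helper12.LSpWDefs
import Cfsg.Agent.Helper12.LSpWPDefs
import Cfsg.Agent.Helper12.LSpWHeis

set_option autoImplicit false

/-! S2347 piece WTHa: `theta` is a character of the Heisenberg group (induced from `A_W`). -/

namespace Cfsg.Agent.Helper12.LSp

open Matrix Cfsg Cfsg.Agent.Helper2.Sp

variable {n : ℕ} {F : Type*} [Field F]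

/-- the maximal abelian subgroup `A_W = {(v, s) : v ∈ W}` -/
def heisA (n : ℕ) (F : Type*) [Field F] : Subgroup (Heis n F) where
  carrier := {a | InW a.v}
  one_mem' := inW_zero
  mul_mem' := by
    intro a b ha hb
    show InW (a * b).v
    rw [Heis.mul_v]
    exact InW.add ha hb
  inv_mem' := by
    intro a ha
    show InW (a⁻¹).v
    rw [Heis.inv_v]
    exact InW.neg ha

theorem mem_heisA (a : Heis n F) : a ∈ heisA n F ↔ InW a.v := Iff.rfl

/-- the linear character `(v, s) ↦ ψ s` of `A_W` -/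
noncomputable def lamA (ψ : AddChar F ℂ) : heisA n F →* ℂ where
  toFun a := ψ (a : Heis n F).s
  map_one' := by
    show ψ (1 : Heis n F).s = 1
    rw [Heis.one_s, AddChar.map_zero_eq_one]
  map_mul' := by
    rintro ⟨a, ha⟩ ⟨b, hb⟩
    show ψ (a * b).s = ψ a.s * ψ b.s
    rw [Heis.mul_s, om_of_inW ha hb, add_zero, AddChar.map_add_eq_mul]

/-- `A_W ≃ F^n × F` -/
def heisAEquiv (n : ℕ) (F : Type*) [Field F] : heisA n F ≃ (Fin n → F) × F where
  toFun a := (fun i => (a : Heis n F).v (Sum.inl i), (a : Heis n F).s)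
  invFun x := ⟨⟨Sum.elim x.1 (fun _ => 0), x.2⟩, fun _ => rfl⟩
  left_inv := by
    rintro ⟨a, ha⟩
    apply Subtype.ext
    apply Heis.ext
    · funext k
      rcases k with i | i
      · rfl
      · exact (ha i).symm
    · rfl
  right_inv x := rfl

theorem card_heisA [Fintype F] : Nat.card (heisA n F) = Fintype.card F ^ (n + 1) := by
  rw [Nat.card_congr (heisAEquiv n F), Nat.card_prod, Nat.card_eq_fintype_card,
    Nat.card_eq_fintype_card, Fintype.card_fun, Fintype.card_fin, pow_succ]

theorem sum_heis [Fintype F] (f : Heis n F → ℂ) :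
    ∑ x : Heis n F, f x = ∑ u : Fin n ⊕ Fin n → F, ∑ t : F, f ⟨u, t⟩ := by
  rw [← Finset.sum_product']
  exact Fintype.sum_equiv Heis.equivProd _ _ (fun x => rfl)

theorem theta_eq_indFun [Fintype F] (h2 : (2 : F) ≠ 0) (ψ : AddChar F ℂ) (hψ : ψ 1 ≠ 1) :
    indFun (heisA n F) (fun a => lamA ψ a) = theta (n := n) ψ := by
  classical
  funext b
  unfold indFun
  have hterm : ∀ x : Heis n F, extendByZero (heisA n F) (fun a => lamA ψ a) (x⁻¹ * b * x) =
      if InW b.v then ψ b.s * ψ (2 * om b.v x.v) else 0 := by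
    intro x
    by_cases hb : InW b.v
    · have hmem : x⁻¹ * b * x ∈ heisA n F := by
        rw [mem_heisA, heis_conj_v]
        exact hb
      rw [if_pos hb, Cfsg.Agent.Helper12.extendByZero_of_mem _ _ hmem]
      show ψ (x⁻¹ * b * x).s = _
      rw [heis_conj_s, AddChar.map_add_eq_mul]
    · have hmem : x⁻¹ * b * x ∉ heisA n F := by
        rw [mem_heisA, heis_conj_v]
        exact hb
      rw [if_neg hb, Cfsg.Agent.Helper12.extendByZero_of_not_mem _ _ hmem]
  rw [Finset.sum_congr rfl (fun x _ => hterm x), card_heisA]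
  have hq : (Fintype.card F : ℂ) ≠ 0 := by
    exact_mod_cast Fintype.card_ne_zero
  by_cases hb : InW b.v
  · simp only [if_pos hb]
    rw [sum_heis]
    simp only [Finset.sum_const, Finset.card_univ, nsmul_eq_mul]
    rw [← Finset.mul_sum, ← Finset.mul_sum, sum_psi_om h2 ψ hψ]
    by_cases hv : b.v = 0
    · rw [if_pos hv, theta_of_v_eq_zero ψ hv]
      push_cast
      field_simp
      ring
    · rw [if_neg hv, theta_of_v_ne_zero ψ hv]
      ring
  · simp only [if_neg hb, Finset.sum_const_zero, mul_zero]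
    have hv : b.v ≠ 0 := by
      intro h0
      apply hb
      rw [h0]
      exact inW_zero
    rw [theta_of_v_ne_zero ψ hv]

theorem theta_isCharacter [Fintype F] (h2 : (2 : F) ≠ 0) (ψ : AddChar F ℂ) (hψ : ψ 1 ≠ 1) (n : ℕ) :
    IsCharacter (Heis n F) (theta (n := n) ψ) := by
  rw [← theta_eq_indFun h2 ψ hψ]
  exact Cfsg.Agent.Helper24.isCharacter_indFun (heisA n F)
    (Cfsg.Agent.Helper24.isCharacter_of_monoidHom (lamA ψ))

end Cfsg.Agent.Helper12.LSp
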