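import Mathlib
import Cfsg.Prelude.Def_Characters
import Cfsg.Agent.Helper24.Expansion
import Cfsg.Agent.Helper12.LSpWDefs
import Cfsg.Agent.Helper12.LSpWTHa

set_option autoImplicit false

/-! S2347 piece WTHb: `theta` has norm one, hence is irreducible. -/

namespace Cfsg.Agent.Helper12.LSp

open Matrix Cfsg Cfsg.Agent.Helper2.Sp

variable {n : ℕ} {F : Type*} [Field F]

theorem wthb_psi_mul_conj [Fintype F] (ψ : AddChar F ℂ) (s : F) :
    ψ s * (starRingEnd ℂ) (ψ s) = 1 := by
  rw [← AddChar.map_neg_eq_conj, ← AddChar.map_add_eq_mul, add_neg_cancel, AddChar.map_zero_eq_one]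

theorem theta_irr_of_isCharacter [Fintype F] (ψ : AddChar F ℂ) (n : ℕ)
    (h : IsCharacter (Heis n F) (theta (n := n) ψ)) :
    IsIrrCharacter (Heis n F) (theta (n := n) ψ) := by
  classical
  haveI : Fintype (IrrCharacter (Heis n F)) := Fintype.ofFinite _
  apply Cfsg.Agent.Helper24.IsCharacter.isIrrCharacter_of_classInner_self h
  unfold classInner
  rw [sum_heis, card_heis]
  have hq : (Fintype.card F : ℂ) ≠ 0 := by
    exact_mod_cast Fintype.card_ne_zero
  have hterm : ∀ (u : Fin n ⊕ Fin n → F) (t : F),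
      theta ψ (⟨u, t⟩ : Heis n F) * (starRingEnd ℂ) (theta ψ (⟨u, t⟩ : Heis n F)) =
        if u = 0 then ((Fintype.card F : ℂ) ^ n) ^ 2 else 0 := by
    intro u t
    by_cases hu : u = 0
    · rw [if_pos hu, theta_of_v_eq_zero ψ (a := ⟨u, t⟩) hu, map_mul, map_pow, Complex.conj_natCast]
      have := wthb_psi_mul_conj ψ t
      calc (Fintype.card F : ℂ) ^ n * ψ t * ((Fintype.card F : ℂ) ^ n * (starRingEnd ℂ) (ψ t))
          = ((Fintype.card F : ℂ) ^ n) ^ 2 * (ψ t * (starRingEnd ℂ) (ψ t)) := by ring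
        _ = ((Fintype.card F : ℂ) ^ n) ^ 2 := by rw [this, mul_one]
    · rw [if_neg hu, theta_of_v_ne_zero ψ (a := ⟨u, t⟩) hu, zero_mul]
  simp only [hterm]
  rw [Finset.sum_comm]
  simp only [Finset.sum_ite_eq', Finset.mem_univ, if_true, Finset.sum_const, Finset.card_univ,
    nsmul_eq_mul]
  push_cast
  field_simp
  ring

end Cfsg.Agent.Helper12.LSp
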