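import Mathlib
import Cfsg.Agent.Helper12.LSUDefs

set_option autoImplicit false

/-! S2335 piece EMB: algebra of the block matrices `dblock t A' = diag(t, A')` and `emb H' = 0 ⊕ H'`. -/

namespace Cfsg.Agent.Helper12.LSU

open Matrix Cfsg Cfsg.Agent.Helper2.SUGen

variable {F : Type*} [Field F] {q : ℕ}

theorem dblock_zero_zero {m : ℕ} (t : F) (A' : Matrix (Fin m) (Fin m) F) : dblock t A' 0 0 = t := rfl

theorem dblock_zero_succ {m : ℕ} (t : F) (A' : Matrix (Fin m) (Fin m) F) (j : Fin m) :
    dblock t A' 0 j.succ = 0 := rfl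

theorem dblock_succ_zero {m : ℕ} (t : F) (A' : Matrix (Fin m) (Fin m) F) (i : Fin m) :
    dblock t A' i.succ 0 = 0 := rfl

theorem dblock_succ_succ {m : ℕ} (t : F) (A' : Matrix (Fin m) (Fin m) F) (i j : Fin m) :
    dblock t A' i.succ j.succ = A' i j := rfl

theorem dblock_ext {m : ℕ} {M N : Matrix (Fin (m + 1)) (Fin (m + 1)) F} (h00 : M 0 0 = N 0 0)
    (h0s : ∀ j : Fin m, M 0 j.succ = N 0 j.succ) (hs0 : ∀ i : Fin m, M i.succ 0 = N i.succ 0)
    (hss : ∀ i j : Fin m, M i.succ j.succ = N i.succ j.succ) : M = N := by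
  ext i j
  refine Fin.cases ?_ (fun i' => ?_) i
  · refine Fin.cases h00 (fun j' => h0s j') j
  · refine Fin.cases (hs0 i') (fun j' => hss i' j') j

theorem dblock_mul {m : ℕ} (t s : F) (A B : Matrix (Fin m) (Fin m) F) :
    dblock t A * dblock s B = dblock (t * s) (A * B) := by
  apply dblock_ext
  · rw [Matrix.mul_apply, Fin.sum_univ_succ]
    simp only [dblock_zero_zero, dblock_zero_succ, dblock_succ_zero, zero_mul, Finset.sum_const_zero,
      add_zero]
  · intro j
    rw [Matrix.mul_apply, Fin.sum_univ_succ]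
    simp only [dblock_zero_zero, dblock_zero_succ, dblock_succ_succ, zero_mul, mul_zero,
      Finset.sum_const_zero, add_zero]
  · intro i
    rw [Matrix.mul_apply, Fin.sum_univ_succ]
    simp only [dblock_zero_zero, dblock_succ_zero, dblock_succ_succ, zero_mul, mul_zero,
      Finset.sum_const_zero, add_zero]
  · intro i j
    rw [Matrix.mul_apply, Fin.sum_univ_succ]
    simp only [dblock_zero_succ, dblock_succ_zero, dblock_succ_succ, zero_mul, zero_add]
    rw [Matrix.mul_apply]

theorem ct_dblock (σ : F →+* F) {m : ℕ} (t : F) (A' : Matrix (Fin m) (Fin m) F) :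
    ct σ (dblock t A') = dblock (σ t) (ct σ A') := by
  apply dblock_ext
  · rfl
  · intro j
    rw [ct_apply, dblock_succ_zero, dblock_zero_succ, map_zero]
  · intro i
    rw [ct_apply, dblock_zero_succ, dblock_succ_zero, map_zero]
  · intro i j
    rfl

theorem det_dblock {m : ℕ} (t : F) (A' : Matrix (Fin m) (Fin m) F) :
    (dblock t A').det = t * A'.det := by
  rw [Matrix.det_succ_row_zero, Fin.sum_univ_succ]
  have h0 : (dblock t A').submatrix Fin.succ (Fin.succAbove (0 : Fin (m + 1))) = A' := by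
    ext i j
    rw [Matrix.submatrix_apply, Fin.succAbove_zero]
    rfl
  rw [h0]
  have hrest : ∑ i : Fin m, (-1 : F) ^ ((i.succ : Fin (m + 1)) : ℕ) * dblock t A' 0 i.succ *
      ((dblock t A').submatrix Fin.succ (Fin.succAbove i.succ)).det = 0 := by
    apply Finset.sum_eq_zero
    intro i _
    rw [dblock_zero_succ, mul_zero, zero_mul]
  rw [hrest, add_zero, dblock_zero_zero]
  simp

theorem hact_dblock_emb (σ : F →+* F) {m : ℕ} (t : F) (A' H' : Matrix (Fin m) (Fin m) F) :
    hact σ (dblock t A') (emb H') = emb (hact σ A' H') := by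
  unfold hact emb
  rw [ct_dblock, dblock_mul, dblock_mul, mul_zero, zero_mul]

theorem emb_injective {m : ℕ} :
    Function.Injective (emb : Matrix (Fin m) (Fin m) F → Matrix (Fin (m + 1)) (Fin (m + 1)) F) := by
  intro X Y h
  ext i j
  have := congrFun (congrFun h i.succ) j.succ
  exact this

theorem emb_zero {m : ℕ} : emb (0 : Matrix (Fin m) (Fin m) F) = 0 := by
  apply dblock_ext
  · rfl
  · intro j; rfl
  · intro i; rfl
  · intro i j; rfl

theorem emb_mem_Herm (σ : F →+* F) {m : ℕ} (H' : Matrix (Fin m) (Fin m) F) :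
    emb H' ∈ Herm σ (m + 1) ↔ H' ∈ Herm σ m := by
  rw [mem_Herm, mem_Herm]
  unfold emb
  rw [ct_dblock, map_zero]
  constructor
  · intro h
    exact emb_injective h
  · intro h
    rw [h]

theorem emb_apply_zero_zero {m : ℕ} (H' : Matrix (Fin m) (Fin m) F) : emb H' 0 0 = 0 := rfl

theorem hact_dblock_corner (σ : F →+* F) {m : ℕ} (t : F) (A' : Matrix (Fin m) (Fin m) F)
    (H : Matrix (Fin (m + 1)) (Fin (m + 1)) F) :
    hact σ (dblock t A') H 0 0 = t * H 0 0 * σ t := by
  unfold hact
  rw [ct_dblock, Matrix.mul_apply, Fin.sum_univ_succ]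
  simp only [dblock_zero_zero, dblock_succ_zero, mul_zero, Finset.sum_const_zero, add_zero]
  rw [Matrix.mul_apply, Fin.sum_univ_succ]
  simp only [dblock_zero_zero, dblock_zero_succ, zero_mul, Finset.sum_const_zero, add_zero]

theorem hact_dblock_col (σ : F →+* F) {m : ℕ} (t : F) (A' : Matrix (Fin m) (Fin m) F)
    (H : Matrix (Fin (m + 1)) (Fin (m + 1)) F) (j : Fin m) :
    hact σ (dblock t A') H j.succ 0 = (∑ k : Fin m, A' j k * H k.succ 0) * σ t := by
  unfold hact
  rw [ct_dblock, Matrix.mul_apply, Fin.sum_univ_succ]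
  simp only [dblock_zero_zero, dblock_succ_zero, mul_zero, Finset.sum_const_zero, add_zero]
  rw [Matrix.mul_apply, Fin.sum_univ_succ]
  simp only [dblock_succ_zero, dblock_succ_succ, zero_mul, zero_add]

end Cfsg.Agent.Helper12.LSU
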