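import Mathlib
import Cfsg.Agent.Helper12.LSUDefs
import Cfsg.Agent.Helper12.LSpWDefs

set_option autoImplicit false

/-!
# S2347: symmetric matrices as the case `σ = id` of the Hermitian framework of S2335

`Herm (RingHom.id F) m` is the additive group of symmetric matrices and
`hact (RingHom.id F) A Y = A * Y * Aᵀ`.
-/

namespace Cfsg.Agent.Helper12.LSp

open Matrix Cfsg Cfsg.Agent.Helper12.LSU

variable {F : Type*} [Field F]

theorem ct_id {m : ℕ} (A : Matrix (Fin m) (Fin m) F) : ct (RingHom.id F) A = Aᵀ := by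
  ext i j
  rfl

theorem hact_id {m : ℕ} (A Y : Matrix (Fin m) (Fin m) F) :
    hact (RingHom.id F) A Y = A * Y * Aᵀ := by
  unfold hact
  rw [ct_id]

theorem mem_Herm_id {m : ℕ} (Y : Matrix (Fin m) (Fin m) F) :
    Y ∈ Herm (RingHom.id F) m ↔ Yᵀ = Y := by
  rw [mem_Herm, ct_id]

end Cfsg.Agent.Helper12.LSp
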