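import Mathlib
import Cfsg.Prelude.Def_Characters
import Cfsg.Agent.Helper8.CharComp
import Cfsg.Agent.Helper24.Rep
import Cfsg.Agent.Helper24.GallagherDet
import Cfsg.Agent.Helper24.SylowExtension
import Cfsg.Agent.Helper12.LSpWDefs
import Cfsg.Agent.Helper12.LSpWPDefs
import Cfsg.Agent.Helper12.LSUDefs
import Cfsg.Agent.Helper12.LSpWTHa
import Cfsg.Agent.Helper12.LSpWTHb
import Cfsg.Agent.Helper13.LSpSARITH
import Cfsg.Agent.Helper13.LSpSQUAD
import Cfsg.Agent.Helper13.LSpSSQ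
import Cfsg.Agent.Helper13.LSpWRANK
import Cfsg.Agent.Helper18.LSpSSWAP
import Cfsg.Agent.Helper18.LSpWCONJ
import Cfsg.Agent.Helper23.LSpS22
import Cfsg.Agent.Helper23.LSpWPb
import Cfsg.Agent.Helper23.LSpWSYLL
import Cfsg.Agent.Helper26.LSpSCOL
import Cfsg.Agent.Helper26.LSpSNI
import Cfsg.Agent.Helper29.LSpWPd
import Cfsg.Agent.Helper29.LSpWSPLIT
import Cfsg.Agent.Helper5.LSpWBOUND
import Cfsg.Agent.Helper5.LSpWCOP
import Cfsg.Agent.Helper6.LSpSDUAL
import Cfsg.Agent.Helper6.LSpSNORMAL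
import Cfsg.Agent.Helper6.LSpWBURN
import Cfsg.Agent.Helper7.LSpWPc
import Cfsg.Agent.Helper8.LSpWCENT
import Cfsg.Agent.Helper8.LSpWCOSET

set_option autoImplicit false

/-! S2347: the character `theta` of the Heisenberg group extends to `Heis ⋊ Sp` (assembly). -/

namespace Cfsg.Agent.Helper12.LSp

open Matrix Cfsg Cfsg.Agent.Helper2.Sp Cfsg.Agent.Helper24

variable {n : ℕ} {F : Type*} [Field F]

theorem theta_irr [Fintype F] (h2 : (2 : F) ≠ 0) (ψ : AddChar F ℂ) (hψ : ψ 1 ≠ 1) (n : ℕ) :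
    IsIrrCharacter (Heis n F) (theta (n := n) ψ) :=
  theta_irr_of_isCharacter ψ n (theta_isCharacter h2 ψ hψ n)

/-- the projection `NH → Heis` -/
def NHproj (n : ℕ) (F : Type*) [Field F] : NH n F →* Heis n F where
  toFun x := (x : Gam n F).left
  map_one' := rfl
  map_mul' x y := by
    show ((x : Gam n F) * (y : Gam n F)).left = _
    rw [SemidirectProduct.mul_left, (mem_NH_iff _).mp x.2, map_one]
    rfl

theorem NHproj_surjective : Function.Surjective (NHproj n F) := by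
  intro a
  exact ⟨⟨SemidirectProduct.inl a, ⟨a, rfl⟩⟩, rfl⟩

theorem thetaN_irr [Fintype F] (ψ : AddChar F ℂ) (h : IsIrrCharacter (Heis n F) (theta (n := n) ψ)) :
    IsIrrCharacter (NH n F) (thetaN ψ) :=
  Cfsg.Agent.Helper8.isIrrCharacter_comp_surjective (NHproj n F) NHproj_surjective h

/-- the prime `p` -/
theorem exists_ext_prime_eq [Fintype F] (p : ℕ) [Fact p.Prime] [CharP F p] (h2 : (2 : F) ≠ 0)
    (ψ : AddChar F ℂ) (hψ : ψ 1 ≠ 1) :
    ∃ (P : Subgroup (Gam n F)) (hNP : NH n F ≤ P) (η : P → ℂ), Nat.Coprime P.index p ∧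
      IsIrrCharacter P η ∧ ∀ x : NH n F, η ⟨(x : Gam n F), hNP x.2⟩ = thetaN ψ x := by
  obtain ⟨η, hη, hres⟩ := exists_char_PP (n := n) h2 ψ hψ
  refine ⟨PP n F, NH_le_PP, η, PP_index_coprime p, ?_, hres⟩
  apply isIrr_of_restrict_irr ((NH n F).subgroupOf (PP n F)) η hη
  have h1 := irr_subgroupOf (NH n F) (thetaN_irr ψ (theta_irr h2 ψ hψ n)) (NH_le_PP (n := n) (F := F))
  have h2 : (fun x : ↥((NH n F).subgroupOf (PP n F)) => η (x : ↥(PP n F))) =
      fun x => thetaN ψ (Subgroup.subgroupOfEquivOfLe (NH_le_PP (n := n) (F := F)) x) := by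
    funext x
    exact hres (Subgroup.subgroupOfEquivOfLe (NH_le_PP (n := n) (F := F)) x)
  rw [h2]
  exact h1

/-- **The Weil character of `Heis ⋊ Sp`.** -/
theorem exists_weil [Fintype F] (p : ℕ) [Fact p.Prime] [CharP F p] (h2 : (2 : F) ≠ 0)
    (ψ : AddChar F ℂ) (hψ : ψ 1 ≠ 1) (n : ℕ) :
    ∃ χ : Gam n F → ℂ, IsIrrCharacter (Gam n F) χ ∧
      ∀ a : Heis n F, χ (SemidirectProduct.inl a) = theta ψ a := by
  have hirrN := thetaN_irr ψ (theta_irr h2 ψ hψ n)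
  obtain ⟨χ, hχ, hres⟩ := extends_of_sylow_extensions (NH n F) (thetaN ψ) hirrN (thetaN_inv ψ)
    (by
      intro l hl
      by_cases hlp : l = p
      · subst hlp
        obtain ⟨P, hNP, η, h1, h2', h3⟩ := exists_ext_prime_eq (n := n) l h2 ψ hψ
        exact ⟨P, hNP, η, h1, h2', h3⟩
      · obtain ⟨P, hNP, η, h1, h2', h3⟩ := exists_ext_prime_ne (n := n) p ψ hirrN l hl hlp
        exact ⟨P, hNP, η, h1, h2', h3⟩)
  refine ⟨χ, hχ, fun a => ?_⟩
  have := hres ⟨SemidirectProduct.inl a, ⟨a, rfl⟩⟩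
  rw [this]
  rfl

end Cfsg.Agent.Helper12.LSp
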