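import Mathlib
import Cfsg.Prelude.Def_Characters
import Cfsg.Agent.Helper8.CharComp
import Cfsg.Agent.Helper24.Rep
import Cfsg.Agent.Helper12.LSpWDefs
import Cfsg.Agent.Helper12.LSpWPDefs
import Cfsg.Agent.Helper12.LSUDefs
import Cfsg.Agent.Helper12.LSpWTHa
import Cfsg.Agent.Helper12.LSpWTHb
import Cfsg.Agent.Helper13.LSpSARITH
import Cfsg.Agent.Helper13.LSpSQUAD
import Cfsg.Agent.Helper13.LSpSSQ
import Cfsg.Agent.Helper13.LSpWRANK
import Cfsg.Agent.Helper18.LSpSSWAP
import Cfsg.Agent.Helper18.LSpWCONJ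
import Cfsg.Agent.Helper23.LSpS22
import Cfsg.Agent.Helper23.LSpWPb
import Cfsg.Agent.Helper23.LSpWSYLL
import Cfsg.Agent.Helper26.LSpSCOL
import Cfsg.Agent.Helper26.LSpSNI
import Cfsg.Agent.Helper29.LSpWPd
import Cfsg.Agent.Helper29.LSpWSPLIT
import Cfsg.Agent.Helper5.LSpWBOUND
import Cfsg.Agent.Helper5.LSpWCOP
import Cfsg.Agent.Helper6.LSpSDUAL
import Cfsg.Agent.Helper6.LSpSNORMAL
import Cfsg.Agent.Helper6.LSpWBURN
import Cfsg.Agent.Helper7.LSpWPc
import Cfsg.Agent.Helper8.LSpWCENT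
import Cfsg.Agent.Helper8.LSpWCOSET
import Cfsg.Agent.Helper12.LSpWExt

set_option autoImplicit false

/-! S2347: existence of an irreducible representation of degree `(q^n - 1)/2` of `Sp_{2n}(q)`, `q` odd
(assembly). -/

namespace Cfsg.Agent.Helper12.LSp

open Matrix Cfsg Cfsg.Agent.Helper2.Sp Cfsg.Agent.Helper24

variable {n : ℕ} {F : Type*} [Field F]

theorem two_ne_zero_of_odd_card [Fintype F] (hodd : Odd (Fintype.card F)) : (2 : F) ≠ 0 := by
  intro h
  have hchar : ringChar F = 2 := by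
    have h2 : (ringChar F) ∣ 2 := by
      apply ringChar.dvd
      exact_mod_cast h
    have hp : (ringChar F).Prime := CharP.char_is_prime F (ringChar F)
    exact (Nat.prime_dvd_prime_iff_eq hp Nat.prime_two).mp h2
  have := FiniteField.even_card_of_char_two hchar
  rcases hodd with ⟨k, hk⟩
  omega

/-- the central involution `-1` of `Sp_{2n}(F)` -/
def negOne (n : ℕ) (F : Type*) [Field F] : symplecticGroup (Fin n) F :=
  ⟨-1, SymplecticGroup.neg_mem (Submonoid.one_mem _)⟩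

theorem negOne_comm (g : symplecticGroup (Fin n) F) : g * negOne n F = negOne n F * g := by
  apply Subtype.ext
  show (g : Matrix (Fin n ⊕ Fin n) (Fin n ⊕ Fin n) F) * (-1) = (-1) * (g : Matrix _ _ F)
  rw [mul_neg, mul_one, neg_mul, one_mul]

theorem negOne_mul_self : negOne n F * negOne n F = 1 := by
  apply Subtype.ext
  show (-1 : Matrix (Fin n ⊕ Fin n) (Fin n ⊕ Fin n) F) * (-1) = 1
  rw [neg_mul_neg, one_mul]

theorem exists_weil_rep [Fintype F] (n : ℕ) (hn : 2 ≤ n) (hodd : Odd (Fintype.card F)) :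
    ∃ ρ : Representation ℂ (symplecticGroup (Fin n) F) (Fin ((Fintype.card F ^ n - 1) / 2) → ℂ),
      ρ.IsIrreducible := by
  classical
  letI : Fintype ↥(symplecticGroup (Fin n) F) := Fintype.ofFinite _
  have h2 : (2 : F) ≠ 0 := two_ne_zero_of_odd_card hodd
  haveI hp : Fact (ringChar F).Prime := ⟨CharP.char_is_prime F (ringChar F)⟩
  obtain ⟨ψ, hψ⟩ : ∃ ψ : AddChar F ℂ, ψ 1 ≠ 1 := AddChar.exists_apply_ne_zero.mpr one_ne_zero
  obtain ⟨χ, hχ, hres⟩ := exists_weil (ringChar F) h2 ψ hψ n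
  have hirr := theta_irr h2 ψ hψ n
  set q := Fintype.card F with hq
  set d := (q ^ n - 1) / 2 with hd
  have hq3 : 3 ≤ q := by
    have h1 : 1 < q := Fintype.one_lt_card
    rcases hodd with ⟨k, hk⟩
    omega
  have hqn_odd : Odd (q ^ n) := hodd.pow
  have hqn : q ^ n = 2 * d + 1 := by
    rcases hqn_odd with ⟨k, hk⟩
    rw [hd, hk]
    omega
  have hd1 : 1 ≤ d := by
    have : 3 ^ 2 ≤ q ^ n := by
      calc 3 ^ 2 ≤ q ^ 2 := Nat.pow_le_pow_left hq3 2
        _ ≤ q ^ n := Nat.pow_le_pow_right (by omega) hn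
    omega
  -- the Weil character of `Sp`
  set ω : symplecticGroup (Fin n) F → ℂ := fun g => χ (SemidirectProduct.inr g) with hω
  have hωchar : IsCharacter (symplecticGroup (Fin n) F) ω :=
    Cfsg.Agent.Helper8.isCharacter_comp (SemidirectProduct.inr : _ →* Gam n F)
      (IsIrrCharacter.isCharacter hχ)
  have hω1 : ω 1 = 2 * (d : ℂ) + 1 := by
    rw [hω]
    show χ (SemidirectProduct.inr 1) = _
    rw [map_one, ← map_one (SemidirectProduct.inl : Heis n F →* Gam n F), hres, theta_one]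
    have : ((q ^ n : ℕ) : ℂ) = ((2 * d + 1 : ℕ) : ℂ) := by rw [hqn]
    push_cast at this
    rw [← this]
  -- the norm
  have hnorm : (classInner ω ω).re ≤ 2 := by
    unfold classInner
    have h1 : ∀ g : symplecticGroup (Fin n) F, ω g * (starRingEnd ℂ) (ω g) =
        ((Complex.normSq (ω g) : ℝ) : ℂ) := fun g => Complex.mul_conj (ω g)
    rw [Finset.sum_congr rfl (fun g _ => h1 g), ← Complex.ofReal_sum, Nat.card_eq_fintype_card]
    have h3 : ∑ g : symplecticGroup (Fin n) F, Complex.normSq (ω g) ≤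
        2 * (Fintype.card ↥(symplecticGroup (Fin n) F) : ℝ) := by
      calc ∑ g : symplecticGroup (Fin n) F, Complex.normSq (ω g)
          ≤ ∑ g : symplecticGroup (Fin n) F, (Nat.card {v : Fin n ⊕ Fin n → F //
              (g : Matrix (Fin n ⊕ Fin n) (Fin n ⊕ Fin n) F) *ᵥ v = v} : ℝ) :=
            Finset.sum_le_sum (fun g _ => normSq_chi_inr_le χ hχ ψ hirr hres g)
        _ = 2 * (Fintype.card ↥(symplecticGroup (Fin n) F) : ℝ) := by
            rw [← Nat.cast_sum, sum_card_fix (by omega)]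
            push_cast
            ring
    have hc : (0 : ℝ) < (Fintype.card ↥(symplecticGroup (Fin n) F) : ℝ) := by
      exact_mod_cast Fintype.card_pos
    have h4 : ((Fintype.card ↥(symplecticGroup (Fin n) F) : ℂ)⁻¹ *
        ((∑ g : symplecticGroup (Fin n) F, Complex.normSq (ω g) : ℝ) : ℂ)).re =
        (Fintype.card ↥(symplecticGroup (Fin n) F) : ℝ)⁻¹ *
          ∑ g : symplecticGroup (Fin n) F, Complex.normSq (ω g) := by
      rw [← Complex.ofReal_natCast, ← Complex.ofReal_inv, ← Complex.ofReal_mul, Complex.ofReal_re]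
    rw [h4]
    calc (Fintype.card ↥(symplecticGroup (Fin n) F) : ℝ)⁻¹ *
          ∑ g : symplecticGroup (Fin n) F, Complex.normSq (ω g)
        ≤ (Fintype.card ↥(symplecticGroup (Fin n) F) : ℝ)⁻¹ *
          (2 * (Fintype.card ↥(symplecticGroup (Fin n) F) : ℝ)) :=
          mul_le_mul_of_nonneg_left h3 (le_of_lt (inv_pos.mpr hc))
      _ = 2 := by field_simp
  -- the central involution
  have hz : Complex.normSq (ω (negOne n F)) = 1 := by
    apply normSq_chi_inr_eq_one χ hχ ψ hirr hres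
    intro v
    refine ⟨(2 : F)⁻¹ • v, ?_⟩
    show (2 : F)⁻¹ • v - (-1 : Matrix (Fin n ⊕ Fin n) (Fin n ⊕ Fin n) F) *ᵥ ((2 : F)⁻¹ • v) = v
    rw [neg_mulVec, one_mulVec, sub_neg_eq_add, ← add_smul, ← two_mul, mul_inv_cancel₀ h2, one_smul]
  obtain ⟨χ', hχ', hχ'1⟩ := exists_irr_of_split ω hωchar d hd1 hω1 hnorm (negOne n F) negOne_comm
    negOne_mul_self hz
  obtain ⟨k, ρ, hρ, hchar⟩ := hχ'
  have hk : k = d := by
    have h5 : χ' 1 = k := by
      rw [← hchar, Representation.char_one, Module.finrank_fin_fun]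
    rw [hχ'1] at h5
    exact_mod_cast h5.symm
  subst hk
  exact ⟨ρ, hρ⟩

end Cfsg.Agent.Helper12.LSp
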