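import Mathlib
import Cfsg.Prelude.Def_Characters
import Cfsg.Agent.Helper8.CharComp
import Cfsg.Agent.Helper24.Linear
import Cfsg.Agent.Helper24.Expansion
import Cfsg.Agent.Helper12.LSUDefs

set_option autoImplicit false

/-! S2335 piece REPa: multiplicities of a full family of linear characters of an abelian subgroup
in the restriction of a character add up to the degree. -/

namespace Cfsg.Agent.Helper12.LSU

open Matrix Cfsg Cfsg.Agent.Helper2.SUGen

theorem rep_count {G A ι : Type*} [Group G] [Fintype G] [Group A] [Fintype A] [Fintype ι]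
    (U : A →* G) (χ : G → ℂ) (hχ : IsCharacter G χ) (k : ℕ) (hk : χ 1 = k)
    (lam : ι → A →* ℂ) (horth : ∀ a : A, a ≠ 1 → ∑ i, lam i a = 0)
    (hcard : Fintype.card ι = Fintype.card A) :
    ∃ n : ι → ℕ, (∀ i, classInner (fun a => χ (U a)) (fun a => lam i a) = (n i : ℂ)) ∧
      ∑ i, n i = k := by
  classical
  haveI : Fintype (IrrCharacter A) := Fintype.ofFinite _
  have hχU : IsCharacter A (fun a => χ (U a)) := Cfsg.Agent.Helper8.isCharacter_comp U hχ
  have hirr : ∀ i, IsIrrCharacter A (fun a => lam i a) :=
    fun i => Cfsg.Agent.Helper24.isIrrCharacter_of_monoidHom (lam i)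
  have hnat : ∀ i, ∃ n : ℕ, classInner (fun a => χ (U a)) (fun a => lam i a) = n :=
    fun i => Cfsg.Agent.Helper24.IsCharacter.classInner_irr_nat hχU ⟨_, hirr i⟩
  choose n hn using hnat
  refine ⟨n, hn, ?_⟩
  have hsum : ∑ i, (n i : ℂ) = k := by
    simp_rw [← hn]
    unfold classInner
    rw [← Finset.mul_sum, Finset.sum_comm]
    simp_rw [← Finset.mul_sum, ← map_sum]
    rw [Finset.sum_eq_single 1]
    · have h1 : ∑ i, (lam i) 1 = (Fintype.card A : ℂ) := by
        simp only [map_one, Finset.sum_const, Finset.card_univ, nsmul_eq_mul, mul_one, hcard]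
      rw [h1, map_one, hk, Nat.card_eq_fintype_card, map_natCast]
      have hA : (Fintype.card A : ℂ) ≠ 0 := by
        exact_mod_cast Fintype.card_ne_zero
      field_simp
    · intro a _ ha
      rw [horth a ha, map_zero, mul_zero]
    · intro h
      exact absurd (Finset.mem_univ _) h
  exact_mod_cast hsum

end Cfsg.Agent.Helper12.LSU
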