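import Mathlib
import Cfsg.Prelude.Def_Characters

set_option autoImplicit false

/-! S2332 (minimal degree of `SL_n(q)`): definitions and basic relations.

`GG m F = SL (Unit ⊕ Fin m) F` is `SL_{m+1}` in block coordinates, `MM m F = SL (Fin m) F`.
`uQ b = [1 b; 0 1]` (row group `Q`), `uQm b = [1 0; b 1]` (column group `Q⁻`), `lev A = [1 0; 0 A]`. -/

namespace Cfsg.Agent.Helper12.LSL

open Matrix Cfsg

variable {F : Type*} [Field F] {m : ℕ}

theorem sl_ext {ι : Type*} [Fintype ι] [DecidableEq ι] {R : Type*} [CommRing R]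
    (A B : Matrix.SpecialLinearGroup ι R) (h : (A : Matrix ι ι R) = (B : Matrix ι ι R)) : A = B :=
  Subtype.ext h

/-- `SL_{m+1}` in block coordinates -/
abbrev GG (m : ℕ) (F : Type*) [Field F] := Matrix.SpecialLinearGroup (Unit ⊕ Fin m) F

/-- `SL_m` -/
abbrev MM (m : ℕ) (F : Type*) [Field F] := Matrix.SpecialLinearGroup (Fin m) F

/-- `[1 b; 0 1]` -/
def uQ (b : Fin m → F) : GG m F :=
  ⟨fromBlocks 1 (replicateRow Unit b) 0 1, by
    rw [det_fromBlocks_zero₂₁, det_one, det_one, one_mul]⟩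

/-- `[1 0; b 1]` -/
def uQm (b : Fin m → F) : GG m F :=
  ⟨fromBlocks 1 0 (replicateCol Unit b) 1, by
    rw [det_fromBlocks_zero₁₂, det_one, det_one, one_mul]⟩

/-- `[1 0; 0 A]` -/
def lev (A : MM m F) : GG m F :=
  ⟨fromBlocks 1 0 0 A.1, by rw [det_fromBlocks_zero₂₁, det_one, one_mul, A.2]⟩

theorem uQ_val (b : Fin m → F) :
    ((uQ b : GG m F) : Matrix (Unit ⊕ Fin m) (Unit ⊕ Fin m) F) =
      fromBlocks (1 : Matrix Unit Unit F) (replicateRow Unit b) 0 1 := rfl

theorem uQm_val (b : Fin m → F) :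
    ((uQm b : GG m F) : Matrix (Unit ⊕ Fin m) (Unit ⊕ Fin m) F) =
      fromBlocks (1 : Matrix Unit Unit F) 0 (replicateCol Unit b) 1 := rfl

theorem lev_val (A : MM m F) :
    ((lev A : GG m F) : Matrix (Unit ⊕ Fin m) (Unit ⊕ Fin m) F) =
      fromBlocks (1 : Matrix Unit Unit F) 0 0 (A : Matrix (Fin m) (Fin m) F) := rfl

theorem uQ_mul (b b' : Fin m → F) : uQ b * uQ b' = uQ (b + b') := by
  apply SpecialLinearGroup.coeMonoidHom_injective
  simp only [map_mul, SpecialLinearGroup.coeMonoidHom_apply, uQ_val]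
  rw [fromBlocks_multiply]
  congr 1
  · simp
  · ext i j
    simp [add_comm]
  · simp
  · simp

theorem uQ_zero : uQ (0 : Fin m → F) = 1 := by
  apply SpecialLinearGroup.coeMonoidHom_injective
  simp only [map_one, SpecialLinearGroup.coeMonoidHom_apply, uQ_val]
  rw [← fromBlocks_one]
  congr 1

theorem uQ_inv (b : Fin m → F) : (uQ b)⁻¹ = uQ (-b) := by
  rw [inv_eq_iff_mul_eq_one, uQ_mul, add_neg_cancel, uQ_zero]

theorem uQm_mul (b b' : Fin m → F) : uQm b * uQm b' = uQm (b + b') := by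
  apply SpecialLinearGroup.coeMonoidHom_injective
  simp only [map_mul, SpecialLinearGroup.coeMonoidHom_apply, uQm_val]
  rw [fromBlocks_multiply]
  congr 1
  · simp
  · simp
  · ext i j
    simp
  · simp

theorem uQm_zero : uQm (0 : Fin m → F) = 1 := by
  apply SpecialLinearGroup.coeMonoidHom_injective
  simp only [map_one, SpecialLinearGroup.coeMonoidHom_apply, uQm_val]
  rw [← fromBlocks_one]
  congr 1

theorem uQm_inv (b : Fin m → F) : (uQm b)⁻¹ = uQm (-b) := by
  rw [inv_eq_iff_mul_eq_one, uQm_mul, add_neg_cancel, uQm_zero]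

theorem lev_mul (A B : MM m F) : lev A * lev B = lev (A * B) := by
  apply SpecialLinearGroup.coeMonoidHom_injective
  simp only [map_mul, SpecialLinearGroup.coeMonoidHom_apply, lev_val]
  rw [fromBlocks_multiply]
  congr 1 <;> simp

theorem lev_one : lev (1 : MM m F) = 1 := by
  apply SpecialLinearGroup.coeMonoidHom_injective
  simp only [map_one, SpecialLinearGroup.coeMonoidHom_apply, lev_val]
  rw [Matrix.SpecialLinearGroup.coe_one, ← fromBlocks_one]

theorem lev_inv (A : MM m F) : (lev A)⁻¹ = lev A⁻¹ := by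
  rw [inv_eq_iff_mul_eq_one, lev_mul, mul_inv_cancel, lev_one]

theorem uQ_injective : Function.Injective (uQ : (Fin m → F) → GG m F) := by
  intro b b' h
  have h1 := congrArg Subtype.val h
  rw [uQ_val, uQ_val] at h1
  have h2 := (fromBlocks_inj.mp h1).2.1
  funext j
  have := congrFun (congrFun h2 ()) j
  simpa using this

theorem uQm_injective : Function.Injective (uQm : (Fin m → F) → GG m F) := by
  intro b b' h
  have h1 := congrArg Subtype.val h
  rw [uQm_val, uQm_val] at h1
  have h2 := (fromBlocks_inj.mp h1).2.2.1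
  funext j
  have := congrFun (congrFun h2 j) ()
  simpa using this

theorem lev_injective : Function.Injective (lev : MM m F → GG m F) := by
  intro A B h
  have h1 := congrArg Subtype.val h
  rw [lev_val, lev_val] at h1
  exact Subtype.ext (fromBlocks_inj.mp h1).2.2.2

/-- the Levi factor acts on the row group by `b ↦ b A⁻¹` -/
theorem lev_mul_uQ (A : MM m F) (b : Fin m → F) :
    lev A * uQ (b ᵥ* A.1) = uQ b * lev A := by
  apply SpecialLinearGroup.coeMonoidHom_injective
  simp only [map_mul, SpecialLinearGroup.coeMonoidHom_apply, lev_val, uQ_val]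
  rw [fromBlocks_multiply, fromBlocks_multiply]
  congr 1
  · simp
  · ext i j
    simp [Matrix.mul_apply, vecMul, dotProduct]
  · simp
  · simp

theorem lev_conj_uQ (A : MM m F) (b : Fin m → F) :
    lev A * uQ b * (lev A)⁻¹ = uQ (b ᵥ* (A⁻¹).1) := by
  rw [mul_inv_eq_iff_eq_mul, ← lev_mul_uQ]
  congr 2
  rw [vecMul_vecMul, ← Matrix.SpecialLinearGroup.coe_mul, inv_mul_cancel, Matrix.SpecialLinearGroup.coe_one,
    vecMul_one]

/-- the Levi factor acts on the column group by `b ↦ A b` -/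
theorem lev_mul_uQm (A : MM m F) (b : Fin m → F) :
    lev A * uQm b = uQm (A.1 *ᵥ b) * lev A := by
  apply SpecialLinearGroup.coeMonoidHom_injective
  simp only [map_mul, SpecialLinearGroup.coeMonoidHom_apply, lev_val, uQm_val]
  rw [fromBlocks_multiply, fromBlocks_multiply]
  congr 1
  · simp
  · simp
  · ext i j
    simp [Matrix.mul_apply, mulVec, dotProduct]
  · simp

theorem lev_conj_uQm (A : MM m F) (b : Fin m → F) :
    lev A * uQm b * (lev A)⁻¹ = uQm (A.1 *ᵥ b) := by
  rw [mul_inv_eq_iff_eq_mul, lev_mul_uQm]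

/-- `uQ` as a homomorphism -/
def uQhom : Multiplicative (Fin m → F) →* GG m F where
  toFun b := uQ (Multiplicative.toAdd b)
  map_one' := uQ_zero
  map_mul' b b' := (uQ_mul _ _).symm

/-- `uQm` as a homomorphism -/
def uQmhom : Multiplicative (Fin m → F) →* GG m F where
  toFun b := uQm (Multiplicative.toAdd b)
  map_one' := uQm_zero
  map_mul' b b' := (uQm_mul _ _).symm

/-- `lev` as a homomorphism -/
def levhom : MM m F →* GG m F where
  toFun := lev
  map_one' := lev_one
  map_mul' A B := (lev_mul A B).symm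

theorem uQhom_apply (b : Multiplicative (Fin m → F)) : uQhom b = uQ (Multiplicative.toAdd b) := rfl

theorem uQmhom_apply (b : Multiplicative (Fin m → F)) :
    uQmhom b = uQm (Multiplicative.toAdd b) := rfl

theorem levhom_apply (A : MM m F) : levhom A = lev A := rfl

theorem uQhom_injective : Function.Injective (uQhom : Multiplicative (Fin m → F) →* GG m F) :=
  fun _ _ h => Multiplicative.toAdd.injective (uQ_injective h)

theorem uQmhom_injective : Function.Injective (uQmhom : Multiplicative (Fin m → F) →* GG m F) :=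
  fun _ _ h => Multiplicative.toAdd.injective (uQm_injective h)

/-- the linear characters `b ↦ ψ (b ⬝ᵥ v)` of `F^m` -/
def lamQ (ψ : AddChar F ℂ) (v : Fin m → F) : Multiplicative (Fin m → F) →* ℂ where
  toFun b := ψ (Multiplicative.toAdd b ⬝ᵥ v)
  map_one' := by
    show ψ ((0 : Fin m → F) ⬝ᵥ v) = 1
    rw [zero_dotProduct, AddChar.map_zero_eq_one]
  map_mul' b b' := by
    show ψ ((Multiplicative.toAdd b + Multiplicative.toAdd b') ⬝ᵥ v) = _
    rw [add_dotProduct, AddChar.map_add_eq_mul]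

theorem lamQ_apply (ψ : AddChar F ℂ) (v : Fin m → F) (b : Multiplicative (Fin m → F)) :
    lamQ ψ v b = ψ (Multiplicative.toAdd b ⬝ᵥ v) := rfl

/-- stabiliser of a column vector in `SL_m` -/
def stabV (v : Fin m → F) : Subgroup (MM m F) where
  carrier := {A | A.1 *ᵥ v = v}
  one_mem' := by
    show (1 : MM m F).1 *ᵥ v = v
    rw [Matrix.SpecialLinearGroup.coe_one, one_mulVec]
  mul_mem' := by
    intro A B hA hB
    show (A * B).1 *ᵥ v = v
    rw [Matrix.SpecialLinearGroup.coe_mul, ← mulVec_mulVec, hB, hA]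
  inv_mem' := by
    intro A hA
    show (A⁻¹).1 *ᵥ v = v
    have hA' : A.1 *ᵥ v = v := hA
    conv_lhs => rw [← hA']
    rw [mulVec_mulVec, ← Matrix.SpecialLinearGroup.coe_mul, inv_mul_cancel, Matrix.SpecialLinearGroup.coe_one,
      one_mulVec]

theorem mem_stabV (v : Fin m → F) (A : MM m F) : A ∈ stabV v ↔ A.1 *ᵥ v = v := Iff.rfl

/-- stabiliser of a row vector in `SL_m` -/
def stabW (w : Fin m → F) : Subgroup (MM m F) where
  carrier := {A | w ᵥ* A.1 = w}
  one_mem' := by
    show w ᵥ* (1 : MM m F).1 = w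
    rw [Matrix.SpecialLinearGroup.coe_one, vecMul_one]
  mul_mem' := by
    intro A B hA hB
    show w ᵥ* (A * B).1 = w
    rw [Matrix.SpecialLinearGroup.coe_mul, ← vecMul_vecMul, hA, hB]
  inv_mem' := by
    intro A hA
    show w ᵥ* (A⁻¹).1 = w
    have hA' : w ᵥ* A.1 = w := hA
    conv_lhs => rw [← hA']
    rw [vecMul_vecMul, ← Matrix.SpecialLinearGroup.coe_mul, mul_inv_cancel, Matrix.SpecialLinearGroup.coe_one,
      vecMul_one]

theorem mem_stabW (w : Fin m → F) (A : MM m F) : A ∈ stabW w ↔ w ᵥ* A.1 = w := Iff.rfl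

/-- the set of transvections `1 + x φᵀ` (`x, φ ≠ 0`, `φ x = 0`) of `SL` -/
def tvSet (ι : Type*) [Fintype ι] [DecidableEq ι] (F : Type*) [Field F] :
    Set (Matrix.SpecialLinearGroup ι F) :=
  {g | ∃ x φ : ι → F, x ≠ 0 ∧ φ ≠ 0 ∧ φ ⬝ᵥ x = 0 ∧ g.1 = 1 + vecMulVec x φ}

/-- reindexing `SL` along an equivalence of index types -/
def slRe {ι κ : Type*} [Fintype ι] [DecidableEq ι] [Fintype κ] [DecidableEq κ]
    (R : Type*) [CommRing R] (e : ι ≃ κ) :
    Matrix.SpecialLinearGroup ι R ≃* Matrix.SpecialLinearGroup κ R where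
  toFun g := ⟨Matrix.reindex e e g.1, by rw [Matrix.det_reindex_self]; exact g.2⟩
  invFun g := ⟨Matrix.reindex e.symm e.symm g.1, by rw [Matrix.det_reindex_self]; exact g.2⟩
  left_inv g := by
    apply Subtype.ext
    ext i j
    simp
  right_inv g := by
    apply Subtype.ext
    ext i j
    simp
  map_mul' g h := by
    apply Subtype.ext
    show Matrix.reindex e e (g.1 * h.1) = Matrix.reindex e e g.1 * Matrix.reindex e e h.1
    simp only [Matrix.reindex_apply]
    rw [Matrix.submatrix_mul_equiv]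


/-! ### `SL_3`: the second transvection group and a torus -/

/-- `[[1,y],[0,1]]` in `SL_2` -/
def t01 (y : F) : MM 2 F := ⟨!![1, y; 0, 1], by simp [Matrix.det_fin_two]⟩

theorem t01_val (y : F) : ((t01 y : MM 2 F) : Matrix (Fin 2) (Fin 2) F) = !![1, y; 0, 1] := rfl

/-- the transvection group `Q* = {1 + z E_{U1} + y E_{01}}` of `SL_3`, `b = ![y, z]` -/
def vS (b : Fin 2 → F) : GG 2 F := uQ ![0, b 1] * lev (t01 (b 0))

/-- the torus element `diag(s⁻², s, s)` of `SL_3` -/
def tor3 (s : Fˣ) : GG 2 F :=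
  ⟨fromBlocks (((s⁻¹ : Fˣ) : F) ^ 2 • (1 : Matrix Unit Unit F)) 0 0
      ((s : F) • (1 : Matrix (Fin 2) (Fin 2) F)), by
    rw [det_fromBlocks_zero₂₁, det_smul, det_smul, det_one, det_one, mul_one, mul_one,
      Fintype.card_unit, Fintype.card_fin, pow_one, ← mul_pow, Units.inv_mul, one_pow]⟩

theorem tor3_val (s : Fˣ) : ((tor3 s : GG 2 F) : Matrix (Unit ⊕ Fin 2) (Unit ⊕ Fin 2) F) =
    fromBlocks (((s⁻¹ : Fˣ) : F) ^ 2 • (1 : Matrix Unit Unit F)) 0 0
      ((s : F) • (1 : Matrix (Fin 2) (Fin 2) F)) := rfl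

/-! ### generic: isotypic projections and the stabiliser of a linear character -/

section generic

variable {G : Type*} [Group G] {V : Type*} [AddCommGroup V] [Module ℂ V]
  {A : Type*} [Group A]

/-- the projection `|A|⁻¹ ∑ conj (l a) ρ (U a)` onto the `l`-eigenspace of `U(A)` -/
noncomputable def projOp [Fintype A] (ρ : Representation ℂ G V) (U : A →* G) (l : A →* ℂ) :
    V →ₗ[ℂ] V :=
  (Fintype.card A : ℂ)⁻¹ • ∑ a : A, (starRingEnd ℂ (l a)) • ρ (U a)

/-- elements of `G` normalising `U(A)` and fixing the linear character `l` -/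
def fixer (U : A →* G) (l : A →* ℂ) : Subgroup G where
  carrier := {h | ∃ e : A ≃ A, (∀ a, U (e a) = h * U a * h⁻¹) ∧ ∀ a, l (e a) = l a}
  one_mem' := ⟨Equiv.refl A, fun a => by simp, fun a => rfl⟩
  mul_mem' := by
    rintro h h' ⟨e, he, hl⟩ ⟨e', he', hl'⟩
    refine ⟨e'.trans e, fun a => ?_, fun a => ?_⟩
    · show U (e (e' a)) = h * h' * U a * (h * h')⁻¹
      rw [he, he', _root_.mul_inv_rev]
      group
    · show l (e (e' a)) = l a
      rw [hl, hl']
  inv_mem' := by
    rintro h ⟨e, he, hl⟩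
    refine ⟨e.symm, fun a => ?_, fun a => ?_⟩
    · have h1 := he (e.symm a)
      rw [Equiv.apply_symm_apply] at h1
      rw [h1]
      group
    · have h1 := hl (e.symm a)
      rw [Equiv.apply_symm_apply] at h1
      exact h1.symm

theorem mem_fixer (U : A →* G) (l : A →* ℂ) (h : G) :
    h ∈ fixer U l ↔ ∃ e : A ≃ A, (∀ a, U (e a) = h * U a * h⁻¹) ∧ ∀ a, l (e a) = l a := Iff.rfl

end generic

end Cfsg.Agent.Helper12.LSL
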