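import Cfsg.Agent.Helper12.RUSpA

set_option autoImplicit false
set_option linter.unusedSimpArgs false
set_option linter.unusedSectionVars false

/-!
# Heisenberg elements inside a subgroup

`MM H e` is the additive group of `v ⊥ e` with some `qq e v a ∈ H`, `PP H e` the set of `v ⊥ e` with
`qq e v 0 ∈ H`, `ZZ H e` the additive group of `a` with `Tg e a ∈ H`, and `QS H` the set of vectors
`x` whose full Heisenberg group lies in `H`.
-/

namespace Cfsg.Agent.Helper12.RUSp

open Matrix Cfsg.Agent.Helper2.Sp Cfsg.Agent.Helper12.SpTwo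

variable {l : Type*} [DecidableEq l] [Fintype l] {F : Type*} [Field F]

variable (H : Subgroup (symplecticGroup l F)) (e : l ⊕ l → F)

/-- `v ⊥ e` such that some `qq e v a` lies in `H`. -/
def MM : AddSubgroup (l ⊕ l → F) where
  carrier := {v | om e v = 0 ∧ ∃ a, qq e v a ∈ H}
  zero_mem' := ⟨om_zero_right e, 0, by rw [qq_zero_zero]; exact H.one_mem⟩
  add_mem' := by
    rintro v v' ⟨hv, a, ha⟩ ⟨hv', a', ha'⟩
    refine ⟨by rw [om_add_right, hv, hv', add_zero], a + a' + om v v', ?_⟩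
    rw [← qq_mul hv hv']
    exact H.mul_mem ha ha'
  neg_mem' := by
    rintro v ⟨hv, a, ha⟩
    refine ⟨by rw [om_neg_right, hv, neg_zero], -a, ?_⟩
    rw [← qq_inv hv]
    exact H.inv_mem ha

/-- the parameters of the central transvections in `H` -/
def ZZ : AddSubgroup F where
  carrier := {a | Tg e a ∈ H}
  zero_mem' := by
    show Tg e 0 ∈ H
    rw [Tg_zero]; exact H.one_mem
  add_mem' := by
    intro a b ha hb
    show Tg e (a + b) ∈ H
    rw [← Tg_add]
    exact H.mul_mem ha hb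
  neg_mem' := by
    intro a ha
    show Tg e (-a) ∈ H
    rw [← Tg_inv]
    exact H.inv_mem ha

/-- the pure Heisenberg elements of `H` -/
def PP : Set (l ⊕ l → F) := {v | om e v = 0 ∧ qq e v 0 ∈ H}

/-- vectors whose whole Heisenberg group lies in `H` -/
def QS : Set (l ⊕ l → F) := {x | (∀ a, Tg x a ∈ H) ∧ ∀ v, om x v = 0 → qq x v 0 ∈ H}

variable {H e}

theorem mem_MM_iff {v : l ⊕ l → F} : v ∈ MM H e ↔ om e v = 0 ∧ ∃ a, qq e v a ∈ H := Iff.rfl

theorem mem_ZZ_iff {a : F} : a ∈ ZZ H e ↔ Tg e a ∈ H := Iff.rfl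

theorem mem_PP_iff {v : l ⊕ l → F} : v ∈ PP H e ↔ om e v = 0 ∧ qq e v 0 ∈ H := Iff.rfl

theorem MM_of_PP {v : l ⊕ l → F} (hv : v ∈ PP H e) : v ∈ MM H e := ⟨hv.1, 0, hv.2⟩

theorem MM_of_mem {v : l ⊕ l → F} (hv : om e v = 0) {a : F} (h : qq e v a ∈ H) : v ∈ MM H e :=
  ⟨hv, a, h⟩

theorem orth_of_MM {v : l ⊕ l → F} (hv : v ∈ MM H e) : om e v = 0 := hv.1

theorem smul_self_mem_MM (β : F) : β • e ∈ MM H e := by
  refine ⟨by rw [om_smul_right, om_self, mul_zero], -(2 * β), ?_⟩
  have := qq_add_smul (om_zero_right e) β (-(2 * β))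
  rw [zero_add] at this
  rw [this, neg_add_cancel, qq_zero_zero]
  exact H.one_mem

theorem qq_shift {v : l ⊕ l → F} (hv : om e v = 0) {a b : F} (h : qq e v a ∈ H) (hb : b ∈ ZZ H e) :
    qq e v (a + b) ∈ H := by
  have := qq_mul hv (om_zero_right e) a b
  rw [add_zero, om_zero_right, add_zero, qq_zero] at this
  rw [← this]
  exact H.mul_mem h hb

theorem ZZ_of_two {v : l ⊕ l → F} (hv : om e v = 0) {a b : F} (h : qq e v a ∈ H)
    (h' : qq e v b ∈ H) : a - b ∈ ZZ H e := by
  have h2 : om e (-v) = 0 := by rw [om_neg_right, hv, neg_zero]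
  have := qq_mul hv h2 a (-b)
  rw [om_neg_right, om_self, neg_zero, add_zero, add_neg_cancel, qq_zero, ← qq_inv hv] at this
  show Tg e (a - b) ∈ H
  rw [sub_eq_add_neg, ← this]
  exact H.mul_mem h (H.inv_mem h')

theorem PP_of_MM_top (hZ : ∀ a, Tg e a ∈ H) {v : l ⊕ l → F} (hv : v ∈ MM H e) : v ∈ PP H e := by
  obtain ⟨h1, a, ha⟩ := hv
  refine ⟨h1, ?_⟩
  have := qq_shift h1 ha (show -a ∈ ZZ H e from hZ (-a))
  rwa [add_neg_cancel] at this

theorem act_mem_MM {g : symplecticGroup l F} (hg : g ∈ H) (hge : act g e = e) {v : l ⊕ l → F}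
    (hv : v ∈ MM H e) : act g v ∈ MM H e := by
  obtain ⟨h1, a, ha⟩ := hv
  refine ⟨by rw [← hge, om_act, h1], a, ?_⟩
  have := conj_qq g h1 a
  rw [hge] at this
  rw [← this]
  exact H.mul_mem (H.mul_mem hg ha) (H.inv_mem hg)

theorem act_mem_PP {g : symplecticGroup l F} (hg : g ∈ H) (hge : act g e = e) {v : l ⊕ l → F}
    (hv : v ∈ PP H e) : act g v ∈ PP H e := by
  obtain ⟨h1, ha⟩ := hv
  refine ⟨by rw [← hge, om_act, h1], ?_⟩
  have := conj_qq g h1 0
  rw [hge] at this
  rw [← this]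
  exact H.mul_mem (H.mul_mem hg ha) (H.inv_mem hg)

theorem add_mem_PP {v v' : l ⊕ l → F} (hv : v ∈ PP H e) (hv' : v' ∈ PP H e) (h : om v v' = 0) :
    v + v' ∈ PP H e := by
  refine ⟨by rw [om_add_right, hv.1, hv'.1, add_zero], ?_⟩
  have := qq_mul hv.1 hv'.1 0 0
  rw [h, add_zero, add_zero] at this
  rw [← this]
  exact H.mul_mem hv.2 hv'.2

theorem neg_mem_PP {v : l ⊕ l → F} (hv : v ∈ PP H e) : -v ∈ PP H e := by
  refine ⟨by rw [om_neg_right, hv.1, neg_zero], ?_⟩
  have := qq_inv hv.1 0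
  rw [neg_zero] at this
  rw [← this]
  exact H.inv_mem hv.2

theorem neg_mem_PP_iff {v : l ⊕ l → F} : -v ∈ PP H e ↔ v ∈ PP H e := by
  constructor
  · intro h
    have := neg_mem_PP h
    rwa [neg_neg] at this
  · exact neg_mem_PP

/-- moving `v ∈ MM` by an element of `H` fixing `e` -/
theorem star_mem {g : symplecticGroup l F} (hg : g ∈ H) (hge : act g e = e) {v : l ⊕ l → F}
    (hv : v ∈ MM H e) : qq e (act g v - v) (-om (act g v) v) ∈ H := by
  obtain ⟨h1, a, ha⟩ := hv
  have h2 : om e (act g v) = 0 := by rw [← hge, om_act, h1]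
  have h3 : om e (-v) = 0 := by rw [om_neg_right, h1, neg_zero]
  have c := conj_qq g h1 a
  rw [hge] at c
  have m := qq_mul h2 h3 a (-a)
  rw [om_neg_right, add_neg_cancel, zero_add, ← sub_eq_add_neg, ← qq_inv h1, ← c] at m
  rw [← m]
  exact H.mul_mem (H.mul_mem (H.mul_mem hg ha) (H.inv_mem hg)) (H.inv_mem ha)

/-- the cross relation producing pure elements -/
theorem cross_mem {z : symplecticGroup l F} (hz : z ∈ H) {f : l ⊕ l → F} (hf : act z e = f)
    (hef : om e f = 0) {v x : l ⊕ l → F} (hv : v ∈ MM H e) (hzv : om e (act z v) = 0)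
    (hx : x ∈ MM H e) (hfx : om f x = 0) : qq e (om (act z v) x • f) 0 ∈ H := by
  obtain ⟨h1, a, ha⟩ := hv
  -- the conjugate
  have hP : qq f (act z v) a ∈ H := by
    have := conj_qq z h1 a
    rw [hf] at this
    rw [← this]
    exact H.mul_mem (H.mul_mem hz ha) (H.inv_mem hz)
  have hfzv : om f (act z v) = 0 := by rw [← hf, om_act, h1]
  have hfe : om f e = 0 := om_symm_zero hef
  have hPe : act (qq f (act z v) a) e = e := by
    rw [act_qq hfzv, hfe, om_symm_zero hzv]
    simp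
  have hPx : act (qq f (act z v) a) x = x + om (act z v) x • f := by
    rw [act_qq hfzv, hfx]
    simp
  have := star_mem hP hPe hx
  rw [hPx, add_sub_cancel_left, om_add_left, om_self, om_smul_left, hfx] at this
  simpa using this

theorem QS_subset_TS {x : l ⊕ l → F} (hx : x ∈ QS H) : x ∈ TS H := hx.1

theorem act_mem_QS {g : symplecticGroup l F} (hg : g ∈ H) {x : l ⊕ l → F} (hx : x ∈ QS H) :
    act g x ∈ QS H := by
  refine ⟨act_mem_TS hg hx.1, ?_⟩
  intro v hv
  have h1 : om x (act g⁻¹ v) = 0 := by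
    rw [← om_act g, ← act_mul, mul_inv_cancel, act_one, hv]
  have := conj_qq g h1 0
  rw [← act_mul, mul_inv_cancel, act_one] at this
  rw [← this]
  exact H.mul_mem (H.mul_mem hg (hx.2 _ h1)) (H.inv_mem hg)

theorem neg_mem_QS {x : l ⊕ l → F} (hx : x ∈ QS H) : -x ∈ QS H := by
  refine ⟨neg_mem_TS hx.1, ?_⟩
  intro v hv
  have h1 : om x v = 0 := by
    rw [om_neg_left] at hv
    exact neg_eq_zero.mp hv
  have h2 : om x (-v) = 0 := by rw [om_neg_right, h1, neg_zero]
  have : qq (-x) v 0 = qq x (-v) 0 := by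
    apply ext_act
    intro y
    rw [act_qq hv, act_qq h2]
    simp only [om_neg_left]
    funext k
    simp only [Pi.add_apply, Pi.smul_apply, smul_eq_mul, Pi.neg_apply]
    ring
  rw [this]
  exact hx.2 _ h2

theorem neg_mem_QS_iff {x : l ⊕ l → F} : -x ∈ QS H ↔ x ∈ QS H := by
  constructor
  · intro h
    have := neg_mem_QS h
    rwa [neg_neg] at this
  · exact neg_mem_QS

theorem mem_QS_of (hZ : ∀ a, Tg e a ∈ H) (hM : ∀ v, om e v = 0 → v ∈ MM H e) : e ∈ QS H :=
  ⟨hZ, fun v hv => (PP_of_MM_top hZ (hM v hv)).2⟩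

theorem qq_mem_of_QS {x : l ⊕ l → F} (hx : x ∈ QS H) {v : l ⊕ l → F} (hv : om x v = 0) (a : F) :
    qq x v a ∈ H := by
  have := qq_shift hv (hx.2 v hv) (show a ∈ ZZ H x from hx.1 a)
  rwa [zero_add] at this

/-- a full Heisenberg group and one non-orthogonal transvection direction generate everything -/
theorem mem_TS_of_QS {x y : l ⊕ l → F} (hx : x ∈ QS H) (hy : y ∈ TS H) (hxy : om x y ≠ 0)
    {v : l ⊕ l → F} (hv : om x v ≠ 0) : v ∈ TS H := by
  set lam : F := om x v / om x y with hlam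
  set y' : l ⊕ l → F := lam • y with hy'
  have hy'T : y' ∈ TS H := smul_mem_TS lam hy
  have hmu : om x y' = om x v := by
    rw [hy', om_smul_right, hlam, div_mul_cancel₀ _ hxy]
  set w : l ⊕ l → F := (om x v)⁻¹ • (v - y') with hw
  have hxw : om x w = 0 := by
    rw [hw, om_smul_right, om_sub_right, hmu, sub_self, mul_zero]
  set a : F := -(om x v)⁻¹ * om w y' with ha
  have hq : qq x w a ∈ H := qq_mem_of_QS hx hxw a
  have : act (qq x w a) y' = v := by
    rw [act_qq hxw, hmu, hw, smul_smul, mul_inv_cancel₀ hv, one_smul, ha]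
    have : om ((om x v)⁻¹ • (v - y')) y' + -(om x v)⁻¹ * om ((om x v)⁻¹ • (v - y')) y' * om x v = 0 := by
      field_simp
      ring
    rw [this, zero_smul, add_zero]
    abel
  rw [← this]
  exact act_mem_TS hq hy'T

theorem eq_top_of_QS {l : Type} [DecidableEq l] [Fintype l] {F : Type*} [Field F]
    {H : Subgroup (symplecticGroup l F)} {x y : l ⊕ l → F} (hx : x ∈ QS H) (hy : y ∈ TS H)
    (hxy : om x y ≠ 0) : H = ⊤ := by
  apply eq_top_of_TS
  intro v
  by_cases hv : om x v = 0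
  · by_cases hv0 : v = 0
    · rw [hv0]; exact zero_mem_TS
    · have hx0 : x ≠ 0 := by
        intro h
        rw [h, om_zero_left] at hxy
        exact hxy rfl
      obtain ⟨v', h1, h2⟩ := exists_om_ne_zero_both hx0 hv0
      have hv'T : v' ∈ TS H := mem_TS_of_QS hx hy hxy h1
      have h3 : act (Tg v' 1) v ∈ TS H := by
        apply mem_TS_of_QS hx hy hxy
        rw [act_Tg, om_add_right, hv, zero_add, om_smul_right, one_mul]
        exact mul_ne_zero h2 h1
      have := act_mem_TS (H.inv_mem (hv'T 1)) h3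
      rwa [← act_mul, inv_mul_cancel, act_one] at this
  · exact mem_TS_of_QS hx hy hxy hv

end Cfsg.Agent.Helper12.RUSp
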