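import Mathlib

set_option autoImplicit false

/-! Arithmetic for Sylow `r`-subgroups of `GL_n(q)` with `r > n`: the `r`-adic valuation of
`|GL_n(q)|`. -/

open Polynomial

namespace Cfsg.Agent.Helper12.Weir

variable {r q : ℕ} [Fact r.Prime]

theorem dvd_pow_sub_one_iff (hq : 1 ≤ q) (k : ℕ) :
    r ∣ q ^ k - 1 ↔ orderOf (q : ZMod r) ∣ k := by
  rw [orderOf_dvd_iff_pow_eq_one, ← ZMod.natCast_eq_zero_iff (q ^ k - 1) r,
    Nat.cast_sub (Nat.one_le_pow _ _ hq), Nat.cast_pow, Nat.cast_one, sub_eq_zero]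

theorem orderOf_pos_of_not_dvd (hrq : ¬ r ∣ q) : 0 < orderOf (q : ZMod r) := by
  rw [orderOf_pos_iff, isOfFinOrder_iff_pow_eq_one]
  have hr : 1 < r := (Fact.out : r.Prime).one_lt
  refine ⟨r - 1, by omega, ?_⟩
  apply ZMod.pow_card_sub_one_eq_one
  rw [Ne, ZMod.natCast_eq_zero_iff]
  exact hrq

theorem padicValNat_pow_sub_one_of_not_dvd (hq : 1 ≤ q) {k : ℕ}
    (h : ¬ orderOf (q : ZMod r) ∣ k) : padicValNat r (q ^ k - 1) = 0 :=
  padicValNat.eq_zero_of_not_dvd (fun hd => h ((dvd_pow_sub_one_iff hq k).1 hd))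

theorem padicValNat_pow_mul_sub_one (hq : 2 ≤ q) (hrq : ¬ r ∣ q) {j : ℕ} (hj0 : 0 < j)
    (hjr : j < r) :
    padicValNat r (q ^ (orderOf (q : ZMod r) * j) - 1) =
      padicValNat r (q ^ orderOf (q : ZMod r) - 1) := by
  have hd : 0 < orderOf (q : ZMod r) := orderOf_pos_of_not_dvd hrq
  rcases Nat.lt_or_ge j 2 with hj | hj
  · have : j = 1 := by omega
    rw [this, mul_one]
  · have hodd : Odd r := by
      rcases (Fact.out : r.Prime).eq_two_or_odd' with h2 | ho
      · omega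
      · exact ho
    have h1 : 1 < q ^ orderOf (q : ZMod r) := Nat.one_lt_pow hd.ne' (by omega)
    have h2 : r ∣ q ^ orderOf (q : ZMod r) - 1 := (dvd_pow_sub_one_iff (by omega) _).2 dvd_rfl
    have h3 : ¬ r ∣ q ^ orderOf (q : ZMod r) := fun h =>
      hrq ((Fact.out : r.Prime).dvd_of_dvd_pow h)
    have := padicValNat.pow_sub_pow (p := r) (x := q ^ orderOf (q : ZMod r)) (y := 1) hodd h1 h2 h3
      (n := j) hj0.ne'
    rw [one_pow, ← pow_mul] at this
    rw [this, padicValNat.eq_zero_of_not_dvd (Nat.not_dvd_of_pos_of_lt hj0 hjr), add_zero]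

theorem pow_sub_one_eq_prod_cyclotomic (hq : 1 ≤ q) {d : ℕ} (hd : 0 < d) :
    q ^ d - 1 = ∏ e ∈ d.divisors, ((cyclotomic e ℤ).eval (q : ℤ)).natAbs := by
  have h1 := congrArg (fun f : ℤ[X] => f.eval (q : ℤ)) (prod_cyclotomic_eq_X_pow_sub_one hd ℤ)
  simp only [eval_prod, eval_sub, eval_pow, eval_X, eval_one] at h1
  have h2 := congrArg Int.natAbs h1
  rw [← Int.natAbsHom_apply, map_prod] at h2
  simp only [Int.natAbsHom_apply] at h2
  rw [h2]
  have h3 : ((q : ℤ) ^ d - 1) = ((q ^ d - 1 : ℕ) : ℤ) := by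
    rw [Nat.cast_sub (Nat.one_le_pow _ _ hq), Nat.cast_pow, Nat.cast_one]
  rw [h3, Int.natAbs_natCast]

theorem padicValNat_pow_orderOf_sub_one (hq : 2 ≤ q) (hrq : ¬ r ∣ q) :
    padicValNat r (q ^ orderOf (q : ZMod r) - 1) =
      padicValNat r ((cyclotomic (orderOf (q : ZMod r)) ℤ).eval (q : ℤ)).natAbs := by
  have hd : 0 < orderOf (q : ZMod r) := orderOf_pos_of_not_dvd hrq
  have hq1 : 1 ≤ q := by omega
  have hprod := pow_sub_one_eq_prod_cyclotomic hq1 hd
  rw [← Nat.insert_self_properDivisors hd.ne', Finset.prod_insert Nat.self_notMem_properDivisors]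
    at hprod
  have hpos : 0 < q ^ orderOf (q : ZMod r) - 1 := by
    have : 1 < q ^ orderOf (q : ZMod r) := Nat.one_lt_pow hd.ne' (by omega)
    omega
  have hB : ¬ r ∣ ∏ e ∈ (orderOf (q : ZMod r)).properDivisors,
      ((cyclotomic e ℤ).eval (q : ℤ)).natAbs := by
    rw [(Nat.Prime.prime (Fact.out : r.Prime)).dvd_finsetProd_iff]
    rintro ⟨e, he, hre⟩
    rw [Nat.mem_properDivisors] at he
    have h1 : ((cyclotomic e ℤ).eval (q : ℤ)).natAbs ∣ q ^ e - 1 := by
      have h2 : (cyclotomic e ℤ).eval (q : ℤ) ∣ (q : ℤ) ^ e - 1 := by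
        have := eval_dvd (x := (q : ℤ)) (cyclotomic.dvd_X_pow_sub_one e ℤ)
        simpa using this
      have h3 := Int.natAbs_dvd_natAbs.2 h2
      have h4 : ((q : ℤ) ^ e - 1) = ((q ^ e - 1 : ℕ) : ℤ) := by
        rw [Nat.cast_sub (Nat.one_le_pow _ _ hq1), Nat.cast_pow, Nat.cast_one]
      rw [h4, Int.natAbs_natCast] at h3
      exact h3
    have h5 : r ∣ q ^ e - 1 := hre.trans h1
    have h6 := (dvd_pow_sub_one_iff hq1 e).1 h5
    have he0 : 0 < e := Nat.pos_of_dvd_of_pos he.1 hd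
    exact absurd (Nat.le_of_dvd he0 h6) (by omega)
  rw [hprod] at hpos ⊢
  have hA0 : ((cyclotomic (orderOf (q : ZMod r)) ℤ).eval (q : ℤ)).natAbs ≠ 0 := by
    intro h
    rw [h, zero_mul] at hpos
    exact lt_irrefl _ hpos
  have hB0 : ∏ e ∈ (orderOf (q : ZMod r)).properDivisors,
      ((cyclotomic e ℤ).eval (q : ℤ)).natAbs ≠ 0 := by
    intro h
    rw [h, mul_zero] at hpos
    exact lt_irrefl _ hpos
  rw [padicValNat.mul hA0 hB0, padicValNat.eq_zero_of_not_dvd hB, add_zero]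

/-- The valuation of `q^k - 1` for `1 ≤ k < r`. -/
theorem padicValNat_pow_sub_one (hq : 2 ≤ q) (hrq : ¬ r ∣ q) {k : ℕ} (hk0 : 0 < k) (hkr : k < r) :
    padicValNat r (q ^ k - 1) = if orderOf (q : ZMod r) ∣ k then
      padicValNat r ((cyclotomic (orderOf (q : ZMod r)) ℤ).eval (q : ℤ)).natAbs else 0 := by
  split_ifs with h
  · obtain ⟨j, rfl⟩ := h
    have hd : 0 < orderOf (q : ZMod r) := orderOf_pos_of_not_dvd hrq
    have hj0 : 0 < j := Nat.pos_of_mul_pos_left hk0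
    have hjr : j < r := lt_of_le_of_lt (Nat.le_mul_of_pos_left j hd) hkr
    rw [padicValNat_pow_mul_sub_one hq hrq hj0 hjr, padicValNat_pow_orderOf_sub_one hq hrq]
  · exact padicValNat_pow_sub_one_of_not_dvd (by omega) h

/-- The `r`-adic valuation of `|GL_n(q)|` for `r > n`. -/
theorem padicValNat_prod_GL (hq : 2 ≤ q) (hrq : ¬ r ∣ q) {n : ℕ} (hn : n < r) :
    padicValNat r (∏ i : Fin n, (q ^ n - q ^ (i : ℕ))) =
      (n / orderOf (q : ZMod r)) *
        padicValNat r ((cyclotomic (orderOf (q : ZMod r)) ℤ).eval (q : ℤ)).natAbs := by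
  have hr : r.Prime := Fact.out
  have hfac : ∀ i : Fin n, q ^ n - q ^ (i : ℕ) = q ^ (i : ℕ) * (q ^ (n - (i : ℕ)) - 1) := by
    intro i
    have : q ^ n = q ^ (i : ℕ) * q ^ (n - (i : ℕ)) := by
      rw [← pow_add]
      congr 1
      have := i.2
      omega
    rw [this, Nat.mul_sub, mul_one]
  have hne : ∀ i ∈ (Finset.univ : Finset (Fin n)), q ^ n - q ^ (i : ℕ) ≠ 0 := by
    intro i _
    have : q ^ (i : ℕ) < q ^ n := Nat.pow_lt_pow_right (by omega) i.2
    omega
  rw [← Nat.factorization_def _ hr, Nat.factorization_prod hne, Finsupp.finsetSum_apply]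
  have h1 : ∀ i : Fin n, (q ^ n - q ^ (i : ℕ)).factorization r =
      (fun k : ℕ => padicValNat r (q ^ (n - k) - 1)) (i : ℕ) := by
    intro i
    have hpos : q ^ (n - (i : ℕ)) - 1 ≠ 0 := by
      have : 1 < q ^ (n - (i : ℕ)) := Nat.one_lt_pow (by have := i.2; omega) (by omega)
      omega
    rw [Nat.factorization_def _ hr, hfac i,
      padicValNat.mul (pow_ne_zero _ (by omega)) hpos, padicValNat.pow,
      padicValNat.eq_zero_of_not_dvd hrq, mul_zero, zero_add]
  rw [Finset.sum_congr rfl (fun i _ => h1 i),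
    Fin.sum_univ_eq_sum_range (fun k : ℕ => padicValNat r (q ^ (n - k) - 1)) n]
  have h2 : ∑ k ∈ Finset.range n, padicValNat r (q ^ (n - k) - 1) =
      ∑ k ∈ Finset.range n, (fun j : ℕ => padicValNat r (q ^ (j + 1) - 1)) (n - 1 - k) := by
    apply Finset.sum_congr rfl
    intro k hk
    rw [Finset.mem_range] at hk
    show _ = padicValNat r (q ^ (n - 1 - k + 1) - 1)
    congr 3
    omega
  rw [h2, Finset.sum_range_reflect (fun j : ℕ => padicValNat r (q ^ (j + 1) - 1)) n]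
  have h3 : ∀ j ∈ Finset.range n, padicValNat r (q ^ (j + 1) - 1) =
      if orderOf (q : ZMod r) ∣ j + 1 then
        padicValNat r ((cyclotomic (orderOf (q : ZMod r)) ℤ).eval (q : ℤ)).natAbs else 0 := by
    intro j hj
    rw [Finset.mem_range] at hj
    exact padicValNat_pow_sub_one hq hrq (Nat.succ_pos j) (by omega)
  rw [Finset.sum_congr rfl h3, ← Finset.sum_filter, Finset.sum_const, Nat.card_multiples,
    smul_eq_mul]

end Cfsg.Agent.Helper12.Weir
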