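import Mathlib
import Cfsg.Agent.Helper2.Transvec

set_option autoImplicit false

/-! `SL_{n+1}(K)`, `|K| ≤ 3`, is generated by the transvection `1 + E₀₁` and the cyclic monomial
matrix. -/

open Matrix
open Fin.NatCast Fin.CommRing

namespace Cfsg.Agent.Helper12.CycGen

variable {K : Type*} [Field K]

/-- The signs of the cyclic monomial matrix. -/
def eps (n : ℕ) (b : Fin (n + 1)) : K := if b = 0 then (-1) ^ n else 1

theorem eps_mul_self (n : ℕ) (b : Fin (n + 1)) : (eps n b : K) * eps n b = 1 := by
  unfold eps
  split_ifs
  · rw [← mul_pow]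
    simp
  · rw [mul_one]

/-- The cyclic monomial matrix in normal form. -/
theorem monomial_eq (n : ℕ) (a b : Fin (n + 1)) :
    (if b.val = a.val + 1 then (1 : K) else if a.val = n ∧ b.val = 0 then (-1) ^ n else 0) =
      if a = b - 1 then eps n b else 0 := by
  have hsub : ((b - 1 : Fin (n + 1)) : ℕ) = if b = 0 then n else (b : ℕ) - 1 := Fin.coe_sub_one b
  by_cases hb : b = 0
  · subst hb
    rw [if_pos rfl] at hsub
    have h1 : ¬ ((0 : Fin (n + 1)).val = a.val + 1) := by
      rw [Fin.val_zero]
      omega
    rw [if_neg h1]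
    by_cases ha : a.val = n
    · have : a = 0 - 1 := Fin.ext (by rw [ha, hsub])
      rw [if_pos ⟨ha, Fin.val_zero _⟩, if_pos this, eps, if_pos rfl]
    · have : ¬ a = 0 - 1 := fun h => ha (by rw [h, hsub])
      rw [if_neg (fun h => ha h.1), if_neg this]
  · rw [if_neg hb] at hsub
    have hb0 : b.val ≠ 0 := fun h => hb (Fin.ext h)
    by_cases h1 : b.val = a.val + 1
    · have : a = b - 1 := Fin.ext (by rw [hsub]; omega)
      rw [if_pos h1, if_pos this, eps, if_neg hb]
    · have : ¬ a = b - 1 := fun h => h1 (by rw [h, hsub]; omega)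
      rw [if_neg h1, if_neg (fun h => hb0 h.2), if_neg this]

section Conj

variable {n : ℕ} (W : Matrix (Fin (n + 1)) (Fin (n + 1)) K)
  (hW : W = Matrix.of (fun a b => if a = b - 1 then eps n b else 0))

include hW

theorem W_mul_single (i j : Fin (n + 1)) (c : K) :
    W * single i j c = single (i - 1) j (eps n i * c) := by
  ext a b
  rw [single_apply]
  by_cases hb : j = b
  · subst hb
    rw [mul_single_apply_same, hW, Matrix.of_apply]
    by_cases ha : a = i - 1
    · rw [if_pos ha, if_pos ⟨ha.symm, rfl⟩]
    · rw [if_neg ha, if_neg (fun h => ha h.1.symm), zero_mul]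
  · rw [mul_single_apply_of_ne _ _ _ _ _ (Ne.symm hb), if_neg (fun h => hb h.2)]

theorem single_mul_W (i j : Fin (n + 1)) (c : K) :
    single i (j - 1) c * W = single i j (c * eps n j) := by
  ext a b
  rw [single_apply]
  by_cases ha : i = a
  · subst ha
    rw [single_mul_apply_same, hW, Matrix.of_apply]
    by_cases hb : j = b
    · subst hb
      rw [if_pos rfl, if_pos ⟨rfl, rfl⟩]
    · have : ¬ j - 1 = b - 1 := fun h => hb (sub_left_injective h)
      rw [if_neg this, if_neg (fun h => hb h.2), mul_zero]
  · rw [single_mul_apply_of_ne _ _ _ _ _ (Ne.symm ha), if_neg (fun h => ha h.1)]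

/-- Conjugation of a transvection by the cyclic monomial matrix. -/
theorem W_mul_transvection (i j : Fin (n + 1)) (c : K) :
    W * (1 + single i j c) = (1 + single (i - 1) (j - 1) (eps n i * c * eps n j)) * W := by
  rw [mul_add, add_mul, mul_one, one_mul, W_mul_single W hW, single_mul_W W hW, mul_assoc,
    mul_assoc, eps_mul_self, mul_one]

end Conj

section Main

variable [Fintype K] {n : ℕ}

theorem eq_zero_or_one_or_neg_one (hK : Fintype.card K ≤ 3) (c : K) : c = 0 ∨ c = 1 ∨ c = -1 := by
  classical
  by_contra hcon
  push Not at hcon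
  obtain ⟨h0, h1, hm1⟩ := hcon
  have hcard : ({0, 1, c} : Finset K).card = 3 := by
    rw [Finset.card_insert_of_notMem, Finset.card_insert_of_notMem, Finset.card_singleton]
    · simp only [Finset.mem_singleton]
      exact fun h => h1 h.symm
    · simp only [Finset.mem_insert, Finset.mem_singleton]
      rintro (h | h)
      · exact one_ne_zero h.symm
      · exact h0 h.symm
  have huniv : ({0, 1, c} : Finset K) = Finset.univ := by
    apply Finset.eq_univ_of_card
    rw [hcard]
    have := Finset.card_le_univ ({0, 1, c} : Finset K)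
    omega
  have hall : ∀ y : K, y = 0 ∨ y = 1 ∨ y = c := by
    intro y
    have : y ∈ ({0, 1, c} : Finset K) := by rw [huniv]; exact Finset.mem_univ y
    simpa using this
  rcases hall (-1) with h | h | h
  · exact one_ne_zero (neg_eq_zero.1 h)
  · rcases hall (c + 1) with h' | h' | h'
    · exact hm1 (by rw [eq_neg_iff_add_eq_zero]; exact h')
    · exact h0 (add_eq_right.1 h')
    · exact one_ne_zero (add_eq_left.1 h')
  · exact hm1 h.symm

/-- The main generation statement. -/
theorem closure_eq_top (hK : Fintype.card K ≤ 3) (hn : 1 ≤ n)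
    (x w : SpecialLinearGroup (Fin (n + 1)) K)
    (hx : (x : Matrix (Fin (n + 1)) (Fin (n + 1)) K) =
      Matrix.transvection (0 : Fin (n + 1)) (1 : Fin (n + 1)) 1)
    (hw : (w : Matrix (Fin (n + 1)) (Fin (n + 1)) K) =
      Matrix.of (fun a b => if a = b - 1 then eps n b else 0)) :
    Subgroup.closure ({x, w} : Set (SpecialLinearGroup (Fin (n + 1)) K)) = ⊤ := by
  have hxG : x ∈ Subgroup.closure ({x, w} : Set (SpecialLinearGroup (Fin (n + 1)) K)) :=
    Subgroup.subset_closure (by simp)
  have hwG : w ∈ Subgroup.closure ({x, w} : Set (SpecialLinearGroup (Fin (n + 1)) K)) :=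
    Subgroup.subset_closure (by simp)
  have hnt : Nontrivial (Fin (n + 1)) := Fin.nontrivial_iff_two_le.2 (by omega)
  have h01 : (0 : Fin (n + 1)) ≠ 1 := zero_ne_one
  -- the predicate
  have hshift : ∀ i j : Fin (n + 1), (∀ (h : i ≠ j) (c : K),
      SpecialLinearGroup.transvection h c ∈
        Subgroup.closure ({x, w} : Set (SpecialLinearGroup (Fin (n + 1)) K))) →
      ∀ (h : i - 1 ≠ j - 1) (c : K), SpecialLinearGroup.transvection h c ∈
        Subgroup.closure ({x, w} : Set (SpecialLinearGroup (Fin (n + 1)) K)) := by
    intro i j hQ h c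
    have hij : i ≠ j := fun e => h (by rw [e])
    have key : w * SpecialLinearGroup.transvection hij (eps n i * c * eps n j) =
        SpecialLinearGroup.transvection h c * w := by
      have hm : ((w * SpecialLinearGroup.transvection hij (eps n i * c * eps n j) :
          SpecialLinearGroup (Fin (n + 1)) K) : Matrix (Fin (n + 1)) (Fin (n + 1)) K) =
          ((SpecialLinearGroup.transvection h c * w : SpecialLinearGroup (Fin (n + 1)) K) :
            Matrix (Fin (n + 1)) (Fin (n + 1)) K) := by
        rw [Matrix.SpecialLinearGroup.coe_mul, Matrix.SpecialLinearGroup.coe_mul,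
          Matrix.SpecialLinearGroup.transvection_coe, Matrix.SpecialLinearGroup.transvection_coe,
          W_mul_transvection _ hw]
        congr 3
        have e1 := eps_mul_self (K := K) n i
        have e2 := eps_mul_self (K := K) n j
        linear_combination (c * eps n j * eps n j) * e1 + c * e2
      exact Subtype.ext hm
    have : SpecialLinearGroup.transvection h c =
        w * SpecialLinearGroup.transvection hij (eps n i * c * eps n j) * w⁻¹ := by
      rw [key, mul_inv_cancel_right]
    rw [this]
    exact mul_mem (mul_mem hwG (hQ hij _)) (inv_mem hwG)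
  have hQ01 : ∀ (h : (0 : Fin (n + 1)) ≠ 1) (c : K), SpecialLinearGroup.transvection h c ∈
      Subgroup.closure ({x, w} : Set (SpecialLinearGroup (Fin (n + 1)) K)) := by
    intro h c
    have hx1 : SpecialLinearGroup.transvection h (1 : K) = x := Subtype.ext hx.symm
    rcases eq_zero_or_one_or_neg_one hK c with rfl | rfl | rfl
    · rw [SpecialLinearGroup.transvection_coeff_zero]
      exact one_mem _
    · rw [hx1]
      exact hxG
    · rw [← SpecialLinearGroup.transvection_inv, hx1]
      exact inv_mem hxG
  have hQk : ∀ k : ℕ, ∀ (h : (0 : Fin (n + 1)) - (k : Fin (n + 1)) ≠ 1 - (k : Fin (n + 1))) (c : K),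
      SpecialLinearGroup.transvection h c ∈
        Subgroup.closure ({x, w} : Set (SpecialLinearGroup (Fin (n + 1)) K)) := by
    intro k
    induction k with
    | zero =>
      intro h c
      have e1 : (0 : Fin (n + 1)) - ((0 : ℕ) : Fin (n + 1)) = 0 := by simp
      have e2 : (1 : Fin (n + 1)) - ((0 : ℕ) : Fin (n + 1)) = 1 := by simp
      have : ∀ (a b : Fin (n + 1)) (ha : a = 0) (hb : b = 1) (h : a ≠ b),
          SpecialLinearGroup.transvection h c ∈
            Subgroup.closure ({x, w} : Set (SpecialLinearGroup (Fin (n + 1)) K)) := by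
        intro a b ha hb h
        subst ha hb
        exact hQ01 h c
      exact this _ _ e1 e2 h
    | succ k ih =>
      intro h c
      have e1 : (0 : Fin (n + 1)) - ((k + 1 : ℕ) : Fin (n + 1)) =
          (0 - (k : Fin (n + 1))) - 1 := by
        push_cast
        ring
      have e2 : (1 : Fin (n + 1)) - ((k + 1 : ℕ) : Fin (n + 1)) =
          (1 - (k : Fin (n + 1))) - 1 := by
        push_cast
        ring
      have : ∀ (a b : Fin (n + 1)) (ha : a = (0 - (k : Fin (n + 1))) - 1)
          (hb : b = (1 - (k : Fin (n + 1))) - 1) (h : a ≠ b),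
          SpecialLinearGroup.transvection h c ∈
            Subgroup.closure ({x, w} : Set (SpecialLinearGroup (Fin (n + 1)) K)) := by
        intro a b ha hb h
        subst ha hb
        exact hshift _ _ ih h c
      exact this _ _ e1 e2 h
  have hQadj : ∀ (i : Fin (n + 1)) (h : i ≠ i + 1) (c : K),
      SpecialLinearGroup.transvection h c ∈
        Subgroup.closure ({x, w} : Set (SpecialLinearGroup (Fin (n + 1)) K)) := by
    intro i h c
    have e0 : (((-i : Fin (n + 1)).val : ℕ) : Fin (n + 1)) = -i := Fin.cast_val_eq_self _
    have e1 : (0 : Fin (n + 1)) - (((-i : Fin (n + 1)).val : ℕ) : Fin (n + 1)) = i := by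
      rw [e0]
      ring
    have e2 : (1 : Fin (n + 1)) - (((-i : Fin (n + 1)).val : ℕ) : Fin (n + 1)) = i + 1 := by
      rw [e0]
      ring
    have : ∀ (a b : Fin (n + 1)) (ha : i = a) (hb : i + 1 = b) (h' : a ≠ b),
        SpecialLinearGroup.transvection h c ∈
          Subgroup.closure ({x, w} : Set (SpecialLinearGroup (Fin (n + 1)) K)) := by
      intro a b ha hb h'
      subst ha hb
      exact hQk _ (by rw [e1, e2]; exact h) c |> fun hh => by
        have : ∀ (a' b' : Fin (n + 1)) (ha' : a' = i) (hb' : b' = i + 1) (h'' : a' ≠ b'),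
            SpecialLinearGroup.transvection h'' c ∈
              Subgroup.closure ({x, w} : Set (SpecialLinearGroup (Fin (n + 1)) K)) →
            SpecialLinearGroup.transvection h c ∈
              Subgroup.closure ({x, w} : Set (SpecialLinearGroup (Fin (n + 1)) K)) := by
          intro a' b' ha' hb' h'' hmem
          subst ha' hb'
          exact hmem
        exact this _ _ e1 e2 _ hh
    exact this i (i + 1) rfl rfl h
  -- distance induction
  have hdist : ∀ d : ℕ, 1 ≤ d → d ≤ n → ∀ (i : Fin (n + 1)) (h : i ≠ i + (d : Fin (n + 1))) (c : K),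
      SpecialLinearGroup.transvection h c ∈
        Subgroup.closure ({x, w} : Set (SpecialLinearGroup (Fin (n + 1)) K)) := by
    intro d hd1
    induction d, hd1 using Nat.le_induction with
    | base =>
      intro _ i h c
      have : ∀ (b : Fin (n + 1)) (hb : b = i + 1) (h' : i ≠ b),
          SpecialLinearGroup.transvection h' c ∈
            Subgroup.closure ({x, w} : Set (SpecialLinearGroup (Fin (n + 1)) K)) := by
        intro b hb h'
        subst hb
        exact hQadj i h' c
      exact this _ (by push_cast; rfl) h
    | succ d hd1 ih =>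
      intro hdn i h c
      have hne1 : i ≠ i + (d : Fin (n + 1)) := by
        intro e
        have : (d : Fin (n + 1)) = 0 := by
          have := congrArg (fun t => t - i) e
          simpa using this.symm
        rw [Fin.natCast_eq_zero] at this
        have := Nat.le_of_dvd (by omega) this
        omega
      have hne2 : i + (d : Fin (n + 1)) ≠ i + ((d + 1 : ℕ) : Fin (n + 1)) := by
        intro e
        have : (1 : Fin (n + 1)) = 0 := by
          have := congrArg (fun t => t - i - (d : Fin (n + 1))) e
          push_cast at this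
          simpa using this.symm
        exact one_ne_zero this
      have h1 := ih (by omega) i hne1 c
      have h2 : SpecialLinearGroup.transvection hne2 (1 : K) ∈
          Subgroup.closure ({x, w} : Set (SpecialLinearGroup (Fin (n + 1)) K)) := by
        have : ∀ (b : Fin (n + 1)) (hb : b = i + (d : Fin (n + 1)) + 1)
            (h' : i + (d : Fin (n + 1)) ≠ b),
            SpecialLinearGroup.transvection h' (1 : K) ∈
              Subgroup.closure ({x, w} : Set (SpecialLinearGroup (Fin (n + 1)) K)) := by
          intro b hb h'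
          subst hb
          exact hQadj _ h' 1
        exact this _ (by push_cast; ring) hne2
      rw [← Cfsg.Agent.Helper2.transvection_comm hne1 hne2 h c, commutatorElement_def]
      exact mul_mem (mul_mem (mul_mem h1 h2) (inv_mem h1)) (inv_mem h2)
  -- all pairs
  have hall : ∀ (i j : Fin (n + 1)) (h : i ≠ j) (c : K),
      SpecialLinearGroup.transvection h c ∈
        Subgroup.closure ({x, w} : Set (SpecialLinearGroup (Fin (n + 1)) K)) := by
    intro i j h c
    have e0 : (((j - i : Fin (n + 1)).val : ℕ) : Fin (n + 1)) = j - i := Fin.cast_val_eq_self _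
    have hd0 : (j - i : Fin (n + 1)).val ≠ 0 := by
      intro e
      have : j - i = 0 := Fin.ext e
      exact h (sub_eq_zero.1 this).symm
    have hdn : (j - i : Fin (n + 1)).val ≤ n := by
      have := (j - i : Fin (n + 1)).2
      omega
    have e1 : i + (((j - i : Fin (n + 1)).val : ℕ) : Fin (n + 1)) = j := by
      rw [e0]
      ring
    have : ∀ (b : Fin (n + 1)) (hb : b = j) (h' : i ≠ b),
        SpecialLinearGroup.transvection h' c ∈
          Subgroup.closure ({x, w} : Set (SpecialLinearGroup (Fin (n + 1)) K)) →
        SpecialLinearGroup.transvection h c ∈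
          Subgroup.closure ({x, w} : Set (SpecialLinearGroup (Fin (n + 1)) K)) := by
      intro b hb h' hmem
      subst hb
      exact hmem
    exact this _ e1 (by rw [e1]; exact h) (hdist _ (by omega) hdn i (by rw [e1]; exact h) c)
  rw [eq_top_iff]
  intro A _
  exact Cfsg.Agent.Helper2.SL_transvection_induction
    (fun A => A ∈ Subgroup.closure ({x, w} : Set (SpecialLinearGroup (Fin (n + 1)) K)))
    (fun i j h c => hall i j h c) (fun A B hA hB => mul_mem hA hB) A

end Main

end Cfsg.Agent.Helper12.CycGen
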