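import Mathlib
import Cfsg.Agent.Helper12.CyclicGen

set_option autoImplicit false

/-! `SL_{n+1}(K)`, `|K| > 3`, is generated modulo nothing by `h = diag(k, k⁻¹, 1, …)` and `x w`. -/

open Matrix
open Fin.NatCast Fin.CommRing

namespace Cfsg.Agent.Helper12.CycGen

variable {K : Type*} [Field K] {n : ℕ}

/-- A subgroup containing the cyclic monomial matrix and the root subgroup `X₀₁` is everything. -/
theorem eq_top_of_mem (hn : 1 ≤ n) (G : Subgroup (SpecialLinearGroup (Fin (n + 1)) K))
    (w : SpecialLinearGroup (Fin (n + 1)) K)
    (hw : (w : Matrix (Fin (n + 1)) (Fin (n + 1)) K) =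
      Matrix.of (fun a b => if a = b - 1 then eps n b else 0))
    (hwG : w ∈ G)
    (hQ01 : ∀ (h : (0 : Fin (n + 1)) ≠ 1) (c : K), SpecialLinearGroup.transvection h c ∈ G) :
    G = ⊤ := by
  have hnt : Nontrivial (Fin (n + 1)) := Fin.nontrivial_iff_two_le.2 (by omega)
  have h01 : (0 : Fin (n + 1)) ≠ 1 := zero_ne_one
  -- the predicate
  have hshift : ∀ i j : Fin (n + 1), (∀ (h : i ≠ j) (c : K),
      SpecialLinearGroup.transvection h c ∈
        G) →
      ∀ (h : i - 1 ≠ j - 1) (c : K), SpecialLinearGroup.transvection h c ∈
        G := by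
    intro i j hQ h c
    have hij : i ≠ j := fun e => h (by rw [e])
    have key : w * SpecialLinearGroup.transvection hij (eps n i * c * eps n j) =
        SpecialLinearGroup.transvection h c * w := by
      have hm : ((w * SpecialLinearGroup.transvection hij (eps n i * c * eps n j) :
          SpecialLinearGroup (Fin (n + 1)) K) : Matrix (Fin (n + 1)) (Fin (n + 1)) K) =
          ((SpecialLinearGroup.transvection h c * w : SpecialLinearGroup (Fin (n + 1)) K) :
            Matrix (Fin (n + 1)) (Fin (n + 1)) K) := by
        rw [Matrix.SpecialLinearGroup.coe_mul, Matrix.SpecialLinearGroup.coe_mul,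
          Matrix.SpecialLinearGroup.transvection_coe, Matrix.SpecialLinearGroup.transvection_coe,
          W_mul_transvection _ hw]
        congr 3
        have e1 := eps_mul_self (K := K) n i
        have e2 := eps_mul_self (K := K) n j
        linear_combination (c * eps n j * eps n j) * e1 + c * e2
      exact Subtype.ext hm
    have : SpecialLinearGroup.transvection h c =
        w * SpecialLinearGroup.transvection hij (eps n i * c * eps n j) * w⁻¹ := by
      rw [key, mul_inv_cancel_right]
    rw [this]
    exact mul_mem (mul_mem hwG (hQ hij _)) (inv_mem hwG)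
  have hQk : ∀ k : ℕ, ∀ (h : (0 : Fin (n + 1)) - (k : Fin (n + 1)) ≠ 1 - (k : Fin (n + 1))) (c : K),
      SpecialLinearGroup.transvection h c ∈
        G := by
    intro k
    induction k with
    | zero =>
      intro h c
      have e1 : (0 : Fin (n + 1)) - ((0 : ℕ) : Fin (n + 1)) = 0 := by simp
      have e2 : (1 : Fin (n + 1)) - ((0 : ℕ) : Fin (n + 1)) = 1 := by simp
      have : ∀ (a b : Fin (n + 1)) (ha : a = 0) (hb : b = 1) (h : a ≠ b),
          SpecialLinearGroup.transvection h c ∈
            G := by
        intro a b ha hb h
        subst ha hb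
        exact hQ01 h c
      exact this _ _ e1 e2 h
    | succ k ih =>
      intro h c
      have e1 : (0 : Fin (n + 1)) - ((k + 1 : ℕ) : Fin (n + 1)) =
          (0 - (k : Fin (n + 1))) - 1 := by
        push_cast
        ring
      have e2 : (1 : Fin (n + 1)) - ((k + 1 : ℕ) : Fin (n + 1)) =
          (1 - (k : Fin (n + 1))) - 1 := by
        push_cast
        ring
      have : ∀ (a b : Fin (n + 1)) (ha : a = (0 - (k : Fin (n + 1))) - 1)
          (hb : b = (1 - (k : Fin (n + 1))) - 1) (h : a ≠ b),
          SpecialLinearGroup.transvection h c ∈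
            G := by
        intro a b ha hb h
        subst ha hb
        exact hshift _ _ ih h c
      exact this _ _ e1 e2 h
  have hQadj : ∀ (i : Fin (n + 1)) (h : i ≠ i + 1) (c : K),
      SpecialLinearGroup.transvection h c ∈
        G := by
    intro i h c
    have e0 : (((-i : Fin (n + 1)).val : ℕ) : Fin (n + 1)) = -i := Fin.cast_val_eq_self _
    have e1 : (0 : Fin (n + 1)) - (((-i : Fin (n + 1)).val : ℕ) : Fin (n + 1)) = i := by
      rw [e0]
      ring
    have e2 : (1 : Fin (n + 1)) - (((-i : Fin (n + 1)).val : ℕ) : Fin (n + 1)) = i + 1 := by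
      rw [e0]
      ring
    have : ∀ (a b : Fin (n + 1)) (ha : i = a) (hb : i + 1 = b) (h' : a ≠ b),
        SpecialLinearGroup.transvection h c ∈
          G := by
      intro a b ha hb h'
      subst ha hb
      exact hQk _ (by rw [e1, e2]; exact h) c |> fun hh => by
        have : ∀ (a' b' : Fin (n + 1)) (ha' : a' = i) (hb' : b' = i + 1) (h'' : a' ≠ b'),
            SpecialLinearGroup.transvection h'' c ∈
              G →
            SpecialLinearGroup.transvection h c ∈
              G := by
          intro a' b' ha' hb' h'' hmem
          subst ha' hb'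
          exact hmem
        exact this _ _ e1 e2 _ hh
    exact this i (i + 1) rfl rfl h
  -- distance induction
  have hdist : ∀ d : ℕ, 1 ≤ d → d ≤ n → ∀ (i : Fin (n + 1)) (h : i ≠ i + (d : Fin (n + 1))) (c : K),
      SpecialLinearGroup.transvection h c ∈
        G := by
    intro d hd1
    induction d, hd1 using Nat.le_induction with
    | base =>
      intro _ i h c
      have : ∀ (b : Fin (n + 1)) (hb : b = i + 1) (h' : i ≠ b),
          SpecialLinearGroup.transvection h' c ∈
            G := by
        intro b hb h'
        subst hb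
        exact hQadj i h' c
      exact this _ (by push_cast; rfl) h
    | succ d hd1 ih =>
      intro hdn i h c
      have hne1 : i ≠ i + (d : Fin (n + 1)) := by
        intro e
        have : (d : Fin (n + 1)) = 0 := by
          have := congrArg (fun t => t - i) e
          simpa using this.symm
        rw [Fin.natCast_eq_zero] at this
        have := Nat.le_of_dvd (by omega) this
        omega
      have hne2 : i + (d : Fin (n + 1)) ≠ i + ((d + 1 : ℕ) : Fin (n + 1)) := by
        intro e
        have : (1 : Fin (n + 1)) = 0 := by
          have := congrArg (fun t => t - i - (d : Fin (n + 1))) e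
          push_cast at this
          simpa using this.symm
        exact one_ne_zero this
      have h1 := ih (by omega) i hne1 c
      have h2 : SpecialLinearGroup.transvection hne2 (1 : K) ∈
          G := by
        have : ∀ (b : Fin (n + 1)) (hb : b = i + (d : Fin (n + 1)) + 1)
            (h' : i + (d : Fin (n + 1)) ≠ b),
            SpecialLinearGroup.transvection h' (1 : K) ∈
              G := by
          intro b hb h'
          subst hb
          exact hQadj _ h' 1
        exact this _ (by push_cast; ring) hne2
      rw [← Cfsg.Agent.Helper2.transvection_comm hne1 hne2 h c, commutatorElement_def]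
      exact mul_mem (mul_mem (mul_mem h1 h2) (inv_mem h1)) (inv_mem h2)
  -- all pairs
  have hall : ∀ (i j : Fin (n + 1)) (h : i ≠ j) (c : K),
      SpecialLinearGroup.transvection h c ∈
        G := by
    intro i j h c
    have e0 : (((j - i : Fin (n + 1)).val : ℕ) : Fin (n + 1)) = j - i := Fin.cast_val_eq_self _
    have hd0 : (j - i : Fin (n + 1)).val ≠ 0 := by
      intro e
      have : j - i = 0 := Fin.ext e
      exact h (sub_eq_zero.1 this).symm
    have hdn : (j - i : Fin (n + 1)).val ≤ n := by
      have := (j - i : Fin (n + 1)).2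
      omega
    have e1 : i + (((j - i : Fin (n + 1)).val : ℕ) : Fin (n + 1)) = j := by
      rw [e0]
      ring
    have : ∀ (b : Fin (n + 1)) (hb : b = j) (h' : i ≠ b),
        SpecialLinearGroup.transvection h' c ∈
          G →
        SpecialLinearGroup.transvection h c ∈
          G := by
      intro b hb h' hmem
      subst hb
      exact hmem
    exact this _ e1 (by rw [e1]; exact h) (hdist _ (by omega) hdn i (by rw [e1]; exact h) c)
  rw [eq_top_iff]
  intro A _
  exact Cfsg.Agent.Helper2.SL_transvection_induction
    (fun A => A ∈ G)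
    (fun i j h c => hall i j h c) (fun A B hA hB => mul_mem hA hB) A


/-! ### Diagonal matrices, transvections and the cyclic monomial matrix -/

theorem W_mul_diagonal (W : Matrix (Fin (n + 1)) (Fin (n + 1)) K)
    (hW : W = Matrix.of (fun a b => if a = b - 1 then eps n b else 0))
    (δ : Fin (n + 1) → K) :
    W * diagonal δ = diagonal (fun a => δ (a + 1)) * W := by
  ext a b
  rw [mul_diagonal, diagonal_mul, hW, Matrix.of_apply]
  by_cases hab : a = b - 1
  · rw [if_pos hab, hab, sub_add_cancel, mul_comm]
  · rw [if_neg hab, zero_mul, mul_zero]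

theorem diagonal_mul_transvection (δ : Fin (n + 1) → K) (i j : Fin (n + 1)) (hj : δ j ≠ 0)
    (c : K) :
    diagonal δ * (1 + single i j c) = (1 + single i j (δ i * c * (δ j)⁻¹)) * diagonal δ := by
  ext a b
  rw [diagonal_mul, mul_diagonal, Matrix.add_apply, Matrix.add_apply, single_apply, single_apply,
    one_apply]
  by_cases hab : a = b
  · subst hab
    by_cases hia : i = a ∧ j = a
    · rw [if_pos hia, if_pos hia, if_pos rfl]
      obtain ⟨rfl, rfl⟩ := hia
      field_simp
    · rw [if_neg hia, if_neg hia, mul_comm]
  · rw [if_neg hab, zero_add, zero_add]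
    by_cases hia : i = a ∧ j = b
    · rw [if_pos hia, if_pos hia]
      obtain ⟨rfl, rfl⟩ := hia
      field_simp
    · rw [if_neg hia, if_neg hia, mul_zero, zero_mul]

theorem transvection_mul_transvection (i j : Fin (n + 1)) (hij : i ≠ j) (a b : K) :
    (1 + single i j a : Matrix (Fin (n + 1)) (Fin (n + 1)) K) * (1 + single i j b) =
      1 + single i j (a + b) := by
  rw [mul_add, mul_one, add_mul, one_mul,
    single_mul_single_of_ne _ _ _ _ hij.symm, add_zero, single_add, add_assoc]

/-- Membership from a matrix relation. -/
theorem mem_of_mul_eq {G : Subgroup (SpecialLinearGroup (Fin (n + 1)) K)}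
    {a b c : SpecialLinearGroup (Fin (n + 1)) K} (ha : a ∈ G) (hb : b ∈ G)
    (h : (c : Matrix (Fin (n + 1)) (Fin (n + 1)) K) * (b : Matrix (Fin (n + 1)) (Fin (n + 1)) K) =
      (a : Matrix (Fin (n + 1)) (Fin (n + 1)) K)) : c ∈ G := by
  have hm : ((c * b : SpecialLinearGroup (Fin (n + 1)) K) :
      Matrix (Fin (n + 1)) (Fin (n + 1)) K) = (a : Matrix (Fin (n + 1)) (Fin (n + 1)) K) := by
    rw [Matrix.SpecialLinearGroup.coe_mul]
    exact h
  have : c = a * b⁻¹ := by
    rw [eq_mul_inv_iff_mul_eq]
    exact Subtype.ext hm
  rw [this]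
  exact mul_mem ha (inv_mem hb)

end Cfsg.Agent.Helper12.CycGen
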