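import Cfsg.Agent.Helper2.SLCard

set_option autoImplicit false

namespace Cfsg.Agent.Helper12.SLCardDvd

open Matrix

variable {F : Type*} [Field F] [Fintype F]

/-- `|SL_{m+1}(q)| = q^m * ∏_{i<m} (q^(m+1) - q^i)`. -/
theorem card_SL_succ (m : ℕ) :
    Nat.card (SpecialLinearGroup (Fin (m + 1)) F) =
      Fintype.card F ^ m * ∏ i ∈ Finset.range m, (Fintype.card F ^ (m + 1) - Fintype.card F ^ i) := by
  have h1 := Cfsg.Agent.Helper2.card_SL_mul_card_units (ι := Fin (m + 1)) (F := F)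
  rw [Matrix.card_GL_field, Cfsg.Agent.Helper2.card_units_field, Fin.prod_univ_eq_prod_range
    (fun i => Fintype.card F ^ (m + 1) - Fintype.card F ^ i), Finset.prod_range_succ] at h1
  have hq : 1 < Fintype.card F := Fintype.one_lt_card
  have h2 : Fintype.card F ^ (m + 1) - Fintype.card F ^ m = Fintype.card F ^ m * (Fintype.card F - 1) := by
    rw [pow_succ, Nat.mul_sub, mul_one]
  rw [h2] at h1
  have h3 : 0 < Fintype.card F - 1 := by omega
  apply Nat.eq_of_mul_eq_mul_right h3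
  rw [h1]
  ring

theorem char_dvd_card_SL (p : ℕ) [Fact p.Prime] [CharP F p] (m : ℕ) (hm : 2 ≤ m) :
    p ∣ Nat.card (SpecialLinearGroup (Fin m) F) := by
  obtain ⟨m', rfl⟩ : ∃ m', m = m' + 1 := ⟨m - 1, by omega⟩
  rw [card_SL_succ]
  have hp : p ∣ Fintype.card F := by
    rw [← CharP.cast_eq_zero_iff F p]
    exact Nat.cast_card_eq_zero F
  exact Dvd.dvd.mul_right (dvd_pow hp (by omega)) _

theorem pow_sub_one_dvd_card_SL (m j : ℕ) (hj : 2 ≤ j) (hjm : j ≤ m) :
    Fintype.card F ^ j - 1 ∣ Nat.card (SpecialLinearGroup (Fin m) F) := by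
  obtain ⟨m', rfl⟩ : ∃ m', m = m' + 1 := ⟨m - 1, by omega⟩
  rw [card_SL_succ]
  apply Dvd.dvd.mul_left
  have hmem : m' + 1 - j ∈ Finset.range m' := by
    rw [Finset.mem_range]; omega
  refine Dvd.dvd.trans ?_ (Finset.dvd_prod_of_mem _ hmem)
  have : Fintype.card F ^ (m' + 1) - Fintype.card F ^ (m' + 1 - j) =
      Fintype.card F ^ (m' + 1 - j) * (Fintype.card F ^ j - 1) := by
    rw [Nat.mul_sub, mul_one, ← pow_add]
    congr 2
    omega
  rw [this]
  exact Dvd.intro_left _ rfl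

theorem prime_dvd_card_SL_of_dvd_pow_sub_one (m j r : ℕ) (hm : 2 ≤ m) (hj : 1 ≤ j) (hjm : j ≤ m)
    (hr : r ∣ Fintype.card F ^ j - 1) :
    r ∣ Nat.card (SpecialLinearGroup (Fin m) F) := by
  rcases Nat.lt_or_ge j 2 with h | h
  · have hj1 : j = 1 := by omega
    subst hj1
    rw [pow_one] at hr
    refine hr.trans (Dvd.dvd.trans ?_ (pow_sub_one_dvd_card_SL (F := F) m 2 le_rfl hm))
    have hq : 1 < Fintype.card F := Fintype.one_lt_card
    refine ⟨Fintype.card F + 1, ?_⟩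
    obtain ⟨k, hk⟩ : ∃ k, Fintype.card F = k + 1 := ⟨Fintype.card F - 1, by omega⟩
    rw [hk]
    have : (k + 1) ^ 2 - 1 = k * (k + 1 + 1) := by
      have : (k + 1) ^ 2 = k * (k + 1 + 1) + 1 := by ring
      omega
    rw [this]
    simp
  · exact hr.trans (pow_sub_one_dvd_card_SL m j h hjm)

end Cfsg.Agent.Helper12.SLCardDvd
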