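import Mathlib
import Cfsg.Agent.Helper12.S1786Defs

/-! Board `s1786pieces`, rows TIC, ZP. -/

set_option autoImplicit false

namespace Cfsg.Agent.S1786P

variable {G : Type*} [Group G] {V Q : Subgroup G}

/-- TIC: TI for arbitrary pairs of conjugates. -/
theorem TIC (S : Setup V Q) (x y : G) : cj x V = cj y V ∨ cj x V ⊓ cj y V = ⊥ := by
  rcases S.ti (y⁻¹ * x) with h | h
  · left
    have := congrArg (cj y) h
    rwa [← cj_mul, mul_inv_cancel_left] at this
  · right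
    have := congrArg (cj y) h
    rwa [cj_inf, ← cj_mul, mul_inv_cancel_left, cj_bot] at this

/-- ZP: `Z(P) ≤ V`. -/
theorem ZP [Finite G] (S : Setup V Q) : ∀ z ∈ PP V Q, (∀ x ∈ PP V Q, z * x = x * z) → z ∈ V := by
  intro z hzP hz
  -- A := Z(P)
  let A : Subgroup G := PP V Q ⊓ Subgroup.centralizer ((PP V Q : Subgroup G) : Set G)
  have hmemA : ∀ a : G, a ∈ A ↔ a ∈ PP V Q ∧ ∀ x ∈ PP V Q, a * x = x * a := by
    intro a
    show a ∈ PP V Q ⊓ Subgroup.centralizer ((PP V Q : Subgroup G) : Set G) ↔ _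
    rw [Subgroup.mem_inf, Subgroup.mem_centralizer_iff]
    constructor
    · rintro ⟨h1, h2⟩; exact ⟨h1, fun x hx => (h2 x hx).symm⟩
    · rintro ⟨h1, h2⟩; exact ⟨h1, fun x hx => (h2 x hx).symm⟩
  have hVA : V ≤ A := by
    intro v hv
    rw [hmemA]
    refine ⟨S.V_le_PP hv, fun x hx => ?_⟩
    exact ((mem_PP.1 hx).2 v hv).symm
  have hAM : A ≤ Subgroup.normalizer (V : Set G) := inf_le_left.trans S.PP_le_M
  have hAcomm : ∀ a ∈ A, ∀ b ∈ A, a * b = b * a := by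
    intro a ha b hb
    exact ((hmemA a).1 ha).2 b ((hmemA b).1 hb).1
  have hAinv : ∀ m ∈ Subgroup.normalizer (V : Set G), ∀ a ∈ A, m * a * m⁻¹ ∈ A := by
    intro m hm a ha
    have hmP := S.M_le_normalizer_PP hm
    have hmP' : m⁻¹ ∈ Subgroup.normalizer ((PP V Q : Subgroup G) : Set G) := inv_mem hmP
    rw [hmemA] at ha ⊢
    refine ⟨(Subgroup.mem_normalizer_iff.1 hmP a).1 ha.1, fun x hx => ?_⟩
    have hx' : m⁻¹ * x * m ∈ PP V Q := by
      have := (Subgroup.mem_normalizer_iff.1 hmP' x).1 hx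
      rwa [inv_inv] at this
    have h1 := ha.2 _ hx'
    calc m * a * m⁻¹ * x = m * (a * (m⁻¹ * x * m)) * m⁻¹ := by group
      _ = m * ((m⁻¹ * x * m) * a) * m⁻¹ := by rw [h1]
      _ = x * (m * a * m⁻¹) := by group
  have hAV : A = V := S.hmax A hVA hAM hAcomm hAinv
  rw [← hAV, hmemA]
  exact ⟨hzP, hz⟩

end Cfsg.Agent.S1786P
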