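import Mathlib
import Cfsg.Agent.Helper12.S1786TIC

/-! Board `s1786pieces`, row LEMT (Lemma T). -/

set_option autoImplicit false

namespace Cfsg.Agent.S1786P

variable {G : Type*} [Group G] {V Q : Subgroup G}

/-- elements of a conjugate of `V` square to `1` -/
theorem LEMT_aux_sq (S : Setup V Q) (x : G) : ∀ a ∈ cj x V, a * a = 1 := by
  intro a ha
  obtain ⟨v, hv, rfl⟩ := exists_of_mem_cj ha
  calc x * v * x⁻¹ * (x * v * x⁻¹) = x * (v * v) * x⁻¹ := by group
    _ = 1 := by rw [S.sq v hv]; group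

/-- a conjugate of `V` is commutative -/
theorem LEMT_aux_comm (S : Setup V Q) (x : G) : ∀ a ∈ cj x V, ∀ b ∈ cj x V, a * b = b * a := by
  intro a ha b hb
  obtain ⟨v, hv, rfl⟩ := exists_of_mem_cj ha
  obtain ⟨w, hw, rfl⟩ := exists_of_mem_cj hb
  calc x * v * x⁻¹ * (x * w * x⁻¹) = x * (v * w) * x⁻¹ := by group
    _ = x * (w * v) * x⁻¹ := by rw [S.comm v hv w hw]
    _ = x * w * x⁻¹ * (x * v * x⁻¹) := by group

theorem LEMT_aux_inv_eq (S : Setup V Q) (x : G) : ∀ a ∈ cj x V, a⁻¹ = a := by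
  intro a ha
  have := LEMT_aux_sq S x a ha
  exact inv_eq_of_mul_eq_one_left this

/-- Step 1: if `1 ≠ a ∈ A` commutes with `b ∈ B` then `b` centralizes `A`. -/
theorem LEMT_aux_step1 (S : Setup V Q) (x y : G) (hAB : cj x V ≤ Subgroup.normalizer ((cj y V : Subgroup G) : Set G))
    (hinf : cj x V ⊓ cj y V = ⊥) (a : G) (ha : a ∈ cj x V) (ha1 : a ≠ 1) (b : G) (hb : b ∈ cj y V)
    (hab : a * b = b * a) : ∀ a' ∈ cj x V, a' * b = b * a' := by
  -- cj b A = A
  have h1 : a ∈ cj b (cj x V) := by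
    rw [mem_cj]
    have : b⁻¹ * a * b = a := by
      calc b⁻¹ * a * b = b⁻¹ * (a * b) := by group
        _ = b⁻¹ * (b * a) := by rw [hab]
        _ = a := by group
    rw [this]; exact ha
  have h2 : cj (b * x) V = cj x V := by
    rcases TIC S (b * x) x with h | h
    · exact h
    · exfalso
      have : a ∈ cj (b * x) V ⊓ cj x V := by
        rw [cj_mul]
        exact Subgroup.mem_inf.2 ⟨h1, ha⟩
      rw [h, Subgroup.mem_bot] at this
      exact ha1 this
  intro a' ha'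
  have h3 : b * a' * b⁻¹ ∈ cj x V := by
    rw [← h2, cj_mul]
    exact conj_mem_cj ha'
  have h4 : b * a' * b⁻¹ * a'⁻¹ ∈ cj x V := (cj x V).mul_mem h3 ((cj x V).inv_mem ha')
  have h5 : a' * b⁻¹ * a'⁻¹ ∈ cj y V := by
    have := (Subgroup.mem_normalizer_iff.1 (hAB ha') b⁻¹).1 ((cj y V).inv_mem hb)
    exact this
  have h6 : b * a' * b⁻¹ * a'⁻¹ ∈ cj y V := by
    have : b * a' * b⁻¹ * a'⁻¹ = b * (a' * b⁻¹ * a'⁻¹) := by group
    rw [this]
    exact (cj y V).mul_mem hb h5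
  have h7 : b * a' * b⁻¹ * a'⁻¹ = 1 := by
    have : b * a' * b⁻¹ * a'⁻¹ ∈ cj x V ⊓ cj y V := Subgroup.mem_inf.2 ⟨h4, h6⟩
    rw [hinf, Subgroup.mem_bot] at this
    exact this
  calc a' * b = (b * a' * b⁻¹ * a'⁻¹)⁻¹ * (b * a') := by group
    _ = b * a' := by rw [h7]; group

/-- LEMT (Lemma T): conjugates `A ≤ N(B)` commute elementwise. -/
theorem LEMT [Finite G] (S : Setup V Q) {A B : Subgroup G} (hA : ∃ x : G, A = cj x V) (hB : ∃ y : G, B = cj y V)
    (hAB : A ≤ Subgroup.normalizer (B : Set G)) : ∀ a ∈ A, ∀ b ∈ B, a * b = b * a := by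
  obtain ⟨x, rfl⟩ := hA
  obtain ⟨y, rfl⟩ := hB
  rcases TIC S x y with heq | hinf
  · intro a ha b hb
    rw [← heq] at hb
    exact LEMT_aux_comm S x a ha b hb
  -- by contradiction: some b ∈ B does not centralize A
  by_contra hcon
  push_neg at hcon
  obtain ⟨a₀, ha₀, b, hb, hne⟩ := hcon
  have step1 := LEMT_aux_step1 S x y hAB hinf
  -- no nonidentity element of A commutes with b
  have hfree : ∀ a ∈ cj x V, a * b = b * a → a = 1 := by
    intro a ha hab
    by_contra ha1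
    exact hne (step1 a ha ha1 b hb hab a₀ ha₀)
  -- B₀
  let B₀ : Subgroup G := cj y V ⊓ Subgroup.centralizer ((cj x V : Subgroup G) : Set G)
  have hmemB₀ : ∀ c : G, c ∈ B₀ ↔ c ∈ cj y V ∧ ∀ a ∈ cj x V, a * c = c * a := by
    intro c
    show c ∈ cj y V ⊓ Subgroup.centralizer ((cj x V : Subgroup G) : Set G) ↔ _
    rw [Subgroup.mem_inf, Subgroup.mem_centralizer_iff]
    exact Iff.rfl
  -- f a = a b a⁻¹ b⁻¹
  have hf : ∀ a ∈ cj x V, a * b * a⁻¹ * b⁻¹ ∈ B₀ := by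
    intro a ha
    have hfB : a * b * a⁻¹ * b⁻¹ ∈ cj y V :=
      (cj y V).mul_mem ((Subgroup.mem_normalizer_iff.1 (hAB ha) b).1 hb) ((cj y V).inv_mem hb)
    rw [hmemB₀]
    refine ⟨hfB, ?_⟩
    by_cases ha1 : a = 1
    · subst ha1
      intro a' _
      simp
    · -- a commutes with f a
      have hainv : a⁻¹ = a := LEMT_aux_inv_eq S x a ha
      have hbinv : b⁻¹ = b := LEMT_aux_inv_eq S y b hb
      have hfinv : (a * b * a⁻¹ * b⁻¹)⁻¹ = a * b * a⁻¹ * b⁻¹ := LEMT_aux_inv_eq S y _ hfB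
      have hcomm : a * (a * b * a⁻¹ * b⁻¹) = (a * b * a⁻¹ * b⁻¹) * a := by
        have e1 : a * (a * b * a⁻¹ * b⁻¹) * a⁻¹ = (a * b * a⁻¹ * b⁻¹)⁻¹ := by
          rw [hainv, hbinv]
          have haa : a * a = 1 := LEMT_aux_sq S x a ha
          calc a * (a * b * a * b) * a = (a * a) * b * a * b * a := by group
            _ = b * a * b * a := by rw [haa, one_mul]
            _ = (a * b * a * b)⁻¹ := by
                rw [mul_inv_rev, mul_inv_rev, mul_inv_rev]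
                rw [show b⁻¹ = b from hbinv, show a⁻¹ = a from hainv]
                group
        rw [hfinv] at e1
        calc a * (a * b * a⁻¹ * b⁻¹) = (a * (a * b * a⁻¹ * b⁻¹) * a⁻¹) * a := by group
          _ = (a * b * a⁻¹ * b⁻¹) * a := by rw [e1]
      exact step1 a ha ha1 _ hfB hcomm
  -- injectivity
  have hinj : Function.Injective (fun a : ↥(cj x V) => (⟨(a : G) * b * (a : G)⁻¹ * b⁻¹, hf a a.2⟩ : ↥B₀)) := by
    intro a a' h
    have h1 : (a : G) * b * (a : G)⁻¹ * b⁻¹ = (a' : G) * b * (a' : G)⁻¹ * b⁻¹ := congrArg Subtype.val h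
    have h2 : (a : G) * b * (a : G)⁻¹ = (a' : G) * b * (a' : G)⁻¹ := mul_right_cancel h1
    have h3 : ((a' : G)⁻¹ * a) * b = b * ((a' : G)⁻¹ * a) := by
      calc (a' : G)⁻¹ * a * b = (a' : G)⁻¹ * ((a : G) * b * (a : G)⁻¹) * a := by group
        _ = (a' : G)⁻¹ * ((a' : G) * b * (a' : G)⁻¹) * a := by rw [h2]
        _ = b * ((a' : G)⁻¹ * a) := by group
    have h4 := hfree _ ((cj x V).mul_mem ((cj x V).inv_mem a'.2) a.2) h3
    apply Subtype.ext
    calc (a : G) = (a' : G) * ((a' : G)⁻¹ * a) := by group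
      _ = a' := by rw [h4, mul_one]
  have hcard1 : Nat.card ↥(cj x V) ≤ Nat.card ↥B₀ := Nat.card_le_card_of_injective _ hinj
  have hB₀le : B₀ ≤ cj y V := inf_le_left
  have hcard2 : Nat.card ↥(cj y V) ≤ Nat.card ↥B₀ := by
    rw [cj_card] at hcard1 ⊢
    exact hcard1
  have heq : B₀ = cj y V := Subgroup.eq_of_le_of_card_ge hB₀le hcard2
  have hbB₀ : b ∈ B₀ := by rw [heq]; exact hb
  exact hne (((hmemB₀ b).1 hbB₀).2 a₀ ha₀)

end Cfsg.Agent.S1786P
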