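import Mathlib
import Cfsg.Agent.Helper12.S1786LEMT

/-! Board `s1786pieces`, rows LAM1, LAMC, WMEM. -/

set_option autoImplicit false

namespace Cfsg.Agent.S1786P

variable {G : Type*} [Group G] {V Q B : Subgroup G}

/-- LAM1: first facts on a member `B` of `Λ`. -/
theorem LAM1 [Finite G] (S : Setup V Q) (hB : Lam V Q B) : B ≤ PP V Q ∧ V ⊓ B = ⊥ ∧ Nat.card ↥B = Nat.card ↥V ∧
    (∀ b ∈ B, ∀ b' ∈ B, b * b' = b' * b) ∧ (∀ b ∈ B, b * b = 1) ∧ B ≠ ⊥ := by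
  obtain ⟨⟨x, rfl⟩, hBQ, hBV⟩ := hB
  have hcomm : ∀ a ∈ cj x V, ∀ v ∈ V, a * v = v * a := by
    have h1 : ∃ y : G, V = cj y V := ⟨1, (cj_one V).symm⟩
    exact LEMT S ⟨x, rfl⟩ h1 (hBQ.trans S.QM)
  have hinf : V ⊓ cj x V = ⊥ := by
    rcases S.ti x with h | h
    · exact absurd h hBV
    · rwa [inf_comm] at h
  refine ⟨?_, hinf, cj_card x V, LEMT_aux_comm S x, LEMT_aux_sq S x, ?_⟩
  · intro b hb
    exact mem_PP.2 ⟨hBQ hb, hcomm b hb⟩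
  · intro h
    have hV : V = ⊥ := cj_eq_bot_iff.1 h
    apply hBV
    rw [hV, cj_bot]

/-- LAMC: `Λ` is `M`-invariant. -/
theorem LAMC [Finite G] (S : Setup V Q) (hB : Lam V Q B) {m : G} (hm : m ∈ Subgroup.normalizer (V : Set G)) :
    Lam V Q (cj m B) := by
  obtain ⟨⟨x, rfl⟩, hBQ, hBV⟩ := hB
  refine ⟨⟨m * x, (cj_mul m x V).symm⟩, ?_, ?_⟩
  · have h1 : cj m (cj x V) ≤ cj m Q := cj_mono hBQ
    rwa [cj_of_mem_normalizer (S.MQ hm)] at h1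
  · intro h
    apply hBV
    have h2 : cj m (cj x V) = cj m V := by rw [h, cj_of_mem_normalizer hm]
    exact cj_injective m h2

/-- WMEM: the elements of `W = V ⊔ B` are the products `a b`. -/
theorem WMEM [Finite G] (S : Setup V Q) (hB : Lam V Q B) : ∀ w : G, w ∈ V ⊔ B ↔ ∃ a ∈ V, ∃ b ∈ B, w = a * b := by
  obtain ⟨hBP, _, _, hBcomm, _, _⟩ := LAM1 S hB
  have hcomm : ∀ a ∈ V, ∀ b ∈ B, a * b = b * a := fun a ha b hb => ((mem_PP.1 (hBP hb)).2 a ha).symm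
  intro w
  constructor
  · intro hw
    refine Subgroup.closure_induction (p := fun w _ => ∃ a ∈ V, ∃ b ∈ B, w = a * b) ?_ ?_ ?_ ?_
      (by rw [Subgroup.sup_eq_closure] at hw; exact hw)
    · intro x hx
      rcases hx with hx | hx
      · exact ⟨x, hx, 1, B.one_mem, (mul_one x).symm⟩
      · exact ⟨1, V.one_mem, x, hx, (one_mul x).symm⟩
    · exact ⟨1, V.one_mem, 1, B.one_mem, (mul_one 1).symm⟩
    · rintro x y _ _ ⟨a, ha, b, hb, rfl⟩ ⟨a', ha', b', hb', rfl⟩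
      refine ⟨a * a', V.mul_mem ha ha', b * b', B.mul_mem hb hb', ?_⟩
      calc a * b * (a' * b') = a * (b * a') * b' := by group
        _ = a * (a' * b) * b' := by rw [hcomm a' ha' b hb]
        _ = a * a' * (b * b') := by group
    · rintro x _ ⟨a, ha, b, hb, rfl⟩
      refine ⟨a⁻¹, V.inv_mem ha, b⁻¹, B.inv_mem hb, ?_⟩
      calc (a * b)⁻¹ = b⁻¹ * a⁻¹ := by group
        _ = a⁻¹ * b⁻¹ := (hcomm a⁻¹ (V.inv_mem ha) b⁻¹ (B.inv_mem hb)).symm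
  · rintro ⟨a, ha, b, hb, rfl⟩
    exact (V ⊔ B).mul_mem (Subgroup.mem_sup_left ha) (Subgroup.mem_sup_right hb)

end Cfsg.Agent.S1786P
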