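import Mathlib
import Cfsg.Agent.Helper13.S2276Defs
import Cfsg.Agent.Helper4.S2276EVEN2
import Cfsg.Agent.Helper4.S2276IOTA
import Cfsg.Agent.Helper18.S2276TAIL
import Cfsg.Agent.Helper25.S2276GLUEALG
import Cfsg.Agent.Helper25.S2276GLUECT

set_option autoImplicit false

/-! # S2276 piece UC1 (helper12): a part `a + 1 ≥ 5` followed by a tail -/

namespace Cfsg.Agent.S2276P

open Equiv Equiv.Perm

namespace UC1

/-- the element `i` of `Fin (a+1)` -/
def pt (a : ℕ) (i : ℕ) (hi : i < a + 1) : Fin (a + 1) := ⟨i, hi⟩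

theorem pt_ne (a i j : ℕ) (hi : i < a + 1) (hj : j < a + 1) (hij : i ≠ j) : pt a i hi ≠ pt a j hj := by
  intro h
  exact hij (congrArg Fin.val h)

theorem rot_pt (a i : ℕ) (hi : i + 1 < a + 1) :
    finRotate (a + 1) (pt a i (by omega)) = pt a (i + 1) hi := by
  apply Fin.ext
  rw [finRotate_succ_apply]
  simp only [pt]
  rw [Fin.val_add_one_of_lt]
  rw [Fin.lt_def]
  simp only [Fin.val_last]
  omega

/-- the window gadget `x = τ c⁻¹ τ⁻¹`, `τ = (1 3)` -/
noncomputable def win (a : ℕ) (ha4 : 4 ≤ a) : Perm (Fin (a + 1)) :=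
  swap (pt a 1 (by omega)) (pt a 3 (by omega)) * (finRotate (a + 1))⁻¹ *
    (swap (pt a 1 (by omega)) (pt a 3 (by omega)))⁻¹

theorem rot_mul_win (a : ℕ) (ha4 : 4 ≤ a) :
    finRotate (a + 1) * win a ha4 =
      swap (pt a 2 (by omega)) (pt a 4 (by omega)) * swap (pt a 1 (by omega)) (pt a 3 (by omega)) := by
  unfold win
  have h1 : finRotate (a + 1) * swap (pt a 1 (by omega)) (pt a 3 (by omega)) * (finRotate (a + 1))⁻¹ =
      swap (pt a 2 (by omega)) (pt a 4 (by omega)) := by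
    rw [← Equiv.swap_apply_apply, rot_pt a 1 (by omega), rot_pt a 3 (by omega)]
  rw [← h1, swap_inv]
  group

theorem win_cycleType (a : ℕ) (ha4 : 4 ≤ a) : (win a ha4).cycleType = {a + 1} := by
  unfold win
  rw [cycleType_conj, cycleType_inv]
  obtain ⟨b, rfl⟩ : ∃ b, a = b + 1 := ⟨a - 1, by omega⟩
  exact cycleType_finRotate

/-- the product `g = c * x = (2 4)(1 3)` on the window -/
theorem g_apply_zero (a : ℕ) (ha4 : 4 ≤ a) : (finRotate (a + 1) * win a ha4) 0 = 0 := by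
  rw [rot_mul_win]
  have h0 : (0 : Fin (a + 1)) = pt a 0 (by omega) := rfl
  rw [h0, Perm.mul_apply,
    swap_apply_of_ne_of_ne (pt_ne a 0 1 _ _ (by omega)) (pt_ne a 0 3 _ _ (by omega)),
    swap_apply_of_ne_of_ne (pt_ne a 0 2 _ _ (by omega)) (pt_ne a 0 4 _ _ (by omega))]

theorem g_apply_one (a : ℕ) (ha4 : 4 ≤ a) :
    (finRotate (a + 1) * win a ha4) (pt a 1 (by omega)) = pt a 3 (by omega) := by
  rw [rot_mul_win, Perm.mul_apply, swap_apply_left,
    swap_apply_of_ne_of_ne (pt_ne a 3 2 _ _ (by omega)) (pt_ne a 3 4 _ _ (by omega))]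

theorem g_apply_three (a : ℕ) (ha4 : 4 ≤ a) :
    (finRotate (a + 1) * win a ha4) (pt a 3 (by omega)) = pt a 1 (by omega) := by
  rw [rot_mul_win, Perm.mul_apply, swap_apply_right,
    swap_apply_of_ne_of_ne (pt_ne a 1 2 _ _ (by omega)) (pt_ne a 1 4 _ _ (by omega))]

theorem g_sq (a : ℕ) (ha4 : 4 ≤ a) :
    (finRotate (a + 1) * win a ha4) * (finRotate (a + 1) * win a ha4) = 1 := by
  rw [rot_mul_win]
  have hd : (swap (pt a 2 (by omega)) (pt a 4 (by omega))).Disjoint
      (swap (pt a 1 (by omega)) (pt a 3 (by omega))) := by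
    rw [disjoint_iff_disjoint_support, support_swap (pt_ne a 2 4 _ _ (by omega)),
      support_swap (pt_ne a 1 3 _ _ (by omega))]
    simp only [Finset.disjoint_insert_left, Finset.disjoint_singleton_left, Finset.mem_insert,
      Finset.mem_singleton, not_or]
    exact ⟨⟨pt_ne a 2 1 _ _ (by omega), pt_ne a 2 3 _ _ (by omega)⟩,
      ⟨pt_ne a 4 1 _ _ (by omega), pt_ne a 4 3 _ _ (by omega)⟩⟩
  set A := swap (pt a 2 (by omega)) (pt a 4 (by omega)) with hA
  set B := swap (pt a 1 (by omega)) (pt a 3 (by omega)) with hB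
  have hAA : A * A = 1 := swap_mul_self _ _
  have hBB : B * B = 1 := swap_mul_self _ _
  have hc : A * B = B * A := hd.commute.eq
  calc A * B * (A * B) = A * (B * A) * B := by group
    _ = A * (A * B) * B := by rw [hc]
    _ = (A * A) * (B * B) := by group
    _ = 1 := by rw [hAA, hBB, one_mul]

theorem g_pow_odd (a : ℕ) (ha4 : 4 ≤ a) {N : ℕ} (hN : Odd N) :
    (finRotate (a + 1) * win a ha4) ^ N = finRotate (a + 1) * win a ha4 := by
  obtain ⟨k, rfl⟩ := hN
  rw [pow_succ, pow_mul, pow_two, g_sq, one_pow, one_mul]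

end UC1

/-- UC1 [M-L] -/
theorem UC1.main (a t : ℕ) (ha : Even a) (ha4 : 4 ≤ a) (ht : Odd t) {p : ℕ} (hp : p.Prime)
    (hp2 : p ≠ 2) (m : Multiset ℕ) (hm : ∀ y ∈ m, Odd y ∧ 3 ≤ y) (hsum : m.sum ≤ t + 1) :
    ∃ v : Perm (Fin (a + 1 + (t + 1))), v.cycleType = {a + 1} + m ∧
      Good p (finRotate (a + 1 + (t + 1))) v := by
  obtain ⟨b, N, hb, hN, hpow, hact⟩ :=
    TAIL.main a t ht (UC1.win a ha4) (UC1.g_apply_zero a ha4) m hm hsum
  refine ⟨glue (UC1.win a ha4) b, ?_, ?_, ?_⟩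
  · rw [GLUECT.main, UC1.win_cycleType, hb]
  · -- the product swaps the window points `1` and `3`
    have h1 := hact (UC1.pt a 1 (by omega)) (UC1.pt_ne a 1 0 _ _ (by omega))
    have h3 := hact (UC1.pt a 3 (by omega)) (UC1.pt_ne a 3 0 _ _ (by omega))
    rw [UC1.g_apply_one] at h1
    rw [UC1.g_apply_three] at h3
    refine EVEN2.main hp hp2 _ ?_ h1 h3
    intro h
    have := Fin.castAdd_injective _ _ h
    exact UC1.pt_ne a 1 3 _ _ (by omega) this
  · -- non-solvability via IOTA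
    set C := finRotate (a + 1 + (t + 1)) with hC
    set v := glue (UC1.win a ha4) b with hv
    have hCK : C ∈ Subgroup.closure ({C, v} : Set (Perm (Fin (a + 1 + (t + 1))))) :=
      Subgroup.subset_closure (by simp)
    have hvK : v ∈ Subgroup.closure ({C, v} : Set (Perm (Fin (a + 1 + (t + 1))))) :=
      Subgroup.subset_closure (by simp)
    have hι : swap (Fin.castAdd (t + 1) (UC1.pt a 2 (by omega))) (Fin.castAdd (t + 1) (UC1.pt a 4 (by omega))) *
        swap (Fin.castAdd (t + 1) (UC1.pt a 1 (by omega))) (Fin.castAdd (t + 1) (UC1.pt a 3 (by omega))) ∈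
        Subgroup.closure ({C, v} : Set (Perm (Fin (a + 1 + (t + 1))))) := by
      have h5 : (C * v) ^ N ∈ Subgroup.closure ({C, v} : Set (Perm (Fin (a + 1 + (t + 1))))) :=
        Subgroup.pow_mem _ (Subgroup.mul_mem _ hCK hvK) N
      rw [hpow, UC1.g_pow_odd a ha4 hN, UC1.rot_mul_win] at h5
      have h6 : glue (swap (UC1.pt a 2 (by omega)) (UC1.pt a 4 (by omega)) *
          swap (UC1.pt a 1 (by omega)) (UC1.pt a 3 (by omega))) (1 : Perm (Fin (t + 1))) =
          swap (Fin.castAdd (t + 1) (UC1.pt a 2 (by omega))) (Fin.castAdd (t + 1) (UC1.pt a 4 (by omega))) *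
          swap (Fin.castAdd (t + 1) (UC1.pt a 1 (by omega))) (Fin.castAdd (t + 1) (UC1.pt a 3 (by omega))) := by
        rw [← GLUEALG.swap_left, ← GLUEALG.swap_left, ← GLUEALG.mul, one_mul]
      rw [h6] at h5
      exact h5
    have hodd : Odd (a + 1 + (t + 1)) := by
      obtain ⟨a', rfl⟩ := ha
      obtain ⟨t', rfl⟩ := ht
      exact ⟨a' + t' + 1, by ring⟩
    exact IOTA.main hodd (by omega) _ hCK (x1 := Fin.castAdd (t + 1) (UC1.pt a 1 (by omega)))
      (x2 := Fin.castAdd (t + 1) (UC1.pt a 2 (by omega)))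
      (x3 := Fin.castAdd (t + 1) (UC1.pt a 3 (by omega)))
      (x4 := Fin.castAdd (t + 1) (UC1.pt a 4 (by omega))) rfl rfl rfl rfl hι

end Cfsg.Agent.S2276P
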