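import Cfsg.Agent.Helper12.BNStD

set_option autoImplicit false

/-!
# Chambers opposite to the base chamber and the restriction of the Steinberg character to `B`
-/

namespace Cfsg.Agent.Helper12.BNSt

open Cfsg Cfsg.Agent.Helper2 Cfsg.Agent.Helper14.ExchCox

variable {G : Type*} [Group G] (P : Cfsg.BNPair G) [hN : ((P.B ⊓ P.N).subgroupOf P.N).Normal]

/-- the chambers `y n₀ B`, `y ∈ B`, correspond to the cosets of `H` in `B` -/
theorem card_fixed_opposite {n₀ : G} (hn₀ : n₀ ∈ P.N)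
    (hdesc : ∀ j : P.S, len (sgen P) ((QuotientGroup.mk ⟨n₀, hn₀⟩ : Wq P) * sgen P j) <
      len (sgen P) (QuotientGroup.mk ⟨n₀, hn₀⟩ : Wq P))
    (hopp : ∀ x ∈ P.B, n₀⁻¹ * x * n₀ ∈ P.B → x ∈ BN.H P) (b : P.B) :
    Nat.card {c : G ⧸ P.B // (b : G) • c = c ∧ AscR (sgen P) (typC P c) = ∅} =
      Nat.card (MulAction.fixedBy (↥P.B ⧸ (BN.H P).subgroupOf P.B) b) := by
  symm
  have hiff : ∀ w : Wq P, AscR (sgen P) w = ∅ ↔ w = QuotientGroup.mk ⟨n₀, hn₀⟩ :=
    ascR_eq_empty_iff hyp_sgen hdesc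
  let f : ↥P.B ⧸ (BN.H P).subgroupOf P.B → G ⧸ P.B :=
    Quotient.lift (fun y : P.B => (QuotientGroup.mk ((y : G) * n₀) : G ⧸ P.B)) (by
      intro y y' hyy
      have hyy := QuotientGroup.leftRel_apply.mp hyy
      rw [Subgroup.mem_subgroupOf] at hyy
      rw [QuotientGroup.eq]
      have e : ((y : G) * n₀)⁻¹ * ((y' : G) * n₀) = n₀⁻¹ * ((y : G)⁻¹ * (y' : G)) * n₀ := by group
      rw [e]
      have := BN.conj_mem_H' P hn₀ hyy
      simp only [Subgroup.coe_mul, Subgroup.coe_inv] at this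
      exact BN.H_le_B P this)
  have hf_mk : ∀ y : P.B, f (QuotientGroup.mk y) = QuotientGroup.mk ((y : G) * n₀) := fun _ => rfl
  have hf_inj : Function.Injective f := by
    intro c c' h
    induction c using QuotientGroup.induction_on with
    | H y =>
      induction c' using QuotientGroup.induction_on with
      | H y' =>
        rw [hf_mk, hf_mk, QuotientGroup.eq] at h
        rw [QuotientGroup.eq, Subgroup.mem_subgroupOf]
        have e : ((y : G) * n₀)⁻¹ * ((y' : G) * n₀) = n₀⁻¹ * ((y : G)⁻¹ * (y' : G)) * n₀ := by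
          group
        rw [e] at h
        simp only [Subgroup.coe_mul, Subgroup.coe_inv]
        exact hopp _ (Subgroup.mul_mem _ (Subgroup.inv_mem _ y.2) y'.2) h
  have hf_smul : ∀ c, f (b • c) = (b : G) • f c := by
    intro c
    induction c using QuotientGroup.induction_on with
    | H y =>
      rw [MulAction.Quotient.smul_mk, hf_mk, hf_mk, MulAction.Quotient.smul_mk]
      simp only [smul_eq_mul, Subgroup.coe_mul, mul_assoc]
  have hf_typ : ∀ c, typC P (f c) = QuotientGroup.mk ⟨n₀, hn₀⟩ := by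
    intro c
    induction c using QuotientGroup.induction_on with
    | H y =>
      rw [hf_mk, typC_mk, typ_mul_left P _ y.2, typ_of_mem_N P hn₀]
  let Φ : MulAction.fixedBy (↥P.B ⧸ (BN.H P).subgroupOf P.B) b →
      {c : G ⧸ P.B // (b : G) • c = c ∧ AscR (sgen P) (typC P c) = ∅} := fun c =>
    ⟨f c.1, by
      have hc := c.2
      rw [MulAction.mem_fixedBy] at hc
      rw [← hf_smul, hc], (hiff _).mpr (hf_typ _)⟩
  apply Nat.card_congr
  refine Equiv.ofBijective Φ ⟨?_, ?_⟩
  · intro c c' h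
    have h' : f c.1 = f c'.1 := congrArg Subtype.val h
    exact Subtype.ext (hf_inj h')
  · rintro ⟨c, hc1, hc2⟩
    induction c using QuotientGroup.induction_on with
    | H g =>
      rw [typC_mk, hiff] at hc2
      obtain ⟨y, hy, b', hb', rfl⟩ := exists_eq_of_typ P hn₀ hc2
      have hfy : f (QuotientGroup.mk ⟨y, hy⟩) = QuotientGroup.mk (y * n₀ * b') := by
        rw [hf_mk, QuotientGroup.eq]
        have e : (y * n₀)⁻¹ * (y * n₀ * b') = b' := by group
        rw [e]; exact hb'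
      have hfix : b • (QuotientGroup.mk ⟨y, hy⟩ : ↥P.B ⧸ (BN.H P).subgroupOf P.B) =
          QuotientGroup.mk ⟨y, hy⟩ := by
        apply hf_inj
        rw [hf_smul, hfy]
        exact hc1
      exact ⟨⟨QuotientGroup.mk ⟨y, hy⟩, hfix⟩, Subtype.ext hfy⟩

/-- the alternating sum of the parabolic permutation characters, restricted to `B`, is the
permutation character of `B` on `B / H` -/
theorem alt_sum_eq_fixedPointCharacter [Finite G] [Fintype P.S] {n₀ : G} (hn₀ : n₀ ∈ P.N)
    (hdesc : ∀ j : P.S, len (sgen P) ((QuotientGroup.mk ⟨n₀, hn₀⟩ : Wq P) * sgen P j) <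
      len (sgen P) (QuotientGroup.mk ⟨n₀, hn₀⟩ : Wq P))
    (hopp : ∀ x ∈ P.B, n₀⁻¹ * x * n₀ ∈ P.B → x ∈ BN.H P) (b : P.B) :
    ∑ K ∈ (Finset.univ : Finset P.S).powerset, (-1 : ℂ) ^ K.card *
      fixedPointCharacter (P.parabolic (Subtype.val '' (K : Set P.S))) (b : G) =
    fixedPointCharacter ((BN.H P).subgroupOf P.B) b := by
  rw [alt_sum_fixed P b.2, card_fixed_opposite P hn₀ hdesc hopp b]
  rfl

end Cfsg.Agent.Helper12.BNSt
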