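import Cfsg.Agent.Helper12.SteinA
import Cfsg.Agent.Helper12.BNStE

set_option autoImplicit false

/-!
# Inner products of parabolic permutation characters of a (B,N)-pair and the norm of the
alternating sum
-/

namespace Cfsg.Agent.Helper12.BNSt

open Cfsg Cfsg.Agent.Helper2 Cfsg.Agent.Helper14.ExchCox

universe u

variable {G : Type u} [Group G] (P : Cfsg.BNPair G) [hN : ((P.B ⊓ P.N).subgroupOf P.N).Normal]

/-- the distinguished double coset representatives -/
abbrev Dist (J K : Set G) : Type _ :=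
  {d : Wq P // idx P J ⊆ AscL (sgen P) d ∧ idx P K ⊆ AscR (sgen P) d}

theorem exists_distRep (J K : Set G) (g : G) :
    ∃ d : Dist P J K, ∃ a ∈ WJ (sgen P) (idx P J), ∃ b ∈ WJ (sgen P) (idx P K),
      typ P g = a * d.1 * b := by
  obtain ⟨a, ha, b, hb, d, h1, h2, h3⟩ := exists_dist hyp_sgen (idx P J) (idx P K) (typ P g)
  exact ⟨⟨d, h2, h3⟩, a, ha, b, hb, h1⟩

/-- the distinguished representative of the double coset of `g` -/
noncomputable def distRep (J K : Set G) (g : G) : Dist P J K :=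
  Classical.choose (exists_distRep P J K g)

theorem distRep_spec (J K : Set G) (g : G) :
    ∃ a ∈ WJ (sgen P) (idx P J), ∃ b ∈ WJ (sgen P) (idx P K),
      typ P g = a * (distRep P J K g).1 * b :=
  Classical.choose_spec (exists_distRep P J K g)

theorem distRep_eq_of {J K : Set G} {g : G} {d : Dist P J K} {a b : Wq P}
    (ha : a ∈ WJ (sgen P) (idx P J)) (hb : b ∈ WJ (sgen P) (idx P K))
    (h : typ P g = a * d.1 * b) : distRep P J K g = d := by
  obtain ⟨a', ha', b', hb', h'⟩ := distRep_spec P J K g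
  apply Subtype.ext
  refine dist_unique hyp_sgen d.2.1 d.2.2 (distRep P J K g).2.1 (distRep P J K g).2.2
    (a := a'⁻¹ * a) (b := b * b'⁻¹) (Subgroup.mul_mem _ (Subgroup.inv_mem _ ha') ha)
    (Subgroup.mul_mem _ hb (Subgroup.inv_mem _ hb')) ?_
  have e : (distRep P J K g).1 = a'⁻¹ * (a' * (distRep P J K g).1 * b') * b'⁻¹ := by group
  rw [e, ← h', h]
  group

theorem distRep_eq_iff {J K : Set G} (hJ : J ⊆ P.S) (hK : K ⊆ P.S) (g g' : G) :
    distRep P J K g = distRep P J K g' ↔
      ∃ h ∈ P.parabolic J, ∃ k ∈ P.parabolic K, g' = h * g * k := by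
  constructor
  · intro heq
    obtain ⟨a, ha, b, hb, h1⟩ := distRep_spec P J K g
    obtain ⟨a', ha', b', hb', h2⟩ := distRep_spec P J K g'
    rw [← heq] at h2
    -- typ g' = α * typ g * β
    have hα : a' * a⁻¹ ∈ WJ (sgen P) (idx P J) := Subgroup.mul_mem _ ha' (Subgroup.inv_mem _ ha)
    have hβ : b⁻¹ * b' ∈ WJ (sgen P) (idx P K) := Subgroup.mul_mem _ (Subgroup.inv_mem _ hb) hb'
    have h3 : typ P g' = (a' * a⁻¹) * typ P g * (b⁻¹ * b') := by
      rw [h2, h1]; group
    obtain ⟨nα, hnα, hclα, hwα⟩ := exists_rep_of_mem_WJ P hα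
    obtain ⟨nβ, hnβ, hclβ, hwβ⟩ := exists_rep_of_mem_WJ P hβ
    obtain ⟨ng, hng, hgC, htg⟩ := typ_spec P g
    obtain ⟨b₁, hb₁, b₂, hb₂, hg⟩ := (BN.mem_C_iff P).mp hgC
    have h4 : typ P g' = QuotientGroup.mk ⟨nα * ng * nβ,
        Subgroup.mul_mem _ (Subgroup.mul_mem _ hnα hng) hnβ⟩ := by
      rw [h3, htg, ← hwα, ← hwβ]; rfl
    obtain ⟨b₃, hb₃, b₄, hb₄, hg'⟩ := exists_eq_of_typ P _ h4
    refine ⟨b₃ * nα * b₁⁻¹, ?_, b₂⁻¹ * nβ * b₄, ?_, ?_⟩
    · exact Subgroup.mul_mem _ (Subgroup.mul_mem _ (BN.B_le_parabolic J hb₃)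
        (BN.closure_le_parabolic J hclα)) (BN.B_le_parabolic J (Subgroup.inv_mem _ hb₁))
    · exact Subgroup.mul_mem _ (Subgroup.mul_mem _ (BN.B_le_parabolic K (Subgroup.inv_mem _ hb₂))
        (BN.closure_le_parabolic K hclβ)) (BN.B_le_parabolic K hb₄)
    · rw [hg', hg]; group
  · rintro ⟨h, hh, k, hk, rfl⟩
    obtain ⟨a, ha, b, hb, h1⟩ := distRep_spec P J K g
    obtain ⟨a₁, ha₁, ht1⟩ := exists_typ_mul_of_mem_parabolic P hJ hh (g * k)
    obtain ⟨b₁, hb₁, ht2⟩ := exists_typ_mul_of_mem_parabolic' P hK hk g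
    symm
    apply distRep_eq_of P (a := a₁ * a) (b := b * b₁) (Subgroup.mul_mem _ ha₁ ha)
      (Subgroup.mul_mem _ hb hb₁)
    rw [mul_assoc h g k, ht1, ht2, h1]; group

theorem distRep_surjective (J K : Set G) : Function.Surjective (distRep P J K) := by
  intro d
  obtain ⟨⟨n, hn⟩, hd⟩ := QuotientGroup.mk_surjective d.1
  refine ⟨n, ?_⟩
  apply distRep_eq_of P (a := 1) (b := 1) (Subgroup.one_mem _) (Subgroup.one_mem _)
  rw [typ_of_mem_N P hn, hd, one_mul, mul_one]

/-- the inner product of two parabolic permutation characters is the number of distinguished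
double coset representatives -/
theorem inner_parabolic [Fintype G] {J K : Set G} (hJ : J ⊆ P.S) (hK : K ⊆ P.S) :
    (Nat.card G : ℂ)⁻¹ * ∑ g : G, fixedPointCharacter (P.parabolic J) g *
      fixedPointCharacter (P.parabolic K) g = (Nat.card (Dist P J K) : ℂ) := by
  rw [Stein.inner_fixedPointCharacter,
    Stein.card_orbits_eq_of_invariant (P.parabolic J) (P.parabolic K) (distRep P J K)
      (distRep_eq_iff P hJ hK) (distRep_surjective P J K)]

/-- the alternating sum of the parabolic permutation characters -/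
noncomputable def altSum [Fintype P.S] (g : G) : ℂ :=
  ∑ K ∈ (Finset.univ : Finset P.S).powerset, (-1 : ℂ) ^ K.card *
    fixedPointCharacter (P.parabolic (Subtype.val '' (K : Set P.S))) g

omit hN in
theorem conj_fixedPointCharacter (H : Subgroup G) (g : G) :
    (starRingEnd ℂ) (fixedPointCharacter H g) = fixedPointCharacter H g := by
  unfold fixedPointCharacter
  exact Complex.conj_natCast _

omit hN in
theorem conj_altSum [Fintype P.S] (g : G) : (starRingEnd ℂ) (altSum P g) = altSum P g := by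
  unfold altSum
  rw [map_sum]
  apply Finset.sum_congr rfl
  intro K _
  rw [map_mul, conj_fixedPointCharacter, map_pow, map_neg, map_one]

/-- the norm of the alternating sum is one -/
theorem classInner_altSum [Fintype G] [Fintype P.S] :
    classInner (altSum P) (altSum P) = 1 := by
  classical
  haveI : Finite (Wq P) := by
    haveI : Finite P.N := inferInstance
    exact Quotient.finite _
  letI : Fintype (Wq P) := Fintype.ofFinite _
  obtain ⟨w₀, hL, hR⟩ := exists_longest (s := sgen P) hyp_sgen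
  unfold classInner
  simp_rw [conj_altSum]
  have h1 : ∀ g : G, altSum P g * altSum P g =
      ∑ J ∈ (Finset.univ : Finset P.S).powerset, ∑ K ∈ (Finset.univ : Finset P.S).powerset,
        ((-1 : ℂ) ^ J.card * (-1 : ℂ) ^ K.card) *
          (fixedPointCharacter (P.parabolic (Subtype.val '' (J : Set P.S))) g *
            fixedPointCharacter (P.parabolic (Subtype.val '' (K : Set P.S))) g) := by
    intro g
    unfold altSum
    rw [Finset.sum_mul_sum]
    apply Finset.sum_congr rfl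
    intro J _
    apply Finset.sum_congr rfl
    intro K _
    ring
  simp_rw [h1]
  rw [Finset.sum_comm, Finset.mul_sum]
  have h2 : ∀ J ∈ (Finset.univ : Finset P.S).powerset,
      (Nat.card G : ℂ)⁻¹ * ∑ g : G, ∑ K ∈ (Finset.univ : Finset P.S).powerset,
        ((-1 : ℂ) ^ J.card * (-1 : ℂ) ^ K.card) *
          (fixedPointCharacter (P.parabolic (Subtype.val '' (J : Set P.S))) g *
            fixedPointCharacter (P.parabolic (Subtype.val '' (K : Set P.S))) g) =
      ∑ K ∈ (Finset.univ : Finset P.S).powerset, ((-1 : ℂ) ^ J.card * (-1 : ℂ) ^ K.card) *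
        ∑ w : Wq P, (if ((J : Set P.S) ⊆ AscL (sgen P) w ∧ (K : Set P.S) ⊆ AscR (sgen P) w)
          then (1 : ℂ) else 0) := by
    intro J _
    rw [Finset.sum_comm, Finset.mul_sum]
    apply Finset.sum_congr rfl
    intro K _
    rw [← Finset.mul_sum, mul_left_comm,
      inner_parabolic P (image_subset P _) (image_subset P _)]
    congr 1
    have := card_eq_sum_ite (X := Wq P)
      (fun d => idx P (Subtype.val '' (J : Set P.S)) ⊆ AscL (sgen P) d ∧
        idx P (Subtype.val '' (K : Set P.S)) ⊆ AscR (sgen P) d)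
    rw [this]
    apply Finset.sum_congr rfl
    intro w _
    rw [idx_image, idx_image]
  rw [Finset.sum_congr rfl h2]
  -- now a sum over J, K, w
  have h3 : ∀ J K : Finset P.S, ((-1 : ℂ) ^ J.card * (-1 : ℂ) ^ K.card) *
        ∑ w : Wq P, (if ((J : Set P.S) ⊆ AscL (sgen P) w ∧ (K : Set P.S) ⊆ AscR (sgen P) w)
          then (1 : ℂ) else 0) =
      ∑ w : Wq P, ((-1 : ℂ) ^ J.card * (if (J : Set P.S) ⊆ AscL (sgen P) w then (1 : ℂ) else 0)) *
        ((-1 : ℂ) ^ K.card * (if (K : Set P.S) ⊆ AscR (sgen P) w then (1 : ℂ) else 0)) := by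
    intro J K
    rw [Finset.mul_sum]
    apply Finset.sum_congr rfl
    intro w _
    by_cases hJ : (J : Set P.S) ⊆ AscL (sgen P) w <;> by_cases hK : (K : Set P.S) ⊆ AscR (sgen P) w <;>
      simp [hJ, hK]
  simp_rw [h3]
  have h4 : ∑ J ∈ (Finset.univ : Finset P.S).powerset, ∑ K ∈ (Finset.univ : Finset P.S).powerset,
      ∑ w : Wq P, ((-1 : ℂ) ^ J.card * (if (J : Set P.S) ⊆ AscL (sgen P) w then (1 : ℂ) else 0)) *
        ((-1 : ℂ) ^ K.card * (if (K : Set P.S) ⊆ AscR (sgen P) w then (1 : ℂ) else 0)) =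
      ∑ w : Wq P, (∑ J ∈ (Finset.univ : Finset P.S).powerset,
          (-1 : ℂ) ^ J.card * (if (J : Set P.S) ⊆ AscL (sgen P) w then (1 : ℂ) else 0)) *
        (∑ K ∈ (Finset.univ : Finset P.S).powerset,
          (-1 : ℂ) ^ K.card * (if (K : Set P.S) ⊆ AscR (sgen P) w then (1 : ℂ) else 0)) := by
    have e1 : ∀ J ∈ (Finset.univ : Finset P.S).powerset,
        ∑ K ∈ (Finset.univ : Finset P.S).powerset, ∑ w : Wq P,
          ((-1 : ℂ) ^ J.card * (if (J : Set P.S) ⊆ AscL (sgen P) w then (1 : ℂ) else 0)) *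
            ((-1 : ℂ) ^ K.card * (if (K : Set P.S) ⊆ AscR (sgen P) w then (1 : ℂ) else 0)) =
        ∑ w : Wq P, ∑ K ∈ (Finset.univ : Finset P.S).powerset,
          ((-1 : ℂ) ^ J.card * (if (J : Set P.S) ⊆ AscL (sgen P) w then (1 : ℂ) else 0)) *
            ((-1 : ℂ) ^ K.card * (if (K : Set P.S) ⊆ AscR (sgen P) w then (1 : ℂ) else 0)) :=
      fun J _ => Finset.sum_comm
    rw [Finset.sum_congr rfl e1, Finset.sum_comm]
    apply Finset.sum_congr rfl
    intro w _
    rw [Finset.sum_mul_sum]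
  rw [h4]
  simp_rw [sum_powerset_subset, ascL_eq_empty_iff hyp_sgen hL, ascR_eq_empty_iff hyp_sgen hR]
  simp

end Cfsg.Agent.Helper12.BNSt
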