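import Cfsg.Agent.Helper24.TwoTransitive
import Cfsg.Agent.Helper24.Generalized
import Cfsg.Agent.Helper12.BNStF

set_option autoImplicit false

/-!
# The Steinberg character of a finite group with a (B,N)-pair is irreducible
-/

namespace Cfsg.Agent.Helper12.BNSt

open Cfsg Cfsg.Agent.Helper2 Cfsg.Agent.Helper14.ExchCox Cfsg.Agent.Helper24

universe u

variable {G : Type u} [Group G] (P : Cfsg.BNPair G) [hN : ((P.B ⊓ P.N).subgroupOf P.N).Normal]

omit hN in
theorem isCharacter_fixedPointCharacter [Finite G] (H : Subgroup G) :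
    IsCharacter G (fixedPointCharacter H) :=
  isCharacter_permChar (G := G) (G ⧸ H)

omit hN in
theorem isGeneralizedCharacter_altSum [Finite G] [Fintype P.S] :
    IsGeneralizedCharacter G (altSum P) := by
  have e : altSum P = ∑ K ∈ (Finset.univ : Finset P.S).powerset,
      (((-1 : ℤ) ^ K.card : ℤ) : ℂ) • fixedPointCharacter (P.parabolic (Subtype.val '' (K : Set P.S))) := by
    funext g
    unfold altSum
    rw [Finset.sum_apply]
    apply Finset.sum_congr rfl
    intro K _
    rw [Pi.smul_apply, smul_eq_mul]
    push_cast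
    rfl
  rw [e]
  apply isGeneralizedCharacter_sum
  intro K _
  exact IsGeneralizedCharacter.zsmul
    (IsCharacter.isGeneralizedCharacter (isCharacter_fixedPointCharacter _)) _

/-- the value at `1` is a positive natural number -/
theorem altSum_one_pos [Finite G] [Fintype P.S] : ∃ n : ℕ, 0 < n ∧ altSum P 1 = (n : ℂ) := by
  haveI : Finite (Wq P) := by
    haveI : Finite P.N := inferInstance
    exact Quotient.finite _
  obtain ⟨w₀, _, hR⟩ := exists_longest (s := sgen P) hyp_sgen
  obtain ⟨⟨n₀, hn₀⟩, hw⟩ := QuotientGroup.mk_surjective w₀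
  refine ⟨_, ?_, alt_sum_fixed P (Subgroup.one_mem _)⟩
  apply Nat.card_pos_iff.mpr
  refine ⟨⟨⟨QuotientGroup.mk n₀, one_smul _ _, ?_⟩⟩, inferInstance⟩
  rw [typC_mk, typ_of_mem_N P hn₀, hw]
  exact (ascR_eq_empty_iff hyp_sgen hR w₀).mpr rfl

/-- the alternating sum of the parabolic permutation characters is an irreducible character -/
theorem isIrrCharacter_altSum [Fintype G] [Fintype P.S] : IsIrrCharacter G (altSum P) := by
  haveI : Fintype (IrrCharacter G) := Fintype.ofFinite _
  apply IsGeneralizedCharacter.isIrrCharacter_of_classInner_self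
    (isGeneralizedCharacter_altSum P) (classInner_altSum P)
  obtain ⟨n, hn, h1⟩ := altSum_one_pos P
  rw [h1]
  simpa using hn

end Cfsg.Agent.Helper12.BNSt
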