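import Mathlib

set_option autoImplicit false

/-! Polynomial lemmas for the spectrum of `PSL_3(q)`: factorisation types of a monic cubic, and
divisibility of products of linear factors. -/

open Polynomial

namespace Cfsg.Agent.Helper12.PSL3Spec

universe u

variable {K : Type u} [Field K]

/-- The factorisation types of a monic cubic. -/
theorem cubic_cases (χ : K[X]) (hm : χ.Monic) (hd : χ.natDegree = 3) :
    Irreducible χ ∨ ∃ (a : K) (Q : K[X]), χ = (X - C a) * Q ∧ Q.Monic ∧ Q.natDegree = 2 ∧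
      (Irreducible Q ∨ ∃ b c : K, Q = (X - C b) * (X - C c)) := by
  by_cases hroot : ∃ a, IsRoot χ a
  · right
    obtain ⟨a, ha⟩ := hroot
    obtain ⟨Q, hQ⟩ := dvd_iff_isRoot.2 ha
    have hQm : Q.Monic := by
      have h1 : ((X - C a) * Q).Monic := hQ ▸ hm
      exact (monic_X_sub_C a).of_mul_monic_left h1
    have hQd : Q.natDegree = 2 := by
      have h1 := congrArg natDegree hQ
      rw [Monic.natDegree_mul (monic_X_sub_C a) hQm, natDegree_X_sub_C, hd] at h1
      omega
    refine ⟨a, Q, hQ, hQm, hQd, ?_⟩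
    by_cases hroot2 : ∃ b, IsRoot Q b
    · right
      obtain ⟨b, hb⟩ := hroot2
      obtain ⟨R, hR⟩ := dvd_iff_isRoot.2 hb
      have hRm : R.Monic := by
        have h1 : ((X - C b) * R).Monic := hR ▸ hQm
        exact (monic_X_sub_C b).of_mul_monic_left h1
      have hRd : R.natDegree = 1 := by
        have h1 := congrArg natDegree hR
        rw [Monic.natDegree_mul (monic_X_sub_C b) hRm, natDegree_X_sub_C, hQd] at h1
        omega
      refine ⟨b, -R.coeff 0, ?_⟩
      rw [hR]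
      congr 1
      have h2 := hRm.eq_X_add_C hRd
      rw [h2, map_neg, sub_neg_eq_add]
      simp
    · left
      push Not at hroot2
      apply irreducible_of_degree_le_three_of_not_isRoot
      · rw [hQd]
        decide
      · exact hroot2
  · left
    push Not at hroot
    apply irreducible_of_degree_le_three_of_not_isRoot
    · rw [hd]
      decide
    · exact hroot

theorem X_sub_C_dvd_X_pow_sub_C (a c : K) (M : ℕ) (h : a ^ M = c) :
    (X - C a : K[X]) ∣ X ^ M - C c := by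
  rw [dvd_iff_isRoot, IsRoot, eval_sub, eval_pow, eval_X, eval_C, h, sub_self]

theorem isCoprime_X_sub_C {a b : K} (h : a ≠ b) : IsCoprime (X - C a : K[X]) (X - C b) :=
  isCoprime_X_sub_C_of_isUnit_sub (isUnit_iff_ne_zero.2 (sub_ne_zero.2 h))

/-- Three distinct linear factors. -/
theorem three_distinct_dvd (a b c e : K) (M : ℕ) (hab : a ≠ b) (hac : a ≠ c) (hbc : b ≠ c)
    (ha : a ^ M = e) (hb : b ^ M = e) (hc : c ^ M = e) :
    ((X - C a) * ((X - C b) * (X - C c)) : K[X]) ∣ X ^ M - C e := by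
  have h1 : IsCoprime (X - C b : K[X]) (X - C c) := isCoprime_X_sub_C hbc
  have h2 : IsCoprime (X - C a : K[X]) ((X - C b) * (X - C c)) :=
    IsCoprime.mul_right (isCoprime_X_sub_C hab) (isCoprime_X_sub_C hac)
  exact h2.mul_dvd (X_sub_C_dvd_X_pow_sub_C a e M ha)
    (h1.mul_dvd (X_sub_C_dvd_X_pow_sub_C b e M hb) (X_sub_C_dvd_X_pow_sub_C c e M hc))

/-- `(X - a)^2 (X - c)` divides `(X^m - a^m)^p` when `c^m = a^m` and (`a ≠ c` or `p ≥ 3`). -/
theorem sq_mul_dvd_pow (a c : K) (m p : ℕ) (hp : 2 ≤ p) (hc : c ^ m = a ^ m)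
    (h : a ≠ c ∨ 3 ≤ p) :
    ((X - C a) * ((X - C a) * (X - C c)) : K[X]) ∣ (X ^ m - C (a ^ m)) ^ p := by
  have h1 : (X - C a : K[X]) ∣ X ^ m - C (a ^ m) := X_sub_C_dvd_X_pow_sub_C a _ m rfl
  have h2 : (X - C c : K[X]) ∣ X ^ m - C (a ^ m) := X_sub_C_dvd_X_pow_sub_C c _ m hc
  by_cases hac : a = c
  · have hp3 : 3 ≤ p := by
      rcases h with h | h
      · exact absurd hac h
      · exact h
    rw [← hac]
    have h3 : ((X - C a) * ((X - C a) * (X - C a)) : K[X]) = (X - C a) ^ 3 := by ring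
    rw [h3]
    exact (pow_dvd_pow _ hp3).trans (pow_dvd_pow_of_dvd h1 p)
  · have h3 : ((X - C a) * ((X - C a) * (X - C c)) : K[X]) = (X - C a) ^ 2 * (X - C c) := by ring
    rw [h3]
    have hcop : IsCoprime ((X - C a : K[X]) ^ 2) (X - C c) := (isCoprime_X_sub_C hac).pow_left
    apply hcop.mul_dvd
    · exact (pow_dvd_pow _ hp).trans (pow_dvd_pow_of_dvd h1 p)
    · exact h2.trans (dvd_pow_self _ (by omega))

/-- In characteristic `p`, `(X^m - e)^p = X^(m p) - e^p`. -/
theorem sub_C_pow_char (p : ℕ) [Fact p.Prime] [CharP K p] (m : ℕ) (e : K) :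
    (X ^ m - C e : K[X]) ^ p = X ^ (p * m) - C (e ^ p) := by
  rw [sub_pow_char, ← pow_mul, mul_comm m p, ← map_pow]

end Cfsg.Agent.Helper12.PSL3Spec
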