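import Mathlib
import Cfsg.Agent.Helper12.PSL3SpecA

set_option autoImplicit false

/-! Finite-field lemmas for the spectrum of `PSL_3(q)`. -/

open Polynomial

namespace Cfsg.Agent.Helper12.PSL3Spec

universe u

variable {K : Type u} [Field K] [Fintype K]

theorem gcd_three_cases (n : ℕ) : Nat.gcd 3 n = 1 ∨ Nat.gcd 3 n = 3 := by
  have h : Nat.gcd 3 n ∣ 3 := Nat.gcd_dvd_left 3 n
  have h3 : Nat.Prime 3 := by norm_num
  exact (Nat.dvd_prime h3).1 h

/-- A primitive cube root of unity when `3 ∣ q - 1`. -/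
theorem exists_cube_root (h3 : 3 ∣ Fintype.card K - 1) : ∃ ω : K, ω ^ 2 + ω + 1 = 0 := by
  classical
  obtain ⟨ζ, hζ⟩ : ∃ ζ : Kˣ, orderOf ζ = Nat.card Kˣ := IsCyclic.exists_ofOrder_eq_natCard
  rw [Nat.card_units, Nat.card_eq_fintype_card] at hζ
  obtain ⟨k, hk⟩ := h3
  have hq2 : 2 ≤ Fintype.card K := Fintype.one_lt_card
  have hk0 : 0 < k := by
    rcases Nat.eq_zero_or_pos k with h | h
    · rw [h] at hk
      omega
    · exact h
  refine ⟨((ζ ^ k : Kˣ) : K), ?_⟩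
  have h1 : (ζ ^ k) ^ 3 = 1 := by
    rw [← pow_mul, mul_comm, ← hk, ← hζ, pow_orderOf_eq_one]
  have h2 : ζ ^ k ≠ 1 := by
    intro h
    have := orderOf_dvd_of_pow_eq_one h
    rw [hζ, hk] at this
    have := Nat.le_of_dvd hk0 this
    omega
  have h1' : ((ζ ^ k : Kˣ) : K) ^ 3 = 1 := by
    rw [← Units.val_pow_eq_pow_val, h1, Units.val_one]
  have h2' : ((ζ ^ k : Kˣ) : K) ≠ 1 := by
    intro h
    apply h2
    exact Units.ext h
  have h3 : (((ζ ^ k : Kˣ) : K) - 1) * (((ζ ^ k : Kˣ) : K) ^ 2 + ((ζ ^ k : Kˣ) : K) + 1) = 0 := by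
    have : (((ζ ^ k : Kˣ) : K) - 1) * (((ζ ^ k : Kˣ) : K) ^ 2 + ((ζ ^ k : Kˣ) : K) + 1) =
        ((ζ ^ k : Kˣ) : K) ^ 3 - 1 := by ring
    rw [this, h1', sub_self]
  rcases mul_eq_zero.1 h3 with h | h
  · exact absurd (sub_eq_zero.1 h) h2'
  · exact h

/-- An irreducible factor of `X^N - 1` divides `X^(N/d) - c` for some `c`, `d = gcd(3, q-1)`. -/
theorem exists_dvd_sub_C (P : K[X]) (hP : Irreducible P) (N : ℕ)
    (hd : Nat.gcd 3 (Fintype.card K - 1) ∣ N) (h : P ∣ (X ^ N - 1 : K[X])) :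
    ∃ c : K, P ∣ (X ^ (N / Nat.gcd 3 (Fintype.card K - 1)) - C c : K[X]) := by
  rcases gcd_three_cases (Fintype.card K - 1) with h1 | h3
  · rw [h1, Nat.div_one]
    refine ⟨1, ?_⟩
    rwa [map_one]
  · rw [h3] at hd ⊢
    obtain ⟨ω, hω⟩ := exists_cube_root (K := K) (by rw [← h3]; exact Nat.gcd_dvd_right _ _)
    obtain ⟨M, hM⟩ := hd
    have hM' : N / 3 = M := by omega
    rw [hM']
    have hfac : (X ^ N - 1 : K[X]) = (X ^ M - C 1) * ((X ^ M - C ω) * (X ^ M - C (ω ^ 2))) := by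
      rw [hM, pow_mul']
      have h0 : (C ω : K[X]) ^ 2 + C ω + 1 = 0 := by
        rw [← map_pow, ← map_one C, ← map_add, ← map_add, hω, map_zero]
      rw [map_one, map_pow]
      linear_combination ((X ^ M : K[X]) - 1) * ((X ^ M : K[X]) + 1 - C ω) * h0
    rw [hfac] at h
    rcases hP.prime.dvd_or_dvd h with h | h
    · exact ⟨1, h⟩
    · rcases hP.prime.dvd_or_dvd h with h | h
      · exact ⟨ω, h⟩
      · exact ⟨ω ^ 2, h⟩

/-- The root of an irreducible polynomial `Q` in `AdjoinRoot Q` has norm `(-1)^deg Q(0)`. -/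
theorem root_pow_sum (Q : K[X]) (hQm : Q.Monic) (hQi : Irreducible Q) :
    haveI : Fact (Irreducible Q) := ⟨hQi⟩
    (AdjoinRoot.root Q) ^ ∑ i ∈ Finset.range Q.natDegree, Fintype.card K ^ i =
      algebraMap K (AdjoinRoot Q) ((-1) ^ Q.natDegree * Q.coeff 0) := by
  have : Fact (Irreducible Q) := ⟨hQi⟩
  have hQ0 : Q ≠ 0 := hQi.ne_zero
  have hfinmod : Module.Finite K (AdjoinRoot Q) := (AdjoinRoot.powerBasis hQ0).finite
  have hfin : Finite (AdjoinRoot Q) := Module.finite_of_finite K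
  have h1 := FiniteField.algebraMap_norm_eq_pow_sum K (AdjoinRoot Q) (AdjoinRoot.root Q)
  have h2 := Algebra.PowerBasis.norm_gen_eq_coeff_zero_minpoly (AdjoinRoot.powerBasis hQ0)
  rw [AdjoinRoot.powerBasis_gen, AdjoinRoot.powerBasis_dim, AdjoinRoot.minpoly_root hQ0,
    hQm.leadingCoeff, inv_one, map_one, mul_one] at h2
  rw [h2, (AdjoinRoot.powerBasis hQ0).finrank, AdjoinRoot.powerBasis_dim,
    Nat.card_eq_fintype_card] at h1
  exact h1.symm

/-- An irreducible cubic with constant term `-1` divides `X^((q^2+q+1)/d) - c`. -/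
theorem irreducible_cubic_dvd (χ : K[X]) (hm : χ.Monic) (hi : Irreducible χ)
    (hd : χ.natDegree = 3) (h0 : χ.coeff 0 = -1) :
    ∃ c : K, χ ∣ (X ^ ((Fintype.card K ^ 2 + Fintype.card K + 1) /
      Nat.gcd 3 (Fintype.card K - 1)) - C c : K[X]) := by
  have : Fact (Irreducible χ) := ⟨hi⟩
  have h1 := root_pow_sum χ hm hi
  rw [hd, h0] at h1
  have hsum : ∑ i ∈ Finset.range 3, Fintype.card K ^ i =
      Fintype.card K ^ 2 + Fintype.card K + 1 := by
    rw [Finset.sum_range_succ, Finset.sum_range_succ, Finset.sum_range_one]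
    ring
  rw [hsum] at h1
  have h2 : ((-1 : K) ^ 3 * -1) = 1 := by norm_num
  rw [h2, map_one] at h1
  have h3 : χ ∣ (X ^ (Fintype.card K ^ 2 + Fintype.card K + 1) - 1 : K[X]) := by
    rw [← AdjoinRoot.mk_eq_zero, map_sub, map_pow, AdjoinRoot.mk_X, map_one, h1, sub_self]
  apply exists_dvd_sub_C χ hi _ _ h3
  rcases gcd_three_cases (Fintype.card K - 1) with h | h
  · rw [h]
    exact one_dvd _
  · rw [h]
    have h4 : 3 ∣ Fintype.card K - 1 := by
      rw [← h]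
      exact Nat.gcd_dvd_right _ _
    obtain ⟨k, hk⟩ := h4
    have hq : Fintype.card K = 3 * k + 1 := by
      have : 1 ≤ Fintype.card K := Fintype.card_pos
      omega
    rw [hq]
    exact ⟨3 * k ^ 2 + 3 * k + 1, by ring⟩

end Cfsg.Agent.Helper12.PSL3Spec
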