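import Mathlib
import Cfsg.Agent.Helper12.PSL3SpecB

set_option autoImplicit false

/-! The spectrum of `PSL_3(q)`: the upper bound. -/

open Polynomial

namespace Cfsg.Agent.Helper12.PSL3Spec

universe u

variable {K : Type u} [Field K] [Fintype K]

theorem gcd_dvd_card_add_two :
    Nat.gcd 3 (Fintype.card K - 1) ∣ Fintype.card K + 2 := by
  have h1 : Nat.gcd 3 (Fintype.card K - 1) ∣ 3 := Nat.gcd_dvd_left _ _
  have h2 : Nat.gcd 3 (Fintype.card K - 1) ∣ Fintype.card K - 1 := Nat.gcd_dvd_right _ _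
  have h3 : Fintype.card K + 2 = (Fintype.card K - 1) + 3 := by
    have : 1 ≤ Fintype.card K := Fintype.card_pos
    omega
  rw [h3]
  exact dvd_add h2 h1

/-- A linear factor times an irreducible quadratic, with constant term `-1`. -/
theorem linear_quadratic_dvd (a : K) (Q : K[X]) (hQm : Q.Monic) (hQi : Irreducible Q)
    (hQd : Q.natDegree = 2) (h0 : a * Q.coeff 0 = 1) :
    ∃ c : K, (X - C a) * Q ∣ (X ^ ((Fintype.card K ^ 2 - 1) /
      Nat.gcd 3 (Fintype.card K - 1)) - C c : K[X]) := by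
  have hfact : Fact (Irreducible Q) := ⟨hQi⟩
  have hQ0 : Q ≠ 0 := hQi.ne_zero
  have hq1 : 1 ≤ Fintype.card K := Fintype.card_pos
  have h1 := root_pow_sum Q hQm hQi
  rw [hQd] at h1
  have hsum : ∑ i ∈ Finset.range 2, Fintype.card K ^ i = 1 + Fintype.card K := by
    rw [Finset.sum_range_succ, Finset.sum_range_one]
    ring
  rw [hsum] at h1
  have h2 : ((-1 : K) ^ 2 * Q.coeff 0) = Q.coeff 0 := by ring
  rw [h2] at h1
  have hc0 : Q.coeff 0 ≠ 0 := by
    intro h
    rw [h, mul_zero] at h0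
    exact zero_ne_one h0
  have hβ0 : AdjoinRoot.root Q ≠ 0 := by
    intro h
    rw [h, zero_pow (by omega)] at h1
    exact hc0 ((map_eq_zero _).1 h1.symm)
  have hfinmod : Module.Finite K (AdjoinRoot Q) := (AdjoinRoot.powerBasis hQ0).finite
  have hfin : Finite (AdjoinRoot Q) := Module.finite_of_finite K
  have hft : Fintype (AdjoinRoot Q) := Fintype.ofFinite _
  have hcard : Fintype.card (AdjoinRoot Q) = Fintype.card K ^ 2 := by
    rw [Module.card_eq_pow_finrank (K := K), (AdjoinRoot.powerBasis hQ0).finrank]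
    rw [AdjoinRoot.powerBasis_dim, hQd]
  have hβq : (AdjoinRoot.root Q) ^ (Fintype.card K ^ 2 - 1) = 1 := by
    rw [← hcard]
    exact FiniteField.pow_card_sub_one_eq_one _ hβ0
  have hQN : Q ∣ (X ^ (Fintype.card K ^ 2 - 1) - 1 : K[X]) := by
    rw [← AdjoinRoot.mk_eq_zero, map_sub, map_pow, AdjoinRoot.mk_X, map_one, hβq, sub_self]
  have hdq : Nat.gcd 3 (Fintype.card K - 1) ∣ Fintype.card K ^ 2 - 1 := by
    have h3 : Fintype.card K - 1 ∣ Fintype.card K ^ 2 - 1 := by
      have := Nat.sub_dvd_pow_sub_pow (Fintype.card K) 1 2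
      rwa [one_pow] at this
    exact (Nat.gcd_dvd_right _ _).trans h3
  obtain ⟨c, hc⟩ := exists_dvd_sub_C Q hQi _ hdq hQN
  refine ⟨c, ?_⟩
  obtain ⟨m, hm⟩ : ∃ m, m = (Fintype.card K ^ 2 - 1) / Nat.gcd 3 (Fintype.card K - 1) := ⟨_, rfl⟩
  rw [← hm] at hc ⊢
  have hdm : Nat.gcd 3 (Fintype.card K - 1) * m = Fintype.card K ^ 2 - 1 := by
    rw [hm]
    exact Nat.mul_div_cancel' hdq
  have hβm : (AdjoinRoot.root Q) ^ m = algebraMap K (AdjoinRoot Q) c := by
    have := AdjoinRoot.mk_eq_zero.2 hc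
    rw [map_sub, map_pow, AdjoinRoot.mk_X, AdjoinRoot.mk_C, sub_eq_zero] at this
    exact this
  -- `β ^ ((q + 2) m) = 1`
  obtain ⟨e, he⟩ := gcd_dvd_card_add_two (K := K)
  have hβ2 : (AdjoinRoot.root Q) ^ ((Fintype.card K + 2) * m) = 1 := by
    rw [he, mul_comm (Nat.gcd 3 (Fintype.card K - 1)) e, mul_assoc, hdm, mul_comm, pow_mul, hβq,
      one_pow]
  have hsplit : (Fintype.card K + 2) * m = m + (1 + Fintype.card K) * m := by ring
  rw [hsplit, pow_add] at hβ2
  have ha1 : (algebraMap K (AdjoinRoot Q) a) ^ m *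
      (AdjoinRoot.root Q) ^ ((1 + Fintype.card K) * m) = 1 := by
    rw [pow_mul, ← mul_pow, h1, ← map_mul, h0, map_one, one_pow]
  have hne : (AdjoinRoot.root Q) ^ ((1 + Fintype.card K) * m) ≠ 0 := pow_ne_zero _ hβ0
  have hfin2 : (AdjoinRoot.root Q) ^ m = (algebraMap K (AdjoinRoot Q) a) ^ m := by
    apply mul_right_cancel₀ hne
    rw [hβ2, ha1]
  have ham : a ^ m = c := by
    apply (algebraMap K (AdjoinRoot Q)).injective
    rw [map_pow, ← hfin2, hβm]
  have hcop : IsCoprime (X - C a : K[X]) Q := by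
    apply IsCoprime.symm
    rw [hQi.coprime_iff_not_dvd]
    intro h
    have := natDegree_le_of_dvd h (X_sub_C_ne_zero a)
    rw [hQd, natDegree_X_sub_C] at this
    omega
  exact hcop.mul_dvd (X_sub_C_dvd_X_pow_sub_C a c m ham) hc

/-- The double root case. -/
theorem double_root_pow (a c : K) (hac : a * a * c = 1) :
    c ^ ((Fintype.card K - 1) / Nat.gcd 3 (Fintype.card K - 1)) =
      a ^ ((Fintype.card K - 1) / Nat.gcd 3 (Fintype.card K - 1)) := by
  obtain ⟨m, hm⟩ : ∃ m, m = (Fintype.card K - 1) / Nat.gcd 3 (Fintype.card K - 1) := ⟨_, rfl⟩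
  rw [← hm]
  have ha0 : a ≠ 0 := by
    rintro rfl
    rw [zero_mul, zero_mul] at hac
    exact zero_ne_one hac
  have hdm : Nat.gcd 3 (Fintype.card K - 1) * m = Fintype.card K - 1 := by
    rw [hm]
    exact Nat.mul_div_cancel' (Nat.gcd_dvd_right _ _)
  have haq : a ^ (Fintype.card K - 1) = 1 := FiniteField.pow_card_sub_one_eq_one a ha0
  have h3 : a ^ (3 * m) = 1 := by
    obtain ⟨e, he⟩ := Nat.gcd_dvd_left 3 (Fintype.card K - 1)
    have : 3 * m = e * (Fintype.card K - 1) := by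
      rw [← hdm]
      conv_lhs => rw [he]
      ring
    rw [this, mul_comm, pow_mul, haq, one_pow]
  have h4 : c ^ m * a ^ (2 * m) = 1 := by
    rw [pow_mul, ← mul_pow]
    have : c * a ^ 2 = 1 := by rw [← hac]; ring
    rw [this, one_pow]
  have h5 : a ^ m * a ^ (2 * m) = 1 := by
    rw [← pow_add]
    have : m + 2 * m = 3 * m := by ring
    rw [this, h3]
  have hne : a ^ (2 * m) ≠ 0 := pow_ne_zero _ ha0
  apply mul_right_cancel₀ hne
  rw [h4, h5]

end Cfsg.Agent.Helper12.PSL3Spec
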