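import Mathlib
import Cfsg.Agent.Helper12.PSL3SpecC

set_option autoImplicit false

/-! The spectrum of `PSL_3(q)`: the upper bound, assembled. -/

open Polynomial

namespace Cfsg.Agent.Helper12.PSL3Spec

universe u

variable {K : Type u} [Field K]

/-- If the characteristic polynomial of `g ∈ SL_n` divides `X^M - c`, the image of `g` in `PSL_n`
has order dividing `M`. -/
theorem orderOf_mk_dvd {n : ℕ} (g : Matrix.SpecialLinearGroup (Fin n) K) (M : ℕ) (c : K)
    (h : (g : Matrix (Fin n) (Fin n) K).charpoly ∣ (X ^ M - C c : K[X])) :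
    orderOf (QuotientGroup.mk g : Matrix.ProjectiveSpecialLinearGroup (Fin n) K) ∣ M := by
  apply orderOf_dvd_of_pow_eq_one
  rw [← QuotientGroup.mk_pow, QuotientGroup.eq_one_iff, Matrix.SpecialLinearGroup.mem_center_iff]
  have h1 : aeval (g : Matrix (Fin n) (Fin n) K) (X ^ M - C c : K[X]) = 0 := by
    obtain ⟨R, hR⟩ := h
    rw [hR, map_mul, Matrix.aeval_self_charpoly, zero_mul]
  rw [map_sub, map_pow, aeval_X, aeval_C, sub_eq_zero] at h1
  have h2 : ((g ^ M : Matrix.SpecialLinearGroup (Fin n) K) : Matrix (Fin n) (Fin n) K) =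
      Matrix.scalar (Fin n) c := by
    rw [Matrix.SpecialLinearGroup.coe_pow, h1]
    rfl
  refine ⟨c, ?_, h2.symm⟩
  have h3 := (g ^ M).2
  rw [h2, Matrix.scalar_apply, Matrix.det_diagonal, Finset.prod_const, Finset.card_univ] at h3
  exact h3

variable [Fintype K]

/-- The order of every element of `PSL_3(q)` divides one of the listed numbers. -/
theorem orderOf_mk_cases (p : ℕ) [Fact p.Prime] [CharP K p]
    (g : Matrix.SpecialLinearGroup (Fin 3) K) :
    orderOf (QuotientGroup.mk g : Matrix.ProjectiveSpecialLinearGroup (Fin 3) K) ∣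
        (Fintype.card K ^ 2 + Fintype.card K + 1) / Nat.gcd 3 (Fintype.card K - 1) ∨
      orderOf (QuotientGroup.mk g : Matrix.ProjectiveSpecialLinearGroup (Fin 3) K) ∣
        (Fintype.card K ^ 2 - 1) / Nat.gcd 3 (Fintype.card K - 1) ∨
      orderOf (QuotientGroup.mk g : Matrix.ProjectiveSpecialLinearGroup (Fin 3) K) ∣
        Fintype.card K - 1 ∨
      orderOf (QuotientGroup.mk g : Matrix.ProjectiveSpecialLinearGroup (Fin 3) K) ∣
        p * (Fintype.card K - 1) / Nat.gcd 3 (Fintype.card K - 1) ∨
      (p = 2 ∧ orderOf (QuotientGroup.mk g : Matrix.ProjectiveSpecialLinearGroup (Fin 3) K) ∣ 4) := by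
  have hp : p.Prime := Fact.out
  obtain ⟨χ, hχ⟩ : ∃ χ, χ = (g : Matrix (Fin 3) (Fin 3) K).charpoly := ⟨_, rfl⟩
  have hχm : χ.Monic := by rw [hχ]; exact Matrix.charpoly_monic _
  have hχd : χ.natDegree = 3 := by
    rw [hχ, Matrix.charpoly_natDegree_eq_dim, Fintype.card_fin]
  have hχ0 : χ.coeff 0 = -1 := by
    have h1 := Matrix.det_eq_sign_charpoly_coeff (g : Matrix (Fin 3) (Fin 3) K)
    rw [g.2, Fintype.card_fin, ← hχ] at h1
    have : (-1 : K) ^ 3 = -1 := by norm_num
    rw [this] at h1
    linear_combination h1
  -- the double root case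
  have hdouble : ∀ a c : K, a * a * c = 1 → χ = (X - C a) * ((X - C a) * (X - C c)) →
      orderOf (QuotientGroup.mk g : Matrix.ProjectiveSpecialLinearGroup (Fin 3) K) ∣
        p * (Fintype.card K - 1) / Nat.gcd 3 (Fintype.card K - 1) ∨
      (p = 2 ∧ orderOf (QuotientGroup.mk g : Matrix.ProjectiveSpecialLinearGroup (Fin 3) K) ∣ 4) := by
    intro a c hac hfac
    by_cases hcase : a = c ∧ p = 2
    · right
      refine ⟨hcase.2, ?_⟩
      apply orderOf_mk_dvd g 4 (a ^ 4)
      rw [← hχ, hfac, ← hcase.1]
      have hp2 := hcase.2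
      subst hp2
      have h1 : (X ^ 4 - C (a ^ 4) : K[X]) = (X - C a) ^ 4 := by
        have e1 := sub_pow_char_pow (R := K[X]) (p := 2) (n := 2) (X : K[X]) (C a)
        have e4 : (2 : ℕ) ^ 2 = 4 := by norm_num
        rw [e4] at e1
        rw [e1, map_pow]
      rw [h1]
      exact ⟨X - C a, by ring⟩
    · left
      have hor : a ≠ c ∨ 3 ≤ p := by
        by_cases h : a = c
        · right
          have h2 : p ≠ 2 := fun h2 => hcase ⟨h, h2⟩
          have := hp.two_le
          omega
        · exact Or.inl h
      rw [Nat.mul_div_assoc _ (Nat.gcd_dvd_right _ _)]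
      apply orderOf_mk_dvd g _
        ((a ^ ((Fintype.card K - 1) / Nat.gcd 3 (Fintype.card K - 1))) ^ p)
      rw [← hχ, hfac, ← sub_C_pow_char]
      exact sq_mul_dvd_pow a c _ p hp.two_le (double_root_pow a c hac) hor
  rcases cubic_cases χ hχm hχd with hirr | ⟨a, Q, hfac, hQm, hQd, hQ⟩
  · left
    obtain ⟨c, hc⟩ := irreducible_cubic_dvd χ hχm hirr hχd hχ0
    rw [hχ] at hc
    exact orderOf_mk_dvd g _ c hc
  · have hQ0 : a * Q.coeff 0 = 1 := by
      have h1 := hχ0
      rw [hfac, mul_coeff_zero, coeff_sub, coeff_X_zero, coeff_C_zero] at h1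
      linear_combination -h1
    rcases hQ with hQi | ⟨b, c, hQbc⟩
    · right; left
      obtain ⟨e, he⟩ := linear_quadratic_dvd a Q hQm hQi hQd hQ0
      rw [← hfac, hχ] at he
      exact orderOf_mk_dvd g _ e he
    · have habc : a * (b * c) = 1 := by
        rw [hQbc, mul_coeff_zero, coeff_sub, coeff_sub, coeff_X_zero, coeff_C_zero,
          coeff_C_zero] at hQ0
        linear_combination hQ0
      rw [hQbc] at hfac
      have ha0 : a ≠ 0 := by
        rintro rfl
        rw [zero_mul] at habc
        exact zero_ne_one habc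
      have hb0 : b ≠ 0 := by
        rintro rfl
        rw [zero_mul, mul_zero] at habc
        exact zero_ne_one habc
      have hc0 : c ≠ 0 := by
        rintro rfl
        rw [mul_zero, mul_zero] at habc
        exact zero_ne_one habc
      by_cases hab : a = b
      · right; right; right
        apply hdouble a c
        · rw [← habc, hab]
          ring
        · rw [hfac, hab]
      · by_cases hac : a = c
        · right; right; right
          apply hdouble a b
          · rw [← habc, ← hac]
            ring
          · rw [hfac, ← hac]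
            ring
        · by_cases hbc : b = c
          · right; right; right
            apply hdouble b a
            · rw [← habc, ← hbc]
              ring
            · rw [hfac, ← hbc]
              ring
          · right; right; left
            apply orderOf_mk_dvd g _ 1
            rw [← hχ, hfac]
            exact three_distinct_dvd a b c 1 _ hab hac hbc
              (FiniteField.pow_card_sub_one_eq_one a ha0)
              (FiniteField.pow_card_sub_one_eq_one b hb0)
              (FiniteField.pow_card_sub_one_eq_one c hc0)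

end Cfsg.Agent.Helper12.PSL3Spec
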