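import Mathlib
import Cfsg.Prelude.Def_CaseTheorems

/-!
# S3222: shared definitions for the piece board

`G` finite, `t` a 2-central involution with `C_G(t) ≅ Z₂ × S₄`, and `C_G(S') = S` for every Sylow
2-subgroup `S`.  Then `G = C_G(t)` (solvable case) or `G ≅ S₆`.

`Local t T` collects the purely local consequences of the hypotheses (all of them are statements
about `C_G(t)` and the Sylow 2-subgroup `T ≤ C_G(t)`, obtained by transporting computations in
`Z₂ × S₄`).  `Fus t T z a r` is the fusion package: `z` generates `T'`, `a` is a non-central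
involution of `T` ("transposition type"), `r ∈ T` with `[r, a] = z`.
-/

set_option autoImplicit false

namespace Cfsg.Agent.S3222P

/-- The model of the involution centraliser. -/
abbrev Gam : Type := Multiplicative (ZMod 2) × Equiv.Perm (Fin 4)

/-- Local data: consequences of `C_G(t) ≅ Z₂ × S₄` with `T ≤ C_G(t)` a Sylow 2-subgroup of `G`. -/
structure Local {G : Type*} [Group G] (t : G) (T : Sylow 2 G) : Prop where
  ht : orderOf t = 2
  htT : t ∈ (T : Subgroup G)
  htc : ∀ s ∈ (T : Subgroup G), s * t = t * s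
  cardC : Nat.card ↥(Subgroup.centralizer ({t} : Set G)) = 48
  cardT : Nat.card ↥(T : Subgroup G) = 16
  solvC : Group.IsSolvable ↥(Subgroup.centralizer ({t} : Set G))
  /-- `C_G(t)` has no non-trivial normal subgroup of odd order -/
  oddC : ∀ N : Subgroup G, N ≤ Subgroup.centralizer ({t} : Set G) →
    (∀ g ∈ Subgroup.centralizer ({t} : Set G), ∀ x ∈ N, g * x * g⁻¹ ∈ N) →
    Odd (Nat.card ↥N) → N = ⊥
  /-- every element of `T` has centraliser of order divisible by 8 -/
  cent8 : ∀ u ∈ (T : Subgroup G), 8 ∣ Nat.card ↥(Subgroup.centralizer ({u} : Set G))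
  /-- every subgroup of index 2 of `T` not containing `t` is dihedral of order 8 -/
  dih : ∀ Q : Subgroup G, Q ≤ (T : Subgroup G) → Q.relIndex (T : Subgroup G) = 2 → t ∉ Q →
    Nonempty (↥Q ≃* DihedralGroup 4)

/-- The fusion package. -/
structure Fus {G : Type*} [Group G] (t : G) (T : Sylow 2 G) (z a r : G) : Prop where
  hz : orderOf z = 2
  ha : orderOf a = 2
  hzT : z ∈ (T : Subgroup G)
  haT : a ∈ (T : Subgroup G)
  hrT : r ∈ (T : Subgroup G)
  /-- `z = [r, a]`, so `z` lies in every normal subgroup with abelian quotient and `r a r⁻¹ = a z` -/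
  hcomm : z = r * a * r⁻¹ * a⁻¹
  /-- hypothesis (2): `C_G(T') = T` with `T' = ⟨z⟩` -/
  hCz : Subgroup.centralizer ({z} : Set G) = (T : Subgroup G)
  /-- `Z(T) = {1, t, z, tz}` -/
  hZT : ∀ x ∈ (T : Subgroup G), (∀ y ∈ (T : Subgroup G), x * y = y * x) →
    x = 1 ∨ x = t ∨ x = z ∨ x = t * z
  /-- the index-2 subgroup `1 × D₈` of `T`: its involutions are `C_G(t)`-conjugate to `z` or `a` -/
  hQ1 : ∃ Q : Subgroup G, Q ≤ (T : Subgroup G) ∧ Q.relIndex (T : Subgroup G) = 2 ∧ t ∉ Q ∧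
    ∀ x ∈ Q, orderOf x = 2 → IsConj z x ∨ IsConj a x
  /-- the index-2 subgroup `V ∪ t(D₈ ∖ V)` of `T`: its involutions are conjugate to `z` or `t a` -/
  hQ2 : ∃ Q : Subgroup G, Q ≤ (T : Subgroup G) ∧ Q.relIndex (T : Subgroup G) = 2 ∧ t ∉ Q ∧
    ∀ x ∈ Q, orderOf x = 2 → IsConj z x ∨ IsConj (t * a) x
  /-- the elementary abelian subgroup `A = ⟨t, a, z⟩` of order 8 and `N_{C_G(t)}(A) ≤ T` -/
  hA : ∃ A : Subgroup G,
    (∀ x : G, x ∈ A ↔ x = 1 ∨ x = t ∨ x = a ∨ x = a * z ∨ x = z ∨ x = t * a ∨ x = t * a * z ∨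
      x = t * z) ∧ Nat.card ↥A = 8 ∧
    ∀ g : G, g * t = t * g → (∀ x ∈ A, g * x * g⁻¹ ∈ A) → g ∈ (T : Subgroup G)

end Cfsg.Agent.S3222P
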