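import Mathlib
import Cfsg.Prelude.Def_Characters
import Cfsg.Agent.Helper11.SelfCentTI
import Cfsg.Agent.Helper24.ColumnOrth

/-!
# The character table of a Suzuki-type group: definitions

An abstract configuration `Cfg G` recording the local structure of a Suzuki group `Sz(q)`
(`q = 2^(2m+1)`, `r = 2^(m+1)`, so `r^2 = 2q`): a Sylow `2`-subgroup `U` of order `q^2`, three
self-centralising TI subgroups `A0`, `A1`, `A2` of orders `q - 1`, `q + r + 1`, `q - r + 1` whose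
normalisers have index `2`, `4`, `4`, one class of involutions, two classes of elements of order `4`.
The explicit class functions `cX`, `cF0`, `cF1`, `cF2` are the irreducible characters of degrees
`q^2`, `q^2 + 1`, `(q - r + 1)(q - 1)`, `(q + r + 1)(q - 1)`.
-/

set_option autoImplicit false

namespace Cfsg.Agent.SZT

open Cfsg Cfsg.Agent.Helper11.SCTI
open scoped Classical ComplexConjugate

universe u

variable {G : Type u} [Group G] [Fintype G]

/-- the dual group of a finite group is a finite type -/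
noncomputable scoped instance instFintypeDual (A : Type u) [Group A] [Finite A] :
    Fintype (A →* ℂˣ) := Fintype.ofFinite _

/-- the irreducible characters of a finite group form a finite type -/
noncomputable scoped instance instFintypeIrr (H : Type u) [Group H] [Finite H] :
    Fintype (IrrCharacter H) := Fintype.ofFinite _

/-- the sum of the values of `θ` over the non-identity elements of `A` conjugate in `G` to `g` -/
noncomputable def orbSum (A : Subgroup G) (θ : A →* ℂˣ) (g : G) : ℂ :=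
  ∑ a : A, if (a : G) ≠ 1 ∧ IsConj (a : G) g then ((θ a : ℂˣ) : ℂ) else 0

/-- the `2`-singular part of the class functions: `d` at `1`, `s` at involutions, `t` at elements
of order `4`, and `0` elsewhere -/
noncomputable def base (d s t : ℂ) (g : G) : ℂ :=
  (if g = 1 then d else 0) + (if orderOf g = 2 then s else 0) + (if orderOf g = 4 then t else 0)

/-- the class function `base d s t + ε • orbSum A θ` -/
noncomputable def phi (d s t ε : ℂ) (A : Subgroup G) (θ : A →* ℂˣ) (g : G) : ℂ :=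
  base d s t g + ε * orbSum A θ g

/-- the conjugation action of the normaliser of `A` on `A` -/
noncomputable def conjN (A : Subgroup G) (n : Subgroup.normalizer (A : Set G)) : A ≃* A :=
  Subgroup.normalizerMonoidHom A n

/-- the restriction to `A` of the character induced from `A` to its normaliser -/
noncomputable def indA (A : Subgroup G) (θ : A →* ℂˣ) (x : A) : ℂ :=
  (Nat.card A : ℂ)⁻¹ * ∑ n : Subgroup.normalizer (A : Set G), ((θ (conjN A n x) : ℂˣ) : ℂ)

/-- two linear characters of `A` conjugate under the normaliser of `A` -/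
def SameOrb (A : Subgroup G) (θ θ' : A →* ℂˣ) : Prop :=
  ∃ n : Subgroup.normalizer (A : Set G), θ' = θ.comp (conjN A n).toMonoidHom

/-- the local structure of a Suzuki group -/
structure Cfg (G : Type u) [Group G] [Fintype G] where
  q : ℕ
  r : ℕ
  hr : r ^ 2 = 2 * q
  hq : 8 ≤ q
  card_G : Nat.card G = q ^ 2 * (q - 1) * (q ^ 2 + 1)
  U : Subgroup G
  A0 : Subgroup G
  A1 : Subgroup G
  A2 : Subgroup G
  card_U : Nat.card U = q ^ 2
  card_A0 : Nat.card A0 = q - 1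
  card_A1 : Nat.card A1 = q + r + 1
  card_A2 : Nat.card A2 = q + 1 - r
  sc_A0 : SC A0
  sc_A1 : SC A1
  sc_A2 : SC A2
  card_N0 : Nat.card (Subgroup.normalizer (A0 : Set G)) = 2 * (q - 1)
  card_N1 : Nat.card (Subgroup.normalizer (A1 : Set G)) = 4 * (q + r + 1)
  card_N2 : Nat.card (Subgroup.normalizer (A2 : Set G)) = 4 * (q + 1 - r)
  classify : ∀ g : G, g ≠ 1 → orderOf g = 2 ∨ orderOf g = 4 ∨
    (∃ x ∈ A0, x ≠ 1 ∧ IsConj x g) ∨ (∃ x ∈ A1, x ≠ 1 ∧ IsConj x g) ∨
    (∃ x ∈ A2, x ≠ 1 ∧ IsConj x g)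
  invol_conj : ∀ g h : G, orderOf g = 2 → orderOf h = 2 → IsConj g h
  four_conj : ∀ g h : G, orderOf g = 4 → orderOf h = 4 → IsConj g h ∨ IsConj g h⁻¹
  four_not_real : ∀ g : G, orderOf g = 4 → ¬ IsConj g g⁻¹
  card_invol : Nat.card {g : G // orderOf g = 2} = (q ^ 2 + 1) * (q - 1)
  card_four : Nat.card {g : G // orderOf g = 4} = (q ^ 2 + 1) * (q - 1) * q
  U_order : ∀ u ∈ U, u = 1 ∨ orderOf u = 2 ∨ orderOf u = 4
  cent_two : ∀ g : G, orderOf g = 2 → ∃ h : G, Subgroup.centralizer ({g} : Set G) ≤ cj h U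
  real_A0 : ∀ x ∈ A0, IsConj x x⁻¹
  real_A1 : ∀ x ∈ A1, IsConj x x⁻¹
  real_A2 : ∀ x ∈ A2, IsConj x x⁻¹
  rzU : IsCharacter U (fun u : U => if (u : G) = 1 ∨ orderOf (u : G) = 2 then (q : ℂ) else 0)
  psiU : IsCharacter U (fun u : U =>
    if (u : G) = 1 then ((q : ℂ) - 1) * r else if orderOf (u : G) = 2 then -(r : ℂ) else 0)

namespace Cfg

variable (C : Cfg G)

/-- the character of degree `q^2` (the Steinberg character) -/
noncomputable def cX (g : G) : ℂ := phi ((C.q : ℂ) ^ 2 + 1) 1 1 1 C.A0 1 g - 1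

/-- the characters of degree `q^2 + 1` -/
noncomputable def cF0 (θ : C.A0 →* ℂˣ) : G → ℂ := phi ((C.q : ℂ) ^ 2 + 1) 1 1 1 C.A0 θ

/-- the characters of degree `(q - r + 1)(q - 1)` -/
noncomputable def cF1 (θ : C.A1 →* ℂˣ) : G → ℂ :=
  phi (((C.q : ℂ) - C.r + 1) * ((C.q : ℂ) - 1)) ((C.r : ℂ) - 1) (-1) (-1) C.A1 θ

/-- the characters of degree `(q + r + 1)(q - 1)` -/
noncomputable def cF2 (θ : C.A2 →* ℂˣ) : G → ℂ :=
  phi (((C.q : ℂ) + C.r + 1) * ((C.q : ℂ) - 1)) (-(C.r : ℂ) - 1) (-1) (-1) C.A2 θ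

/-- `g` is conjugate to a non-identity element of `A0` -/
def T0 (g : G) : Prop := ∃ x ∈ C.A0, x ≠ 1 ∧ IsConj x g

/-- `g` is conjugate to a non-identity element of `A1` -/
def T1 (g : G) : Prop := ∃ x ∈ C.A1, x ≠ 1 ∧ IsConj x g

/-- `g` is conjugate to a non-identity element of `A2` -/
def T2 (g : G) : Prop := ∃ x ∈ C.A2, x ≠ 1 ∧ IsConj x g

/-- `W₁`, `W₂` are the two irreducible characters missing from the explicit list: every sum over
the irreducible characters splits accordingly -/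
def IsRest (W₁ W₂ : G → ℂ) : Prop :=
  ∀ F : (G → ℂ) → ℂ, ∑ ψ : IrrCharacter G, F (ψ : G → ℂ) =
    F (fun _ => 1) + F C.cX +
    2⁻¹ * ∑ θ : C.A0 →* ℂˣ, (if θ = 1 then 0 else F (C.cF0 θ)) +
    4⁻¹ * ∑ θ : C.A1 →* ℂˣ, (if θ = 1 then 0 else F (C.cF1 θ)) +
    4⁻¹ * ∑ θ : C.A2 →* ℂˣ, (if θ = 1 then 0 else F (C.cF2 θ)) +
    F W₁ + F W₂

/-- the values of the two characters of degree `r (q - 1) / 2` -/
structure IsTable (W₁ W₂ : G → ℂ) : Prop where
  rest : C.IsRest W₁ W₂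
  irr₁ : IsIrrCharacter G W₁
  irr₂ : IsIrrCharacter G W₂
  one₁ : W₁ 1 = (C.r : ℂ) * ((C.q : ℂ) - 1) / 2
  one₂ : W₂ 1 = (C.r : ℂ) * ((C.q : ℂ) - 1) / 2
  two₁ : ∀ g : G, orderOf g = 2 → W₁ g = -(C.r : ℂ) / 2
  two₂ : ∀ g : G, orderOf g = 2 → W₂ g = -(C.r : ℂ) / 2
  four_sq₁ : ∀ g : G, orderOf g = 4 → W₁ g ^ 2 = -(C.q : ℂ) / 2
  four_sq₂ : ∀ g : G, orderOf g = 4 → W₂ g ^ 2 = -(C.q : ℂ) / 2
  four_add : ∀ g : G, orderOf g = 4 → W₁ g + W₂ g = 0
  t0₁ : ∀ g : G, C.T0 g → W₁ g = 0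
  t0₂ : ∀ g : G, C.T0 g → W₂ g = 0
  t1₁ : ∀ g : G, C.T1 g → W₁ g = 1
  t1₂ : ∀ g : G, C.T1 g → W₂ g = 1
  t2₁ : ∀ g : G, C.T2 g → W₁ g = -1
  t2₂ : ∀ g : G, C.T2 g → W₂ g = -1

end Cfg

end Cfsg.Agent.SZT
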