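import Mathlib
import Cfsg.Agent.S2618
import Cfsg.Agent.S0292
import Cfsg.Agent.Helper13.OrthEmbed
import Cfsg.Agent.Helper13.StdForms

set_option autoImplicit false

/-! Abstract isometry groups of quadratic spaces, orthogonal products, and the transfer of an
odd-dimensional non-degenerate quadratic space over a finite field to the standard form
`x₀² + Σ xᵢ yᵢ` (up to a scalar). -/

namespace Cfsg.Agent.Helper12.BCG

open Module

section iso

variable {F : Type*} [Field F] {V : Type*} [AddCommGroup V] [Module F V]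

/-- the group of linear isometries of a quadratic form -/
def isoGrp (Q : QuadraticForm F V) : Subgroup (V ≃ₗ[F] V) where
  carrier := {g | ∀ v, Q (g v) = Q v}
  mul_mem' := by
    intro a b ha hb v
    show Q (a (b v)) = Q v
    rw [ha, hb]
  one_mem' := fun v => rfl
  inv_mem' := by
    intro a ha v
    have h := ha (a.symm v)
    rw [LinearEquiv.apply_symm_apply] at h
    exact h.symm

theorem mem_isoGrp (Q : QuadraticForm F V) (g : V ≃ₗ[F] V) :
    g ∈ isoGrp Q ↔ ∀ v, Q (g v) = Q v := Iff.rfl

variable {V₂ : Type*} [AddCommGroup V₂] [Module F V₂]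

/-- the orthogonal product of two isometries -/
def prodHom (Q₁ : QuadraticForm F V) (Q₂ : QuadraticForm F V₂) :
    ↥(isoGrp Q₁) × ↥(isoGrp Q₂) →* ↥(isoGrp (Q₁.prod Q₂)) where
  toFun g := ⟨LinearEquiv.prodCongr g.1.1 g.2.1, by
    intro v
    rw [QuadraticMap.prod_apply, QuadraticMap.prod_apply]
    show Q₁ (g.1.1 v.1) + Q₂ (g.2.1 v.2) = _
    rw [g.1.2, g.2.2]⟩
  map_one' := by
    apply Subtype.ext
    apply LinearEquiv.ext
    intro v
    rfl
  map_mul' := by
    intro g h
    apply Subtype.ext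
    apply LinearEquiv.ext
    intro v
    rfl

theorem prodHom_injective (Q₁ : QuadraticForm F V) (Q₂ : QuadraticForm F V₂) :
    Function.Injective (prodHom Q₁ Q₂) := by
  intro g h hgh
  have h1 : ∀ v : V × V₂, (prodHom Q₁ Q₂ g).1 v = (prodHom Q₁ Q₂ h).1 v := by
    intro v
    rw [hgh]
  apply Prod.ext
  · apply Subtype.ext
    apply LinearEquiv.ext
    intro v
    have := congrArg Prod.fst (h1 (v, 0))
    exact this
  · apply Subtype.ext
    apply LinearEquiv.ext
    intro v
    have := congrArg Prod.snd (h1 (0, v))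
    exact this

end iso

section transfer

variable {F : Type*} [Field F] [Finite F] {V : Type*} [AddCommGroup V] [Module F V]
  [FiniteDimensional F V]

open Cfsg.Agent.S2614

omit [Finite F] in
/-- values of the odd standard form on the standard basis -/
theorem QfOdd_single (m : ℕ) (k : Unit ⊕ (Fin m ⊕ Fin m)) :
    QfOdd m F (Pi.single k 1) = if k = Sum.inl () then 1 else 0 := by
  classical
  rw [QfOdd_coe, Cfsg.quadFormOdd]
  rcases k with ⟨⟩ | i | i
  · simp
  · simp [Pi.single_apply]
  · simp [Pi.single_apply]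

/-- An odd-dimensional non-degenerate quadratic space over a finite field is the standard form
up to a scalar. -/
theorem exists_similarity {m : ℕ} (hV : finrank F V = 2 * m + 1) (Q : QuadraticForm F V)
    (hQ : (QuadraticMap.polarBilin Q).Nondegenerate) :
    ∃ (a : F) (G : V ≃ₗ[F] (Unit ⊕ (Fin m ⊕ Fin m) → F)), a ≠ 0 ∧
      ∀ v, Q v = a * Cfsg.quadFormOdd m F (G v) := by
  classical
  obtain ⟨b, hb0, hb1, hb2, hb3, hb4⟩ := Cfsg.Agent.S2618.result hV Q hQ
  set a : F := Q (b (Sum.inl ())) with ha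
  let w : Unit ⊕ (Fin m ⊕ Fin m) → Fˣ := fun k =>
    match k with
    | Sum.inl _ => 1
    | Sum.inr (Sum.inl _) => 1
    | Sum.inr (Sum.inr _) => Units.mk0 a hb0
  let b' := b.unitsSMul w
  have hb'0 : b' (Sum.inl ()) = b (Sum.inl ()) := by
    show b.unitsSMul w (Sum.inl ()) = _
    rw [Basis.unitsSMul_apply]
    show (1 : Fˣ) • _ = _
    rw [one_smul]
  have hb'1 : ∀ i, b' (Sum.inr (Sum.inl i)) = b (Sum.inr (Sum.inl i)) := by
    intro i
    show b.unitsSMul w (Sum.inr (Sum.inl i)) = _
    rw [Basis.unitsSMul_apply]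
    show (1 : Fˣ) • _ = _
    rw [one_smul]
  have hb'2 : ∀ i, b' (Sum.inr (Sum.inr i)) = a • b (Sum.inr (Sum.inr i)) := by
    intro i
    show b.unitsSMul w (Sum.inr (Sum.inr i)) = _
    rw [Basis.unitsSMul_apply]
    rfl
  refine ⟨a, b'.equivFun, hb0, ?_⟩
  intro v
  have key := Cfsg.Agent.Helper13.eq_comp_equivFun b' Q (a • QfOdd m F) ?_ ?_ v
  · rw [key, _root_.smul_apply, smul_eq_mul, QfOdd_coe]
  · intro k
    rw [_root_.smul_apply, smul_eq_mul, QfOdd_single]
    rcases k with ⟨⟩ | i | i
    · rw [hb'0, if_pos rfl, mul_one]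
    · rw [hb'1, (hb2 i).1, if_neg (by simp), mul_zero]
    · rw [hb'2, QuadraticMap.map_smul, (hb2 i).2, if_neg (by simp), mul_zero, smul_zero]
  · intro k l
    have hpol : QuadraticMap.polar (a • QfOdd m F) (Pi.single k 1) (Pi.single l 1) =
        a * QuadraticMap.polar (Cfsg.quadFormOdd m F) (Pi.single k 1) (Pi.single l 1) := by
      rw [← QfOdd_coe]
      simp [QuadraticMap.polar, mul_add, mul_sub]
    rw [hpol, Cfsg.Agent.S0292.polar_odd]
    rcases k with ⟨⟩ | i | i <;> rcases l with ⟨⟩ | j | j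
    · rw [hb'0, Cfsg.Agent.Helper13.polar_self', ← ha]
      simp [Pi.single_apply]
      ring
    · rw [hb'0, hb'1, (hb1 j).1]
      simp [Pi.single_apply]
    · rw [hb'0, hb'2, QuadraticMap.polar_smul_right, (hb1 j).2]
      simp [Pi.single_apply]
    · rw [hb'0, hb'1, QuadraticMap.polar_comm, (hb1 i).1]
      simp [Pi.single_apply]
    · rw [hb'1, hb'1, (hb4 i j).1]
      simp [Pi.single_apply]
    · rw [hb'1, hb'2, QuadraticMap.polar_smul_right, hb3 i j]
      simp [Pi.single_apply, eq_comm]
    · rw [hb'0, hb'2, QuadraticMap.polar_smul_left, QuadraticMap.polar_comm, (hb1 i).2]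
      simp [Pi.single_apply]
    · rw [hb'2, hb'1, QuadraticMap.polar_smul_left, QuadraticMap.polar_comm, hb3 j i]
      simp [Pi.single_apply, eq_comm]
    · rw [hb'2, hb'2, QuadraticMap.polar_smul_left, QuadraticMap.polar_smul_right, (hb4 i j).2]
      simp [Pi.single_apply]

/-- Transfer of the isometry group of an odd-dimensional non-degenerate quadratic space to the
standard orthogonal group. -/
theorem exists_transfer {m : ℕ} (hV : finrank F V = 2 * m + 1) (Q : QuadraticForm F V)
    (hQ : (QuadraticMap.polarBilin Q).Nondegenerate) :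
    ∃ φ : ↥(isoGrp Q) →* ↥(Cfsg.isometryGroup F (Cfsg.quadFormOdd m F)), Function.Injective φ := by
  obtain ⟨a, G, ha, hG⟩ := exists_similarity hV Q hQ
  let ρ : ↥(isoGrp Q) →* Module.End F V :=
    { toFun := fun g => (g.1 : V →ₗ[F] V)
      map_one' := rfl
      map_mul' := fun g h => rfl }
  have hρ : Function.Injective ρ := by
    intro g h hgh
    apply Subtype.ext
    apply LinearEquiv.ext
    intro v
    have := congrArg (fun f : Module.End F V => f v) hgh
    exact this
  refine Cfsg.Agent.Helper13.exists_embedding_of_isometry ρ hρ (fun v => a⁻¹ * Q v) ?_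
    (Cfsg.quadFormOdd m F) G ?_
  · intro g v
    show a⁻¹ * Q (g.1 v) = a⁻¹ * Q v
    rw [g.2]
  · intro v
    rw [hG v, ← mul_assoc, inv_mul_cancel₀ ha, one_mul]

end transfer

end Cfsg.Agent.Helper12.BCG
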