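import Mathlib
import Cfsg.Agent.Helper12.BCGraphA
import Cfsg.Agent.Helper21.OCb

set_option autoImplicit false

/-! Field models of the hyperbolic and the elliptic even-dimensional quadratic spaces, carrying
cyclic tori of orders `q ^ e - 1` and `q ^ e + 1`. -/

namespace Cfsg.Agent.Helper12.BCG

open Module

/-- an element of prescribed order in a finite cyclic group -/
theorem exists_orderOf_eq_of_dvd {G : Type*} [Group G] [Finite G] [IsCyclic G] (M : ℕ)
    (hM : M ∣ Nat.card G) : ∃ g : G, orderOf g = M := by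
  obtain ⟨g, hg⟩ := IsCyclic.exists_ofOrder_eq_natCard (α := G)
  obtain ⟨c, hc⟩ := hM
  have hpos : 0 < Nat.card G := Nat.card_pos
  have hc0 : c ≠ 0 := by
    rintro rfl
    rw [mul_zero] at hc
    omega
  have hM0 : 0 < M := by
    rcases Nat.eq_zero_or_pos M with h | h
    · rw [h, zero_mul] at hc
      omega
    · exact h
  refine ⟨g ^ c, ?_⟩
  rw [orderOf_pow_of_dvd hc0 (by rw [hg, hc]; exact Dvd.intro_left _ rfl), hg, hc,
    Nat.mul_div_cancel _ (Nat.pos_of_ne_zero hc0)]

section mulL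

variable {F K : Type*} [Field F] [Field K] [Algebra F K]

/-- multiplication by a unit as a linear equivalence -/
def mulL (u : Kˣ) : K ≃ₗ[F] K :=
  LinearEquiv.ofLinearMap (LinearMap.mulLeft F (u : K)) (LinearMap.mulLeft F ((u⁻¹ : Kˣ) : K))
    (by
      apply LinearMap.ext
      intro x
      simp)
    (by
      apply LinearMap.ext
      intro x
      simp)

@[simp] theorem mulL_apply (u : Kˣ) (x : K) : mulL (F := F) u x = (u : K) * x := rfl

end mulL

section plus

variable {F K : Type*} [Field F] [Field K] [Algebra F K]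

/-- the bilinear map `((x, y), (x', y')) ↦ T (x y')` -/
def plusB (T : K →ₗ[F] F) : LinearMap.BilinMap F (K × K) F :=
  ((LinearMap.mul F K).compr₂ T).compl₁₂ (LinearMap.fst F K K) (LinearMap.snd F K K)

/-- the hyperbolic quadratic form `(x, y) ↦ T (x y)` on `K × K` -/
def plusQ (T : K →ₗ[F] F) : QuadraticForm F (K × K) := (plusB T).toQuadraticMap

theorem plusQ_apply (T : K →ₗ[F] F) (v : K × K) : plusQ T v = T (v.1 * v.2) := rfl

theorem plusQ_polar (T : K →ₗ[F] F) (v w : K × K) :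
    QuadraticMap.polar (plusQ T) v w = T (v.1 * w.2) + T (w.1 * v.2) :=
  LinearMap.BilinMap.polar_toQuadraticMap (B := plusB T) v w

theorem plusQ_nondeg (T : K →ₗ[F] F) {z₀ : K} (hz₀ : T z₀ ≠ 0) :
    (QuadraticMap.polarBilin (plusQ T)).Nondegenerate := by
  rw [Cfsg.Agent.Helper21.OC.nondeg_iff]
  intro v hv
  have h1 : v.1 = 0 := by
    by_contra hne
    apply hz₀
    have := hv (0, z₀ / v.1)
    rw [plusQ_polar] at this
    simp only [zero_mul, map_zero, add_zero] at this
    rwa [mul_div_cancel₀ _ hne] at this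
  have h2 : v.2 = 0 := by
    by_contra hne
    apply hz₀
    have := hv (z₀ / v.2, 0)
    rw [plusQ_polar] at this
    simp only [mul_zero, map_zero, zero_add] at this
    rwa [div_mul_cancel₀ _ hne] at this
  exact Prod.ext h1 h2

/-- the torus `Kˣ` acting on the hyperbolic space -/
def plusHom (T : K →ₗ[F] F) : Kˣ →* ↥(isoGrp (plusQ T)) where
  toFun u := ⟨LinearEquiv.prodCongr (mulL u) (mulL u⁻¹), by
    intro v
    rw [plusQ_apply, plusQ_apply]
    show T (((u : K) * v.1) * (((u⁻¹ : Kˣ) : K) * v.2)) = _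
    congr 1
    have : (u : K) * ((u⁻¹ : Kˣ) : K) = 1 := by
      rw [← Units.val_mul, mul_inv_cancel, Units.val_one]
    calc (u : K) * v.1 * (((u⁻¹ : Kˣ) : K) * v.2)
        = ((u : K) * ((u⁻¹ : Kˣ) : K)) * (v.1 * v.2) := by ring
      _ = v.1 * v.2 := by rw [this, one_mul]⟩
  map_one' := by
    apply Subtype.ext
    apply LinearEquiv.ext
    intro v
    show (((1 : Kˣ) : K) * v.1, (((1 : Kˣ)⁻¹ : Kˣ) : K) * v.2) = v
    simp
  map_mul' := by
    intro u w
    apply Subtype.ext
    apply LinearEquiv.ext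
    intro v
    show (((u * w : Kˣ) : K) * v.1, (((u * w)⁻¹ : Kˣ) : K) * v.2) =
      ((u : K) * ((w : K) * v.1), ((u⁻¹ : Kˣ) : K) * (((w⁻¹ : Kˣ) : K) * v.2))
    rw [mul_inv, Units.val_mul, Units.val_mul, mul_assoc, mul_assoc]

theorem plusHom_injective (T : K →ₗ[F] F) : Function.Injective (plusHom T) := by
  intro u w huw
  have h1 : (plusHom T u).1 (1, 0) = (plusHom T w).1 (1, 0) := by rw [huw]
  have h2 := congrArg Prod.fst h1
  apply Units.ext
  have h3 : (u : K) * 1 = (w : K) * 1 := h2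
  simpa using h3

/-- elements of every order dividing `#K - 1` in the isometry group of the hyperbolic model -/
theorem exists_plus_orderOf [Finite K] (T : K →ₗ[F] F) (M : ℕ) (hM : M ∣ Nat.card K - 1) :
    ∃ g : ↥(isoGrp (plusQ T)), orderOf g = M := by
  have hcard : Nat.card Kˣ = Nat.card K - 1 := Nat.card_units K
  obtain ⟨u, hu⟩ := exists_orderOf_eq_of_dvd (G := Kˣ) M (by rw [hcard]; exact hM)
  exact ⟨plusHom T u, by rw [orderOf_injective _ (plusHom_injective T), hu]⟩

end plus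

section minus

variable {F L : Type*} [Field F] [Field L] [Algebra F L]

/-- the bilinear map `(x, y) ↦ T (x σ(y))` -/
def minusB (T : L →ₗ[F] F) (σ : L ≃ₐ[F] L) : LinearMap.BilinMap F L F :=
  ((LinearMap.mul F L).compr₂ T).compl₂ σ.toLinearMap

/-- the quadratic form `x ↦ T (x σ(x))` -/
def minusQ (T : L →ₗ[F] F) (σ : L ≃ₐ[F] L) : QuadraticForm F L := (minusB T σ).toQuadraticMap

theorem minusQ_apply (T : L →ₗ[F] F) (σ : L ≃ₐ[F] L) (x : L) : minusQ T σ x = T (x * σ x) := rfl

theorem minusQ_polar (T : L →ₗ[F] F) (σ : L ≃ₐ[F] L) (x y : L) :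
    QuadraticMap.polar (minusQ T σ) x y = T (x * σ y) + T (y * σ x) :=
  LinearMap.BilinMap.polar_toQuadraticMap (B := minusB T σ) x y

theorem minusQ_nondeg (h2 : (2 : F) ≠ 0) (T : L →ₗ[F] F) (σ : L ≃ₐ[F] L)
    (hσσ : ∀ x, σ (σ x) = x) (hT : ∀ x, T (σ x) = T x) {z₀ : L} (hz₀ : T z₀ ≠ 0) :
    (QuadraticMap.polarBilin (minusQ T σ)).Nondegenerate := by
  rw [Cfsg.Agent.Helper21.OC.nondeg_iff]
  intro x hx
  by_contra hne
  apply hz₀
  have h1 := hx (σ (z₀ / x))
  rw [minusQ_polar, hσσ] at h1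
  have e1 : x * (z₀ / x) = z₀ := mul_div_cancel₀ _ hne
  have e2 : σ (z₀ / x) * σ x = σ z₀ := by
    rw [← map_mul, div_mul_cancel₀ _ hne]
  rw [e1, e2, hT] at h1
  have h3 : (2 : F) * T z₀ = 0 := by rw [two_mul]; exact h1
  rcases mul_eq_zero.1 h3 with h | h
  · exact absurd h h2
  · exact h

/-- the elements of norm one -/
def normOneGrp (σ : L ≃ₐ[F] L) : Subgroup Lˣ where
  carrier := {u | (u : L) * σ (u : L) = 1}
  mul_mem' := by
    intro a b ha hb
    show ((a * b : Lˣ) : L) * σ ((a * b : Lˣ) : L) = 1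
    rw [Units.val_mul, map_mul]
    calc (a : L) * (b : L) * (σ (a : L) * σ (b : L))
        = ((a : L) * σ (a : L)) * ((b : L) * σ (b : L)) := by ring
      _ = 1 := by rw [ha, hb, one_mul]
  one_mem' := by
    show ((1 : Lˣ) : L) * σ ((1 : Lˣ) : L) = 1
    simp
  inv_mem' := by
    intro a ha
    show ((a⁻¹ : Lˣ) : L) * σ ((a⁻¹ : Lˣ) : L) = 1
    have h1 : (a : L) * σ (a : L) = 1 := ha
    have h2 : ((a⁻¹ : Lˣ) : L) = (a : L)⁻¹ := Units.val_inv_eq_inv_val a
    rw [h2, map_inv₀, ← mul_inv, h1, inv_one]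

/-- the norm-one torus acting on the field model -/
def minusHom (T : L →ₗ[F] F) (σ : L ≃ₐ[F] L) : ↥(normOneGrp σ) →* ↥(isoGrp (minusQ T σ)) where
  toFun u := ⟨mulL u.1, by
    intro x
    rw [minusQ_apply, minusQ_apply]
    show T (((u.1 : L) * x) * σ ((u.1 : L) * x)) = _
    congr 1
    rw [map_mul]
    have h1 : (u.1 : L) * σ (u.1 : L) = 1 := u.2
    calc (u.1 : L) * x * (σ (u.1 : L) * σ x)
        = ((u.1 : L) * σ (u.1 : L)) * (x * σ x) := by ring
      _ = x * σ x := by rw [h1, one_mul]⟩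
  map_one' := by
    apply Subtype.ext
    apply LinearEquiv.ext
    intro x
    show (((1 : ↥(normOneGrp σ)) : Lˣ) : L) * x = x
    simp
  map_mul' := by
    intro u w
    apply Subtype.ext
    apply LinearEquiv.ext
    intro x
    show (((u * w : ↥(normOneGrp σ)) : Lˣ) : L) * x = (u.1 : L) * ((w.1 : L) * x)
    rw [Subgroup.coe_mul, Units.val_mul, mul_assoc]

theorem minusHom_injective (T : L →ₗ[F] F) (σ : L ≃ₐ[F] L) :
    Function.Injective (minusHom T σ) := by
  intro u w huw
  have h1 : (minusHom T σ u).1 1 = (minusHom T σ w).1 1 := by rw [huw]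
  apply Subtype.ext
  apply Units.ext
  have h3 : (u.1 : L) * 1 = (w.1 : L) * 1 := h1
  simpa using h3

/-- elements of every order dividing `N + 1` in the isometry group of the elliptic model, where
`#L = N²` and `σ x = x ^ N` -/
theorem exists_minus_orderOf [Finite L] (T : L →ₗ[F] F) (σ : L ≃ₐ[F] L) (N : ℕ)
    (hσ : ∀ x, σ x = x ^ N) (hcard : Nat.card L = N * N) (M : ℕ) (hM : M ∣ N + 1) :
    ∃ g : ↥(isoGrp (minusQ T σ)), orderOf g = M := by
  have hcardU : Nat.card Lˣ = N * N - 1 := by rw [Nat.card_units, hcard]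
  have hN1 : 1 ≤ N := by
    rcases Nat.eq_zero_or_pos N with h | h
    · rw [h] at hcard
      have : 0 < Nat.card L := Nat.card_pos
      omega
    · exact h
  have hfac : N * N - 1 = (N + 1) * (N - 1) := by
    obtain ⟨t, rfl⟩ : ∃ t, N = t + 1 := ⟨N - 1, by omega⟩
    simp only [Nat.add_sub_cancel]
    have : (t + 1) * (t + 1) = (t + 1 + 1) * t + 1 := by ring
    rw [this, Nat.add_sub_cancel]
  obtain ⟨u, hu⟩ := exists_orderOf_eq_of_dvd (G := Lˣ) M (by
    rw [hcardU, hfac]
    exact Dvd.dvd.mul_right hM _)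
  have hmem : u ∈ normOneGrp σ := by
    show (u : L) * σ (u : L) = 1
    rw [hσ, ← pow_succ', ← Units.val_pow_eq_pow_val]
    have : u ^ (N + 1) = 1 := by
      rw [← orderOf_dvd_iff_pow_eq_one, hu]
      exact hM
    rw [this, Units.val_one]
  refine ⟨minusHom T σ ⟨u, hmem⟩, ?_⟩
  rw [orderOf_injective _ (minusHom_injective T σ)]
  rw [← hu]
  exact Subgroup.orderOf_mk u hmem

end minus

end Cfsg.Agent.Helper12.BCG
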