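import Mathlib
import Cfsg.Agent.Helper12.BCGraphB
import Cfsg.Agent.Helper28.CDGen
import Cfsg.Agent.Helper28.Siegel1

set_option autoImplicit false

/-! Elements of prescribed order in the standard odd-dimensional orthogonal group, and membership
in `Ω` for odd-order elements and squares. -/

namespace Cfsg.Agent.Helper12.BCG

open Module Cfsg.Agent.S2614 Cfsg.Agent.Helper28.IsoTransport Cfsg.Agent.Helper28.Spin

section std

variable {F : Type*} [Field F] {ι : Type} [Fintype ι] [DecidableEq ι]

/-- matrices as linear equivalences -/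
noncomputable def glEquiv : GL ι F ≃* ((ι → F) ≃ₗ[F] (ι → F)) :=
  Matrix.GeneralLinearGroup.toLin.trans (LinearMap.GeneralLinearGroup.generalLinearEquiv F (ι → F))

theorem glEquiv_apply (g : GL ι F) (v : ι → F) :
    glEquiv g v = (g : Matrix ι ι F).mulVec v := by
  show (LinearMap.GeneralLinearGroup.generalLinearEquiv F (ι → F)
    (Matrix.GeneralLinearGroup.toLin g)) v = _
  rw [LinearMap.GeneralLinearGroup.coeFn_generalLinearEquiv, Matrix.GeneralLinearGroup.coe_toLin]
  rfl

/-- the standard isometry group as a group of linear isometries -/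
noncomputable def stdHom (Q : QuadraticForm F (ι → F)) :
    ↥(Cfsg.isometryGroup F ⇑Q) →* ↥(isoGrp Q) :=
  ((glEquiv (F := F) (ι := ι)).toMonoidHom.comp (Subgroup.subtype _)).codRestrict (isoGrp Q) (by
    intro g v
    show Q (glEquiv g.1 v) = Q v
    rw [glEquiv_apply]
    exact (mem_isometryGroup_iff _ _).1 g.2 v)

theorem stdHom_injective (Q : QuadraticForm F (ι → F)) : Function.Injective (stdHom Q) := by
  intro g h hgh
  have h1 : glEquiv (g : GL ι F) = glEquiv (h : GL ι F) := congrArg Subtype.val hgh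
  exact Subtype.ext (glEquiv.injective h1)

end std

section omega

variable {F : Type*} [Field F] [Fintype F] {ι : Type} [Fintype ι] [DecidableEq ι]
  (Q : QuadraticForm F (ι → F))

/-- every homomorphism from the orthogonal group to a commutative group kills squares -/
theorem hom_sq_eq_one (h2 : (2 : F) ≠ 0) (hQ : (QuadraticMap.polarBilin Q).Nondegenerate)
    {A : Type*} [CommGroup A] (φ : ↥(Cfsg.isometryGroup F ⇑Q) →* A)
    (g : ↥(Cfsg.isometryGroup F ⇑Q)) : φ g ^ 2 = 1 := by
  obtain ⟨L, rfl⟩ := Cfsg.Agent.Helper28.CDG.cd_list Q h2 hQ g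
  rw [hom_prodO Q φ h2, mul_pow, ← pow_mul, ← pow_mul, mul_comm _ 2, mul_comm _ 2, pow_mul,
    pow_mul, pow_two, pow_two, cPlus_sq, cMinus_sq, one_pow, one_pow, one_mul]

/-- squares lie in `Ω` -/
theorem sq_mem_Omega (h2 : (2 : F) ≠ 0) (hQ : (QuadraticMap.polarBilin Q).Nondegenerate)
    (g : ↥(Cfsg.isometryGroup F ⇑Q)) : g ^ 2 ∈ Cfsg.Omega F ⇑Q := by
  rw [mem_Omega_iff_abel, map_pow]
  exact hom_sq_eq_one Q h2 hQ Abelianization.of g

/-- elements of odd order lie in `Ω` -/
theorem mem_Omega_of_odd (h2 : (2 : F) ≠ 0) (hQ : (QuadraticMap.polarBilin Q).Nondegenerate)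
    (g : ↥(Cfsg.isometryGroup F ⇑Q)) (hodd : Odd (orderOf g)) : g ∈ Cfsg.Omega F ⇑Q := by
  rw [mem_Omega_iff_abel]
  have h1 := hom_sq_eq_one Q h2 hQ Abelianization.of g
  have h3 : (Abelianization.of g) ^ orderOf g = 1 := by
    rw [← map_pow, pow_orderOf_eq_one, map_one]
  have hd1 := orderOf_dvd_of_pow_eq_one h1
  have hd2 := orderOf_dvd_of_pow_eq_one h3
  have hcop : Nat.Coprime 2 (orderOf g) := Nat.coprime_two_left.2 hodd
  have := Nat.dvd_gcd hd1 hd2
  rw [hcop.gcd_eq_one, Nat.dvd_one] at this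
  exact orderOf_eq_one_iff.1 this

end omega

section unip

variable {F : Type*} [Field F]

open Cfsg.Agent.Helper28.Sg

/-- a unipotent isometry of order `p` of the standard odd-dimensional form -/
theorem exists_unipotent (p : ℕ) [Fact p.Prime] [CharP F p] (h2 : (2 : F) ≠ 0) (j : ℕ)
    (hj : 1 ≤ j) :
    ∃ x : ↥(Cfsg.isometryGroup F (Cfsg.quadFormOdd j F)), orderOf x = p := by
  classical
  have hp : p.Prime := Fact.out
  rw [← QfOdd_coe]
  set Q := QfOdd j F with hQdef
  obtain ⟨i₀⟩ : Nonempty (Fin j) := ⟨⟨0, hj⟩⟩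
  set u : Unit ⊕ (Fin j ⊕ Fin j) → F := Pi.single (Sum.inr (Sum.inl i₀)) 1 with hu
  set v : Unit ⊕ (Fin j ⊕ Fin j) → F := Pi.single (Sum.inl ()) 1 with hv
  have hQu : Q u = 0 := by rw [hu, QfOdd_single, if_neg (by simp)]
  have hQv : Q v = 1 := by rw [hv, QfOdd_single, if_pos rfl]
  have hBuv : B Q u v = 0 := by
    show QuadraticMap.polar ⇑Q u v = 0
    rw [hQdef, QfOdd_coe, Cfsg.Agent.S0292.polar_odd, hu, hv]
    simp [Pi.single_apply]
  have hBk : ∀ k : ℕ, B Q u ((k : F) • v) = 0 := fun k => B_smul_right_zero Q _ hBuv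
  have hpow : ∀ k : ℕ, (siegO Q u v hQu hBuv) ^ k = siegO Q u ((k : F) • v) hQu (hBk k) := by
    intro k
    induction k with
    | zero =>
      rw [pow_zero]
      symm
      have h0 : ((0 : ℕ) : F) • v = 0 := by simp
      have hB0 : B Q u 0 = 0 := QuadraticMap.polar_zero_right _ _
      rw [siegO_congr Q hQu (hBk 0) hQu hB0 rfl h0]
      exact siegO_zero Q u hQu hB0
    | succ k ih =>
      rw [pow_succ, ih, siegO_mul Q hQu (hBk k) hBuv (B_add_right_zero Q (hBk k) hBuv)]
      apply siegO_congr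
      · rfl
      · rw [Nat.cast_succ, add_smul, one_smul]
  refine ⟨siegO Q u v hQu hBuv, ?_⟩
  apply orderOf_eq_prime
  · rw [hpow p]
    have h0 : ((p : ℕ) : F) • v = 0 := by rw [CharP.cast_eq_zero F p, zero_smul]
    have hB0 : B Q u 0 = 0 := QuadraticMap.polar_zero_right _ _
    rw [siegO_congr Q hQu (hBk p) hQu hB0 rfl h0]
    exact siegO_zero Q u hQu hB0
  · intro h1
    have h3 := siegO_mulVec Q u v hQu hBuv v
    rw [h1, mt_one_mulVec] at h3
    have hBvu : B Q v u = 0 := by rw [B_comm]; exact hBuv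
    have hBvv : B Q v v = 2 := by rw [B_self, hQv, mul_one]
    rw [hBuv, hBvv, hQv, zero_smul, mul_zero, zero_smul, add_zero, sub_zero] at h3
    have h4 : (2 : F) • u = 0 := by
      have : v = v - (2 : F) • u := h3
      have h5 : v - (v - (2 : F) • u) = 0 := by rw [← this, sub_self]
      simpa using h5
    have h5 := congrFun h4 (Sum.inr (Sum.inl i₀))
    rw [hu] at h5
    simp at h5
    exact h2 h5

end unip

section main

variable {F : Type*} [Field F] [Fintype F]

/-- **Elements of tori times a standard part.** If `M` divides `q ^ e - 1` or `q ^ e + 1` and `h`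
is an isometry of the standard form of dimension `2 j + 1`, the standard orthogonal group of
dimension `2 (e + j) + 1` contains an element of order `lcm M (orderOf h)`. -/
theorem exists_one (p : ℕ) [Fact p.Prime] [CharP F p] (h2 : (2 : F) ≠ 0) (e j n : ℕ)
    (he : 1 ≤ e) (hn : n = e + j) (M : ℕ)
    (hM : M ∣ Fintype.card F ^ e - 1 ∨ M ∣ Fintype.card F ^ e + 1)
    (h : ↥(Cfsg.isometryGroup F (Cfsg.quadFormOdd j F))) :
    ∃ x : ↥(Cfsg.isometryGroup F (Cfsg.quadFormOdd n F)),
      orderOf x = Nat.lcm M (orderOf h) := by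
  classical
  have hne : NeZero e := ⟨by omega⟩
  have hQj := Cfsg.Agent.S0292.QfOdd_nondeg h2 (F := F) j
  obtain ⟨h', hh'⟩ : ∃ h' : ↥(Cfsg.isometryGroup F ⇑(QfOdd j F)), orderOf h' = orderOf h := by
    have hc := QfOdd_coe (F := F) j
    revert h
    rw [← hc]
    intro h
    exact ⟨h, rfl⟩
  have hh0 : orderOf (stdHom (QfOdd j F) h') = orderOf h := by
    rw [orderOf_injective _ (stdHom_injective _), hh']
  rcases hM with hM | hM
  · -- hyperbolic torus
    set K := FiniteField.Extension F p e with hK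
    set T : K →ₗ[F] F := Algebra.trace F K with hT
    obtain ⟨z₀, hz₀⟩ := Algebra.trace_surjective F K 1
    have hz₀' : T z₀ ≠ 0 := by rw [hT, hz₀]; exact one_ne_zero
    have hcardK : Nat.card K = Fintype.card F ^ e := by
      have := FiniteField.natCard_extension F p e
      rw [Nat.card_eq_fintype_card (α := F)] at this
      exact this
    obtain ⟨g, hg⟩ := exists_plus_orderOf T M (by rw [hcardK]; exact hM)
    have hnd := Cfsg.Agent.Helper21.OC.nondeg_prod (plusQ T) (QfOdd j F) (plusQ_nondeg T hz₀') hQj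
    have hfr : finrank F ((K × K) × (Unit ⊕ (Fin j ⊕ Fin j) → F)) = 2 * n + 1 := by
      have hfK : finrank F K = e := FiniteField.finrank_extension F p e
      rw [Module.finrank_prod, Module.finrank_prod, hfK,
        Module.finrank_pi, Fintype.card_sum, Fintype.card_sum, Fintype.card_fin,
        Fintype.card_unit, hn]
      ring
    obtain ⟨φ, hφ⟩ := exists_transfer hfr ((plusQ T).prod (QfOdd j F)) hnd
    refine ⟨φ (prodHom _ _ (g, stdHom (QfOdd j F) h')), ?_⟩
    rw [orderOf_injective φ hφ, orderOf_injective _ (prodHom_injective _ _), Prod.orderOf, hg, hh0]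
  · -- elliptic torus
    have hne2 : NeZero (2 * e) := ⟨by omega⟩
    set L := FiniteField.Extension F p (2 * e) with hL
    set T : L →ₗ[F] F := Algebra.trace F L with hT
    set σ : L ≃ₐ[F] L := (FiniteField.Extension.frob F p (2 * e)) ^ e with hσ
    obtain ⟨z₀, hz₀⟩ := Algebra.trace_surjective F L 1
    have hz₀' : T z₀ ≠ 0 := by rw [hT, hz₀]; exact one_ne_zero
    have hcardL : Nat.card L = Fintype.card F ^ e * Fintype.card F ^ e := by
      have := FiniteField.natCard_extension F p (2 * e)
      rw [Nat.card_eq_fintype_card (α := F)] at this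
      rw [this, two_mul e, pow_add]
    have hσx : ∀ x, σ x = x ^ (Fintype.card F ^ e) := by
      intro x
      rw [hσ, FiniteField.Extension.frob_iterate_apply, Nat.card_eq_fintype_card]
    have hσσ : ∀ x, σ (σ x) = x := by
      intro x
      rw [hσx, hσx, ← pow_mul, ← hcardL]
      have := Fintype.ofFinite L
      rw [Nat.card_eq_fintype_card]
      exact FiniteField.pow_card x
    have hTσ : ∀ x, T (σ x) = T x := fun x => Algebra.trace_eq_of_algEquiv σ x
    obtain ⟨g, hg⟩ := exists_minus_orderOf T σ (Fintype.card F ^ e) hσx hcardL M hM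
    have hnd := Cfsg.Agent.Helper21.OC.nondeg_prod (minusQ T σ) (QfOdd j F)
      (minusQ_nondeg h2 T σ hσσ hTσ hz₀') hQj
    have hfr : finrank F (L × (Unit ⊕ (Fin j ⊕ Fin j) → F)) = 2 * n + 1 := by
      have hfL : finrank F L = 2 * e := FiniteField.finrank_extension F p (2 * e)
      rw [Module.finrank_prod, hfL,
        Module.finrank_pi, Fintype.card_sum, Fintype.card_sum, Fintype.card_fin,
        Fintype.card_unit, hn]
      ring
    obtain ⟨φ, hφ⟩ := exists_transfer hfr ((minusQ T σ).prod (QfOdd j F)) hnd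
    refine ⟨φ (prodHom _ _ (g, stdHom (QfOdd j F) h')), ?_⟩
    rw [orderOf_injective φ hφ, orderOf_injective _ (prodHom_injective _ _), Prod.orderOf, hg, hh0]

end main

end Cfsg.Agent.Helper12.BCG
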