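import Mathlib
import Cfsg.Agent.Helper12.SpPrimeG

set_option autoImplicit false

/-! Elements of prime order `r` of `Sp_2n(q)` whose eigenvalue orbits fill the whole space have a
squarefree characteristic polynomial; consequently no element has order `r * p`. -/

open Polynomial

namespace Cfsg.Agent.Helper12.SpGraph

open Cfsg.Agent.Helper12.POC Cfsg.Agent.Helper12.SpPrime

universe u

variable {K : Type u} [Field K]

theorem squarefree_tuplePoly {S : Finset K[X]} {i : ℕ} (hS : FactorSet S i) (n : ℕ) (a : S → ℕ)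
    (h0 : n - i * ∑ P, a P = 0) (h1 : ∀ P, a P ≤ 1) : Squarefree (tuplePoly S i n a) := by
  rw [tuplePoly, h0, pow_zero, one_mul]
  apply Finset.squarefree_prod_of_pairwise_isCoprime
  · intro P _ Q _ hPQ
    show IsRelPrime ((P : K[X]) ^ a P) ((Q : K[X]) ^ a Q)
    rw [isRelPrime_iff_isCoprime]
    apply IsCoprime.pow
    rw [(hS.irred P P.2).coprime_iff_not_dvd]
    apply not_dvd_of_ne (hS.monic P P.2) (hS.irred P P.2) (hS.monic Q Q.2) (hS.irred Q Q.2)
    intro h
    exact hPQ (Subtype.ext h)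
  · intro P _
    have := h1 P
    interval_cases h : a P
    · rw [pow_zero]
      exact squarefree_one
    · rw [pow_one]
      exact (hS.irred P P.2).squarefree

variable [Fintype K]

/-- An element of order `r` of `Sp_2n(q)` has a squarefree characteristic polynomial when the
multiplicative order `k` of `q` mod `r` satisfies `2n ≤ k` (`k` even) or `n ≤ k` (`k` odd). -/
theorem squarefree_charpoly_of_order_eq (p : ℕ) [Fact p.Prime] [CharP K p] (n r k : ℕ)
    (hr : r.Prime) (hr2 : r ≠ 2) (hrp : r ≠ p)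
    (hk : k = orderOf ((Fintype.card K : ℕ) : ZMod r))
    (hbig : (Even k ∧ 2 * n ≤ k) ∨ (Odd k ∧ n ≤ k))
    (g : Matrix.symplecticGroup (Fin n) K) (hg : orderOf g = r) :
    Squarefree (g : Matrix (Fin n ⊕ Fin n) (Fin n ⊕ Fin n) K).charpoly := by
  classical
  obtain ⟨S, hS, hcard, hSd, hSN⟩ := exists_factorSet (K := K) p r hr hrp
  rw [← hk] at hS hcard
  have hc := recip_mem_of_factorSet hS r hr.pos hSd hSN
  have hrodd : Odd r := hr.odd_of_ne_two hr2
  have hfix : Odd k → ∀ P : S, starPerm hS hc P ≠ P := by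
    intro hodd P h
    have h1 := congrArg (fun Q : S => (Q : K[X])) h
    simp only [starPerm_apply] at h1
    refine recip_ne_self_of_odd r hrodd (hS.monic P P.2) (hS.irred P P.2) (hS.coeff_zero P P.2)
      (hSd P P.2) ?_ ?_ h1
    · intro h2
      exact hS.notMem (h2 ▸ P.2)
    · rw [hS.deg P P.2]
      exact hodd
  obtain ⟨a, ha0, hinv, hle, hfa⟩ := exists_tuple_of_sp_order_eq p n r hr hrp hS hSN hc g hg
  rw [hfa]
  -- some coordinate of `a` is positive
  obtain ⟨P₀, hP₀⟩ : ∃ P₀, a P₀ ≠ 0 := by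
    by_contra hcon
    push Not at hcon
    exact ha0 (funext hcon)
  have hsum_ge : ∀ P, a P ≤ ∑ Q, a Q := fun P =>
    Finset.single_le_sum (fun _ _ => Nat.zero_le _) (Finset.mem_univ P)
  rcases hbig with ⟨-, hkn⟩ | ⟨hodd, hkn⟩
  · -- `k` even, `2n ≤ k`
    have h1 : ∑ Q, a Q ≤ 1 := by
      by_contra hcon
      push Not at hcon
      have : k * 2 ≤ k * ∑ Q, a Q := Nat.mul_le_mul_left k hcon
      have hkpos : 0 < k := by
        rcases Nat.eq_zero_or_pos k with h | h
        · rw [h, mul_zero] at hcard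
          have := hr.two_le
          omega
        · exact h
      omega
    have h2 : 1 ≤ ∑ Q, a Q := le_trans (Nat.one_le_iff_ne_zero.2 hP₀) (hsum_ge P₀)
    have h3 : ∑ Q, a Q = 1 := le_antisymm h1 h2
    apply squarefree_tuplePoly hS
    · rw [h3, mul_one]
      rw [h3, mul_one] at hle
      omega
    · intro P
      exact le_trans (hsum_ge P) h1
  · -- `k` odd, `n ≤ k`
    have hpair : ∀ P, a P + a (starPerm hS hc P) ≤ ∑ Q, a Q := by
      intro P
      have hne := hfix hodd P
      have : ∑ Q ∈ ({P, starPerm hS hc P} : Finset S), a Q ≤ ∑ Q, a Q :=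
        Finset.sum_le_sum_of_subset (Finset.subset_univ _)
      rwa [Finset.sum_pair (Ne.symm hne)] at this
    have hstar : ∀ P, a (starPerm hS hc P) = a P := fun P => congrFun hinv P
    have hkpos : 0 < k := hodd.pos
    have h1 : ∑ Q, a Q ≤ 2 := by
      by_contra hcon
      push Not at hcon
      have : k * 3 ≤ k * ∑ Q, a Q := Nat.mul_le_mul_left k hcon
      omega
    have h2 : 2 ≤ ∑ Q, a Q := by
      have := hpair P₀
      rw [hstar] at this
      omega
    have h3 : ∑ Q, a Q = 2 := le_antisymm h1 h2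
    apply squarefree_tuplePoly hS
    · rw [h3]
      rw [h3] at hle
      omega
    · intro P
      have := hpair P
      rw [hstar] at this
      omega

/-- No element of `Sp_2n(q)` has order divisible by `r * p` in that situation. -/
theorem not_dvd_orderOf (p : ℕ) [Fact p.Prime] [CharP K p] (n r k : ℕ)
    (hr : r.Prime) (hr2 : r ≠ 2) (hrp : r ≠ p)
    (hk : k = orderOf ((Fintype.card K : ℕ) : ZMod r))
    (hbig : (Even k ∧ 2 * n ≤ k) ∨ (Odd k ∧ n ≤ k))
    (x : Matrix.symplecticGroup (Fin n) K) : ¬ r * p ∣ orderOf x := by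
  intro hdvd
  have hp : p.Prime := Fact.out
  have hfin : Finite (Matrix.symplecticGroup (Fin n) K) := Subtype.finite
  have hxpos : 0 < orderOf x := orderOf_pos x
  obtain ⟨c, hc⟩ := hdvd
  have hc0 : c ≠ 0 := by
    rintro rfl
    rw [mul_zero] at hc
    omega
  -- an element of order exactly `r * p`
  obtain ⟨w, hw⟩ : ∃ w, w = x ^ c := ⟨_, rfl⟩
  have hwo : orderOf w = r * p := by
    rw [hw, orderOf_pow_of_dvd hc0 (Dvd.intro_left _ hc.symm), hc,
      Nat.mul_div_cancel _ (Nat.pos_of_ne_zero hc0)]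
  obtain ⟨f, -, hq⟩ := FiniteField.card K p
  obtain ⟨f', hf'⟩ : ∃ f', (f : ℕ) = f' + 1 := ⟨(f : ℕ) - 1, by have := f.pos; omega⟩
  -- `w ^ q` has order `r`
  have hy : orderOf (w ^ p) = r := by
    rw [orderOf_pow_of_dvd hp.ne_zero (by rw [hwo]; exact Dvd.intro_left _ rfl), hwo,
      Nat.mul_div_cancel _ hp.pos]
  have hwq : orderOf (w ^ Fintype.card K) = r := by
    rw [hq, hf', pow_succ', pow_mul]
    have hcop : (orderOf (w ^ p)).Coprime (p ^ f') := by
      rw [hy]
      exact ((Nat.coprime_primes hr hp).2 hrp).pow_right _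
    rw [hcop.orderOf_pow, hy]
  have hsq := squarefree_charpoly_of_order_eq p n r k hr hr2 hrp hk hbig _ hwq
  have hcoe : ((w ^ Fintype.card K : Matrix.symplecticGroup (Fin n) K) :
      Matrix (Fin n ⊕ Fin n) (Fin n ⊕ Fin n) K) =
      (w : Matrix (Fin n ⊕ Fin n) (Fin n ⊕ Fin n) K) ^ Fintype.card K := rfl
  rw [hcoe, FiniteField.Matrix.charpoly_pow_card] at hsq
  have hmin : Squarefree (minpoly K (w : Matrix (Fin n ⊕ Fin n) (Fin n ⊕ Fin n) K)) :=
    hsq.squarefree_of_dvd (Matrix.minpoly_dvd_charpoly _)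
  have hpow : (w : Matrix (Fin n ⊕ Fin n) (Fin n ⊕ Fin n) K) ^ (r * p) = 1 := by
    have h1 : w ^ (r * p) = 1 := by rw [← hwo]; exact pow_orderOf_eq_one w
    have := congrArg (fun z : Matrix.symplecticGroup (Fin n) K =>
      (z : Matrix (Fin n ⊕ Fin n) (Fin n ⊕ Fin n) K)) h1
    exact this
  have h1 : aeval (w : Matrix (Fin n ⊕ Fin n) (Fin n ⊕ Fin n) K) ((X ^ r - 1 : K[X]) ^ p) = 0 := by
    rw [sub_pow_char, one_pow, ← pow_mul, map_sub, map_pow, aeval_X, map_one, hpow, sub_self]
  have h3 : minpoly K (w : Matrix (Fin n ⊕ Fin n) (Fin n ⊕ Fin n) K) ∣ (X ^ r - 1 : K[X]) :=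
    hmin.isRadical p _ (minpoly.dvd K _ h1)
  have h4 : aeval (w : Matrix (Fin n ⊕ Fin n) (Fin n ⊕ Fin n) K) (X ^ r - 1 : K[X]) = 0 := by
    obtain ⟨d, hd⟩ := h3
    rw [hd, map_mul, minpoly.aeval, zero_mul]
  rw [map_sub, map_pow, aeval_X, map_one, sub_eq_zero] at h4
  have h5 : w ^ r = 1 := Subtype.ext h4
  have h6 := orderOf_dvd_of_pow_eq_one h5
  rw [hwo] at h6
  have : r * p ≤ r := Nat.le_of_dvd hr.pos h6
  have := hp.two_le
  have := hr.pos
  nlinarith

end Cfsg.Agent.Helper12.SpGraph
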