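import Mathlib
import Cfsg.Agent.Helper12.SpGraphA
import Cfsg.Agent.Helper12.PrimeOrderClassE

set_option autoImplicit false

/-! Lifting elements through central quotients; elements of order `r * p` in `SL_n(q)`. -/

open Polynomial

namespace Cfsg.Agent.Helper12.PslGraph

open Cfsg.Agent.Helper12.POC Cfsg.Agent.Helper12.SpGraph

/-- An element of order `N` of `G ⧸ Z` lifts to an element of order `N` when `Z` is killed by an
exponent prime to `N`. -/
theorem exists_lift_orderOf {G : Type*} [Group G] (Z : Subgroup G) [Z.Normal] (E N : ℕ)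
    (hE : ∀ z ∈ Z, z ^ E = 1) (hcop : E.Coprime N) (hN : 1 < N) (g : G ⧸ Z)
    (hg : orderOf g = N) : ∃ y : G, orderOf y = N ∧ (QuotientGroup.mk y : G ⧸ Z) = g := by
  obtain ⟨x, rfl⟩ := QuotientGroup.mk_surjective g
  obtain ⟨E', -, hE'⟩ := Nat.exists_mul_mod_eq_one_of_coprime hcop hN
  have hxN : x ^ N ∈ Z := by
    rw [← QuotientGroup.eq_one_iff, QuotientGroup.mk_pow, ← hg, pow_orderOf_eq_one]
  have hM : E * E' = N * (E * E' / N) + 1 := by
    have := Nat.div_add_mod (E * E') N
    omega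
  refine ⟨x ^ (E * E'), ?_, ?_⟩
  · have h1 : (x ^ (E * E')) ^ N = 1 := by
      rw [← pow_mul, mul_comm (E * E') N, pow_mul, pow_mul, hE _ hxN, one_pow]
    have h2 : (QuotientGroup.mk (x ^ (E * E')) : G ⧸ Z) = QuotientGroup.mk x := by
      rw [QuotientGroup.mk_pow, hM, pow_succ, pow_mul, ← hg, pow_orderOf_eq_one, one_pow, one_mul]
    apply Nat.dvd_antisymm (orderOf_dvd_of_pow_eq_one h1)
    rw [← hg, ← h2]
    exact orderOf_map_dvd (QuotientGroup.mk' Z) _
  · rw [QuotientGroup.mk_pow, hM, pow_succ, pow_mul, ← hg, pow_orderOf_eq_one, one_pow, one_mul]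

universe u

variable {K : Type u} [Field K]

/-- squarefreeness of a tuple polynomial with all exponents at most one -/
theorem squarefree_tuplePoly' {S : Finset K[X]} {i : ℕ} (hS : FactorSet S i) (n : ℕ) (a : S → ℕ)
    (h0 : n - i * ∑ P, a P ≤ 1) (h1 : ∀ P, a P ≤ 1) : Squarefree (tuplePoly S i n a) := by
  have h2 : Squarefree (∏ P : S, (P : K[X]) ^ a P) := by
    have := squarefree_tuplePoly hS 0 a (by simp) h1
    rwa [tuplePoly, Nat.zero_sub, pow_zero, one_mul] at this
  rw [tuplePoly]
  interval_cases h : n - i * ∑ P, a P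
  · rw [pow_zero, one_mul]
    exact h2
  · rw [pow_one, squarefree_mul_iff]
    refine ⟨?_, (irreducible_X_sub_C 1).squarefree, h2⟩
    apply IsRelPrime.prod_right
    intro P _
    rw [isRelPrime_iff_isCoprime]
    apply IsCoprime.pow_right
    rw [(irreducible_X_sub_C (1 : K)).coprime_iff_not_dvd]
    apply not_dvd_of_ne (monic_X_sub_C 1) (irreducible_X_sub_C 1) (hS.monic P P.2)
      (hS.irred P P.2)
    intro h
    exact hS.notMem (h ▸ P.2)

/-- A matrix with squarefree characteristic polynomial and `W ^ (p * m) = 1` has `W ^ m = 1`. -/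
theorem pow_eq_one_of_squarefree {ι : Type*} [Fintype ι] [DecidableEq ι] (p : ℕ) [Fact p.Prime]
    [CharP K p] (W : Matrix ι ι K) (hsq : Squarefree W.charpoly) (m : ℕ)
    (hW : W ^ (m * p) = 1) : W ^ m = 1 := by
  have hmin : Squarefree (minpoly K W) := hsq.squarefree_of_dvd (Matrix.minpoly_dvd_charpoly _)
  have h1 : aeval W ((X ^ m - 1 : K[X]) ^ p) = 0 := by
    rw [sub_pow_char, one_pow, ← pow_mul, map_sub, map_pow, aeval_X, map_one, hW, sub_self]
  have h3 : minpoly K W ∣ (X ^ m - 1 : K[X]) := hmin.isRadical p _ (minpoly.dvd K _ h1)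
  have h4 : aeval W (X ^ m - 1 : K[X]) = 0 := by
    obtain ⟨d, hd⟩ := h3
    rw [hd, map_mul, minpoly.aeval, zero_mul]
  rw [map_sub, map_pow, aeval_X, map_one, sub_eq_zero] at h4
  exact h4

variable [Fintype K]

/-- An element of order `r` of `SL_n(q)` has squarefree characteristic polynomial when
`n < k + 2`, `k` the order of `q` mod `r`. -/
theorem squarefree_charpoly_sl (p : ℕ) [Fact p.Prime] [CharP K p] (n r k : ℕ)
    (hr : r.Prime) (hr2 : r ≠ 2) (hrp : r ≠ p)
    (hk : k = orderOf ((Fintype.card K : ℕ) : ZMod r)) (hn : 2 ≤ n) (hnk : n < k + 2)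
    (g : Matrix.SpecialLinearGroup (Fin n) K) (hg : orderOf g = r) :
    Squarefree (g : Matrix (Fin n) (Fin n) K).charpoly := by
  classical
  obtain ⟨S, hS, hcard, hSd, hSN⟩ := exists_factorSet (K := K) p r hr hrp
  rw [← hk] at hS hcard
  have hkpos : 0 < k := by
    rcases Nat.eq_zero_or_pos k with h | h
    · rw [h, mul_zero] at hcard
      have := hr.two_le
      omega
    · exact h
  have hgl : orderOf (Matrix.SpecialLinearGroup.toGL g) = r := by
    rw [orderOf_injective _ Matrix.SpecialLinearGroup.toGL_injective, hg]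
  obtain ⟨a, ha0, hle, hfa⟩ := exists_tuple_of_order_eq p n r hr hrp hS hSN _ hgl
  have hfa' : (g : Matrix (Fin n) (Fin n) K).charpoly = tuplePoly S k n a := hfa
  rw [hfa']
  obtain ⟨P₀, hP₀⟩ : ∃ P₀, a P₀ ≠ 0 := by
    by_contra hcon
    push Not at hcon
    exact ha0 (funext hcon)
  have hsum_ge : ∀ P, a P ≤ ∑ Q, a Q := fun P =>
    Finset.single_le_sum (fun _ _ => Nat.zero_le _) (Finset.mem_univ P)
  have h1 : 1 ≤ ∑ Q, a Q := le_trans (Nat.one_le_iff_ne_zero.2 hP₀) (hsum_ge P₀)
  by_cases hall : ∀ P, a P ≤ 1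
  · apply squarefree_tuplePoly' hS n a _ hall
    have : k * 1 ≤ k * ∑ Q, a Q := Nat.mul_le_mul_left k h1
    omega
  · exfalso
    push Not at hall
    obtain ⟨P, hP⟩ := hall
    have h2 : 2 ≤ ∑ Q, a Q := le_trans hP (hsum_ge P)
    have h3 : k * 2 ≤ k * ∑ Q, a Q := Nat.mul_le_mul_left k h2
    -- so `k = 1`, `n = 2`, and the characteristic polynomial is `P ^ 2`
    have hk1 : k = 1 := by omega
    have hn2 : n = 2 := by omega
    subst hk1 hn2
    have hsum2 : ∑ Q, a Q = 2 := by omega
    have haP : a P = 2 := by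
      have := hsum_ge P
      omega
    have hother : ∀ Q, Q ≠ P → a Q = 0 := by
      intro Q hQ
      have : ∑ R ∈ ({P, Q} : Finset S), a R ≤ ∑ R, a R :=
        Finset.sum_le_sum_of_subset (Finset.subset_univ _)
      rw [Finset.sum_pair (Ne.symm hQ)] at this
      omega
    have hprod : ∏ Q : S, (Q : K[X]) ^ a Q = (P : K[X]) ^ 2 := by
      rw [Finset.prod_eq_single P]
      · rw [haP]
      · intro Q _ hQ
        rw [hother Q hQ, pow_zero]
      · intro h
        exact absurd (Finset.mem_univ P) h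
    have hcp : (g : Matrix (Fin 2) (Fin 2) K).charpoly = (P : K[X]) ^ 2 := by
      rw [hfa', tuplePoly, hsum2, hprod]
      simp
    -- `P = X + c`
    have hPdeg := hS.deg P P.2
    have hPm := hS.monic P P.2
    obtain ⟨c, hc⟩ : ∃ c : K, (P : K[X]) = X + C c := by
      refine ⟨(P : K[X]).coeff 0, ?_⟩
      exact hPm.eq_X_add_C hPdeg
    have hdet : (g : Matrix (Fin 2) (Fin 2) K).det = 1 := g.2
    rw [Matrix.det_eq_sign_charpoly_coeff, hcp, hc, Fintype.card_fin, coeff_zero_eq_eval_zero,
      eval_pow, eval_add, eval_X, eval_C, zero_add] at hdet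
    have hc2 : c * c = 1 := by linear_combination hdet
    have hroot : (-c) ^ r = 1 := by
      have h5 := hSd P P.2
      rw [hc] at h5
      have h6 : (X + C c : K[X]) = X - C (-c) := by rw [map_neg, sub_neg_eq_add]
      rw [h6, dvd_iff_isRoot, IsRoot.def, eval_sub, eval_pow, eval_X, eval_one, sub_eq_zero] at h5
      exact h5
    have hcne : c ≠ -1 := by
      intro h
      apply hS.notMem
      have : (P : K[X]) = X - C 1 := by rw [hc, h, map_neg, sub_eq_add_neg]
      rw [← this]
      exact P.2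
    rcases mul_self_eq_one_iff.1 hc2 with h | h
    · rw [h, (hr.odd_of_ne_two hr2).neg_one_pow] at hroot
      apply hcne
      rw [h]
      exact hroot.symm ▸ rfl
    · exact hcne h

end Cfsg.Agent.Helper12.PslGraph
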