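import Mathlib
import Cfsg.Agent.Helper12.PslGraphA

set_option autoImplicit false

/-! No element of order `r * p` in `PSL_n(q)` when `n < k + 2`. -/

open Polynomial

namespace Cfsg.Agent.Helper12.PslGraph

universe u

variable {K : Type u} [Field K] [Fintype K]

/-- The centre of `SL_n(q)` is killed by `gcd(n, q - 1)`. -/
theorem center_pow_gcd (n : ℕ) (z : Matrix.SpecialLinearGroup (Fin n) K)
    (hz : z ∈ Subgroup.center (Matrix.SpecialLinearGroup (Fin n) K)) :
    z ^ Nat.gcd n (Fintype.card K - 1) = 1 := by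
  rw [Matrix.SpecialLinearGroup.mem_center_iff] at hz
  obtain ⟨ζ, hζ, hzζ⟩ := hz
  rw [Fintype.card_fin] at hζ
  rcases Nat.eq_zero_or_pos n with hn0 | hn0
  · subst hn0
    exact Subsingleton.elim _ _
  have hζ0 : ζ ≠ 0 := by
    rintro rfl
    rw [zero_pow hn0.ne'] at hζ
    exact zero_ne_one hζ
  have hζq : ζ ^ (Fintype.card K - 1) = 1 := FiniteField.pow_card_sub_one_eq_one ζ hζ0
  have hζg : ζ ^ Nat.gcd n (Fintype.card K - 1) = 1 := pow_gcd_eq_one.2 ⟨hζ, hζq⟩
  apply Subtype.ext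
  rw [Matrix.SpecialLinearGroup.coe_pow, ← hzζ, ← map_pow, hζg, map_one]
  rfl

theorem sl_orderOf_ne (p : ℕ) [Fact p.Prime] [CharP K p] (n r k : ℕ)
    (hr : r.Prime) (hr2 : r ≠ 2) (hrp : r ≠ p)
    (hk : k = orderOf ((Fintype.card K : ℕ) : ZMod r)) (hn : 2 ≤ n) (hnk : n < k + 2)
    (w : Matrix.SpecialLinearGroup (Fin n) K) : orderOf w ≠ r * p := by
  intro hwo
  have hp : p.Prime := Fact.out
  obtain ⟨f, -, hq⟩ := FiniteField.card K p
  obtain ⟨f', hf'⟩ : ∃ f', (f : ℕ) = f' + 1 := ⟨(f : ℕ) - 1, by have := f.pos; omega⟩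
  have hy : orderOf (w ^ p) = r := by
    rw [orderOf_pow_of_dvd hp.ne_zero (by rw [hwo]; exact Dvd.intro_left _ rfl), hwo,
      Nat.mul_div_cancel _ hp.pos]
  have hwq : orderOf (w ^ Fintype.card K) = r := by
    rw [hq, hf', pow_succ', pow_mul]
    have hcop : (orderOf (w ^ p)).Coprime (p ^ f') := by
      rw [hy]
      exact ((Nat.coprime_primes hr hp).2 hrp).pow_right _
    rw [hcop.orderOf_pow, hy]
  have hsq := squarefree_charpoly_sl p n r k hr hr2 hrp hk hn hnk _ hwq
  rw [Matrix.SpecialLinearGroup.coe_pow, FiniteField.Matrix.charpoly_pow_card] at hsq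
  have hpow : (w : Matrix (Fin n) (Fin n) K) ^ (r * p) = 1 := by
    have h1 : w ^ (r * p) = 1 := by rw [← hwo]; exact pow_orderOf_eq_one w
    rw [← Matrix.SpecialLinearGroup.coe_pow, h1]
    rfl
  have h4 := pow_eq_one_of_squarefree p _ hsq r hpow
  have h5 : w ^ r = 1 := by
    apply Subtype.ext
    rw [Matrix.SpecialLinearGroup.coe_pow, h4]
    rfl
  have h6 := orderOf_dvd_of_pow_eq_one h5
  rw [hwo] at h6
  have : r * p ≤ r := Nat.le_of_dvd hr.pos h6
  have := hp.two_le
  have := hr.pos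
  nlinarith

theorem psl_orderOf_ne (p : ℕ) [Fact p.Prime] [CharP K p] (n r k : ℕ)
    (hr : r.Prime) (hr2 : r ≠ 2) (hrp : r ≠ p)
    (hk : k = orderOf ((Fintype.card K : ℕ) : ZMod r)) (hn : 2 ≤ n) (hnk : n < k + 2)
    (g : Matrix.ProjectiveSpecialLinearGroup (Fin n) K) : orderOf g ≠ r * p := by
  intro hgo
  have hp : p.Prime := Fact.out
  have hq1 : 1 ≤ Fintype.card K := Fintype.card_pos
  have hcopE : (Nat.gcd n (Fintype.card K - 1)).Coprime (r * p) := by
    apply Nat.Coprime.mul_right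
    · rw [Nat.coprime_comm, hr.coprime_iff_not_dvd]
      intro hdvd
      have h1 : r ∣ n := hdvd.trans (Nat.gcd_dvd_left _ _)
      have h2 : r ∣ Fintype.card K - 1 := hdvd.trans (Nat.gcd_dvd_right _ _)
      have h3 : ((Fintype.card K : ℕ) : ZMod r) = 1 := by
        have := (ZMod.natCast_eq_zero_iff _ r).2 h2
        rw [Nat.cast_sub hq1, Nat.cast_one, sub_eq_zero] at this
        exact this
      have hk1 : k = 1 := by rw [hk, h3, orderOf_one]
      have hn2 : n = 2 := by omega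
      rw [hn2] at h1
      exact hr2 ((Nat.prime_dvd_prime_iff_eq hr Nat.prime_two).1 h1)
    · rw [Nat.coprime_comm, hp.coprime_iff_not_dvd]
      intro hdvd
      have h2 : p ∣ Fintype.card K - 1 := hdvd.trans (Nat.gcd_dvd_right _ _)
      have h3 : p ∣ Fintype.card K := by
        obtain ⟨f, -, hq⟩ := FiniteField.card K p
        rw [hq]
        exact dvd_pow_self p f.pos.ne'
      have h4 : p ∣ 1 := by
        have := Nat.dvd_sub h3 h2
        rwa [Nat.sub_sub_self hq1] at this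
      exact hp.one_lt.ne' (Nat.dvd_one.1 h4)
  have hN : 1 < r * p := by
    have := hr.two_le
    have := hp.two_le
    nlinarith
  obtain ⟨y, hy, -⟩ := exists_lift_orderOf
    (Subgroup.center (Matrix.SpecialLinearGroup (Fin n) K)) _ (r * p)
    (center_pow_gcd n) hcopE hN g hgo
  exact sl_orderOf_ne p n r k hr hr2 hrp hk hn hnk y hy

end Cfsg.Agent.Helper12.PslGraph
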