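import Mathlib
import Cfsg.Agent.Helper12.PslGraphB
import Cfsg.Agent.Helper12.SympConjJ

set_option autoImplicit false

/-! Degrees of irreducible factors of `X ^ N - 1` over a finite field, and the non-existence of
elements of order `r * s` in `GL_n(q)`. -/

open Polynomial

namespace Cfsg.Agent.Helper12.PslGraph

open Cfsg.Agent.Helper12.SpPrime

universe u

variable {K : Type u} [Field K] [Fintype K]

/-- If the irreducible polynomial `Q` divides `X ^ (r * M) - 1` but not `X ^ M - 1`, then the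
multiplicative order of `q` modulo `r` divides the degree of `Q`. -/
theorem orderOf_dvd_natDegree (Q : K[X]) (hQ : Irreducible Q) (r M : ℕ) (hr : r.Prime)
    (h1 : Q ∣ (X ^ (r * M) - 1 : K[X])) (h2 : ¬ Q ∣ (X ^ M - 1 : K[X])) :
    orderOf ((Fintype.card K : ℕ) : ZMod r) ∣ Q.natDegree := by
  have hfact : Fact (Irreducible Q) := ⟨hQ⟩
  have hQ0 : Q ≠ 0 := hQ.ne_zero
  have hξ1 : (AdjoinRoot.root Q) ^ (r * M) = 1 := by
    have := AdjoinRoot.mk_eq_zero.2 h1
    rw [map_sub, map_pow, AdjoinRoot.mk_X, map_one, sub_eq_zero] at this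
    exact this
  have hξ2 : (AdjoinRoot.root Q) ^ M ≠ 1 := by
    intro h
    apply h2
    rw [← AdjoinRoot.mk_eq_zero, map_sub, map_pow, AdjoinRoot.mk_X, map_one, h, sub_self]
  have hfinmod : Module.Finite K (AdjoinRoot Q) := (AdjoinRoot.powerBasis hQ0).finite
  have hfin : Finite (AdjoinRoot Q) := Module.finite_of_finite K
  have hft : Fintype (AdjoinRoot Q) := Fintype.ofFinite _
  have hcard : Fintype.card (AdjoinRoot Q) = Fintype.card K ^ Q.natDegree := by
    rw [Module.card_eq_pow_finrank (K := K), (AdjoinRoot.powerBasis hQ0).finrank]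
    rfl
  have hM0 : M ≠ 0 := by
    rintro rfl
    apply h2
    rw [pow_zero, sub_self]
    exact dvd_zero _
  have hξ0 : AdjoinRoot.root Q ≠ 0 := by
    intro h
    rw [h, zero_pow (Nat.mul_ne_zero hr.ne_zero hM0)] at hξ1
    exact zero_ne_one hξ1
  have hξq : (AdjoinRoot.root Q) ^ (Fintype.card (AdjoinRoot Q) - 1) = 1 :=
    FiniteField.pow_card_sub_one_eq_one _ hξ0
  have ho1 : orderOf (AdjoinRoot.root Q) ∣ r * M := orderOf_dvd_of_pow_eq_one hξ1
  have ho2 : ¬ orderOf (AdjoinRoot.root Q) ∣ M := fun h => hξ2 (orderOf_dvd_iff_pow_eq_one.1 h)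
  have hro : r ∣ orderOf (AdjoinRoot.root Q) := by
    by_contra hnd
    have hcop : (orderOf (AdjoinRoot.root Q)).Coprime r :=
      (Nat.Coprime.symm ((Nat.Prime.coprime_iff_not_dvd hr).2 hnd))
    exact ho2 (hcop.dvd_of_dvd_mul_left ho1)
  have hrq : r ∣ Fintype.card K ^ Q.natDegree - 1 := by
    rw [← hcard]
    exact hro.trans (orderOf_dvd_of_pow_eq_one hξq)
  rw [orderOf_dvd_iff_pow_eq_one]
  have hq1 : 1 ≤ Fintype.card K ^ Q.natDegree := Nat.one_le_pow _ _ Fintype.card_pos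
  rw [← ZMod.natCast_eq_zero_iff, Nat.cast_sub hq1, Nat.cast_pow, Nat.cast_one, sub_eq_zero] at hrq
  exact hrq

/-- No matrix in `GL_n(q)` has order `r * s` when `n < k + l` and `k ∤ l`. -/
theorem no_matrix_order_mul (p : ℕ) [Fact p.Prime] [CharP K p] (n r s k l : ℕ)
    (hr : r.Prime) (hs : s.Prime) (hrp : r ≠ p) (hsp : s ≠ p)
    (hk : k = orderOf ((Fintype.card K : ℕ) : ZMod r))
    (hl : l = orderOf ((Fintype.card K : ℕ) : ZMod s)) (hkl : k ≤ l)
    (hn : n < k + l) (hndvd : ¬ k ∣ l) (A : Matrix (Fin n) (Fin n) K)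
    (hA : A ^ (r * s) = 1) (hAr : A ^ r ≠ 1) (hAs : A ^ s ≠ 1) : False := by
  have hp : p.Prime := Fact.out
  have hss : Module.End.IsSemisimple (Matrix.toLin' A) := by
    apply Cfsg.Agent.Helper12.SympConj.isSemisimple_toLin'_of_pow_eq_one A (r * s) _ hA
    rw [Nat.cast_mul]
    apply mul_ne_zero
    · rw [Ne, CharP.cast_eq_zero_iff K p]
      exact fun h => hrp ((Nat.prime_dvd_prime_iff_eq hp hr).1 h).symm
    · rw [Ne, CharP.cast_eq_zero_iff K p]
      exact fun h => hsp ((Nat.prime_dvd_prime_iff_eq hp hs).1 h).symm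
  have hN : aeval A (X ^ (r * s) - 1 : K[X]) = 0 := by
    rw [map_sub, map_pow, aeval_X, map_one, hA, sub_self]
  have hne : ∀ M : ℕ, 0 < M → (X ^ M - 1 : K[X]) ≠ 0 := by
    intro M hM
    exact (monic_X_pow_sub_C (1 : K) hM.ne').ne_zero
  -- a factor not dividing `X ^ s - 1`
  obtain ⟨Q₁, hQ₁i, hQ₁c, hQ₁s⟩ : ∃ Q : K[X], Irreducible Q ∧ Q ∣ A.charpoly ∧
      ¬ Q ∣ (X ^ s - 1 : K[X]) := by
    by_contra hcon
    push Not at hcon
    apply hAs
    have := aeval_eq_zero_of_semisimple_gen A hss (X ^ s - 1) (hne s hs.pos) hcon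
    rwa [map_sub, map_pow, aeval_X, map_one, sub_eq_zero] at this
  obtain ⟨Q₂, hQ₂i, hQ₂c, hQ₂r⟩ : ∃ Q : K[X], Irreducible Q ∧ Q ∣ A.charpoly ∧
      ¬ Q ∣ (X ^ r - 1 : K[X]) := by
    by_contra hcon
    push Not at hcon
    apply hAr
    have := aeval_eq_zero_of_semisimple_gen A hss (X ^ r - 1) (hne r hr.pos) hcon
    rwa [map_sub, map_pow, aeval_X, map_one, sub_eq_zero] at this
  have hQ₁N := dvd_of_irreducible_dvd_charpoly_gen A _ hN Q₁ hQ₁i hQ₁c
  have hQ₂N := dvd_of_irreducible_dvd_charpoly_gen A _ hN Q₂ hQ₂i hQ₂c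
  have hkd₁ : k ∣ Q₁.natDegree := by
    rw [hk]
    exact orderOf_dvd_natDegree Q₁ hQ₁i r s hr hQ₁N hQ₁s
  have hld₂ : l ∣ Q₂.natDegree := by
    rw [hl]
    apply orderOf_dvd_natDegree Q₂ hQ₂i s r hs _ hQ₂r
    rwa [mul_comm]
  have hcd : A.charpoly.natDegree = n := by
    rw [Matrix.charpoly_natDegree_eq_dim, Fintype.card_fin]
  have hc0 : A.charpoly ≠ 0 := (Matrix.charpoly_monic A).ne_zero
  have hd₁pos : 0 < Q₁.natDegree := hQ₁i.natDegree_pos
  have hd₂pos : 0 < Q₂.natDegree := hQ₂i.natDegree_pos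
  by_cases hQ₁r : Q₁ ∣ (X ^ r - 1 : K[X])
  · -- distinct factors
    have hcop : IsCoprime Q₁ Q₂ := by
      rw [hQ₁i.coprime_iff_not_dvd]
      intro hdvd
      have := (hQ₁i.associated_of_dvd hQ₂i hdvd).symm.dvd
      exact hQ₂r (this.trans hQ₁r)
    have hprod : Q₁ * Q₂ ∣ A.charpoly := hcop.mul_dvd hQ₁c hQ₂c
    have := natDegree_le_of_dvd hprod hc0
    rw [natDegree_mul hQ₁i.ne_zero hQ₂i.ne_zero, hcd] at this
    have := Nat.le_of_dvd hd₁pos hkd₁
    have := Nat.le_of_dvd hd₂pos hld₂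
    omega
  · -- one factor carrying both primes
    have hld₁ : l ∣ Q₁.natDegree := by
      rw [hl]
      apply orderOf_dvd_natDegree Q₁ hQ₁i s r hs _ hQ₁r
      rwa [mul_comm]
    have hlcm : Nat.lcm k l ∣ Q₁.natDegree := Nat.lcm_dvd hkd₁ hld₁
    have hdn : Q₁.natDegree ≤ n := by
      have := natDegree_le_of_dvd hQ₁c hc0
      rwa [hcd] at this
    have hlcmle : Nat.lcm k l ≤ n := le_trans (Nat.le_of_dvd hd₁pos hlcm) hdn
    obtain ⟨j, hj⟩ := Nat.dvd_lcm_right k l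
    rcases Nat.lt_or_ge j 2 with hj2 | hj2
    · interval_cases j
      · rw [mul_zero] at hj
        rw [hj] at hlcm
        have := Nat.eq_zero_of_zero_dvd hlcm
        omega
      · rw [mul_one] at hj
        apply hndvd
        rw [← hj]
        exact Nat.dvd_lcm_left k l
    · have : l * 2 ≤ l * j := Nat.mul_le_mul_left l hj2
      omega

end Cfsg.Agent.Helper12.PslGraph
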