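import Mathlib
import Cfsg.Agent.Helper12.SpPrimeF
import Cfsg.Agent.Helper12.WeirA

set_option autoImplicit false

/-! An element of order `m = r^v` (the `r`-part of `q^d - 1`, `d = ord_r(q)`) in `Sp_2b(q)`, where
`b = d` if `d` is odd and `b = d / 2` if `d` is even. -/

open Polynomial UniqueFactorizationMonoid

namespace Cfsg.Agent.Helper12.SpSylow

open Cfsg.Agent.Helper12.SpPrime

universe u

variable {K : Type u} [Field K]

theorem mirror_eq_self_of_recip_eq_self {P : K[X]} (hPm : P.Monic) (hPi : Irreducible P)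
    (h0 : P.coeff 0 ≠ 0) (hne : P ≠ X - C 1) (h : recip P = P) : P.mirror = P := by
  have h1 := mirror_eq_C_mul_recip h0
  rw [h] at h1
  have h2 := mirror_eval_one P
  rw [h1, eval_mul, eval_C] at h2
  have h3 : P.eval 1 ≠ 0 := eval_one_ne_zero hPm hPi hne
  have h4 : P.coeff 0 = 1 := by
    have : (P.coeff 0 - 1) * P.eval 1 = 0 := by rw [sub_mul, h2, one_mul, sub_self]
    rcases mul_eq_zero.1 this with h | h
    · exact sub_eq_zero.1 h
    · exact absurd h h3
  rw [h4, map_one, one_mul] at h1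
  exact h1

theorem mirror_mul_recip {P : K[X]} (hPm : P.Monic) (h0 : P.coeff 0 ≠ 0) :
    (P * recip P).mirror = P * recip P := by
  have h1 : (recip P).coeff 0 ≠ 0 := by
    rw [recip_coeff_zero hPm h0]
    exact inv_ne_zero h0
  rw [mirror_mul_of_domain, mirror_eq_C_mul_recip h0, mirror_eq_C_mul_recip h1,
    recip_recip hPm h0, recip_coeff_zero hPm h0]
  have h2 : C (P.coeff 0) * recip P * (C (P.coeff 0)⁻¹ * P) =
      C (P.coeff 0 * (P.coeff 0)⁻¹) * (P * recip P) := by
    rw [map_mul]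
    ring
  rw [h2, mul_inv_cancel₀ h0, map_one, one_mul]

variable [Fintype K]

/-- An irreducible factor of `X^M - 1` is self-reciprocal when `M ∣ q^j + 1`. -/
theorem recip_eq_self_of_dvd_pow_add_one (M j : ℕ) {P : K[X]} (hPm : P.Monic)
    (hPi : Irreducible P) (h0 : P.coeff 0 ≠ 0) (hd : P ∣ (X ^ M - 1 : K[X]))
    (hM : M ∣ Fintype.card K ^ j + 1) : recip P = P := by
  have : Fact (Irreducible P) := ⟨hPi⟩
  set x : AdjoinRoot P := AdjoinRoot.root P with hxdef
  have hx : aeval x P = 0 := by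
    rw [AdjoinRoot.aeval_eq, AdjoinRoot.mk_self]
  have hxr : x ^ M = 1 := by
    obtain ⟨Q, hQ⟩ := hd
    have := congrArg (aeval x) hQ
    rw [map_mul, hx, zero_mul, map_sub, map_pow, aeval_X, map_one, sub_eq_zero] at this
    exact this
  obtain ⟨c, hc⟩ := hM
  set N := Fintype.card K ^ j with hN
  have hz : x ^ N * x = 1 := by
    rw [← pow_succ, hc, pow_mul, hxr, one_pow]
  have hzP : aeval (x ^ N) P = 0 := aeval_pow_card_pow P x hx _
  let _ : Invertible x := ⟨x ^ N, hz, by rw [mul_comm]; exact hz⟩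
  have hzR : aeval (x ^ N) (recip P) = 0 := by
    rw [recip, mirror_eq_reverse h0, map_mul]
    have h1 : aeval (x ^ N) P.reverse = 0 := by
      have := (eval₂_reverse_eq_zero_iff (algebraMap K (AdjoinRoot P)) x P).2 hx
      exact this
    rw [h1, mul_zero]
  have e1 := minpoly.eq_of_irreducible_of_monic hPi hzP hPm
  have e2 := minpoly.eq_of_irreducible_of_monic (recip_irreducible hPi h0) hzR (recip_monic h0)
  exact e2.trans e1.symm

/-- A monic irreducible factor of the `M`-th cyclotomic polynomial, of degree `ord_M(q)`. -/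
theorem exists_cyclotomic_factor (p : ℕ) [Fact p.Prime] [CharP K p] (M : ℕ) (hM : p.Coprime M)
    (hM1 : 0 < M) :
    ∃ P : K[X], P.Monic ∧ Irreducible P ∧ P ∣ cyclotomic M K ∧
      P.natDegree = orderOf ((Fintype.card K : ℕ) : ZMod M) := by
  classical
  obtain ⟨f, -, hK⟩ := FiniteField.card K p
  have hΦ0 : cyclotomic M K ≠ 0 := cyclotomic_ne_zero M K
  have hnu : ¬ IsUnit (cyclotomic M K) := by
    apply not_isUnit_of_natDegree_pos
    rw [natDegree_cyclotomic]
    exact Nat.totient_pos.2 hM1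
  obtain ⟨P, hP⟩ := exists_mem_normalizedFactors hΦ0 hnu
  have hPi := irreducible_of_normalized_factor P hP
  refine ⟨P, ?_, hPi, dvd_of_mem_normalizedFactors hP, ?_⟩
  · rw [← normalize_normalized_factor P hP]
    exact monic_normalize hPi.ne_zero
  · rw [natDegree_of_mem_normalizedFactors_cyclotomic hK hM hP, ← orderOf_units,
      ZMod.coe_unitOfCoprime, hK]

/-- The order of `q` modulo the `r`-part of `q^d - 1`. -/
theorem orderOf_zmod_pow (q r v : ℕ) (hq : 1 ≤ q) (hv : 0 < v)
    (hdvd : r ^ v ∣ q ^ orderOf (q : ZMod r) - 1) :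
    orderOf (q : ZMod (r ^ v)) = orderOf (q : ZMod r) := by
  apply Nat.dvd_antisymm
  · apply orderOf_dvd_of_pow_eq_one
    have h1 : 1 ≤ q ^ orderOf (q : ZMod r) := Nat.one_le_pow _ _ hq
    have h2 := (ZMod.natCast_eq_zero_iff (q ^ orderOf (q : ZMod r) - 1) (r ^ v)).2 hdvd
    rw [Nat.cast_sub h1, Nat.cast_pow, Nat.cast_one, sub_eq_zero] at h2
    exact h2
  · have hr : r ∣ r ^ v := dvd_pow_self r hv.ne'
    have h1 := orderOf_map_dvd (ZMod.castHom hr (ZMod r)).toMonoidHom ((q : ℕ) : ZMod (r ^ v))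
    simpa using h1

end Cfsg.Agent.Helper12.SpSylow
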