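import Mathlib
import Cfsg.Agent.Helper12.PslGraphF
import Cfsg.Agent.Helper12.SpSylowC

set_option autoImplicit false

/-! Self-reciprocal irreducible polynomials over a finite field, and blocks of irreducible factors
of a palindromic polynomial. -/

open Polynomial

namespace Cfsg.Agent.Helper12.SpGraph

open Cfsg.Agent.Helper12.SpPrime

universe u

variable {K : Type u} [Field K]

/-- Reciprocals of factors of a self-mirror polynomial are factors. -/
theorem recip_dvd_of_mirror_eq {f P : K[X]} (hfm : f.mirror = f) (h0 : P.coeff 0 ≠ 0)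
    (hP : P ∣ f) :
    recip P ∣ f := by
  have h1 : P.mirror ∣ f.mirror := by
    have := map_dvd (mirrorEquiv (K := K)) hP
    rwa [mirrorEquiv_apply, mirrorEquiv_apply] at this
  rw [hfm] at h1
  rw [recip]
  exact (IsUnit.mul_left_dvd (isUnit_C.2 (isUnit_iff_ne_zero.2 (inv_ne_zero h0)))).2 h1

theorem coeff_zero_ne_zero_of_dvd_X_pow_sub_one {P : K[X]} (N : ℕ) (hN : 0 < N)
    (hd : P ∣ (X ^ N - 1 : K[X])) : P.coeff 0 ≠ 0 := by
  intro h0
  have h1 : (X : K[X]) ∣ X ^ N - 1 := (X_dvd_iff.2 h0).trans hd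
  rw [X_dvd_iff, coeff_sub, coeff_X_pow, coeff_one_zero, if_neg hN.ne] at h1
  simp at h1

theorem X_sub_one_dvd_X_pow_sub_one (N : ℕ) : (X - C 1 : K[X]) ∣ X ^ N - 1 := by
  rw [dvd_iff_isRoot, IsRoot, eval_sub, eval_pow, eval_X, one_pow, eval_one, sub_self]

theorem isCoprime_of_monic_irreducible_ne {P Q : K[X]} (hPm : P.Monic) (hPi : Irreducible P)
    (hQm : Q.Monic) (hQi : Irreducible Q) (hne : P ≠ Q) : IsCoprime P Q := by
  rw [hPi.coprime_iff_not_dvd]
  intro h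
  exact hne (eq_of_monic_of_associated hPm hQm (hPi.associated_of_dvd hQi h))

variable [Fintype K]

/-- A self-reciprocal irreducible polynomial over `F_q` divides `X ^ (q ^ j + 1) - 1` for some
`j`. -/
theorem exists_dvd_pow_card_add_one {Q : K[X]} (hQi : Irreducible Q)
    (h0 : Q.coeff 0 ≠ 0) (hrec : recip Q = Q) :
    ∃ j : ℕ, Q ∣ (X ^ (Fintype.card K ^ j + 1) - 1 : K[X]) := by
  have hfact : Fact (Irreducible Q) := ⟨hQi⟩
  have hQ0 : Q ≠ 0 := hQi.ne_zero
  set x : AdjoinRoot Q := AdjoinRoot.root Q with hxdef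
  have hx : aeval x Q = 0 := by
    rw [AdjoinRoot.aeval_eq, AdjoinRoot.mk_self]
  have hx0 : x ≠ 0 := by
    intro h
    rw [h] at hx
    have h1 := coeff_zero_eq_aeval_zero' (A := AdjoinRoot Q) Q
    rw [hx] at h1
    exact h0 ((map_eq_zero _).1 h1)
  have hinv : aeval x⁻¹ Q = 0 := by
    have h1 : aeval x⁻¹ (recip Q) = 0 := by
      rw [recip, mirror_eq_reverse h0, map_mul]
      let _ : Invertible x := invertibleOfNonzero hx0
      have h2 : aeval x⁻¹ Q.reverse = 0 := by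
        have := (eval₂_reverse_eq_zero_iff (algebraMap K (AdjoinRoot Q)) x Q).2 hx
        rw [invOf_eq_inv] at this
        exact this
      rw [h2, mul_zero]
    rwa [hrec] at h1
  have hfinmod : Module.Finite K (AdjoinRoot Q) := (AdjoinRoot.powerBasis hQ0).finite
  have hfin : Finite (AdjoinRoot Q) := Module.finite_of_finite K
  have hinv' : Q.eval₂ (Algebra.ofId K (AdjoinRoot Q)) x⁻¹ = 0 := hinv
  let σ : AdjoinRoot Q →ₐ[K] AdjoinRoot Q := AdjoinRoot.liftAlgHom Q (Algebra.ofId K _) x⁻¹ hinv'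
  have hσ : σ x = x⁻¹ := AdjoinRoot.liftAlgHom_root Q (Algebra.ofId K _) x⁻¹ hinv'
  obtain ⟨⟨j, hj⟩, hjσ⟩ := (FiniteField.bijective_frobeniusAlgHom_pow K (AdjoinRoot Q)).2 σ
  refine ⟨j, ?_⟩
  have h3 : σ x = x ^ (Fintype.card K ^ j) := by
    rw [← hjσ]
    simp only [AlgHom.coe_pow, FiniteField.coe_frobeniusAlgHom, pow_iterate]
  rw [hσ] at h3
  rw [← AdjoinRoot.mk_eq_zero, map_sub, map_pow, AdjoinRoot.mk_X, map_one, pow_succ, ← h3,
    inv_mul_cancel₀ hx0, sub_self]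

omit [Fintype K] in
/-- If `Q ∣ X^(rM) - 1`, `Q ∤ X^M - 1` and `Q ∣ X^E - 1` then `r ∣ E`. -/
theorem prime_dvd_of_dvd_X_pow_sub_one (Q : K[X]) (hQ : Irreducible Q) (r M E : ℕ) (hr : r.Prime)
    (h1 : Q ∣ (X ^ (r * M) - 1 : K[X])) (h2 : ¬ Q ∣ (X ^ M - 1 : K[X]))
    (h3 : Q ∣ (X ^ E - 1 : K[X])) : r ∣ E := by
  have hfact : Fact (Irreducible Q) := ⟨hQ⟩
  have hξ1 : (AdjoinRoot.root Q) ^ (r * M) = 1 := by
    have := AdjoinRoot.mk_eq_zero.2 h1
    rw [map_sub, map_pow, AdjoinRoot.mk_X, map_one, sub_eq_zero] at this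
    exact this
  have hξ3 : (AdjoinRoot.root Q) ^ E = 1 := by
    have := AdjoinRoot.mk_eq_zero.2 h3
    rw [map_sub, map_pow, AdjoinRoot.mk_X, map_one, sub_eq_zero] at this
    exact this
  have hξ2 : (AdjoinRoot.root Q) ^ M ≠ 1 := by
    intro h
    apply h2
    rw [← AdjoinRoot.mk_eq_zero, map_sub, map_pow, AdjoinRoot.mk_X, map_one, h, sub_self]
  have ho1 : orderOf (AdjoinRoot.root Q) ∣ r * M := orderOf_dvd_of_pow_eq_one hξ1
  have ho2 : ¬ orderOf (AdjoinRoot.root Q) ∣ M := fun h => hξ2 (orderOf_dvd_iff_pow_eq_one.1 h)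
  have hro : r ∣ orderOf (AdjoinRoot.root Q) := by
    by_contra hnd
    have hcop : (orderOf (AdjoinRoot.root Q)).Coprime r :=
      (Nat.Coprime.symm ((Nat.Prime.coprime_iff_not_dvd hr).2 hnd))
    exact ho2 (hcop.dvd_of_dvd_mul_left ho1)
  exact hro.trans (orderOf_dvd_of_pow_eq_one hξ3)

end Cfsg.Agent.Helper12.SpGraph
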