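import Mathlib
import Cfsg.Agent.Helper12.SpGraphD

set_option autoImplicit false

/-! Polynomial layer for the comparison of element orders of `Ω_{2n+1}(q)` and `PSp_{2n}(q)`:
root orders of irreducible polynomials over a finite field and blocks of irreducible factors of a
polynomial whose set of factors is closed under taking reciprocals. -/

open Polynomial

namespace Cfsg.Agent.Helper12.BCG

open Cfsg.Agent.Helper12.SpPrime Cfsg.Agent.Helper12.SpGraph

/-- `M` divides `q ^ e - 1` or `q ^ e + 1` -/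
def Tor (q e M : ℕ) : Prop := M ∣ q ^ e - 1 ∨ M ∣ q ^ e + 1

theorem Tor.of_dvd {q e M M' : ℕ} (h : Tor q e M) (hd : M' ∣ M) : Tor q e M' := by
  rcases h with h | h
  · exact Or.inl (hd.trans h)
  · exact Or.inr (hd.trans h)

universe u

variable {K : Type u} [Field K]

/-- the set of factors with non-zero constant term is closed under reciprocals -/
def RecipClosed (f : K[X]) : Prop := ∀ P : K[X], P.coeff 0 ≠ 0 → P ∣ f → recip P ∣ f

theorem recipClosed_of_mirror {f : K[X]} {u : K} (hu : u ≠ 0) (h : f.mirror = C u * f) :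
    RecipClosed f := by
  intro P h0 hP
  have h1 : P.mirror ∣ f.mirror := by
    have := map_dvd (mirrorEquiv (K := K)) hP
    rwa [mirrorEquiv_apply, mirrorEquiv_apply] at this
  rw [h] at h1
  have h2 : P.mirror ∣ f := (IsUnit.dvd_mul_left (isUnit_C.2 (isUnit_iff_ne_zero.2 hu))).1 h1
  rw [recip]
  exact (IsUnit.mul_left_dvd (isUnit_C.2 (isUnit_iff_ne_zero.2 (inv_ne_zero h0)))).2 h2

/-- the multiplicative order of the roots of `Q` -/
noncomputable def rootOrd (Q : K[X]) : ℕ := orderOf (AdjoinRoot.root Q)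

theorem dvd_X_pow_sub_one_iff (Q : K[X]) (N : ℕ) :
    Q ∣ (X ^ N - 1 : K[X]) ↔ rootOrd Q ∣ N := by
  rw [rootOrd, orderOf_dvd_iff_pow_eq_one, ← AdjoinRoot.mk_eq_zero, map_sub, map_pow,
    AdjoinRoot.mk_X, map_one, sub_eq_zero]

theorem rootOrd_eq_of_forall {Q U : K[X]} (hQ : 0 < rootOrd Q) (hU : 0 < rootOrd U)
    (h : ∀ N : ℕ, 0 < N → (U ∣ (X ^ N - 1 : K[X]) ↔ Q ∣ (X ^ N - 1 : K[X]))) :
    rootOrd U = rootOrd Q := by
  apply Nat.dvd_antisymm
  · rw [← dvd_X_pow_sub_one_iff, h _ hQ, dvd_X_pow_sub_one_iff]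
  · rw [← dvd_X_pow_sub_one_iff, ← h _ hU, dvd_X_pow_sub_one_iff]

theorem rootOrd_eq_of_associated {Q U : K[X]} (h : Associated U Q) : rootOrd U = rootOrd Q := by
  apply Nat.dvd_antisymm
  · rw [← dvd_X_pow_sub_one_iff]
    exact h.dvd.trans ((dvd_X_pow_sub_one_iff Q _).2 dvd_rfl)
  · rw [← dvd_X_pow_sub_one_iff]
    exact h.symm.dvd.trans ((dvd_X_pow_sub_one_iff U _).2 dvd_rfl)

theorem natDegree_eq_of_associated {Q U : K[X]} (h : Associated U Q) :
    U.natDegree = Q.natDegree := by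
  obtain ⟨u, hu⟩ := h
  obtain ⟨c, hc, hcu⟩ := Polynomial.isUnit_iff.1 u.isUnit
  rw [← hu, ← hcu, natDegree_mul_C hc.ne_zero]

variable [Fintype K]

theorem rootOrd_dvd_card_pow_sub_one {Q : K[X]} (hQi : Irreducible Q) (h0 : Q.coeff 0 ≠ 0) :
    rootOrd Q ∣ Fintype.card K ^ Q.natDegree - 1 := by
  have hfact : Fact (Irreducible Q) := ⟨hQi⟩
  have hQ0 : Q ≠ 0 := hQi.ne_zero
  set x : AdjoinRoot Q := AdjoinRoot.root Q with hxdef
  have hx : aeval x Q = 0 := by
    rw [AdjoinRoot.aeval_eq, AdjoinRoot.mk_self]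
  have hx0 : x ≠ 0 := by
    intro h
    rw [h] at hx
    have h1 := coeff_zero_eq_aeval_zero' (A := AdjoinRoot Q) Q
    rw [hx] at h1
    exact h0 ((map_eq_zero _).1 h1)
  have hfinmod : Module.Finite K (AdjoinRoot Q) := (AdjoinRoot.powerBasis hQ0).finite
  have hfin : Finite (AdjoinRoot Q) := Module.finite_of_finite K
  have := Fintype.ofFinite (AdjoinRoot Q)
  have hcard : Fintype.card (AdjoinRoot Q) = Fintype.card K ^ Q.natDegree := by
    rw [Module.card_eq_pow_finrank (K := K) (V := AdjoinRoot Q),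
      (AdjoinRoot.powerBasis hQ0).finrank, AdjoinRoot.powerBasis_dim]
  rw [rootOrd, ← hcard]
  exact orderOf_dvd_of_pow_eq_one (FiniteField.pow_card_sub_one_eq_one x hx0)

theorem rootOrd_pos {Q : K[X]} (hQi : Irreducible Q) (h0 : Q.coeff 0 ≠ 0) : 0 < rootOrd Q := by
  have h1 := rootOrd_dvd_card_pow_sub_one hQi h0
  have hd : 0 < Q.natDegree := hQi.natDegree_pos
  have hq : 1 < Fintype.card K := Fintype.one_lt_card
  have h2 : 1 < Fintype.card K ^ Q.natDegree := Nat.one_lt_pow hd.ne' hq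
  exact Nat.pos_of_dvd_of_pos h1 (by omega)

theorem arith_flip (m q j d : ℕ) (hq : 0 < q) (hjd : j ≤ d) (h1 : m ∣ q ^ j + 1)
    (h2 : m ∣ q ^ d - 1) : m ∣ q ^ (d - j) + 1 := by
  have e1 : ((q ^ j + 1 : ℕ) : ZMod m) = 0 := (ZMod.natCast_eq_zero_iff _ _).2 h1
  have e2 : ((q ^ d - 1 : ℕ) : ZMod m) = 0 := (ZMod.natCast_eq_zero_iff _ _).2 h2
  have hqd : 1 ≤ q ^ d := Nat.one_le_pow _ _ hq
  rw [Nat.cast_sub hqd] at e2
  push_cast at e1 e2
  rw [← ZMod.natCast_eq_zero_iff]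
  push_cast
  have e3 : (q : ZMod m) ^ d = (q : ZMod m) ^ (d - j) * (q : ZMod m) ^ j := by
    rw [← pow_add, Nat.sub_add_cancel hjd]
  rw [e3] at e2
  linear_combination (q : ZMod m) ^ (d - j) * e1 - e2

/-- A self-reciprocal irreducible polynomial whose roots have order more than `2` has even degree
`≥ 2 e` where the root order divides `q ^ e + 1`. -/
theorem exists_tor_of_recip_eq_self {Q : K[X]} (hQi : Irreducible Q)
    (h0 : Q.coeff 0 ≠ 0) (hrec : recip Q = Q) (h2 : 2 < rootOrd Q) :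
    ∃ e : ℕ, 1 ≤ e ∧ 2 * e ≤ Q.natDegree ∧ rootOrd Q ∣ Fintype.card K ^ e + 1 := by
  have hfact : Fact (Irreducible Q) := ⟨hQi⟩
  have hQ0 : Q ≠ 0 := hQi.ne_zero
  set x : AdjoinRoot Q := AdjoinRoot.root Q with hxdef
  have hx : aeval x Q = 0 := by
    rw [AdjoinRoot.aeval_eq, AdjoinRoot.mk_self]
  have hx0 : x ≠ 0 := by
    intro h
    rw [h] at hx
    have h1 := coeff_zero_eq_aeval_zero' (A := AdjoinRoot Q) Q
    rw [hx] at h1
    exact h0 ((map_eq_zero _).1 h1)
  have hinv : aeval x⁻¹ Q = 0 := by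
    have h1 : aeval x⁻¹ (recip Q) = 0 := by
      rw [recip, mirror_eq_reverse h0, map_mul]
      let _ : Invertible x := invertibleOfNonzero hx0
      have h2 : aeval x⁻¹ Q.reverse = 0 := by
        have := (eval₂_reverse_eq_zero_iff (algebraMap K (AdjoinRoot Q)) x Q).2 hx
        rw [invOf_eq_inv] at this
        exact this
      rw [h2, mul_zero]
    rwa [hrec] at h1
  have hfinmod : Module.Finite K (AdjoinRoot Q) := (AdjoinRoot.powerBasis hQ0).finite
  have hfin : Finite (AdjoinRoot Q) := Module.finite_of_finite K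
  have hinv' : Q.eval₂ (Algebra.ofId K (AdjoinRoot Q)) x⁻¹ = 0 := hinv
  let σ : AdjoinRoot Q →ₐ[K] AdjoinRoot Q := AdjoinRoot.liftAlgHom Q (Algebra.ofId K _) x⁻¹ hinv'
  have hσ : σ x = x⁻¹ := AdjoinRoot.liftAlgHom_root Q (Algebra.ofId K _) x⁻¹ hinv'
  obtain ⟨⟨j, hj⟩, hjσ⟩ := (FiniteField.bijective_frobeniusAlgHom_pow K (AdjoinRoot Q)).2 σ
  have hjd : j < Q.natDegree := by
    rw [(AdjoinRoot.powerBasis hQ0).finrank, AdjoinRoot.powerBasis_dim] at hj
    exact hj
  have h3 : σ x = x ^ (Fintype.card K ^ j) := by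
    rw [← hjσ]
    simp only [AlgHom.coe_pow, FiniteField.coe_frobeniusAlgHom, pow_iterate]
  rw [hσ] at h3
  have h4 : x ^ (Fintype.card K ^ j + 1) = 1 := by
    rw [pow_succ, ← h3, inv_mul_cancel₀ hx0]
  have h5 : rootOrd Q ∣ Fintype.card K ^ j + 1 := orderOf_dvd_of_pow_eq_one h4
  have hj0 : j ≠ 0 := by
    rintro rfl
    rw [pow_zero] at h5
    have := Nat.le_of_dvd (by norm_num) h5
    omega
  have h6 := rootOrd_dvd_card_pow_sub_one hQi h0
  by_cases hle : 2 * j ≤ Q.natDegree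
  · exact ⟨j, by omega, hle, h5⟩
  · refine ⟨Q.natDegree - j, by omega, by omega, ?_⟩
    exact arith_flip _ _ _ _ Fintype.card_pos hjd.le h5 h6

/-- **Block lemma.** -/
theorem exists_block_of_recipClosed (f : K[X]) (hf : RecipClosed f) (Q : K[X]) (hQm : Q.Monic)
    (hQi : Irreducible Q) (h0 : Q.coeff 0 ≠ 0) (hQf : Q ∣ f) (h2 : 2 < rootOrd Q) :
    ∃ (e : ℕ) (P : K[X]), 1 ≤ e ∧ P.Monic ∧ P ∣ f ∧ 2 * e ≤ P.natDegree ∧
      Tor (Fintype.card K) e (rootOrd Q) ∧ Squarefree P ∧ Q ∣ P ∧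
      ∀ U : K[X], Irreducible U → U ∣ P →
        (rootOrd U = rootOrd Q ∧ U.natDegree = Q.natDegree) := by
  have hd0 : 0 < Q.natDegree := hQi.natDegree_pos
  have hRm : (recip Q).Monic := recip_monic h0
  have hRi : Irreducible (recip Q) := recip_irreducible hQi h0
  have hRf : recip Q ∣ f := hf Q h0 hQf
  have hR0 : (recip Q).coeff 0 ≠ 0 := by
    rw [recip_coeff_zero hQm h0]
    exact inv_ne_zero h0
  by_cases hrec : recip Q = Q
  · obtain ⟨e, he1, he2, he3⟩ := exists_tor_of_recip_eq_self hQi h0 hrec h2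
    refine ⟨e, Q, he1, hQm, hQf, he2, Or.inr he3, hQi.squarefree, dvd_rfl, ?_⟩
    intro U hU hUQ
    have hass := hU.associated_of_dvd hQi hUQ
    exact ⟨rootOrd_eq_of_associated hass, natDegree_eq_of_associated hass⟩
  · have hcop : IsCoprime Q (recip Q) :=
      isCoprime_of_monic_irreducible_ne hQm hQi hRm hRi (Ne.symm hrec)
    have hRord : rootOrd (recip Q) = rootOrd Q := by
      apply rootOrd_eq_of_forall (rootOrd_pos hQi h0) (rootOrd_pos hRi hR0)
      intro N hN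
      constructor
      · intro h
        have := recip_dvd_X_pow_sub_one hR0 N hN h
        rwa [recip_recip hQm h0] at this
      · intro h
        exact recip_dvd_X_pow_sub_one h0 N hN h
    refine ⟨Q.natDegree, Q * recip Q, hd0, hQm.mul hRm, hcop.mul_dvd hQf hRf, ?_,
      Or.inl (rootOrd_dvd_card_pow_sub_one hQi h0), ?_, dvd_mul_right _ _, ?_⟩
    · rw [Monic.natDegree_mul hQm hRm, recip_natDegree h0]
      omega
    · rw [squarefree_mul_iff]
      exact ⟨hcop.isRelPrime, hQi.squarefree, hRi.squarefree⟩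
    · intro U hU hUQ
      rcases hU.prime.dvd_or_dvd hUQ with h | h
      · have hass := hU.associated_of_dvd hQi h
        exact ⟨rootOrd_eq_of_associated hass, natDegree_eq_of_associated hass⟩
      · have hass := hU.associated_of_dvd hRi h
        exact ⟨(rootOrd_eq_of_associated hass).trans hRord,
          (natDegree_eq_of_associated hass).trans (recip_natDegree h0)⟩

omit [Fintype K] in
/-- blocks with different root orders are coprime -/
theorem isCoprime_of_rootOrd_ne {P₁ P₂ : K[X]} {m₁ m₂ : ℕ} (hP₁ : P₁ ≠ 0) (hm : m₁ ≠ m₂)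
    (h1 : ∀ U : K[X], Irreducible U → U ∣ P₁ → rootOrd U = m₁)
    (h2 : ∀ U : K[X], Irreducible U → U ∣ P₂ → rootOrd U = m₂) : IsCoprime P₁ P₂ := by
  apply isCoprime_of_irreducible_dvd
  · intro h
    exact hP₁ h.1
  · intro U hU hU1 hU2
    exact hm ((h1 U hU hU1).symm.trans (h2 U hU hU2))

end Cfsg.Agent.Helper12.BCG
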