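import Mathlib
import Cfsg.Agent.Helper12.SpSylowA

set_option autoImplicit false

/-! The block embedding `Sp_2b(F)^a → Sp_2n(F)` for `n = a * b + c`. -/

open Polynomial Matrix

namespace Cfsg.Agent.Helper12.SpSylow

universe u

variable {F : Type u} [Field F]

/-- An antisymmetric matrix with zero diagonal is alternating. -/
theorem alternating_of_antisymm {I : Type*} [Fintype I] [DecidableEq I] (Ω : Matrix I I F)
    (hΩ : Ωᵀ = -Ω) (hd : ∀ i, Ω i i = 0) (u : I → F) : u ⬝ᵥ (Ω *ᵥ u) = 0 := by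
  have h1 : u ⬝ᵥ (Ω *ᵥ u) = ∑ x ∈ (Finset.univ : Finset (I × I)), u x.1 * (Ω x.1 x.2 * u x.2) := by
    rw [← Finset.univ_product_univ, Finset.sum_product]
    simp only [dotProduct, Matrix.mulVec, Finset.mul_sum]
  rw [h1]
  apply Finset.sum_involution (fun x _ => (x.2, x.1))
  · intro x _
    have h2 : Ω x.2 x.1 = -Ω x.1 x.2 := by
      have := congrFun (congrFun hΩ x.1) x.2
      rw [Matrix.transpose_apply, Matrix.neg_apply] at this
      exact this
    dsimp only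
    rw [h2]
    ring
  · intro x _ hne heq
    apply hne
    have h3 : x.2 = x.1 := congrArg Prod.fst heq
    rw [h3, hd, zero_mul, mul_zero]
  · intro x _
    exact Finset.mem_univ _
  · intro x _
    rfl

variable (F) in
/-- The Gram matrix of the orthogonal sum of `a` copies of the standard `2b`-dimensional symplectic
space and one standard `2c`-dimensional symplectic space. -/
def blockOmega (a b c : ℕ) :
    Matrix (((Fin b ⊕ Fin b) × Fin a) ⊕ (Fin c ⊕ Fin c))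
      (((Fin b ⊕ Fin b) × Fin a) ⊕ (Fin c ⊕ Fin c)) F :=
  Matrix.fromBlocks (Matrix.blockDiagonal (fun _ : Fin a => Matrix.J (Fin b) F)) 0 0
    (Matrix.J (Fin c) F)

/-- The block matrix of a family of `2b × 2b` matrices. -/
def blockMat {a b : ℕ} (c : ℕ) (g : Fin a → Matrix (Fin b ⊕ Fin b) (Fin b ⊕ Fin b) F) :
    Matrix (((Fin b ⊕ Fin b) × Fin a) ⊕ (Fin c ⊕ Fin c))
      (((Fin b ⊕ Fin b) × Fin a) ⊕ (Fin c ⊕ Fin c)) F :=
  Matrix.fromBlocks (Matrix.blockDiagonal g) 0 0 1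

theorem blockMat_one {a b : ℕ} (c : ℕ) :
    blockMat c (fun _ : Fin a => (1 : Matrix (Fin b ⊕ Fin b) (Fin b ⊕ Fin b) F)) = 1 := by
  rw [blockMat]
  have : (fun _ : Fin a => (1 : Matrix (Fin b ⊕ Fin b) (Fin b ⊕ Fin b) F)) = 1 := rfl
  rw [this, Matrix.blockDiagonal_one, Matrix.fromBlocks_one]

theorem blockMat_mul {a b : ℕ} (c : ℕ) (g h : Fin a → Matrix (Fin b ⊕ Fin b) (Fin b ⊕ Fin b) F) :
    blockMat c (fun j => g j * h j) = blockMat c g * blockMat c h := by
  rw [blockMat, blockMat, blockMat, Matrix.fromBlocks_multiply, ← Matrix.blockDiagonal_mul]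
  simp

theorem blockMat_injective {a b : ℕ} (c : ℕ) :
    Function.Injective (blockMat (F := F) (a := a) (b := b) c) := by
  intro g h hgh
  rw [blockMat, blockMat, Matrix.fromBlocks_inj] at hgh
  exact Matrix.blockDiagonal_injective hgh.1

theorem blockMat_preserves {a b : ℕ} (c : ℕ)
    (g : Fin a → Matrix (Fin b ⊕ Fin b) (Fin b ⊕ Fin b) F)
    (hg : ∀ j, (g j)ᵀ * Matrix.J (Fin b) F * g j = Matrix.J (Fin b) F) :
    (blockMat c g)ᵀ * blockOmega F a b c * blockMat c g = blockOmega F a b c := by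
  rw [blockMat, blockOmega, Matrix.fromBlocks_transpose, Matrix.fromBlocks_multiply,
    Matrix.fromBlocks_multiply, Matrix.blockDiagonal_transpose]
  simp only [Matrix.transpose_zero, Matrix.zero_mul, Matrix.mul_zero, add_zero, zero_add,
    Matrix.transpose_one, Matrix.one_mul, Matrix.mul_one]
  rw [← Matrix.blockDiagonal_mul, ← Matrix.blockDiagonal_mul]
  congr 2
  funext j
  exact hg j

theorem blockOmega_isUnit (a b c : ℕ) : IsUnit (blockOmega F a b c) := by
  have h1 : blockOmega F a b c * (-blockOmega F a b c) = 1 := by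
    rw [blockOmega, Matrix.fromBlocks_neg, Matrix.fromBlocks_multiply, ← Matrix.blockDiagonal_neg,
      ← Matrix.blockDiagonal_mul]
    simp only [neg_zero, Matrix.zero_mul, Matrix.mul_zero, add_zero, zero_add, Matrix.mul_neg,
      Matrix.J_squared, neg_neg, Pi.neg_apply]
    have : (fun _ : Fin a => (1 : Matrix (Fin b ⊕ Fin b) (Fin b ⊕ Fin b) F)) = 1 := rfl
    rw [this, Matrix.blockDiagonal_one, Matrix.fromBlocks_one]
  exact IsUnit.of_mul_eq_one _ h1

theorem blockOmega_alt (a b c : ℕ) (u : ((Fin b ⊕ Fin b) × Fin a) ⊕ (Fin c ⊕ Fin c) → F) :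
    u ⬝ᵥ (blockOmega F a b c *ᵥ u) = 0 := by
  apply alternating_of_antisymm
  · rw [blockOmega, Matrix.fromBlocks_transpose, Matrix.fromBlocks_neg, Matrix.blockDiagonal_transpose,
      ← Matrix.blockDiagonal_neg]
    simp only [Matrix.J_transpose, Matrix.transpose_zero, neg_zero]
    rfl
  · rintro (⟨x, j⟩ | x)
    · rw [blockOmega, Matrix.fromBlocks_apply₁₁, Matrix.blockDiagonal_apply_eq]
      rcases x with x | x <;> simp [Matrix.J]
    · rw [blockOmega, Matrix.fromBlocks_apply₂₂]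
      rcases x with x | x <;> simp [Matrix.J]

/-- The block embedding. -/
theorem exists_block_hom [Finite F] (a b c n : ℕ) (hn : n = a * b + c) :
    ∃ ψ : (Fin a → Matrix.symplecticGroup (Fin b) F) →* Matrix.symplecticGroup (Fin n) F,
      Function.Injective ψ := by
  classical
  have hcard : Fintype.card (((Fin b ⊕ Fin b) × Fin a) ⊕ (Fin c ⊕ Fin c)) =
      Fintype.card (Fin n ⊕ Fin n) := by
    simp only [Fintype.card_sum, Fintype.card_prod, Fintype.card_fin]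
    rw [hn]
    ring
  let ε := Fintype.equivOfCardEq hcard
  obtain ⟨Φ, hΦ⟩ := exists_uniform_conj_reindex ε (blockOmega F a b c) (blockOmega_isUnit a b c)
    (blockOmega_alt a b c)
  have hmem : ∀ g : Fin a → Matrix.symplecticGroup (Fin b) F,
      (Φ : Matrix (Fin n ⊕ Fin n) (Fin n ⊕ Fin n) F) *
        Matrix.reindex ε ε (blockMat c (fun j => (g j : Matrix (Fin b ⊕ Fin b) (Fin b ⊕ Fin b) F))) *
        ((Φ⁻¹ : (Matrix (Fin n ⊕ Fin n) (Fin n ⊕ Fin n) F)ˣ) :
          Matrix (Fin n ⊕ Fin n) (Fin n ⊕ Fin n) F) ∈ Matrix.symplecticGroup (Fin n) F := by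
    intro g
    apply hΦ
    apply blockMat_preserves
    intro j
    exact SymplecticGroup.mem_iff'.1 (g j).2
  refine ⟨{ toFun := fun g => ⟨_, hmem g⟩, map_one' := ?_, map_mul' := ?_ }, ?_⟩
  · apply Subtype.ext
    show (Φ : Matrix (Fin n ⊕ Fin n) (Fin n ⊕ Fin n) F) *
        Matrix.reindex ε ε (blockMat c (fun j : Fin a =>
          ((1 : Matrix.symplecticGroup (Fin b) F) : Matrix (Fin b ⊕ Fin b) (Fin b ⊕ Fin b) F))) *
        ((Φ⁻¹ : (Matrix (Fin n ⊕ Fin n) (Fin n ⊕ Fin n) F)ˣ) :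
          Matrix (Fin n ⊕ Fin n) (Fin n ⊕ Fin n) F) = 1
    have e1 : (fun j : Fin a =>
          ((1 : Matrix.symplecticGroup (Fin b) F) : Matrix (Fin b ⊕ Fin b) (Fin b ⊕ Fin b) F)) =
        fun _ => 1 := rfl
    rw [e1, blockMat_one]
    simp
  · intro g h
    apply Subtype.ext
    show (Φ : Matrix (Fin n ⊕ Fin n) (Fin n ⊕ Fin n) F) *
        Matrix.reindex ε ε (blockMat c (fun j : Fin a =>
          ((g j * h j : Matrix.symplecticGroup (Fin b) F) :
            Matrix (Fin b ⊕ Fin b) (Fin b ⊕ Fin b) F))) *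
        ((Φ⁻¹ : (Matrix (Fin n ⊕ Fin n) (Fin n ⊕ Fin n) F)ˣ) :
          Matrix (Fin n ⊕ Fin n) (Fin n ⊕ Fin n) F) =
      ((Φ : Matrix (Fin n ⊕ Fin n) (Fin n ⊕ Fin n) F) *
        Matrix.reindex ε ε (blockMat c (fun j : Fin a =>
          (g j : Matrix (Fin b ⊕ Fin b) (Fin b ⊕ Fin b) F))) *
        ((Φ⁻¹ : (Matrix (Fin n ⊕ Fin n) (Fin n ⊕ Fin n) F)ˣ) :
          Matrix (Fin n ⊕ Fin n) (Fin n ⊕ Fin n) F)) *
      ((Φ : Matrix (Fin n ⊕ Fin n) (Fin n ⊕ Fin n) F) *
        Matrix.reindex ε ε (blockMat c (fun j : Fin a =>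
          (h j : Matrix (Fin b ⊕ Fin b) (Fin b ⊕ Fin b) F))) *
        ((Φ⁻¹ : (Matrix (Fin n ⊕ Fin n) (Fin n ⊕ Fin n) F)ˣ) :
          Matrix (Fin n ⊕ Fin n) (Fin n ⊕ Fin n) F))
    have e1 : (fun j : Fin a => ((g j * h j : Matrix.symplecticGroup (Fin b) F) :
            Matrix (Fin b ⊕ Fin b) (Fin b ⊕ Fin b) F)) =
        fun j => (g j : Matrix (Fin b ⊕ Fin b) (Fin b ⊕ Fin b) F) *
          (h j : Matrix (Fin b ⊕ Fin b) (Fin b ⊕ Fin b) F) := rfl
    rw [e1, blockMat_mul]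
    simp only [Matrix.reindex_apply, ← Matrix.submatrix_mul_equiv _ _ ε.symm ε.symm ε.symm]
    simp only [Matrix.mul_assoc]
    rw [Units.inv_mul_cancel_left]
  · intro g h hgh
    have h1 : (Φ : Matrix (Fin n ⊕ Fin n) (Fin n ⊕ Fin n) F) *
        Matrix.reindex ε ε (blockMat c (fun j : Fin a =>
          (g j : Matrix (Fin b ⊕ Fin b) (Fin b ⊕ Fin b) F))) *
        ((Φ⁻¹ : (Matrix (Fin n ⊕ Fin n) (Fin n ⊕ Fin n) F)ˣ) :
          Matrix (Fin n ⊕ Fin n) (Fin n ⊕ Fin n) F) =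
      (Φ : Matrix (Fin n ⊕ Fin n) (Fin n ⊕ Fin n) F) *
        Matrix.reindex ε ε (blockMat c (fun j : Fin a =>
          (h j : Matrix (Fin b ⊕ Fin b) (Fin b ⊕ Fin b) F))) *
        ((Φ⁻¹ : (Matrix (Fin n ⊕ Fin n) (Fin n ⊕ Fin n) F)ˣ) :
          Matrix (Fin n ⊕ Fin n) (Fin n ⊕ Fin n) F) := congrArg Subtype.val hgh
    have h2 := (Units.mul_right_inj Φ).1 ((Units.mul_left_inj Φ⁻¹).1 h1)
    have h3 := blockMat_injective c ((Matrix.reindex ε ε).injective h2)
    funext j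
    exact Subtype.ext (congrFun h3 j)

end Cfsg.Agent.Helper12.SpSylow
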