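import Mathlib
import Cfsg.Agent.Helper12.SpSylowB

set_option autoImplicit false

/-! Embedding groups of isometries of a nondegenerate alternating Gram matrix into the standard
symplectic group; the two-block embedding `Sp_2b × Sp_2c → Sp_2(b+c)`. -/

open Matrix

namespace Cfsg.Agent.Helper12.SpGraph

open Cfsg.Agent.Helper12.SpSylow

universe u

variable {F : Type u} [Field F]

/-- An injective homomorphism into the matrices preserving a nondegenerate alternating Gram matrix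
on an index type of size `2n` gives an injective homomorphism into `Sp_2n(F)`. -/
theorem exists_hom_of_isometries [Finite F] {I : Type*} [Fintype I] [DecidableEq I] {n : ℕ}
    (hcard : Fintype.card I = Fintype.card (Fin n ⊕ Fin n)) (Ω : Matrix I I F)
    (hΩu : IsUnit Ω) (hΩa : ∀ u, u ⬝ᵥ (Ω *ᵥ u) = 0) {H : Type*} [Group H]
    (μ : H →* Matrix I I F) (hμ : ∀ h, (μ h)ᵀ * Ω * μ h = Ω) (hinj : Function.Injective μ) :
    ∃ ψ : H →* Matrix.symplecticGroup (Fin n) F, Function.Injective ψ := by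
  classical
  let ε := Fintype.equivOfCardEq hcard
  obtain ⟨Φ, hΦ⟩ := exists_uniform_conj_reindex ε Ω hΩu hΩa
  have hmem : ∀ g : H,
      (Φ : Matrix (Fin n ⊕ Fin n) (Fin n ⊕ Fin n) F) * Matrix.reindex ε ε (μ g) *
        ((Φ⁻¹ : (Matrix (Fin n ⊕ Fin n) (Fin n ⊕ Fin n) F)ˣ) :
          Matrix (Fin n ⊕ Fin n) (Fin n ⊕ Fin n) F) ∈ Matrix.symplecticGroup (Fin n) F :=
    fun g => hΦ _ (hμ g)
  refine ⟨{ toFun := fun g => ⟨_, hmem g⟩, map_one' := ?_, map_mul' := ?_ }, ?_⟩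
  · apply Subtype.ext
    show (Φ : Matrix (Fin n ⊕ Fin n) (Fin n ⊕ Fin n) F) * Matrix.reindex ε ε (μ 1) *
        ((Φ⁻¹ : (Matrix (Fin n ⊕ Fin n) (Fin n ⊕ Fin n) F)ˣ) :
          Matrix (Fin n ⊕ Fin n) (Fin n ⊕ Fin n) F) = 1
    rw [map_one]
    simp
  · intro g h
    apply Subtype.ext
    show (Φ : Matrix (Fin n ⊕ Fin n) (Fin n ⊕ Fin n) F) * Matrix.reindex ε ε (μ (g * h)) *
        ((Φ⁻¹ : (Matrix (Fin n ⊕ Fin n) (Fin n ⊕ Fin n) F)ˣ) :
          Matrix (Fin n ⊕ Fin n) (Fin n ⊕ Fin n) F) =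
      ((Φ : Matrix (Fin n ⊕ Fin n) (Fin n ⊕ Fin n) F) * Matrix.reindex ε ε (μ g) *
        ((Φ⁻¹ : (Matrix (Fin n ⊕ Fin n) (Fin n ⊕ Fin n) F)ˣ) :
          Matrix (Fin n ⊕ Fin n) (Fin n ⊕ Fin n) F)) *
      ((Φ : Matrix (Fin n ⊕ Fin n) (Fin n ⊕ Fin n) F) * Matrix.reindex ε ε (μ h) *
        ((Φ⁻¹ : (Matrix (Fin n ⊕ Fin n) (Fin n ⊕ Fin n) F)ˣ) :
          Matrix (Fin n ⊕ Fin n) (Fin n ⊕ Fin n) F))
    rw [map_mul]
    simp only [Matrix.reindex_apply, ← Matrix.submatrix_mul_equiv _ _ ε.symm ε.symm ε.symm]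
    simp only [Matrix.mul_assoc]
    rw [Units.inv_mul_cancel_left]
  · intro g h hgh
    have h1 : (Φ : Matrix (Fin n ⊕ Fin n) (Fin n ⊕ Fin n) F) * Matrix.reindex ε ε (μ g) *
        ((Φ⁻¹ : (Matrix (Fin n ⊕ Fin n) (Fin n ⊕ Fin n) F)ˣ) :
          Matrix (Fin n ⊕ Fin n) (Fin n ⊕ Fin n) F) =
      (Φ : Matrix (Fin n ⊕ Fin n) (Fin n ⊕ Fin n) F) * Matrix.reindex ε ε (μ h) *
        ((Φ⁻¹ : (Matrix (Fin n ⊕ Fin n) (Fin n ⊕ Fin n) F)ˣ) :
          Matrix (Fin n ⊕ Fin n) (Fin n ⊕ Fin n) F) := congrArg Subtype.val hgh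
    have h2 := (Units.mul_right_inj Φ).1 ((Units.mul_left_inj Φ⁻¹).1 h1)
    exact hinj ((Matrix.reindex ε ε).injective h2)

variable (F) in
/-- The Gram matrix of the orthogonal sum of two standard symplectic spaces. -/
def twoOmega (b c : ℕ) :
    Matrix ((Fin b ⊕ Fin b) ⊕ (Fin c ⊕ Fin c)) ((Fin b ⊕ Fin b) ⊕ (Fin c ⊕ Fin c)) F :=
  Matrix.fromBlocks (Matrix.J (Fin b) F) 0 0 (Matrix.J (Fin c) F)

theorem twoOmega_isUnit (b c : ℕ) : IsUnit (twoOmega F b c) := by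
  have h1 : twoOmega F b c * (-twoOmega F b c) = 1 := by
    rw [twoOmega, Matrix.fromBlocks_neg, Matrix.fromBlocks_multiply]
    simp only [neg_zero, Matrix.zero_mul, Matrix.mul_zero, add_zero, zero_add, Matrix.mul_neg,
      Matrix.J_squared, neg_neg]
    exact Matrix.fromBlocks_one
  exact IsUnit.of_mul_eq_one _ h1

theorem twoOmega_alt (b c : ℕ) (u : (Fin b ⊕ Fin b) ⊕ (Fin c ⊕ Fin c) → F) :
    u ⬝ᵥ (twoOmega F b c *ᵥ u) = 0 := by
  apply alternating_of_antisymm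
  · rw [twoOmega, Matrix.fromBlocks_transpose, Matrix.fromBlocks_neg]
    simp only [Matrix.J_transpose, Matrix.transpose_zero, neg_zero]
  · rintro (x | x)
    · rw [twoOmega, Matrix.fromBlocks_apply₁₁]
      rcases x with x | x <;> simp [Matrix.J]
    · rw [twoOmega, Matrix.fromBlocks_apply₂₂]
      rcases x with x | x <;> simp [Matrix.J]

/-- The block-diagonal matrix of a pair of symplectic matrices, as a monoid homomorphism. -/
def twoHom (b c : ℕ) :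
    Matrix.symplecticGroup (Fin b) F × Matrix.symplecticGroup (Fin c) F →*
      Matrix ((Fin b ⊕ Fin b) ⊕ (Fin c ⊕ Fin c)) ((Fin b ⊕ Fin b) ⊕ (Fin c ⊕ Fin c)) F where
  toFun g := Matrix.fromBlocks (g.1 : Matrix (Fin b ⊕ Fin b) (Fin b ⊕ Fin b) F) 0 0
    (g.2 : Matrix (Fin c ⊕ Fin c) (Fin c ⊕ Fin c) F)
  map_one' := Matrix.fromBlocks_one
  map_mul' g h := by
    rw [Matrix.fromBlocks_multiply]
    simp

/-- The two-block embedding `Sp_2b × Sp_2c → Sp_2n`, `n = b + c`. -/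
theorem exists_two_block_hom [Finite F] (b c n : ℕ) (hn : n = b + c) :
    ∃ ψ : Matrix.symplecticGroup (Fin b) F × Matrix.symplecticGroup (Fin c) F →*
      Matrix.symplecticGroup (Fin n) F, Function.Injective ψ := by
  have hcard : Fintype.card ((Fin b ⊕ Fin b) ⊕ (Fin c ⊕ Fin c)) =
      Fintype.card (Fin n ⊕ Fin n) := by
    simp only [Fintype.card_sum, Fintype.card_fin]
    omega
  apply exists_hom_of_isometries hcard (twoOmega F b c) (twoOmega_isUnit b c) (twoOmega_alt b c)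
    (twoHom b c)
  · rintro ⟨g, h⟩
    show (Matrix.fromBlocks (g : Matrix (Fin b ⊕ Fin b) (Fin b ⊕ Fin b) F) 0 0
      (h : Matrix (Fin c ⊕ Fin c) (Fin c ⊕ Fin c) F))ᵀ * twoOmega F b c *
      Matrix.fromBlocks (g : Matrix (Fin b ⊕ Fin b) (Fin b ⊕ Fin b) F) 0 0
      (h : Matrix (Fin c ⊕ Fin c) (Fin c ⊕ Fin c) F) = twoOmega F b c
    rw [twoOmega, Matrix.fromBlocks_transpose, Matrix.fromBlocks_multiply,
      Matrix.fromBlocks_multiply]
    simp only [Matrix.transpose_zero, Matrix.zero_mul, Matrix.mul_zero, add_zero, zero_add]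
    rw [SymplecticGroup.mem_iff'.1 g.2, SymplecticGroup.mem_iff'.1 h.2]
  · rintro ⟨g, h⟩ ⟨g', h'⟩ hgh
    have := Matrix.fromBlocks_inj.1 hgh
    exact Prod.ext (Subtype.ext this.1) (Subtype.ext this.2.2.2)

end Cfsg.Agent.Helper12.SpGraph
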