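import Mathlib
import Cfsg.Prelude.Def_Classical
import Cfsg.Agent.Helper12.SpGraphA
import Cfsg.Agent.Helper12.SpGraphB
import Cfsg.Agent.Helper2.SpCard
import Cfsg.Agent.Helper2.SpCenter

set_option autoImplicit false

/-! Elements of order `r * p` in `PSp_2n(q)`. -/

open Matrix

namespace Cfsg.Agent.Helper12.SpGraph

universe u

variable {F : Type u} [Field F] [Fintype F]

theorem orderOf_card_pos (p : ℕ) [Fact p.Prime] [CharP F p] (r : ℕ) (hr : r.Prime) (hrp : r ≠ p) :
    0 < orderOf ((Fintype.card F : ℕ) : ZMod r) := by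
  have hp : p.Prime := Fact.out
  have : Fact r.Prime := ⟨hr⟩
  obtain ⟨f, -, hq⟩ := FiniteField.card F p
  have hne : ((Fintype.card F : ℕ) : ZMod r) ≠ 0 := by
    rw [Ne, ZMod.natCast_eq_zero_iff, hq]
    intro h
    exact hrp ((Nat.prime_dvd_prime_iff_eq hr hp).1 (hr.dvd_of_dvd_pow h))
  rw [orderOf_pos_iff, isOfFinOrder_iff_pow_eq_one]
  exact ⟨r - 1, by have := hr.two_le; omega, ZMod.pow_card_sub_one_eq_one hne⟩

/-- `r` divides `q ^ (2 e) - 1` when the order of `q` mod `r` divides `2 e`. -/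
theorem dvd_pow_sub_one (r q e : ℕ) (hq : 0 < q) (h : orderOf ((q : ℕ) : ZMod r) ∣ 2 * e) :
    r ∣ q ^ (2 * e) - 1 := by
  rw [← ZMod.natCast_eq_zero_iff, Nat.cast_sub (Nat.one_le_pow _ _ hq), Nat.cast_pow, Nat.cast_one,
    orderOf_dvd_iff_pow_eq_one.1 h, sub_self]

theorem exists_orderOf_eq_mul (p : ℕ) [Fact p.Prime] [CharP F p] (n : ℕ) (hn : 2 ≤ n)
    (r : ℕ) (hr : r.Prime) (hr2 : r ≠ 2) (hrp : r ≠ p) (e : ℕ) (he1 : 1 ≤ e) (hen : e ≤ n - 1)
    (hke : orderOf ((Fintype.card F : ℕ) : ZMod r) ∣ 2 * e) :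
    ∃ g : Cfsg.PSp n F, orderOf g = r * p := by
  have hp : p.Prime := Fact.out
  have hqpos : 0 < Fintype.card F := Fintype.card_pos
  obtain ⟨f, -, hq⟩ := FiniteField.card F p
  -- an element of order `r` in `Sp_2(n-1)`
  have hfin1 : Finite (Matrix.symplecticGroup (Fin (n - 1)) F) := Subtype.finite
  have hfin2 : Finite (Matrix.symplecticGroup (Fin 1) F) := Subtype.finite
  have hr1 : r ∣ Nat.card (Matrix.symplecticGroup (Fin (n - 1)) F) := by
    rw [Cfsg.Agent.Helper2.Sp.card_symplectic_fin]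
    apply Dvd.dvd.mul_left
    apply Dvd.dvd.trans _ (Finset.dvd_prod_of_mem _ (Finset.mem_range.2 (show e - 1 < n - 1 by omega)))
    rw [show e - 1 + 1 = e by omega]
    exact dvd_pow_sub_one r _ e hqpos hke
  have hp1 : p ∣ Nat.card (Matrix.symplecticGroup (Fin 1) F) := by
    rw [Cfsg.Agent.Helper2.Sp.card_symplectic_fin]
    apply Dvd.dvd.mul_right
    rw [one_pow, pow_one, hq]
    exact dvd_pow_self p f.pos.ne'
  have : Fact r.Prime := ⟨hr⟩
  obtain ⟨y, hy⟩ := exists_prime_orderOf_dvd_card' r hr1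
  obtain ⟨v, hv⟩ := exists_prime_orderOf_dvd_card' p hp1
  obtain ⟨ψ, hψ⟩ := exists_two_block_hom (F := F) (n - 1) 1 n (by omega)
  have hcop : r.Coprime p := (Nat.coprime_primes hr hp).2 hrp
  have hx : orderOf (ψ (y, v)) = r * p := by
    rw [orderOf_injective ψ hψ, Prod.orderOf, hy, hv]
    exact hcop.lcm_eq_mul
  obtain ⟨x, hxdef⟩ : ∃ x, x = ψ (y, v) := ⟨_, rfl⟩
  rw [← hxdef] at hx
  refine ⟨QuotientGroup.mk x, ?_⟩
  have hne : Nonempty (Fin n) := ⟨⟨0, by omega⟩⟩
  have hd1 : orderOf (QuotientGroup.mk x : Cfsg.PSp n F) ∣ r * p := by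
    apply orderOf_dvd_of_pow_eq_one
    rw [← QuotientGroup.mk_pow, ← hx, pow_orderOf_eq_one, QuotientGroup.mk_one]
  have hd2 : r * p ∣ orderOf (QuotientGroup.mk x : Cfsg.PSp n F) := by
    have h1 : (QuotientGroup.mk x : Cfsg.PSp n F) ^
        orderOf (QuotientGroup.mk x : Cfsg.PSp n F) = 1 := pow_orderOf_eq_one _
    rw [← QuotientGroup.mk_pow, QuotientGroup.eq_one_iff,
      Cfsg.Agent.Helper2.Sp.mem_center_iff] at h1
    obtain ⟨c, hc, hxc⟩ := h1
    by_cases hp2 : p = 2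
    · -- characteristic two: the centre is trivial
      have hc1 : c = 1 := by
        have h2 : (2 : F) = 0 := by
          have := CharP.cast_eq_zero F p
          rw [hp2] at this
          exact_mod_cast this
        have h3 : (c - 1) * (c - 1) = 0 := by linear_combination hc - (c - 1) * h2
        have := mul_self_eq_zero.1 h3
        exact sub_eq_zero.1 this
      rw [hc1, one_smul] at hxc
      have h4 : x ^ orderOf (QuotientGroup.mk x : Cfsg.PSp n F) = 1 := Subtype.ext hxc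
      rw [← hx]
      exact orderOf_dvd_of_pow_eq_one h4
    · have h4 : x ^ (2 * orderOf (QuotientGroup.mk x : Cfsg.PSp n F)) = 1 := by
        rw [mul_comm, pow_mul, pow_two]
        apply Subtype.ext
        show ((x ^ orderOf (QuotientGroup.mk x : Cfsg.PSp n F) :
            Matrix.symplecticGroup (Fin n) F) : Matrix (Fin n ⊕ Fin n) (Fin n ⊕ Fin n) F) *
          ((x ^ orderOf (QuotientGroup.mk x : Cfsg.PSp n F) :
            Matrix.symplecticGroup (Fin n) F) : Matrix (Fin n ⊕ Fin n) (Fin n ⊕ Fin n) F) = 1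
        rw [hxc, Matrix.smul_mul, Matrix.one_mul, smul_smul, hc, one_smul]
      have h5 := orderOf_dvd_of_pow_eq_one h4
      rw [hx] at h5
      have hcop2 : (r * p).Coprime 2 := by
        apply Nat.Coprime.mul_left
        · exact (Nat.coprime_primes hr Nat.prime_two).2 hr2
        · exact (Nat.coprime_primes hp Nat.prime_two).2 hp2
      exact hcop2.dvd_of_dvd_mul_left h5
  exact Nat.dvd_antisymm hd1 hd2

end Cfsg.Agent.Helper12.SpGraph
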