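import Mathlib
import Cfsg.Agent.Helper12.SpGraphD

set_option autoImplicit false

/-! Arithmetic lemmas for the `r * s` adjacency criterion in `Sp_2n(q)`. -/

namespace Cfsg.Agent.Helper12.SpGraph

/-- If `r ∣ q ^ j + 1` with `r` an odd prime, the order `k` of `q` mod `r` divides `2 j` but not
`j`. -/
theorem dvd_two_mul_not_dvd (r q j k : ℕ) (hr : r.Prime) (hr2 : r ≠ 2) (hd : r ∣ q ^ j + 1)
    (hk : k = orderOf ((q : ℕ) : ZMod r)) : k ∣ 2 * j ∧ ¬ k ∣ j := by
  have hfact : Fact r.Prime := ⟨hr⟩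
  have h1 : ((q : ℕ) : ZMod r) ^ j = -1 := by
    have := (ZMod.natCast_eq_zero_iff (q ^ j + 1) r).2 hd
    rw [Nat.cast_add, Nat.cast_pow, Nat.cast_one] at this
    exact eq_neg_of_add_eq_zero_left this
  constructor
  · rw [hk, orderOf_dvd_iff_pow_eq_one, mul_comm, pow_mul, h1]
    norm_num
  · intro h
    rw [hk, orderOf_dvd_iff_pow_eq_one, h1] at h
    have h2 : ((2 : ℕ) : ZMod r) = 0 := by
      have : (1 : ZMod r) + 1 = 0 := by
        nth_rewrite 1 [← h]
        norm_num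
      rw [← this]
      norm_num
    rw [ZMod.natCast_eq_zero_iff] at h2
    exact hr2 ((Nat.prime_dvd_prime_iff_eq hr Nat.prime_two).1 h2)

theorem arith_mixed_ne (k l ηk ηl d : ℕ) (hk0 : 0 < k) (hd0 : 0 < d)
    (hηk : (Odd k ∧ ηk = k) ∨ (Even k ∧ 2 * ηk = k))
    (hηl : (Odd l ∧ ηl = l) ∨ (Even l ∧ 2 * ηl = l))
    (hkl : ηk ≤ ηl) (hkd : k ∣ d) (hld : l ∣ d) (hd : d < ηk + ηl)
    (hnot : ¬ ∃ t : ℕ, Odd t ∧ l = k * t) : False := by
  have hηk_le : ηk ≤ k := by rcases hηk with ⟨_, h⟩ | ⟨_, h⟩ <;> omega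
  have hηl_le : ηl ≤ l := by rcases hηl with ⟨_, h⟩ | ⟨_, h⟩ <;> omega
  by_cases hdvd : k ∣ l
  · obtain ⟨t, ht⟩ := hdvd
    rcases Nat.even_or_odd t with he | ho
    · obtain ⟨u, hu⟩ := he
      have hl2 : l = 2 * (k * u) := by rw [ht, hu]; ring
      have hu0 : 0 < u := by
        rcases Nat.eq_zero_or_pos u with h | h
        · exfalso
          rw [h, mul_zero, mul_zero] at hl2
          rw [hl2] at hld
          rw [zero_dvd_iff] at hld
          omega
        · exact h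
      have hηl2 : ηl = k * u := by
        rcases hηl with ⟨ho, _⟩ | ⟨_, h⟩
        · exfalso
          rw [hl2] at ho
          exact (Nat.not_odd_iff_even.2 (even_two_mul _)) ho
        · omega
      have h3 : k ≤ k * u := Nat.le_mul_of_pos_right k hu0
      have h4 : l ≤ d := Nat.le_of_dvd hd0 hld
      omega
    · exact hnot ⟨t, ho, ht⟩
  · obtain ⟨c, hc⟩ := hld
    have hc2 : 2 ≤ c := by
      rcases c with _ | _ | c
      · rw [mul_zero] at hc
        omega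
      · exfalso
        apply hdvd
        rw [zero_add, mul_one] at hc
        rw [← hc]
        exact hkd
      · omega
    have h3 : 2 * l ≤ d := by
      rw [hc]
      nlinarith
    omega

theorem arith_mixed_self (k l ηk ηl d j n : ℕ) (hd0 : 0 < d)
    (hηk : (Odd k ∧ ηk = k) ∨ (Even k ∧ 2 * ηk = k))
    (hηl : (Odd l ∧ ηl = l) ∨ (Even l ∧ 2 * ηl = l))
    (hkl : ηk ≤ ηl) (hkd : k ∣ d) (hld : l ∣ d) (hd : d ≤ 2 * n) (hn : n < ηk + ηl)
    (hk2 : k ∣ 2 * j) (hkj : ¬ k ∣ j) (hl2 : l ∣ 2 * j) (hlj : ¬ l ∣ j)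
    (hnot : ¬ ∃ t : ℕ, Odd t ∧ l = k * t) : False := by
  have hke : Even k := by
    by_contra h
    rw [Nat.not_even_iff_odd] at h
    exact hkj ((Nat.Coprime.dvd_mul_left (Nat.coprime_two_right.2 h)).1 hk2)
  have hle : Even l := by
    by_contra h
    rw [Nat.not_even_iff_odd] at h
    exact hlj ((Nat.Coprime.dvd_mul_left (Nat.coprime_two_right.2 h)).1 hl2)
  have hk' : 2 * ηk = k := by
    rcases hηk with ⟨ho, _⟩ | ⟨_, h⟩
    · exact absurd hke (Nat.not_even_iff_odd.2 ho)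
    · exact h
  have hl' : 2 * ηl = l := by
    rcases hηl with ⟨ho, _⟩ | ⟨_, h⟩
    · exact absurd hle (Nat.not_even_iff_odd.2 ho)
    · exact h
  obtain ⟨c, hc⟩ := hld
  have hc1 : c = 1 := by
    rcases c with _ | _ | c
    · rw [mul_zero] at hc
      omega
    · rfl
    · exfalso
      have h3 : 2 * l ≤ d := by
        rw [hc]
        nlinarith
      omega
  rw [hc1, mul_one] at hc
  rw [hc] at hkd
  obtain ⟨t, ht⟩ := hkd
  rcases Nat.even_or_odd t with he | ho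
  · obtain ⟨u, hu⟩ := he
    apply hkj
    have h1 : 2 * (k * u) ∣ 2 * j := by
      have : 2 * (k * u) = l := by rw [ht, hu]; ring
      rw [this]
      exact hl2
    have h2 : k * u ∣ j := (Nat.mul_dvd_mul_iff_left (by norm_num)).1 h1
    exact (Dvd.intro _ rfl).trans h2
  · exact hnot ⟨t, ho, ht⟩

/-- `2 η(k) ≤ d` when `k ∣ d`, `d > 0` and (`d` even or `k` even). -/
theorem two_eta_le (k ηk d : ℕ) (hd0 : 0 < d)
    (hηk : (Odd k ∧ ηk = k) ∨ (Even k ∧ 2 * ηk = k)) (hkd : k ∣ d) (hde : Even d) :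
    2 * ηk ≤ d := by
  rcases hηk with ⟨ho, h⟩ | ⟨_, h⟩
  · rw [h]
    have h2 : 2 ∣ d := hde.two_dvd
    have h3 : 2 * k ∣ d := (Nat.coprime_two_left.2 ho).mul_dvd_of_dvd_of_dvd h2 hkd
    exact Nat.le_of_dvd hd0 h3
  · rw [h]
    exact Nat.le_of_dvd hd0 hkd

end Cfsg.Agent.Helper12.SpGraph
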