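import Mathlib
import Cfsg.Agent.Helper12.SpGraphE
import Cfsg.Agent.Helper12.SpCountA

set_option autoImplicit false

/-! Non-existence of elements of order `r * s` in `Sp_2n(q)`. -/

open Polynomial

namespace Cfsg.Agent.Helper12.SpGraph

open Cfsg.Agent.Helper12.SpPrime Cfsg.Agent.Helper12.PslGraph

universe u

variable {K : Type u} [Field K] [Fintype K]

/-- The block of a pure irreducible factor `Q` of a palindromic polynomial `f`: `Q` itself if it is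
self-reciprocal, `Q * recip Q` otherwise. -/
theorem exists_block (f : K[X]) (hfm : f.mirror = f) (r s : ℕ) (hr : r.Prime) (hr2 : r ≠ 2)
    (hs0 : 0 < s) (Q : K[X]) (hQm : Q.Monic) (hQi : Irreducible Q) (hQf : Q ∣ f)
    (hQr : Q ∣ (X ^ r - 1 : K[X])) (hQs : ¬ Q ∣ (X ^ s - 1 : K[X])) (k ηk : ℕ)
    (hk : k = orderOf ((Fintype.card K : ℕ) : ZMod r))
    (hηk : (Odd k ∧ ηk = k) ∨ (Even k ∧ 2 * ηk = k)) :
    ∃ P : K[X], P ≠ 0 ∧ P ∣ f ∧ 2 * ηk ≤ P.natDegree ∧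
      ∀ U : K[X], Irreducible U → U ∣ P → (U ∣ (X ^ r - 1 : K[X]) ∧ ¬ U ∣ (X ^ s - 1 : K[X])) := by
  have hrodd : Odd r := hr.odd_of_ne_two hr2
  have h0 : Q.coeff 0 ≠ 0 := coeff_zero_ne_zero_of_dvd_X_pow_sub_one r hr.pos hQr
  have hne : Q ≠ X - C 1 := by
    intro h
    apply hQs
    rw [h]
    exact X_sub_one_dvd_X_pow_sub_one s
  have hkd : k ∣ Q.natDegree := by
    rw [hk]
    apply orderOf_dvd_natDegree Q hQi r 1 hr
    · rwa [mul_one]
    · rw [pow_one]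
      intro h
      apply hQs
      have h1 : (X - 1 : K[X]) = X - C 1 := by rw [map_one]
      rw [h1] at h
      exact h.trans (X_sub_one_dvd_X_pow_sub_one s)
  have hd0 : 0 < Q.natDegree := hQi.natDegree_pos
  have hRm : (recip Q).Monic := recip_monic h0
  have hRi : Irreducible (recip Q) := recip_irreducible hQi h0
  have hRf : recip Q ∣ f := recip_dvd_of_mirror_eq hfm h0 hQf
  have hRr : recip Q ∣ (X ^ r - 1 : K[X]) := recip_dvd_X_pow_sub_one h0 r hr.pos hQr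
  have hR0 : (recip Q).coeff 0 ≠ 0 := by
    rw [recip_coeff_zero hQm h0]
    exact inv_ne_zero h0
  have hRs : ¬ recip Q ∣ (X ^ s - 1 : K[X]) := by
    intro h
    apply hQs
    have := recip_dvd_X_pow_sub_one hR0 s hs0 h
    rwa [recip_recip hQm h0] at this
  by_cases hrec : recip Q = Q
  · refine ⟨Q, hQi.ne_zero, hQf, ?_, ?_⟩
    · apply two_eta_le k ηk _ hd0 hηk hkd
      by_contra hodd
      rw [Nat.not_even_iff_odd] at hodd
      exact recip_ne_self_of_odd r hrodd hQm hQi h0 hQr hne hodd hrec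
    · intro U hU hUQ
      have hass := hU.associated_of_dvd hQi hUQ
      exact ⟨hass.dvd.trans hQr, fun h => hQs (hass.symm.dvd.trans h)⟩
  · have hcop : IsCoprime Q (recip Q) :=
      isCoprime_of_monic_irreducible_ne hQm hQi hRm hRi (Ne.symm hrec)
    refine ⟨Q * recip Q, mul_ne_zero hQi.ne_zero hRi.ne_zero, hcop.mul_dvd hQf hRf, ?_, ?_⟩
    · rw [Monic.natDegree_mul hQm hRm, recip_natDegree h0]
      have h1 : k ≤ Q.natDegree := Nat.le_of_dvd hd0 hkd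
      have h2 : ηk ≤ k := by rcases hηk with ⟨_, h⟩ | ⟨_, h⟩ <;> omega
      omega
    · intro U hU hUQ
      rcases hU.prime.dvd_or_dvd hUQ with h | h
      · have hass := hU.associated_of_dvd hQi h
        exact ⟨hass.dvd.trans hQr, fun h => hQs (hass.symm.dvd.trans h)⟩
      · have hass := hU.associated_of_dvd hRi h
        exact ⟨hass.dvd.trans hRr, fun h => hRs (hass.symm.dvd.trans h)⟩

/-- Two pure factors of different types force `η(k) + η(l) ≤ n`. -/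
theorem pure_false (f : K[X]) (n : ℕ) (hfd : f.natDegree = 2 * n) (hf0 : f ≠ 0)
    (hfm : f.mirror = f)
    (r s k l ηk ηl : ℕ) (hr : r.Prime) (hs : s.Prime) (hr2 : r ≠ 2) (hs2 : s ≠ 2)
    (hk : k = orderOf ((Fintype.card K : ℕ) : ZMod r))
    (hl : l = orderOf ((Fintype.card K : ℕ) : ZMod s))
    (hηk : (Odd k ∧ ηk = k) ∨ (Even k ∧ 2 * ηk = k))
    (hηl : (Odd l ∧ ηl = l) ∨ (Even l ∧ 2 * ηl = l)) (hn : n < ηk + ηl)
    (Q₁ Q₂ : K[X]) (hQ₁m : Q₁.Monic) (hQ₁i : Irreducible Q₁) (hQ₁f : Q₁ ∣ f)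
    (hQ₂m : Q₂.Monic) (hQ₂i : Irreducible Q₂) (hQ₂f : Q₂ ∣ f)
    (hQ₁r : Q₁ ∣ (X ^ r - 1 : K[X])) (hQ₁s : ¬ Q₁ ∣ (X ^ s - 1 : K[X]))
    (hQ₂s : Q₂ ∣ (X ^ s - 1 : K[X])) (hQ₂r : ¬ Q₂ ∣ (X ^ r - 1 : K[X])) : False := by
  obtain ⟨P₁, hP₁0, hP₁f, hP₁d, hP₁U⟩ :=
    exists_block f hfm r s hr hr2 hs.pos Q₁ hQ₁m hQ₁i hQ₁f hQ₁r hQ₁s k ηk hk hηk
  obtain ⟨P₂, hP₂0, hP₂f, hP₂d, hP₂U⟩ :=
    exists_block f hfm s r hs hs2 hr.pos Q₂ hQ₂m hQ₂i hQ₂f hQ₂s hQ₂r l ηl hl hηl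
  have hcop : IsCoprime P₁ P₂ := by
    apply isCoprime_of_irreducible_dvd
    · intro h
      exact hP₁0 h.1
    · intro U hU h1 h2
      exact (hP₁U U hU h1).2 (hP₂U U hU h2).1
  have hdvd : P₁ * P₂ ∣ f := hcop.mul_dvd hP₁f hP₂f
  have hle := natDegree_le_of_dvd hdvd hf0
  rw [natDegree_mul hP₁0 hP₂0, hfd] at hle
  omega

/-- A mixed factor is impossible. -/
theorem mixed_false (f : K[X]) (n : ℕ) (hfd : f.natDegree = 2 * n) (hf0 : f ≠ 0)
    (hfm : f.mirror = f)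
    (r s k l ηk ηl : ℕ) (hr : r.Prime) (hs : s.Prime) (hr2 : r ≠ 2) (hs2 : s ≠ 2)
    (hk : k = orderOf ((Fintype.card K : ℕ) : ZMod r))
    (hl : l = orderOf ((Fintype.card K : ℕ) : ZMod s))
    (hk0 : 0 < k)
    (hηk : (Odd k ∧ ηk = k) ∨ (Even k ∧ 2 * ηk = k))
    (hηl : (Odd l ∧ ηl = l) ∨ (Even l ∧ 2 * ηl = l)) (hkl : ηk ≤ ηl) (hn : n < ηk + ηl)
    (hnot : ¬ ∃ t : ℕ, Odd t ∧ l = k * t)
    (Q : K[X]) (hQm : Q.Monic) (hQi : Irreducible Q) (hQf : Q ∣ f)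
    (hQN : Q ∣ (X ^ (r * s) - 1 : K[X]))
    (hQr : ¬ Q ∣ (X ^ r - 1 : K[X])) (hQs : ¬ Q ∣ (X ^ s - 1 : K[X])) : False := by
  have hQN' : Q ∣ (X ^ (s * r) - 1 : K[X]) := by rwa [mul_comm]
  have hkd : k ∣ Q.natDegree := by
    rw [hk]
    exact orderOf_dvd_natDegree Q hQi r s hr hQN hQs
  have hld : l ∣ Q.natDegree := by
    rw [hl]
    exact orderOf_dvd_natDegree Q hQi s r hs hQN' hQr
  have hd0 : 0 < Q.natDegree := hQi.natDegree_pos
  have h0 : Q.coeff 0 ≠ 0 :=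
    coeff_zero_ne_zero_of_dvd_X_pow_sub_one (r * s) (Nat.mul_pos hr.pos hs.pos) hQN
  have hRm : (recip Q).Monic := recip_monic h0
  have hRi : Irreducible (recip Q) := recip_irreducible hQi h0
  have hRf : recip Q ∣ f := recip_dvd_of_mirror_eq hfm h0 hQf
  by_cases hrec : recip Q = Q
  · obtain ⟨j, hj⟩ := exists_dvd_pow_card_add_one hQi h0 hrec
    have hrj : r ∣ Fintype.card K ^ j + 1 :=
      prime_dvd_of_dvd_X_pow_sub_one Q hQi r s _ hr hQN hQs hj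
    have hsj : s ∣ Fintype.card K ^ j + 1 :=
      prime_dvd_of_dvd_X_pow_sub_one Q hQi s r _ hs hQN' hQr hj
    obtain ⟨hk2, hkj⟩ := dvd_two_mul_not_dvd r _ j k hr hr2 hrj hk
    obtain ⟨hl2, hlj⟩ := dvd_two_mul_not_dvd s _ j l hs hs2 hsj hl
    have hle := natDegree_le_of_dvd hQf hf0
    rw [hfd] at hle
    exact arith_mixed_self k l ηk ηl Q.natDegree j n hd0 hηk hηl hkl hkd hld hle hn hk2 hkj hl2
      hlj hnot
  · have hcop : IsCoprime Q (recip Q) :=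
      isCoprime_of_monic_irreducible_ne hQm hQi hRm hRi (Ne.symm hrec)
    have hdvd : Q * recip Q ∣ f := hcop.mul_dvd hQf hRf
    have hle := natDegree_le_of_dvd hdvd hf0
    rw [Monic.natDegree_mul hQm hRm, recip_natDegree h0, hfd] at hle
    exact arith_mixed_ne k l ηk ηl Q.natDegree hk0 hd0 hηk hηl hkl hkd hld (by omega) hnot

end Cfsg.Agent.Helper12.SpGraph
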