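import Mathlib
import Cfsg.Agent.Helper12.SpGraphF
import Cfsg.Agent.Helper12.SpGraphC

set_option autoImplicit false

/-! Non-existence of elements of order `r * s` in `Sp_2n(q)`: the matrix argument. -/

open Polynomial

namespace Cfsg.Agent.Helper12.SpGraph

open Cfsg.Agent.Helper12.SpPrime Cfsg.Agent.Helper12.PslGraph

universe u

variable {K : Type u} [Field K]

/-- A semisimple matrix not killed by `N` has a monic irreducible factor of its characteristic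
polynomial not dividing `N`. -/
theorem exists_monic_irreducible_factor {ι : Type*} [Fintype ι] [DecidableEq ι]
    (A : Matrix ι ι K) (hss : Module.End.IsSemisimple (Matrix.toLin' A)) (N : K[X]) (hN0 : N ≠ 0)
    (hA : aeval A N ≠ 0) :
    ∃ Q : K[X], Q.Monic ∧ Irreducible Q ∧ Q ∣ A.charpoly ∧ ¬ Q ∣ N := by
  by_contra hcon
  push Not at hcon
  apply hA
  apply aeval_eq_zero_of_semisimple_gen A hss N hN0
  intro Q hQi hQc
  have hQ0 : Q ≠ 0 := hQi.ne_zero
  have hu : IsUnit (C (Q.leadingCoeff)⁻¹) :=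
    isUnit_C.2 (isUnit_iff_ne_zero.2 (inv_ne_zero (leadingCoeff_ne_zero.2 hQ0)))
  have hass : Associated (Q * C (Q.leadingCoeff)⁻¹) Q := associated_mul_unit_left Q _ hu
  have h1 := hcon (Q * C (Q.leadingCoeff)⁻¹) (monic_mul_leadingCoeff_inv hQ0)
    (hass.symm.irreducible hQi) (hass.dvd.trans hQc)
  exact hass.symm.dvd.trans h1

variable [Fintype K]

/-- No element of `Sp_2n(q)` has order `r * s` when `n < η(k) + η(l)` and `l / k` is not an odd
integer. -/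
theorem no_sp_order_mul (p : ℕ) [Fact p.Prime] [CharP K p] (n r s k l ηk ηl : ℕ)
    (hr : r.Prime) (hs : s.Prime) (hr2 : r ≠ 2) (hs2 : s ≠ 2) (hrp : r ≠ p) (hsp : s ≠ p)
    (hk : k = orderOf ((Fintype.card K : ℕ) : ZMod r))
    (hl : l = orderOf ((Fintype.card K : ℕ) : ZMod s))
    (hηk : (Odd k ∧ ηk = k) ∨ (Even k ∧ 2 * ηk = k))
    (hηl : (Odd l ∧ ηl = l) ∨ (Even l ∧ 2 * ηl = l)) (hkl : ηk ≤ ηl) (hn : n < ηk + ηl)
    (hnot : ¬ ∃ t : ℕ, Odd t ∧ l = k * t)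
    (y : Matrix.symplecticGroup (Fin n) K) (hy : orderOf y = r * s) : False := by
  have hp : p.Prime := Fact.out
  have hk0 : 0 < k := by
    rw [hk]
    exact orderOf_card_pos p r hr hrp
  obtain ⟨A, hAdef⟩ : ∃ A : Matrix (Fin n ⊕ Fin n) (Fin n ⊕ Fin n) K,
      A = (y : Matrix (Fin n ⊕ Fin n) (Fin n ⊕ Fin n) K) := ⟨_, rfl⟩
  have hcop : (orderOf y).Coprime p := by
    rw [hy]
    apply Nat.Coprime.mul_left
    · exact (Nat.coprime_primes hr hp).2 hrp
    · exact (Nat.coprime_primes hs hp).2 hsp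
  have hss : Module.End.IsSemisimple (Matrix.toLin' A) := by
    rw [hAdef]
    exact isSemisimple_of_coprime p y hcop
  have hA : A ^ (r * s) = 1 := by
    rw [hAdef, ← hy]
    exact coe_pow_orderOf y
  have hpow : ∀ m : ℕ, A ^ m = 1 → y ^ m = 1 := by
    intro m hm
    apply Subtype.ext
    rw [SubmonoidClass.coe_pow, ← hAdef, hm]
    rfl
  have hAr : A ^ r ≠ 1 := by
    intro h
    have h1 := orderOf_dvd_of_pow_eq_one (hpow r h)
    rw [hy] at h1
    have h2 := Nat.le_of_dvd hr.pos h1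
    have := hs.two_le
    have := hr.pos
    nlinarith
  have hAs : A ^ s ≠ 1 := by
    intro h
    have h1 := orderOf_dvd_of_pow_eq_one (hpow s h)
    rw [hy] at h1
    have h2 := Nat.le_of_dvd hs.pos h1
    have := hr.two_le
    have := hs.pos
    nlinarith
  have hne : ∀ M : ℕ, 0 < M → (X ^ M - 1 : K[X]) ≠ 0 := by
    intro M hM
    exact (monic_X_pow_sub_C (1 : K) hM.ne').ne_zero
  have hN : aeval A (X ^ (r * s) - 1 : K[X]) = 0 := by
    rw [map_sub, map_pow, aeval_X, map_one, hA, sub_self]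
  have hfm1 : A.charpoly.Monic := Matrix.charpoly_monic A
  have hf0 : A.charpoly ≠ 0 := hfm1.ne_zero
  have hfd : A.charpoly.natDegree = 2 * n := by
    rw [Matrix.charpoly_natDegree_eq_dim, Fintype.card_sum, Fintype.card_fin, two_mul]
  have hfrev : A.charpoly.reverse = A.charpoly := by
    rw [hAdef]
    exact Cfsg.Agent.Helper12.SpCount.charpoly_reverse y
  have hfc0 : A.charpoly.coeff 0 ≠ 0 := by
    have h1 : A.charpoly.reverse.coeff 0 = A.charpoly.leadingCoeff := coeff_zero_reverse _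
    rw [hfrev, hfm1.leadingCoeff] at h1
    rw [h1]
    exact one_ne_zero
  have hfm : A.charpoly.mirror = A.charpoly := by
    rw [mirror_eq_reverse hfc0, hfrev]
  obtain ⟨Q₁, hQ₁m, hQ₁i, hQ₁c, hQ₁s⟩ := exists_monic_irreducible_factor A hss (X ^ s - 1)
    (hne s hs.pos) (by
      rw [map_sub, map_pow, aeval_X, map_one, sub_ne_zero]
      exact hAs)
  obtain ⟨Q₂, hQ₂m, hQ₂i, hQ₂c, hQ₂r⟩ := exists_monic_irreducible_factor A hss (X ^ r - 1)
    (hne r hr.pos) (by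
      rw [map_sub, map_pow, aeval_X, map_one, sub_ne_zero]
      exact hAr)
  have hQ₁N := dvd_of_irreducible_dvd_charpoly_gen A _ hN Q₁ hQ₁i hQ₁c
  have hQ₂N := dvd_of_irreducible_dvd_charpoly_gen A _ hN Q₂ hQ₂i hQ₂c
  by_cases hQ₁r : Q₁ ∣ (X ^ r - 1 : K[X])
  · by_cases hQ₂s : Q₂ ∣ (X ^ s - 1 : K[X])
    · exact pure_false A.charpoly n hfd hf0 hfm r s k l ηk ηl hr hs hr2 hs2 hk hl hηk hηl hn
        Q₁ Q₂ hQ₁m hQ₁i hQ₁c hQ₂m hQ₂i hQ₂c hQ₁r hQ₁s hQ₂s hQ₂r
    · exact mixed_false A.charpoly n hfd hf0 hfm r s k l ηk ηl hr hs hr2 hs2 hk hl hk0 hηk hηl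
        hkl hn hnot Q₂ hQ₂m hQ₂i hQ₂c hQ₂N hQ₂r hQ₂s
  · exact mixed_false A.charpoly n hfd hf0 hfm r s k l ηk ηl hr hs hr2 hs2 hk hl hk0 hηk hηl
      hkl hn hnot Q₁ hQ₁m hQ₁i hQ₁c hQ₁N hQ₁r hQ₁s

end Cfsg.Agent.Helper12.SpGraph
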