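import Mathlib
import Cfsg.Agent.Helper12.BCGraphD
import Cfsg.Agent.Helper12.SpGraphG
import Cfsg.Agent.Helper12.SympConjJ

set_option autoImplicit false

/-! Matrix layer: irreducible factors of the characteristic polynomial of a matrix of finite order
and their root orders. -/

open Polynomial

namespace Cfsg.Agent.Helper12.BCG

open Cfsg.Agent.Helper12.SpPrime Cfsg.Agent.Helper12.SpGraph

universe u v

variable {K : Type u} [Field K] {ι : Type v} [Fintype ι] [DecidableEq ι]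

theorem aeval_X_pow_sub_one (A : Matrix ι ι K) (N : ℕ) :
    aeval A (X ^ N - 1 : K[X]) = A ^ N - 1 := by
  rw [map_sub, map_pow, aeval_X, map_one]

theorem aeval_X_pow_add_one (A : Matrix ι ι K) (N : ℕ) :
    aeval A (X ^ N + 1 : K[X]) = A ^ N + 1 := by
  rw [map_add, map_pow, aeval_X, map_one]

theorem X_pow_sub_one_ne_zero' (N : ℕ) (hN : 0 < N) : (X ^ N - 1 : K[X]) ≠ 0 := by
  have := X_pow_sub_C_ne_zero hN (1 : K)
  rwa [map_one] at this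

theorem X_pow_add_one_ne_zero' (N : ℕ) (hN : 0 < N) : (X ^ N + 1 : K[X]) ≠ 0 := by
  have := X_pow_sub_C_ne_zero hN (-1 : K)
  rwa [map_neg, map_one, sub_neg_eq_add] at this

theorem rootOrd_dvd_of_pow_eq_one (A : Matrix ι ι K) (N : ℕ) (hA : A ^ N = 1) (Q : K[X])
    (hQi : Irreducible Q) (hQ : Q ∣ A.charpoly) : rootOrd Q ∣ N := by
  rw [← dvd_X_pow_sub_one_iff]
  apply dvd_of_irreducible_dvd_charpoly_gen A _ _ Q hQi hQ
  rw [aeval_X_pow_sub_one, hA, sub_self]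

theorem coeff_zero_ne_zero_of_pow_eq_one (A : Matrix ι ι K) (N : ℕ) (hN : 0 < N) (hA : A ^ N = 1)
    (Q : K[X]) (hQi : Irreducible Q) (hQ : Q ∣ A.charpoly) : Q.coeff 0 ≠ 0 :=
  coeff_zero_ne_zero_of_dvd_X_pow_sub_one N hN
    ((dvd_X_pow_sub_one_iff Q N).2 (rootOrd_dvd_of_pow_eq_one A N hA Q hQi hQ))

theorem exists_factor_not_dvd (A : Matrix ι ι K)
    (hss : Module.End.IsSemisimple (Matrix.toLin' A)) (N : ℕ) (hN : 0 < N) (hA : A ^ N ≠ 1) :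
    ∃ Q : K[X], Q.Monic ∧ Irreducible Q ∧ Q ∣ A.charpoly ∧ ¬ rootOrd Q ∣ N := by
  obtain ⟨Q, hQm, hQi, hQc, hQN⟩ := exists_monic_irreducible_factor A hss (X ^ N - 1)
    (X_pow_sub_one_ne_zero' N hN) (by
      rw [aeval_X_pow_sub_one]
      intro h
      exact hA (sub_eq_zero.1 h))
  exact ⟨Q, hQm, hQi, hQc, fun h => hQN ((dvd_X_pow_sub_one_iff Q N).2 h)⟩

theorem pow_eq_one_of_forall (A : Matrix ι ι K)
    (hss : Module.End.IsSemisimple (Matrix.toLin' A)) (N : ℕ) (hN : 0 < N)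
    (h : ∀ Q : K[X], Irreducible Q → Q ∣ A.charpoly → rootOrd Q ∣ N) : A ^ N = 1 := by
  have := aeval_eq_zero_of_semisimple_gen A hss (X ^ N - 1) (X_pow_sub_one_ne_zero' N hN)
    (fun Q hQi hQ => (dvd_X_pow_sub_one_iff Q N).2 (h Q hQi hQ))
  rw [aeval_X_pow_sub_one] at this
  exact sub_eq_zero.1 this

theorem pow_eq_neg_one_of_forall (A : Matrix ι ι K)
    (hss : Module.End.IsSemisimple (Matrix.toLin' A)) (N : ℕ) (hN : 0 < N)
    (h : ∀ Q : K[X], Irreducible Q → Q ∣ A.charpoly → rootOrd Q = 2 * N) : A ^ N = -1 := by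
  have := aeval_eq_zero_of_semisimple_gen A hss (X ^ N + 1) (X_pow_add_one_ne_zero' N hN) (by
    intro Q hQi hQ
    have h1 : Q ∣ (X ^ (2 * N) - 1 : K[X]) := by
      rw [dvd_X_pow_sub_one_iff, h Q hQi hQ]
    have h2 : (X ^ (2 * N) - 1 : K[X]) = (X ^ N - 1) * (X ^ N + 1) := by ring
    rw [h2] at h1
    rcases hQi.prime.dvd_or_dvd h1 with h3 | h3
    · rw [dvd_X_pow_sub_one_iff, h Q hQi hQ] at h3
      have := Nat.le_of_dvd hN h3
      omega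
    · exact h3)
  rw [aeval_X_pow_add_one] at this
  exact eq_neg_of_add_eq_zero_left this

/-- divisors of `a * s` not dividing `a` are multiples of the prime `s` -/
theorem prime_dvd_of_dvd_mul_not_dvd {m a s : ℕ} (hs : s.Prime) (h1 : m ∣ a * s) (h2 : ¬ m ∣ a) :
    s ∣ m := by
  by_contra hnd
  have hcop : m.Coprime s := (Nat.Coprime.symm ((Nat.Prime.coprime_iff_not_dvd hs).2 hnd))
  exact h2 (hcop.dvd_of_dvd_mul_right h1)

variable [Fintype K]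

/-- **Elements of order `r s` (both primes odd and different from the characteristic).** -/
theorem tor_of_pow_mul_eq_one (p : ℕ) [Fact p.Prime] [CharP K p] (n r s : ℕ) (hr : r.Prime)
    (hs : s.Prime) (hrs : r ≠ s) (hr2 : r ≠ 2) (hs2 : s ≠ 2) (hrp : r ≠ p) (hsp : s ≠ p)
    (A : Matrix ι ι K) (hcard : Fintype.card ι ≤ 2 * n + 1) (hrc : RecipClosed A.charpoly)
    (h1 : A ^ (r * s) = 1) (h2 : A ^ r ≠ 1) (h3 : A ^ s ≠ 1) :
    (∃ e₁ e₂ : ℕ, 1 ≤ e₁ ∧ 1 ≤ e₂ ∧ e₁ + e₂ ≤ n ∧ Tor (Fintype.card K) e₁ r ∧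
      Tor (Fintype.card K) e₂ s) ∨
    (∃ e : ℕ, 1 ≤ e ∧ e ≤ n ∧ Tor (Fintype.card K) e (r * s)) := by
  have hp : p.Prime := Fact.out
  have hcop : (r * s).Coprime p :=
    Nat.Coprime.mul_left ((Nat.coprime_primes hr hp).2 hrp) ((Nat.coprime_primes hs hp).2 hsp)
  have hss : Module.End.IsSemisimple (Matrix.toLin' A) :=
    Cfsg.Agent.Helper12.SympConj.isSemisimple_toLin'_of_pow_eq_one A (r * s)
      (Cfsg.Agent.Helper12.SympConj.natCast_ne_zero_of_coprime p hcop) h1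
  have hrs0 : 0 < r * s := Nat.mul_pos hr.pos hs.pos
  have hf0 : A.charpoly ≠ 0 := (Matrix.charpoly_monic A).ne_zero
  have hfd : A.charpoly.natDegree ≤ 2 * n + 1 := by
    rw [Matrix.charpoly_natDegree_eq_dim]
    exact hcard
  have hr3 : 3 ≤ r := by
    have := hr.two_le
    omega
  have hs3 : 3 ≤ s := by
    have := hs.two_le
    omega
  obtain ⟨Q₁, hQ₁m, hQ₁i, hQ₁c, hQ₁N⟩ := exists_factor_not_dvd A hss r hr.pos h2
  obtain ⟨Q₂, hQ₂m, hQ₂i, hQ₂c, hQ₂N⟩ := exists_factor_not_dvd A hss s hs.pos h3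
  have hQ₁d := rootOrd_dvd_of_pow_eq_one A _ h1 Q₁ hQ₁i hQ₁c
  have hQ₂d := rootOrd_dvd_of_pow_eq_one A _ h1 Q₂ hQ₂i hQ₂c
  have hQ₁0 := coeff_zero_ne_zero_of_pow_eq_one A _ hrs0 h1 Q₁ hQ₁i hQ₁c
  have hQ₂0 := coeff_zero_ne_zero_of_pow_eq_one A _ hrs0 h1 Q₂ hQ₂i hQ₂c
  have hs1 : s ∣ rootOrd Q₁ := prime_dvd_of_dvd_mul_not_dvd hs hQ₁d hQ₁N
  have hr1 : r ∣ rootOrd Q₂ := by
    rw [mul_comm] at hQ₂d
    exact prime_dvd_of_dvd_mul_not_dvd hr hQ₂d hQ₂N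
  have hpos₁ : 0 < rootOrd Q₁ := rootOrd_pos hQ₁i hQ₁0
  have hpos₂ : 0 < rootOrd Q₂ := rootOrd_pos hQ₂i hQ₂0
  have h2₁ : 2 < rootOrd Q₁ := by
    have := Nat.le_of_dvd hpos₁ hs1
    omega
  have h2₂ : 2 < rootOrd Q₂ := by
    have := Nat.le_of_dvd hpos₂ hr1
    omega
  obtain ⟨e₁, P₁, he₁, hP₁m, hP₁f, hP₁d, hT₁, -, -, hU₁⟩ :=
    exists_block_of_recipClosed _ hrc Q₁ hQ₁m hQ₁i hQ₁0 hQ₁c h2₁
  obtain ⟨e₂, P₂, he₂, hP₂m, hP₂f, hP₂d, hT₂, -, -, hU₂⟩ :=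
    exists_block_of_recipClosed _ hrc Q₂ hQ₂m hQ₂i hQ₂0 hQ₂c h2₂
  have hle₁ := natDegree_le_of_dvd hP₁f hf0
  have hle₂ := natDegree_le_of_dvd hP₂f hf0
  -- the possible root orders
  have hm₁ : rootOrd Q₁ = s ∨ rootOrd Q₁ = r * s := by
    obtain ⟨c, hc⟩ := hs1
    rw [hc, mul_comm s c] at hQ₁d
    have hcr : c ∣ r := Nat.dvd_of_mul_dvd_mul_right hs.pos hQ₁d
    rcases (Nat.dvd_prime hr).1 hcr with rfl | rfl
    · left; rw [hc, mul_one]
    · right; rw [hc, mul_comm]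
  have hm₂ : rootOrd Q₂ = r ∨ rootOrd Q₂ = r * s := by
    obtain ⟨c, hc⟩ := hr1
    rw [hc] at hQ₂d
    have hcs : c ∣ s := Nat.dvd_of_mul_dvd_mul_left hr.pos hQ₂d
    rcases (Nat.dvd_prime hs).1 hcs with rfl | rfl
    · left; rw [hc, mul_one]
    · right; rw [hc]
  rcases hm₁ with hm₁ | hm₁
  · rcases hm₂ with hm₂ | hm₂
    · left
      have hcop' : IsCoprime P₂ P₁ := by
        apply isCoprime_of_rootOrd_ne hP₂m.ne_zero (m₁ := rootOrd Q₂) (m₂ := rootOrd Q₁)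
        · rw [hm₁, hm₂]
          exact hrs
        · intro U hU hUP
          exact (hU₂ U hU hUP).1
        · intro U hU hUP
          exact (hU₁ U hU hUP).1
      have hdvd : P₂ * P₁ ∣ A.charpoly := hcop'.mul_dvd hP₂f hP₁f
      have hle := natDegree_le_of_dvd hdvd hf0
      rw [natDegree_mul hP₂m.ne_zero hP₁m.ne_zero] at hle
      refine ⟨e₂, e₁, he₂, he₁, by omega, ?_, ?_⟩
      · rw [← hm₂]; exact hT₂
      · rw [← hm₁]; exact hT₁
    · right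
      refine ⟨e₂, he₂, by omega, ?_⟩
      rw [← hm₂]; exact hT₂
  · right
    refine ⟨e₁, he₁, by omega, ?_⟩
    rw [← hm₁]; exact hT₁

end Cfsg.Agent.Helper12.BCG
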