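import Mathlib
import Cfsg.Agent.Helper12.BCGraphE

set_option autoImplicit false

/-! Matrix layer, continued: when `s` divides no `q ^ e ± 1` with `e < n`, the characteristic
polynomial of an element whose order is divisible by `s` consists of a single block. -/

open Polynomial

namespace Cfsg.Agent.Helper12.BCG

open Cfsg.Agent.Helper12.SpPrime Cfsg.Agent.Helper12.SpGraph

universe u v

variable {K : Type u} [Field K] [Fintype K]

/-- the single block -/
theorem single_block (n s : ℕ) (hs : s.Prime) (hs2 : s ≠ 2)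
    (hno : ∀ e : ℕ, 1 ≤ e → e < n → ¬ Tor (Fintype.card K) e s)
    (f : K[X]) (hfm : f.Monic) (hfd : f.natDegree ≤ 2 * n + 1) (hrc : RecipClosed f)
    (Q : K[X]) (hQm : Q.Monic) (hQi : Irreducible Q) (h0 : Q.coeff 0 ≠ 0) (hQf : Q ∣ f)
    (hsQ : s ∣ rootOrd Q) :
    ∃ P R : K[X], f = P * R ∧ P.Monic ∧ R.Monic ∧ R.natDegree ≤ 1 ∧
      P.natDegree + R.natDegree = f.natDegree ∧ 2 * n ≤ P.natDegree ∧ Squarefree P ∧
      Tor (Fintype.card K) n (rootOrd Q) ∧ Q ∣ P ∧
      ∀ U : K[X], Irreducible U → U ∣ P →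
        (rootOrd U = rootOrd Q ∧ U.natDegree = Q.natDegree) := by
  have hpos : 0 < rootOrd Q := rootOrd_pos hQi h0
  have hs3 : 3 ≤ s := by
    have := hs.two_le
    omega
  have h2 : 2 < rootOrd Q := by
    have := Nat.le_of_dvd hpos hsQ
    omega
  obtain ⟨e, P, he, hPm, hPf, hPd, hT, hPsq, hQP, hU⟩ :=
    exists_block_of_recipClosed f hrc Q hQm hQi h0 hQf h2
  have hle := natDegree_le_of_dvd hPf hfm.ne_zero
  have hen : n ≤ e := by
    by_contra hlt
    push Not at hlt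
    exact hno e he hlt (hT.of_dvd hsQ)
  have hen' : e = n := by omega
  obtain ⟨R, hR⟩ := hPf
  have hRm : R.Monic := by
    rw [hR] at hfm
    exact hPm.of_mul_monic_left hfm
  have hdeg : P.natDegree + R.natDegree = f.natDegree := by
    rw [hR, Monic.natDegree_mul hPm hRm]
  refine ⟨P, R, hR, hPm, hRm, by omega, hdeg, by omega, hPsq, ?_, hQP, hU⟩
  rw [← hen']
  exact hT

variable {ι : Type v} [Fintype ι] [DecidableEq ι]

omit [Fintype K] in
/-- the rootOrd of `X - 1` -/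
theorem rootOrd_X_sub_one : rootOrd (X - C 1 : K[X]) = 1 := by
  have h : rootOrd (X - C 1 : K[X]) ∣ 1 := by
    rw [← dvd_X_pow_sub_one_iff, pow_one, map_one]
  exact Nat.dvd_one.1 h

/-- **Elements of order `s`**: the shape of the characteristic polynomial. -/
theorem charpoly_of_pow_prime_eq_one (p : ℕ) [Fact p.Prime] [CharP K p] (n s : ℕ)
    (hs : s.Prime) (hs2 : s ≠ 2) (hsp : s ≠ p)
    (hno : ∀ e : ℕ, 1 ≤ e → e < n → ¬ Tor (Fintype.card K) e s)
    (A : Matrix ι ι K) (hcard : Fintype.card ι ≤ 2 * n + 1) (hrc : RecipClosed A.charpoly)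
    (h1 : A ^ s = 1) (h2 : A ≠ 1) :
    ∃ P R : K[X], A.charpoly = P * R ∧ P.Monic ∧ R.Monic ∧ R.natDegree ≤ 1 ∧
      P.natDegree + R.natDegree = Fintype.card ι ∧ 2 * n ≤ P.natDegree ∧ Squarefree P ∧
      Tor (Fintype.card K) n s ∧
      ∀ U : K[X], Irreducible U → U ∣ P →
        (rootOrd U = s ∧ s ∣ Fintype.card K ^ U.natDegree - 1) := by
  have hp : p.Prime := Fact.out
  have hcop : s.Coprime p := (Nat.coprime_primes hs hp).2 hsp
  have hss : Module.End.IsSemisimple (Matrix.toLin' A) :=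
    Cfsg.Agent.Helper12.SympConj.isSemisimple_toLin'_of_pow_eq_one A s
      (Cfsg.Agent.Helper12.SympConj.natCast_ne_zero_of_coprime p hcop) h1
  have hfd : A.charpoly.natDegree ≤ 2 * n + 1 := by
    rw [Matrix.charpoly_natDegree_eq_dim]
    exact hcard
  obtain ⟨Q, hQm, hQi, hQc, hQN⟩ := exists_factor_not_dvd A hss 1 one_pos (by rwa [pow_one])
  have hQd := rootOrd_dvd_of_pow_eq_one A _ h1 Q hQi hQc
  have hQ0 := coeff_zero_ne_zero_of_pow_eq_one A _ hs.pos h1 Q hQi hQc
  have hm : rootOrd Q = s := by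
    rcases (Nat.dvd_prime hs).1 hQd with h | h
    · rw [h] at hQN
      exact absurd dvd_rfl hQN
    · exact h
  obtain ⟨P, R, hf, hPm, hRm, hRd, hdeg, hPd, hPsq, hT, -, hU⟩ :=
    single_block n s hs hs2 hno A.charpoly (Matrix.charpoly_monic A) hfd hrc Q hQm hQi hQ0 hQc
      (by rw [hm])
  rw [Matrix.charpoly_natDegree_eq_dim] at hdeg
  rw [hm] at hT
  refine ⟨P, R, hf, hPm, hRm, hRd, hdeg, hPd, hPsq, hT, ?_⟩
  intro U hUi hUP
  have hUc : U ∣ A.charpoly := by
    rw [hf]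
    exact hUP.mul_right R
  have hU0 := coeff_zero_ne_zero_of_pow_eq_one A _ hs.pos h1 U hUi hUc
  have h3 := (hU U hUi hUP).1
  rw [hm] at h3
  refine ⟨h3, ?_⟩
  rw [← h3]
  exact rootOrd_dvd_card_pow_sub_one hUi hU0

/-- **Elements of order `s`**: the characteristic polynomial is squarefree. -/
theorem squarefree_charpoly_of_no_tor (p : ℕ) [Fact p.Prime] [CharP K p] (n s : ℕ) (hn : 2 ≤ n)
    (hs : s.Prime) (hs2 : s ≠ 2) (hsp : s ≠ p)
    (hno : ∀ e : ℕ, 1 ≤ e → e < n → ¬ Tor (Fintype.card K) e s)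
    (A : Matrix ι ι K) (hcard : Fintype.card ι ≤ 2 * n + 1) (hrc : RecipClosed A.charpoly)
    (h1 : A ^ s = 1) (h2 : A ≠ 1) : Squarefree A.charpoly := by
  obtain ⟨P, R, hf, hPm, hRm, hRd, hdeg, hPd, hPsq, hT, hU⟩ :=
    charpoly_of_pow_prime_eq_one p n s hs hs2 hsp hno A hcard hrc h1 h2
  rw [hf, squarefree_mul_iff]
  have hRcases : R.natDegree = 0 ∨ R.natDegree = 1 := by omega
  rcases hRcases with hR0 | hR1
  · have hR1 : R = 1 := by
      have h4 := eq_C_of_natDegree_eq_zero hR0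
      have h5 : R.coeff 0 = 1 := by
        have := hRm.coeff_natDegree
        rwa [hR0] at this
      rw [h4, h5, map_one]
    rw [hR1]
    exact ⟨isRelPrime_one_right, hPsq, squarefree_one⟩
  · have hRi : Irreducible R := by
      apply irreducible_of_degree_eq_one
      rw [degree_eq_natDegree hRm.ne_zero, hR1]
      rfl
    refine ⟨?_, hPsq, hRi.squarefree⟩
    apply IsRelPrime.symm
    rw [isRelPrime_iff_isCoprime, hRi.coprime_iff_not_dvd]
    intro hRP
    have h3 := (hU R hRi hRP).2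
    rw [hR1, pow_one] at h3
    exact hno 1 le_rfl (by omega) (Or.inl (by rwa [pow_one]))

/-- **Elements of order `s`**: the fixed space has dimension at most one. -/
theorem finrank_ker_le_one (p : ℕ) [Fact p.Prime] [CharP K p] (n s : ℕ)
    (hs : s.Prime) (hs2 : s ≠ 2) (hsp : s ≠ p)
    (hno : ∀ e : ℕ, 1 ≤ e → e < n → ¬ Tor (Fintype.card K) e s)
    (A : Matrix ι ι K) (hcard : Fintype.card ι ≤ 2 * n + 1) (hrc : RecipClosed A.charpoly)
    (h1 : A ^ s = 1) (h2 : A ≠ 1) :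
    Module.finrank K (LinearMap.ker (Matrix.toLin' A - 1)) ≤ 1 := by
  obtain ⟨P, R, hf, hPm, hRm, hRd, hdeg, hPd, hPsq, hT, hU⟩ :=
    charpoly_of_pow_prime_eq_one p n s hs hs2 hsp hno A hcard hrc h1 h2
  have hle := LinearMap.finrank_eigenspace_le (Matrix.toLin' A) (1 : K)
  rw [Module.End.eigenspace_def, one_smul, Matrix.charpoly_toLin'] at hle
  refine hle.trans ?_
  by_contra hcon
  push Not at hcon
  have h3 : (X - C (1 : K)) ^ 2 ∣ A.charpoly :=
    (le_rootMultiplicity_iff (Matrix.charpoly_monic A).ne_zero).1 hcon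
  rw [hf] at h3
  have hXi : Irreducible (X - C (1 : K)) := irreducible_X_sub_C 1
  have hcop : IsCoprime ((X - C (1 : K)) ^ 2) P := by
    apply IsCoprime.pow_left
    rw [hXi.coprime_iff_not_dvd]
    intro hXP
    have h4 := (hU _ hXi hXP).1
    rw [rootOrd_X_sub_one] at h4
    have := hs.two_le
    omega
  have h5 : (X - C (1 : K)) ^ 2 ∣ R := hcop.dvd_of_dvd_mul_left h3
  have h6 := natDegree_le_of_dvd h5 hRm.ne_zero
  rw [natDegree_pow, natDegree_X_sub_C] at h6
  omega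

/-- **No element of order `s p`.** -/
theorem not_pow_mul_char (p : ℕ) [Fact p.Prime] [CharP K p] (n s : ℕ) (hn : 2 ≤ n)
    (hs : s.Prime) (hs2 : s ≠ 2) (hsp : s ≠ p)
    (hno : ∀ e : ℕ, 1 ≤ e → e < n → ¬ Tor (Fintype.card K) e s)
    (A : Matrix ι ι K) (hcard : Fintype.card ι ≤ 2 * n + 1) (hrc : RecipClosed A.charpoly)
    (h1 : A ^ (s * p) = 1) (h2 : A ^ s ≠ 1) (h3 : A ^ p ≠ 1) : False := by
  have hp : p.Prime := Fact.out
  obtain ⟨f, -, hq⟩ := FiniteField.card K p
  obtain ⟨f', hf'⟩ : ∃ f', (f : ℕ) = f' + 1 := ⟨(f : ℕ) - 1, by have := f.pos; omega⟩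
  set B : Matrix ι ι K := A ^ Fintype.card K with hB
  have hBs : B ^ s = 1 := by
    rw [hB, hq, hf', pow_succ', ← pow_mul, mul_comm p, mul_assoc, mul_comm p s, mul_comm _ (s * p),
      pow_mul, h1, one_pow]
  have hB1 : B ≠ 1 := by
    intro hB1
    rw [hB, hq] at hB1
    -- the order of `A` divides `p ^ f` and `s * p`
    have ho1 : orderOf A ∣ p ^ (f : ℕ) := orderOf_dvd_of_pow_eq_one hB1
    have ho2 : orderOf A ∣ s * p := orderOf_dvd_of_pow_eq_one h1
    obtain ⟨i, -, hi⟩ := (Nat.dvd_prime_pow hp).1 ho1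
    have hi1 : i ≤ 1 := by
      by_contra hcon
      push Not at hcon
      have h4 : p ^ 2 ∣ s * p := by
        rw [hi] at ho2
        exact (pow_dvd_pow p hcon).trans ho2
      rw [pow_two] at h4
      have h5 : p ∣ s := Nat.dvd_of_mul_dvd_mul_right hp.pos h4
      exact hsp ((Nat.prime_dvd_prime_iff_eq hp hs).1 h5).symm
    apply h3
    apply orderOf_dvd_iff_pow_eq_one.1
    rw [hi]
    interval_cases i
    · simp
    · simp
  have hrcB : RecipClosed B.charpoly := by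
    rw [hB, FiniteField.Matrix.charpoly_pow_card]
    exact hrc
  have hsq := squarefree_charpoly_of_no_tor p n s hn hs hs2 hsp hno B hcard hrcB hBs hB1
  rw [hB, FiniteField.Matrix.charpoly_pow_card] at hsq
  have hmin : Squarefree (minpoly K A) := hsq.squarefree_of_dvd (Matrix.minpoly_dvd_charpoly _)
  have h4 : aeval A ((X ^ s - 1 : K[X]) ^ p) = 0 := by
    rw [sub_pow_char, one_pow, ← pow_mul, map_sub, map_pow, aeval_X, map_one, h1, sub_self]
  have h5 : minpoly K A ∣ (X ^ s - 1 : K[X]) := hmin.isRadical p _ (minpoly.dvd K _ h4)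
  have h6 : aeval A (X ^ s - 1 : K[X]) = 0 := by
    obtain ⟨d, hd⟩ := h5
    rw [hd, map_mul, minpoly.aeval, zero_mul]
  rw [aeval_X_pow_sub_one, sub_eq_zero] at h6
  exact h2 h6

end Cfsg.Agent.Helper12.BCG
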