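import Mathlib
import Cfsg.Agent.Helper12.BCGraphF

set_option autoImplicit false

/-! Matrix layer for the symplectic group: elements `A` with `A ^ (4 s) = 1`. -/

open Polynomial

namespace Cfsg.Agent.Helper12.BCG

open Cfsg.Agent.Helper12.SpPrime Cfsg.Agent.Helper12.SpGraph

universe u v

variable {K : Type u} [Field K] [Fintype K] {ι : Type v} [Fintype ι] [DecidableEq ι]

/-- the single block fills the whole space in dimension `2 n` -/
theorem full_block (p : ℕ) [Fact p.Prime] [CharP K p] (hp2 : p ≠ 2) (n s : ℕ)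
    (hs : s.Prime) (hs2 : s ≠ 2) (hsp : s ≠ p)
    (hno : ∀ e : ℕ, 1 ≤ e → e < n → ¬ Tor (Fintype.card K) e s)
    (A : Matrix ι ι K) (hcard : Fintype.card ι = 2 * n) (hrc : RecipClosed A.charpoly)
    (h1 : A ^ (4 * s) = 1) (h2 : A ^ 4 ≠ 1) :
    Module.End.IsSemisimple (Matrix.toLin' A) ∧
    ∃ c : ℕ, (c = 1 ∨ c = 2 ∨ c = 4) ∧ Tor (Fintype.card K) n (c * s) ∧
      ∀ U : K[X], Irreducible U → U ∣ A.charpoly → rootOrd U = c * s := by
  have hp : p.Prime := Fact.out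
  have hcop : (4 * s).Coprime p := by
    apply Nat.Coprime.mul_left
    · have h2p : Nat.Coprime 2 p := (Nat.coprime_primes Nat.prime_two hp).2 (Ne.symm hp2)
      have : (2 * 2).Coprime p := Nat.Coprime.mul_left h2p h2p
      exact this
    · exact (Nat.coprime_primes hs hp).2 hsp
  have hss : Module.End.IsSemisimple (Matrix.toLin' A) :=
    Cfsg.Agent.Helper12.SympConj.isSemisimple_toLin'_of_pow_eq_one A (4 * s)
      (Cfsg.Agent.Helper12.SympConj.natCast_ne_zero_of_coprime p hcop) h1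
  refine ⟨hss, ?_⟩
  have h4s : 0 < 4 * s := Nat.mul_pos (by norm_num) hs.pos
  have hfd : A.charpoly.natDegree ≤ 2 * n + 1 := by
    rw [Matrix.charpoly_natDegree_eq_dim, hcard]
    omega
  obtain ⟨Q, hQm, hQi, hQc, hQN⟩ := exists_factor_not_dvd A hss 4 (by norm_num) h2
  have hQd := rootOrd_dvd_of_pow_eq_one A _ h1 Q hQi hQc
  have hQ0 := coeff_zero_ne_zero_of_pow_eq_one A _ h4s h1 Q hQi hQc
  have hsQ : s ∣ rootOrd Q := prime_dvd_of_dvd_mul_not_dvd hs hQd hQN
  obtain ⟨P, R, hf, hPm, hRm, hRd, hdeg, hPd, hPsq, hT, -, hU⟩ :=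
    single_block n s hs hs2 hno A.charpoly (Matrix.charpoly_monic A) hfd hrc Q hQm hQi hQ0 hQc hsQ
  rw [Matrix.charpoly_natDegree_eq_dim, hcard] at hdeg
  have hR0 : R.natDegree = 0 := by omega
  have hR1 : R = 1 := by
    have h4 := eq_C_of_natDegree_eq_zero hR0
    have h5 : R.coeff 0 = 1 := by
      have := hRm.coeff_natDegree
      rwa [hR0] at this
    rw [h4, h5, map_one]
  rw [hR1, mul_one] at hf
  obtain ⟨c, hc⟩ := hsQ
  rw [hc, mul_comm s c] at hQd
  have hc4 : c ∣ 4 := Nat.dvd_of_mul_dvd_mul_right hs.pos hQd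
  have hc4' : c ≤ 4 := Nat.le_of_dvd (by norm_num) hc4
  have hcc : c = 1 ∨ c = 2 ∨ c = 4 := by
    interval_cases c
    · simp at hc4
    · left; rfl
    · right; left; rfl
    · exfalso; revert hc4; decide
    · right; right; rfl
  refine ⟨c, hcc, ?_, ?_⟩
  · rw [mul_comm c s, ← hc]
    exact hT
  · intro U hUi hUc
    rw [hf] at hUc
    rw [(hU U hUi hUc).1, hc, mul_comm]

/-- **Elements of order `2 s` of `PSp_2n(q)`**, on the level of matrices. -/
theorem tor_four_mul_of_sp (p : ℕ) [Fact p.Prime] [CharP K p] (hp2 : p ≠ 2) (n s : ℕ)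
    (hs : s.Prime) (hs2 : s ≠ 2) (hsp : s ≠ p)
    (hno : ∀ e : ℕ, 1 ≤ e → e < n → ¬ Tor (Fintype.card K) e s)
    (A : Matrix ι ι K) (hcard : Fintype.card ι = 2 * n) (hrc : RecipClosed A.charpoly)
    (h1 : A ^ (2 * s) = 1 ∨ A ^ (2 * s) = -1) (h2 : A ^ s ≠ 1) (h2' : A ^ s ≠ -1)
    (h3 : A ^ 2 ≠ 1) (h3' : A ^ 2 ≠ -1) : Tor (Fintype.card K) n (4 * s) := by
  have h4s : A ^ (4 * s) = 1 := by
    have e : 4 * s = (2 * s) * 2 := by ring
    rw [e, pow_mul]
    rcases h1 with h | h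
    · rw [h, one_pow]
    · rw [h]
      simp
  have h4 : A ^ 4 ≠ 1 := by
    intro h4
    obtain ⟨k, hk⟩ := hs.odd_of_ne_two hs2
    have e : 2 * s = 4 * k + 2 := by omega
    have h5 : A ^ (2 * s) = A ^ 2 := by
      rw [e, pow_add, pow_mul, h4, one_pow, one_mul]
    rw [h5] at h1
    rcases h1 with h | h
    · exact h3 h
    · exact h3' h
  obtain ⟨hss, c, hcc, hT, hU⟩ := full_block p hp2 n s hs hs2 hsp hno A hcard hrc h4s h4
  rcases hcc with rfl | rfl | rfl
  · exfalso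
    apply h2
    apply pow_eq_one_of_forall A hss s hs.pos
    intro Q hQi hQc
    rw [hU Q hQi hQc, one_mul]
  · exfalso
    apply h2'
    exact pow_eq_neg_one_of_forall A hss s hs.pos hU
  · exact hT

/-- An element of order `4 s` has `A ^ (2 s) = -1`. -/
theorem pow_eq_neg_one_of_sp (p : ℕ) [Fact p.Prime] [CharP K p] (hp2 : p ≠ 2) (n s : ℕ)
    (hs : s.Prime) (hs2 : s ≠ 2) (hsp : s ≠ p)
    (hno : ∀ e : ℕ, 1 ≤ e → e < n → ¬ Tor (Fintype.card K) e s)
    (A : Matrix ι ι K) (hcard : Fintype.card ι = 2 * n) (hrc : RecipClosed A.charpoly)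
    (h1 : A ^ (4 * s) = 1) (h2 : A ^ (2 * s) ≠ 1) (h3 : A ^ 4 ≠ 1) : A ^ (2 * s) = -1 := by
  obtain ⟨hss, c, hcc, hT, hU⟩ := full_block p hp2 n s hs hs2 hsp hno A hcard hrc h1 h3
  have h2s : 0 < 2 * s := Nat.mul_pos (by norm_num) hs.pos
  rcases hcc with rfl | rfl | rfl
  · exfalso
    apply h2
    apply pow_eq_one_of_forall A hss (2 * s) h2s
    intro Q hQi hQc
    rw [hU Q hQi hQc, one_mul]
    exact dvd_mul_left _ _
  · exfalso
    apply h2
    apply pow_eq_one_of_forall A hss (2 * s) h2s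
    intro Q hQi hQc
    rw [hU Q hQi hQc]
  · apply pow_eq_neg_one_of_forall A hss (2 * s) h2s
    intro Q hQi hQc
    rw [hU Q hQi hQc]
    ring

end Cfsg.Agent.Helper12.BCG
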