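import Mathlib
import Cfsg.Agent.Helper12.BCGraphC
import Cfsg.Agent.Helper12.BCGraphG
import Cfsg.Agent.Helper12.SpCountA
import Cfsg.Agent.Helper28.POmegaCard
import Cfsg.Agent.S0292

set_option autoImplicit false

/-! The characteristic polynomials of orthogonal and symplectic matrices are closed under
reciprocals; the bridge from `PΩ` to `Ω` in odd dimension. -/

open Polynomial

namespace Cfsg.Agent.Helper12.BCG

open Cfsg.Agent.Helper12.SpPrime Cfsg.Agent.Helper12.SpGraph Cfsg.Agent.S2614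

universe u

section general

variable {K : Type u} [Field K] {ι : Type*} [Fintype ι] [DecidableEq ι]

theorem recipClosed_of_charpoly_inv (A : Matrix ι ι K) (hA : IsUnit A)
    (h : A⁻¹.charpoly = A.charpoly) : RecipClosed A.charpoly := by
  have h1 := Matrix.charpoly_inv A hA
  rw [h, ← Matrix.reverse_charpoly] at h1
  have hdet : IsUnit A.det := (Matrix.isUnit_iff_isUnit_det A).1 hA
  have hd0 : A.det ≠ 0 := hdet.ne_zero
  have hc0 : A.charpoly.coeff 0 ≠ 0 := by
    intro h0
    apply hd0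
    rw [Matrix.det_eq_sign_charpoly_coeff, h0, mul_zero]
  have hu : ((-1 : K) ^ Fintype.card ι * A.det) ≠ 0 :=
    mul_ne_zero (pow_ne_zero _ (neg_ne_zero.2 one_ne_zero)) hd0
  apply recipClosed_of_mirror hu
  rw [mirror_eq_reverse hc0]
  have h2 : (-1 : K[X]) ^ Fintype.card ι = C ((-1 : K) ^ Fintype.card ι) := by
    rw [map_pow, map_neg, map_one]
  conv_rhs => rw [h1, h2, Ring.inverse_eq_inv']
  rw [← mul_assoc, ← mul_assoc, ← C_mul, ← C_mul]
  have h3 : (-1 : K) ^ Fintype.card ι * A.det * (-1) ^ Fintype.card ι * A.det⁻¹ = 1 := by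
    have h4 : ((-1 : K) ^ Fintype.card ι) * ((-1 : K) ^ Fintype.card ι) = 1 := by
      rw [← mul_pow]
      simp
    calc (-1 : K) ^ Fintype.card ι * A.det * (-1) ^ Fintype.card ι * A.det⁻¹
        = ((-1 : K) ^ Fintype.card ι * (-1) ^ Fintype.card ι) * (A.det * A.det⁻¹) := by ring
      _ = 1 := by rw [h4, mul_inv_cancel₀ hd0, one_mul]
  rw [h3, map_one, one_mul]

end general

section orth

variable {F : Type u} [Field F] {ι : Type} [Fintype ι] [DecidableEq ι]
  (Q : QuadraticForm F (ι → F))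

/-- isometries of a non-degenerate quadratic form -/
theorem recipClosed_of_isometry (hQ : (QuadraticMap.polarBilin Q).Nondegenerate)
    (A : Matrix ι ι F) (hA : ∀ x, Q (A.mulVec x) = Q x) : RecipClosed A.charpoly := by
  set G := LinearMap.BilinForm.toMatrix' (QuadraticMap.polarBilin Q) with hG
  have hGA := Cfsg.Agent.Helper28.RC.gram_eq Q A hA
  have hne : G.det ≠ 0 := by
    rw [← Matrix.nondegenerate_iff_det_ne_zero]
    exact LinearMap.BilinForm.Nondegenerate.toMatrix' hQ
  have hGu : IsUnit G := by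
    rw [Matrix.isUnit_iff_isUnit_det]
    exact isUnit_iff_ne_zero.2 hne
  have hAdet : A.det ≠ 0 := by
    intro h0
    have := congrArg Matrix.det hGA
    rw [Matrix.det_mul, Matrix.det_mul, h0, mul_zero] at this
    exact hne this.symm
  have hAu : IsUnit A := by
    rw [Matrix.isUnit_iff_isUnit_det]
    exact isUnit_iff_ne_zero.2 hAdet
  apply recipClosed_of_charpoly_inv A hAu
  have hinv : A⁻¹ = G⁻¹ * A.transpose * G := by
    apply Matrix.inv_eq_left_inv
    rw [Matrix.mul_assoc, Matrix.mul_assoc, ← Matrix.mul_assoc A.transpose, hGA,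
      Matrix.nonsing_inv_mul _ ((Matrix.isUnit_iff_isUnit_det G).1 hGu)]
  rw [hinv]
  let U : (Matrix ι ι F)ˣ := hGu.unit
  have h2 := Matrix.charpoly_units_conj' U (A.transpose)
  rw [Matrix.charpoly_transpose] at h2
  rw [← h2]
  congr 1

end orth

section sp

variable {F : Type u} [Field F] {n : ℕ}

theorem recipClosed_of_sp (A : Matrix.symplecticGroup (Fin n) F) :
    RecipClosed (A : Matrix (Fin n ⊕ Fin n) (Fin n ⊕ Fin n) F).charpoly := by
  have hrev := Cfsg.Agent.Helper12.SpCount.charpoly_reverse A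
  have hdet : (A : Matrix (Fin n ⊕ Fin n) (Fin n ⊕ Fin n) F).det = 1 :=
    SymplecticGroup.det_eq_one A.2
  have hc0 : (A : Matrix (Fin n ⊕ Fin n) (Fin n ⊕ Fin n) F).charpoly.coeff 0 ≠ 0 := by
    intro h0
    have := Matrix.det_eq_sign_charpoly_coeff (A : Matrix (Fin n ⊕ Fin n) (Fin n ⊕ Fin n) F)
    rw [h0, mul_zero, hdet] at this
    exact one_ne_zero this
  apply recipClosed_of_mirror (u := (1 : F)) one_ne_zero
  rw [mirror_eq_reverse hc0, hrev, map_one, one_mul]

end sp

section bridge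

variable {F : Type u} [Field F] [Fintype F]

/-- `PΩ_{2n+1}(q)` and `Ω_{2n+1}(q)` have the same element orders -/
theorem mem_range_POmega_iff (h2 : (2 : F) ≠ 0) (n : ℕ) (hn : 3 ≤ n) (N : ℕ) :
    N ∈ Set.range (orderOf : Cfsg.POmega F (Cfsg.quadFormOdd n F) → ℕ) ↔
      ∃ g : ↥(Cfsg.isometryGroup F (Cfsg.quadFormOdd n F)),
        g ∈ Cfsg.Omega F (Cfsg.quadFormOdd n F) ∧ orderOf g = N := by
  classical
  rw [← QfOdd_coe]
  have hQ := Cfsg.Agent.S0292.QfOdd_nondeg h2 (F := F) n
  have hcardι : Fintype.card (Unit ⊕ (Fin n ⊕ Fin n)) = 2 * n + 1 := by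
    rw [Fintype.card_sum, Fintype.card_sum, Fintype.card_fin, Fintype.card_unit]; ring
  have h6 : 6 ≤ Fintype.card (Unit ⊕ (Fin n ⊕ Fin n)) := by rw [hcardι]; omega
  have hc := Cfsg.Agent.Helper28.OC.card_center_Omega_eq_one (QfOdd n F)
    hQ h6 (by
    rintro ⟨-, g, hgΩ, hg⟩
    have h1 := Cfsg.Agent.Helper28.Spin.hom_eq_one_of_mem_Omega (QfOdd n F)
      (Cfsg.Agent.Helper28.Spin.detHom (QfOdd n F)) hgΩ
    have h3 : ((Cfsg.Agent.Helper28.Spin.detHom (QfOdd n F) g : Fˣ) : F)
        = 1 := by rw [h1]; rfl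
    rw [Cfsg.Agent.Helper28.Spin.detHom_val, hg, Matrix.det_neg, Matrix.det_one, hcardι, mul_one]
      at h3
    have : (-1 : F) ^ (2 * n + 1) = -1 := by
      rw [pow_succ, pow_mul]; simp
    rw [this] at h3
    apply h2
    linear_combination -h3)
  have hbot : Subgroup.center ↥(Cfsg.Omega F ⇑(QfOdd n F)) = ⊥ :=
    Subgroup.card_eq_one.1 hc
  have hinj : Function.Injective
      (QuotientGroup.mk' (Subgroup.center ↥(Cfsg.Omega F ⇑(QfOdd n F)))) := by
    intro a b hab
    rw [QuotientGroup.mk'_apply, QuotientGroup.mk'_apply, QuotientGroup.eq, hbot,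
      Subgroup.mem_bot] at hab
    exact inv_mul_eq_one.1 hab
  constructor
  · rintro ⟨y, hy⟩
    obtain ⟨g, rfl⟩ := QuotientGroup.mk_surjective y
    refine ⟨g.1, g.2, ?_⟩
    rw [← hy]
    have h1 := orderOf_injective _ hinj g
    have h3 : orderOf (g : ↥(Cfsg.isometryGroup F ⇑(QfOdd n F))) = orderOf g :=
      orderOf_injective (Subgroup.subtype _) (Subgroup.subtype_injective _) g
    rw [h3]
    exact h1.symm
  · rintro ⟨g, hgΩ, hg⟩
    refine ⟨QuotientGroup.mk' _ ⟨g, hgΩ⟩, ?_⟩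
    rw [orderOf_injective _ hinj, ← hg]
    exact (orderOf_injective (Subgroup.subtype _) (Subgroup.subtype_injective _) ⟨g, hgΩ⟩).symm

end bridge

end Cfsg.Agent.Helper12.BCG
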