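import Mathlib

set_option autoImplicit false
set_option linter.unusedSectionVars false

/-! Isometries of a nondegenerate quadratic space of dimension 3 commuting with a nontrivial
unipotent isometry: a semisimple such isometry is `± 1`. -/

namespace Cfsg.Agent.Helper12.BCSpec

open Module

variable {F : Type*} [Field F] {E : Type*} [AddCommGroup E] [Module F E]

theorem polar_isometry (Q : QuadraticForm F E) (h : Module.End F E) (hh : ∀ v, Q (h v) = Q v)
    (x y : E) : QuadraticMap.polar Q (h x) (h y) = QuadraticMap.polar Q x y := by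
  simp only [QuadraticMap.polar, ← map_add, hh]

theorem polar_self_eq (Q : QuadraticForm F E) (v : E) : QuadraticMap.polar Q v v = 2 * Q v := by
  rw [QuadraticMap.polar_self, two_nsmul, two_mul]

/-- a nontrivial isometry `h` of a nondegenerate 3-dimensional space has `(h - 1)^2 ≠ 0` when
`2 ≠ 0` and ... (no transvection-like isometries) -/
theorem sq_ne_zero_of_isometry [FiniteDimensional F E] (h2 : (2 : F) ≠ 0) (Q : QuadraticForm F E)
    (hQ : ∀ v : E, (∀ w : E, QuadraticMap.polar Q v w = 0) → v = 0)
    (hdim : finrank F E = 3) (h : Module.End F E) (hh : ∀ v, Q (h v) = Q v)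
    (hne : h ≠ 1) : (h - 1) * (h - 1) ≠ 0 := by
  intro hN2
  set N : Module.End F E := h - 1 with hN
  have hN2' : ∀ x, N (N x) = 0 := by
    intro x
    rw [← Module.End.mul_apply, hN2]
    rfl
  have hhx : ∀ x, h x = x + N x := by
    intro x
    rw [hN, LinearMap.sub_apply, Module.End.one_apply]
    abel
  -- (b)
  have hb : ∀ x y, QuadraticMap.polar Q (N x) y + QuadraticMap.polar Q x (N y) +
      QuadraticMap.polar Q (N x) (N y) = 0 := by
    intro x y
    have := polar_isometry Q h hh x y
    rw [hhx, hhx, QuadraticMap.polar_add_left, QuadraticMap.polar_add_right,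
      QuadraticMap.polar_add_right] at this
    linear_combination this
  -- (c)
  have hc : ∀ x y, QuadraticMap.polar Q (N x) (N y) = 0 := by
    intro x y
    have := hb x (N y)
    rw [hN2', QuadraticMap.polar_zero_right, QuadraticMap.polar_zero_right] at this
    linear_combination this
  -- (d)
  have hd : ∀ x y, QuadraticMap.polar Q (N x) y = - QuadraticMap.polar Q x (N y) := by
    intro x y
    have := hb x y
    rw [hc] at this
    linear_combination this
  -- (e)
  have he : ∀ x, Q (N x) = 0 := by
    intro x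
    have h1 := hc x x
    rw [polar_self_eq] at h1
    rcases mul_eq_zero.1 h1 with h | h
    · exact absurd h h2
    · exact h
  -- (f)
  have hf : ∀ x, QuadraticMap.polar Q x (N x) = 0 := by
    intro x
    have h1 := hh x
    rw [hhx] at h1
    have h3 : Q (x + N x) = Q x + Q (N x) + QuadraticMap.polar Q x (N x) := by
      simp only [QuadraticMap.polar]; ring
    rw [h3, he] at h1
    linear_combination h1
  -- rank of N is at most one
  have hrk : finrank F (LinearMap.range N) ≤ 1 := by
    have hle : LinearMap.range N ≤ LinearMap.ker N := by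
      rintro _ ⟨x, rfl⟩
      rw [LinearMap.mem_ker]
      exact hN2' x
    have h1 := Submodule.finrank_mono hle
    have h3 := LinearMap.finrank_range_add_finrank_ker N
    omega
  obtain ⟨v0, hv0⟩ := finrank_le_one_iff.1 hrk
  -- a nonzero vector in the range
  have hNne : N ≠ 0 := by
    intro h0
    apply hne
    have : h - 1 = 0 := h0
    exact sub_eq_zero.1 this
  obtain ⟨x0, hx0⟩ : ∃ x0, N x0 ≠ 0 := by
    by_contra hcon
    push Not at hcon
    apply hNne
    ext x
    exact hcon x
  obtain ⟨z, hz⟩ : ∃ z, QuadraticMap.polar Q (N x0) z ≠ 0 := by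
    by_contra hcon
    push Not at hcon
    exact hx0 (hQ _ hcon)
  obtain ⟨c1, hc1⟩ := hv0 ⟨N x0, LinearMap.mem_range_self N x0⟩
  obtain ⟨c2, hc2⟩ := hv0 ⟨N z, LinearMap.mem_range_self N z⟩
  have hc1' : c1 • (v0 : E) = N x0 := by
    have := congrArg Subtype.val hc1
    simpa using this
  have hc2' : c2 • (v0 : E) = N z := by
    have := congrArg Subtype.val hc2
    simpa using this
  have hc1ne : c1 ≠ 0 := by
    intro h0
    rw [h0, zero_smul] at hc1'
    exact hx0 hc1'.symm
  -- B(N z, x0) ≠ 0 but B(N x0, x0) = 0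
  have h5 : QuadraticMap.polar Q (N z) x0 ≠ 0 := by
    rw [hd, neg_ne_zero, QuadraticMap.polar_comm]
    exact hz
  have h6 : QuadraticMap.polar Q (N x0) x0 = 0 := by
    rw [QuadraticMap.polar_comm]
    exact hf x0
  rw [← hc1', QuadraticMap.polar_smul_left, smul_eq_mul] at h6
  rw [← hc2', QuadraticMap.polar_smul_left, smul_eq_mul] at h5
  rcases mul_eq_zero.1 h6 with h | h
  · exact hc1ne h
  · rw [h, mul_zero] at h5
    exact h5 rfl


theorem linearIndependent_iterate (N : Module.End F E) (hN3 : N * N * N = 0) (x0 : E)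
    (hx0 : N (N x0) ≠ 0) : LinearIndependent F ![x0, N x0, N (N x0)] := by
  have hN3' : ∀ x, N (N (N x)) = 0 := by
    intro x
    rw [← Module.End.mul_apply, ← Module.End.mul_apply, hN3]
    rfl
  rw [Fintype.linearIndependent_iff]
  intro c hc
  rw [Fin.sum_univ_three] at hc
  simp only [Matrix.cons_val_zero, Matrix.cons_val_one, Matrix.cons_val_two, Matrix.head_cons,
    Matrix.tail_cons] at hc
  have h0 : c 0 = 0 := by
    have := congrArg (fun v => N (N v)) hc
    simp only [map_add, map_smul, hN3', smul_zero, add_zero, map_zero] at this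
    rcases smul_eq_zero.1 this with h | h
    · exact h
    · exact absurd h hx0
  rw [h0, zero_smul, zero_add] at hc
  have h1 : c 1 = 0 := by
    have := congrArg (fun v => N v) hc
    simp only [map_add, map_smul, hN3', smul_zero, add_zero, map_zero] at this
    rcases smul_eq_zero.1 this with h | h
    · exact h
    · exact absurd h hx0
  rw [h1, zero_smul, zero_add] at hc
  have h2 : c 2 = 0 := by
    rcases smul_eq_zero.1 hc with h | h
    · exact h
    · exact absurd h hx0
  intro i
  fin_cases i
  · exact h0
  · exact h1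
  · exact h2

/-- an isometry of a nondegenerate 3-dimensional quadratic space, of order prime to the
characteristic, which commutes with a nontrivial unipotent isometry is `1` or `-1` -/
theorem eq_one_or_neg_one_of_commute_unipotent [FiniteDimensional F E] (p : ℕ) [Fact p.Prime]
    [CharP F p] (hp3 : 3 ≤ p) (Q : QuadraticForm F E)
    (hQ : ∀ v : E, (∀ w : E, QuadraticMap.polar Q v w = 0) → v = 0)
    (hdim : finrank F E = 3) (h s : Module.End F E) (hh : ∀ v, Q (h v) = Q v)
    (hs : ∀ v, Q (s v) = Q v) (hne : h ≠ 1) (hnil : IsNilpotent (h - 1)) (hc : Commute s h)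
    (M : ℕ) (hMp : M.Coprime p) (hsM : s ^ M = 1) : s = 1 ∨ s = -1 := by
  have hp : p.Prime := Fact.out
  have h2 : (2 : F) ≠ 0 := by
    intro h0
    have h1 : ((2 : ℕ) : F) = 0 := by exact_mod_cast h0
    rw [CharP.cast_eq_zero_iff F p] at h1
    have := Nat.le_of_dvd (by norm_num) h1
    omega
  have hnt : Nontrivial E := by
    apply Module.nontrivial_of_finrank_pos (R := F)
    rw [hdim]; norm_num
  set N : Module.End F E := h - 1 with hN
  have hN3 : N * N * N = 0 := by
    have h1 := (LinearMap.isNilpotent_iff_charpoly N).1 hnil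
    have h3 := LinearMap.aeval_self_charpoly N
    rw [h1, hdim, map_pow, Polynomial.aeval_X] at h3
    rw [← h3]
    noncomm_ring
  have hN2 : N * N ≠ 0 := sq_ne_zero_of_isometry h2 Q hQ hdim h hh hne
  obtain ⟨x0, hx0⟩ : ∃ x0, N (N x0) ≠ 0 := by
    by_contra hcon
    push Not at hcon
    apply hN2
    ext x
    exact hcon x
  have hN3' : ∀ x, N (N (N x)) = 0 := by
    intro x
    rw [← Module.End.mul_apply, ← Module.End.mul_apply, hN3]
    rfl
  have hli := linearIndependent_iterate N hN3 x0 hx0
  let b := basisOfLinearIndependentOfCardEqFinrank hli (by rw [hdim]; rfl)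
  have hb : ⇑b = ![x0, N x0, N (N x0)] := coe_basisOfLinearIndependentOfCardEqFinrank _ _
  obtain ⟨a, ha⟩ : ∃ a, a = b.repr (s x0) 0 := ⟨_, rfl⟩
  obtain ⟨bb, hbb⟩ : ∃ bb, bb = b.repr (s x0) 1 := ⟨_, rfl⟩
  obtain ⟨d, hd⟩ : ∃ d, d = b.repr (s x0) 2 := ⟨_, rfl⟩
  have hsx0 : s x0 = a • x0 + bb • N x0 + d • N (N x0) := by
    have := b.sum_repr (s x0)
    rw [Fin.sum_univ_three, hb] at this
    simp only [Matrix.cons_val_zero, Matrix.cons_val_one, Matrix.cons_val_two, Matrix.head_cons,
      Matrix.tail_cons] at this
    rw [← this, ha, hbb, hd]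
  have hcN : Commute s N := by
    rw [hN]
    exact hc.sub_right (Commute.one_right s)
  have hsN : ∀ y, s (N y) = N (s y) := by
    intro y
    rw [← Module.End.mul_apply, hcN.eq, Module.End.mul_apply]
  set T : Module.End F E := a • (1 : Module.End F E) + bb • N + d • (N * N) with hT
  have hTapp : ∀ y, T y = a • y + bb • N y + d • N (N y) := by
    intro y
    rw [hT]
    simp [Module.End.mul_apply]
  have hTN : ∀ y, T (N y) = N (T y) := by
    intro y
    rw [hTapp, hTapp]
    simp only [map_add, map_smul]
  have hsT : s = T := by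
    apply b.ext
    intro i
    rw [hb]
    fin_cases i
    · show s x0 = T x0
      rw [hTapp, hsx0]
    · show s (N x0) = T (N x0)
      rw [hsN, hTN, hTapp, hsx0]
    · show s (N (N x0)) = T (N (N x0))
      rw [hsN, hsN, hTN, hTN, hTapp, hsx0]
  -- eigenvalue on the socle
  set y0 := N (N x0) with hy0
  have hsy0 : s y0 = a • y0 := by
    rw [hsT, hTapp, hy0, hN3']
    simp
  have hpow_y0 : ∀ j : ℕ, (s ^ j) y0 = a ^ j • y0 := by
    intro j
    induction j with
    | zero => simp
    | succ j ih =>
      rw [pow_succ, Module.End.mul_apply, hsy0, map_smul, ih, smul_smul, pow_succ, mul_comm]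
  have haM : a ^ M = 1 := by
    have h1 := hpow_y0 M
    rw [hsM, Module.End.one_apply] at h1
    have h3 : (a ^ M - 1) • y0 = 0 := by rw [sub_smul, one_smul, ← h1, sub_self]
    rcases smul_eq_zero.1 h3 with h | h
    · exact sub_eq_zero.1 h
    · exact absurd h hx0
  have hM0 : M ≠ 0 := by
    intro h0
    rw [h0, Nat.coprime_zero_left] at hMp
    exact hp.one_lt.ne' hMp
  have ha0 : a ≠ 0 := by
    intro h0
    rw [h0, zero_pow hM0] at haM
    exact zero_ne_one haM
  -- the unipotent part
  set R : Module.End F E := (a⁻¹ * bb) • (1 : Module.End F E) + (a⁻¹ * d) • N with hR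
  have hRN : Commute N R := by
    rw [hR]
    apply Commute.add_right
    · exact (Commute.one_right N).smul_right _
    · exact (Commute.refl N).smul_right _
  set m : Module.End F E := N * R with hm
  have hm3 : m ^ 3 = 0 := by
    rw [hm, hRN.mul_pow]
    have : N ^ 3 = 0 := by
      rw [← hN3]; noncomm_ring
    rw [this, zero_mul]
  have hmp : m ^ p = 0 := by
    rw [show p = 3 + (p - 3) by omega, pow_add, hm3, zero_mul]
  have hu : a⁻¹ • s = 1 + m := by
    rw [hsT, hT, hm, hR]
    ext y
    simp only [LinearMap.smul_apply, LinearMap.add_apply, Module.End.one_apply,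
      Module.End.mul_apply, map_add, map_smul, smul_add, smul_smul]
    rw [inv_mul_cancel₀ ha0, one_smul, add_assoc]
  have hchar : CharP (Module.End F E) p :=
    charP_of_injective_algebraMap (algebraMap F (Module.End F E)).injective p
  have huM : (1 + m) ^ M = 1 := by
    rw [← hu, smul_pow, hsM, inv_pow, haM, inv_one, one_smul]
  have hup : (1 + m) ^ p = 1 := by
    rw [add_pow_char_of_commute _ (Commute.one_left m), one_pow, hmp, add_zero]
  have hu1 : (1 + m) ^ Nat.gcd M p = 1 := by
    rw [pow_gcd_eq_one]
    exact ⟨huM, hup⟩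
  rw [hMp, pow_one] at hu1
  have hsa : s = a • (1 : Module.End F E) := by
    rw [← hu1, ← hu, smul_smul, mul_inv_cancel₀ ha0, one_smul]
  -- `a ^ 2 = 1`
  obtain ⟨x, hx⟩ : ∃ x, Q x ≠ 0 := by
    by_contra hcon
    push Not at hcon
    obtain ⟨v, hv⟩ := exists_ne (0 : E)
    apply hv
    apply hQ
    intro w
    simp only [QuadraticMap.polar, hcon, sub_zero]
  have h5 := hs x
  rw [hsa, LinearMap.smul_apply, Module.End.one_apply, QuadraticMap.map_smul, smul_eq_mul] at h5
  have h6 : a * a = 1 := by
    have : (a * a - 1) * Q x = 0 := by linear_combination h5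
    rcases mul_eq_zero.1 this with h | h
    · exact sub_eq_zero.1 h
    · exact absurd h hx
  rcases mul_self_eq_one_iff.1 h6 with h | h
  · left
    rw [hsa, h, one_smul]
  · right
    rw [hsa, h, neg_smul, one_smul]

end Cfsg.Agent.Helper12.BCSpec
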