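import Mathlib
import Cfsg.Agent.Helper12.BCSpecC

set_option autoImplicit false

/-! Involutory isometries commuting with an isometry of odd prime order whose fixed space is a
line: they are `± 1` or `±` the reflection in that line. -/

namespace Cfsg.Agent.Helper12.BCG

open Module Cfsg.Agent.Helper12.BCSpec

theorem one_add_mul_idem_pow {R : Type*} [Ring R] (y e : R) (he : e * e = e) (hc : Commute y e)
    (k : ℕ) : (1 + (y - 1) * e) ^ k = 1 + (y ^ k - 1) * e := by
  induction k with
  | zero => simp
  | succ k ih =>
    rw [pow_succ, ih]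
    have hc1 : Commute (y - 1) e := (hc.sub_left (Commute.one_left e))
    have h1 : e * ((y - 1) * e) = (y - 1) * e := by
      rw [← mul_assoc, ← hc1.eq, mul_assoc, he]
    have h2 : (y ^ k - 1) * e * ((y - 1) * e) = (y ^ k - 1) * ((y - 1) * e) := by
      rw [mul_assoc, h1]
    rw [mul_add, mul_one, add_mul, one_mul, h2, pow_succ]
    noncomm_ring

variable {F : Type*} [Field F] {V : Type*} [AddCommGroup V] [Module F V] (Q : QuadraticForm F V)

theorem polar_eq_zero_of_eigen (h2 : (2 : F) ≠ 0) (u : Module.End F V) (hu : ∀ v, Q (u v) = Q v)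
    (a b : V) (ha : u a = a) (hb : u b = -b) : QuadraticMap.polar Q a b = 0 := by
  have h1 := polar_isometry Q u hu a b
  rw [ha, hb, QuadraticMap.polar_neg_right] at h1
  have h3 : (2 : F) * QuadraticMap.polar Q a b = 0 := by linear_combination -h1
  exact (mul_eq_zero.1 h3).resolve_left h2

/-- **Involutions commuting with `y`.** -/
theorem invol_cases [FiniteDimensional F V] (h2 : (2 : F) ≠ 0) (y u : Module.End F V)
    (hy : ∀ v, Q (y v) = Q v)
    (hu : ∀ v, Q (u v) = Q v) (hc : Commute y u) (huu : u * u = 1) (s : ℕ) (hys : y ^ s = 1)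
    (w : V) (hw : w ≠ 0) (hker : ∀ v, y v = v → ∃ c : F, v = c • w) (huw : u w = w)
    (hQw : Q w ≠ 0)
    (hdim : ∀ φ : Module.End F V, (∀ v, Q (φ v) = Q v) → φ ^ s = 1 → φ ≠ 1 →
      finrank F (LinearMap.ker (φ - 1)) ≤ 1) :
    u = 1 ∨ ∀ v, u v = ((Q w)⁻¹ * QuadraticMap.polar Q w v) • w - v := by
  set c : F := (2 : F)⁻¹ with hcdef
  have hc2 : c * 2 = 1 := inv_mul_cancel₀ h2
  have huu' : ∀ v, u (u v) = v := by
    intro v
    have := congrArg (fun f : Module.End F V => f v) huu
    simpa using this
  have hcomm : ∀ v, y (u v) = u (y v) := by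
    intro v
    have := congrArg (fun f : Module.End F V => f v) hc.eq
    simpa using this
  set e : Module.End F V := c • (1 - u) with he
  have hev : ∀ v, e v = c • (v - u v) := by
    intro v
    rw [he]
    simp
  have hue : ∀ v, u (e v) = -e v := by
    intro v
    rw [hev, map_smul, map_sub, huu', ← smul_neg, neg_sub]
  have hee : e * e = e := by
    apply LinearMap.ext
    intro v
    rw [Module.End.mul_apply, hev (e v), hue, sub_neg_eq_add, ← two_smul F (e v), smul_smul, hc2,
      one_smul]
  have hce : Commute y e := by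
    rw [he]
    exact (Commute.smul_right ((Commute.one_right y).sub_right hc) c)
  -- the auxiliary isometry
  set φ : Module.End F V := 1 + (y - 1) * e with hφ
  have hφv : ∀ v, φ v = (v - e v) + y (e v) := by
    intro v
    rw [hφ]
    simp only [LinearMap.add_apply, Module.End.one_apply, Module.End.mul_apply,
      LinearMap.sub_apply]
    abel
  have hua : ∀ v, u (v - e v) = v - e v := by
    intro v
    rw [map_sub, hue, hev]
    have hv2 : ∀ x : V, x = c • (2 : F) • x := by
      intro x
      rw [smul_smul, hc2, one_smul]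
    have h3 : v - c • (v - u v) = c • (v + u v) := by
      nth_rewrite 1 [hv2 v]
      module
    have h4 : u v - -(c • (v - u v)) = c • (v + u v) := by
      nth_rewrite 1 [hv2 (u v)]
      module
    rw [h3, h4]
  have hφiso : ∀ v, Q (φ v) = Q v := by
    intro v
    rw [hφv]
    have hb : u (y (e v)) = -(y (e v)) := by
      rw [← hcomm, hue, map_neg]
    have h3 := polar_eq_zero_of_eigen Q h2 u hu _ _ (hua v) hb
    have h4 := polar_eq_zero_of_eigen Q h2 u hu _ _ (hua v) (hue v)
    have h5 : Q (v - e v + y (e v)) = Q (v - e v) + Q (y (e v)) +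
        QuadraticMap.polar Q (v - e v) (y (e v)) := by
      rw [QuadraticMap.polar]
      ring
    have h6 : Q v = Q (v - e v) + Q (e v) + QuadraticMap.polar Q (v - e v) (e v) := by
      rw [QuadraticMap.polar, sub_add_cancel]
      ring
    rw [h5, h6, h3, h4, hy]
  have hφs : φ ^ s = 1 := by
    rw [hφ, one_add_mul_idem_pow y e hee hce, hys, sub_self, zero_mul, add_zero]
  have hφw : φ w = w := by
    rw [hφv, hev, huw, sub_self, smul_zero, sub_zero, map_zero, add_zero]
  by_cases hφ1 : φ = 1
  · left
    -- then `e = 0`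
    have he0 : ∀ v, e v = 0 := by
      intro v
      have h3 := congrArg (fun f : Module.End F V => f v) hφ1
      simp only [Module.End.one_apply] at h3
      rw [hφv] at h3
      have h4 : y (e v) = e v := by
        have : v - e v + y (e v) - (v - e v) = v - (v - e v) := by rw [h3]
        simpa using this
      obtain ⟨l, hl⟩ := hker _ h4
      have h5 := hue v
      rw [hl, map_smul, huw] at h5
      have h6 : (2 * l) • w = 0 := by
        rw [mul_smul, two_smul]
        have : l • w + l • w = l • w - -(l • w) := by abel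
        rw [this, ← h5, sub_self]
      rcases smul_eq_zero.1 h6 with h7 | h7
      · rw [hl, (mul_eq_zero.1 h7).resolve_left h2, zero_smul]
      · exact absurd h7 hw
    apply LinearMap.ext
    intro v
    have h3 := he0 v
    rw [hev] at h3
    rcases smul_eq_zero.1 h3 with h4 | h4
    · exfalso
      rw [h4, zero_mul] at hc2
      exact zero_ne_one hc2
    · rw [Module.End.one_apply]
      exact (sub_eq_zero.1 h4).symm
  · right
    have hd := hdim φ hφiso hφs hφ1
    rw [finrank_le_one_iff] at hd
    obtain ⟨⟨v₀, hv₀⟩, hgen⟩ := hd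
    have hmem : ∀ x : V, φ x = x → ∃ l : F, x = l • w := by
      intro x hx
      have hxk : x ∈ LinearMap.ker (φ - 1) := by
        rw [LinearMap.mem_ker, LinearMap.sub_apply, Module.End.one_apply, hx, sub_self]
      have hwk : w ∈ LinearMap.ker (φ - 1) := by
        rw [LinearMap.mem_ker, LinearMap.sub_apply, Module.End.one_apply, hφw, sub_self]
      obtain ⟨l₁, hl₁⟩ := hgen ⟨x, hxk⟩
      obtain ⟨l₂, hl₂⟩ := hgen ⟨w, hwk⟩
      have hl₁' : l₁ • v₀ = x := congrArg Subtype.val hl₁
      have hl₂' : l₂ • v₀ = w := congrArg Subtype.val hl₂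
      have hl₂0 : l₂ ≠ 0 := by
        rintro rfl
        rw [zero_smul] at hl₂'
        exact hw hl₂'.symm
      refine ⟨l₁ * l₂⁻¹, ?_⟩
      rw [← hl₂', smul_smul, mul_assoc, inv_mul_cancel₀ hl₂0, mul_one, hl₁']
    intro v
    have hfix : φ (v - e v) = v - e v := by
      rw [hφv]
      have h3 : e (v - e v) = 0 := by
        rw [hev, hua, sub_self, smul_zero]
      rw [h3, sub_zero, map_zero, add_zero]
    obtain ⟨l, hl⟩ := hmem _ hfix
    have huv : u v = (2 * l) • w - v := by
      have h3 : u v = (v - e v) - e v := by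
        have h4 : u v = u (v - e v) + u (e v) := by rw [← map_add, sub_add_cancel]
        rw [h4, hua, hue]
        abel
      rw [h3, mul_smul, two_smul, ← hl]
      abel
    -- determine `l`
    have h3 := polar_isometry Q u hu w v
    rw [huw, huv, QuadraticMap.polar_sub_right, QuadraticMap.polar_smul_right, polar_self_eq,
      smul_eq_mul] at h3
    have h5 : 2 * l * Q w = QuadraticMap.polar Q w v :=
      mul_left_cancel₀ h2 (by linear_combination h3)
    have h4 : 2 * l = (Q w)⁻¹ * QuadraticMap.polar Q w v := by
      rw [← h5]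
      field_simp
    rw [huv, h4]

end Cfsg.Agent.Helper12.BCG
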