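import Mathlib

set_option autoImplicit false

/-! Counting points on quadrics: peeling off a hyperbolic plane. -/

namespace Cfsg.Agent.Helper12.BCSpec

variable {F : Type*} [Field F] [Fintype F]

/-- the number of points of the hyperbola `a b = t` -/
theorem card_hyperbola [DecidableEq F] (t : F) :
    Fintype.card {p : F × F // p.1 * p.2 = t} =
      (Fintype.card F - 1) + (if t = 0 then Fintype.card F else 0) := by
  by_cases ht : t = 0
  · subst ht
    rw [if_pos rfl]
    have e : {p : F × F // p.1 * p.2 = 0} ≃ Fˣ ⊕ F :=
      { toFun := fun p => if h : p.1.1 = 0 then Sum.inr p.1.2 else Sum.inl (Units.mk0 p.1.1 h)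
        invFun := fun s => Sum.elim (fun u : Fˣ => (⟨((u : F), 0), by simp⟩ :
            {p : F × F // p.1 * p.2 = 0}))
          (fun b : F => (⟨(0, b), by simp⟩ : {p : F × F // p.1 * p.2 = 0})) s
        left_inv := by
          rintro ⟨⟨a, b⟩, hab⟩
          by_cases h : a = 0
          · subst h
            simp
          · have hb : b = 0 := by
              rcases mul_eq_zero.1 hab with h' | h'
              · exact absurd h' h
              · exact h'
            subst hb
            simp [h]
        right_inv := by
          rintro (u | b)
          · simp
          · simp }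
    rw [Fintype.card_congr e, Fintype.card_sum, Fintype.card_units]
  · rw [if_neg ht, add_zero, ← Fintype.card_units]
    apply Fintype.card_congr
    exact
      { toFun := fun p => Units.mk0 p.1.1 (by
          intro h
          apply ht
          rw [← p.2, h, zero_mul])
        invFun := fun u => ⟨((u : F), (u : F)⁻¹ * t), by
          rw [← mul_assoc, Units.mul_inv', one_mul]⟩
        left_inv := by
          rintro ⟨⟨a, b⟩, hab⟩
          have ha : a ≠ 0 := by
            intro h
            apply ht
            rw [← hab]
            simp [h]
          apply Subtype.ext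
          simp only [Units.val_mk0, Prod.mk.injEq, true_and]
          simp only at hab
          rw [← hab]
          field_simp
        right_inv := by
          intro u
          apply Units.ext
          simp }

/-- peeling off a hyperbolic plane -/
theorem card_peel [DecidableEq F] {X : Type*} [Fintype X] (g : X → F) (t : F) :
    Fintype.card {y : X × (F × F) // y.2.1 * y.2.2 + g y.1 = t} =
      (Fintype.card F - 1) * Fintype.card X + Fintype.card F * Fintype.card {x : X // g x = t} := by
  classical
  have e : {y : X × (F × F) // y.2.1 * y.2.2 + g y.1 = t} ≃
      Σ x : X, {p : F × F // p.1 * p.2 = t - g x} :=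
    { toFun := fun y => ⟨y.1.1, ⟨y.1.2, eq_sub_of_add_eq y.2⟩⟩
      invFun := fun z => ⟨(z.1, z.2.1), by
        have := z.2.2
        simp only
        rw [this]; ring⟩
      left_inv := by
        rintro ⟨⟨x, p⟩, h⟩
        rfl
      right_inv := by
        rintro ⟨x, ⟨p, h⟩⟩
        rfl }
  rw [Fintype.card_congr e, Fintype.card_sigma]
  simp only [card_hyperbola]
  rw [Finset.sum_add_distrib, Finset.sum_const, Finset.card_univ, smul_eq_mul, mul_comm]
  congr 1
  rw [Fintype.card_subtype, ← Finset.sum_filter, Finset.sum_const, smul_eq_mul, mul_comm]
  congr 2
  ext x
  simp only [Finset.mem_filter, Finset.mem_univ, true_and]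
  constructor
  · intro h
    exact (sub_eq_zero.1 h).symm
  · intro h
    rw [h, sub_self]

end Cfsg.Agent.Helper12.BCSpec
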