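import Mathlib
import Cfsg.Agent.Helper12.BCSpecG
import Cfsg.Agent.Helper13.QuadWitt

set_option autoImplicit false

/-! The unit sphere of a three-dimensional quadratic space. -/

namespace Cfsg.Agent.Helper12.BCSpec

open Module Cfsg.Agent.Helper13

variable {F : Type*} [Field F] [Fintype F]

theorem card_scaled_sq_eq_one [DecidableEq F] (h2 : (2 : F) ≠ 0) (δ : F) :
    Fintype.card {c : F // δ * c ^ 2 = 1} = 0 ∨ Fintype.card {c : F // δ * c ^ 2 = 1} = 2 := by
  by_cases hex : ∃ c₀ : F, δ * c₀ ^ 2 = 1
  · right
    obtain ⟨c₀, hc₀⟩ := hex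
    have hδ : δ ≠ 0 := by
      intro h
      rw [h, zero_mul] at hc₀
      exact zero_ne_one hc₀
    have hc0 : c₀ ≠ 0 := by
      intro h
      rw [h] at hc₀
      simp at hc₀
    have hne : c₀ ≠ -c₀ := by
      intro h
      have : (2 : F) * c₀ = 0 := by linear_combination h
      rcases mul_eq_zero.1 this with h' | h'
      · exact h2 h'
      · exact hc0 h'
    rw [Fintype.card_subtype]
    have : (Finset.univ.filter fun c : F => δ * c ^ 2 = 1) = {c₀, -c₀} := by
      ext c
      simp only [Finset.mem_filter, Finset.mem_univ, true_and, Finset.mem_insert,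
        Finset.mem_singleton]
      constructor
      · intro hc
        have h3 : δ * ((c - c₀) * (c + c₀)) = 0 := by linear_combination hc - hc₀
        rcases mul_eq_zero.1 h3 with h' | h'
        · exact absurd h' hδ
        · rcases mul_eq_zero.1 h' with h'' | h''
          · left; exact sub_eq_zero.1 h''
          · right; exact eq_neg_of_add_eq_zero_left h''
      · rintro (rfl | rfl)
        · exact hc₀
        · rw [neg_sq]; exact hc₀
    rw [this, Finset.card_pair hne]
  · left
    rw [Fintype.card_eq_zero_iff]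
    exact ⟨fun c => hex ⟨c.1, c.2⟩⟩

/-- the unit sphere of a non-degenerate three-dimensional quadratic space has `q ^ 2 ± q`
points -/
theorem card_sphere_three (h2 : (2 : F) ≠ 0) {V : Type*} [AddCommGroup V] [Module F V]
    [FiniteDimensional F V] (Q : QuadraticForm F V)
    (hQ : ∀ v : V, (∀ w : V, QuadraticMap.polar Q v w = 0) → v = 0) (h3 : finrank F V = 3) :
    Nat.card {v : V // Q v = 1} + Fintype.card F = Fintype.card F ^ 2 ∨
      Nat.card {v : V // Q v = 1} = Fintype.card F ^ 2 + Fintype.card F := by
  classical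
  have hfinV : Finite V := Module.finite_of_finite F
  have : Fintype V := Fintype.ofFinite V
  obtain ⟨e, he, hQe⟩ := exists_singular Q (by omega)
  obtain ⟨f, hQf, hef⟩ := exists_hyperbolic_partner Q hQ e he hQe
  obtain ⟨d, hd, hφ⟩ := exists_ne_zero_mem_ker_of_finrank_lt
    ((QuadraticMap.polarBilin Q e).prod (QuadraticMap.polarBilin Q f))
    (by rw [Module.finrank_prod, Module.finrank_self]; omega)
  have hed : QuadraticMap.polar Q e d = 0 := by
    have := congrArg Prod.fst hφ
    simpa using this
  have hfd : QuadraticMap.polar Q f d = 0 := by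
    have := congrArg Prod.snd hφ
    simpa using this
  have hfe : QuadraticMap.polar Q f e = 1 := by rw [QuadraticMap.polar_comm]; exact hef
  have hee : QuadraticMap.polar Q e e = 0 := by rw [polar_self', hQe, mul_zero]
  have hff : QuadraticMap.polar Q f f = 0 := by rw [polar_self', hQf, mul_zero]
  set Φ : F × (F × F) → V := fun y => (y.2.1 • e + y.2.2 • f) + y.1 • d with hΦ
  have hpe : ∀ y, QuadraticMap.polar Q e (Φ y) = y.2.2 := by
    intro y
    simp only [hΦ, QuadraticMap.polar_add_right, QuadraticMap.polar_smul_right, hee, hef, hed,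
      smul_eq_mul]
    ring
  have hpf : ∀ y, QuadraticMap.polar Q f (Φ y) = y.2.1 := by
    intro y
    simp only [hΦ, QuadraticMap.polar_add_right, QuadraticMap.polar_smul_right, hfe, hff, hfd,
      smul_eq_mul]
    ring
  have hinj : Function.Injective Φ := by
    rintro ⟨c, a, b⟩ ⟨c', a', b'⟩ h
    have h1 := hpe (c, a, b)
    have h1' := hpe (c', a', b')
    have h2' := hpf (c, a, b)
    have h2'' := hpf (c', a', b')
    rw [h] at h1 h2'
    simp only at h1 h1' h2' h2''
    have hb : b = b' := h1.symm.trans h1'
    have ha : a = a' := h2'.symm.trans h2''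
    subst hb ha
    have h4 : c • d = c' • d := by
      simp only [hΦ] at h
      exact add_left_cancel h
    have hc : c = c' := smul_left_injective F hd h4
    rw [hc]
  have hcard : Fintype.card (F × (F × F)) = Fintype.card V := by
    rw [Module.card_eq_pow_finrank (K := F) (V := V), h3, Fintype.card_prod, Fintype.card_prod]
    ring
  have hbij : Function.Bijective Φ := (Fintype.bijective_iff_injective_and_card Φ).2 ⟨hinj, hcard⟩
  have hQΦ : ∀ y : F × (F × F), Q (Φ y) = y.2.1 * y.2.2 + Q d * y.1 ^ 2 := by
    intro y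
    simp only [hΦ]
    rw [QuadraticMap.map_add (⇑Q), map_smul_add_smul, hQe, hQf, hef, QuadraticMap.map_smul,
      QuadraticMap.polar_smul_right, QuadraticMap.polar_add_left, QuadraticMap.polar_smul_left,
      QuadraticMap.polar_smul_left, hed, hfd]
    simp only [smul_eq_mul]
    ring
  have e1 : {v : V // Q v = 1} ≃ {y : F × (F × F) // y.2.1 * y.2.2 + Q d * y.1 ^ 2 = 1} :=
    ((Equiv.ofBijective Φ hbij).subtypeEquiv (by
      intro y
      rw [Equiv.ofBijective_apply, hQΦ])).symm
  rw [Nat.card_congr e1, Nat.card_eq_fintype_card,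
    card_peel (X := F) (fun c => Q d * c ^ 2) 1]
  have hq : 2 ≤ Fintype.card F := Fintype.one_lt_card
  obtain ⟨q, hq'⟩ : ∃ q, Fintype.card F = q + 2 := ⟨Fintype.card F - 2, by omega⟩
  rcases card_scaled_sq_eq_one h2 (Q d) with h0 | h0
  · left
    rw [h0, hq']
    simp only [mul_zero, add_zero]
    have : q + 2 - 1 = q + 1 := by omega
    rw [this]
    ring
  · right
    rw [h0, hq']
    have : q + 2 - 1 = q + 1 := by omega
    rw [this]
    ring

end Cfsg.Agent.Helper12.BCSpec
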