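import Mathlib
import Cfsg.Prelude.Def_Classical
import Cfsg.Agent.Helper12.BCSpecH

set_option autoImplicit false

/-! The unit sphere of the standard odd-dimensional quadratic form. -/

namespace Cfsg.Agent.Helper12.BCSpec

variable {F : Type*} [Field F] [Fintype F]

theorem card_sq_eq_one [DecidableEq F] (h2 : (2 : F) ≠ 0) :
    Fintype.card {c : F // c ^ 2 = 1} = 2 := by
  have e : {c : F // c ^ 2 = 1} ≃ {c : F // (1 : F) * c ^ 2 = 1} :=
    Equiv.subtypeEquivRight (fun c => by rw [one_mul])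
  rw [Fintype.card_congr e]
  rcases card_scaled_sq_eq_one h2 (1 : F) with h | h
  · rw [Fintype.card_eq_zero_iff] at h
    exact (h.false ⟨1, by simp⟩).elim
  · exact h

/-- the fibre of `(c, y) ↦ c ^ 2 + a ⬝ y` over `1`, for `a ≠ 0` -/
theorem card_fiber_of_ne_zero [DecidableEq F] (n : ℕ) (a : Fin n → F) (ha : a ≠ 0) :
    Fintype.card {p : F × (Fin n → F) // p.1 ^ 2 + a ⬝ᵥ p.2 = 1} = Fintype.card F ^ n := by
  obtain ⟨i₀, hi₀⟩ : ∃ i, a i ≠ 0 := by
    by_contra h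
    push Not at h
    exact ha (funext h)
  set y₀ : Fin n → F := Pi.single i₀ (a i₀)⁻¹ with hy₀
  have hay : a ⬝ᵥ y₀ = 1 := by
    rw [hy₀, dotProduct_single, mul_inv_cancel₀ hi₀]
  have hcard : Fintype.card (Fin n → F) = Fintype.card F ^ n := by
    rw [Fintype.card_fun, Fintype.card_fin]
  rw [← hcard]
  apply Fintype.card_congr
  exact
    { toFun := fun p => p.1.2 + (p.1.1 - a ⬝ᵥ p.1.2) • y₀
      invFun := fun z => ⟨(a ⬝ᵥ z, z - (a ⬝ᵥ z - 1 + (a ⬝ᵥ z) ^ 2) • y₀), by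
        simp only
        rw [dotProduct_sub, dotProduct_smul, hay, smul_eq_mul]
        ring⟩
      left_inv := by
        rintro ⟨⟨c, y⟩, hp⟩
        simp only at hp
        apply Subtype.ext
        simp only
        have h1 : a ⬝ᵥ (y + (c - a ⬝ᵥ y) • y₀) = c := by
          rw [dotProduct_add, dotProduct_smul, hay, smul_eq_mul]; ring
        rw [h1]
        have h3 : c - a ⬝ᵥ y - (c - 1 + c ^ 2) = 0 := by linear_combination -hp
        have h2 : y + (c - a ⬝ᵥ y) • y₀ - (c - 1 + c ^ 2) • y₀ = y := by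
          rw [add_sub_assoc, ← sub_smul, h3, zero_smul, add_zero]
        rw [h2]
      right_inv := by
        intro z
        simp only
        have h1 : a ⬝ᵥ (z - (a ⬝ᵥ z - 1 + (a ⬝ᵥ z) ^ 2) • y₀) = 1 - (a ⬝ᵥ z) ^ 2 := by
          rw [dotProduct_sub, dotProduct_smul, hay, smul_eq_mul]; ring
        rw [h1]
        have h3 : a ⬝ᵥ z - (1 - (a ⬝ᵥ z) ^ 2) = a ⬝ᵥ z - 1 + (a ⬝ᵥ z) ^ 2 := by ring
        rw [h3, sub_add_cancel] }

theorem card_fiber_zero [DecidableEq F] (h2 : (2 : F) ≠ 0) (n : ℕ) :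
    Fintype.card {p : F × (Fin n → F) // p.1 ^ 2 + (0 : Fin n → F) ⬝ᵥ p.2 = 1} =
      2 * Fintype.card F ^ n := by
  have e : {p : F × (Fin n → F) // p.1 ^ 2 + (0 : Fin n → F) ⬝ᵥ p.2 = 1} ≃
      {c : F // c ^ 2 = 1} × (Fin n → F) :=
    { toFun := fun p => (⟨p.1.1, by
        have := p.2
        rw [zero_dotProduct, add_zero] at this
        exact this⟩, p.1.2)
      invFun := fun z => ⟨(z.1.1, z.2), by
        rw [zero_dotProduct, add_zero]
        exact z.1.2⟩
      left_inv := by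
        rintro ⟨⟨c, y⟩, hp⟩
        rfl
      right_inv := by
        rintro ⟨⟨c, hc⟩, y⟩
        rfl }
  rw [Fintype.card_congr e, Fintype.card_prod, card_sq_eq_one h2, Fintype.card_fun,
    Fintype.card_fin]

/-- splitting the coordinates of the odd-dimensional space -/
def oddSplit (n : ℕ) (F : Type*) :
    (Unit ⊕ (Fin n ⊕ Fin n) → F) ≃ (Fin n → F) × (F × (Fin n → F)) where
  toFun v := (fun i => v (Sum.inr (Sum.inl i)),
    (v (Sum.inl ()), fun i => v (Sum.inr (Sum.inr i))))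
  invFun y := Sum.elim (fun _ => y.2.1) (Sum.elim y.1 y.2.2)
  left_inv := by
    intro v
    funext s
    rcases s with ⟨⟩ | i | i <;> rfl
  right_inv := by
    intro y
    rfl

omit [Fintype F] in
theorem quadFormOdd_eq_oddSplit (n : ℕ) (v : Unit ⊕ (Fin n ⊕ Fin n) → F) :
    Cfsg.quadFormOdd n F v = (oddSplit n F v).2.1 ^ 2 + (oddSplit n F v).1 ⬝ᵥ (oddSplit n F v).2.2 :=
  rfl

/-- the standard odd-dimensional form has `q ^ (2 n) + q ^ n` vectors of norm one -/
theorem card_sphere_quadFormOdd (h2 : (2 : F) ≠ 0) (n : ℕ) :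
    Nat.card {v : Unit ⊕ (Fin n ⊕ Fin n) → F // Cfsg.quadFormOdd n F v = 1} =
      Fintype.card F ^ (2 * n) + Fintype.card F ^ n := by
  classical
  have e₂ : {v : Unit ⊕ (Fin n ⊕ Fin n) → F // Cfsg.quadFormOdd n F v = 1} ≃
      {y : (Fin n → F) × (F × (Fin n → F)) // y.2.1 ^ 2 + y.1 ⬝ᵥ y.2.2 = 1} :=
    (oddSplit n F).subtypeEquiv (by
      intro v
      rw [quadFormOdd_eq_oddSplit])
  have e₃ : {y : (Fin n → F) × (F × (Fin n → F)) // y.2.1 ^ 2 + y.1 ⬝ᵥ y.2.2 = 1} ≃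
      Σ a : Fin n → F, {p : F × (Fin n → F) // p.1 ^ 2 + a ⬝ᵥ p.2 = 1} :=
    Equiv.subtypeProdEquivSigmaSubtype
      (fun (a : Fin n → F) (p : F × (Fin n → F)) => p.1 ^ 2 + a ⬝ᵥ p.2 = 1)
  rw [Nat.card_congr (e₂.trans e₃), Nat.card_eq_fintype_card, Fintype.card_sigma,
    ← Finset.add_sum_erase Finset.univ _ (Finset.mem_univ (0 : Fin n → F)), card_fiber_zero h2,
    Finset.sum_const_nat (m := Fintype.card F ^ n)]
  · rw [Finset.card_erase_of_mem (Finset.mem_univ _), Finset.card_univ, Fintype.card_fun,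
      Fintype.card_fin]
    have h1 : 1 ≤ Fintype.card F ^ n := Nat.one_le_pow _ _ Fintype.card_pos
    obtain ⟨m, hm⟩ : ∃ m, Fintype.card F ^ n = m + 1 := ⟨Fintype.card F ^ n - 1, by omega⟩
    rw [two_mul n, pow_add, hm]
    simp only [Nat.add_sub_cancel]
    ring
  · intro a ha
    exact card_fiber_of_ne_zero n a (Finset.ne_of_mem_erase ha)

end Cfsg.Agent.Helper12.BCSpec
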