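import Mathlib
import Cfsg.Agent.Helper12.BCSpecI

set_option autoImplicit false

/-! Spheres of arbitrary radius for the standard odd-dimensional quadratic form, and the fixed
points on them of an isometry of prime order whose fixed space is a line. -/

namespace Cfsg.Agent.Helper12.BCG

open Cfsg.Agent.Helper12.BCSpec

variable {F : Type*} [Field F] [Fintype F]

theorem card_sq_eq_of_isSquare [DecidableEq F] (h2 : (2 : F) ≠ 0) (t : F) (ht : t ≠ 0)
    (hsq : IsSquare t) : Fintype.card {c : F // c ^ 2 = t} = 2 := by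
  have e : {c : F // c ^ 2 = t} ≃ {c : F // t⁻¹ * c ^ 2 = 1} :=
    Equiv.subtypeEquivRight (fun c => by
      constructor
      · intro h
        rw [h, inv_mul_cancel₀ ht]
      · intro h
        field_simp at h
        exact h)
  rw [Fintype.card_congr e]
  rcases card_scaled_sq_eq_one h2 t⁻¹ with h | h
  · rw [Fintype.card_eq_zero_iff] at h
    obtain ⟨d, hd⟩ := hsq
    have hd0 : d ≠ 0 := by
      rintro rfl
      rw [mul_zero] at hd
      exact ht hd
    exact (h.false ⟨d, by rw [hd]; field_simp⟩).elim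
  · exact h

theorem card_sq_eq_of_not_isSquare [DecidableEq F] (t : F)
    (hsq : ¬ IsSquare t) : Fintype.card {c : F // c ^ 2 = t} = 0 := by
  rw [Fintype.card_eq_zero_iff]
  exact ⟨fun c => hsq ⟨c.1, by have := c.2; rw [pow_two] at this; exact this.symm⟩⟩

/-- the fibre of `(c, y) ↦ c ^ 2 + a ⬝ y` over `t`, for `a ≠ 0` -/
theorem card_fiber_of_ne_zero' [DecidableEq F] (n : ℕ) (a : Fin n → F) (ha : a ≠ 0) (t : F) :
    Fintype.card {p : F × (Fin n → F) // p.1 ^ 2 + a ⬝ᵥ p.2 = t} = Fintype.card F ^ n := by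
  obtain ⟨i₀, hi₀⟩ : ∃ i, a i ≠ 0 := by
    by_contra h
    push Not at h
    exact ha (funext h)
  set y₀ : Fin n → F := Pi.single i₀ (a i₀)⁻¹ with hy₀
  have hay : a ⬝ᵥ y₀ = 1 := by
    rw [hy₀, dotProduct_single, mul_inv_cancel₀ hi₀]
  have hcard : Fintype.card (Fin n → F) = Fintype.card F ^ n := by
    rw [Fintype.card_fun, Fintype.card_fin]
  rw [← hcard]
  apply Fintype.card_congr
  exact
    { toFun := fun p => p.1.2 + (p.1.1 - a ⬝ᵥ p.1.2) • y₀
      invFun := fun z => ⟨(a ⬝ᵥ z, z - (a ⬝ᵥ z - t + (a ⬝ᵥ z) ^ 2) • y₀), by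
        simp only
        rw [dotProduct_sub, dotProduct_smul, hay, smul_eq_mul]
        ring⟩
      left_inv := by
        rintro ⟨⟨c, y⟩, hp⟩
        simp only at hp
        apply Subtype.ext
        simp only
        have h1 : a ⬝ᵥ (y + (c - a ⬝ᵥ y) • y₀) = c := by
          rw [dotProduct_add, dotProduct_smul, hay, smul_eq_mul]; ring
        rw [h1]
        have h3 : c - a ⬝ᵥ y - (c - t + c ^ 2) = 0 := by linear_combination -hp
        have h2 : y + (c - a ⬝ᵥ y) • y₀ - (c - t + c ^ 2) • y₀ = y := by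
          rw [add_sub_assoc, ← sub_smul, h3, zero_smul, add_zero]
        rw [h2]
      right_inv := by
        intro z
        simp only
        have h1 : a ⬝ᵥ (z - (a ⬝ᵥ z - t + (a ⬝ᵥ z) ^ 2) • y₀) = t - (a ⬝ᵥ z) ^ 2 := by
          rw [dotProduct_sub, dotProduct_smul, hay, smul_eq_mul]; ring
        rw [h1]
        have h3 : a ⬝ᵥ z - (t - (a ⬝ᵥ z) ^ 2) = a ⬝ᵥ z - t + (a ⬝ᵥ z) ^ 2 := by ring
        rw [h3, sub_add_cancel] }

theorem card_fiber_zero' [DecidableEq F] (n : ℕ) (t : F) :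
    Fintype.card {p : F × (Fin n → F) // p.1 ^ 2 + (0 : Fin n → F) ⬝ᵥ p.2 = t} =
      Fintype.card {c : F // c ^ 2 = t} * Fintype.card F ^ n := by
  have e : {p : F × (Fin n → F) // p.1 ^ 2 + (0 : Fin n → F) ⬝ᵥ p.2 = t} ≃
      {c : F // c ^ 2 = t} × (Fin n → F) :=
    { toFun := fun p => (⟨p.1.1, by
        have := p.2
        rw [zero_dotProduct, add_zero] at this
        exact this⟩, p.1.2)
      invFun := fun z => ⟨(z.1.1, z.2), by
        rw [zero_dotProduct, add_zero]
        exact z.1.2⟩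
      left_inv := by
        rintro ⟨⟨c, y⟩, hp⟩
        rfl
      right_inv := by
        rintro ⟨⟨c, hc⟩, y⟩
        rfl }
  rw [Fintype.card_congr e, Fintype.card_prod, Fintype.card_fun, Fintype.card_fin]

/-- the number of vectors of norm `t` of the standard odd-dimensional form -/
theorem card_sphere_gen [DecidableEq F] (n : ℕ) (t : F) :
    Nat.card {v : Unit ⊕ (Fin n ⊕ Fin n) → F // Cfsg.quadFormOdd n F v = t} =
      (Fintype.card F ^ n - 1) * Fintype.card F ^ n +
        Fintype.card {c : F // c ^ 2 = t} * Fintype.card F ^ n := by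
  classical
  have e₂ : {v : Unit ⊕ (Fin n ⊕ Fin n) → F // Cfsg.quadFormOdd n F v = t} ≃
      {y : (Fin n → F) × (F × (Fin n → F)) // y.2.1 ^ 2 + y.1 ⬝ᵥ y.2.2 = t} :=
    (oddSplit n F).subtypeEquiv (by
      intro v
      rw [quadFormOdd_eq_oddSplit])
  have e₃ : {y : (Fin n → F) × (F × (Fin n → F)) // y.2.1 ^ 2 + y.1 ⬝ᵥ y.2.2 = t} ≃
      Σ a : Fin n → F, {p : F × (Fin n → F) // p.1 ^ 2 + a ⬝ᵥ p.2 = t} :=
    Equiv.subtypeProdEquivSigmaSubtype
      (fun (a : Fin n → F) (p : F × (Fin n → F)) => p.1 ^ 2 + a ⬝ᵥ p.2 = t)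
  rw [Nat.card_congr (e₂.trans e₃), Nat.card_eq_fintype_card, Fintype.card_sigma,
    ← Finset.add_sum_erase Finset.univ _ (Finset.mem_univ (0 : Fin n → F)), card_fiber_zero',
    Finset.sum_const_nat (m := Fintype.card F ^ n)]
  · rw [Finset.card_erase_of_mem (Finset.mem_univ _), Finset.card_univ, Fintype.card_fun,
      Fintype.card_fin]
    convert add_comm _ _ using 2
  · intro a ha
    exact card_fiber_of_ne_zero' n a (Finset.ne_of_mem_erase ha) t

end Cfsg.Agent.Helper12.BCG
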