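import Mathlib
import Cfsg.Agent.Helper12.BCGraphJ

set_option autoImplicit false

/-! Fixed points on a sphere of an isometry of prime order whose fixed space is a line. -/

namespace Cfsg.Agent.Helper12.BCG

open Cfsg.Agent.Helper12.BCSpec

variable {F : Type*} [Field F] [Fintype F]

theorem card_sphere_modEq {V : Type*} [AddCommGroup V] [Module F V] [Finite V]
    (h2 : (2 : F) ≠ 0) (Q : QuadraticForm F V) {s : ℕ} (hs : s.Prime) (y : Module.End F V)
    (hy : ∀ v, Q (y v) = Q v) (hys : y ^ s = 1) (w : V) (hw : w ≠ 0) (hyw : y w = w)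
    (hker : ∀ v, y v = v → ∃ c : F, v = c • w) (hQw : Q w ≠ 0) :
    Nat.card {v : V // Q v = Q w} ≡ 2 [MOD s] := by
  classical
  have := Fintype.ofFinite V
  have := Fact.mk hs
  let f : Function.End {v : V // Q v = Q w} := fun v => ⟨y v.1, by rw [hy]; exact v.2⟩
  have hpow : ∀ (k : ℕ) (v : {v : V // Q v = Q w}), ((f ^ k) v).1 = (y ^ k) v.1 := by
    intro k
    induction k with
    | zero => intro v; rfl
    | succ k ih =>
      intro v
      rw [pow_succ, pow_succ, Module.End.mul_apply]
      show ((f ^ k) (f v)).1 = _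
      rw [ih]
  have hf : f ^ s ^ 1 = 1 := by
    rw [pow_one]
    funext v
    apply Subtype.ext
    rw [hpow, hys]
    rfl
  have hcount := Equiv.Perm.card_fixedPoints_modEq (f := f) (p := s) (n := 1) hf
  rw [Nat.card_eq_fintype_card]
  refine hcount.trans ?_
  have e : Function.fixedPoints f ≃ {l : F // l ^ 2 = 1} :=
    Equiv.symm (Equiv.ofBijective
      (fun l : {l : F // l ^ 2 = 1} => (⟨⟨l.1 • w, by
          rw [QuadraticMap.map_smul, ← pow_two, l.2, smul_eq_mul, one_mul]⟩, by
          show f _ = _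
          apply Subtype.ext
          show y (l.1 • w) = l.1 • w
          rw [map_smul, hyw]⟩ : Function.fixedPoints f))
      ⟨by
        intro l₁ l₂ h
        have h1 : l₁.1 • w = l₂.1 • w := congrArg (fun x : Function.fixedPoints f => x.1.1) h
        apply Subtype.ext
        by_contra hne
        have h3 : (l₁.1 - l₂.1) • w = 0 := by rw [sub_smul, h1, sub_self]
        rcases smul_eq_zero.1 h3 with h4 | h4
        · exact hne (sub_eq_zero.1 h4)
        · exact hw h4, by
        rintro ⟨⟨v, hv⟩, hfix⟩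
        have hyv : y v = v := congrArg Subtype.val hfix
        obtain ⟨l, hl⟩ := hker v hyv
        have hl2 : l ^ 2 = 1 := by
          rw [hl, QuadraticMap.map_smul, smul_eq_mul] at hv
          have : (l * l - 1) * Q w = 0 := by linear_combination hv
          rcases mul_eq_zero.1 this with h | h
          · linear_combination h
          · exact absurd h hQw
        refine ⟨⟨l, hl2⟩, ?_⟩
        apply Subtype.ext
        apply Subtype.ext
        exact hl.symm⟩)
  rw [Fintype.card_congr e, card_sq_eq_one h2]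

/-- the arithmetic consequence -/
theorem dvd_of_sphere (q n s : ℕ) (hs : s.Prime) (hs2 : s ≠ 2) (hq : 1 ≤ q)
    (hT : s ∣ q ^ n - 1 ∨ s ∣ q ^ n + 1) :
    ((q ^ n - 1) * q ^ n + 2 * q ^ n ≡ 2 [MOD s] → s ∣ q ^ n - 1) ∧
    ((q ^ n - 1) * q ^ n + 0 * q ^ n ≡ 2 [MOD s] → s ∣ q ^ n + 1) := by
  have hqn : 1 ≤ q ^ n := Nat.one_le_pow _ _ hq
  obtain ⟨m, hm⟩ : ∃ m, q ^ n = m + 1 := ⟨q ^ n - 1, by omega⟩
  rw [hm] at hT ⊢
  simp only [Nat.add_sub_cancel] at hT ⊢
  have hs3 : 3 ≤ s := by
    have := hs.two_le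
    omega
  constructor
  · intro h
    rcases hT with hT | hT
    · exact hT
    · exfalso
      -- `m + 2 ≡ 0`, so `m (m+1) + 2 (m+1) = (m+1)(m+2) ≡ 0`
      have h1 : m * (m + 1) + 2 * (m + 1) ≡ 0 [MOD s] := by
        have : m * (m + 1) + 2 * (m + 1) = (m + 1) * (m + 1 + 1) := by ring
        rw [this]
        exact (Nat.modEq_zero_iff_dvd.2 (Dvd.dvd.mul_left hT _))
      have h3 : 2 ≡ 0 [MOD s] := h.symm.trans h1
      have := Nat.le_of_dvd (by norm_num) (Nat.modEq_zero_iff_dvd.1 h3)
      omega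
  · intro h
    rcases hT with hT | hT
    · exfalso
      have h1 : m * (m + 1) + 0 * (m + 1) ≡ 0 [MOD s] := by
        rw [zero_mul, add_zero]
        exact (Nat.modEq_zero_iff_dvd.2 (Dvd.dvd.mul_right hT _))
      have h3 : 2 ≡ 0 [MOD s] := h.symm.trans h1
      have := Nat.le_of_dvd (by norm_num) (Nat.modEq_zero_iff_dvd.1 h3)
      omega
    · exact hT

end Cfsg.Agent.Helper12.BCG
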