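import Mathlib
import Cfsg.Agent.Helper12.BCGraphC
import Cfsg.Agent.S2614
import Cfsg.Agent.S0292

set_option autoImplicit false

/-! Membership in `Ω` of the negative of a reflection in odd dimension. -/

namespace Cfsg.Agent.Helper12.BCG

open Cfsg.Agent.Helper28.Spin Cfsg.Agent.S2614 Cfsg.Agent.Helper28.IsoTransport

section gen

variable {F : Type*} [Field F] [Fintype F] {ι : Type} [Fintype ι] [DecidableEq ι]
  (Q : QuadraticForm F (ι → F))

omit [Fintype F] in
theorem prodO_append (L₁ L₂ : List (NS Q)) : prodO Q (L₁ ++ L₂) = prodO Q L₁ * prodO Q L₂ := by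
  simp [prodO]

omit [Fintype F] [Fintype ι] [DecidableEq ι] in
theorem normProd_append (L₁ L₂ : List (NS Q)) :
    normProd Q (L₁ ++ L₂) = normProd Q L₁ * normProd Q L₂ := by
  simp [normProd]

theorem even_length_of_detHom (h2 : (2 : F) ≠ 0) (L : List (NS Q))
    (h : detHom Q (prodO Q L) = 1) : Even L.length := by
  rw [detHom_prodO] at h
  by_contra hodd
  rw [Nat.not_even_iff_odd] at hodd
  rw [hodd.neg_one_pow] at h
  exact neg_one_units_ne h2 h

/-- products of two isometries of determinant one -/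
theorem mul_mem_Omega_iff (h2 : (2 : F) ≠ 0) (hQ : (QuadraticMap.polarBilin Q).Nondegenerate)
    (a b : ↥(Cfsg.isometryGroup F ⇑Q)) (ha : detHom Q a = 1) (hb : detHom Q b = 1) :
    a * b ∈ Cfsg.Omega F ⇑Q ↔ (a ∈ Cfsg.Omega F ⇑Q ↔ b ∈ Cfsg.Omega F ⇑Q) := by
  obtain ⟨La, rfl⟩ := Cfsg.Agent.Helper28.CDG.cd_list Q h2 hQ a
  obtain ⟨Lb, rfl⟩ := Cfsg.Agent.Helper28.CDG.cd_list Q h2 hQ b
  have hea := even_length_of_detHom Q h2 La ha
  have heb := even_length_of_detHom Q h2 Lb hb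
  rw [← prodO_append, prodO_mem_Omega_iff Q h2, prodO_mem_Omega_iff Q h2,
    prodO_mem_Omega_iff Q h2, normProd_append, List.length_append,
    isSquare_mul_iff h2 (normProd_ne_zero Q La) (normProd_ne_zero Q Lb)]
  have := Nat.even_add.2 (iff_of_true hea heb)
  simp only [hea, heb, this, true_and]

/-- `-1` as an isometry -/
def negO : ↥(Cfsg.isometryGroup F ⇑Q) :=
  ⟨-1, by
    rw [mem_isometryGroup_iff]
    intro u
    rw [Units.val_neg, Units.val_one, Matrix.neg_mulVec, Matrix.one_mulVec, QuadraticMap.map_neg]⟩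

omit [Fintype F] in
theorem negO_val : ((negO Q : GL ι F) : Matrix ι ι F) = -1 := by
  show ((-1 : GL ι F) : Matrix ι ι F) = -1
  rw [Units.val_neg, Units.val_one]

end gen

section odd

variable {F : Type*} [Field F] [Fintype F]

/-- the standard vector of norm one -/
def e0 (n : ℕ) (F : Type*) [Field F] : Unit ⊕ (Fin n ⊕ Fin n) → F := Pi.single (Sum.inl ()) 1

omit [Fintype F] in
theorem Q_e0 (n : ℕ) : QfOdd n F (e0 n F) = 1 := by
  rw [e0, QfOdd_single, if_pos rfl]

omit [Fintype F] in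
theorem neg_refl_e0 (n : ℕ) :
    -Cfsg.reflectionMatrix ⇑(QfOdd n F) (e0 n F) =
      Matrix.diagonal (fun k : Unit ⊕ (Fin n ⊕ Fin n) =>
        if (Sum.elim (fun _ : Unit => n) (Sum.elim (fun j : Fin n => (j : ℕ))
          (fun j : Fin n => (j : ℕ))) k) < n then (-1 : F) else 1) := by
  classical
  apply matrix_ext_mulVec
  intro x
  rw [Matrix.neg_mulVec, refl_mulVec, Q_e0, inv_one, one_mul, QfOdd_coe,
    Cfsg.Agent.S0292.polar_odd]
  funext k
  rw [Matrix.mulVec_diagonal]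
  rcases k with u | j | j
  · obtain ⟨⟩ := u
    simp [e0]
    ring
  · simp [e0]
  · simp [e0]

theorem neg_refl_mem_Omega_iff (h2 : (2 : F) ≠ 0) (n : ℕ) (hn : 1 ≤ n)
    (w : Unit ⊕ (Fin n ⊕ Fin n) → F) (hw : QfOdd n F w ≠ 0)
    (ζ : ↥(Cfsg.isometryGroup F ⇑(QfOdd n F)))
    (hζ : ((ζ : GL (Unit ⊕ (Fin n ⊕ Fin n)) F) : Matrix _ _ F) =
      -Cfsg.reflectionMatrix ⇑(QfOdd n F) w) :
    ζ ∈ Cfsg.Omega F ⇑(QfOdd n F) ↔
      (Fintype.card F ^ n % 4 = 1 ↔ IsSquare (QfOdd n F w)) := by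
  classical
  have hQ := Cfsg.Agent.S0292.QfOdd_nondeg h2 (F := F) n
  have hqodd : Odd (Fintype.card F) := card_odd h2
  have he0 : QfOdd n F (e0 n F) ≠ 0 := by rw [Q_e0]; exact one_ne_zero
  have hζeq : ζ = (negO (QfOdd n F) * reflO (QfOdd n F) (e0 n F) he0) *
      (reflO (QfOdd n F) (e0 n F) he0 * reflO (QfOdd n F) w hw) := by
    rw [mul_assoc, ← mul_assoc (reflO (QfOdd n F) (e0 n F) he0), reflO_mul_self, one_mul]
    apply Subtype.ext
    apply Units.ext
    rw [hζ]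
    simp only [Subgroup.coe_mul, Units.val_mul, negO_val, reflO_val, neg_mul, one_mul]
  have hcardι : Fintype.card (Unit ⊕ (Fin n ⊕ Fin n)) = 2 * n + 1 := by
    rw [Fintype.card_sum, Fintype.card_sum, Fintype.card_fin, Fintype.card_unit]; ring
  have hdetneg : detHom (QfOdd n F) (negO (QfOdd n F)) = -1 := by
    apply Units.ext
    rw [detHom_val, negO_val, Matrix.det_neg, Matrix.det_one, hcardι, mul_one, pow_succ, pow_mul]
    simp
  have hdetd : detHom (QfOdd n F)
      (negO (QfOdd n F) * reflO (QfOdd n F) (e0 n F) he0) = 1 := by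
    rw [map_mul, hdetneg, detHom_reflO (QfOdd n F) ⟨e0 n F, he0⟩]
    simp
  have hdetρ : detHom (QfOdd n F)
      (reflO (QfOdd n F) (e0 n F) he0 * reflO (QfOdd n F) w hw) = 1 := by
    rw [map_mul, detHom_reflO (QfOdd n F) ⟨e0 n F, he0⟩, detHom_reflO (QfOdd n F) ⟨w, hw⟩]
    simp
  rw [hζeq, mul_mem_Omega_iff (QfOdd n F) h2 hQ _ _ hdetd hdetρ]
  -- `ρ`
  have hρΩ : (reflO (QfOdd n F) (e0 n F) he0 * reflO (QfOdd n F) w hw) ∈
      Cfsg.Omega F ⇑(QfOdd n F) ↔ IsSquare (QfOdd n F w) := by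
    have h1 : (reflO (QfOdd n F) (e0 n F) he0 * reflO (QfOdd n F) w hw) =
        prodO (QfOdd n F) [⟨e0 n F, he0⟩, ⟨w, hw⟩] := by
      rw [prodO_cons, prodO_cons, prodO_nil, mul_one]
    rw [h1, prodO_mem_Omega_iff (QfOdd n F) h2]
    simp only [List.length_cons, List.length_nil, normProd, List.map_cons, List.map_nil,
      List.prod_cons, List.prod_nil, mul_one]
    rw [Q_e0, one_mul]
    constructor
    · intro h; exact h.2
    · intro h; exact ⟨by decide, h⟩
  -- `d₀`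
  have hdΩ : (negO (QfOdd n F) * reflO (QfOdd n F) (e0 n F) he0) ∈
      Cfsg.Omega F ⇑(QfOdd n F) ↔ Fintype.card F ^ n % 4 = 1 := by
    have h1 := Cfsg.Agent.S2614.result (F := F) (q := Fintype.card F) rfl hqodd (m := n) n hn le_rfl
    rw [← QfOdd_coe, ← neg_refl_e0] at h1
    rw [← h1]
    constructor
    · intro h
      refine ⟨_, h, ?_⟩
      simp only [Subgroup.coe_mul, Units.val_mul, negO_val, reflO_val, neg_mul, one_mul]
    · rintro ⟨g, hgΩ, hg⟩
      have : g = (negO (QfOdd n F) * reflO (QfOdd n F) (e0 n F) he0) := by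
        apply Subtype.ext
        apply Units.ext
        rw [hg]
        simp only [Subgroup.coe_mul, Units.val_mul, negO_val, reflO_val, neg_mul, one_mul]
      rw [← this]
      exact hgΩ
  rw [hρΩ, hdΩ]

end odd

end Cfsg.Agent.Helper12.BCG
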