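import Mathlib
import Cfsg.Agent.Helper12.BCGraphH

set_option autoImplicit false

/-! Elements of the odd-dimensional orthogonal group of order `r s` (both primes odd) and `s p`:
necessary conditions. -/

open Polynomial

namespace Cfsg.Agent.Helper12.BCG

open Cfsg.Agent.S2614 Cfsg.Agent.Helper28.IsoTransport

section coe

variable {F : Type*} [Field F] {ι : Type} [Fintype ι] [DecidableEq ι]

/-- the matrix of an isometry -/
abbrev matOf {Q : (ι → F) → F} (g : ↥(Cfsg.isometryGroup F Q)) : Matrix ι ι F :=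
  ((g : GL ι F) : Matrix ι ι F)

theorem coe_pow_matrix (Q : (ι → F) → F) (g : ↥(Cfsg.isometryGroup F Q)) (k : ℕ) :
    matOf (g ^ k) = matOf g ^ k := by
  rw [matOf, matOf, Subgroup.coe_pow, Units.val_pow_eq_pow_val]

theorem pow_eq_one_iff_matrix (Q : (ι → F) → F) (g : ↥(Cfsg.isometryGroup F Q)) (k : ℕ) :
    g ^ k = 1 ↔ matOf g ^ k = 1 := by
  rw [← coe_pow_matrix]
  constructor
  · intro h
    rw [h]
    rfl
  · intro h
    exact Subtype.ext (Units.ext h)

theorem isometry_matrix (Q : (ι → F) → F) (g : ↥(Cfsg.isometryGroup F Q)) (x : ι → F) :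
    Q ((matOf g).mulVec x) = Q x :=
  (mem_isometryGroup_iff _ _).1 g.2 x

end coe

section main

variable {F : Type*} [Field F] [Fintype F]

theorem card_index (n : ℕ) : Fintype.card (Unit ⊕ (Fin n ⊕ Fin n)) = 2 * n + 1 := by
  rw [Fintype.card_sum, Fintype.card_sum, Fintype.card_fin, Fintype.card_unit]; ring

omit [Fintype F] in
theorem recipClosed_of_mem (h2 : (2 : F) ≠ 0) (n : ℕ)
    (g : ↥(Cfsg.isometryGroup F ⇑(QfOdd n F))) :
    RecipClosed (matOf g).charpoly :=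
  recipClosed_of_isometry (QfOdd n F) (Cfsg.Agent.S0292.QfOdd_nondeg h2 (F := F) n) _
    (isometry_matrix _ g)

/-- elements of order `r s` -/
theorem tor_of_orderOf_mul (p : ℕ) [Fact p.Prime] [CharP F p] (h2 : (2 : F) ≠ 0) (n r s : ℕ)
    (hr : r.Prime) (hs : s.Prime) (hrs : r ≠ s) (hr2 : r ≠ 2) (hs2 : s ≠ 2) (hrp : r ≠ p)
    (hsp : s ≠ p) (g : ↥(Cfsg.isometryGroup F ⇑(QfOdd n F))) (hg : orderOf g = r * s) :
    (∃ e₁ e₂ : ℕ, 1 ≤ e₁ ∧ 1 ≤ e₂ ∧ e₁ + e₂ ≤ n ∧ Tor (Fintype.card F) e₁ r ∧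
      Tor (Fintype.card F) e₂ s) ∨
    (∃ e : ℕ, 1 ≤ e ∧ e ≤ n ∧ Tor (Fintype.card F) e (r * s)) := by
  classical
  apply tor_of_pow_mul_eq_one p n r s hr hs hrs hr2 hs2 hrp hsp
    (matOf g) (card_index n).le
    (recipClosed_of_mem h2 n g)
  · rw [← pow_eq_one_iff_matrix, ← hg]
    exact pow_orderOf_eq_one g
  · rw [Ne, ← pow_eq_one_iff_matrix]
    intro h
    have h1 := orderOf_dvd_of_pow_eq_one h
    rw [hg] at h1
    have h3 : s ∣ 1 := by
      have : r * s ∣ r * 1 := by rwa [mul_one]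
      exact Nat.dvd_of_mul_dvd_mul_left hr.pos this
    exact hs.one_lt.ne' (Nat.dvd_one.1 h3)
  · rw [Ne, ← pow_eq_one_iff_matrix]
    intro h
    have h1 := orderOf_dvd_of_pow_eq_one h
    rw [hg] at h1
    have h3 : r ∣ 1 := by
      have : r * s ∣ 1 * s := by rwa [one_mul]
      exact Nat.dvd_of_mul_dvd_mul_right hs.pos this
    exact hr.one_lt.ne' (Nat.dvd_one.1 h3)

/-- elements of order `s p` -/
theorem tor_of_orderOf_mul_char (p : ℕ) [Fact p.Prime] [CharP F p] (h2 : (2 : F) ≠ 0) (n s : ℕ)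
    (hn : 2 ≤ n) (hs : s.Prime) (hs2 : s ≠ 2) (hsp : s ≠ p)
    (g : ↥(Cfsg.isometryGroup F ⇑(QfOdd n F))) (hg : orderOf g = s * p) :
    ∃ e : ℕ, 1 ≤ e ∧ e < n ∧ Tor (Fintype.card F) e s := by
  classical
  have hp : p.Prime := Fact.out
  by_contra hcon
  push Not at hcon
  apply not_pow_mul_char p n s hn hs hs2 hsp hcon
    (matOf g) (card_index n).le
    (recipClosed_of_mem h2 n g)
  · rw [← pow_eq_one_iff_matrix, ← hg]
    exact pow_orderOf_eq_one g
  · rw [Ne, ← pow_eq_one_iff_matrix]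
    intro h
    have h1 := orderOf_dvd_of_pow_eq_one h
    rw [hg] at h1
    have h3 : p ∣ 1 := by
      have : s * p ∣ s * 1 := by rwa [mul_one]
      exact Nat.dvd_of_mul_dvd_mul_left hs.pos this
    exact hp.one_lt.ne' (Nat.dvd_one.1 h3)
  · rw [Ne, ← pow_eq_one_iff_matrix]
    intro h
    have h1 := orderOf_dvd_of_pow_eq_one h
    rw [hg] at h1
    have h3 : s ∣ 1 := by
      have : s * p ∣ 1 * p := by rwa [one_mul]
      exact Nat.dvd_of_mul_dvd_mul_right hp.pos this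
    exact hs.one_lt.ne' (Nat.dvd_one.1 h3)

end main

end Cfsg.Agent.Helper12.BCG
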