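import Mathlib

set_option autoImplicit false
set_option linter.unusedSectionVars false

/-! Endomorphisms of prime order `r` of a vector space over a finite field: fixed-point counting,
the decomposition `V = ker (Y - 1) ⊕ range (Y - 1)` and invariant subspaces of the range. -/

namespace Cfsg.Agent.Helper12.BCSpec

open Module

variable {F : Type*} [Field F] [Fintype F]

theorem card_modEq_of_pow_eq_one {V : Type*} [AddCommGroup V] [Module F V] [Finite V] {r : ℕ}
    (hr : r.Prime) (y : Module.End F V) (hy : y ^ r = 1) :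
    Fintype.card F ^ finrank F V ≡
      Fintype.card F ^ finrank F (LinearMap.ker (y - 1)) [MOD r] := by
  classical
  have := Fintype.ofFinite V
  have := Fact.mk hr
  let f : Function.End V := ⇑y
  have hpow : ∀ k : ℕ, (f ^ k : Function.End V) = ⇑(y ^ k) := by
    intro k
    induction k with
    | zero => rfl
    | succ k ih =>
      rw [pow_succ, ih, pow_succ]
      rfl
  have hf : f ^ r ^ 1 = 1 := by
    rw [pow_one, hpow, hy]
    rfl
  have hcount := Equiv.Perm.card_fixedPoints_modEq (f := f) (p := r) (n := 1) hf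
  have hfix : (Function.fixedPoints f) = ((LinearMap.ker (y - 1) : Submodule F V) : Set V) := by
    ext w
    simp only [SetLike.mem_coe, LinearMap.mem_ker,
      LinearMap.sub_apply, Module.End.one_apply, sub_eq_zero]
    rfl
  have h1 : Fintype.card V = Fintype.card F ^ finrank F V := Module.card_eq_pow_finrank
  have h2 : Fintype.card (Function.fixedPoints f) =
      Fintype.card F ^ finrank F (LinearMap.ker (y - 1)) := by
    rw [← Nat.card_eq_fintype_card, hfix]
    have := Module.natCard_eq_pow_finrank (K := F) (V := (LinearMap.ker (y - 1)))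
    rw [Nat.card_eq_fintype_card (α := F)] at this
    exact this
  rw [h1, h2] at hcount
  exact hcount

theorem orderOf_dvd_sub_of_modEq {q r a b : ℕ} (hr : r.Prime) (hrq : ¬ r ∣ q) (hba : b ≤ a)
    (h : q ^ a ≡ q ^ b [MOD r]) : orderOf ((q : ℕ) : ZMod r) ∣ a - b := by
  have := Fact.mk hr
  have hq0 : ((q : ℕ) : ZMod r) ≠ 0 := by
    rw [Ne, ZMod.natCast_eq_zero_iff]
    exact hrq
  have h1 : ((q : ℕ) : ZMod r) ^ a = ((q : ℕ) : ZMod r) ^ b := by
    have := (ZMod.natCast_eq_natCast_iff _ _ _).2 h
    push_cast at this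
    exact this
  have h2 : ((q : ℕ) : ZMod r) ^ b * ((q : ℕ) : ZMod r) ^ (a - b) =
      ((q : ℕ) : ZMod r) ^ b * 1 := by
    rw [← pow_add, Nat.add_sub_cancel' hba, mul_one, h1]
  exact orderOf_dvd_of_pow_eq_one (mul_left_cancel₀ (pow_ne_zero _ hq0) h2)

variable {V : Type*} [AddCommGroup V] [Module F V] [Finite V]

theorem disjoint_ker_range {r : ℕ} (hrF : ((r : ℕ) : F) ≠ 0) (Y : Module.End F V)
    (hY : Y ^ r = 1) : Disjoint (LinearMap.ker (Y - 1)) (LinearMap.range (Y - 1)) := by
  rw [Submodule.disjoint_def]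
  intro v hv hw
  rw [LinearMap.mem_ker, LinearMap.sub_apply, Module.End.one_apply, sub_eq_zero] at hv
  obtain ⟨x, rfl⟩ := hw
  have hpow : ∀ j : ℕ, (Y ^ j) ((Y - 1) x) = (Y - 1) x := by
    intro j
    induction j with
    | zero => rfl
    | succ j ih => rw [pow_succ, Module.End.mul_apply, hv, ih]
  have h1 : (∑ j ∈ Finset.range r, Y ^ j) ((Y - 1) x) = (r : F) • (Y - 1) x := by
    rw [LinearMap.sum_apply, Finset.sum_congr rfl (fun j _ => hpow j), Finset.sum_const,
      Finset.card_range, Nat.cast_smul_eq_nsmul]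
  have h2 : (∑ j ∈ Finset.range r, Y ^ j) ((Y - 1) x) = 0 := by
    rw [← Module.End.mul_apply, geom_sum_mul, hY, sub_self]
    rfl
  rw [h1] at h2
  rcases smul_eq_zero.1 h2 with h | h
  · exact absurd h hrF
  · exact h

theorem isCompl_ker_range {r : ℕ} (hrF : ((r : ℕ) : F) ≠ 0) (Y : Module.End F V)
    (hY : Y ^ r = 1) : IsCompl (LinearMap.ker (Y - 1)) (LinearMap.range (Y - 1)) := by
  have hfin : Module.Finite F V := Module.Finite.of_finite
  have hd := disjoint_ker_range hrF Y hY
  refine ⟨hd, ?_⟩
  rw [codisjoint_iff]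
  apply Submodule.eq_top_of_disjoint _ _ _ hd
  rw [add_comm]
  exact (LinearMap.finrank_range_add_finrank_ker (Y - 1)).ge

theorem map_ker_of_commute (Y T : Module.End F V) (hc : Commute T Y) (v : V)
    (hv : v ∈ LinearMap.ker (Y - 1)) : T v ∈ LinearMap.ker (Y - 1) := by
  rw [LinearMap.mem_ker, LinearMap.sub_apply, Module.End.one_apply, sub_eq_zero] at hv ⊢
  rw [← Module.End.mul_apply, ← hc.eq, Module.End.mul_apply, hv]

theorem map_range_of_commute (Y T : Module.End F V) (hc : Commute T Y) (v : V)
    (hv : v ∈ LinearMap.range (Y - 1)) : T v ∈ LinearMap.range (Y - 1) := by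
  obtain ⟨x, rfl⟩ := hv
  refine ⟨T x, ?_⟩
  rw [← Module.End.mul_apply, ← Module.End.mul_apply]
  have : (Y - 1) * T = T * (Y - 1) := by
    rw [sub_mul, mul_sub, one_mul, mul_one, hc.eq]
  rw [this]

/-- the dimension of a `Y`-invariant subspace meeting the fixed space trivially is divisible by
the order of `q` modulo `r` -/
theorem orderOf_dvd_finrank {r : ℕ} (hr : r.Prime) (hrq : ¬ r ∣ Fintype.card F)
    (Y : Module.End F V) (hY : Y ^ r = 1) (S : Submodule F V) (hS : ∀ v ∈ S, Y v ∈ S)
    (hSU : ∀ v ∈ S, Y v = v → v = 0) :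
    orderOf ((Fintype.card F : ℕ) : ZMod r) ∣ finrank F S := by
  set y : Module.End F S := Y.restrict hS with hy
  have hpow : ∀ (k : ℕ) (w : S), (((y ^ k) w : S) : V) = (Y ^ k) (w : V) := by
    intro k
    induction k with
    | zero => intro w; rfl
    | succ k ih =>
      intro w
      rw [pow_succ, pow_succ, Module.End.mul_apply, Module.End.mul_apply, ih]
      rfl
  have hyr : y ^ r = 1 := by
    ext w
    rw [hpow, hY]
    rfl
  have hker : LinearMap.ker (y - 1) = ⊥ := by
    rw [eq_bot_iff]
    intro w hw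
    rw [LinearMap.mem_ker, LinearMap.sub_apply, Module.End.one_apply, sub_eq_zero] at hw
    have h1 : Y (w : V) = (w : V) := congrArg Subtype.val hw
    have h2 := hSU _ w.2 h1
    rw [Submodule.mem_bot]
    exact Subtype.ext h2
  have h := card_modEq_of_pow_eq_one hr y hyr
  rw [hker, finrank_bot] at h
  have := orderOf_dvd_sub_of_modEq hr hrq (Nat.zero_le _) h
  simpa using this

end Cfsg.Agent.Helper12.BCSpec
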