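import Mathlib
import Cfsg.Agent.Helper12.BCGraphM
import Cfsg.Agent.Helper12.BCGraphI
import Cfsg.Agent.Helper12.BCGraphK
import Cfsg.Agent.Helper12.BCGraphL
import Cfsg.Agent.Helper12.BCSpecB

set_option autoImplicit false

/-! Elements of order `2 s` of `Ω_{2n+1}(q)` when `s` divides no `q ^ e ± 1` with `e < n`. -/

namespace Cfsg.Agent.Helper12.BCG

open Module Cfsg.Agent.S2614 Cfsg.Agent.Helper28.Spin Cfsg.Agent.Helper28.IsoTransport
  Cfsg.Agent.Helper12.BCSpec

variable {F : Type*} [Field F] [Fintype F]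

/-- the fixed space of an isometry of order `s` has dimension at most one -/
theorem finrank_ker_le_one_end (p : ℕ) [Fact p.Prime] [CharP F p] (h2 : (2 : F) ≠ 0) (n s : ℕ)
    (hs : s.Prime) (hs2 : s ≠ 2) (hsp : s ≠ p)
    (hno : ∀ e : ℕ, 1 ≤ e → e < n → ¬ Tor (Fintype.card F) e s)
    (φ : Module.End F (Unit ⊕ (Fin n ⊕ Fin n) → F))
    (hφ : ∀ v, QfOdd n F (φ v) = QfOdd n F v) (h1 : φ ^ s = 1) (hne : φ ≠ 1) :
    finrank F (LinearMap.ker (φ - 1)) ≤ 1 := by
  classical
  have hQ := Cfsg.Agent.S0292.QfOdd_nondeg h2 (F := F) n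
  have hA := finrank_ker_le_one p n s hs hs2 hsp hno (LinearMap.toMatrix' φ) (card_index n).le
    (recipClosed_of_isometry (QfOdd n F) hQ _ (fun x => by
      rw [← Matrix.toLin'_apply, Matrix.toLin'_toMatrix']
      exact hφ x))
    (by
      apply Matrix.toLin'.injective
      rw [Matrix.toLin'_pow, Matrix.toLin'_toMatrix', h1, Matrix.toLin'_one]
      rfl)
    (by
      intro h
      apply hne
      rw [← Matrix.toLin'_toMatrix' φ, h, Matrix.toLin'_one]
      rfl)
  rwa [Matrix.toLin'_toMatrix'] at hA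

/-- arithmetic: `s ∣ q ^ (2 n + 1) - 1` and `s ∣ q ^ n ± 1` give `s ∣ q - 1` -/
theorem dvd_sub_one_of_modEq (q n s : ℕ) (hq : 1 ≤ q)
    (hT : s ∣ q ^ n - 1 ∨ s ∣ q ^ n + 1) (h : q ^ (2 * n + 1) ≡ q ^ 0 [MOD s]) : s ∣ q - 1 := by
  have h1 : ((q : ZMod s)) ^ (2 * n) = 1 := by
    have hqn : 1 ≤ q ^ n := Nat.one_le_pow _ _ hq
    rcases hT with hT | hT
    · have e1 : ((q ^ n - 1 : ℕ) : ZMod s) = 0 := (ZMod.natCast_eq_zero_iff _ _).2 hT
      rw [Nat.cast_sub hqn] at e1
      push_cast at e1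
      have e2 : (q : ZMod s) ^ n = 1 := by linear_combination e1
      rw [mul_comm, pow_mul, e2, one_pow]
    · have e1 : ((q ^ n + 1 : ℕ) : ZMod s) = 0 := (ZMod.natCast_eq_zero_iff _ _).2 hT
      push_cast at e1
      have e2 : (q : ZMod s) ^ n = -1 := by linear_combination e1
      rw [mul_comm, pow_mul, e2]
      norm_num
  have h3 : ((q ^ (2 * n + 1) : ℕ) : ZMod s) = ((q ^ 0 : ℕ) : ZMod s) :=
    (ZMod.natCast_eq_natCast_iff _ _ _).2 h
  push_cast at h3
  rw [pow_succ, h1, one_mul] at h3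
  rw [← ZMod.natCast_eq_zero_iff, Nat.cast_sub hq, h3]
  simp

/-- **Elements of order `2 s` of `Ω`.** -/
theorem tor_of_Omega_two_mul (p : ℕ) [Fact p.Prime] [CharP F p] (h2 : (2 : F) ≠ 0) (n s : ℕ)
    (hn : 2 ≤ n) (hs : s.Prime) (hs2 : s ≠ 2) (hsp : s ≠ p)
    (hno : ∀ e : ℕ, 1 ≤ e → e < n → ¬ Tor (Fintype.card F) e s)
    (g : ↥(Cfsg.isometryGroup F ⇑(QfOdd n F))) (hgΩ : g ∈ Cfsg.Omega F ⇑(QfOdd n F))
    (hg : orderOf g = 2 * s) : Tor (Fintype.card F) n (4 * s) := by
  classical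
  have hp : p.Prime := Fact.out
  have hQ := Cfsg.Agent.S0292.QfOdd_nondeg h2 (F := F) n
  have hqodd : Odd (Fintype.card F) := card_odd h2
  have hs3 : 3 ≤ s := by
    have := hs.two_le
    omega
  -- the two parts of `g`
  have hyo : orderOf (g ^ 2) = s := by
    rw [orderOf_pow_of_dvd (by norm_num) (by rw [hg]; exact dvd_mul_right 2 s), hg,
      Nat.mul_div_cancel_left _ (by norm_num)]
  have hzo : orderOf (g ^ s) = 2 := by
    rw [orderOf_pow_of_dvd hs.ne_zero (by rw [hg]; exact dvd_mul_left s 2), hg,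
      Nat.mul_div_cancel _ hs.pos]
  have hzΩ : g ^ s ∈ Cfsg.Omega F ⇑(QfOdd n F) := Subgroup.pow_mem _ hgΩ s
  set Y : Matrix (Unit ⊕ (Fin n ⊕ Fin n)) (Unit ⊕ (Fin n ⊕ Fin n)) F := matOf (g ^ 2) with hY
  set Z : Matrix (Unit ⊕ (Fin n ⊕ Fin n)) (Unit ⊕ (Fin n ⊕ Fin n)) F := matOf (g ^ s) with hZ
  have hYs : Y ^ s = 1 := by
    rw [hY, ← pow_eq_one_iff_matrix, ← hyo]
    exact pow_orderOf_eq_one _
  have hY1 : Y ≠ 1 := by
    intro h
    have h1 : matOf (g ^ 2) ^ 1 = 1 := by rw [pow_one]; exact h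
    rw [← pow_eq_one_iff_matrix, pow_one] at h1
    rw [h1, orderOf_one] at hyo
    omega
  have hZZ : Z * Z = 1 := by
    rw [← pow_two, hZ, ← pow_eq_one_iff_matrix, ← hzo]
    exact pow_orderOf_eq_one _
  have hZ1 : Z ≠ 1 := by
    intro h
    have h1 : matOf (g ^ s) ^ 1 = 1 := by rw [pow_one]; exact h
    rw [← pow_eq_one_iff_matrix, pow_one] at h1
    rw [h1, orderOf_one] at hzo
    omega
  have hYZ : Y * Z = Z * Y := by
    rw [hY, hZ, coe_pow_matrix, coe_pow_matrix, ← pow_add, ← pow_add, add_comm]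
  have hYiso : ∀ x, QfOdd n F (Y.mulVec x) = QfOdd n F x := isometry_matrix _ (g ^ 2)
  have hZiso : ∀ x, QfOdd n F (Z.mulVec x) = QfOdd n F x := isometry_matrix _ (g ^ s)
  have hZdet : Z.det = 1 := by
    have h1 := hom_eq_one_of_mem_Omega (QfOdd n F) (detHom (QfOdd n F)) hzΩ
    have h3 : ((detHom (QfOdd n F) (g ^ s) : Fˣ) : F) = 1 := by rw [h1]; rfl
    rwa [detHom_val] at h3
  -- linear maps
  set y : Module.End F (Unit ⊕ (Fin n ⊕ Fin n) → F) := Matrix.toLin' Y with hy
  set z : Module.End F (Unit ⊕ (Fin n ⊕ Fin n) → F) := Matrix.toLin' Z with hz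
  have hyv : ∀ v, y v = Y.mulVec v := fun v => Matrix.toLin'_apply Y v
  have hzv : ∀ v, z v = Z.mulVec v := fun v => Matrix.toLin'_apply Z v
  have hyiso : ∀ v, QfOdd n F (y v) = QfOdd n F v := fun v => by rw [hyv]; exact hYiso v
  have hziso : ∀ v, QfOdd n F (z v) = QfOdd n F v := fun v => by rw [hzv]; exact hZiso v
  have hys : y ^ s = 1 := by
    rw [hy, ← Matrix.toLin'_pow, hYs, Matrix.toLin'_one]
    rfl
  have hy1 : y ≠ 1 := by
    intro h
    apply hY1
    apply Matrix.toLin'.injective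
    rw [Matrix.toLin'_one]
    exact h
  have hzz : z * z = 1 := by
    have : z * z = Matrix.toLin' (Z * Z) := by rw [Matrix.toLin'_mul]; rfl
    rw [this, hZZ, Matrix.toLin'_one]
    rfl
  have hcyz : Commute y z := by
    show y * z = z * y
    have e1 : y * z = Matrix.toLin' (Y * Z) := by rw [Matrix.toLin'_mul]; rfl
    have e2 : z * y = Matrix.toLin' (Z * Y) := by rw [Matrix.toLin'_mul]; rfl
    rw [e1, e2, hYZ]
  -- the structure of `y`
  obtain ⟨P, R, -, -, -, -, -, -, -, hT, -⟩ :=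
    charpoly_of_pow_prime_eq_one p n s hs hs2 hsp hno Y (card_index n).le
      (recipClosed_of_mem h2 n (g ^ 2)) hYs hY1
  have hdim : ∀ φ : Module.End F (Unit ⊕ (Fin n ⊕ Fin n) → F),
      (∀ v, QfOdd n F (φ v) = QfOdd n F v) → φ ^ s = 1 → φ ≠ 1 →
      finrank F (LinearMap.ker (φ - 1)) ≤ 1 :=
    fun φ h1 h3 h4 => finrank_ker_le_one_end p h2 n s hs hs2 hsp hno φ h1 h3 h4
  have hk1 : finrank F (LinearMap.ker (y - 1)) = 1 := by
    have hle := hdim y hyiso hys hy1
    have hcount := card_modEq_of_pow_eq_one hs y hys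
    rw [Module.finrank_fintype_fun_eq_card, card_index] at hcount
    by_contra hne
    have h0 : finrank F (LinearMap.ker (y - 1)) = 0 := by omega
    rw [h0] at hcount
    have h3 := dvd_sub_one_of_modEq _ n s Fintype.card_pos hT hcount
    exact hno 1 le_rfl (by omega) (Or.inl (by rwa [pow_one]))
  obtain ⟨⟨w, hwk⟩, hw0, hwgen⟩ := finrank_eq_one_iff'.1 hk1
  have hw : w ≠ 0 := by
    intro h
    apply hw0
    exact Subtype.ext h
  have hyw : y w = w := by
    rw [LinearMap.mem_ker, LinearMap.sub_apply, Module.End.one_apply, sub_eq_zero] at hwk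
    exact hwk
  have hker : ∀ v, y v = v → ∃ c : F, v = c • w := by
    intro v hv
    have hvk : v ∈ LinearMap.ker (y - 1) := by
      rw [LinearMap.mem_ker, LinearMap.sub_apply, Module.End.one_apply, hv, sub_self]
    obtain ⟨c, hc⟩ := hwgen ⟨v, hvk⟩
    exact ⟨c, (congrArg Subtype.val hc).symm⟩
  -- `w` is non-singular
  have hsF : ((s : ℕ) : F) ≠ 0 :=
    Cfsg.Agent.Helper12.SympConj.natCast_ne_zero_of_coprime p ((Nat.coprime_primes hs hp).2 hsp)
  have hQw : QfOdd n F w ≠ 0 := by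
    intro hQw0
    apply hw
    apply hQ.1 w
    intro v
    have hcompl := isCompl_ker_range hsF y hys
    have hv : v ∈ (LinearMap.ker (y - 1)) ⊔ (LinearMap.range (y - 1)) := by
      rw [hcompl.sup_eq_top]
      exact Submodule.mem_top
    obtain ⟨a, ha, b, hb, rfl⟩ := Submodule.mem_sup.1 hv
    obtain ⟨x, rfl⟩ := hb
    have ha' : y a = a := by
      rw [LinearMap.mem_ker, LinearMap.sub_apply, Module.End.one_apply, sub_eq_zero] at ha
      exact ha
    obtain ⟨c, rfl⟩ := hker a ha'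
    rw [QuadraticMap.polarBilin_apply_apply, QuadraticMap.polar_add_right,
      QuadraticMap.polar_smul_right, polar_self_eq, hQw0, mul_zero, smul_zero, zero_add,
      LinearMap.sub_apply, Module.End.one_apply, QuadraticMap.polar_sub_right]
    have h3 := polar_isometry (QfOdd n F) y hyiso w x
    rw [hyw] at h3
    rw [h3, sub_self]
  -- `z w = ± w`
  have hzw : ∃ ε : F, (ε = 1 ∨ ε = -1) ∧ z w = ε • w := by
    have h3 : y (z w) = z w := by
      have := congrArg (fun f : Module.End F _ => f w) hcyz.eq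
      simp only [Module.End.mul_apply] at this
      rw [this, hyw]
    obtain ⟨ε, hε⟩ := hker _ h3
    refine ⟨ε, ?_, hε⟩
    have h4 : z (z w) = w := by
      have := congrArg (fun f : Module.End F _ => f w) hzz
      simpa using this
    rw [hε, map_smul, hε, smul_smul] at h4
    have h5 : (ε * ε - 1) • w = 0 := by rw [sub_smul, h4, one_smul, sub_self]
    rcases smul_eq_zero.1 h5 with h6 | h6
    · have h7 : (ε - 1) * (ε + 1) = 0 := by linear_combination h6
      rcases mul_eq_zero.1 h7 with h8 | h8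
      · left; exact sub_eq_zero.1 h8
      · right; exact eq_neg_of_add_eq_zero_left h8
    · exact absurd h6 hw
  obtain ⟨ε, hε, hzw⟩ := hzw
  have hεε : ε * ε = 1 := by
    rcases hε with rfl | rfl <;> ring
  set u : Module.End F (Unit ⊕ (Fin n ⊕ Fin n) → F) := ε • z with hu
  have huv : ∀ v, u v = ε • z v := fun v => rfl
  have huiso : ∀ v, QfOdd n F (u v) = QfOdd n F v := by
    intro v
    rw [huv, QuadraticMap.map_smul, hεε, hziso, smul_eq_mul, one_mul]
  have hcyu : Commute y u := hcyz.smul_right ε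
  have huu : u * u = 1 := by
    rw [hu, smul_mul_smul_comm, hεε, hzz, one_smul]
  have huw : u w = w := by
    rw [huv, hzw, smul_smul, hεε, one_smul]
  have hcases := invol_cases (QfOdd n F) h2 y u hyiso huiso hcyu huu s hys w hw hker huw hQw hdim
  have hzu : ∀ v, z v = ε • u v := by
    intro v
    rw [huv, smul_smul, hεε, one_smul]
  have hdetneg : (-1 : Matrix (Unit ⊕ (Fin n ⊕ Fin n)) (Unit ⊕ (Fin n ⊕ Fin n)) F).det = -1 := by
    rw [Matrix.det_neg, Matrix.det_one, card_index, mul_one, pow_succ, pow_mul]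
    simp
  have hneg1 : (-1 : F) ≠ 1 := by
    intro h
    apply h2
    linear_combination -h
  -- the matrix of `z`
  have hZcases : Z = -Cfsg.reflectionMatrix ⇑(QfOdd n F) w := by
    rcases hcases with hu1 | hur
    · exfalso
      have hzε : ∀ v, Z.mulVec v = ε • v := by
        intro v
        rw [← hzv, hzu, hu1, Module.End.one_apply]
      rcases hε with rfl | rfl
      · apply hZ1
        apply matrix_ext_mulVec
        intro v
        rw [hzε, one_smul, Matrix.one_mulVec]
      · have : Z = -1 := by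
          apply matrix_ext_mulVec
          intro v
          rw [hzε, Matrix.neg_mulVec, Matrix.one_mulVec, neg_smul, one_smul]
        rw [this, hdetneg] at hZdet
        exact hneg1 hZdet
    · have hzε : ∀ v, Z.mulVec v = ε • (-(Cfsg.reflectionMatrix ⇑(QfOdd n F) w).mulVec v) := by
        intro v
        rw [← hzv, hzu, hur, refl_mulVec]
        congr 1
        abel
      rcases hε with rfl | rfl
      · apply matrix_ext_mulVec
        intro v
        rw [hzε, one_smul, Matrix.neg_mulVec]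
      · exfalso
        have : Z = Cfsg.reflectionMatrix ⇑(QfOdd n F) w := by
          apply matrix_ext_mulVec
          intro v
          rw [hzε, neg_smul, one_smul, neg_neg]
        rw [this, refl_det (QfOdd n F) hQw] at hZdet
        exact hneg1 hZdet
  have hcrit := (neg_refl_mem_Omega_iff h2 n (by omega) w hQw (g ^ s) hZcases).1 hzΩ
  -- counting on the sphere
  have hsph := card_sphere_modEq h2 (QfOdd n F) hs y hyiso hys w hw hyw hker hQw
  have hgen := card_sphere_gen (F := F) n (QfOdd n F w)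
  have hcoe : Nat.card {v : Unit ⊕ (Fin n ⊕ Fin n) → F // QfOdd n F v = QfOdd n F w} =
      Nat.card {v : Unit ⊕ (Fin n ⊕ Fin n) → F // Cfsg.quadFormOdd n F v = QfOdd n F w} := by
    apply Nat.card_congr
    apply Equiv.subtypeEquivRight
    intro v
    rw [← QfOdd_coe]
  rw [hcoe, hgen] at hsph
  have harith := dvd_of_sphere (Fintype.card F) n s hs hs2 Fintype.card_pos hT
  have hcop : Nat.Coprime 4 s := by
    have h2s : Nat.Coprime 2 s := (Nat.coprime_primes Nat.prime_two hs).2 (Ne.symm hs2)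
    have : (2 * 2).Coprime s := Nat.Coprime.mul_left h2s h2s
    exact this
  have hqn_odd : Odd (Fintype.card F ^ n) := hqodd.pow
  by_cases hsq : IsSquare (QfOdd n F w)
  · rw [card_sq_eq_of_isSquare h2 _ hQw hsq] at hsph
    have h3 := harith.1 hsph
    have h4 : Fintype.card F ^ n % 4 = 1 := hcrit.2 hsq
    left
    apply hcop.mul_dvd_of_dvd_of_dvd _ h3
    exact (Nat.modEq_iff_dvd' (Nat.one_le_pow _ _ Fintype.card_pos)).1 (by
      show 1 % 4 = _ % 4
      rw [h4])
  · rw [card_sq_eq_of_not_isSquare _ hsq] at hsph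
    have h3 := harith.2 hsph
    have h4 : Fintype.card F ^ n % 4 ≠ 1 := fun h => hsq (hcrit.1 h)
    right
    apply hcop.mul_dvd_of_dvd_of_dvd _ h3
    obtain ⟨k, hk⟩ := hqn_odd
    omega

end Cfsg.Agent.Helper12.BCG
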