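import Mathlib
import Cfsg.Agent.Helper12.BCGraphN

set_option autoImplicit false

/-! Elements of `Ω_{2n+1}(q)` whose order is a product of two primes: existence, and the
necessary conditions restated for the standard form. -/

namespace Cfsg.Agent.Helper12.BCG

open Cfsg.Agent.S2614

variable {F : Type*} [Field F] [Fintype F]

theorem sq_mem_Omega' (h2 : (2 : F) ≠ 0) (n : ℕ)
    (g : ↥(Cfsg.isometryGroup F (Cfsg.quadFormOdd n F))) :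
    g ^ 2 ∈ Cfsg.Omega F (Cfsg.quadFormOdd n F) := by
  classical
  revert g
  rw [← QfOdd_coe]
  intro g
  exact sq_mem_Omega (QfOdd n F) h2 (Cfsg.Agent.S0292.QfOdd_nondeg h2 (F := F) n) g

theorem mem_Omega_of_odd' (h2 : (2 : F) ≠ 0) (n : ℕ)
    (g : ↥(Cfsg.isometryGroup F (Cfsg.quadFormOdd n F))) (hodd : Odd (orderOf g)) :
    g ∈ Cfsg.Omega F (Cfsg.quadFormOdd n F) := by
  classical
  revert g
  rw [← QfOdd_coe]
  intro g hodd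
  exact mem_Omega_of_odd (QfOdd n F) h2 (Cfsg.Agent.S0292.QfOdd_nondeg h2 (F := F) n) g hodd

theorem four_dvd_of_odd (q : ℕ) (hq : Odd q) : 4 ∣ q ^ 1 - 1 ∨ 4 ∣ q ^ 1 + 1 := by
  obtain ⟨k, hk⟩ := hq
  rw [pow_one]
  rcases Nat.even_or_odd k with ⟨m, hm⟩ | ⟨m, hm⟩
  · left
    exact ⟨m, by omega⟩
  · right
    exact ⟨m + 1, by omega⟩

/-- both primes odd -/
theorem exists_Omega_odd_mul (p : ℕ) [Fact p.Prime] [CharP F p] (h2 : (2 : F) ≠ 0) (n r s : ℕ)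
    (hr : r.Prime) (hs : s.Prime) (hrs : r ≠ s) (hr2 : r ≠ 2) (hs2 : s ≠ 2)
    (h : (∃ e₁ e₂ : ℕ, 1 ≤ e₁ ∧ 1 ≤ e₂ ∧ e₁ + e₂ ≤ n ∧ Tor (Fintype.card F) e₁ r ∧
        Tor (Fintype.card F) e₂ s) ∨
      (∃ e : ℕ, 1 ≤ e ∧ e ≤ n ∧ Tor (Fintype.card F) e (r * s))) :
    ∃ g : ↥(Cfsg.isometryGroup F (Cfsg.quadFormOdd n F)),
      g ∈ Cfsg.Omega F (Cfsg.quadFormOdd n F) ∧ orderOf g = r * s := by
  have hodd : Odd (r * s) := (hr.odd_of_ne_two hr2).mul (hs.odd_of_ne_two hs2)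
  rcases h with ⟨e₁, e₂, he₁, he₂, hle, hT₁, hT₂⟩ | ⟨e, he, hle, hT⟩
  · obtain ⟨x₂, hx₂⟩ := exists_one p h2 e₂ (n - e₁ - e₂) (e₂ + (n - e₁ - e₂)) he₂ rfl s hT₂ 1
    rw [orderOf_one, Nat.lcm_one_right] at hx₂
    obtain ⟨x₁, hx₁⟩ := exists_one p h2 e₁ (e₂ + (n - e₁ - e₂)) n he₁ (by omega) r hT₁ x₂
    rw [hx₂, ((Nat.coprime_primes hr hs).2 hrs).lcm_eq_mul] at hx₁
    exact ⟨x₁, mem_Omega_of_odd' h2 n x₁ (by rw [hx₁]; exact hodd), hx₁⟩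
  · obtain ⟨x, hx⟩ := exists_one p h2 e (n - e) n he (by omega) (r * s) hT 1
    rw [orderOf_one, Nat.lcm_one_right] at hx
    exact ⟨x, mem_Omega_of_odd' h2 n x (by rw [hx]; exact hodd), hx⟩

/-- one prime is the characteristic -/
theorem exists_Omega_mul_char (p : ℕ) [Fact p.Prime] [CharP F p] (h2 : (2 : F) ≠ 0) (n s : ℕ)
    (hs : s.Prime) (hs2 : s ≠ 2) (hsp : s ≠ p)
    (h : ∃ e : ℕ, 1 ≤ e ∧ e < n ∧ Tor (Fintype.card F) e s) :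
    ∃ g : ↥(Cfsg.isometryGroup F (Cfsg.quadFormOdd n F)),
      g ∈ Cfsg.Omega F (Cfsg.quadFormOdd n F) ∧ orderOf g = s * p := by
  have hp : p.Prime := Fact.out
  have hp2 : p ≠ 2 := by
    intro h
    apply h2
    have := CharP.cast_eq_zero F p
    rw [h] at this
    exact_mod_cast this
  have hodd : Odd (s * p) := (hs.odd_of_ne_two hs2).mul (hp.odd_of_ne_two hp2)
  obtain ⟨e, he, hlt, hT⟩ := h
  obtain ⟨h₀, hh₀⟩ := exists_unipotent (F := F) p h2 (n - e) (by omega)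
  obtain ⟨x, hx⟩ := exists_one p h2 e (n - e) n he (by omega) s hT h₀
  rw [hh₀, ((Nat.coprime_primes hs hp).2 hsp).lcm_eq_mul] at hx
  exact ⟨x, mem_Omega_of_odd' h2 n x (by rw [hx]; exact hodd), hx⟩

theorem orderOf_sq_of_four_mul {G : Type*} [Group G] (x : G) (m : ℕ) (hx : orderOf x = 4 * m) :
    orderOf (x ^ 2) = 2 * m := by
  rw [orderOf_pow_of_dvd (by norm_num) (by rw [hx]; exact ⟨2 * m, by ring⟩), hx]
  omega

/-- `2 s` -/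
theorem exists_Omega_two_mul (p : ℕ) [Fact p.Prime] [CharP F p] (h2 : (2 : F) ≠ 0) (n s : ℕ)
    (hs : s.Prime) (hs2 : s ≠ 2)
    (h : (∃ e : ℕ, 1 ≤ e ∧ e < n ∧ Tor (Fintype.card F) e s) ∨
      Tor (Fintype.card F) n (4 * s)) (hn : 1 ≤ n) :
    ∃ g : ↥(Cfsg.isometryGroup F (Cfsg.quadFormOdd n F)),
      g ∈ Cfsg.Omega F (Cfsg.quadFormOdd n F) ∧ orderOf g = 2 * s := by
  have hqodd : Odd (Fintype.card F) := Cfsg.Agent.Helper28.Spin.card_odd h2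
  have hcop : Nat.Coprime s 4 := by
    have h2s : Nat.Coprime s 2 := (Nat.coprime_primes hs Nat.prime_two).2 hs2
    have : s.Coprime (2 * 2) := Nat.Coprime.mul_right h2s h2s
    exact this
  rcases h with ⟨e, he, hlt, hT⟩ | hT
  · obtain ⟨x₄, hx₄⟩ := exists_one p h2 1 (n - e - 1) (n - e) le_rfl (by omega) 4
      (four_dvd_of_odd _ hqodd) 1
    rw [orderOf_one, Nat.lcm_one_right] at hx₄
    obtain ⟨x, hx⟩ := exists_one p h2 e (n - e) n he (by omega) s hT x₄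
    rw [hx₄, hcop.lcm_eq_mul, mul_comm] at hx
    exact ⟨x ^ 2, sq_mem_Omega' h2 n x, orderOf_sq_of_four_mul x s hx⟩
  · obtain ⟨x, hx⟩ := exists_one p h2 n 0 n hn rfl (4 * s) hT 1
    rw [orderOf_one, Nat.lcm_one_right] at hx
    exact ⟨x ^ 2, sq_mem_Omega' h2 n x, orderOf_sq_of_four_mul x s hx⟩

/-- `2 p` -/
theorem exists_Omega_two_char (p : ℕ) [Fact p.Prime] [CharP F p] (h2 : (2 : F) ≠ 0) (n : ℕ)
    (hn : 2 ≤ n) :
    ∃ g : ↥(Cfsg.isometryGroup F (Cfsg.quadFormOdd n F)),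
      g ∈ Cfsg.Omega F (Cfsg.quadFormOdd n F) ∧ orderOf g = 2 * p := by
  have hp : p.Prime := Fact.out
  have hp2 : p ≠ 2 := by
    intro h
    apply h2
    have := CharP.cast_eq_zero F p
    rw [h] at this
    exact_mod_cast this
  have hqodd : Odd (Fintype.card F) := Cfsg.Agent.Helper28.Spin.card_odd h2
  have hcop : Nat.Coprime 4 p := by
    have h2s : Nat.Coprime 2 p := (Nat.coprime_primes Nat.prime_two hp).2 (Ne.symm hp2)
    have : (2 * 2).Coprime p := Nat.Coprime.mul_left h2s h2s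
    exact this
  obtain ⟨h₀, hh₀⟩ := exists_unipotent (F := F) p h2 (n - 1) (by omega)
  obtain ⟨x, hx⟩ := exists_one p h2 1 (n - 1) n le_rfl (by omega) 4
    (four_dvd_of_odd _ hqodd) h₀
  rw [hh₀, hcop.lcm_eq_mul] at hx
  exact ⟨x ^ 2, sq_mem_Omega' h2 n x, orderOf_sq_of_four_mul x p hx⟩

/-! ### necessary conditions, for the standard form -/

theorem tor_of_orderOf_mul' (p : ℕ) [Fact p.Prime] [CharP F p] (h2 : (2 : F) ≠ 0) (n r s : ℕ)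
    (hr : r.Prime) (hs : s.Prime) (hrs : r ≠ s) (hr2 : r ≠ 2) (hs2 : s ≠ 2) (hrp : r ≠ p)
    (hsp : s ≠ p) (g : ↥(Cfsg.isometryGroup F (Cfsg.quadFormOdd n F)))
    (hg : orderOf g = r * s) :
    (∃ e₁ e₂ : ℕ, 1 ≤ e₁ ∧ 1 ≤ e₂ ∧ e₁ + e₂ ≤ n ∧ Tor (Fintype.card F) e₁ r ∧
      Tor (Fintype.card F) e₂ s) ∨
    (∃ e : ℕ, 1 ≤ e ∧ e ≤ n ∧ Tor (Fintype.card F) e (r * s)) := by
  revert g
  rw [← QfOdd_coe]
  intro g hg
  exact tor_of_orderOf_mul p h2 n r s hr hs hrs hr2 hs2 hrp hsp g hg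

theorem tor_of_orderOf_mul_char' (p : ℕ) [Fact p.Prime] [CharP F p] (h2 : (2 : F) ≠ 0)
    (n s : ℕ) (hn : 2 ≤ n) (hs : s.Prime) (hs2 : s ≠ 2) (hsp : s ≠ p)
    (g : ↥(Cfsg.isometryGroup F (Cfsg.quadFormOdd n F))) (hg : orderOf g = s * p) :
    ∃ e : ℕ, 1 ≤ e ∧ e < n ∧ Tor (Fintype.card F) e s := by
  revert g
  rw [← QfOdd_coe]
  intro g hg
  exact tor_of_orderOf_mul_char p h2 n s hn hs hs2 hsp g hg

theorem tor_of_Omega_two_mul' (p : ℕ) [Fact p.Prime] [CharP F p] (h2 : (2 : F) ≠ 0) (n s : ℕ)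
    (hn : 2 ≤ n) (hs : s.Prime) (hs2 : s ≠ 2) (hsp : s ≠ p)
    (g : ↥(Cfsg.isometryGroup F (Cfsg.quadFormOdd n F)))
    (hgΩ : g ∈ Cfsg.Omega F (Cfsg.quadFormOdd n F))
    (hg : orderOf g = 2 * s) :
    (∃ e : ℕ, 1 ≤ e ∧ e < n ∧ Tor (Fintype.card F) e s) ∨ Tor (Fintype.card F) n (4 * s) := by
  by_cases hex : ∃ e : ℕ, 1 ≤ e ∧ e < n ∧ Tor (Fintype.card F) e s
  · exact Or.inl hex
  · right
    push Not at hex
    revert g
    rw [← QfOdd_coe]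
    intro g hgΩ hg
    exact tor_of_Omega_two_mul p h2 n s hn hs hs2 hsp hex g hgΩ hg

end Cfsg.Agent.Helper12.BCG
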