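import Mathlib
import Cfsg.Agent.Helper12.SpSylowC

set_option autoImplicit false

/-! An element of order `m = r^v` in `Sp_2b(q)`: the construction. -/

open Polynomial UniqueFactorizationMonoid

namespace Cfsg.Agent.Helper12.SpSylow

open Cfsg.Agent.Helper12.SpPrime Cfsg.Agent.Helper12.Weir

universe u

variable {K : Type u} [Field K] [Fintype K]

/-- The half-size of the blocks. -/
def halfOrd (d : ℕ) : ℕ := if Odd d then d else d / 2

theorem halfOrd_pos {d : ℕ} (hd : 0 < d) : 0 < halfOrd d := by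
  rw [halfOrd]
  split_ifs with h
  · exact hd
  · obtain ⟨e, he⟩ := Nat.not_odd_iff_even.1 h
    omega

theorem dvd_two_mul_iff (d i : ℕ) : d ∣ 2 * i ↔ halfOrd d ∣ i := by
  rw [halfOrd]
  split_ifs with h
  · exact (Nat.Coprime.dvd_mul_left (Nat.coprime_two_right.2 h))
  · obtain ⟨e, he⟩ := Nat.not_odd_iff_even.1 h
    have h2 : d / 2 = e := by omega
    rw [h2, he, ← two_mul]
    rcases Nat.eq_zero_or_pos e with h0 | h0
    · subst h0
      simp
    · exact Nat.mul_dvd_mul_iff_left (by norm_num)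

/-- The order of a symplectic element from its characteristic polynomial. -/
theorem orderOf_eq_of_charpoly (p : ℕ) [Fact p.Prime] [CharP K p] (r w b : ℕ) [Fact r.Prime]
    (hrp : r ≠ p) (s : Matrix.symplecticGroup (Fin b) K) (hs : (orderOf s).Coprime p)
    (P : K[X]) (hPi : Irreducible P) (hPc : P ∣ cyclotomic (r ^ (w + 1)) K)
    (hPf : P ∣ (s : Matrix (Fin b ⊕ Fin b) (Fin b ⊕ Fin b) K).charpoly)
    (hall : ∀ Q : K[X], Irreducible Q →
      Q ∣ (s : Matrix (Fin b ⊕ Fin b) (Fin b ⊕ Fin b) K).charpoly →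
      Q ∣ (X ^ (r ^ (w + 1)) - 1 : K[X])) : orderOf s = r ^ (w + 1) := by
  have hp : p.Prime := Fact.out
  have hr : r.Prime := Fact.out
  have hss := isSemisimple_of_coprime p s hs
  have hN0 : (X ^ (r ^ (w + 1)) - 1 : K[X]) ≠ 0 := by
    intro h
    have := congrArg (fun f : K[X] => f.coeff 0) h
    simp only [coeff_sub, coeff_X_pow, coeff_one_zero, coeff_zero,
      if_neg (pow_pos hr.pos (w + 1)).ne] at this
    simp at this
  have h1 : aeval (s : Matrix (Fin b ⊕ Fin b) (Fin b ⊕ Fin b) K)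
      (X ^ (r ^ (w + 1)) - 1 : K[X]) = 0 :=
    aeval_eq_zero_of_semisimple_gen _ hss _ hN0 hall
  have h2 : (s : Matrix (Fin b ⊕ Fin b) (Fin b ⊕ Fin b) K) ^ (r ^ (w + 1)) = 1 := by
    rw [map_sub, map_pow, aeval_X, map_one, sub_eq_zero] at h1
    exact h1
  apply orderOf_eq_prime_pow
  · intro h3
    have h4 : (s : Matrix (Fin b ⊕ Fin b) (Fin b ⊕ Fin b) K) ^ (r ^ w) = 1 := by
      have := congrArg (fun x : Matrix.symplecticGroup (Fin b) K =>
        (x : Matrix (Fin b ⊕ Fin b) (Fin b ⊕ Fin b) K)) h3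
      simpa only [SubmonoidClass.coe_pow, OneMemClass.coe_one] using this
    have h5 : aeval (s : Matrix (Fin b ⊕ Fin b) (Fin b ⊕ Fin b) K)
        (X ^ (r ^ w) - 1 : K[X]) = 0 := by
      rw [map_sub, map_pow, aeval_X, map_one, h4, sub_self]
    have h6 : P ∣ (X ^ (r ^ w) - 1 : K[X]) :=
      dvd_of_irreducible_dvd_charpoly_gen _ _ h5 P hPi hPf
    have : Fact (Irreducible P) := ⟨hPi⟩
    set x : AdjoinRoot P := AdjoinRoot.root P with hxdef
    have hx : aeval x P = 0 := by
      rw [AdjoinRoot.aeval_eq, AdjoinRoot.mk_self]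
    have hx1 : x ^ (r ^ w) = 1 := by
      obtain ⟨Q, hQ⟩ := h6
      have := congrArg (aeval x) hQ
      rw [map_mul, hx, zero_mul, map_sub, map_pow, aeval_X, map_one, sub_eq_zero] at this
      exact this
    have hchar : CharP (AdjoinRoot P) p := charP_of_injective_algebraMap
      (algebraMap K (AdjoinRoot P)).injective p
    have hne : NeZero ((r ^ (w + 1) : ℕ) : AdjoinRoot P) := by
      constructor
      intro h0
      have h7 : p ∣ r ^ (w + 1) := (CharP.cast_eq_zero_iff (AdjoinRoot P) p _).1 h0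
      have h8 := (Nat.prime_dvd_prime_iff_eq hp hr).1 (hp.dvd_of_dvd_pow h7)
      exact hrp h8.symm
    have hroot : IsRoot (cyclotomic (r ^ (w + 1)) (AdjoinRoot P)) x := by
      obtain ⟨Q, hQ⟩ := hPc
      have := congrArg (aeval x) hQ
      rw [map_mul, hx, zero_mul] at this
      rw [IsRoot, ← map_cyclotomic (r ^ (w + 1)) (algebraMap K (AdjoinRoot P)), eval_map,
        ← aeval_def]
      exact this
    have hprim := isRoot_cyclotomic_iff.1 hroot
    have h9 := hprim.dvd_of_pow_eq_one _ hx1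
    have h10 : r ^ (w + 1) ≤ r ^ w := Nat.le_of_dvd (pow_pos hr.pos w) h9
    have h11 : r ^ w < r ^ (w + 1) := Nat.pow_lt_pow_right hr.one_lt (Nat.lt_succ_self w)
    omega
  · apply Subtype.ext
    rw [SubmonoidClass.coe_pow, h2]
    rfl

end Cfsg.Agent.Helper12.SpSylow
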