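import Mathlib
import Cfsg.Agent.Helper12.SpSylowD

set_option autoImplicit false

/-! An element of order `m = r^v` in `Sp_2b(q)`: existence. -/

open Polynomial UniqueFactorizationMonoid

namespace Cfsg.Agent.Helper12.SpSylow

open Cfsg.Agent.Helper12.SpPrime Cfsg.Agent.Helper12.Weir

universe u

variable {K : Type u} [Field K] [Fintype K]

theorem exists_sp_elt_of_poly (p : ℕ) [Fact p.Prime] [CharP K p] (r w b : ℕ) [Fact r.Prime]
    (hrp : r ≠ p) (P : K[X]) (hPi : Irreducible P) (hPc : P ∣ cyclotomic (r ^ (w + 1)) K)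
    (f : K[X]) (hf : f.Monic) (hdeg : f.natDegree = 2 * b) (hrev : f.reverse = f) (hPf : P ∣ f)
    (hall : ∀ Q : K[X], Irreducible Q → Q ∣ f → Q ∣ (X ^ (r ^ (w + 1)) - 1 : K[X])) :
    ∃ s : Matrix.symplecticGroup (Fin b) K, orderOf s = r ^ (w + 1) := by
  obtain ⟨s, hs1, hs2⟩ := exists_sp_charpoly_eq (n := b) p f hf hdeg hrev
  refine ⟨s, orderOf_eq_of_charpoly p r w b hrp s hs1 P hPi hPc ?_ ?_⟩
  · rw [hs2]
    exact hPf
  · rw [hs2]
    exact hall

theorem exists_sp_elt_order (p : ℕ) [Fact p.Prime] [CharP K p] (r : ℕ) [Fact r.Prime]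
    (hrq : ¬ r ∣ Fintype.card K) :
    ∃ s : Matrix.symplecticGroup (Fin (halfOrd (orderOf ((Fintype.card K : ℕ) : ZMod r)))) K,
      orderOf s = r ^ padicValNat r
        (Fintype.card K ^ orderOf ((Fintype.card K : ℕ) : ZMod r) - 1) := by
  have hp : p.Prime := Fact.out
  have hr : r.Prime := Fact.out
  set q := Fintype.card K with hqdef
  set d := orderOf ((q : ℕ) : ZMod r) with hddef
  have hq : 2 ≤ q := Fintype.one_lt_card
  have hd : 0 < d := orderOf_pos_of_not_dvd hrq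
  have hrp : r ≠ p := by
    intro h
    apply hrq
    rw [h]
    exact char_dvd_fintype_card p
  have hqd : 2 ≤ q ^ d := le_trans hq (Nat.le_self_pow hd.ne' q)
  have hrdvd : r ∣ q ^ d - 1 := (dvd_pow_sub_one_iff (by omega) d).2 dvd_rfl
  have hv : 1 ≤ padicValNat r (q ^ d - 1) := one_le_padicValNat_of_dvd (by omega) hrdvd
  obtain ⟨w, hw⟩ : ∃ w, padicValNat r (q ^ d - 1) = w + 1 := ⟨_, (Nat.sub_add_cancel hv).symm⟩
  rw [hw]
  have hmdvd : r ^ (w + 1) ∣ q ^ d - 1 := by
    rw [← hw]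
    exact pow_padicValNat_dvd
  have hmpos : 0 < r ^ (w + 1) := pow_pos hr.pos _
  have hcop : p.Coprime (r ^ (w + 1)) :=
    Nat.Coprime.pow_right _ ((Nat.coprime_primes hp hr).2 (Ne.symm hrp))
  obtain ⟨P, hPm, hPi, hPc, hPdeg⟩ := exists_cyclotomic_factor (K := K) p (r ^ (w + 1)) hcop hmpos
  rw [← hqdef, orderOf_zmod_pow q r (w + 1) (by omega) (Nat.succ_pos w) hmdvd, ← hddef] at hPdeg
  have hPd : P ∣ (X ^ (r ^ (w + 1)) - 1 : K[X]) :=
    hPc.trans (cyclotomic.dvd_X_pow_sub_one _ K)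
  have h0 : P.coeff 0 ≠ 0 := by
    intro h0
    have h1 : (X : K[X]) ∣ X ^ (r ^ (w + 1)) - 1 := (X_dvd_iff.2 h0).trans hPd
    rw [X_dvd_iff, coeff_sub, coeff_X_pow, coeff_one_zero, if_neg hmpos.ne] at h1
    simp at h1
  have hne1 : NeZero ((r ^ (w + 1) : ℕ) : K) := by
    constructor
    intro h0
    have h7 : p ∣ r ^ (w + 1) := (CharP.cast_eq_zero_iff K p _).1 h0
    have h8 := (Nat.prime_dvd_prime_iff_eq hp hr).1 (hp.dvd_of_dvd_pow h7)
    exact hrp h8.symm
  have hne : P ≠ X - C 1 := by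
    intro h
    rw [h, dvd_iff_isRoot, isRoot_cyclotomic_iff] at hPc
    have h1 := hPc.eq_orderOf
    rw [orderOf_one] at h1
    have h2 : r ^ (w + 1) ≥ r := Nat.le_self_pow (Nat.succ_ne_zero w) r
    have := hr.two_le
    omega
  by_cases hodd : Odd d
  · have hb : halfOrd d = d := if_pos hodd
    rw [hb]
    have h0' : (recip P).coeff 0 ≠ 0 := by
      rw [recip_coeff_zero hPm h0]
      exact inv_ne_zero h0
    have hf0 : (P * recip P).coeff 0 ≠ 0 := by
      rw [mul_coeff_zero]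
      exact mul_ne_zero h0 h0'
    apply exists_sp_elt_of_poly p r w d hrp P hPi hPc (P * recip P) (hPm.mul (recip_monic h0))
    · rw [Monic.natDegree_mul hPm (recip_monic h0), recip_natDegree h0, hPdeg, two_mul]
    · rw [← mirror_eq_reverse hf0]
      exact mirror_mul_recip hPm h0
    · exact dvd_mul_right _ _
    · intro Q hQ hQd
      rcases hQ.prime.dvd_or_dvd hQd with h | h
      · exact h.trans hPd
      · exact h.trans (recip_dvd_X_pow_sub_one h0 _ hmpos hPd)
  · obtain ⟨e, he⟩ := Nat.not_odd_iff_even.1 hodd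
    have hb : halfOrd d = e := by
      rw [halfOrd, if_neg hodd]
      omega
    rw [hb]
    -- `r^(w+1) ∣ q^e + 1`
    have hqe : 1 ≤ q ^ e := Nat.one_le_pow _ _ (by omega)
    have hfac : q ^ d - 1 = (q ^ e - 1) * (q ^ e + 1) := by
      rw [he, pow_add]
      zify [hqe, Nat.one_le_pow _ _ (show 0 < q ^ e * q ^ e by positivity)]
      have : (1 : ℤ) ≤ (q : ℤ) ^ e * (q : ℤ) ^ e := by
        have := Nat.mul_le_mul hqe hqe
        exact_mod_cast this
      push_cast [Nat.cast_sub (Nat.mul_le_mul hqe hqe)]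
      ring
    have hcop2 : Nat.Coprime (r ^ (w + 1)) (q ^ e - 1) := by
      apply Nat.Coprime.pow_left
      rw [Nat.Prime.coprime_iff_not_dvd hr, dvd_pow_sub_one_iff (by omega) e]
      intro h
      have := Nat.le_of_dvd (by omega) h
      omega
    have hdvd2 : r ^ (w + 1) ∣ q ^ e + 1 := by
      rw [hfac] at hmdvd
      exact hcop2.dvd_of_dvd_mul_left hmdvd
    have hrec : recip P = P :=
      recip_eq_self_of_dvd_pow_add_one (r ^ (w + 1)) e hPm hPi h0 hPd hdvd2
    have hmir := mirror_eq_self_of_recip_eq_self hPm hPi h0 hne hrec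
    apply exists_sp_elt_of_poly p r w e hrp P hPi hPc P hPm
    · rw [hPdeg, he, two_mul]
    · rw [← mirror_eq_reverse h0]
      exact hmir
    · exact dvd_rfl
    · intro Q _ hQd
      exact hQd.trans hPd

end Cfsg.Agent.Helper12.SpSylow
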