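import Mathlib
import Cfsg.Agent.Helper12.SpGraphG
import Cfsg.Agent.Helper12.SpSylowE

set_option autoImplicit false

/-! Existence of elements of order `r * s` in `Sp_2n(q)` and `PSp_2n(q)`. -/

open Polynomial

namespace Cfsg.Agent.Helper12.SpGraph

open Cfsg.Agent.Helper12.SpPrime Cfsg.Agent.Helper12.SpSylow

universe u

/-- Order of the image in a quotient by a subgroup of exponent prime to the order. -/
theorem orderOf_mk_of_coprime {G : Type*} [Group G] (Z : Subgroup G) [Z.Normal] (E : ℕ)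
    (hE : ∀ z ∈ Z, z ^ E = 1) (x : G) (hcop : (orderOf x).Coprime E) :
    orderOf (QuotientGroup.mk x : G ⧸ Z) = orderOf x := by
  apply Nat.dvd_antisymm
  · exact orderOf_map_dvd (QuotientGroup.mk' Z) x
  · have h1 : (QuotientGroup.mk x : G ⧸ Z) ^ orderOf (QuotientGroup.mk x : G ⧸ Z) = 1 :=
      pow_orderOf_eq_one _
    rw [← QuotientGroup.mk_pow, QuotientGroup.eq_one_iff] at h1
    have h2 := hE _ h1
    rw [← pow_mul] at h2
    have h3 := orderOf_dvd_of_pow_eq_one h2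
    exact hcop.dvd_of_dvd_mul_right h3

variable {K : Type u} [Field K]

theorem center_sq_eq_one (n : ℕ) (hn : 1 ≤ n)
    (z : Matrix.symplecticGroup (Fin n) K)
    (hz : z ∈ Subgroup.center (Matrix.symplecticGroup (Fin n) K)) : z ^ 2 = 1 := by
  have hne : Nonempty (Fin n) := ⟨⟨0, hn⟩⟩
  rw [Cfsg.Agent.Helper2.Sp.mem_center_iff] at hz
  obtain ⟨c, hc, hzc⟩ := hz
  rw [pow_two]
  apply Subtype.ext
  show (z : Matrix (Fin n ⊕ Fin n) (Fin n ⊕ Fin n) K) *
    (z : Matrix (Fin n ⊕ Fin n) (Fin n ⊕ Fin n) K) = 1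
  rw [hzc, Matrix.smul_mul, Matrix.one_mul, smul_smul, hc, one_smul]

/-- An element of odd order of `Sp_2n` maps to an element of the same order of `PSp_2n`. -/
theorem exists_psp_of_sp (n : ℕ) (hn : 1 ≤ n) (x : Matrix.symplecticGroup (Fin n) K)
    (hodd : Odd (orderOf x)) : ∃ g : Cfsg.PSp n K, orderOf g = orderOf x :=
  ⟨QuotientGroup.mk x, orderOf_mk_of_coprime _ 2 (center_sq_eq_one n hn) x
    (Nat.coprime_two_right.2 hodd)⟩

variable [Fintype K]

/-- The order of a symplectic element from its characteristic polynomial (general modulus). -/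
theorem orderOf_eq_of_charpoly_gen (p : ℕ) [Fact p.Prime] [CharP K p] (M b : ℕ)
    (hM : p.Coprime M) (hM0 : 0 < M) (s : Matrix.symplecticGroup (Fin b) K)
    (hs : (orderOf s).Coprime p)
    (P : K[X]) (hPi : Irreducible P) (hPc : P ∣ cyclotomic M K)
    (hPf : P ∣ (s : Matrix (Fin b ⊕ Fin b) (Fin b ⊕ Fin b) K).charpoly)
    (hall : ∀ Q : K[X], Irreducible Q →
      Q ∣ (s : Matrix (Fin b ⊕ Fin b) (Fin b ⊕ Fin b) K).charpoly →
      Q ∣ (X ^ M - 1 : K[X])) : orderOf s = M := by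
  have hp : p.Prime := Fact.out
  have hss := isSemisimple_of_coprime p s hs
  have hN0 : (X ^ M - 1 : K[X]) ≠ 0 := (monic_X_pow_sub_C (1 : K) hM0.ne').ne_zero
  have h1 : aeval (s : Matrix (Fin b ⊕ Fin b) (Fin b ⊕ Fin b) K) (X ^ M - 1 : K[X]) = 0 :=
    aeval_eq_zero_of_semisimple_gen _ hss _ hN0 hall
  have h2 : (s : Matrix (Fin b ⊕ Fin b) (Fin b ⊕ Fin b) K) ^ M = 1 := by
    rw [map_sub, map_pow, aeval_X, map_one, sub_eq_zero] at h1
    exact h1
  have hsM : s ^ M = 1 := by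
    apply Subtype.ext
    rw [SubmonoidClass.coe_pow, h2]
    rfl
  apply Nat.dvd_antisymm (orderOf_dvd_of_pow_eq_one hsM)
  have h4 : (s : Matrix (Fin b ⊕ Fin b) (Fin b ⊕ Fin b) K) ^ orderOf s = 1 := coe_pow_orderOf s
  have h5 : aeval (s : Matrix (Fin b ⊕ Fin b) (Fin b ⊕ Fin b) K)
      (X ^ orderOf s - 1 : K[X]) = 0 := by
    rw [map_sub, map_pow, aeval_X, map_one, h4, sub_self]
  have h6 : P ∣ (X ^ orderOf s - 1 : K[X]) :=
    dvd_of_irreducible_dvd_charpoly_gen _ _ h5 P hPi hPf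
  have : Fact (Irreducible P) := ⟨hPi⟩
  set x : AdjoinRoot P := AdjoinRoot.root P with hxdef
  have hx : aeval x P = 0 := by
    rw [AdjoinRoot.aeval_eq, AdjoinRoot.mk_self]
  have hx1 : x ^ orderOf s = 1 := by
    obtain ⟨Q, hQ⟩ := h6
    have := congrArg (aeval x) hQ
    rw [map_mul, hx, zero_mul, map_sub, map_pow, aeval_X, map_one, sub_eq_zero] at this
    exact this
  have hchar : CharP (AdjoinRoot P) p := charP_of_injective_algebraMap
    (algebraMap K (AdjoinRoot P)).injective p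
  have hne : NeZero ((M : ℕ) : AdjoinRoot P) := by
    constructor
    intro h0
    have h7 : p ∣ M := (CharP.cast_eq_zero_iff (AdjoinRoot P) p _).1 h0
    have h8 : p ∣ Nat.gcd p M := Nat.dvd_gcd dvd_rfl h7
    rw [hM] at h8
    exact hp.one_lt.ne' (Nat.dvd_one.1 h8)
  have hroot : IsRoot (cyclotomic M (AdjoinRoot P)) x := by
    obtain ⟨Q, hQ⟩ := hPc
    have := congrArg (aeval x) hQ
    rw [map_mul, hx, zero_mul] at this
    rw [IsRoot, ← map_cyclotomic M (algebraMap K (AdjoinRoot P)), eval_map, ← aeval_def]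
    exact this
  have hprim := isRoot_cyclotomic_iff.1 hroot
  exact hprim.dvd_of_pow_eq_one _ hx1

/-- The order of `q` modulo `r * s` when `k ∣ l`. -/
theorem orderOf_zmod_mul (q r s : ℕ) (hq : 1 ≤ q) (hrs : r.Coprime s)
    (hdvd : orderOf ((q : ℕ) : ZMod r) ∣ orderOf ((q : ℕ) : ZMod s)) :
    orderOf ((q : ℕ) : ZMod (r * s)) = orderOf ((q : ℕ) : ZMod s) := by
  apply Nat.dvd_antisymm
  · apply orderOf_dvd_of_pow_eq_one
    have h1 : 1 ≤ q ^ orderOf ((q : ℕ) : ZMod s) := Nat.one_le_pow _ _ hq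
    have hr : r ∣ q ^ orderOf ((q : ℕ) : ZMod s) - 1 := by
      rw [← ZMod.natCast_eq_zero_iff, Nat.cast_sub h1, Nat.cast_pow, Nat.cast_one, sub_eq_zero]
      exact orderOf_dvd_iff_pow_eq_one.1 hdvd
    have hs : s ∣ q ^ orderOf ((q : ℕ) : ZMod s) - 1 := by
      rw [← ZMod.natCast_eq_zero_iff, Nat.cast_sub h1, Nat.cast_pow, Nat.cast_one, sub_eq_zero]
      exact pow_orderOf_eq_one _
    have h2 := (ZMod.natCast_eq_zero_iff _ _).2 (hrs.mul_dvd_of_dvd_of_dvd hr hs)
    rw [Nat.cast_sub h1, Nat.cast_pow, Nat.cast_one, sub_eq_zero] at h2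
    exact h2
  · have hs : s ∣ r * s := Dvd.intro_left _ rfl
    have h1 := orderOf_map_dvd (ZMod.castHom hs (ZMod s)).toMonoidHom ((q : ℕ) : ZMod (r * s))
    simpa using h1

end Cfsg.Agent.Helper12.SpGraph
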