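import Mathlib
import Cfsg.Agent.Helper12.SpGraphH

set_option autoImplicit false

/-! Existence of elements of order `r * s` in `Sp_2n(q)`. -/

open Polynomial

namespace Cfsg.Agent.Helper12.SpGraph

open Cfsg.Agent.Helper12.SpPrime Cfsg.Agent.Helper12.SpSylow

universe u

/-- If the order of `q` mod the prime `r` divides `2 e` but not `e` then `r ∣ q ^ e + 1`. -/
theorem prime_dvd_pow_add_one (r q e : ℕ) (hr : r.Prime)
    (h1 : orderOf ((q : ℕ) : ZMod r) ∣ 2 * e) (h2 : ¬ orderOf ((q : ℕ) : ZMod r) ∣ e) :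
    r ∣ q ^ e + 1 := by
  have hfact : Fact r.Prime := ⟨hr⟩
  rw [orderOf_dvd_iff_pow_eq_one] at h1 h2
  have h3 : (((q : ℕ) : ZMod r) ^ e - 1) * (((q : ℕ) : ZMod r) ^ e + 1) = 0 := by
    have : (((q : ℕ) : ZMod r) ^ e - 1) * (((q : ℕ) : ZMod r) ^ e + 1) =
        ((q : ℕ) : ZMod r) ^ (2 * e) - 1 := by ring
    rw [this, h1, sub_self]
  rcases mul_eq_zero.1 h3 with h | h
  · exact absurd (sub_eq_zero.1 h) h2
  · rw [← ZMod.natCast_eq_zero_iff, Nat.cast_add, Nat.cast_pow, Nat.cast_one]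
    exact h

variable {K : Type u} [Field K] [Fintype K]

/-- An element of order `r * s` in `Sp_{2 η(l)}(q)` when `l = k t` with `t` odd. -/
theorem exists_sp_small (p : ℕ) [Fact p.Prime] [CharP K p] (r s k l ηl : ℕ)
    (hr : r.Prime) (hs : s.Prime) (hrp : r ≠ p) (hsp : s ≠ p) (hrs : r ≠ s)
    (hk : k = orderOf ((Fintype.card K : ℕ) : ZMod r))
    (hl : l = orderOf ((Fintype.card K : ℕ) : ZMod s))
    (hηl : (Odd l ∧ ηl = l) ∨ (Even l ∧ 2 * ηl = l))
    (t : ℕ) (ht : Odd t) (hlt : l = k * t) :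
    ∃ x : Matrix.symplecticGroup (Fin ηl) K, orderOf x = r * s := by
  have hp : p.Prime := Fact.out
  have hq1 : 1 ≤ Fintype.card K := Fintype.card_pos
  have hl0 : 0 < l := by
    rw [hl]
    exact orderOf_card_pos p s hs hsp
  have hk0 : 0 < k := by
    rw [hk]
    exact orderOf_card_pos p r hr hrp
  have hcoprs : r.Coprime s := (Nat.coprime_primes hr hs).2 hrs
  have hM0 : 0 < r * s := Nat.mul_pos hr.pos hs.pos
  have hcop : p.Coprime (r * s) := by
    apply Nat.Coprime.mul_right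
    · exact (Nat.coprime_primes hp hr).2 (Ne.symm hrp)
    · exact (Nat.coprime_primes hp hs).2 (Ne.symm hsp)
  have hkl : k ∣ l := Dvd.intro _ hlt.symm
  obtain ⟨P, hPm, hPi, hPc, hPdeg⟩ := exists_cyclotomic_factor (K := K) p (r * s) hcop hM0
  rw [orderOf_zmod_mul _ r s hq1 hcoprs (by rw [← hk, ← hl]; exact hkl), ← hl] at hPdeg
  have hPd : P ∣ (X ^ (r * s) - 1 : K[X]) := hPc.trans (cyclotomic.dvd_X_pow_sub_one _ K)
  have h0 : P.coeff 0 ≠ 0 := coeff_zero_ne_zero_of_dvd_X_pow_sub_one (r * s) hM0 hPd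
  have hne1 : NeZero ((r * s : ℕ) : K) := by
    constructor
    intro h0
    have h7 : p ∣ r * s := (CharP.cast_eq_zero_iff K p _).1 h0
    have h8 : p ∣ Nat.gcd p (r * s) := Nat.dvd_gcd dvd_rfl h7
    rw [hcop] at h8
    exact hp.one_lt.ne' (Nat.dvd_one.1 h8)
  have hne : P ≠ X - C 1 := by
    intro h
    rw [h, dvd_iff_isRoot, isRoot_cyclotomic_iff] at hPc
    have h1 := hPc.eq_orderOf
    rw [orderOf_one] at h1
    have := hr.two_le
    have := hs.two_le
    nlinarith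
  rcases hηl with ⟨hodd, hη⟩ | ⟨hev, hη⟩
  · -- `l` odd
    rw [hη]
    have h0' : (recip P).coeff 0 ≠ 0 := by
      rw [recip_coeff_zero hPm h0]
      exact inv_ne_zero h0
    have hf0 : (P * recip P).coeff 0 ≠ 0 := by
      rw [mul_coeff_zero]
      exact mul_ne_zero h0 h0'
    obtain ⟨x, hx1, hx2⟩ := exists_sp_charpoly_eq (n := l) p (P * recip P)
      (hPm.mul (recip_monic h0))
      (by rw [Monic.natDegree_mul hPm (recip_monic h0), recip_natDegree h0, hPdeg, two_mul])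
      (by
        rw [← mirror_eq_reverse hf0]
        exact mirror_mul_recip hPm h0)
    refine ⟨x, orderOf_eq_of_charpoly_gen p (r * s) l hcop hM0 x hx1 P hPi hPc ?_ ?_⟩
    · rw [hx2]
      exact dvd_mul_right _ _
    · rw [hx2]
      intro Q hQ hQd
      rcases hQ.prime.dvd_or_dvd hQd with h | h
      · exact h.trans hPd
      · exact h.trans (recip_dvd_X_pow_sub_one h0 _ hM0 hPd)
  · -- `l` even
    have he0 : 0 < ηl := by omega
    have hr1 : r ∣ Fintype.card K ^ ηl + 1 := by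
      apply prime_dvd_pow_add_one r _ ηl hr
      · rw [← hk, hη]
        exact hkl
      · rw [← hk]
        rintro ⟨c, hc⟩
        have h1 : k * t = k * (2 * c) := by
          rw [← hlt, ← hη, hc]
          ring
        have h2 : t = 2 * c := Nat.eq_of_mul_eq_mul_left hk0 h1
        rw [h2] at ht
        exact (Nat.not_odd_iff_even.2 (even_two_mul c)) ht
    have hs1 : s ∣ Fintype.card K ^ ηl + 1 := by
      apply prime_dvd_pow_add_one s _ ηl hs
      · rw [← hl, hη]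
      · rw [← hl]
        intro h
        have := Nat.le_of_dvd he0 h
        omega
    have hdvd2 : r * s ∣ Fintype.card K ^ ηl + 1 := hcoprs.mul_dvd_of_dvd_of_dvd hr1 hs1
    have hrec : recip P = P :=
      recip_eq_self_of_dvd_pow_add_one (r * s) ηl hPm hPi h0 hPd hdvd2
    have hmir := mirror_eq_self_of_recip_eq_self hPm hPi h0 hne hrec
    obtain ⟨x, hx1, hx2⟩ := exists_sp_charpoly_eq (n := ηl) p P hPm
      (by rw [hPdeg, hη])
      (by
        rw [← mirror_eq_reverse h0]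
        exact hmir)
    refine ⟨x, orderOf_eq_of_charpoly_gen p (r * s) ηl hcop hM0 x hx1 P hPi hPc ?_ ?_⟩
    · rw [hx2]
    · rw [hx2]
      intro Q _ hQd
      exact hQd.trans hPd

/-- An element of order `r * s` in `Sp_2n(q)` when `l = k t` with `t` odd and `η(l) ≤ n`. -/
theorem exists_sp_of_odd_quot (p : ℕ) [Fact p.Prime] [CharP K p] (n r s k l ηl : ℕ)
    (hr : r.Prime) (hs : s.Prime) (hrp : r ≠ p) (hsp : s ≠ p) (hrs : r ≠ s)
    (hk : k = orderOf ((Fintype.card K : ℕ) : ZMod r))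
    (hl : l = orderOf ((Fintype.card K : ℕ) : ZMod s))
    (hηl : (Odd l ∧ ηl = l) ∨ (Even l ∧ 2 * ηl = l)) (hle : ηl ≤ n)
    (t : ℕ) (ht : Odd t) (hlt : l = k * t) :
    ∃ x : Matrix.symplecticGroup (Fin n) K, orderOf x = r * s := by
  obtain ⟨x₀, hx₀⟩ := exists_sp_small p r s k l ηl hr hs hrp hsp hrs hk hl hηl t ht hlt
  obtain ⟨ψ, hψ⟩ := exists_two_block_hom (F := K) ηl (n - ηl) n (by omega)
  refine ⟨ψ (x₀, 1), ?_⟩
  rw [orderOf_injective ψ hψ, Prod.orderOf, hx₀, orderOf_one, Nat.lcm_one_right]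

/-- An element of order `r * s` in `Sp_2n(q)` when `η(k) + η(l) ≤ n`. -/
theorem exists_sp_of_sum_le (n r s ηk ηl : ℕ)
    (hr : r.Prime) (hs : s.Prime) (hrs : r ≠ s) (h1 : 1 ≤ ηk) (h2 : 1 ≤ ηl) (hsum : ηk + ηl ≤ n)
    (hke : orderOf ((Fintype.card K : ℕ) : ZMod r) ∣ 2 * ηk)
    (hle : orderOf ((Fintype.card K : ℕ) : ZMod s) ∣ 2 * ηl) :
    ∃ x : Matrix.symplecticGroup (Fin n) K, orderOf x = r * s := by
  have hqpos : 0 < Fintype.card K := Fintype.card_pos
  have hfin1 : Finite (Matrix.symplecticGroup (Fin ηk) K) := Subtype.finite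
  have hfin2 : Finite (Matrix.symplecticGroup (Fin (n - ηk)) K) := Subtype.finite
  have hr1 : r ∣ Nat.card (Matrix.symplecticGroup (Fin ηk) K) := by
    rw [Cfsg.Agent.Helper2.Sp.card_symplectic_fin]
    apply Dvd.dvd.mul_left
    apply Dvd.dvd.trans _ (Finset.dvd_prod_of_mem _ (Finset.mem_range.2 (show ηk - 1 < ηk by omega)))
    rw [show ηk - 1 + 1 = ηk by omega]
    exact dvd_pow_sub_one r _ ηk hqpos hke
  have hs1 : s ∣ Nat.card (Matrix.symplecticGroup (Fin (n - ηk)) K) := by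
    rw [Cfsg.Agent.Helper2.Sp.card_symplectic_fin]
    apply Dvd.dvd.mul_left
    apply Dvd.dvd.trans _ (Finset.dvd_prod_of_mem _
      (Finset.mem_range.2 (show ηl - 1 < n - ηk by omega)))
    rw [show ηl - 1 + 1 = ηl by omega]
    exact dvd_pow_sub_one s _ ηl hqpos hle
  have : Fact r.Prime := ⟨hr⟩
  have : Fact s.Prime := ⟨hs⟩
  obtain ⟨y, hy⟩ := exists_prime_orderOf_dvd_card' r hr1
  obtain ⟨v, hv⟩ := exists_prime_orderOf_dvd_card' s hs1
  obtain ⟨ψ, hψ⟩ := exists_two_block_hom (F := K) ηk (n - ηk) n (by omega)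
  refine ⟨ψ (y, v), ?_⟩
  rw [orderOf_injective ψ hψ, Prod.orderOf, hy, hv]
  exact ((Nat.coprime_primes hr hs).2 hrs).lcm_eq_mul

/-- `η(l) ≤ n` when `s` divides the order of `PSp_2n(q)`. -/
theorem eta_le_of_dvd_card (p : ℕ) [Fact p.Prime] [CharP K p] (n s l ηl : ℕ)
    (hs : s.Prime) (hsp : s ≠ p)
    (hl : l = orderOf ((Fintype.card K : ℕ) : ZMod s))
    (hηl : (Odd l ∧ ηl = l) ∨ (Even l ∧ 2 * ηl = l))
    (hsG : s ∣ Nat.card (Cfsg.PSp n K)) : ηl ≤ n := by
  have hp : p.Prime := Fact.out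
  have h1 : s ∣ Nat.card (Matrix.symplecticGroup (Fin n) K) := by
    rw [Subgroup.card_eq_card_quotient_mul_card_subgroup
      (Subgroup.center (Matrix.symplecticGroup (Fin n) K))]
    exact Dvd.dvd.mul_right hsG _
  rw [Cfsg.Agent.Helper2.Sp.card_symplectic_fin] at h1
  rcases (Nat.Prime.dvd_mul hs).1 h1 with h | h
  · exfalso
    have h3 := hs.dvd_of_dvd_pow h
    obtain ⟨f, -, hq⟩ := FiniteField.card K p
    rw [hq] at h3
    exact hsp ((Nat.prime_dvd_prime_iff_eq hs hp).1 (hs.dvd_of_dvd_pow h3))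
  · rw [Prime.dvd_finsetProd_iff (Nat.prime_iff.1 hs)] at h
    obtain ⟨i, hi, hdvd⟩ := h
    rw [Finset.mem_range] at hi
    have hq1 : 1 ≤ Fintype.card K ^ (2 * (i + 1)) := Nat.one_le_pow _ _ Fintype.card_pos
    rw [← ZMod.natCast_eq_zero_iff, Nat.cast_sub hq1, Nat.cast_pow, Nat.cast_one, sub_eq_zero]
      at hdvd
    have h5 := orderOf_dvd_of_pow_eq_one hdvd
    rw [← hl] at h5
    have h6 : ηl ∣ i + 1 := by
      rcases hηl with ⟨ho, h⟩ | ⟨_, h⟩
      · rw [h]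
        exact (Nat.Coprime.dvd_mul_left (Nat.coprime_two_right.2 ho)).1 h5
      · rw [← h] at h5
        exact (Nat.mul_dvd_mul_iff_left (by norm_num)).1 h5
    have := Nat.le_of_dvd (Nat.succ_pos i) h6
    omega

end Cfsg.Agent.Helper12.SpGraph
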