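import Mathlib
import Cfsg.Prelude.Def_Classical
import Cfsg.Agent.Helper17.Zsigmondy
import Cfsg.Agent.Helper12.SpGraphI
import Cfsg.Agent.Helper12.SpGraphC

set_option autoImplicit false

/-! `PSp_{2n}(q)`, `q` odd, has an element of order `p (q ^ (n-1) + 1)`. -/

open Matrix Polynomial

namespace Cfsg.Agent.Helper12.BCSpec

open Cfsg.Agent.Helper12.SpSylow Cfsg.Agent.Helper12.SpGraph Cfsg.Agent.Helper12.SpPrime

universe u

variable {F : Type u} [Field F]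

/-- the embedding of `SpGraph.exists_hom_of_isometries` reflects scalar matrices -/
theorem exists_hom_of_isometries_scalar [Finite F] {I : Type*} [Fintype I] [DecidableEq I] {n : ℕ}
    (hcard : Fintype.card I = Fintype.card (Fin n ⊕ Fin n)) (Ω : Matrix I I F)
    (hΩu : IsUnit Ω) (hΩa : ∀ u, u ⬝ᵥ (Ω *ᵥ u) = 0) {H : Type*} [Group H]
    (μ : H →* Matrix I I F) (hμ : ∀ h, (μ h)ᵀ * Ω * μ h = Ω) (hinj : Function.Injective μ) :
    ∃ ψ : H →* Matrix.symplecticGroup (Fin n) F, Function.Injective ψ ∧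
      ∀ (h : H) (c : F),
        ((ψ h : Matrix.symplecticGroup (Fin n) F) : Matrix (Fin n ⊕ Fin n) (Fin n ⊕ Fin n) F) =
          c • (1 : Matrix (Fin n ⊕ Fin n) (Fin n ⊕ Fin n) F) → μ h = c • (1 : Matrix I I F) := by
  classical
  let ε := Fintype.equivOfCardEq hcard
  obtain ⟨Φ, hΦ⟩ := exists_uniform_conj_reindex ε Ω hΩu hΩa
  have hmem : ∀ g : H,
      (Φ : Matrix (Fin n ⊕ Fin n) (Fin n ⊕ Fin n) F) * Matrix.reindex ε ε (μ g) *
        ((Φ⁻¹ : (Matrix (Fin n ⊕ Fin n) (Fin n ⊕ Fin n) F)ˣ) :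
          Matrix (Fin n ⊕ Fin n) (Fin n ⊕ Fin n) F) ∈ Matrix.symplecticGroup (Fin n) F :=
    fun g => hΦ _ (hμ g)
  refine ⟨{ toFun := fun g => ⟨_, hmem g⟩, map_one' := ?_, map_mul' := ?_ }, ?_, ?_⟩
  · apply Subtype.ext
    show (Φ : Matrix (Fin n ⊕ Fin n) (Fin n ⊕ Fin n) F) * Matrix.reindex ε ε (μ 1) *
        ((Φ⁻¹ : (Matrix (Fin n ⊕ Fin n) (Fin n ⊕ Fin n) F)ˣ) :
          Matrix (Fin n ⊕ Fin n) (Fin n ⊕ Fin n) F) = 1
    rw [map_one]
    simp
  · intro g h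
    apply Subtype.ext
    show (Φ : Matrix (Fin n ⊕ Fin n) (Fin n ⊕ Fin n) F) * Matrix.reindex ε ε (μ (g * h)) *
        ((Φ⁻¹ : (Matrix (Fin n ⊕ Fin n) (Fin n ⊕ Fin n) F)ˣ) :
          Matrix (Fin n ⊕ Fin n) (Fin n ⊕ Fin n) F) =
      ((Φ : Matrix (Fin n ⊕ Fin n) (Fin n ⊕ Fin n) F) * Matrix.reindex ε ε (μ g) *
        ((Φ⁻¹ : (Matrix (Fin n ⊕ Fin n) (Fin n ⊕ Fin n) F)ˣ) :
          Matrix (Fin n ⊕ Fin n) (Fin n ⊕ Fin n) F)) *
      ((Φ : Matrix (Fin n ⊕ Fin n) (Fin n ⊕ Fin n) F) * Matrix.reindex ε ε (μ h) *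
        ((Φ⁻¹ : (Matrix (Fin n ⊕ Fin n) (Fin n ⊕ Fin n) F)ˣ) :
          Matrix (Fin n ⊕ Fin n) (Fin n ⊕ Fin n) F))
    rw [map_mul]
    simp only [Matrix.reindex_apply, ← Matrix.submatrix_mul_equiv _ _ ε.symm ε.symm ε.symm]
    simp only [Matrix.mul_assoc]
    rw [Units.inv_mul_cancel_left]
  · intro g h hgh
    have h1 : (Φ : Matrix (Fin n ⊕ Fin n) (Fin n ⊕ Fin n) F) * Matrix.reindex ε ε (μ g) *
        ((Φ⁻¹ : (Matrix (Fin n ⊕ Fin n) (Fin n ⊕ Fin n) F)ˣ) :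
          Matrix (Fin n ⊕ Fin n) (Fin n ⊕ Fin n) F) =
      (Φ : Matrix (Fin n ⊕ Fin n) (Fin n ⊕ Fin n) F) * Matrix.reindex ε ε (μ h) *
        ((Φ⁻¹ : (Matrix (Fin n ⊕ Fin n) (Fin n ⊕ Fin n) F)ˣ) :
          Matrix (Fin n ⊕ Fin n) (Fin n ⊕ Fin n) F) := congrArg Subtype.val hgh
    have h2 := (Units.mul_right_inj Φ).1 ((Units.mul_left_inj Φ⁻¹).1 h1)
    exact hinj ((Matrix.reindex ε ε).injective h2)
  · intro g c hgc
    have h1 : (Φ : Matrix (Fin n ⊕ Fin n) (Fin n ⊕ Fin n) F) * Matrix.reindex ε ε (μ g) *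
        ((Φ⁻¹ : (Matrix (Fin n ⊕ Fin n) (Fin n ⊕ Fin n) F)ˣ) :
          Matrix (Fin n ⊕ Fin n) (Fin n ⊕ Fin n) F) =
        c • (1 : Matrix (Fin n ⊕ Fin n) (Fin n ⊕ Fin n) F) := hgc
    rw [Units.mul_inv_eq_iff_eq_mul] at h1
    have h2 : c • (1 : Matrix (Fin n ⊕ Fin n) (Fin n ⊕ Fin n) F) *
        (Φ : Matrix (Fin n ⊕ Fin n) (Fin n ⊕ Fin n) F) =
        (Φ : Matrix (Fin n ⊕ Fin n) (Fin n ⊕ Fin n) F) *
          c • (1 : Matrix (Fin n ⊕ Fin n) (Fin n ⊕ Fin n) F) := by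
      rw [Matrix.smul_mul, Matrix.one_mul, Matrix.mul_smul, Matrix.mul_one]
    rw [h2] at h1
    have h3 := (Units.mul_right_inj Φ).1 h1
    apply (Matrix.reindex ε ε).injective
    rw [h3]
    ext i j
    simp [Matrix.reindex_apply, Matrix.one_apply]

/-- The two-block embedding `Sp_2b × Sp_2c → Sp_2n`, `n = b + c`, reflecting scalars. -/
theorem exists_two_block_hom_scalar [Finite F] (b c n : ℕ) (hn : n = b + c) :
    ∃ ψ : Matrix.symplecticGroup (Fin b) F × Matrix.symplecticGroup (Fin c) F →*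
      Matrix.symplecticGroup (Fin n) F, Function.Injective ψ ∧
      ∀ (g : Matrix.symplecticGroup (Fin b) F) (h : Matrix.symplecticGroup (Fin c) F) (a : F),
        ((ψ (g, h) : Matrix.symplecticGroup (Fin n) F) :
          Matrix (Fin n ⊕ Fin n) (Fin n ⊕ Fin n) F) =
          a • (1 : Matrix (Fin n ⊕ Fin n) (Fin n ⊕ Fin n) F) →
        (h : Matrix (Fin c ⊕ Fin c) (Fin c ⊕ Fin c) F) =
          a • (1 : Matrix (Fin c ⊕ Fin c) (Fin c ⊕ Fin c) F) := by
  have hcard : Fintype.card ((Fin b ⊕ Fin b) ⊕ (Fin c ⊕ Fin c)) =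
      Fintype.card (Fin n ⊕ Fin n) := by
    simp only [Fintype.card_sum, Fintype.card_fin]
    omega
  obtain ⟨ψ, hψ, hψc⟩ := exists_hom_of_isometries_scalar hcard (twoOmega F b c)
    (twoOmega_isUnit b c) (twoOmega_alt b c) (twoHom b c) (by
      rintro ⟨g, h⟩
      show (Matrix.fromBlocks (g : Matrix (Fin b ⊕ Fin b) (Fin b ⊕ Fin b) F) 0 0
        (h : Matrix (Fin c ⊕ Fin c) (Fin c ⊕ Fin c) F))ᵀ * twoOmega F b c *
        Matrix.fromBlocks (g : Matrix (Fin b ⊕ Fin b) (Fin b ⊕ Fin b) F) 0 0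
        (h : Matrix (Fin c ⊕ Fin c) (Fin c ⊕ Fin c) F) = twoOmega F b c
      rw [twoOmega, Matrix.fromBlocks_transpose, Matrix.fromBlocks_multiply,
        Matrix.fromBlocks_multiply]
      simp only [Matrix.transpose_zero, Matrix.zero_mul, Matrix.mul_zero, add_zero, zero_add]
      rw [SymplecticGroup.mem_iff'.1 g.2, SymplecticGroup.mem_iff'.1 h.2]) (by
      rintro ⟨g, h⟩ ⟨g', h'⟩ hgh
      have := Matrix.fromBlocks_inj.1 hgh
      exact Prod.ext (Subtype.ext this.1) (Subtype.ext this.2.2.2))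
  refine ⟨ψ, hψ, ?_⟩
  intro g h a hgh
  have h1 := hψc (g, h) a hgh
  have h2 : Matrix.fromBlocks (g : Matrix (Fin b ⊕ Fin b) (Fin b ⊕ Fin b) F) 0 0
      (h : Matrix (Fin c ⊕ Fin c) (Fin c ⊕ Fin c) F) =
      a • (1 : Matrix ((Fin b ⊕ Fin b) ⊕ (Fin c ⊕ Fin c)) ((Fin b ⊕ Fin b) ⊕ (Fin c ⊕ Fin c)) F) :=
    h1
  rw [← Matrix.fromBlocks_one, Matrix.fromBlocks_smul] at h2
  exact (Matrix.fromBlocks_inj.1 h2).2.2.2

/-- the order of `q` modulo `q ^ k + 1` -/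
theorem orderOf_zmod_pow_add_one (q k : ℕ) (hq : 2 ≤ q) (hk : 1 ≤ k) :
    orderOf ((q : ℕ) : ZMod (q ^ k + 1)) = 2 * k := by
  have hqk : 2 ≤ q ^ k := le_trans hq (Nat.le_self_pow (by omega) _)
  rw [orderOf_eq_iff (by omega)]
  constructor
  · rw [Cfsg.Agent.Helper17.Zsig.cast_pow_eq_one_iff (by omega)]
    refine ⟨q ^ k - 1, ?_⟩
    obtain ⟨t, ht⟩ : ∃ t, q ^ k = t + 1 := ⟨q ^ k - 1, by omega⟩
    rw [two_mul, pow_add, ht]
    simp only [Nat.add_sub_cancel]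
    have : (t + 1) * (t + 1) = (t + 1 + 1) * t + 1 := by ring
    rw [this, Nat.add_sub_cancel]
  · intro m hm hm0 h
    rw [Cfsg.Agent.Helper17.Zsig.cast_pow_eq_one_iff (by omega)] at h
    by_cases hmk : m ≤ k
    · have h1 : q ^ m ≤ q ^ k := Nat.pow_le_pow_right (by omega) hmk
      have h2 : 2 ≤ q ^ m := le_trans hq (Nat.le_self_pow (by omega) _)
      exact Nat.not_dvd_of_pos_of_lt (by omega) (by omega) h
    · obtain ⟨j, rfl⟩ : ∃ j, m = k + j := ⟨m - k, by omega⟩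
      have hj0 : 0 < j := by omega
      have hjk : j < k := by omega
      have h1 : q ^ j < q ^ k := Nat.pow_lt_pow_right (by omega) hjk
      have h2 : 1 ≤ q ^ (k + j) := Nat.one_le_pow _ _ (by omega)
      have h3 : (q ^ k + 1) ∣ (q ^ k + 1) * q ^ j - (q ^ (k + j) - 1) :=
        Nat.dvd_sub (Dvd.intro _ rfl) h
      have h4 : (q ^ k + 1) * q ^ j - (q ^ (k + j) - 1) = q ^ j + 1 := by
        rw [pow_add, add_mul, one_mul]
        have : 1 ≤ q ^ k * q ^ j := by rw [← pow_add]; exact h2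
        omega
      rw [h4] at h3
      exact Nat.not_dvd_of_pos_of_lt (by omega) (by omega) h3

variable {K : Type u} [Field K] [Fintype K]

/-- a Singer-type element of `Sp_{2k}(q)` of order `q ^ k + 1` -/
theorem exists_sp_order_pow_add_one (p : ℕ) [Fact p.Prime] [CharP K p] (k : ℕ) (hk : 1 ≤ k) :
    ∃ s : Matrix.symplecticGroup (Fin k) K, orderOf s = Fintype.card K ^ k + 1 := by
  have hp : p.Prime := Fact.out
  have hq2 : 2 ≤ Fintype.card K := Fintype.one_lt_card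
  have hqk : 2 ≤ Fintype.card K ^ k := le_trans hq2 (Nat.le_self_pow (by omega) _)
  have hM0 : 0 < Fintype.card K ^ k + 1 := by omega
  have hpq : p ∣ Fintype.card K := by
    obtain ⟨f, -, hf⟩ := FiniteField.card K p
    rw [hf]
    exact dvd_pow_self _ f.ne_zero
  have hcop : p.Coprime (Fintype.card K ^ k + 1) := by
    rw [Nat.Prime.coprime_iff_not_dvd hp]
    intro h
    have h1 : p ∣ Fintype.card K ^ k := dvd_pow hpq (by omega)
    have h2 := (Nat.dvd_add_right h1).1 h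
    exact hp.one_lt.ne' (Nat.dvd_one.1 h2)
  obtain ⟨P, hPm, hPi, hPc, hPdeg⟩ :=
    exists_cyclotomic_factor (K := K) p (Fintype.card K ^ k + 1) hcop hM0
  rw [orderOf_zmod_pow_add_one _ k hq2 hk] at hPdeg
  have hPd : P ∣ (X ^ (Fintype.card K ^ k + 1) - 1 : K[X]) :=
    hPc.trans (cyclotomic.dvd_X_pow_sub_one _ K)
  have h0 : P.coeff 0 ≠ 0 := coeff_zero_ne_zero_of_dvd_X_pow_sub_one _ hM0 hPd
  have hne1 : NeZero ((Fintype.card K ^ k + 1 : ℕ) : K) := by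
    constructor
    intro h0
    have h7 : p ∣ Fintype.card K ^ k + 1 := (CharP.cast_eq_zero_iff K p _).1 h0
    have h8 : p ∣ Nat.gcd p (Fintype.card K ^ k + 1) := Nat.dvd_gcd dvd_rfl h7
    rw [hcop] at h8
    exact hp.one_lt.ne' (Nat.dvd_one.1 h8)
  have hne : P ≠ X - C 1 := by
    intro h
    rw [h, dvd_iff_isRoot, isRoot_cyclotomic_iff] at hPc
    have h1 := hPc.eq_orderOf
    rw [orderOf_one] at h1
    omega
  have hrec : recip P = P :=
    recip_eq_self_of_dvd_pow_add_one (Fintype.card K ^ k + 1) k hPm hPi h0 hPd dvd_rfl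
  have hmir := mirror_eq_self_of_recip_eq_self hPm hPi h0 hne hrec
  obtain ⟨x, hx1, hx2⟩ := exists_sp_charpoly_eq (n := k) p P hPm hPdeg
    (by
      rw [← mirror_eq_reverse h0]
      exact hmir)
  refine ⟨x, orderOf_eq_of_charpoly_gen p _ k hcop hM0 x hx1 P hPi hPc ?_ ?_⟩
  · rw [hx2]
  · rw [hx2]
    intro Q _ hQd
    exact hQd.trans hPd

/-- `PSp_{2(k+1)}(q)`, `q` odd, contains an element of order `p (q ^ k + 1)`. -/
theorem exists_psp_orderOf (p : ℕ) [Fact p.Prime] [CharP K p] (hp2 : p ≠ 2) (k : ℕ)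
    (hk : 1 ≤ k) :
    ∃ x : Cfsg.PSp (k + 1) K, orderOf x = p * (Fintype.card K ^ k + 1) := by
  have hp : p.Prime := Fact.out
  have hq2 : 2 ≤ Fintype.card K := Fintype.one_lt_card
  have hpq : p ∣ Fintype.card K := by
    obtain ⟨f, -, hf⟩ := FiniteField.card K p
    rw [hf]
    exact dvd_pow_self _ f.ne_zero
  have hcop : p.Coprime (Fintype.card K ^ k + 1) := by
    rw [Nat.Prime.coprime_iff_not_dvd hp]
    intro h
    have h1 : p ∣ Fintype.card K ^ k := dvd_pow hpq (by omega)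
    have h2 := (Nat.dvd_add_right h1).1 h
    exact hp.one_lt.ne' (Nat.dvd_one.1 h2)
  obtain ⟨s, hs⟩ := exists_sp_order_pow_add_one (K := K) p k hk
  have hfin2 : Finite (Matrix.symplecticGroup (Fin 1) K) := Subtype.finite
  have hp1 : p ∣ Nat.card (Matrix.symplecticGroup (Fin 1) K) := by
    rw [Cfsg.Agent.Helper2.Sp.card_symplectic_fin]
    apply Dvd.dvd.mul_right
    rw [one_pow, pow_one]
    exact hpq
  obtain ⟨u, hu⟩ := exists_prime_orderOf_dvd_card' p hp1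
  obtain ⟨ψ, hψ, hψc⟩ := exists_two_block_hom_scalar (F := K) k 1 (k + 1) rfl
  obtain ⟨x, hxdef⟩ : ∃ x, x = ψ (s, u) := ⟨_, rfl⟩
  have hx : orderOf x = p * (Fintype.card K ^ k + 1) := by
    rw [hxdef, orderOf_injective ψ hψ, Prod.orderOf, hs, hu, Nat.lcm_comm]
    exact hcop.lcm_eq_mul
  refine ⟨QuotientGroup.mk x, ?_⟩
  have hne : Nonempty (Fin (k + 1)) := ⟨0⟩
  have hd1 : orderOf (QuotientGroup.mk x : Cfsg.PSp (k + 1) K) ∣
      p * (Fintype.card K ^ k + 1) := by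
    apply orderOf_dvd_of_pow_eq_one
    rw [← QuotientGroup.mk_pow, ← hx, pow_orderOf_eq_one, QuotientGroup.mk_one]
  have hd2 : p * (Fintype.card K ^ k + 1) ∣
      orderOf (QuotientGroup.mk x : Cfsg.PSp (k + 1) K) := by
    obtain ⟨j, hj⟩ : ∃ j, j = orderOf (QuotientGroup.mk x : Cfsg.PSp (k + 1) K) := ⟨_, rfl⟩
    rw [← hj]
    have h1 : (QuotientGroup.mk x : Cfsg.PSp (k + 1) K) ^ j = 1 := by
      rw [hj]; exact pow_orderOf_eq_one _
    rw [← QuotientGroup.mk_pow, QuotientGroup.eq_one_iff,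
      Cfsg.Agent.Helper2.Sp.mem_center_iff] at h1
    obtain ⟨c, hc, hxc⟩ := h1
    have hxj : x ^ j = ψ (s ^ j, u ^ j) := by
      rw [hxdef, ← map_pow, Prod.pow_mk]
    rw [hxj] at hxc
    have huc := hψc _ _ c hxc
    have h2K : (2 : K) ≠ 0 := by
      intro h
      have h3 : ((2 : ℕ) : K) = 0 := by exact_mod_cast h
      rw [CharP.cast_eq_zero_iff K p] at h3
      exact hp2 ((Nat.prime_dvd_prime_iff_eq hp Nat.prime_two).1 h3)
    have hc1 : c = 1 := by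
      rcases mul_self_eq_one_iff.1 hc with h | h
      · exact h
      · exfalso
        have h3 : (u ^ j) ^ 2 = 1 := by
          apply Subtype.ext
          rw [pow_two]
          show ((u ^ j : Matrix.symplecticGroup (Fin 1) K) :
              Matrix (Fin 1 ⊕ Fin 1) (Fin 1 ⊕ Fin 1) K) *
            ((u ^ j : Matrix.symplecticGroup (Fin 1) K) :
              Matrix (Fin 1 ⊕ Fin 1) (Fin 1 ⊕ Fin 1) K) = 1
          rw [huc, Matrix.smul_mul, Matrix.one_mul, smul_smul, hc, one_smul]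
        rw [← pow_mul] at h3
        have h4 := orderOf_dvd_of_pow_eq_one h3
        rw [hu] at h4
        have h5 : p ∣ j := by
          have hcop2 : p.Coprime 2 := (Nat.coprime_primes hp Nat.prime_two).2 hp2
          exact hcop2.dvd_of_dvd_mul_right h4
        have h6 : u ^ j = 1 := by
          rw [← hu] at h5
          exact orderOf_dvd_iff_pow_eq_one.1 h5
        rw [h6, h] at huc
        have h7 := congrFun (congrFun huc (Sum.inl 0)) (Sum.inl 0)
        simp at h7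
        apply h2K
        linear_combination h7
    rw [hc1, one_smul] at hxc
    have h4 : x ^ j = 1 := by
      rw [hxj]
      exact Subtype.ext hxc
    rw [← hx]
    exact orderOf_dvd_of_pow_eq_one h4
  exact Nat.dvd_antisymm hd1 hd2

end Cfsg.Agent.Helper12.BCSpec
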