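import Mathlib
import Cfsg.Agent.Helper12.BCSpecM
import Cfsg.Agent.Helper12.BCGraphD

set_option autoImplicit false

/-! Tori of the symplectic group: elements of every order dividing `q ^ e - 1` or `q ^ e + 1` in
`Sp_{2e}(q)`. -/

open Matrix Polynomial

namespace Cfsg.Agent.Helper12.BCG

open Cfsg.Agent.Helper12.SpSylow Cfsg.Agent.Helper12.SpGraph Cfsg.Agent.Helper12.SpPrime
  Cfsg.Agent.Helper12.BCSpec

universe u

/-- the order of `q` modulo `q ^ e - 1` -/
theorem orderOf_zmod_pow_sub_one (q e : ℕ) (hq : 3 ≤ q) (he : 1 ≤ e) :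
    orderOf ((q : ℕ) : ZMod (q ^ e - 1)) = e := by
  have hqe : 3 ≤ q ^ e := le_trans hq (Nat.le_self_pow (by omega) _)
  rw [orderOf_eq_iff (by omega)]
  constructor
  · rw [Cfsg.Agent.Helper17.Zsig.cast_pow_eq_one_iff (by omega)]
  · intro m hm hm0 h
    rw [Cfsg.Agent.Helper17.Zsig.cast_pow_eq_one_iff (by omega)] at h
    have h1 : q ^ m < q ^ e := Nat.pow_lt_pow_right (by omega) hm
    have h2 : 3 ≤ q ^ m := le_trans hq (Nat.le_self_pow (by omega) _)
    exact Nat.not_dvd_of_pos_of_lt (by omega) (by omega) h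

variable {K : Type u} [Field K] [Fintype K]

/-- an element of `Sp_{2e}(q)` of order `q ^ e - 1` -/
theorem exists_sp_order_pow_sub_one (p : ℕ) [Fact p.Prime] [CharP K p] (e : ℕ) (he : 1 ≤ e)
    (hq3 : 3 ≤ Fintype.card K) :
    ∃ s : Matrix.symplecticGroup (Fin e) K, orderOf s = Fintype.card K ^ e - 1 := by
  have hp : p.Prime := Fact.out
  have hqe : 3 ≤ Fintype.card K ^ e := le_trans hq3 (Nat.le_self_pow (by omega) _)
  have hM0 : 0 < Fintype.card K ^ e - 1 := by omega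
  have hpq : p ∣ Fintype.card K := by
    obtain ⟨f, -, hf⟩ := FiniteField.card K p
    rw [hf]
    exact dvd_pow_self _ f.ne_zero
  have hcop : p.Coprime (Fintype.card K ^ e - 1) := by
    rw [Nat.Prime.coprime_iff_not_dvd hp]
    intro h
    have h1 : p ∣ Fintype.card K ^ e := dvd_pow hpq (by omega)
    have h2 : p ∣ Fintype.card K ^ e - (Fintype.card K ^ e - 1) := Nat.dvd_sub h1 h
    have h3 : Fintype.card K ^ e - (Fintype.card K ^ e - 1) = 1 := by omega
    rw [h3] at h2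
    exact hp.one_lt.ne' (Nat.dvd_one.1 h2)
  obtain ⟨P, hPm, hPi, hPc, hPdeg⟩ :=
    exists_cyclotomic_factor (K := K) p (Fintype.card K ^ e - 1) hcop hM0
  rw [orderOf_zmod_pow_sub_one _ e hq3 he] at hPdeg
  have hPd : P ∣ (X ^ (Fintype.card K ^ e - 1) - 1 : K[X]) :=
    hPc.trans (cyclotomic.dvd_X_pow_sub_one _ K)
  have h0 : P.coeff 0 ≠ 0 := coeff_zero_ne_zero_of_dvd_X_pow_sub_one _ hM0 hPd
  have h0' : (recip P).coeff 0 ≠ 0 := by
    rw [recip_coeff_zero hPm h0]
    exact inv_ne_zero h0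
  have hf0 : (P * recip P).coeff 0 ≠ 0 := by
    rw [mul_coeff_zero]
    exact mul_ne_zero h0 h0'
  obtain ⟨x, hx1, hx2⟩ := exists_sp_charpoly_eq (n := e) p (P * recip P)
    (hPm.mul (recip_monic h0))
    (by rw [Monic.natDegree_mul hPm (recip_monic h0), recip_natDegree h0, hPdeg, two_mul])
    (by
      rw [← mirror_eq_reverse hf0]
      exact mirror_mul_recip hPm h0)
  refine ⟨x, orderOf_eq_of_charpoly_gen p _ e hcop hM0 x hx1 P hPi hPc ?_ ?_⟩
  · rw [hx2]
    exact dvd_mul_right _ _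
  · rw [hx2]
    intro Q hQ hQd
    rcases hQ.prime.dvd_or_dvd hQd with h | h
    · exact h.trans hPd
    · exact h.trans (recip_dvd_X_pow_sub_one h0 _ hM0 hPd)

/-- elements of every order dividing `q ^ e ± 1` in `Sp_{2e}(q)` -/
theorem exists_sp_of_tor (p : ℕ) [Fact p.Prime] [CharP K p] (e : ℕ) (he : 1 ≤ e)
    (hq3 : 3 ≤ Fintype.card K) (M : ℕ) (hT : Tor (Fintype.card K) e M) :
    ∃ s : Matrix.symplecticGroup (Fin e) K, orderOf s = M := by
  have hqe : 3 ≤ Fintype.card K ^ e := le_trans hq3 (Nat.le_self_pow (by omega) _)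
  have key : ∀ (N : ℕ), 0 < N → M ∣ N →
      (∃ s : Matrix.symplecticGroup (Fin e) K, orderOf s = N) →
      ∃ s : Matrix.symplecticGroup (Fin e) K, orderOf s = M := by
    rintro N hN ⟨c, hc⟩ ⟨x, hx⟩
    have hc0 : c ≠ 0 := by
      rintro rfl
      rw [mul_zero] at hc
      omega
    refine ⟨x ^ c, ?_⟩
    rw [orderOf_pow_of_dvd hc0 (by rw [hx, hc]; exact Dvd.intro_left _ rfl), hx, hc,
      Nat.mul_div_cancel _ (Nat.pos_of_ne_zero hc0)]
  rcases hT with hT | hT
  · exact key _ (by omega) hT (exists_sp_order_pow_sub_one p e he hq3)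
  · exact key _ (by omega) hT (exists_sp_order_pow_add_one p e he)

end Cfsg.Agent.Helper12.BCG
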