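import Mathlib
import Cfsg.Agent.Helper12.BCGraphP
import Cfsg.Agent.Helper12.BCGraphH
import Cfsg.Agent.Helper12.PslGraphA

set_option autoImplicit false

/-! Elements of `PSp_{2n}(q)` whose order is a product of two primes: existence. -/

open Matrix Polynomial

namespace Cfsg.Agent.Helper12.BCG

open Cfsg.Agent.Helper12.SpSylow Cfsg.Agent.Helper12.SpGraph Cfsg.Agent.Helper12.SpPrime
  Cfsg.Agent.Helper12.BCSpec

universe u

variable {K : Type u} [Field K] [Fintype K]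

omit [Fintype K] in
theorem sp_coe_pow {n : ℕ} (x : Matrix.symplecticGroup (Fin n) K) (k : ℕ) :
    ((x ^ k : Matrix.symplecticGroup (Fin n) K) : Matrix (Fin n ⊕ Fin n) (Fin n ⊕ Fin n) K) =
      (x : Matrix (Fin n ⊕ Fin n) (Fin n ⊕ Fin n) K) ^ k := rfl

omit [Fintype K] in
theorem sp_pow_eq_one_iff {n : ℕ} (x : Matrix.symplecticGroup (Fin n) K) (k : ℕ) :
    x ^ k = 1 ↔ (x : Matrix (Fin n ⊕ Fin n) (Fin n ⊕ Fin n) K) ^ k = 1 := by
  rw [← sp_coe_pow]
  constructor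
  · intro h
    rw [h]
    rfl
  · intro h
    exact Subtype.ext h

theorem card_sp_index (n : ℕ) : Fintype.card (Fin n ⊕ Fin n) = 2 * n := by
  rw [Fintype.card_sum, Fintype.card_fin]
  ring

/-- block elements -/
theorem exists_sp_block (p : ℕ) [Fact p.Prime] [CharP K p] (hq3 : 3 ≤ Fintype.card K)
    (e j n : ℕ) (he : 1 ≤ e) (hn : n = e + j) (M : ℕ) (hT : Tor (Fintype.card K) e M)
    (h : Matrix.symplecticGroup (Fin j) K) :
    ∃ x : Matrix.symplecticGroup (Fin n) K, orderOf x = Nat.lcm M (orderOf h) := by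
  obtain ⟨x₀, hx₀⟩ := exists_sp_of_tor p e he hq3 M hT
  obtain ⟨ψ, hψ⟩ := exists_two_block_hom (F := K) e j n hn
  exact ⟨ψ (x₀, h), by rw [orderOf_injective ψ hψ, Prod.orderOf, hx₀]⟩

/-- unipotent elements -/
theorem exists_sp_unipotent (p : ℕ) [Fact p.Prime] [CharP K p] (j : ℕ) (hj : 1 ≤ j) :
    ∃ u : Matrix.symplecticGroup (Fin j) K, orderOf u = p := by
  have hfin : Finite (Matrix.symplecticGroup (Fin j) K) := Subtype.finite
  have hpq : p ∣ Fintype.card K := by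
    obtain ⟨f, -, hf⟩ := FiniteField.card K p
    rw [hf]
    exact dvd_pow_self _ f.ne_zero
  have hp1 : p ∣ Nat.card (Matrix.symplecticGroup (Fin j) K) := by
    rw [Cfsg.Agent.Helper2.Sp.card_symplectic_fin]
    apply Dvd.dvd.mul_right
    exact dvd_pow hpq (by positivity)
  exact exists_prime_orderOf_dvd_card' p hp1

/-- both primes odd -/
theorem exists_psp_odd_mul (p : ℕ) [Fact p.Prime] [CharP K p] (hq3 : 3 ≤ Fintype.card K)
    (n r s : ℕ) (hn : 1 ≤ n)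
    (hr : r.Prime) (hs : s.Prime) (hrs : r ≠ s) (hr2 : r ≠ 2) (hs2 : s ≠ 2)
    (h : (∃ e₁ e₂ : ℕ, 1 ≤ e₁ ∧ 1 ≤ e₂ ∧ e₁ + e₂ ≤ n ∧ Tor (Fintype.card K) e₁ r ∧
        Tor (Fintype.card K) e₂ s) ∨
      (∃ e : ℕ, 1 ≤ e ∧ e ≤ n ∧ Tor (Fintype.card K) e (r * s))) :
    ∃ g : Cfsg.PSp n K, orderOf g = r * s := by
  have hodd : Odd (r * s) := (hr.odd_of_ne_two hr2).mul (hs.odd_of_ne_two hs2)
  rcases h with ⟨e₁, e₂, he₁, he₂, hle, hT₁, hT₂⟩ | ⟨e, he, hle, hT⟩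
  · obtain ⟨x₂, hx₂⟩ := exists_sp_block p hq3 e₂ (n - e₁ - e₂) (e₂ + (n - e₁ - e₂)) he₂ rfl s hT₂ 1
    rw [orderOf_one, Nat.lcm_one_right] at hx₂
    obtain ⟨x₁, hx₁⟩ := exists_sp_block p hq3 e₁ (e₂ + (n - e₁ - e₂)) n he₁ (by omega) r hT₁ x₂
    rw [hx₂, ((Nat.coprime_primes hr hs).2 hrs).lcm_eq_mul] at hx₁
    obtain ⟨g, hg⟩ := exists_psp_of_sp n hn x₁ (by rw [hx₁]; exact hodd)
    exact ⟨g, by rw [hg, hx₁]⟩
  · obtain ⟨x, hx⟩ := exists_sp_block p hq3 e (n - e) n he (by omega) (r * s) hT 1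
    rw [orderOf_one, Nat.lcm_one_right] at hx
    obtain ⟨g, hg⟩ := exists_psp_of_sp n hn x (by rw [hx]; exact hodd)
    exact ⟨g, by rw [hg, hx]⟩

/-- one prime is the characteristic -/
theorem exists_psp_mul_char (p : ℕ) [Fact p.Prime] [CharP K p] (hp2 : p ≠ 2)
    (hq3 : 3 ≤ Fintype.card K) (n s : ℕ)
    (hs : s.Prime) (hs2 : s ≠ 2) (hsp : s ≠ p)
    (h : ∃ e : ℕ, 1 ≤ e ∧ e < n ∧ Tor (Fintype.card K) e s) :
    ∃ g : Cfsg.PSp n K, orderOf g = s * p := by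
  have hp : p.Prime := Fact.out
  have hodd : Odd (s * p) := (hs.odd_of_ne_two hs2).mul (hp.odd_of_ne_two hp2)
  obtain ⟨e, he, hlt, hT⟩ := h
  obtain ⟨h₀, hh₀⟩ := exists_sp_unipotent (K := K) p (n - e) (by omega)
  obtain ⟨x, hx⟩ := exists_sp_block p hq3 e (n - e) n he (by omega) s hT h₀
  rw [hh₀, ((Nat.coprime_primes hs hp).2 hsp).lcm_eq_mul] at hx
  obtain ⟨g, hg⟩ := exists_psp_of_sp n (by omega) x (by rw [hx]; exact hodd)
  exact ⟨g, by rw [hg, hx]⟩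

/-- `-1` in the symplectic group -/
def spNegOne (b : ℕ) (K : Type u) [Field K] : Matrix.symplecticGroup (Fin b) K :=
  ⟨-1, SymplecticGroup.neg_mem (one_mem _)⟩

omit [Fintype K] in
theorem orderOf_spNegOne (h2 : (2 : K) ≠ 0) (b : ℕ) (hb : 1 ≤ b) : orderOf (spNegOne b K) = 2 := by
  apply orderOf_eq_prime
  · apply Subtype.ext
    show (-1 : Matrix (Fin b ⊕ Fin b) (Fin b ⊕ Fin b) K) ^ 2 = 1
    simp
  · intro h
    have h1 : (-1 : Matrix (Fin b ⊕ Fin b) (Fin b ⊕ Fin b) K) = 1 := congrArg Subtype.val h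
    have h3 := congrFun (congrFun h1 (Sum.inl ⟨0, hb⟩)) (Sum.inl ⟨0, hb⟩)
    simp at h3
    apply h2
    linear_combination -h3

/-- `(-1, h)` with `h` of odd order `m` has image of order `2 m` in `PSp` -/
theorem exists_psp_two_mul_of_odd (h2 : (2 : K) ≠ 0) (b c n : ℕ) (hb : 1 ≤ b) (hc : 1 ≤ c)
    (hn : n = b + c) (h : Matrix.symplecticGroup (Fin c) K) (m : ℕ) (hm : orderOf h = m)
    (hodd : Odd m) : ∃ g : Cfsg.PSp n K, orderOf g = 2 * m := by
  obtain ⟨ψ, hψ, hψc⟩ := exists_two_block_hom_scalar (F := K) b c n hn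
  obtain ⟨x, hxdef⟩ : ∃ x, x = ψ (spNegOne b K, h) := ⟨_, rfl⟩
  have hcop : Nat.Coprime 2 m := Nat.coprime_two_left.2 hodd
  have hx : orderOf x = 2 * m := by
    rw [hxdef, orderOf_injective ψ hψ, Prod.orderOf, orderOf_spNegOne h2 b hb, hm]
    exact hcop.lcm_eq_mul
  refine ⟨QuotientGroup.mk x, ?_⟩
  have hne : Nonempty (Fin n) := ⟨⟨0, by omega⟩⟩
  have hd1 : orderOf (QuotientGroup.mk x : Cfsg.PSp n K) ∣ 2 * m := by
    apply orderOf_dvd_of_pow_eq_one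
    rw [← QuotientGroup.mk_pow, ← hx, pow_orderOf_eq_one, QuotientGroup.mk_one]
  have hd2 : 2 * m ∣ orderOf (QuotientGroup.mk x : Cfsg.PSp n K) := by
    obtain ⟨j, hj⟩ : ∃ j, j = orderOf (QuotientGroup.mk x : Cfsg.PSp n K) := ⟨_, rfl⟩
    rw [← hj]
    have h1 : (QuotientGroup.mk x : Cfsg.PSp n K) ^ j = 1 := by
      rw [hj]; exact pow_orderOf_eq_one _
    rw [← QuotientGroup.mk_pow, QuotientGroup.eq_one_iff,
      Cfsg.Agent.Helper2.Sp.mem_center_iff] at h1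
    obtain ⟨a, ha, hxa⟩ := h1
    have hxj : x ^ j = ψ (spNegOne b K ^ j, h ^ j) := by
      rw [hxdef, ← map_pow, Prod.pow_mk]
    rw [hxj] at hxa
    have hua := hψc _ _ a hxa
    have ha1 : a = 1 := by
      rcases mul_self_eq_one_iff.1 ha with h' | h'
      · exact h'
      · exfalso
        have h3 : (h ^ j) ^ 2 = 1 := by
          apply Subtype.ext
          rw [pow_two]
          show ((h ^ j : Matrix.symplecticGroup (Fin c) K) :
              Matrix (Fin c ⊕ Fin c) (Fin c ⊕ Fin c) K) *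
            ((h ^ j : Matrix.symplecticGroup (Fin c) K) :
              Matrix (Fin c ⊕ Fin c) (Fin c ⊕ Fin c) K) = 1
          rw [hua, Matrix.smul_mul, Matrix.one_mul, smul_smul, ha, one_smul]
        rw [← pow_mul] at h3
        have h4 := orderOf_dvd_of_pow_eq_one h3
        rw [hm] at h4
        have h5 : m ∣ j := hcop.symm.dvd_of_dvd_mul_right h4
        have h6 : h ^ j = 1 := by
          rw [← hm] at h5
          exact orderOf_dvd_iff_pow_eq_one.1 h5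
        rw [h6, h'] at hua
        have h7 := congrFun (congrFun hua (Sum.inl ⟨0, hc⟩)) (Sum.inl ⟨0, hc⟩)
        simp at h7
        apply h2
        linear_combination h7
    rw [ha1, one_smul] at hxa
    have h4 : x ^ j = 1 := by
      rw [hxj]
      exact Subtype.ext hxa
    rw [← hx]
    exact orderOf_dvd_of_pow_eq_one h4
  exact Nat.dvd_antisymm hd1 hd2

end Cfsg.Agent.Helper12.BCG
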