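import Mathlib
import Cfsg.Agent.Helper12.BCGraphQ

set_option autoImplicit false

/-! Elements of `PSp_{2n}(q)` whose order is a product of two primes: even orders, and the
necessary conditions. -/

open Matrix Polynomial

namespace Cfsg.Agent.Helper12.BCG

open Cfsg.Agent.Helper12.SpSylow Cfsg.Agent.Helper12.SpGraph Cfsg.Agent.Helper12.SpPrime
  Cfsg.Agent.Helper12.BCSpec Cfsg.Agent.Helper12.PslGraph

universe u

variable {K : Type u} [Field K]

/-- when a power of the image in `PSp` is trivial -/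
theorem mk_pow_eq_one_iff (n : ℕ) (hn : 1 ≤ n) (y : Matrix.symplecticGroup (Fin n) K) (k : ℕ) :
    (QuotientGroup.mk y : Cfsg.PSp n K) ^ k = 1 ↔
      ((y : Matrix (Fin n ⊕ Fin n) (Fin n ⊕ Fin n) K) ^ k = 1 ∨
        (y : Matrix (Fin n ⊕ Fin n) (Fin n ⊕ Fin n) K) ^ k = -1) := by
  have hne : Nonempty (Fin n) := ⟨⟨0, hn⟩⟩
  rw [← QuotientGroup.mk_pow, QuotientGroup.eq_one_iff, Cfsg.Agent.Helper2.Sp.mem_center_iff,
    sp_coe_pow]
  constructor
  · rintro ⟨c, hc, hyc⟩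
    rcases mul_self_eq_one_iff.1 hc with h | h
    · left
      rw [hyc, h, one_smul]
    · right
      rw [hyc, h, neg_smul, one_smul]
  · rintro (h | h)
    · exact ⟨1, by ring, by rw [h, one_smul]⟩
    · exact ⟨-1, by ring, by rw [h, neg_smul, one_smul]⟩

theorem two_ne_zero_of_char (p : ℕ) [Fact p.Prime] [CharP K p] (hp2 : p ≠ 2) : (2 : K) ≠ 0 := by
  have hp : p.Prime := Fact.out
  intro h
  have h3 : ((2 : ℕ) : K) = 0 := by exact_mod_cast h
  rw [CharP.cast_eq_zero_iff K p] at h3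
  exact hp2 ((Nat.prime_dvd_prime_iff_eq hp Nat.prime_two).1 h3)

variable [Fintype K]

/-- `2 s` -/
theorem exists_psp_two_mul (p : ℕ) [Fact p.Prime] [CharP K p] (hp2 : p ≠ 2)
    (hq3 : 3 ≤ Fintype.card K) (n s : ℕ) (hn : 1 ≤ n)
    (hs : s.Prime) (hs2 : s ≠ 2) (hsp : s ≠ p)
    (h : (∃ e : ℕ, 1 ≤ e ∧ e < n ∧ Tor (Fintype.card K) e s) ∨
      Tor (Fintype.card K) n (4 * s)) :
    ∃ g : Cfsg.PSp n K, orderOf g = 2 * s := by
  have h2 : (2 : K) ≠ 0 := two_ne_zero_of_char p hp2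
  have hsodd : Odd s := hs.odd_of_ne_two hs2
  by_cases hex : ∃ e : ℕ, 1 ≤ e ∧ e < n ∧ Tor (Fintype.card K) e s
  · obtain ⟨e, he, hlt, hT⟩ := hex
    obtain ⟨x, hx⟩ := exists_sp_of_tor p e he hq3 s hT
    exact exists_psp_two_mul_of_odd h2 (n - e) e n (by omega) he (by omega) x s hx hsodd
  · have hT : Tor (Fintype.card K) n (4 * s) := by
      rcases h with h | h
      · exact absurd h hex
      · exact h
    push Not at hex
    obtain ⟨x, hx⟩ := exists_sp_of_tor p n hn hq3 (4 * s) hT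
    have hs3 : 3 ≤ s := by
      have := hs.two_le
      omega
    have h1 : (x : Matrix (Fin n ⊕ Fin n) (Fin n ⊕ Fin n) K) ^ (4 * s) = 1 := by
      rw [← sp_pow_eq_one_iff, ← hx]
      exact pow_orderOf_eq_one x
    have h3 : (x : Matrix (Fin n ⊕ Fin n) (Fin n ⊕ Fin n) K) ^ (2 * s) ≠ 1 := by
      rw [Ne, ← sp_pow_eq_one_iff]
      intro h
      have := Nat.le_of_dvd (by omega) (orderOf_dvd_of_pow_eq_one h)
      omega
    have h4 : (x : Matrix (Fin n ⊕ Fin n) (Fin n ⊕ Fin n) K) ^ 4 ≠ 1 := by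
      rw [Ne, ← sp_pow_eq_one_iff]
      intro h
      have := Nat.le_of_dvd (by omega) (orderOf_dvd_of_pow_eq_one h)
      omega
    have hneg := pow_eq_neg_one_of_sp p hp2 n s hs hs2 hsp hex _ (card_sp_index n)
      (recipClosed_of_sp x) h1 h3 h4
    refine ⟨QuotientGroup.mk x, ?_⟩
    apply Nat.dvd_antisymm
    · apply orderOf_dvd_of_pow_eq_one
      rw [mk_pow_eq_one_iff n hn]
      exact Or.inr hneg
    · obtain ⟨j, hj⟩ : ∃ j, j = orderOf (QuotientGroup.mk x : Cfsg.PSp n K) := ⟨_, rfl⟩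
      rw [← hj]
      have h5 : (QuotientGroup.mk x : Cfsg.PSp n K) ^ j = 1 := by
        rw [hj]; exact pow_orderOf_eq_one _
      rw [mk_pow_eq_one_iff n hn] at h5
      have h6 : (x : Matrix (Fin n ⊕ Fin n) (Fin n ⊕ Fin n) K) ^ (2 * j) = 1 := by
        rw [mul_comm, pow_mul]
        rcases h5 with h | h
        · rw [h, one_pow]
        · rw [h]
          simp
      rw [← sp_pow_eq_one_iff] at h6
      have h7 := orderOf_dvd_of_pow_eq_one h6
      rw [hx] at h7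
      have h8 : 2 * (2 * s) ∣ 2 * j := by
        have : 2 * (2 * s) = 4 * s := by ring
        rwa [this]
      exact Nat.dvd_of_mul_dvd_mul_left (by norm_num) h8

/-- `2 p` -/
theorem exists_psp_two_char (p : ℕ) [Fact p.Prime] [CharP K p] (hp2 : p ≠ 2) (n : ℕ)
    (hn : 2 ≤ n) : ∃ g : Cfsg.PSp n K, orderOf g = 2 * p := by
  have hp : p.Prime := Fact.out
  have h2 : (2 : K) ≠ 0 := two_ne_zero_of_char p hp2
  obtain ⟨u, hu⟩ := exists_sp_unipotent (K := K) p 1 le_rfl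
  exact exists_psp_two_mul_of_odd h2 (n - 1) 1 n (by omega) le_rfl (by omega) u p hu
    (hp.odd_of_ne_two hp2)

/-! ### necessary conditions -/

theorem tor_of_psp_odd_mul (p : ℕ) [Fact p.Prime] [CharP K p] (n r s : ℕ) (hn : 1 ≤ n)
    (hr : r.Prime) (hs : s.Prime) (hrs : r ≠ s) (hr2 : r ≠ 2) (hs2 : s ≠ 2) (hrp : r ≠ p)
    (hsp : s ≠ p) (g : Cfsg.PSp n K) (hg : orderOf g = r * s) :
    (∃ e₁ e₂ : ℕ, 1 ≤ e₁ ∧ 1 ≤ e₂ ∧ e₁ + e₂ ≤ n ∧ Tor (Fintype.card K) e₁ r ∧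
      Tor (Fintype.card K) e₂ s) ∨
    (∃ e : ℕ, 1 ≤ e ∧ e ≤ n ∧ Tor (Fintype.card K) e (r * s)) := by
  classical
  have hodd : Odd (r * s) := (hr.odd_of_ne_two hr2).mul (hs.odd_of_ne_two hs2)
  have h1rs : 1 < r * s := by
    have := hr.two_le
    have := hs.two_le
    nlinarith
  obtain ⟨y, hy, -⟩ := exists_lift_orderOf (Subgroup.center (Matrix.symplecticGroup (Fin n) K)) 2
    (r * s) (center_sq_eq_one n hn) (Nat.coprime_two_left.2 hodd) h1rs g hg
  apply tor_of_pow_mul_eq_one p n r s hr hs hrs hr2 hs2 hrp hsp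
    (y : Matrix (Fin n ⊕ Fin n) (Fin n ⊕ Fin n) K) (by rw [card_sp_index]; omega)
    (recipClosed_of_sp y)
  · rw [← sp_pow_eq_one_iff, ← hy]
    exact pow_orderOf_eq_one y
  · rw [Ne, ← sp_pow_eq_one_iff]
    intro h
    have h1 := orderOf_dvd_of_pow_eq_one h
    rw [hy] at h1
    have h3 : s ∣ 1 := by
      have : r * s ∣ r * 1 := by rwa [mul_one]
      exact Nat.dvd_of_mul_dvd_mul_left hr.pos this
    exact hs.one_lt.ne' (Nat.dvd_one.1 h3)
  · rw [Ne, ← sp_pow_eq_one_iff]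
    intro h
    have h1 := orderOf_dvd_of_pow_eq_one h
    rw [hy] at h1
    have h3 : r ∣ 1 := by
      have : r * s ∣ 1 * s := by rwa [one_mul]
      exact Nat.dvd_of_mul_dvd_mul_right hs.pos this
    exact hr.one_lt.ne' (Nat.dvd_one.1 h3)

theorem tor_of_psp_mul_char (p : ℕ) [Fact p.Prime] [CharP K p] (hp2 : p ≠ 2) (n s : ℕ)
    (hn : 2 ≤ n) (hs : s.Prime) (hs2 : s ≠ 2) (hsp : s ≠ p)
    (g : Cfsg.PSp n K) (hg : orderOf g = s * p) :
    ∃ e : ℕ, 1 ≤ e ∧ e < n ∧ Tor (Fintype.card K) e s := by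
  classical
  have hp : p.Prime := Fact.out
  have hodd : Odd (s * p) := (hs.odd_of_ne_two hs2).mul (hp.odd_of_ne_two hp2)
  have h1sp : 1 < s * p := by
    have := hp.two_le
    have := hs.two_le
    nlinarith
  obtain ⟨y, hy, -⟩ := exists_lift_orderOf (Subgroup.center (Matrix.symplecticGroup (Fin n) K)) 2
    (s * p) (center_sq_eq_one n (by omega)) (Nat.coprime_two_left.2 hodd) h1sp g hg
  by_contra hcon
  push Not at hcon
  apply not_pow_mul_char p n s hn hs hs2 hsp hcon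
    (y : Matrix (Fin n ⊕ Fin n) (Fin n ⊕ Fin n) K) (by rw [card_sp_index]; omega)
    (recipClosed_of_sp y)
  · rw [← sp_pow_eq_one_iff, ← hy]
    exact pow_orderOf_eq_one y
  · rw [Ne, ← sp_pow_eq_one_iff]
    intro h
    have h1 := orderOf_dvd_of_pow_eq_one h
    rw [hy] at h1
    have h3 : p ∣ 1 := by
      have : s * p ∣ s * 1 := by rwa [mul_one]
      exact Nat.dvd_of_mul_dvd_mul_left hs.pos this
    exact hp.one_lt.ne' (Nat.dvd_one.1 h3)
  · rw [Ne, ← sp_pow_eq_one_iff]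
    intro h
    have h1 := orderOf_dvd_of_pow_eq_one h
    rw [hy] at h1
    have h3 : s ∣ 1 := by
      have : s * p ∣ 1 * p := by rwa [one_mul]
      exact Nat.dvd_of_mul_dvd_mul_right hp.pos this
    exact hs.one_lt.ne' (Nat.dvd_one.1 h3)

theorem tor_of_psp_two_mul (p : ℕ) [Fact p.Prime] [CharP K p] (hp2 : p ≠ 2) (n s : ℕ)
    (hn : 1 ≤ n) (hs : s.Prime) (hs2 : s ≠ 2) (hsp : s ≠ p)
    (g : Cfsg.PSp n K) (hg : orderOf g = 2 * s) :
    (∃ e : ℕ, 1 ≤ e ∧ e < n ∧ Tor (Fintype.card K) e s) ∨ Tor (Fintype.card K) n (4 * s) := by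
  classical
  by_cases hex : ∃ e : ℕ, 1 ≤ e ∧ e < n ∧ Tor (Fintype.card K) e s
  · exact Or.inl hex
  · right
    push Not at hex
    have hs3 : 3 ≤ s := by
      have := hs.two_le
      omega
    obtain ⟨y, rfl⟩ := QuotientGroup.mk_surjective g
    have hnot : ∀ k : ℕ, 0 < k → k < 2 * s →
        ¬ ((y : Matrix (Fin n ⊕ Fin n) (Fin n ⊕ Fin n) K) ^ k = 1 ∨
          (y : Matrix (Fin n ⊕ Fin n) (Fin n ⊕ Fin n) K) ^ k = -1) := by
      intro k hk0 hk h
      rw [← mk_pow_eq_one_iff n hn] at h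
      have := Nat.le_of_dvd hk0 (orderOf_dvd_of_pow_eq_one h)
      omega
    have h1 : (y : Matrix (Fin n ⊕ Fin n) (Fin n ⊕ Fin n) K) ^ (2 * s) = 1 ∨
        (y : Matrix (Fin n ⊕ Fin n) (Fin n ⊕ Fin n) K) ^ (2 * s) = -1 := by
      rw [← mk_pow_eq_one_iff n hn, ← hg]
      exact pow_orderOf_eq_one _
    have hs' := hnot s (by omega) (by omega)
    have h2' := hnot 2 (by norm_num) (by omega)
    push Not at hs' h2'
    exact tor_four_mul_of_sp p hp2 n s hs hs2 hsp hex _ (card_sp_index n) (recipClosed_of_sp y)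
      h1 hs'.1 hs'.2 h2'.1 h2'.2

end Cfsg.Agent.Helper12.BCG
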