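import Mathlib

set_option autoImplicit false

/-! Sign of a permutation all of whose non-trivial cycles have the same even length. -/

namespace Cfsg.Agent.Helper12.BCSpec

open Equiv Equiv.Perm

theorem cycleType_eq_replicate_of_free {X : Type*} [Fintype X] [DecidableEq X] (σ : Perm X)
    (M : ℕ) (hM0 : 0 < M) (hσ : σ ^ M = 1)
    (hfree : ∀ x j, 0 < j → j < M → (σ ^ j) x = x → σ x = x) :
    σ.cycleType = Multiset.replicate (Multiset.card σ.cycleType) M := by
  rw [Multiset.eq_replicate_card]
  intro n hn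
  have h2 := two_le_of_mem_cycleType hn
  have hdvd : n ∣ M := (dvd_of_mem_cycleType hn).trans (orderOf_dvd_of_pow_eq_one hσ)
  have hle : n ≤ M := Nat.le_of_dvd hM0 hdvd
  obtain ⟨c, τ, rfl, hd, hc, hcn⟩ := mem_cycleType_iff.1 hn
  have hc2 := hc
  obtain ⟨x, hx, -⟩ := hc2
  have hτx : τ x = x := by
    rcases hd x with h | h
    · exact absurd h hx
    · exact h
  have hτj : ∀ j : ℕ, (τ ^ j) x = x := by
    intro j
    induction j with
    | zero => rfl
    | succ j ih => rw [pow_succ, Perm.mul_apply, hτx, ih]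
  have hpow : ∀ j : ℕ, ((c * τ) ^ j) x = (c ^ j) x := by
    intro j
    rw [hd.commute.mul_pow, Perm.mul_apply, hτj]
  by_contra hne
  have hlt : n < M := lt_of_le_of_ne hle hne
  have hcn' : c ^ n = 1 := by
    rw [← hcn, ← hc.orderOf]
    exact pow_orderOf_eq_one c
  have h1 : ((c * τ) ^ n) x = x := by rw [hpow, hcn']; rfl
  have h3 := hfree x n (by omega) hlt h1
  rw [Perm.mul_apply, hτx] at h3
  exact hx h3

/-- the sign of a permutation acting semiregularly (with cycles of even length `M`) off its fixed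
points -/
theorem sign_of_free {X : Type*} [Fintype X] [DecidableEq X] (σ : Perm X)
    (M : ℕ) (hM0 : 0 < M) (hMe : Even M) (hσ : σ ^ M = 1)
    (hfree : ∀ x j, 0 < j → j < M → (σ ^ j) x = x → σ x = x) :
    ∃ c : ℕ, Fintype.card X = Fintype.card (Function.fixedPoints σ) + M * c ∧
      sign σ = (-1) ^ c := by
  have hrep := cycleType_eq_replicate_of_free σ M hM0 hσ hfree
  refine ⟨Multiset.card σ.cycleType, ?_, ?_⟩
  · rw [σ.card_fixedPoints]
    have h1 : σ.cycleType.sum = M * Multiset.card σ.cycleType := by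
      conv_lhs => rw [hrep]
      rw [Multiset.sum_replicate, smul_eq_mul, mul_comm]
    have h2 := σ.sum_cycleType_le
    omega
  · rw [sign_of_cycleType, hrep, Multiset.sum_replicate, Multiset.card_replicate, smul_eq_mul,
      pow_add, pow_mul]
    have : ((-1 : ℤˣ)) ^ M = 1 := hMe.neg_one_pow
    rw [← pow_mul, mul_comm (Multiset.card σ.cycleType) M, pow_mul, this, one_pow, one_mul]

end Cfsg.Agent.Helper12.BCSpec
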