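import Mathlib
import Cfsg.Agent.Helper13.SingerCent

set_option autoImplicit false
set_option linter.unusedSectionVars false

/-! The determinant of an element of order dividing `q^k + 1` centralizing an irreducible element
of prime order on a space of dimension `2k` over `F_q` is `1`. -/

namespace Cfsg.Agent.Helper12.BCSpec

open Module

theorem exists_pow_eq_of_pow_eq_one {G : Type*} [Group G] [Finite G] [IsCyclic G] (d M : ℕ)
    (hcard : Nat.card G = d * M) (hM : 0 < M) (x : G) (hx : x ^ M = 1) : ∃ y : G, y ^ d = x := by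
  obtain ⟨g, hg⟩ := IsCyclic.exists_generator (α := G)
  have hord : orderOf g = d * M := by
    rw [← hcard]
    exact orderOf_eq_card_of_forall_mem_zpowers hg
  obtain ⟨i, hi⟩ : ∃ i : ℕ, g ^ i = x := by
    have := hg x
    rw [← mem_powers_iff_mem_zpowers] at this
    exact this
  have h1 : g ^ (i * M) = 1 := by rw [pow_mul, hi, hx]
  have h2 : d * M ∣ i * M := by
    rw [← hord]
    exact orderOf_dvd_of_pow_eq_one h1
  have h3 : d ∣ i := (Nat.mul_dvd_mul_iff_right hM).1 h2
  obtain ⟨j, rfl⟩ := h3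
  exact ⟨g ^ j, by rw [← pow_mul, mul_comm, hi]⟩

universe u v

theorem det_eq_one_of_commute {F : Type u} [Field F] [Fintype F] {p : ℕ} [Fact p.Prime]
    [CharP F p] {W : Type v} [AddCommGroup W] [Module F W] [FiniteDimensional F W] (k r : ℕ)
    (hk : 1 ≤ k) (hr : r.Prime) (hrp : r ≠ p)
    (hord : orderOf ((Fintype.card F : ℕ) : ZMod r) = 2 * k) (hdim : finrank F W = 2 * k)
    (Y T : Module.End F W) (hYr : Y ^ r = 1) (hY1 : Y ≠ 1) (hc : Commute T Y)
    (hT : T ^ (Fintype.card F ^ k + 1) = 1) : LinearMap.det T = 1 := by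
  classical
  set q := Fintype.card F with hq
  have hq1 : 1 < q := Fintype.one_lt_card
  let b : Basis (Fin (2 * k)) F W := Module.finBasisOfFinrankEq F W hdim
  let e := LinearMap.toMatrixAlgEquiv b
  have hA : (e Y) ^ r = 1 := by rw [← map_pow, hYr, map_one]
  have hA1 : e Y ≠ 1 := by
    intro h
    apply hY1
    apply e.injective
    rw [h, map_one]
  obtain ⟨E, _, _, hfinE, φ, hφinj, hEdim, hcent, hdet⟩ :=
    Cfsg.Agent.Helper13.SingerCent.exists_field_of_prime_order (F := F) (p := p) (q := q) rfl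
      (n := 2 * k) (by omega) hr hrp hord (e Y) hA hA1
  have hcomm : Commute (e T) (e Y) := by
    show e T * e Y = e Y * e T
    rw [← map_mul, ← map_mul, hc.eq]
  obtain ⟨a, ha⟩ := hcent (e T) hcomm
  have haM : a ^ (q ^ k + 1) = 1 := by
    apply hφinj
    rw [map_pow, ← ha, ← map_pow, hT, map_one, map_one]
  have ha0 : a ≠ 0 := by
    intro h0
    rw [h0, zero_pow (by omega)] at haM
    exact zero_ne_one haM
  have := Fintype.ofFinite E
  have hcardE : Fintype.card E = q ^ (2 * k) := by
    rw [← hEdim, hq]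
    exact Module.card_eq_pow_finrank
  have hqk : 1 ≤ q ^ k := Nat.one_le_pow _ _ (by omega)
  have hcardU : Nat.card Eˣ = (q ^ k - 1) * (q ^ k + 1) := by
    rw [Nat.card_eq_fintype_card, Fintype.card_units, hcardE]
    have : q ^ (2 * k) = q ^ k * q ^ k := by rw [two_mul, pow_add]
    rw [this]
    zify [hqk, Nat.one_le_pow _ _ (show 0 < q ^ k * q ^ k by positivity)]
    have h1 : 1 ≤ q ^ k * q ^ k := Nat.one_le_iff_ne_zero.2 (by positivity)
    rw [Nat.cast_sub h1]
    push_cast
    ring
  have hU : (Units.mk0 a ha0) ^ (q ^ k + 1) = 1 := by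
    apply Units.ext
    rw [Units.val_pow_eq_pow_val, Units.val_mk0, haM]
    rfl
  obtain ⟨y, hy⟩ := exists_pow_eq_of_pow_eq_one (q ^ k - 1) (q ^ k + 1) hcardU (by omega) _ hU
  have hya : (y : E) ^ (q ^ k - 1) = a := by
    have := congrArg Units.val hy
    rw [Units.val_pow_eq_pow_val, Units.val_mk0] at this
    exact this
  have hnorm : Algebra.norm F a = 1 := by
    rw [← hya, map_pow]
    have hn0 : Algebra.norm F (y : E) ≠ 0 := by
      rw [Ne, Algebra.norm_eq_zero_iff]
      exact y.ne_zero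
    have h1 : Algebra.norm F (y : E) ^ (q - 1) = 1 := FiniteField.pow_card_sub_one_eq_one _ hn0
    have h2 : q - 1 ∣ q ^ k - 1 := Nat.sub_one_dvd_pow_sub_one q k
    obtain ⟨c, hc'⟩ := h2
    rw [hc', pow_mul, h1, one_pow]
  have h3 : LinearMap.det T = (e T).det := by
    rw [← LinearMap.det_toMatrix b T]
    rfl
  rw [h3, ha, hdet, hnorm]

end Cfsg.Agent.Helper12.BCSpec
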