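import Mathlib
import Cfsg.Agent.Helper12.BCSpecB
import Cfsg.Agent.Helper12.BCSpecC
import Cfsg.Agent.Helper12.BCSpecD

set_option autoImplicit false
set_option linter.unusedSectionVars false

/-! Isometries of order `p (q^k + 1)` of a nondegenerate quadratic space of dimension `2k + 3`
over `F_q`: the structure of the `p`-th power. -/

namespace Cfsg.Agent.Helper12.BCSpec

open Module

section general

variable {F : Type*} [Field F] {V : Type*} [AddCommGroup V] [Module F V]

theorem restrict_pow_apply (f : Module.End F V) (S : Submodule F V) (hS : ∀ v ∈ S, f v ∈ S)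
    (k : ℕ) (w : S) : ((((f.restrict hS : Module.End F S)) ^ k) w : V) = (f ^ k) (w : V) := by
  induction k generalizing w with
  | zero => rfl
  | succ k ih =>
    rw [pow_succ, pow_succ, Module.End.mul_apply, Module.End.mul_apply, ih]
    rfl

theorem pow_mem_of_mem (f : Module.End F V) (S : Submodule F V) (hS : ∀ v ∈ S, f v ∈ S)
    (k : ℕ) (v : V) (hv : v ∈ S) : (f ^ k) v ∈ S := by
  induction k with
  | zero => exact hv
  | succ k ih =>
    rw [pow_succ', Module.End.mul_apply]
    exact hS _ ih

theorem pow_isometry (Q : QuadraticForm F V) (f : Module.End F V) (hf : ∀ v, Q (f v) = Q v)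
    (k : ℕ) (v : V) : Q ((f ^ k) v) = Q v := by
  induction k with
  | zero => rfl
  | succ k ih => rw [pow_succ', Module.End.mul_apply, hf, ih]

theorem det_eq_mul_of_isCompl [FiniteDimensional F V] {U W : Submodule F V} (hc : IsCompl U W)
    (f : Module.End F V) (hU : ∀ u ∈ U, f u ∈ U) (hW : ∀ w ∈ W, f w ∈ W) :
    LinearMap.det f = LinearMap.det (f.restrict hU : Module.End F U) *
      LinearMap.det (f.restrict hW : Module.End F W) := by
  let e := Submodule.prodEquivOfIsCompl U W hc
  have h1 : f = (e : (U × W) →ₗ[F] V) ∘ₗ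
      ((f.restrict hU : Module.End F U).prodMap (f.restrict hW : Module.End F W)) ∘ₗ
        (e.symm : V →ₗ[F] (U × W)) := by
    apply LinearMap.ext
    intro v
    obtain ⟨⟨u, w⟩, rfl⟩ := e.surjective v
    simp only [LinearMap.comp_apply, LinearEquiv.coe_coe, LinearEquiv.symm_apply_apply,
      LinearMap.prodMap_apply]
    rw [Submodule.coe_prodEquivOfIsCompl', Submodule.coe_prodEquivOfIsCompl', map_add]
    rfl
  conv_lhs => rw [h1]
  rw [LinearMap.det_conj, LinearMap.det_prodMap]

theorem isNilpotent_sub_one_of_pow_char [Nontrivial V] (p : ℕ) [Fact p.Prime] [CharP F p]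
    (x : Module.End F V) (hx : x ^ p = 1) : IsNilpotent (x - 1) := by
  have hchar : CharP (Module.End F V) p :=
    charP_of_injective_algebraMap (algebraMap F (Module.End F V)).injective p
  refine ⟨p, ?_⟩
  rw [sub_pow_char_of_commute _ (Commute.one_right x), hx, one_pow, sub_self]

end general


section decomposition

variable {F : Type*} [Field F] [Fintype F] {V : Type*} [AddCommGroup V] [Module F V]
  [FiniteDimensional F V]

theorem decomposition (Q : QuadraticForm F V)
    (hQ : ∀ v : V, (∀ w : V, QuadraticMap.polar Q v w = 0) → v = 0) (k : ℕ) (hk : 2 ≤ k)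
    (hdim : finrank F V = 2 * k + 3) (r : ℕ) (hr : r.Prime) (hrF : ((r : ℕ) : F) ≠ 0)
    (hrq : ¬ r ∣ Fintype.card F) (hord : orderOf ((Fintype.card F : ℕ) : ZMod r) = 2 * k)
    (Y : Module.End F V) (hY : ∀ v, Q (Y v) = Q v) (hYr : Y ^ r = 1) (hY1 : Y ≠ 1) :
    IsCompl (LinearMap.ker (Y - 1)) (LinearMap.range (Y - 1)) ∧
    finrank F (LinearMap.ker (Y - 1)) = 3 ∧ finrank F (LinearMap.range (Y - 1)) = 2 * k ∧
    (∀ u ∈ LinearMap.ker (Y - 1), ∀ w ∈ LinearMap.range (Y - 1), QuadraticMap.polar Q u w = 0) ∧
    (∀ u ∈ LinearMap.ker (Y - 1), (∀ u' ∈ LinearMap.ker (Y - 1), QuadraticMap.polar Q u u' = 0) →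
      u = 0) ∧
    (∀ S : Submodule F V, S ≤ LinearMap.range (Y - 1) → (∀ v ∈ S, Y v ∈ S) →
      S = ⊥ ∨ S = LinearMap.range (Y - 1)) := by
  have hfinV : Finite V := Module.finite_of_finite F
  have hcompl := isCompl_ker_range hrF Y hYr
  set U := LinearMap.ker (Y - 1) with hU
  set W := LinearMap.range (Y - 1) with hW
  have hsum : finrank F U + finrank F W = finrank F V := Submodule.finrank_add_eq_of_isCompl hcompl
  have hUV : finrank F U ≤ finrank F V := Submodule.finrank_le U
  have hdvd : 2 * k ∣ finrank F W := by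
    have h1 := card_modEq_of_pow_eq_one hr Y hYr
    have h2 := orderOf_dvd_sub_of_modEq hr hrq hUV h1
    rw [hord] at h2
    have : finrank F V - finrank F U = finrank F W := by omega
    rwa [this] at h2
  have hWne : W ≠ ⊥ := by
    intro h0
    apply hY1
    have : Y - 1 = 0 := LinearMap.range_eq_bot.1 h0
    exact sub_eq_zero.1 this
  have hWpos : 0 < finrank F W := by
    rw [Module.finrank_pos_iff_exists_ne_zero]
    obtain ⟨w, hw, hw0⟩ := (Submodule.ne_bot_iff W).1 hWne
    exact ⟨⟨w, hw⟩, fun h => hw0 (congrArg Subtype.val h)⟩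
  have hWdim : finrank F W = 2 * k := by
    obtain ⟨c, hc⟩ := hdvd
    have hc1 : 1 ≤ c := by
      rcases Nat.eq_zero_or_pos c with h | h
      · rw [h, mul_zero] at hc; omega
      · exact h
    have hc2 : c < 2 := by
      by_contra hcon
      push Not at hcon
      have : 2 * k * 2 ≤ 2 * k * c := Nat.mul_le_mul_left _ hcon
      omega
    have : c = 1 := by omega
    rw [hc, this, mul_one]
  have hUdim : finrank F U = 3 := by omega
  have horth : ∀ u ∈ U, ∀ w ∈ W, QuadraticMap.polar Q u w = 0 := by
    intro u hu w hw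
    rw [hU, LinearMap.mem_ker, LinearMap.sub_apply, Module.End.one_apply, sub_eq_zero] at hu
    obtain ⟨x, rfl⟩ := hw
    rw [LinearMap.sub_apply, Module.End.one_apply, QuadraticMap.polar_sub_right]
    have := polar_isometry Q Y hY u x
    rw [hu] at this
    rw [this, sub_self]
  refine ⟨hcompl, hUdim, hWdim, horth, ?_, ?_⟩
  · intro u hu hall
    apply hQ
    intro v
    have hv : v ∈ U ⊔ W := by rw [hcompl.sup_eq_top]; trivial
    obtain ⟨u', hu', w, hw, rfl⟩ := Submodule.mem_sup.1 hv
    rw [QuadraticMap.polar_add_right, hall u' hu', horth u hu w hw, add_zero]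
  · intro S hSW hS
    have h1 : 2 * k ∣ finrank F S := by
      rw [← hord]
      apply orderOf_dvd_finrank hr hrq Y hYr S hS
      intro v hv hYv
      have hvU : v ∈ U := by
        rw [hU, LinearMap.mem_ker, LinearMap.sub_apply, Module.End.one_apply, hYv, sub_self]
      have : v ∈ U ⊓ W := ⟨hvU, hSW hv⟩
      rw [hcompl.inf_eq_bot] at this
      exact this
    have h2 : finrank F S ≤ finrank F W := Submodule.finrank_mono hSW
    obtain ⟨c, hc⟩ := h1
    rcases Nat.eq_zero_or_pos c with h | h
    · left
      rw [h, mul_zero] at hc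
      exact Submodule.finrank_eq_zero.1 hc
    · right
      have : 2 * k * 1 ≤ 2 * k * c := Nat.mul_le_mul_left _ h
      apply Submodule.eq_of_le_of_finrank_eq hSW
      omega

end decomposition

end Cfsg.Agent.Helper12.BCSpec
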