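import Mathlib
import Cfsg.Agent.Helper12.BCSpecE

set_option autoImplicit false
set_option linter.unusedSectionVars false
set_option maxHeartbeats 1000000

/-! Core structure theorem for isometries of order `p (q^k + 1)` in dimension `2k + 3`. -/

namespace Cfsg.Agent.Helper12.BCSpec

open Module

universe u v

theorem core {F : Type u} [Field F] [Fintype F] {p : ℕ} [Fact p.Prime] [CharP F p] (hp3 : 3 ≤ p)
    {V : Type v} [AddCommGroup V] [Module F V] [FiniteDimensional F V]
    (Q : QuadraticForm F V)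
    (hQ : ∀ v : V, (∀ w : V, QuadraticMap.polar Q v w = 0) → v = 0) (k : ℕ) (hk : 2 ≤ k)
    (hdim : finrank F V = 2 * k + 3) (r : ℕ) (hr : r.Prime) (hrp : r ≠ p)
    (hord : orderOf ((Fintype.card F : ℕ) : ZMod r) = 2 * k)
    (hrM : r ∣ Fintype.card F ^ k + 1)
    (G : Module.End F V) (hG : ∀ v, Q (G v) = Q v)
    (hGN : G ^ (p * (Fintype.card F ^ k + 1)) = 1)
    (hGord : ∀ j, G ^ j = 1 → p * (Fintype.card F ^ k + 1) ∣ j)
    (hdet : LinearMap.det G = 1) :
    ∃ U : Submodule F V, finrank F U = 3 ∧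
      (∀ u ∈ U, (∀ u' ∈ U, QuadraticMap.polar Q u u' = 0) → u = 0) ∧
      ∀ j, 0 < j → j < Fintype.card F ^ k + 1 → ∀ v, ((G ^ p) ^ j) v = v ↔ v ∈ U := by
  classical
  have hp : p.Prime := Fact.out
  have hfinV : Finite V := Module.finite_of_finite F
  obtain ⟨q, hq⟩ : ∃ q, q = Fintype.card F := ⟨_, rfl⟩
  rw [← hq] at hord hrM hGN hGord ⊢
  obtain ⟨M, hM⟩ : ∃ M, M = q ^ k + 1 := ⟨_, rfl⟩
  rw [← hM] at hrM hGN hGord ⊢
  have hq1 : 1 < q := by rw [hq]; exact Fintype.one_lt_card
  have hqk : 1 ≤ q ^ k := Nat.one_le_pow _ _ (by omega)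
  have hM2 : 2 ≤ M := by omega
  have hrF : ((r : ℕ) : F) ≠ 0 := by
    intro h0
    rw [CharP.cast_eq_zero_iff F p] at h0
    exact hrp ((Nat.prime_dvd_prime_iff_eq hp hr).1 h0).symm
  have hpq : p ∣ q := by
    obtain ⟨f, -, hf⟩ := FiniteField.card F p
    rw [hq, hf]
    exact dvd_pow_self p f.pos.ne'
  have hrq : ¬ r ∣ q := by
    obtain ⟨f, -, hf⟩ := FiniteField.card F p
    intro h
    rw [hq, hf] at h
    exact hrp ((Nat.prime_dvd_prime_iff_eq hr hp).1 (hr.dvd_of_dvd_pow h))
  have hMp : M.Coprime p := by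
    apply Nat.Coprime.symm
    rw [Nat.Prime.coprime_iff_not_dvd hp]
    intro h
    rw [hM] at h
    have h1 : p ∣ q ^ k := dvd_pow hpq (by omega)
    have := (Nat.dvd_add_right h1).1 h
    have := Nat.le_of_dvd (by norm_num) this
    omega
  have h2F : (2 : F) ≠ 0 := by
    intro h0
    have h1 : ((2 : ℕ) : F) = 0 := by exact_mod_cast h0
    rw [CharP.cast_eq_zero_iff F p] at h1
    have := Nat.le_of_dvd (by norm_num) h1
    omega
  have hntV : Nontrivial V := by
    apply Module.nontrivial_of_finrank_pos (R := F)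
    rw [hdim]; omega
  -- the element of order `r`
  obtain ⟨c, hc⟩ := hrM
  have hc0 : 0 < c := by
    rcases Nat.eq_zero_or_pos c with h | h
    · rw [h, mul_zero] at hc; omega
    · exact h
  obtain ⟨Y, hYdef⟩ : ∃ Y, Y = G ^ (p * c) := ⟨_, rfl⟩
  have hYr : Y ^ r = 1 := by
    rw [hYdef, ← pow_mul, show p * c * r = p * M by rw [hc]; ring, hGN]
  have hY1 : Y ≠ 1 := by
    intro h
    rw [hYdef] at h
    have h1 := hGord _ h
    have h3 : M ∣ c := (Nat.mul_dvd_mul_iff_left hp.pos).1 h1
    have h4 := Nat.le_of_dvd hc0 h3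
    have h5 : 2 * c ≤ r * c := Nat.mul_le_mul_right _ hr.two_le
    omega
  have hYiso : ∀ v, Q (Y v) = Q v := by
    intro v
    rw [hYdef]
    exact pow_isometry Q G hG _ v
  obtain ⟨hcompl, hUdim, hWdim, horth, hUnd, hirr⟩ :=
    decomposition Q hQ k hk hdim r hr hrF (hq ▸ hrq) (hq ▸ hord) Y hYiso hYr hY1
  obtain ⟨U, hU⟩ : ∃ U, U = LinearMap.ker (Y - 1) := ⟨_, rfl⟩
  obtain ⟨W, hW⟩ : ∃ W, W = LinearMap.range (Y - 1) := ⟨_, rfl⟩
  rw [← hU, ← hW] at hcompl horth
  rw [← hU] at hUdim hUnd
  rw [← hW] at hWdim hirr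
  have hWne : W ≠ ⊥ := by
    intro h0
    rw [h0, finrank_bot] at hWdim
    omega
  -- `h` and `s`
  obtain ⟨h, hh⟩ : ∃ h, h = G ^ M := ⟨_, rfl⟩
  obtain ⟨s, hs⟩ : ∃ s, s = G ^ p := ⟨_, rfl⟩
  rw [← hs]
  have hhp : h ^ p = 1 := by rw [hh, ← pow_mul, mul_comm, hGN]
  have hsM : s ^ M = 1 := by rw [hs, ← pow_mul, hGN]
  have hh1 : h ≠ 1 := by
    intro e
    rw [hh] at e
    have h1 := hGord _ e
    have h3 : p * M ≤ M := Nat.le_of_dvd (by omega) h1
    have h4 : 3 * M ≤ p * M := Nat.mul_le_mul_right _ hp3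
    omega
  have hcYh : Commute h Y := by rw [hh, hYdef]; exact (Commute.refl G).pow_pow _ _
  have hcYs : Commute s Y := by rw [hs, hYdef]; exact (Commute.refl G).pow_pow _ _
  have hcsh : Commute s h := by rw [hs, hh]; exact (Commute.refl G).pow_pow _ _
  have hYU : ∀ (T : Module.End F V), Commute T Y → ∀ u ∈ U, T u ∈ U := by
    intro T hT u hu
    rw [hU] at hu ⊢
    exact map_ker_of_commute Y T hT u hu
  have hYW : ∀ (T : Module.End F V), Commute T Y → ∀ w ∈ W, T w ∈ W := by
    intro T hT w hw
    rw [hW] at hw ⊢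
    exact map_range_of_commute Y T hT w hw
  have hUh := hYU h hcYh
  have hWh := hYW h hcYh
  have hUs := hYU s hcYs
  have hWs := hYW s hcYs
  have hWY := hYW Y (Commute.refl Y)
  have hsplit : ∀ v : V, ∃ u ∈ U, ∃ w ∈ W, u + w = v := by
    intro v
    have hv : v ∈ U ⊔ W := by rw [hcompl.sup_eq_top]; trivial
    exact Submodule.mem_sup.1 hv
  -- a general tool: the fixed space on `W` of an element commuting with `Y`
  have hfix : ∀ (T : Module.End F V), Commute T Y → (∃ w ∈ W, w ≠ 0 ∧ T w = w) →
      ∀ w ∈ W, T w = w := by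
    intro T hT ⟨w0, hw0, hw0ne, hTw0⟩ w hw
    have hS := hirr (W ⊓ LinearMap.ker (T - 1)) inf_le_left (by
      intro v hv
      obtain ⟨hv1, h3⟩ := Submodule.mem_inf.1 hv
      refine Submodule.mem_inf.2 ⟨hWY v hv1, ?_⟩
      have h1 : Commute Y (T - 1) := (hT.symm).sub_right (Commute.one_right Y)
      rw [LinearMap.mem_ker] at h3 ⊢
      rw [← Module.End.mul_apply, ← h1.eq, Module.End.mul_apply, h3, map_zero])
    rcases hS with h0 | h0
    · exfalso
      have : w0 ∈ W ⊓ LinearMap.ker (T - 1) := by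
        refine Submodule.mem_inf.2 ⟨hw0, ?_⟩
        rw [LinearMap.mem_ker, LinearMap.sub_apply, Module.End.one_apply, hTw0, sub_self]
      rw [h0] at this
      exact hw0ne this
    · have : w ∈ W ⊓ LinearMap.ker (T - 1) := by rw [h0]; exact hw
      have h3 := (Submodule.mem_inf.1 this).2
      rw [LinearMap.mem_ker, LinearMap.sub_apply, Module.End.one_apply, sub_eq_zero] at h3
      exact h3
  -- `h` is trivial on `W`
  have hhW : ∀ w ∈ W, h w = w := by
    apply hfix h hcYh
    obtain ⟨n, hn⟩ := isNilpotent_sub_one_of_pow_char p h hhp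
    obtain ⟨w0, hw0, hw0ne⟩ := (Submodule.ne_bot_iff W).1 hWne
    have hWh1 : ∀ w ∈ W, (h - 1) w ∈ W := by
      intro w hw
      rw [LinearMap.sub_apply, Module.End.one_apply]
      exact W.sub_mem (hWh w hw) hw
    have hex : ∃ i, (((h - 1) ^ i : Module.End F V)) w0 = 0 := ⟨n, by rw [hn]; rfl⟩
    set m := Nat.find hex with hm
    have hm0 : m ≠ 0 := by
      intro h0
      have := Nat.find_spec hex
      rw [← hm, h0] at this
      exact hw0ne this
    obtain ⟨m', hm'⟩ := Nat.exists_eq_succ_of_ne_zero hm0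
    refine ⟨((h - 1) ^ m') w0, pow_mem_of_mem (h - 1) W hWh1 m' w0 hw0, ?_, ?_⟩
    · intro h0
      have := Nat.find_min hex (show m' < m by omega)
      exact this h0
    · have := Nat.find_spec hex
      rw [← hm, hm', pow_succ', Module.End.mul_apply, LinearMap.sub_apply,
        Module.End.one_apply, sub_eq_zero] at this
      exact this
  -- restrictions to `U`
  have hntU : Nontrivial U := by
    apply Module.nontrivial_of_finrank_pos (R := F)
    rw [hUdim]; norm_num
  set hU' : Module.End F U := h.restrict hUh with hhU'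
  set sU : Module.End F U := s.restrict hUs with hsU
  have hhU1 : hU' ≠ 1 := by
    intro e
    apply hh1
    apply LinearMap.ext
    intro v
    obtain ⟨u, hu, w, hw, rfl⟩ := hsplit v
    have h1 : h u = u := by
      have := congrArg (fun f : Module.End F U => ((f ⟨u, hu⟩ : U) : V)) e
      exact this
    rw [map_add, h1, hhW w hw]
    rfl
  have hQU : ∀ v : U, (∀ w : U, QuadraticMap.polar (Q.comp U.subtype) v w = 0) → v = 0 := by
    intro v hv
    apply Subtype.ext
    apply hUnd v.1 v.2
    intro u' hu'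
    have := hv ⟨u', hu'⟩
    simpa [QuadraticMap.polar] using this
  have hL5 := eq_one_or_neg_one_of_commute_unipotent p hp3 (Q.comp U.subtype) hQU hUdim hU' sU
    (by
      intro v
      show Q (h v.1) = Q v.1
      rw [hh]; exact pow_isometry Q G hG _ _)
    (by
      intro v
      show Q (s v.1) = Q v.1
      rw [hs]; exact pow_isometry Q G hG _ _)
    hhU1
    (isNilpotent_sub_one_of_pow_char p hU' (by
      apply LinearMap.ext
      intro w
      apply Subtype.ext
      rw [restrict_pow_apply, hhp]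
      rfl))
    (by
      apply LinearMap.ext
      intro w
      apply Subtype.ext
      show s (h w.1) = h (s w.1)
      rw [← Module.End.mul_apply, hcsh.eq, Module.End.mul_apply])
    M hMp
    (by
      apply LinearMap.ext
      intro w
      apply Subtype.ext
      rw [restrict_pow_apply, hsM]
      rfl)
  have hdets : LinearMap.det s = 1 := by
    rw [hs, map_pow, hdet, one_pow]
  rcases hL5 with hs1 | hs1
  swap
  · -- the case `s = -1` on `U` is impossible
    exfalso
    have h1 := det_eq_mul_of_isCompl hcompl s hUs hWs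
    rw [hdets, ← hsU, hs1] at h1
    have h3 : LinearMap.det (-1 : Module.End F U) = -1 := by
      have : (-1 : Module.End F U) = (-1 : F) • (1 : Module.End F U) := by
        apply LinearMap.ext
        intro x
        simp
      rw [this, LinearMap.det_smul, hUdim, map_one]
      norm_num
    rw [h3] at h1
    set YW : Module.End F W := Y.restrict hWY with hYW'
    set sW : Module.End F W := s.restrict hWs with hsW
    have h4 : LinearMap.det sW = 1 := by
      apply det_eq_one_of_commute (p := p) k r (by omega) hr hrp (hq ▸ hord) hWdim YW sW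
      · apply LinearMap.ext
        intro w
        apply Subtype.ext
        rw [restrict_pow_apply, hYr]
        rfl
      · intro e
        obtain ⟨w0, hw0, hw0ne⟩ := (Submodule.ne_bot_iff W).1 hWne
        have h5 : Y w0 = w0 := by
          have := congrArg (fun f : Module.End F W => ((f ⟨w0, hw0⟩ : W) : V)) e
          exact this
        have h6 : w0 ∈ U := by
          rw [hU, LinearMap.mem_ker, LinearMap.sub_apply, Module.End.one_apply, h5, sub_self]
        have : w0 ∈ U ⊓ W := ⟨h6, hw0⟩
        rw [hcompl.inf_eq_bot] at this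
        exact hw0ne this
      · apply LinearMap.ext
        intro w
        apply Subtype.ext
        show s (Y w.1) = Y (s w.1)
        rw [← Module.End.mul_apply, hcYs.eq, Module.End.mul_apply]
      · rw [← hq, ← hM]
        apply LinearMap.ext
        intro w
        apply Subtype.ext
        rw [restrict_pow_apply, hsM]
        rfl
    rw [h4, mul_one] at h1
    apply h2F
    linear_combination h1
  -- the case `s = 1` on `U`
  have hsUfix : ∀ u ∈ U, s u = u := by
    intro u hu
    have := congrArg (fun f : Module.End F U => ((f ⟨u, hu⟩ : U) : V)) hs1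
    exact this
  have hsjU : ∀ (j : ℕ), ∀ u ∈ U, (s ^ j) u = u := by
    intro j u hu
    induction j with
    | zero => rfl
    | succ j ih => rw [pow_succ, Module.End.mul_apply, hsUfix u hu, ih]
  refine ⟨U, hUdim, hUnd, ?_⟩
  intro j hj0 hjM v
  constructor
  · intro hv
    obtain ⟨u, hu, w, hw, rfl⟩ := hsplit v
    rw [map_add, hsjU j u hu] at hv
    have hw' : (s ^ j) w = w := add_left_cancel hv
    by_cases hw0 : w = 0
    · rw [hw0, add_zero]; exact hu
    · exfalso
      have hcj : Commute (s ^ j) Y := hcYs.pow_left j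
      have hall := hfix (s ^ j) hcj ⟨w, hw, hw0, hw'⟩
      have h1 : s ^ j = 1 := by
        apply LinearMap.ext
        intro x
        obtain ⟨u', hu', w', hw'', rfl⟩ := hsplit x
        rw [map_add, hsjU j u' hu', hall w' hw'']
        rfl
      rw [hs, ← pow_mul] at h1
      have h3 := hGord _ h1
      have h4 : M ∣ j := (Nat.mul_dvd_mul_iff_left hp.pos).1 h3
      have := Nat.le_of_dvd hj0 h4
      omega
  · intro hv
    exact hsjU j v hv

end Cfsg.Agent.Helper12.BCSpec
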