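import Mathlib
import Cfsg.Agent.Helper28.Spin3
import Cfsg.Agent.Helper12.BCSpecA
import Cfsg.Agent.Helper12.BCSpecH

set_option autoImplicit false
set_option linter.unusedSectionVars false

/-! The spinor sign of an element acting semiregularly off a three-dimensional fixed space. -/

namespace Cfsg.Agent.Helper12.BCSpec

open Module Matrix Cfsg.Agent.Helper28.Spin

variable {F : Type*} [Field F] [Fintype F] {ι : Type} [Fintype ι] [DecidableEq ι]
variable (Q : QuadraticForm F (ι → F))

theorem extO_smul_val (g : ↥(Cfsg.isometryGroup F ⇑Q)) (x : N1 ⇑(extQ Q)) :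
    (extO Q g • x).1 =
      Sum.elim (x.1 ∘ Sum.inl) (((g : GL ι F) : Matrix ι ι F) *ᵥ (x.1 ∘ Sum.inr)) := by
  rw [smul_val, extO_val, Matrix.fromBlocks_mulVec]
  simp

theorem extO_smul_eq_iff (g : ↥(Cfsg.isometryGroup F ⇑Q)) (x : N1 ⇑(extQ Q)) :
    extO Q g • x = x ↔ ((g : GL ι F) : Matrix ι ι F) *ᵥ (x.1 ∘ Sum.inr) = x.1 ∘ Sum.inr := by
  constructor
  · intro h
    have h1 := congrArg Subtype.val h
    rw [extO_smul_val] at h1
    have h2 := congrArg (fun y => y ∘ Sum.inr) h1
    simpa using h2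
  · intro h
    apply Subtype.ext
    rw [extO_smul_val, h]
    funext i
    rcases i with i | i <;> rfl

/-- the number of norm-one vectors of the extended form lying over a subspace -/
theorem card_over_submodule (U : Submodule F (ι → F)) :
    Nat.card {x : N1 ⇑(extQ Q) // x.1 ∘ Sum.inr ∈ U} =
      (Fintype.card F - 1) * Nat.card U + Fintype.card F * Nat.card {u : U // Q u.1 = 1} := by
  classical
  have : Fintype U := Fintype.ofFinite U
  have e : {x : N1 ⇑(extQ Q) // x.1 ∘ Sum.inr ∈ U} ≃
      {y : U × (F × F) // y.2.1 * y.2.2 + Q y.1.1 = 1} :=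
    { toFun := fun x => ⟨(⟨x.1.1 ∘ Sum.inr, x.2⟩, (x.1.1 (Sum.inl 0), x.1.1 (Sum.inl 1))), by
        have := x.1.2
        rw [extQ_apply] at this
        exact this⟩
      invFun := fun y => ⟨⟨Sum.elim ![y.1.2.1, y.1.2.2] y.1.1.1, by
        rw [extQ_elim]
        exact y.2⟩, by
        change (Sum.elim ![y.1.2.1, y.1.2.2] y.1.1.1 : Fin 2 ⊕ ι → F) ∘ Sum.inr ∈ U
        rw [Sum.elim_comp_inr]
        exact y.1.1.2⟩
      left_inv := by
        rintro ⟨⟨x, hx⟩, hxU⟩
        apply Subtype.ext
        apply Subtype.ext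
        exact elim_eta x
      right_inv := by
        rintro ⟨⟨⟨u, hu⟩, ⟨a, b⟩⟩, hy⟩
        rfl }
  rw [Nat.card_congr e, Nat.card_eq_fintype_card, card_peel (X := U) (fun u => Q u.1) 1,
    Nat.card_eq_fintype_card, Nat.card_eq_fintype_card]

/-- the total number of norm-one vectors of the extended form -/
theorem card_N1_extQ :
    Nat.card (N1 ⇑(extQ Q)) =
      (Fintype.card F - 1) * Fintype.card F ^ Fintype.card ι +
        Fintype.card F * Nat.card {w : ι → F // Q w = 1} := by
  classical
  have h1 : Nat.card {w : ι → F // Q w = 1} = Fintype.card (N1 ⇑Q) := by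
    rw [← Nat.card_eq_fintype_card]
    rfl
  rw [Nat.card_congr (decomp Q), Nat.card_eq_fintype_card, Fintype.card_sum, Fintype.card_prod,
    Fintype.card_prod, Fintype.card_units, Fintype.card_fun, h1]

end Cfsg.Agent.Helper12.BCSpec
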