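import Mathlib
import Cfsg.Agent.Helper12.BCSpecJ

set_option autoImplicit false
set_option linter.unusedSectionVars false

/-! The spinor sign of an element acting semiregularly off a three-dimensional fixed space:
the parity computation. -/

namespace Cfsg.Agent.Helper12.BCSpec

open Module Matrix Cfsg.Agent.Helper28.Spin

theorem arith_parity (q k c s₁ : ℕ) (hq : Odd q) (hq3 : 3 ≤ q) (hk : 1 ≤ k)
    (hs : s₁ + q = q ^ 2 ∨ s₁ = q ^ 2 + q)
    (h : (q - 1) * q ^ (2 * k + 3) + q * (q ^ (2 * k + 2) + q ^ (k + 1)) =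
      ((q - 1) * q ^ 3 + q * s₁) + (q ^ k + 1) * c) : Odd c := by
  obtain ⟨r, rfl⟩ : ∃ r, q = r + 1 := ⟨q - 1, by omega⟩
  simp only [Nat.add_sub_cancel] at h
  obtain ⟨m, hm⟩ := (hq.pow : Odd ((r + 1) ^ k))
  have e1 : (r + 1) ^ (2 * k + 3) = ((r + 1) ^ k) ^ 2 * (r + 1) ^ 3 := by ring
  have e2 : (r + 1) ^ (2 * k + 2) = ((r + 1) ^ k) ^ 2 * (r + 1) ^ 2 := by ring
  have e3 : (r + 1) ^ (k + 1) = (r + 1) ^ k * (r + 1) := by ring
  have hQk : 3 ≤ (r + 1) ^ k := le_trans hq3 (Nat.le_self_pow (by omega) _)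
  have hcop0 : Nat.Coprime ((r + 1) ^ k + 1) ((r + 1) ^ k) := by
    rw [Nat.coprime_self_add_left]
    exact Nat.coprime_one_left _
  rw [e1, e2, e3, hm] at h
  rw [hm] at hQk hcop0
  rcases hs with hs | hs
  · have hs' : s₁ = r ^ 2 + r := by nlinarith
    subst hs'
    have hc : (2 * m + 1 + 1) * c = (2 * m + 1 + 1) * (2 * m * (r + 1) ^ 4 + (r + 1) ^ 2) := by
      zify at h ⊢
      linear_combination -h
    have hc' := Nat.eq_of_mul_eq_mul_left (by omega) hc
    rw [hc']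
    have he : Even (2 * m * (r + 1) ^ 4) := by
      rw [mul_assoc]
      exact even_two_mul _
    exact he.add_odd hq.pow
  · subst hs
    exfalso
    have hdvd : (2 * m + 1 + 1) ∣ 2 * (r + 1) ^ 2 := by
      have : ((2 * m + 1 + 1 : ℕ) : ℤ) ∣ ((2 * (r + 1) ^ 2 : ℕ) : ℤ) := by
        refine ⟨(2 * m * (r + 1) ^ 4 + (r + 1) ^ 2 : ℤ) - c, ?_⟩
        zify at h
        push_cast
        linear_combination -h
      exact Int.natCast_dvd_natCast.1 this
    have hcop : Nat.Coprime (2 * m + 1 + 1) ((r + 1) ^ 2) := by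
      apply Nat.Coprime.pow_right
      have hd : (r + 1) ∣ 2 * m + 1 := by
        rw [← hm]
        exact dvd_pow_self _ (by omega)
      exact Nat.Coprime.coprime_dvd_right hd hcop0
    have h2 := Nat.le_of_dvd (by norm_num) (hcop.dvd_of_dvd_mul_right hdvd)
    omega

variable {F : Type*} [Field F] [Fintype F] {ι : Type} [Fintype ι] [DecidableEq ι]
variable (Q : QuadraticForm F (ι → F))

theorem theta_eq_neg_one (h2 : (2 : F) ≠ 0) (k : ℕ) (hk : 1 ≤ k)
    (hcard : Fintype.card ι = 2 * k + 3)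
    (hS : Nat.card {w : ι → F // Q w = 1} =
      Fintype.card F ^ (2 * k + 2) + Fintype.card F ^ (k + 1))
    (s : ↥(Cfsg.isometryGroup F ⇑Q)) (hsM : s ^ (Fintype.card F ^ k + 1) = 1)
    (U : Submodule F (ι → F)) (hU3 : finrank F U = 3)
    (hUnd : ∀ u ∈ U, (∀ u' ∈ U, QuadraticMap.polar Q u u' = 0) → u = 0)
    (hfix : ∀ j, 0 < j → j < Fintype.card F ^ k + 1 → ∀ v : ι → F,
      (((s ^ j : ↥(Cfsg.isometryGroup F ⇑Q)) : GL ι F) : Matrix ι ι F) *ᵥ v = v ↔ v ∈ U) :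
    theta Q s = -1 := by
  classical
  obtain ⟨q, hqdef⟩ : ∃ q, q = Fintype.card F := ⟨_, rfl⟩
  rw [← hqdef] at hS hsM hfix
  have hq : Odd q := by rw [hqdef]; exact card_odd h2
  have hq3 : 3 ≤ q := by
    have h1 : 1 < q := by rw [hqdef]; exact Fintype.one_lt_card
    obtain ⟨t, ht⟩ := hq
    omega
  obtain ⟨M, hMdef⟩ : ∃ M, M = q ^ k + 1 := ⟨_, rfl⟩
  rw [← hMdef] at hsM hfix
  have hqk : 3 ≤ q ^ k := le_trans hq3 (Nat.le_self_pow (by omega) _)
  have hM2 : 2 < M := by omega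
  set σ : Equiv.Perm (N1 ⇑(extQ Q)) := MulAction.toPerm (extO Q s) with hσ
  have hσpow : ∀ j : ℕ, σ ^ j = MulAction.toPerm (extO Q (s ^ j)) := by
    intro j
    have h1 : σ = MulAction.toPermHom _ (N1 ⇑(extQ Q)) (extO Q s) := rfl
    rw [h1, ← map_pow, ← map_pow]
    rfl
  have hσM : σ ^ M = 1 := by
    rw [hσpow, hsM, map_one]
    exact map_one (MulAction.toPermHom _ (N1 ⇑(extQ Q)))
  have hfixσ : ∀ j, 0 < j → j < M → ∀ x, (σ ^ j) x = x ↔ x.1 ∘ Sum.inr ∈ U := by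
    intro j hj hjM x
    rw [hσpow, MulAction.toPerm_apply, extO_smul_eq_iff, hfix j hj hjM]
  have hfixσ1 : ∀ x, σ x = x ↔ x.1 ∘ Sum.inr ∈ U := by
    intro x
    have := hfixσ 1 one_pos (by omega) x
    rwa [pow_one] at this
  have hfree : ∀ x j, 0 < j → j < M → (σ ^ j) x = x → σ x = x := by
    intro x j hj hjM hx
    exact (hfixσ1 x).2 ((hfixσ j hj hjM x).1 hx)
  have hMe : Even M := by
    rw [hMdef]
    exact Odd.add_one hq.pow
  obtain ⟨c, hc, hsign⟩ := sign_of_free σ M (by omega) hMe hσM hfree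
  have hX : Fintype.card (N1 ⇑(extQ Q)) =
      (q - 1) * q ^ (2 * k + 3) + q * (q ^ (2 * k + 2) + q ^ (k + 1)) := by
    rw [← Nat.card_eq_fintype_card, card_N1_extQ, hcard, hS, hqdef]
  have hfinU : Module.Finite F U := inferInstance
  have hUcard : Nat.card U = q ^ 3 := by
    rw [Module.natCard_eq_pow_finrank (K := F) (V := U), hU3, Nat.card_eq_fintype_card, hqdef]
  have hFix : Fintype.card (Function.fixedPoints σ) =
      (q - 1) * q ^ 3 + q * Nat.card {u : U // Q u.1 = 1} := by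
    rw [← Nat.card_eq_fintype_card]
    have e : ↥(Function.fixedPoints σ) ≃ {x : N1 ⇑(extQ Q) // x.1 ∘ Sum.inr ∈ U} :=
      Equiv.subtypeEquivRight (fun x => hfixσ1 x)
    rw [Nat.card_congr e, card_over_submodule, hUcard, hqdef]
  have hs₁ := card_sphere_three h2 (Q.comp U.subtype) (by
    intro u hu
    have h1 := hUnd u.1 u.2 (fun u' hu' => by
      have := hu ⟨u', hu'⟩
      exact this)
    exact Subtype.ext h1) hU3
  have hs₁' : Nat.card {u : U // Q u.1 = 1} + q = q ^ 2 ∨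
      Nat.card {u : U // Q u.1 = 1} = q ^ 2 + q := by
    rw [hqdef]
    exact hs₁
  have hodd := arith_parity q k c _ hq hq3 hk hs₁' (by rw [← hX, ← hFix, ← hMdef]; exact hc)
  rw [theta, MonoidHom.comp_apply, sgn_apply, ← hσ, hsign, hodd.neg_one_pow]

end Cfsg.Agent.Helper12.BCSpec
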