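import Mathlib
import Cfsg.Agent.Helper17.Zsigmondy
import Cfsg.Agent.Helper12.BCSpecF
import Cfsg.Agent.Helper12.BCSpecI
import Cfsg.Agent.Helper12.BCSpecK
import Cfsg.Agent.S0292

set_option autoImplicit false
set_option linter.unusedSectionVars false

/-! `Ω_{2n+1}(q)` has no element of order `p (q ^ (n-1) + 1)`. -/

namespace Cfsg.Agent.Helper12.BCSpec

open Module Matrix Cfsg.Agent.Helper28.Spin Cfsg.Agent.S2614 Cfsg.Agent.S0292

/-- a primitive prime divisor of `q ^ (2 k) - 1` -/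
theorem exists_ppd (q k : ℕ) (hq : 1 < q) (hqodd : Odd q) (hk : 2 ≤ k) :
    ∃ r : ℕ, r.Prime ∧ ¬ r ∣ q ∧ orderOf ((q : ℕ) : ZMod r) = 2 * k ∧ r ∣ q ^ k + 1 := by
  obtain ⟨r, hr, hrd, hrp⟩ := Cfsg.Agent.Helper17.Zsig.zsigmondy (a := q) (n := 2 * k) hq
    (by omega) (by
      rintro ⟨h, -⟩
      rw [h] at hqodd
      exact absurd hqodd (by decide)) (by
      rintro ⟨h, -⟩
      omega)
  have hrq : ¬ r ∣ q := by
    intro h
    have h1 : r ∣ q ^ (2 * k) := dvd_pow h (by omega)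
    have h3 : 1 ≤ q ^ (2 * k) := Nat.one_le_pow _ _ (by omega)
    have h4 : r ∣ q ^ (2 * k) - (q ^ (2 * k) - 1) := Nat.dvd_sub h1 hrd
    have h5 : q ^ (2 * k) - (q ^ (2 * k) - 1) = 1 := by omega
    rw [h5] at h4
    have := hr.two_le
    have := Nat.le_of_dvd one_pos h4
    omega
  refine ⟨r, hr, hrq, ?_, ?_⟩
  · rw [orderOf_eq_iff (by omega)]
    refine ⟨(Cfsg.Agent.Helper17.Zsig.cast_pow_eq_one_iff (by omega) _ r).2 hrd, ?_⟩
    intro m hm hm0 h
    exact hrp m hm0 hm ((Cfsg.Agent.Helper17.Zsig.cast_pow_eq_one_iff (by omega) _ r).1 h)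
  · have h1 : q ^ (2 * k) - 1 = (q ^ k - 1) * (q ^ k + 1) := by
      have h3 : 1 ≤ q ^ k := Nat.one_le_pow _ _ (by omega)
      obtain ⟨t, ht⟩ : ∃ t, q ^ k = t + 1 := ⟨q ^ k - 1, by omega⟩
      rw [two_mul, pow_add, ht]
      simp only [Nat.add_sub_cancel]
      have : (t + 1) * (t + 1) = t * (t + 1 + 1) + 1 := by ring
      rw [this, Nat.add_sub_cancel]
    rw [h1] at hrd
    rcases (Nat.Prime.dvd_mul hr).1 hrd with h | h
    · exact absurd h (hrp k (by omega) (by omega))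
    · exact h

theorem orderOf_Omega_ne {F : Type*} [Field F] [Fintype F] (h2 : (2 : F) ≠ 0) (p : ℕ)
    [Fact p.Prime] [CharP F p] (k : ℕ) (hk : 2 ≤ k)
    (g : ↥(Cfsg.Omega F ⇑(QfOdd (k + 1) F))) :
    orderOf g ≠ p * (Fintype.card F ^ k + 1) := by
  classical
  intro hord
  have hp : p.Prime := Fact.out
  have hp3 : 3 ≤ p := by
    have h2p : p ≠ 2 := by
      intro h
      apply h2
      have := CharP.cast_eq_zero F p
      rw [h] at this
      exact_mod_cast this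
    have := hp.two_le
    omega
  have hqodd : Odd (Fintype.card F) := card_odd h2
  have hq1 : 1 < Fintype.card F := Fintype.one_lt_card
  have hpq : p ∣ Fintype.card F := by
    obtain ⟨f, -, hf⟩ := FiniteField.card F p
    rw [hf]
    exact dvd_pow_self _ f.ne_zero
  obtain ⟨r, hr, hrq, hordr, hrM⟩ := exists_ppd (Fintype.card F) k hq1 hqodd hk
  have hrp : r ≠ p := by
    intro h
    rw [h] at hrq
    exact hrq hpq
  have hQnd : ∀ v : Unit ⊕ (Fin (k + 1) ⊕ Fin (k + 1)) → F,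
      (∀ w, QuadraticMap.polar (QfOdd (k + 1) F) v w = 0) → v = 0 := by
    intro v hv
    exact (QfOdd_nondeg h2 (F := F) (k + 1)).1 v (fun w => by
      rw [QuadraticMap.polarBilin_apply_apply]
      exact hv w)
  have hcardι : Fintype.card (Unit ⊕ (Fin (k + 1) ⊕ Fin (k + 1))) = 2 * k + 3 := by
    rw [Fintype.card_sum, Fintype.card_sum, Fintype.card_fin, Fintype.card_unit]; ring
  have hdim : finrank F (Unit ⊕ (Fin (k + 1) ⊕ Fin (k + 1)) → F) = 2 * k + 3 := by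
    rw [Module.finrank_fintype_fun_eq_card, hcardι]
  obtain ⟨A, hA⟩ : ∃ A : Matrix (Unit ⊕ (Fin (k + 1) ⊕ Fin (k + 1)))
      (Unit ⊕ (Fin (k + 1) ⊕ Fin (k + 1))) F,
      A = ((g.1 : GL (Unit ⊕ (Fin (k + 1) ⊕ Fin (k + 1))) F) : Matrix _ _ F) := ⟨_, rfl⟩
  have hApow : ∀ j : ℕ, ((((g ^ j : ↥(Cfsg.Omega F ⇑(QfOdd (k + 1) F))) :
      ↥(Cfsg.isometryGroup F ⇑(QfOdd (k + 1) F))) :
        GL (Unit ⊕ (Fin (k + 1) ⊕ Fin (k + 1))) F) : Matrix _ _ F) = A ^ j := by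
    intro j
    rw [hA]
    simp
  have hA1 : ∀ j : ℕ, A ^ j = 1 ↔ g ^ j = 1 := by
    intro j
    rw [← hApow]
    constructor
    · intro h
      apply Subtype.ext
      apply Subtype.ext
      apply Units.ext
      rw [h]
      rfl
    · intro h
      rw [h]
      rfl
  have hG : ∀ v, (QfOdd (k + 1) F) (Matrix.toLin' A v) = (QfOdd (k + 1) F) v := by
    intro v
    rw [Matrix.toLin'_apply, hA]
    exact isom_apply (QfOdd (k + 1) F) g.1 v
  have hGpow : ∀ j : ℕ, (Matrix.toLin' A) ^ j = Matrix.toLin' (A ^ j) := fun j =>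
    (Matrix.toLin'_pow A j).symm
  have hG1 : ∀ j : ℕ, (Matrix.toLin' A) ^ j = 1 ↔ g ^ j = 1 := by
    intro j
    rw [hGpow, ← hA1]
    constructor
    · intro h
      apply Matrix.toLin'.injective
      rw [h, Matrix.toLin'_one]
      rfl
    · intro h
      rw [h, Matrix.toLin'_one]
      rfl
  have hGN : (Matrix.toLin' A) ^ (p * (Fintype.card F ^ k + 1)) = 1 := by
    rw [hG1, ← hord]
    exact pow_orderOf_eq_one g
  have hGord : ∀ j, (Matrix.toLin' A) ^ j = 1 → p * (Fintype.card F ^ k + 1) ∣ j := by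
    intro j hj
    rw [← hord]
    exact orderOf_dvd_of_pow_eq_one ((hG1 j).1 hj)
  have hdet : LinearMap.det (Matrix.toLin' A) = 1 := by
    rw [LinearMap.det_toLin', hA]
    have h1 := hom_eq_one_of_mem_Omega (QfOdd (k + 1) F) (detHom (QfOdd (k + 1) F)) g.2
    have h3 : ((detHom (QfOdd (k + 1) F) g.1 : Fˣ) : F) = 1 := by rw [h1]; rfl
    rw [detHom_val] at h3
    exact h3
  obtain ⟨U, hU3, hUnd, hUfix⟩ := core hp3 (QfOdd (k + 1) F) hQnd k hk hdim r hr hrp hordr hrM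
    (Matrix.toLin' A) hG hGN hGord hdet
  have hS : Nat.card {w : Unit ⊕ (Fin (k + 1) ⊕ Fin (k + 1)) → F // (QfOdd (k + 1) F) w = 1} =
      Fintype.card F ^ (2 * k + 2) + Fintype.card F ^ (k + 1) := by
    have := card_sphere_quadFormOdd h2 (F := F) (k + 1)
    rw [← QfOdd_coe] at this
    rw [this]
    ring_nf
  have hsM : ((g ^ p : ↥(Cfsg.Omega F ⇑(QfOdd (k + 1) F))) :
      ↥(Cfsg.isometryGroup F ⇑(QfOdd (k + 1) F))) ^ (Fintype.card F ^ k + 1) = 1 := by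
    rw [← Subgroup.coe_pow, ← pow_mul, ← hord, pow_orderOf_eq_one]
    rfl
  have hfix : ∀ j, 0 < j → j < Fintype.card F ^ k + 1 →
      ∀ v : Unit ⊕ (Fin (k + 1) ⊕ Fin (k + 1)) → F,
      ((((((g ^ p : ↥(Cfsg.Omega F ⇑(QfOdd (k + 1) F))) :
      ↥(Cfsg.isometryGroup F ⇑(QfOdd (k + 1) F))) ^ j :
        ↥(Cfsg.isometryGroup F ⇑(QfOdd (k + 1) F))) :
          GL (Unit ⊕ (Fin (k + 1) ⊕ Fin (k + 1))) F) : Matrix _ _ F)) *ᵥ v = v ↔ v ∈ U := by
    intro j hj hjM v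
    rw [← hUfix j hj hjM v, ← pow_mul, hGpow, Matrix.toLin'_apply, ← Subgroup.coe_pow, ← pow_mul,
      hApow]
  have hθ := theta_eq_neg_one (QfOdd (k + 1) F) h2 k (by omega) hcardι hS _ hsM U hU3 hUnd hfix
  have h1 := hom_eq_one_of_mem_Omega (QfOdd (k + 1) F) (theta (QfOdd (k + 1) F)) (g ^ p).2
  rw [hθ] at h1
  exact absurd h1 (by decide)

end Cfsg.Agent.Helper12.BCSpec
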