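import Mathlib
import Cfsg.Prelude.Def_BaumannBlocks
import Cfsg.Agent.Helper15.JComp5

/-!
# BHS blocks, part B2: the Baumann subgroup `B(T)` of a Sylow `p`-subgroup is the Baumann subgroup of
every `p`-subgroup containing it.
-/

set_option autoImplicit false

namespace Cfsg.Agent.BLK

open Cfsg Subgroup
open Cfsg.Agent.Helper15.JComp
open scoped commutatorElement

variable {G : Type*} [Group G]

/-- `J(T) ≤ B(T)` -/
theorem B2_aux_thompson_le_baumann (p : ℕ) (T : Subgroup G) :
    thompsonSubgroupOf p T ≤ baumannSubgroupOf p T := by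
  intro x hx
  refine ⟨Cfsg.Agent.S2941.thompsonSubgroupOf_le p T hx, ?_⟩
  show x ∈ centralizer (omegaOne p (centerThompsonOf p T) : Set G)
  rw [mem_centralizer_iff]
  intro y hy
  have hy' : y ∈ centerThompsonOf p T := omegaOne_le p _ hy
  have hyc : y ∈ centralizer (thompsonSubgroupOf p T : Set G) := hy'.2
  exact (mem_centralizer_iff.mp hyc x hx).symm

theorem B2_aux_baumann_le (p : ℕ) (T : Subgroup G) : baumannSubgroupOf p T ≤ T := inf_le_left

/-- the Baumann subgroup only depends on `T` and `J(T)` -/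
theorem B2_aux_baumann_eq_of_thompson_eq {p : ℕ} {S T : Subgroup G}
    (h : thompsonSubgroupOf p S = thompsonSubgroupOf p T) :
    baumannSubgroupOf p S = S ⊓ centralizer (omegaOne p (centerThompsonOf p T) : Set G) := by
  unfold baumannSubgroupOf centerThompsonOf
  rw [h]

/-- any subgroup normalizes its own Baumann subgroup -/
theorem B2_aux_le_normalizer_baumann (p : ℕ) (T : Subgroup G) :
    T ≤ normalizer ((baumannSubgroupOf p T : Subgroup G) : Set G) := by
  unfold baumannSubgroupOf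
  refine le_trans ?_ le_normalizer_inf
  refine le_inf le_normalizer ?_
  refine le_trans (le_normalizer_thompsonSubgroupOf p T) ?_
  refine le_trans ?_ (normalizer_le_normalizer_centralizer _)
  refine le_trans ?_ (normalizer_le_normalizer_omegaOne p _)
  unfold centerThompsonOf
  refine le_trans ?_ le_normalizer_inf
  exact le_inf le_rfl (normalizer_le_normalizer_centralizer _)

/-- the normalizer of `J(T)` normalizes `C(Ω₁ Z J(T))` -/
theorem B2_aux_normalizer_thompson_le (p : ℕ) (T : Subgroup G) :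
    normalizer ((thompsonSubgroupOf p T : Subgroup G) : Set G) ≤
      normalizer ((centralizer (omegaOne p (centerThompsonOf p T) : Set G) : Subgroup G) : Set G) := by
  refine le_trans ?_ (normalizer_le_normalizer_centralizer _)
  refine le_trans ?_ (normalizer_le_normalizer_omegaOne p _)
  unfold centerThompsonOf
  refine le_trans ?_ le_normalizer_inf
  exact le_inf le_rfl (normalizer_le_normalizer_centralizer _)

theorem B2_aux_card_map_conj (g : G) (A : Subgroup G) :
    Nat.card (A.map (MulAut.conj g).toMonoidHom) = Nat.card A :=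
  (Nat.card_congr ((MulAut.conj g).subgroupMap A).toEquiv).symm

theorem B2_aux_conj_injective (g : G) : Function.Injective ((MulAut.conj g).toMonoidHom : G →* G) :=
  (MulAut.conj g).injective

/-- **(B2)**: if a `p`-subgroup `T₂` contains `B(T)`, `T` a Sylow `p`-subgroup, then `J(T₂) = J(T)` and
`B(T₂) = B(T)`. -/
theorem B2 [Finite G] {p : ℕ} [Fact p.Prime] (T : Sylow p G) (T₂ : Subgroup G) (hT₂ : IsPGroup p T₂)
    (hB : baumannSubgroupOf p (T : Subgroup G) ≤ T₂) :
    thompsonSubgroupOf p T₂ = thompsonSubgroupOf p (T : Subgroup G) ∧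
      baumannSubgroupOf p T₂ = baumannSubgroupOf p (T : Subgroup G) := by
  obtain ⟨P', hP'⟩ := hT₂.exists_le_sylow
  obtain ⟨g, hg⟩ := MulAction.exists_smul_eq G T P'
  set cg : G →* G := (MulAut.conj g).toMonoidHom with hcg
  have hinj : Function.Injective cg := B2_aux_conj_injective g
  set Tg : Subgroup G := (T : Subgroup G).map cg with hTg
  have hT₂g : T₂ ≤ Tg := by
    intro x hx
    have h1 : x ∈ (P' : Subgroup G) := hP' hx
    rw [← hg, Sylow.coe_subgroup_smul, Subgroup.mem_pointwise_smul_iff_inv_smul_mem] at h1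
    refine ⟨_, h1, ?_⟩
    simp only [hcg, MulAut.smul_def, MulEquiv.coe_toMonoidHom, MulAut.conj_apply, MulAut.conj_inv_apply]
    group
  -- J(T) ≤ B(T) ≤ T₂
  have hJT₂ : thompsonSubgroupOf p (T : Subgroup G) ≤ T₂ :=
    (B2_aux_thompson_le_baumann p _).trans hB
  obtain ⟨A₀, hA₀⟩ := maxEA_nonempty p (T : Subgroup G)
  have hA₀g : A₀.map cg ∈ maxEA p Tg := map_mem_maxEA hinj hA₀
  have hA₀T₂ : A₀ ≤ T₂ := (le_thompsonSubgroupOf_of_mem_maxEA hA₀).trans hJT₂
  have hcardA₀ : Nat.card (A₀.map cg) = Nat.card A₀ := B2_aux_card_map_conj g A₀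
  -- maxEA p T ⊆ maxEA p T₂
  have h1 : maxEA p (T : Subgroup G) ⊆ maxEA p T₂ := by
    intro A hA
    refine ⟨(le_thompsonSubgroupOf_of_mem_maxEA hA).trans hJT₂, hA.2.1, ?_⟩
    intro F hF hFe
    have := hA₀g.2.2 F (hF.trans hT₂g) hFe
    rw [hcardA₀, card_eq_of_mem_maxEA hA₀ hA] at this
    exact this
  -- maxEA p T₂ ⊆ maxEA p Tg
  have h2 : maxEA p T₂ ⊆ maxEA p Tg := by
    intro A hA
    refine mem_maxEA_of_card_le hA₀g (hA.1.trans hT₂g) hA.2.1 ?_
    rw [hcardA₀]
    exact hA.2.2 A₀ hA₀T₂ hA₀.2.1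
  have hJ1 : thompsonSubgroupOf p (T : Subgroup G) ≤ thompsonSubgroupOf p T₂ := by
    rw [thompsonSubgroupOf_eq_sSup_maxEA, thompsonSubgroupOf_eq_sSup_maxEA]
    exact sSup_le_sSup h1
  have hJ2 : thompsonSubgroupOf p T₂ ≤ thompsonSubgroupOf p Tg := by
    rw [thompsonSubgroupOf_eq_sSup_maxEA, thompsonSubgroupOf_eq_sSup_maxEA]
    exact sSup_le_sSup h2
  have hJg : thompsonSubgroupOf p Tg = (thompsonSubgroupOf p (T : Subgroup G)).map cg :=
    thompsonSubgroupOf_map hinj p _
  have hJeq : thompsonSubgroupOf p (T : Subgroup G) = thompsonSubgroupOf p Tg := by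
    apply Subgroup.eq_of_le_of_card_ge (hJ1.trans hJ2)
    rw [hJg, B2_aux_card_map_conj]
  have hJT₂eq : thompsonSubgroupOf p T₂ = thompsonSubgroupOf p (T : Subgroup G) :=
    le_antisymm (by rw [hJeq]; exact hJ2) hJ1
  refine ⟨hJT₂eq, ?_⟩
  -- the Baumann subgroups
  set C : Subgroup G := centralizer (omegaOne p (centerThompsonOf p (T : Subgroup G)) : Set G) with hC
  have hB₂ : baumannSubgroupOf p T₂ = T₂ ⊓ C := B2_aux_baumann_eq_of_thompson_eq hJT₂eq
  have hBg : baumannSubgroupOf p Tg = Tg ⊓ C := B2_aux_baumann_eq_of_thompson_eq hJeq.symm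
  have hBT : baumannSubgroupOf p (T : Subgroup G) = (T : Subgroup G) ⊓ C := rfl
  -- g normalizes J(T), hence C
  have hgJ : g ∈ normalizer ((thompsonSubgroupOf p (T : Subgroup G) : Subgroup G) : Set G) := by
    rw [Subgroup.mem_normalizer_iff_map_conj_eq]
    show (thompsonSubgroupOf p (T : Subgroup G)).map cg = _
    rw [← hJg]
    exact hJeq.symm
  have hgC : g ∈ normalizer ((C : Subgroup G) : Set G) := B2_aux_normalizer_thompson_le p _ hgJ
  have hle1 : baumannSubgroupOf p (T : Subgroup G) ≤ baumannSubgroupOf p T₂ := by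
    rw [hB₂]
    exact le_inf hB (hBT ▸ inf_le_right)
  have hle2 : baumannSubgroupOf p T₂ ≤ (baumannSubgroupOf p (T : Subgroup G)).map cg := by
    rw [hB₂, hBT]
    rintro x ⟨hx1, hx2⟩
    obtain ⟨y, hy, rfl⟩ := hT₂g hx1
    refine ⟨y, ⟨hy, ?_⟩, rfl⟩
    have := conj_mem_of_mem_normalizer (inv_mem hgC) hx2
    simpa [hcg, mul_assoc] using this
  symm
  apply Subgroup.eq_of_le_of_card_ge hle1
  calc Nat.card (baumannSubgroupOf p T₂)
      ≤ Nat.card ((baumannSubgroupOf p (T : Subgroup G)).map cg) := Subgroup.card_le_of_le hle2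
    _ = Nat.card (baumannSubgroupOf p (T : Subgroup G)) := B2_aux_card_map_conj g _

/-- consequence of (B2): a `p`-subgroup containing `B(T)` normalizes `B(T)` -/
theorem B2_normalizer [Finite G] {p : ℕ} [Fact p.Prime] (T : Sylow p G) (T₂ : Subgroup G)
    (hT₂ : IsPGroup p T₂) (hB : baumannSubgroupOf p (T : Subgroup G) ≤ T₂) :
    T₂ ≤ normalizer ((baumannSubgroupOf p (T : Subgroup G) : Subgroup G) : Set G) := by
  have h := (B2 T T₂ hT₂ hB).2
  rw [← h]
  exact B2_aux_le_normalizer_baumann p T₂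

end Cfsg.Agent.BLK
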