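import Mathlib
import Cfsg.Agent.Helper15.JComp5

/-! Board `blkpieces`, S2984 assembly, part 1: a `p`-group acting by conjugation on a coset space
`U / U₀` of `p`-power size greater than one fixes a coset other than `U₀`. -/

set_option autoImplicit false

namespace Cfsg.Agent.BLK

open Cfsg Subgroup
open Cfsg.Agent.Helper15.JComp

variable {G : Type*} [Group G]

/-- conjugation by an element of `P` on `U`, where `P` normalizes `U` -/
def FIX_aux_conj {P U : Subgroup G} (hPU : P ≤ normalizer (U : Set G)) (x : P) (u : U) : U :=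
  ⟨(x : G) * u * (x : G)⁻¹, conj_mem_of_mem_normalizer (hPU x.2) u.2⟩

/-- the conjugation action of `P` on the coset space `U / U₀` -/
def FIX_aux_act {P U U₀ : Subgroup G} (hPU : P ≤ normalizer (U : Set G))
    (hPU₀ : P ≤ normalizer (U₀ : Set G)) (x : P) :
    (↥U ⧸ U₀.subgroupOf U) → (↥U ⧸ U₀.subgroupOf U) :=
  Quotient.map' (FIX_aux_conj hPU x) (by
    intro u v huv
    rw [QuotientGroup.leftRel_apply, Subgroup.mem_subgroupOf] at huv ⊢
    have e : (((FIX_aux_conj hPU x u)⁻¹ * FIX_aux_conj hPU x v : U) : G) =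
        (x : G) * ((u⁻¹ * v : U) : G) * (x : G)⁻¹ := by
      simp only [FIX_aux_conj, Subgroup.coe_mul, Subgroup.coe_inv]
      group
    rw [e]
    exact conj_mem_of_mem_normalizer (hPU₀ x.2) huv)

theorem FIX_aux_act_mk {P U U₀ : Subgroup G} (hPU : P ≤ normalizer (U : Set G))
    (hPU₀ : P ≤ normalizer (U₀ : Set G)) (x : P) (u : U) :
    FIX_aux_act hPU hPU₀ x (QuotientGroup.mk u) = QuotientGroup.mk (FIX_aux_conj hPU x u) := rfl

/-- the action as a `MulAction` -/
def FIX_aux_mulAction {P U U₀ : Subgroup G} (hPU : P ≤ normalizer (U : Set G))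
    (hPU₀ : P ≤ normalizer (U₀ : Set G)) : MulAction P (↥U ⧸ U₀.subgroupOf U) where
  smul x q := FIX_aux_act hPU hPU₀ x q
  one_smul q := by
    induction q using QuotientGroup.induction_on with
    | H u =>
      show FIX_aux_act hPU hPU₀ 1 (QuotientGroup.mk u) = QuotientGroup.mk u
      rw [FIX_aux_act_mk]
      congr 1
      apply Subtype.ext
      simp [FIX_aux_conj]
  mul_smul x y q := by
    induction q using QuotientGroup.induction_on with
    | H u =>
      show FIX_aux_act hPU hPU₀ (x * y) (QuotientGroup.mk u) =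
        FIX_aux_act hPU hPU₀ x (FIX_aux_act hPU hPU₀ y (QuotientGroup.mk u))
      rw [FIX_aux_act_mk, FIX_aux_act_mk, FIX_aux_act_mk]
      congr 1
      apply Subtype.ext
      simp only [FIX_aux_conj, Subgroup.coe_mul, mul_inv_rev]
      group

/-- **FIX**: a `p`-group `P` normalizing `U₀ ≤ U`, with `U` a finite `p`-group not contained in `U₀`, fixes a coset
`u U₀` with `u ∈ U`, `u ∉ U₀`. -/
theorem FIX [Finite G] {p : ℕ} [Fact p.Prime] {P U U₀ : Subgroup G} (hP : IsPGroup p P)
    (hU : IsPGroup p U) (hne : ¬ U ≤ U₀) (hPU : P ≤ normalizer (U : Set G))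
    (hPU₀ : P ≤ normalizer (U₀ : Set G)) :
    ∃ u ∈ U, u ∉ U₀ ∧ ∀ x ∈ P, u⁻¹ * (x * u * x⁻¹) ∈ U₀ := by
  letI : MulAction P (↥U ⧸ U₀.subgroupOf U) := FIX_aux_mulAction hPU hPU₀
  have hsmul : ∀ (x : P) (u : U), x • (QuotientGroup.mk u : ↥U ⧸ U₀.subgroupOf U) =
      QuotientGroup.mk (FIX_aux_conj hPU x u) := fun x u => rfl
  -- the size of the coset space is a `p`-power bigger than one
  have hdvd : p ∣ Nat.card (↥U ⧸ U₀.subgroupOf U) := by
    have hidx : Nat.card (↥U ⧸ U₀.subgroupOf U) = (U₀.subgroupOf U).index := rfl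
    rw [hidx]
    obtain ⟨k, hk⟩ := hU.index (U₀.subgroupOf U)
    rw [hk]
    cases k with
    | zero =>
      exfalso
      rw [pow_zero, Subgroup.index_eq_one, Subgroup.subgroupOf_eq_top] at hk
      exact hne hk
    | succ k => exact dvd_pow_self p (Nat.succ_ne_zero k)
  have hfix : (QuotientGroup.mk (1 : U) : ↥U ⧸ U₀.subgroupOf U) ∈
      MulAction.fixedPoints P (↥U ⧸ U₀.subgroupOf U) := by
    intro x
    rw [hsmul]
    congr 1
    apply Subtype.ext
    simp [FIX_aux_conj]
  obtain ⟨b, hb, hb1⟩ := hP.exists_fixed_point_of_prime_dvd_card_of_fixed_point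
    (↥U ⧸ U₀.subgroupOf U) hdvd hfix
  induction b using QuotientGroup.induction_on with
  | H u =>
    refine ⟨u, u.2, ?_, ?_⟩
    · intro hu
      apply hb1
      rw [QuotientGroup.eq, Subgroup.mem_subgroupOf]
      simpa using hu
    · intro x hx
      have := hb ⟨x, hx⟩
      rw [hsmul] at this
      have h2 := QuotientGroup.eq.mp this.symm
      rw [Subgroup.mem_subgroupOf] at h2
      simpa [FIX_aux_conj] using h2

end Cfsg.Agent.BLK
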