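import Mathlib
import Cfsg.Prelude.Def_BaumannBlocks
import Cfsg.Agent.Helper12.BLKB2

/-!
# BHS blocks: a `p`-subgroup normalized by `B(T)` and by a subgroup `E = O^p(E) = [E, B(T)]` normalizes `E`.
-/

set_option autoImplicit false

namespace Cfsg.Agent.BLK

open Cfsg Subgroup
open Cfsg.Agent.Helper15.JComp
open scoped commutatorElement

variable {G : Type*} [Group G]

/-- `K` normalizes `⁅H, K⁆`. -/
theorem NORM_aux_right_le_normalizer_commutator (H K : Subgroup G) :
    K ≤ normalizer ((⁅H, K⁆ : Subgroup G) : Set G) := by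
  apply Cfsg.Agent.S2941.le_normalizer_of_conj_mem
  intro k hk x hx
  rw [Subgroup.commutator_def] at hx
  have : ∀ y ∈ closure {y | ∃ a ∈ H, ∃ b ∈ K, ⁅a, b⁆ = y}, k * y * k⁻¹ ∈ ⁅H, K⁆ := by
    apply Cfsg.Agent.S2941.conj_closure_mem
    rintro _ ⟨a, ha, b, hb, rfl⟩
    have e : k * ⁅a, b⁆ * k⁻¹ = ⁅a, k⁆⁻¹ * ⁅a, k * b⁆ := by
      simp only [commutatorElement_def]; group
    rw [e]
    exact mul_mem (inv_mem (commutator_mem_commutator ha hk))
      (commutator_mem_commutator ha (mul_mem hk hb))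
  exact this x hx

/-- the elements of `G` normalizing `N₀` and centralizing `N₁` modulo `N₀` -/
def NORM_aux_stab (N₁ N₀ : Subgroup G) : Subgroup G where
  carrier := {g | g ∈ normalizer (N₀ : Set G) ∧ ∀ y ∈ N₁, ⁅y, g⁆ ∈ N₀}
  one_mem' := ⟨one_mem _, fun y _ => by simp⟩
  mul_mem' := by
    rintro g h ⟨hg, hg'⟩ ⟨hh, hh'⟩
    refine ⟨mul_mem hg hh, fun y hy => ?_⟩
    have e : ⁅y, g * h⁆ = ⁅y, g⁆ * (g * ⁅y, h⁆ * g⁻¹) := by
      simp only [commutatorElement_def]; group
    rw [e]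
    exact mul_mem (hg' y hy) (conj_mem_of_mem_normalizer hg (hh' y hy))
  inv_mem' := by
    rintro g ⟨hg, hg'⟩
    refine ⟨inv_mem hg, fun y hy => ?_⟩
    have e : ⁅y, g⁻¹⁆ = g⁻¹ * (⁅y, g⁆)⁻¹ * g⁻¹⁻¹ := by
      simp only [commutatorElement_def]; group
    rw [e]
    exact conj_mem_of_mem_normalizer (inv_mem hg) (inv_mem (hg' y hy))

theorem NORM_aux_stab_conj {N₁ N₀ : Subgroup G} {h g : G} (hh0 : h ∈ normalizer (N₀ : Set G))
    (hh1 : h ∈ normalizer (N₁ : Set G)) (hg : g ∈ NORM_aux_stab N₁ N₀) :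
    h * g * h⁻¹ ∈ NORM_aux_stab N₁ N₀ := by
  obtain ⟨hg0, hg1⟩ := hg
  refine ⟨mul_mem (mul_mem hh0 hg0) (inv_mem hh0), fun y hy => ?_⟩
  have e : ⁅y, h * g * h⁻¹⁆ = h * ⁅h⁻¹ * y * h, g⁆ * h⁻¹ := by
    simp only [commutatorElement_def]; group
  rw [e]
  exact conj_mem_of_mem_normalizer hh0 (hg1 _ (conj_inv_mem_of_mem_normalizer hh1 hy))

/-- an element `n * e` of order prime to `p`, with `n` in a `p`-subgroup normalizing `E` and `e ∈ E`, lies in `E` -/
theorem NORM_aux_mem_of_coprime {p : ℕ} [Fact p.Prime] {E N : Subgroup G}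
    (hN : N ≤ normalizer (E : Set G)) (hNp : IsPGroup p N) {n e : G} (hn : n ∈ N) (he : e ∈ E)
    (hco : (orderOf (n * e)).Coprime p) : n * e ∈ E := by
  haveI : (E.subgroupOf (normalizer (E : Set G))).Normal := Subgroup.normal_in_normalizer
  let π := QuotientGroup.mk' (E.subgroupOf (normalizer (E : Set G)))
  let n' : normalizer (E : Set G) := ⟨n, hN hn⟩
  let e' : normalizer (E : Set G) := ⟨e, le_normalizer he⟩
  have hπe : π e' = 1 := by
    rw [QuotientGroup.mk'_apply, QuotientGroup.eq_one_iff]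
    exact he
  have hπ : π (n' * e') = π n' := by rw [map_mul, hπe, mul_one]
  obtain ⟨k, hk⟩ := hNp ⟨n, hn⟩
  have hn'k : n' ^ p ^ k = 1 := by
    apply Subtype.ext
    have := congrArg Subtype.val hk
    simpa using this
  have h1 : orderOf (π (n' * e')) ∣ p ^ k := by
    rw [hπ]
    apply orderOf_dvd_of_pow_eq_one
    rw [← map_pow, hn'k, map_one]
  have h2 : orderOf (π (n' * e')) ∣ orderOf (n * e) := by
    have h3 : orderOf (π (n' * e')) ∣ orderOf (n' * e') := orderOf_map_dvd π _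
    have h4 : orderOf (n' * e') = orderOf (n * e) := by
      rw [← Subgroup.orderOf_coe]
      rfl
    rwa [h4] at h3
  have h5 : orderOf (π (n' * e')) = 1 := by
    have hcop : (orderOf (n * e)).Coprime (p ^ k) := Nat.Coprime.pow_right k hco
    exact Nat.eq_one_of_dvd_coprimes hcop h2 h1
  rw [orderOf_eq_one_iff, QuotientGroup.mk'_apply, QuotientGroup.eq_one_iff] at h5
  exact h5

/-- `O^p(E) = E` in terms of generators -/
theorem NORM_aux_residual_closure {p : ℕ} {E : Subgroup G} (hres : pResidualOf p E = E) :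
    E = closure {e : G | e ∈ E ∧ (orderOf e).Coprime p} := by
  apply le_antisymm
  · intro x hx
    rw [← hres] at hx
    unfold pResidualOf pResidual at hx
    rw [MonoidHom.map_closure] at hx
    refine closure_mono ?_ hx
    rintro _ ⟨y, hy, rfl⟩
    refine ⟨y.2, ?_⟩
    have : orderOf (E.subtype y) = orderOf y := Subgroup.orderOf_coe y
    rw [this]
    exact hy
  · rw [closure_le]
    intro x hx
    exact hx.1

/-- **S2983 core**: a `p`-subgroup `Q` normalized by `B(T)` and by `E`, where `O^p(E) = E = [E, B(T)]`,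
normalizes `E`. -/
theorem NORM [Finite G] {p : ℕ} [Fact p.Prime] (T : Sylow p G) (E : Subgroup G)
    (hres : pResidualOf p E = E) (hcomm : ⁅E, baumannSubgroupOf p (T : Subgroup G)⁆ = E)
    (Q : Subgroup G) (hQ : IsPGroup p Q)
    (hBQ : baumannSubgroupOf p (T : Subgroup G) ≤ normalizer (Q : Set G))
    (hEQ : E ≤ normalizer (Q : Set G)) : Q ≤ normalizer (E : Set G) := by
  set B : Subgroup G := baumannSubgroupOf p (T : Subgroup G) with hBdef
  -- (a) B normalizes E
  have hBE : B ≤ normalizer (E : Set G) := by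
    have := NORM_aux_right_le_normalizer_commutator E B
    rwa [hcomm] at this
  -- (b) Q normalizes B
  have hBp : IsPGroup p B := T.isPGroup'.to_le (B2_aux_baumann_le p _)
  have hT₂ : IsPGroup p (B ⊔ Q : Subgroup G) := IsPGroup.to_sup_of_normal_right' hBp hQ hBQ
  have hQB : Q ≤ normalizer (B : Set G) :=
    le_trans le_sup_right (B2_normalizer T (B ⊔ Q) hT₂ le_sup_left)
  -- N₀, N₁
  set N₀ : Subgroup G := Q ⊓ normalizer (E : Set G) with hN₀
  set N₁ : Subgroup G := Q ⊓ normalizer (N₀ : Set G) with hN₁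
  have hEN₀ : E ≤ normalizer (N₀ : Set G) :=
    le_trans (le_inf hEQ (le_trans le_normalizer le_normalizer)) le_normalizer_inf
  have hBN₀ : B ≤ normalizer (N₀ : Set G) :=
    le_trans (le_inf hBQ (le_trans hBE le_normalizer)) le_normalizer_inf
  have hEN₁ : E ≤ normalizer (N₁ : Set G) :=
    le_trans (le_inf hEQ (le_trans hEN₀ le_normalizer)) le_normalizer_inf
  have hBN₁ : B ≤ normalizer (N₁ : Set G) :=
    le_trans (le_inf hBQ (le_trans hBN₀ le_normalizer)) le_normalizer_inf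
  -- B ≤ stab
  have hBS : B ≤ NORM_aux_stab N₁ N₀ := by
    intro b hb
    refine ⟨hBN₀ hb, fun y hy => ?_⟩
    have hyQ : y ∈ Q := hy.1
    refine ⟨?_, hBE ?_⟩
    · -- ⁅y, b⁆ = y * (b y⁻¹ b⁻¹) ∈ Q
      have e : ⁅y, b⁆ = y * (b * y⁻¹ * b⁻¹) := by simp only [commutatorElement_def]; group
      rw [e]
      exact mul_mem hyQ (conj_mem_of_mem_normalizer (hBQ hb) (inv_mem hyQ))
    · -- ⁅y, b⁆ = (y b y⁻¹) b⁻¹ ∈ B
      have e : ⁅y, b⁆ = (y * b * y⁻¹) * b⁻¹ := by simp only [commutatorElement_def]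
      rw [e]
      exact mul_mem (conj_mem_of_mem_normalizer (hQB hyQ) hb) (inv_mem hb)
  -- E ≤ stab
  have hES : E ≤ NORM_aux_stab N₁ N₀ := by
    rw [← hcomm, Subgroup.commutator_le]
    intro e he b hb
    have e1 : ⁅e, b⁆ = (e * b * e⁻¹) * b⁻¹ := by simp only [commutatorElement_def]
    rw [e1]
    exact mul_mem (NORM_aux_stab_conj (hEN₀ he) (hEN₁ he) (hBS hb)) (inv_mem (hBS hb))
  -- N₁ ≤ N(E)
  have hN₁E : N₁ ≤ normalizer (E : Set G) := by
    apply Cfsg.Agent.S2941.le_normalizer_of_conj_mem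
    intro x hx e he
    rw [NORM_aux_residual_closure hres] at he
    have : ∀ y ∈ closure {e : G | e ∈ E ∧ (orderOf e).Coprime p}, x * y * x⁻¹ ∈ E := by
      apply Cfsg.Agent.S2941.conj_closure_mem
      rintro y ⟨hyE, hyco⟩
      have hc : ⁅x, y⁆ ∈ N₀ := (hES hyE).2 x hx
      have e2 : x * y * x⁻¹ = ⁅x, y⁆ * y := by simp only [commutatorElement_def]; group
      rw [e2]
      apply NORM_aux_mem_of_coprime (N := N₀) inf_le_right (hQ.to_le inf_le_left) hc hyE
      rw [← e2]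
      have : orderOf (x * y * x⁻¹) = orderOf y := by
        have := orderOf_injective (MulAut.conj x).toMonoidHom (MulAut.conj x).injective y
        simpa using this
      rw [this]
      exact hyco
    exact this e he
  -- conclusion
  by_contra hcon
  have hlt : N₀.subgroupOf Q < ⊤ := by
    rw [lt_top_iff_ne_top]
    intro h
    apply hcon
    rw [Subgroup.subgroupOf_eq_top] at h
    exact h.trans inf_le_right
  haveI : Finite Q := inferInstance
  haveI : Group.IsNilpotent Q := hQ.isNilpotent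
  have hnc := normalizerCondition_of_isNilpotent (G := Q) (N₀.subgroupOf Q) hlt
  obtain ⟨x, hxn, hxN⟩ := SetLike.exists_of_lt hnc
  apply hxN
  rw [Subgroup.mem_subgroupOf]
  have hx1 : (x : G) ∈ N₁ := by
    refine ⟨x.2, ?_⟩
    have hzp : zpowers (x : G) ≤ normalizer (N₀ : Set G) := by
      apply Cfsg.Agent.S2941.le_normalizer_of_conj_mem
      rintro _ ⟨i, rfl⟩ y hy
      have hyQ : y ∈ Q := hy.1
      have hxi : x ^ i ∈ normalizer ((N₀.subgroupOf Q : Subgroup Q) : Set Q) := zpow_mem hxn i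
      have := (Subgroup.mem_normalizer_iff.mp hxi ⟨y, hyQ⟩).mp (by rw [Subgroup.mem_subgroupOf]; exact hy)
      rw [Subgroup.mem_subgroupOf] at this
      simpa using this
    exact hzp (mem_zpowers _)
  exact ⟨x.2, hN₁E hx1⟩

end Cfsg.Agent.BLK
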