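import Mathlib
import Cfsg.Prelude.Def_BaumannBlocks
import Cfsg.Agent.Helper15.JComp5
import Cfsg.Agent.Helper19.BLKIRRSL
import Cfsg.Agent.Helper3.BLKNOFIXSL
import Cfsg.Agent.Helper21.BLKIRRALT
import Cfsg.Agent.Helper20.BLKNOFIXALT

/-! Board `blkpieces`, S2984 assembly, part 2: the section `W / W₀` of a block is an irreducible, nontrivial
module, expressed inside the ambient group. -/

set_option autoImplicit false

namespace Cfsg.Agent.BLK

open Cfsg Subgroup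
open Cfsg.Agent.Helper15.JComp

variable {G : Type*} [Group G]

/-- `E` acts irreducibly and nontrivially on the section `W / W₀` -/
structure SecIrr (E W W₀ : Subgroup G) : Prop where
  norm : E ≤ normalizer (W : Set G)
  le : W₀ ≤ W
  irr : ∀ C : Subgroup G, W₀ ≤ C → C ≤ W → E ≤ normalizer (C : Set G) → C = W₀ ∨ C = W
  nofix : ∃ e ∈ E, ∃ w ∈ W, e * w * e⁻¹ * w⁻¹ ∉ W₀

/-- the linear case -/
theorem SEC_of_SL2 {F : Type} [Field F] [Fintype F] {E W W₀ : Subgroup G}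
    (h : ActsAsSL2OnSection F (commutator (Matrix.SpecialLinearGroup (Fin 2) F)) E W W₀) :
    SecIrr E W W₀ := by
  obtain ⟨hEW, hle, ρ, ψ, hρ, hψs, hψk, hact⟩ := h
  refine ⟨hEW, hle, ?_, ?_⟩
  · intro C hC0 hCW hEC
    -- the image of `C` in `F²`
    let N : AddSubgroup (Fin 2 → F) :=
      { carrier := {v | ∃ c : W, (c : G) ∈ C ∧ Multiplicative.toAdd (ψ c) = v}
        zero_mem' := ⟨1, C.one_mem, by simp⟩
        add_mem' := by
          rintro _ _ ⟨c, hc, rfl⟩ ⟨d, hd, rfl⟩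
          exact ⟨c * d, C.mul_mem hc hd, by simp⟩
        neg_mem' := by
          rintro _ ⟨c, hc, rfl⟩
          exact ⟨c⁻¹, C.inv_mem hc, by simp⟩ }
    have hN : ∀ g ∈ commutator (Matrix.SpecialLinearGroup (Fin 2) F), ∀ v ∈ N,
        ((g : Matrix.SpecialLinearGroup (Fin 2) F) : Matrix (Fin 2) (Fin 2) F).mulVec v ∈ N := by
      intro g hg v hv
      rw [← hρ] at hg
      obtain ⟨e, rfl⟩ := hg
      obtain ⟨c, hc, rfl⟩ := hv
      obtain ⟨w, hw, hwψ⟩ := hact e c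
      refine ⟨w, ?_, hwψ⟩
      rw [hw]
      exact conj_mem_of_mem_normalizer (hEC e.2) hc
    rcases IRRSL F N hN with h0 | h1
    · left
      apply le_antisymm _ hC0
      intro c hc
      have hcN : Multiplicative.toAdd (ψ ⟨c, hCW hc⟩) ∈ N := ⟨⟨c, hCW hc⟩, hc, rfl⟩
      rw [h0, AddSubgroup.mem_bot] at hcN
      have : ψ ⟨c, hCW hc⟩ = 1 := by
        apply Multiplicative.toAdd.injective
        rw [hcN]; rfl
      exact (hψk _).mp this
    · right
      apply le_antisymm hCW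
      intro w hw
      have hwN : Multiplicative.toAdd (ψ ⟨w, hw⟩) ∈ N := by rw [h1]; trivial
      obtain ⟨c, hc, hcψ⟩ := hwN
      have h2 : ψ (c⁻¹ * ⟨w, hw⟩) = 1 := by
        rw [map_mul, map_inv]
        have : ψ c = ψ ⟨w, hw⟩ := Multiplicative.toAdd.injective hcψ
        rw [this, inv_mul_cancel]
      have h3 := (hψk _).mp h2
      have h4 : w = c * ((c⁻¹ * ⟨w, hw⟩ : W) : G) := by
        simp
      rw [h4]
      exact C.mul_mem hc (hC0 h3)
  · obtain ⟨g, hg, hgfix⟩ := NOFIXSL F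
    rw [← hρ] at hg
    obtain ⟨e, rfl⟩ := hg
    obtain ⟨u, hu⟩ := hψs (Multiplicative.ofAdd (fun _ => (1 : F)))
    obtain ⟨w, hw, hwψ⟩ := hact e u
    refine ⟨e, e.2, u, u.2, ?_⟩
    intro hmem
    have h1 : ψ (w * u⁻¹) = 1 := by
      apply (hψk _).mpr
      rw [Subgroup.coe_mul, hw, Subgroup.coe_inv]
      exact hmem
    rw [map_mul, map_inv, mul_inv_eq_one] at h1
    rw [h1] at hwψ
    have h2 := hgfix _ hwψ.symm
    rw [hu] at h2
    have h3 := congrFun h2 0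
    simp at h3

/-- the symmetric case -/
theorem SEC_of_alt {m : ℕ} (hm : 1 ≤ m) {E W W₀ : Subgroup G}
    (h : ActsAsOddPermModuleOnSection (2 * m + 1) (alternatingGroup (Fin (2 * m + 1))) E W W₀) :
    SecIrr E W W₀ := by
  obtain ⟨hEW, hle, ρ, ψ, hρ, hψev, hψs, hψk, hact⟩ := h
  refine ⟨hEW, hle, ?_, ?_⟩
  · intro C hC0 hCW hEC
    let N : AddSubgroup (Fin (2 * m + 1) → ZMod 2) :=
      { carrier := {v | ∃ c : W, (c : G) ∈ C ∧ Multiplicative.toAdd (ψ c) = v}
        zero_mem' := ⟨1, C.one_mem, by simp⟩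
        add_mem' := by
          rintro _ _ ⟨c, hc, rfl⟩ ⟨d, hd, rfl⟩
          exact ⟨c * d, C.mul_mem hc hd, by simp⟩
        neg_mem' := by
          rintro _ ⟨c, hc, rfl⟩
          exact ⟨c⁻¹, C.inv_mem hc, by simp⟩ }
    have hev : ∀ v ∈ N, ∑ i, v i = 0 := by
      rintro _ ⟨c, -, rfl⟩
      exact hψev c
    have hN : ∀ σ ∈ alternatingGroup (Fin (2 * m + 1)), ∀ v ∈ N, (fun i => v (σ⁻¹ i)) ∈ N := by
      intro σ hσ v hv
      rw [← hρ] at hσ
      obtain ⟨e, rfl⟩ := hσ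
      obtain ⟨c, hc, rfl⟩ := hv
      obtain ⟨w, hw, hwψ⟩ := hact e c
      refine ⟨w, ?_, funext hwψ⟩
      rw [hw]
      exact conj_mem_of_mem_normalizer (hEC e.2) hc
    rcases IRRALT m N hev hN with h0 | h1
    · left
      apply le_antisymm _ hC0
      intro c hc
      have hcN : Multiplicative.toAdd (ψ ⟨c, hCW hc⟩) ∈ N := ⟨⟨c, hCW hc⟩, hc, rfl⟩
      rw [h0, AddSubgroup.mem_bot] at hcN
      have : ψ ⟨c, hCW hc⟩ = 1 := by
        apply Multiplicative.toAdd.injective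
        rw [hcN]; rfl
      exact (hψk _).mp this
    · right
      apply le_antisymm hCW
      intro w hw
      have hwN : Multiplicative.toAdd (ψ ⟨w, hw⟩) ∈ N := h1 _ (hψev _)
      obtain ⟨c, hc, hcψ⟩ := hwN
      have h2 : ψ (c⁻¹ * ⟨w, hw⟩) = 1 := by
        rw [map_mul, map_inv]
        have : ψ c = ψ ⟨w, hw⟩ := Multiplicative.toAdd.injective hcψ
        rw [this, inv_mul_cancel]
      have h3 := (hψk _).mp h2
      have h4 : w = c * ((c⁻¹ * ⟨w, hw⟩ : W) : G) := by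
        simp
      rw [h4]
      exact C.mul_mem hc (hC0 h3)
  · obtain ⟨σ, hσ, v, hv, hσv⟩ := NOFIXALT m hm
    rw [← hρ] at hσ
    obtain ⟨e, rfl⟩ := hσ
    obtain ⟨u, hu⟩ := hψs v hv
    obtain ⟨w, hw, hwψ⟩ := hact e u
    refine ⟨e, e.2, u, u.2, ?_⟩
    intro hmem
    have h1 : ψ (w * u⁻¹) = 1 := by
      apply (hψk _).mpr
      rw [Subgroup.coe_mul, hw, Subgroup.coe_inv]
      exact hmem
    rw [map_mul, map_inv, mul_inv_eq_one] at h1
    rw [h1] at hwψ
    apply hσv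
    funext i
    rw [← hu]
    exact (hwψ i).symm

end Cfsg.Agent.BLK
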