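import Mathlib
import Cfsg.Prelude.Def_BaumannBlocks
import Cfsg.Agent.Helper12.BLKNORM
import Cfsg.Agent.Helper12.BLKFIX
import Cfsg.Agent.Helper12.BLKSEC

/-! Board `blkpieces`, S2984 assembly, part 3: for a `B(T)`-block `E` of a group of characteristic `p`,
`O^p(E O_p(G)) = E`, `[W, E] ≤ Ω₁(Z(O_p(G)))` and `[W, E, J(T)] ≠ 1`. -/

set_option autoImplicit false

namespace Cfsg.Agent.BLK

open Cfsg Subgroup
open Cfsg.Agent.Helper15.JComp
open scoped commutatorElement Pointwise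

variable {G : Type*} [Group G]

/-! ### `Ω₁(Z(X))` -/

theorem S84_aux_omegaOneCenter_le (p : ℕ) (X : Subgroup G) :
    omegaOneCenter p X ≤ X ⊓ centralizer (X : Set G) :=
  omegaOne_le p _

theorem S84_aux_commute_of_mem_omegaOneCenter {p : ℕ} {X : Subgroup G} {x y : G}
    (hx : x ∈ omegaOneCenter p X) (hy : y ∈ X) : y * x = x * y :=
  (mem_centralizer_iff.mp (S84_aux_omegaOneCenter_le p X hx).2) y hy

theorem S84_aux_pow_eq_one {p : ℕ} {X : Subgroup G} {x : G} (hx : x ∈ omegaOneCenter p X) :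
    x ^ p = 1 := by
  have key : ∀ y ∈ closure {x : G | x ∈ X ⊓ centralizer (X : Set G) ∧ x ^ p = 1},
      y ∈ X ⊓ centralizer (X : Set G) ∧ y ^ p = 1 := by
    intro y hy
    induction hy using Subgroup.closure_induction with
    | mem y hy => exact hy
    | one => exact ⟨Subgroup.one_mem _, one_pow p⟩
    | mul a b _ _ iha ihb =>
      refine ⟨Subgroup.mul_mem _ iha.1 ihb.1, ?_⟩
      have hc : Commute a b := (mem_centralizer_iff.mp ihb.1.2) a iha.1.1
      rw [hc.mul_pow, iha.2, ihb.2, one_mul]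
    | inv a _ iha =>
      exact ⟨Subgroup.inv_mem _ iha.1, by rw [inv_pow, iha.2, inv_one]⟩
  exact (key x hx).2

theorem S84_aux_mem_omegaOneCenter {p : ℕ} {X : Subgroup G} {x : G} (hx : x ∈ X)
    (hxc : x ∈ centralizer (X : Set G)) (hxp : x ^ p = 1) : x ∈ omegaOneCenter p X :=
  Subgroup.subset_closure ⟨⟨hx, hxc⟩, hxp⟩

theorem S84_aux_normalizer_le_normalizer_omegaOneCenter (p : ℕ) (X : Subgroup G) :
    normalizer (X : Set G) ≤ normalizer ((omegaOneCenter p X : Subgroup G) : Set G) := by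
  unfold omegaOneCenter
  refine le_trans ?_ (normalizer_le_normalizer_omegaOne p _)
  refine le_trans ?_ le_normalizer_inf
  exact le_inf le_rfl (normalizer_le_normalizer_centralizer X)

/-! ### part (1): the residual -/

/-- if the `p`-group `P` normalizes `E = O^p(E)`, then `O^p(E P) = E` -/
theorem S84_residual {p : ℕ} [Fact p.Prime] {E P : Subgroup G} (hres : pResidualOf p E = E)
    (hPE : P ≤ normalizer (E : Set G)) (hP : IsPGroup p P) : pResidualOf p (E ⊔ P) = E := by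
  apply le_antisymm
  · unfold pResidualOf pResidual
    rw [MonoidHom.map_closure, closure_le]
    rintro _ ⟨y, hy, rfl⟩
    have hyco : (orderOf (y : G)).Coprime p := by
      rw [Subgroup.orderOf_coe]; exact hy
    have hymem : (y : G) ∈ (P ⊔ E : Subgroup G) := by
      rw [sup_comm]; exact y.2
    have hset : ((P ⊔ E : Subgroup G) : Set G) = (P : Set G) * (E : Set G) :=
      Subgroup.coe_mul_of_left_le_normalizer_right P E hPE
    have hymem' : (y : G) ∈ (P : Set G) * (E : Set G) := by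
      rw [← hset]; exact hymem
    obtain ⟨n, hn, e, he, hne⟩ := Set.mem_mul.mp hymem'
    show ((E ⊔ P).subtype y) ∈ E
    rw [Subgroup.coe_subtype, ← hne]
    apply NORM_aux_mem_of_coprime hPE hP hn he
    rw [hne]
    exact hyco
  · intro x hx
    rw [NORM_aux_residual_closure hres] at hx
    have : closure {e : G | e ∈ E ∧ (orderOf e).Coprime p} ≤ pResidualOf p (E ⊔ P) := by
      rw [closure_le]
      rintro e ⟨heE, heco⟩
      refine ⟨⟨e, mem_sup_left heE⟩, ?_, rfl⟩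
      apply Subgroup.subset_closure
      show (orderOf (⟨e, mem_sup_left heE⟩ : (E ⊔ P : Subgroup G))).Coprime p
      rw [← Subgroup.orderOf_coe]
      exact heco
    exact this hx

/-! ### part (2) -/

/-- the module argument: `[P, W] ≤ W₀` -/
theorem S84_aux_comm_le [Finite G] {p : ℕ} [Fact p.Prime] {E W W₀ P : Subgroup G}
    (hsec : SecIrr E W W₀) (hWab : ∀ a ∈ W, ∀ b ∈ W, a * b = b * a) (hWp : IsPGroup p W)
    (hP : IsPGroup p P) (hEP : E ≤ normalizer (P : Set G)) (hPW : P ≤ normalizer (W : Set G))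
    (hPW₀ : P ≤ normalizer (W₀ : Set G)) (hEW₀ : E ≤ normalizer (W₀ : Set G)) :
    ∀ x ∈ P, ∀ w ∈ W, x * w * x⁻¹ * w⁻¹ ∈ W₀ := by
  -- the subgroup `C`
  let C : Subgroup G :=
    { carrier := {w | w ∈ W ∧ ∀ x ∈ P, x * w * x⁻¹ * w⁻¹ ∈ W₀}
      one_mem' := ⟨W.one_mem, fun x _ => by simp⟩
      mul_mem' := by
        rintro a b ⟨ha, ha'⟩ ⟨hb, hb'⟩
        refine ⟨W.mul_mem ha hb, fun x hx => ?_⟩
        have hb2 : x * b * x⁻¹ * b⁻¹ ∈ W := hsec.le (hb' x hx)
        have hc : Commute a (x * b * x⁻¹ * b⁻¹) := hWab _ ha _ hb2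
        have h1' : (x * b * x⁻¹ * b⁻¹) * a⁻¹ = a⁻¹ * (x * b * x⁻¹ * b⁻¹) := (hc.inv_left).eq.symm
        have e : x * (a * b) * x⁻¹ * (a * b)⁻¹ = (x * a * x⁻¹ * a⁻¹) * (x * b * x⁻¹ * b⁻¹) := by
          calc x * (a * b) * x⁻¹ * (a * b)⁻¹
              = x * a * x⁻¹ * ((x * b * x⁻¹ * b⁻¹) * a⁻¹) := by group
            _ = x * a * x⁻¹ * (a⁻¹ * (x * b * x⁻¹ * b⁻¹)) := by rw [h1']
            _ = _ := by group
        rw [e]
        exact W₀.mul_mem (ha' x hx) (hb' x hx)
      inv_mem' := by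
        rintro a ⟨ha, ha'⟩
        refine ⟨W.inv_mem ha, fun x hx => ?_⟩
        have ha2 : x * a * x⁻¹ * a⁻¹ ∈ W := hsec.le (ha' x hx)
        have hc : Commute a (x * a * x⁻¹ * a⁻¹)⁻¹ := (hWab _ ha _ (W.inv_mem ha2))
        have e : x * a⁻¹ * x⁻¹ * a⁻¹⁻¹ = (x * a * x⁻¹ * a⁻¹)⁻¹ := by
          calc x * a⁻¹ * x⁻¹ * a⁻¹⁻¹ = a⁻¹ * ((x * a * x⁻¹ * a⁻¹)⁻¹ * a) := by group
            _ = a⁻¹ * (a * (x * a * x⁻¹ * a⁻¹)⁻¹) := by rw [hc.eq]
            _ = _ := by group
        rw [e]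
        exact W₀.inv_mem (ha' x hx) }
  have hCmem : ∀ w, w ∈ C ↔ w ∈ W ∧ ∀ x ∈ P, x * w * x⁻¹ * w⁻¹ ∈ W₀ := fun w => Iff.rfl
  have hC0 : W₀ ≤ C := by
    intro w hw
    rw [hCmem]
    refine ⟨hsec.le hw, fun x hx => ?_⟩
    exact W₀.mul_mem (conj_mem_of_mem_normalizer (hPW₀ hx) hw) (W₀.inv_mem hw)
  have hCW : C ≤ W := fun w hw => ((hCmem w).mp hw).1
  have hEC : E ≤ normalizer (C : Set G) := by
    apply Cfsg.Agent.S2941.le_normalizer_of_conj_mem
    intro e he w hw
    rw [hCmem] at hw ⊢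
    refine ⟨conj_mem_of_mem_normalizer (hsec.norm he) hw.1, fun x hx => ?_⟩
    have hx' : e⁻¹ * x * e ∈ P := conj_inv_mem_of_mem_normalizer (hEP he) hx
    have h1 := hw.2 _ hx'
    have e1 : x * (e * w * e⁻¹) * x⁻¹ * (e * w * e⁻¹)⁻¹ =
        e * ((e⁻¹ * x * e) * w * (e⁻¹ * x * e)⁻¹ * w⁻¹) * e⁻¹ := by group
    rw [e1]
    exact conj_mem_of_mem_normalizer (hEW₀ he) h1
  have hne : ¬ W ≤ W₀ := by
    intro hle
    obtain ⟨e, he, w, hw, hnot⟩ := hsec.nofix
    apply hnot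
    apply hle
    exact W.mul_mem (conj_mem_of_mem_normalizer (hsec.norm he) hw) (W.inv_mem hw)
  rcases hsec.irr C hC0 hCW hEC with h0 | h1
  · exfalso
    obtain ⟨u, huW, hu0, hfix⟩ := FIX hP hWp hne hPW hPW₀
    apply hu0
    rw [← h0, hCmem]
    refine ⟨huW, fun x hx => ?_⟩
    have h2 := hfix x hx
    have hxu : x * u * x⁻¹ ∈ W := conj_mem_of_mem_normalizer (hPW hx) huW
    have e2 : x * u * x⁻¹ * u⁻¹ = u⁻¹ * (x * u * x⁻¹) := hWab _ hxu _ (W.inv_mem huW)
    rw [e2]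
    exact h2
  · intro x hx w hw
    rw [← h1, hCmem] at hw
    exact hw.2 x hx

theorem S84_aux_normalizer_le_normalizer_pCoreOf (p : ℕ) (D : Subgroup G) :
    normalizer (D : Set G) ≤ normalizer ((pCoreOf p D : Subgroup G) : Set G) := by
  intro g hg
  rw [Subgroup.mem_normalizer_iff_map_conj_eq] at hg ⊢
  have h1 := Cfsg.Agent.Helper14.pCoreOf_map_conj p D g
  have h2 : D.map (MulAut.conj g).toMonoidHom = D := hg
  rw [h2] at h1
  exact h1.symm

/-- **S2984 core**, in terms of `SecIrr` -/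
theorem S84_main [Finite G] {p : ℕ} [Fact p.Prime]
    (hG : centralizer (pCore p G : Set G) ≤ pCore p G) (T : Sylow p G) (E : Subgroup G)
    (hres : pResidualOf p E = E) (hcomm : ⁅E, baumannSubgroupOf p (T : Subgroup G)⁆ = E)
    (hsec : SecIrr E (omegaOneCenter p (pCoreOf p E))
      (omegaOneCenter p (pCoreOf p E) ⊓ centralizer (E : Set G))) :
    pResidualOf p (E ⊔ pCore p G) = E ∧
    ⁅omegaOneCenter p (pCoreOf p E), E⁆ ≤ omegaOneCenter p (pCore p G) ∧
    ⁅⁅omegaOneCenter p (pCoreOf p E), E⁆, thompsonSubgroupOf p (T : Subgroup G)⁆ ≠ ⊥ := by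
  set P : Subgroup G := pCore p G with hPdef
  set Q : Subgroup G := pCoreOf p E with hQdef
  set W : Subgroup G := omegaOneCenter p Q with hWdef
  set W₀ : Subgroup G := W ⊓ centralizer (E : Set G) with hW₀def
  set B : Subgroup G := baumannSubgroupOf p (T : Subgroup G) with hBdef
  set J : Subgroup G := thompsonSubgroupOf p (T : Subgroup G) with hJdef
  have hPn : P.Normal := Cfsg.Agent.Helper14.pCore_normal p
  have hPp : IsPGroup p P := Cfsg.Agent.Helper14.pCore_isPGroup p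
  have hNP : normalizer (P : Set G) = ⊤ := normalizer_eq_top P
  have hEP : E ≤ normalizer (P : Set G) := by rw [hNP]; exact le_top
  have hBP : B ≤ normalizer (P : Set G) := by rw [hNP]; exact le_top
  have hPE : P ≤ normalizer (E : Set G) := NORM T E hres hcomm P hPp hBP hEP
  have hEE : E ≤ normalizer (E : Set G) := le_normalizer
  have hPQ : P ≤ normalizer (Q : Set G) :=
    hPE.trans (S84_aux_normalizer_le_normalizer_pCoreOf p E)
  have hNQW : normalizer (Q : Set G) ≤ normalizer (W : Set G) :=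
    S84_aux_normalizer_le_normalizer_omegaOneCenter p Q
  have hPW : P ≤ normalizer (W : Set G) := hPQ.trans hNQW
  have hEW : E ≤ normalizer (W : Set G) := hsec.norm
  have hNCE : normalizer (E : Set G) ≤ normalizer ((centralizer (E : Set G) : Subgroup G) : Set G) :=
    normalizer_le_normalizer_centralizer E
  have hPW₀ : P ≤ normalizer (W₀ : Set G) :=
    le_trans (le_inf hPW (hPE.trans hNCE)) le_normalizer_inf
  have hEW₀ : E ≤ normalizer (W₀ : Set G) :=
    le_trans (le_inf hEW (hEE.trans hNCE)) le_normalizer_inf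
  have hWle : W ≤ Q ⊓ centralizer (Q : Set G) := S84_aux_omegaOneCenter_le p Q
  have hWab : ∀ a ∈ W, ∀ b ∈ W, a * b = b * a := fun a ha b hb =>
    S84_aux_commute_of_mem_omegaOneCenter hb (hWle ha).1
  have hWp : IsPGroup p W :=
    (Cfsg.Agent.Helper14.pCoreOf_isPGroup p E).to_le (hWle.trans inf_le_left)
  have hmod := S84_aux_comm_le hsec hWab hWp hPp hEP hPW hPW₀ hEW₀
  -- part (1)
  have part1 : pResidualOf p (E ⊔ P) = E := S84_residual hres hPE hPp
  -- `[E, P] ≤ Q`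
  have hEPQ : ⁅E, P⁆ ≤ Q := by
    have h1 : ⁅E, P⁆ ≤ E ⊓ P := by
      rw [Subgroup.commutator_le]
      intro e he x hx
      refine ⟨?_, ?_⟩
      · have e1 : ⁅e, x⁆ = e * (x * e⁻¹ * x⁻¹) := by
          simp only [commutatorElement_def]; group
        rw [e1]
        exact E.mul_mem he (conj_mem_of_mem_normalizer (hPE hx) (E.inv_mem he))
      · have e1 : ⁅e, x⁆ = (e * x * e⁻¹) * x⁻¹ := by
          simp only [commutatorElement_def]
        rw [e1]
        exact P.mul_mem (conj_mem_of_mem_normalizer (hEP he) hx) (P.inv_mem hx)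
    have h2 : E ⊓ P ≤ Q :=
      Cfsg.Agent.Helper14.le_pCoreOf p inf_le_left
        (le_trans (le_inf hEE hEP) le_normalizer_inf) (hPp.to_le inf_le_right)
    exact h1.trans h2
  have h3 : ⁅⁅E, P⁆, W⁆ = ⊥ := by
    rw [Subgroup.commutator_eq_bot_iff_le_centralizer]
    refine hEPQ.trans ?_
    exact Subgroup.le_centralizer_iff.mp (hWle.trans inf_le_right)
  have h4 : ⁅⁅P, W⁆, E⁆ = ⊥ := by
    rw [Subgroup.commutator_eq_bot_iff_le_centralizer, Subgroup.commutator_le]
    intro x hx w hw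
    have : ⁅x, w⁆ ∈ W₀ := by
      rw [commutatorElement_def]
      exact hmod x hx w hw
    exact this.2
  have h5 : ⁅⁅W, E⁆, P⁆ = ⊥ := Subgroup.commutator_commutator_eq_bot_of_rotate h3 h4
  have hWEc : ⁅W, E⁆ ≤ centralizer (P : Set G) :=
    Subgroup.commutator_eq_bot_iff_le_centralizer.mp h5
  have hWEP : ⁅W, E⁆ ≤ P := hWEc.trans hG
  have hWEW : ⁅W, E⁆ ≤ W := by
    rw [Subgroup.commutator_le]
    intro w hw e he
    have e1 : ⁅w, e⁆ = w * (e * w⁻¹ * e⁻¹) := by
      simp only [commutatorElement_def]; group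
    rw [e1]
    exact W.mul_mem hw (conj_mem_of_mem_normalizer (hEW he) (W.inv_mem hw))
  have hpow : ∀ x ∈ ⁅W, E⁆, x ^ p = 1 := fun x hx => S84_aux_pow_eq_one (hWEW hx)
  have part2 : ⁅W, E⁆ ≤ omegaOneCenter p P := fun x hx =>
    S84_aux_mem_omegaOneCenter (hWEP hx) (hWEc hx) (hpow x hx)
  refine ⟨part1, part2, ?_⟩
  -- part (3)
  intro hbot
  have hWEJ : ⁅W, E⁆ ≤ centralizer (J : Set G) :=
    Subgroup.commutator_eq_bot_iff_le_centralizer.mp hbot
  have hPT : P ≤ (T : Subgroup G) := Cfsg.Agent.Helper14.pCore_le_sylow p T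
  obtain ⟨A₀, hA₀⟩ := maxEA_nonempty p (T : Subgroup G)
  have hWEA : ∀ A ∈ maxEA p (T : Subgroup G), ⁅W, E⁆ ≤ A := by
    intro A hA x hx
    apply mem_of_mem_maxEA_of_commute hA (hPT (hWEP hx)) (hpow x hx)
    intro a ha
    exact (mem_centralizer_iff.mp (hWEJ hx)) a (le_thompsonSubgroupOf_of_mem_maxEA hA ha)
  have hWEJ' : ⁅W, E⁆ ≤ J := (hWEA A₀ hA₀).trans (le_thompsonSubgroupOf_of_mem_maxEA hA₀)
  have hWEΩ : ⁅W, E⁆ ≤ omegaOne p (centerThompsonOf p (T : Subgroup G)) := by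
    intro x hx
    exact Subgroup.subset_closure ⟨⟨hWEJ' hx, hWEJ hx⟩, hpow x hx⟩
  have hBc : B ≤ centralizer ((⁅W, E⁆ : Subgroup G) : Set G) :=
    le_trans inf_le_right (Subgroup.centralizer_le hWEΩ)
  have h6 : ⁅B, ⁅W, E⁆⁆ = ⊥ := Subgroup.commutator_eq_bot_iff_le_centralizer.mpr hBc
  have hEWE : E ≤ normalizer ((⁅W, E⁆ : Subgroup G) : Set G) :=
    le_trans (le_inf hEW hEE) le_normalizer_commutator
  have h7 : ⁅⁅E, B⁆, ⁅W, E⁆⁆ = ⊥ := by
    apply Subgroup.commutator_commutator_eq_bot_of_rotate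
    · rw [h6, Subgroup.commutator_bot_left]
    · have h8 : ⁅⁅W, E⁆, E⁆ ≤ ⁅W, E⁆ := by
        rw [Subgroup.commutator_le]
        intro w hw e he
        have e1 : ⁅w, e⁆ = w * (e * w⁻¹ * e⁻¹) := by
          simp only [commutatorElement_def]; group
        rw [e1]
        exact Subgroup.mul_mem _ hw (conj_mem_of_mem_normalizer (hEWE he) (Subgroup.inv_mem _ hw))
      have h9 : ⁅⁅W, E⁆, B⁆ = ⊥ := by rw [Subgroup.commutator_comm]; exact h6
      exact le_bot_iff.mp (h9 ▸ Subgroup.commutator_mono h8 le_rfl)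
  rw [hcomm] at h7
  have hEc : E ≤ centralizer ((⁅W, E⁆ : Subgroup G) : Set G) :=
    Subgroup.commutator_eq_bot_iff_le_centralizer.mp h7
  have hWEcE : ⁅W, E⁆ ≤ centralizer (E : Set G) := Subgroup.le_centralizer_iff.mp hEc
  obtain ⟨e, he, w, hw, hnot⟩ := hsec.nofix
  apply hnot
  have e1 : e * w * e⁻¹ * w⁻¹ = ⁅w, e⁆⁻¹ := by
    rw [commutatorElement_inv, commutatorElement_def]
  rw [e1]
  have hmem : ⁅w, e⁆ ∈ ⁅W, E⁆ := Subgroup.commutator_mem_commutator hw he
  exact Subgroup.inv_mem _ ⟨hWEW hmem, hWEcE hmem⟩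

end Cfsg.Agent.BLK

namespace Cfsg.Agent.BLK

open Cfsg Subgroup

variable {G : Type*} [Group G]

/-- a block has an irreducible nontrivial section `W / C_W(E)` -/
theorem S84_secIrr_of_block {p : ℕ} [Fact p.Prime] {T E : Subgroup G}
    (hE : IsBaumannBlock p T E) :
    SecIrr E (omegaOneCenter p (pCoreOf p E))
      (omegaOneCenter p (pCoreOf p E) ⊓ centralizer (E : Set G)) := by
  obtain ⟨hres, hcomm, hQE, hne, hcase⟩ := hE
  rcases hcase with ⟨F, _, _, n, hcard, hiso, hact, _⟩ | ⟨hp2, m, hiso, hact, hQW⟩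
  · exact SEC_of_SL2 hact
  · have hm : 1 ≤ m := by
      by_contra hm0
      have hm0' : m = 0 := by omega
      subst hm0'
      exfalso
      apply hne
      obtain ⟨iso⟩ := hiso
      haveI : Subsingleton (alternatingGroup (Fin (2 * 0 + 1))) := by
        have : Subsingleton (Equiv.Perm (Fin (2 * 0 + 1))) := by
          simp only [Nat.mul_zero, Nat.zero_add]
          infer_instance
        infer_instance
      have hss : Subsingleton (↥E ⧸ pCore p ↥E) := iso.toEquiv.subsingleton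
      have htop : pCore p ↥E = ⊤ := QuotientGroup.subgroup_eq_top_of_subsingleton _ hss
      have hEp : ∀ e : ↥E, ∃ k : ℕ, e ^ p ^ k = 1 := by
        intro e
        have he : e ∈ pCore p ↥E := by rw [htop]; trivial
        obtain ⟨k, hk⟩ := (Cfsg.Agent.Helper14.pCore_isPGroup (G := ↥E) p) ⟨e, he⟩
        refine ⟨k, ?_⟩
        have := congrArg Subtype.val hk
        simpa using this
      have hEbot : E = ⊥ := by
        rw [NORM_aux_residual_closure hres, eq_bot_iff, closure_le]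
        rintro e ⟨heE, heco⟩
        obtain ⟨k, hk⟩ := hEp ⟨e, heE⟩
        have hk' : e ^ p ^ k = 1 := by
          have := congrArg Subtype.val hk
          simpa using this
        have h1 : orderOf e ∣ p ^ k := orderOf_dvd_of_pow_eq_one hk'
        have h2 : orderOf e = 1 :=
          Nat.eq_one_of_dvd_coprimes (Nat.Coprime.pow_right k heco) dvd_rfl h1
        rw [orderOf_eq_one_iff] at h2
        rw [h2]
        exact Subgroup.one_mem _
      rw [hEbot, Subgroup.commutator_bot_left]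
    exact SEC_of_alt hm hact

end Cfsg.Agent.BLK
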