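import Cfsg.Agent.Helper12.BNStG

set_option autoImplicit false

/-!
# The (B,N)-pair of a standard parabolic subgroup

For a (B,N)-pair `P` of `G` and a set `J` of distinguished generators, the parabolic subgroup
`P_J` carries the (B,N)-pair `(B, N_J)` with distinguished generators `J`.
-/

namespace Cfsg.Agent.Helper12.BNCnt

open Cfsg Cfsg.Agent.Helper2 Cfsg.Agent.Helper14.ExchCox Cfsg.Agent.Helper12.BNSt

variable {G : Type*} [Group G] (P : Cfsg.BNPair G)

/-- `H` is normal in `N`, for every (B,N)-pair -/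
theorem normalH_bn : ((P.B ⊓ P.N).subgroupOf P.N).Normal := by
  constructor
  intro h hh n
  rw [Subgroup.mem_subgroupOf] at hh ⊢
  simp only [Subgroup.coe_mul, Subgroup.coe_inv]
  exact ⟨P.conj_mem _ n.2 _ hh, Subgroup.mul_mem _ (Subgroup.mul_mem _ n.2 hh.2)
    (Subgroup.inv_mem _ n.2)⟩

theorem B_inf_NJ {J : Set G} (hJ : J ⊆ P.S) : P.B ⊓ BN.NJ P J = BN.H P := by
  apply le_antisymm
  · exact inf_le_inf_left _ (BN.NJ_le_N hJ)
  · exact le_inf (BN.H_le_B P) BN.H_le_NJ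

theorem closure_lift {J : Set G} {M : Subgroup G} (hM : J ⊆ M) {c : G}
    (hc : c ∈ Subgroup.closure J) :
    ∃ h : c ∈ M, (⟨c, h⟩ : ↥M) ∈ Subgroup.closure {x : ↥M | (x : G) ∈ J} := by
  induction hc using Subgroup.closure_induction with
  | mem x hx => exact ⟨hM hx, Subgroup.subset_closure hx⟩
  | one => exact ⟨M.one_mem, Subgroup.one_mem _⟩
  | mul x y _ _ hx hy =>
    obtain ⟨h1, h2⟩ := hx
    obtain ⟨h3, h4⟩ := hy
    exact ⟨M.mul_mem h1 h3, Subgroup.mul_mem _ h2 h4⟩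
  | inv x _ hx =>
    obtain ⟨h1, h2⟩ := hx
    exact ⟨M.inv_mem h1, Subgroup.inv_mem _ h2⟩

/-- the (B,N)-pair of the parabolic subgroup `P_J` -/
def subBN (J : Set G) (hJ : J ⊆ P.S) : Cfsg.BNPair ↥(P.parabolic J) where
  B := P.B.subgroupOf (P.parabolic J)
  N := (BN.NJ P J).subgroupOf (P.parabolic J)
  S := {x | (x : G) ∈ J}
  sup_eq_top := by
    rw [eq_top_iff]
    rintro ⟨x, hx⟩ _
    obtain ⟨n, hn, hxn⟩ := (BN.mem_parabolic_iff hJ).1 hx
    obtain ⟨b, hb, b', hb', rfl⟩ := (BN.mem_C_iff P).1 hxn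
    have hbP : b ∈ P.parabolic J := BN.B_le_parabolic J hb
    have hb'P : b' ∈ P.parabolic J := BN.B_le_parabolic J hb'
    have hnP : n ∈ P.parabolic J := BN.NJ_le_parabolic J hn
    have e : (⟨b * n * b', hx⟩ : ↥(P.parabolic J)) = ⟨b, hbP⟩ * ⟨n, hnP⟩ * ⟨b', hb'P⟩ := rfl
    rw [e]
    refine Subgroup.mul_mem _ (Subgroup.mul_mem _ (Subgroup.mem_sup_left ?_)
      (Subgroup.mem_sup_right ?_)) (Subgroup.mem_sup_left ?_)
    · exact hb
    · exact hn
    · exact hb'
  conj_mem := by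
    intro n hn t ht
    rw [Subgroup.mem_subgroupOf] at hn
    rw [Subgroup.mem_inf, Subgroup.mem_subgroupOf, Subgroup.mem_subgroupOf] at ht
    rw [Subgroup.mem_subgroupOf]
    simp only [Subgroup.coe_mul, Subgroup.coe_inv]
    exact P.conj_mem _ (BN.NJ_le_N hJ hn) _ ⟨ht.1, BN.NJ_le_N hJ ht.2⟩
  subset := by
    intro x hx
    exact Subgroup.mem_sup_left (Subgroup.subset_closure hx)
  sq_mem := by
    intro s hs
    rw [Subgroup.mem_subgroupOf]
    simp only [Subgroup.coe_mul]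
    exact P.sq_mem _ (hJ hs)
  inj := by
    intro s hs s' hs' h
    rw [Subgroup.mem_subgroupOf] at h
    simp only [Subgroup.coe_mul, Subgroup.coe_inv] at h
    exact Subtype.ext (P.inj _ (hJ hs) _ (hJ hs') h)
  closure_sup := by
    apply le_antisymm
    · apply sup_le
      · rw [Subgroup.closure_le]
        intro x hx
        exact Subgroup.mem_sup_left (Subgroup.subset_closure hx)
      · exact inf_le_right
    · rintro ⟨x, hxP⟩ hx
      rw [Subgroup.mem_subgroupOf] at hx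
      obtain ⟨c, hc, hcx⟩ := BN.exists_closure_of_mem_NJ hJ hx
      have hJP : J ⊆ P.parabolic J := fun y hy =>
        BN.closure_le_parabolic J (Subgroup.subset_closure hy)
      obtain ⟨hcP, hcc⟩ := closure_lift hJP hc
      have hhP : c⁻¹ * x ∈ P.parabolic J := BN.B_le_parabolic J (BN.H_le_B P hcx)
      have e : (⟨x, hxP⟩ : ↥(P.parabolic J)) = ⟨c, hcP⟩ * ⟨c⁻¹ * x, hhP⟩ := by
        apply Subtype.ext
        simp
      rw [e]
      refine Subgroup.mul_mem _ (Subgroup.mem_sup_left hcc) (Subgroup.mem_sup_right ?_)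
      rw [Subgroup.mem_inf, Subgroup.mem_subgroupOf, Subgroup.mem_subgroupOf]
      exact ⟨BN.H_le_B P hcx, BN.H_le_NJ hcx⟩
  mul_mem_union := by
    intro s hs n hn b hb
    rw [Subgroup.mem_subgroupOf] at hn hb
    have key := P.mul_mem_union _ (hJ hs) _ (BN.NJ_le_N hJ hn) _ hb
    rcases key with key | key
    · left
      obtain ⟨b₁, hb₁, b₂, hb₂, e⟩ := DoubleCoset.mem_doubleCoset.1 key
      rw [DoubleCoset.mem_doubleCoset]
      refine ⟨⟨b₁, BN.B_le_parabolic J hb₁⟩, hb₁, ⟨b₂, BN.B_le_parabolic J hb₂⟩, hb₂, ?_⟩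
      apply Subtype.ext
      simpa using e
    · right
      obtain ⟨b₁, hb₁, b₂, hb₂, e⟩ := DoubleCoset.mem_doubleCoset.1 key
      rw [DoubleCoset.mem_doubleCoset]
      refine ⟨⟨b₁, BN.B_le_parabolic J hb₁⟩, hb₁, ⟨b₂, BN.B_le_parabolic J hb₂⟩, hb₂, ?_⟩
      apply Subtype.ext
      simpa using e
  conj_ne := by
    intro s hs heq
    apply P.conj_ne _ (hJ hs)
    apply Set.Subset.antisymm
    · rintro _ ⟨b, hb, rfl⟩
      have h1 : (s * ⟨b, BN.B_le_parabolic J hb⟩ * s : ↥(P.parabolic J)) ∈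
          ((P.B.subgroupOf (P.parabolic J) : Subgroup ↥(P.parabolic J)) :
            Set ↥(P.parabolic J)) := by
        rw [← heq]
        exact ⟨⟨b, BN.B_le_parabolic J hb⟩, hb, rfl⟩
      exact h1
    · intro b hb
      have h1 : (⟨b, BN.B_le_parabolic J hb⟩ : ↥(P.parabolic J)) ∈
          ((P.B.subgroupOf (P.parabolic J) : Subgroup ↥(P.parabolic J)) :
            Set ↥(P.parabolic J)) := hb
      rw [← heq] at h1
      obtain ⟨b', hb', e⟩ := h1
      refine ⟨(b' : G), hb', ?_⟩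
      have := congrArg Subtype.val e
      simpa using this

variable {P}

section sub

variable {J : Set G} (hJ : J ⊆ P.S)

@[simp] theorem subBN_B : (subBN P J hJ).B = P.B.subgroupOf (P.parabolic J) := rfl

@[simp] theorem subBN_N : (subBN P J hJ).N = (BN.NJ P J).subgroupOf (P.parabolic J) := rfl

@[simp] theorem subBN_S : (subBN P J hJ).S = {x : ↥(P.parabolic J) | (x : G) ∈ J} := rfl

theorem mem_subBN_B {x : ↥(P.parabolic J)} : x ∈ (subBN P J hJ).B ↔ (x : G) ∈ P.B := Iff.rfl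

theorem mem_subBN_N {x : ↥(P.parabolic J)} : x ∈ (subBN P J hJ).N ↔ (x : G) ∈ BN.NJ P J :=
  Iff.rfl

theorem mem_subBN_S {x : ↥(P.parabolic J)} : x ∈ (subBN P J hJ).S ↔ (x : G) ∈ J := Iff.rfl

theorem mem_subBN_H {x : ↥(P.parabolic J)} : x ∈ BN.H (subBN P J hJ) ↔ (x : G) ∈ BN.H P := by
  rw [BN.mem_H_iff, mem_subBN_B, mem_subBN_N, BN.mem_H_iff]
  constructor
  · rintro ⟨h1, h2⟩
    exact ⟨h1, BN.NJ_le_N hJ h2⟩
  · rintro ⟨h1, h2⟩
    exact ⟨h1, BN.H_le_NJ ⟨h1, h2⟩⟩

theorem mem_subBN_C {x n : ↥(P.parabolic J)} :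
    x ∈ BN.C (subBN P J hJ) n ↔ (x : G) ∈ BN.C P (n : G) := by
  rw [BN.mem_C_iff, BN.mem_C_iff]
  constructor
  · rintro ⟨b, hb, b', hb', e⟩
    refine ⟨b, hb, b', hb', ?_⟩
    have := congrArg Subtype.val e
    simpa using this
  · rintro ⟨b, hb, b', hb', e⟩
    refine ⟨⟨b, BN.B_le_parabolic J hb⟩, hb, ⟨b', BN.B_le_parabolic J hb'⟩, hb', ?_⟩
    apply Subtype.ext
    simpa using e

theorem subBN_parabolic (K : Set ↥(P.parabolic J)) (hK : K ⊆ (subBN P J hJ).S) :
    (subBN P J hJ).parabolic K =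
      (P.parabolic (Subtype.val '' K)).subgroupOf (P.parabolic J) := by
  have hKJ : Subtype.val '' K ⊆ J := by
    rintro _ ⟨x, hx, rfl⟩
    exact hK hx
  have h1 : Subgroup.closure (Subtype.val '' K) ≤ P.parabolic J :=
    (Subgroup.closure_mono hKJ).trans (BN.closure_le_parabolic J)
  have e1 : (subBN P J hJ).parabolic K = (subBN P J hJ).B ⊔ Subgroup.closure K := rfl
  have e2 : P.parabolic (Subtype.val '' K) = P.B ⊔ Subgroup.closure (Subtype.val '' K) := rfl
  rw [e1, e2, Subgroup.subgroupOf_sup (BN.B_le_parabolic J) h1, subBN_B]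
  congr 1
  have h2 : (Subgroup.closure K).map (P.parabolic J).subtype =
      Subgroup.closure (Subtype.val '' K) := by
    rw [MonoidHom.map_closure]
    rfl
  rw [← h2]
  exact (Subgroup.comap_map_eq_self_of_injective (Subgroup.subtype_injective _) _).symm

theorem simple_subBN {r : ↥(P.parabolic J)} :
    BN.Simple (subBN P J hJ) (subBN P J hJ).S r ↔ BN.Simple P J (r : G) := by
  constructor
  · rintro ⟨s, hs, h⟩
    refine ⟨(s : G), hs, ?_⟩
    have := (mem_subBN_H hJ).1 h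
    simpa using this
  · rintro ⟨s, hs, h⟩
    have hsP : s ∈ P.parabolic J := BN.closure_le_parabolic J (Subgroup.subset_closure hs)
    refine ⟨⟨s, hsP⟩, hs, ?_⟩
    rw [mem_subBN_H]
    simpa using h

theorem reach_subBN (k : ℕ) : ∀ {n : ↥(P.parabolic J)},
    n ∈ BN.Reach (subBN P J hJ) (subBN P J hJ).S k ↔ (n : G) ∈ BN.Reach P J k := by
  induction k with
  | zero =>
    intro n
    rw [BN.reach_zero, BN.reach_zero, mem_subBN_H]
  | succ k ih =>
    intro n
    rw [BN.reach_succ, BN.reach_succ]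
    constructor
    · rintro ⟨r, m, hr, hm, rfl⟩
      exact ⟨(r : G), (m : G), (simple_subBN hJ).1 hr, ih.1 hm, rfl⟩
    · rintro ⟨r, m, hr, hm, e⟩
      have hrP : r ∈ P.parabolic J := BN.NJ_le_parabolic J hr.mem_NJ
      have hmP : m ∈ P.parabolic J := BN.NJ_le_parabolic J (BN.reach_subset_NJ hm)
      refine ⟨⟨r, hrP⟩, ⟨m, hmP⟩, (simple_subBN hJ).2 hr, ih.2 hm, ?_⟩
      apply Subtype.ext
      simpa using e

theorem len_subBN (n : ↥(P.parabolic J)) :
    BN.len (subBN P J hJ) (subBN P J hJ).S n = BN.len P J (n : G) := by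
  unfold BN.len
  congr 1
  ext k
  exact reach_subBN hJ k

end sub

end Cfsg.Agent.Helper12.BNCnt
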