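import Cfsg.Agent.Helper12.BNCntB

set_option autoImplicit false

/-!
# Counting elements of `p`-power order in a group with a split (B,N)-pair: one parabolic step

If `B = U ⋊ H`, the `p`-elements are conjugate into `U`, and `V ≤ U` is a normal subgroup with
`U ∩ n₀ B n₀⁻¹ ≤ V` for the longest element `n₀`, then
`∑_K (-1)^|K| |G : P_K| #{p-elements of P_K} = |U|`.
-/

namespace Cfsg.Agent.Helper12.BNCnt

open Cfsg Cfsg.Agent.Helper2 Cfsg.Agent.Helper14.ExchCox Cfsg.Agent.Helper12.BNSt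

variable {G : Type*} [Group G]

/-- number of elements of `p`-power order in the subgroup `M` -/
noncomputable def pcount (p : ℕ) (M : Subgroup G) : ℕ :=
  Nat.card {g : G // g ∈ M ∧ ∃ k : ℕ, orderOf g = p ^ k}

theorem orderOf_conj' (x g : G) : orderOf (x * g * x⁻¹) = orderOf g := by
  have : x * g * x⁻¹ = MulAut.conj x g := rfl
  rw [this, MulEquiv.orderOf_eq]

/-- double counting: a sum of a permutation character over an invariant set -/
theorem sum_fixedPointCharacter [Fintype G] (M : Subgroup G) (Q : G → Prop) [DecidablePred Q]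
    (hQ : ∀ g x, Q (x * g * x⁻¹) ↔ Q g) :
    ∑ g : G, (if Q g then fixedPointCharacter M g else 0) =
      (Nat.card (G ⧸ M) : ℂ) * (Nat.card {g : G // g ∈ M ∧ Q g} : ℂ) := by
  classical
  let _ : Fintype (G ⧸ M) := Fintype.ofFinite _
  have h1 : ∀ g : G, fixedPointCharacter M g =
      ∑ c : G ⧸ M, if g • c = c then (1 : ℂ) else 0 := by
    intro g
    unfold fixedPointCharacter
    exact card_eq_sum_ite (fun c : G ⧸ M => g • c = c)
  have h2 : ∀ g : G, (if Q g then fixedPointCharacter M g else 0) =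
      ∑ c : G ⧸ M, if (Q g ∧ g • c = c) then (1 : ℂ) else 0 := by
    intro g
    by_cases hg : Q g
    · rw [if_pos hg, h1]
      apply Finset.sum_congr rfl
      intro c _
      simp [hg]
    · rw [if_neg hg]
      symm
      apply Finset.sum_eq_zero
      intro c _
      simp [hg]
  simp_rw [h2]
  rw [Finset.sum_comm]
  have h3 : ∀ c : G ⧸ M, (∑ g : G, if (Q g ∧ g • c = c) then (1 : ℂ) else 0) =
      (Nat.card {g : G // g ∈ M ∧ Q g} : ℂ) := by
    intro c
    rw [← card_eq_sum_ite (fun g : G => Q g ∧ g • c = c)]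
    congr 1
    induction c using QuotientGroup.induction_on with
    | H x =>
      apply Nat.card_congr
      refine ⟨fun g => ⟨x⁻¹ * g.1 * x, ?_, ?_⟩, fun g => ⟨x * g.1 * x⁻¹, ?_, ?_⟩, ?_, ?_⟩
      · have := g.2.2
        rw [MulAction.Quotient.smul_mk, QuotientGroup.eq, smul_eq_mul] at this
        have h := M.inv_mem this
        have e : ((g.1 * x)⁻¹ * x)⁻¹ = x⁻¹ * g.1 * x := by group
        rwa [e] at h
      · have := (hQ g.1 x⁻¹).2 g.2.1
        rwa [inv_inv] at this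
      · exact (hQ g.1 x).2 g.2.2
      · rw [MulAction.Quotient.smul_mk, QuotientGroup.eq, smul_eq_mul]
        have e : (x * g.1 * x⁻¹ * x)⁻¹ * x = (g.1)⁻¹ := by group
        rw [e]
        exact M.inv_mem g.2.1
      · intro g
        apply Subtype.ext
        show x * (x⁻¹ * g.1 * x) * x⁻¹ = g.1
        group
      · intro g
        apply Subtype.ext
        show x⁻¹ * (x * g.1 * x⁻¹) * x = g.1
        group
  simp_rw [h3]
  rw [Finset.sum_const, Finset.card_univ, nsmul_eq_mul, Nat.card_eq_fintype_card (α := G ⧸ M)]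

theorem fixedPointCharacter_conj (M : Subgroup G) (x g : G) :
    fixedPointCharacter M (x * g * x⁻¹) = fixedPointCharacter M g := by
  unfold fixedPointCharacter
  congr 1
  apply Nat.card_congr
  refine ⟨fun c => ⟨x⁻¹ • c.1, ?_⟩, fun c => ⟨x • c.1, ?_⟩, ?_, ?_⟩
  · have := c.2
    rw [MulAction.mem_fixedBy] at this ⊢
    conv_rhs => rw [← this]
    simp only [smul_smul]
    congr 1
    group
  · have := c.2
    rw [MulAction.mem_fixedBy] at this ⊢
    conv_rhs => rw [← this]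
    simp only [smul_smul]
    congr 1
    group
  · intro c
    apply Subtype.ext
    simp
  · intro c
    apply Subtype.ext
    simp

variable (P : Cfsg.BNPair G)

theorem altSum_conj [Fintype P.S] (x g : G) : altSum P (x * g * x⁻¹) = altSum P g := by
  unfold altSum
  apply Finset.sum_congr rfl
  intro K _
  rw [fixedPointCharacter_conj]

variable [hN : ((P.B ⊓ P.N).subgroupOf P.N).Normal]

section step

variable [Fintype G] [Fintype P.S] (p : ℕ) (U V : Subgroup G)
  (hUB : U ≤ P.B) (hUn : ∀ b ∈ P.B, ∀ u ∈ U, b * u * b⁻¹ ∈ U)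
  (hBUH : ∀ b ∈ P.B, ∃ u ∈ U, ∃ h ∈ BN.H P, b = u * h) (hUH : U ⊓ BN.H P = ⊥)
  (hUp : ∀ u ∈ U, ∃ k : ℕ, orderOf u = p ^ k)
  (hsyl : ∀ g : G, (∃ k : ℕ, orderOf g = p ^ k) → ∃ x : G, x * g * x⁻¹ ∈ U)
  (hVU : V ≤ U) (hVn : V.Normal) {n₀ : G} (hn₀ : n₀ ∈ P.N)
  (hdesc : ∀ j : P.S, len (sgen P) ((QuotientGroup.mk ⟨n₀, hn₀⟩ : Wq P) * sgen P j) <
      len (sgen P) (QuotientGroup.mk ⟨n₀, hn₀⟩ : Wq P))
  (h9 : ∀ x ∈ U, n₀⁻¹ * x * n₀ ∈ P.B → x ∈ V)

omit hN [Fintype G] [Fintype P.S] in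
include hUB hVU hVn in
theorem V_le_opp : V ≤ opp P n₀ := by
  intro v hv
  rw [mem_opp]
  refine ⟨hUB (hVU hv), hUB (hVU ?_)⟩
  have := hVn.conj_mem v hv n₀⁻¹
  rwa [inv_inv] at this

open Classical in
include hUB hUn hVU hVn hdesc h9 in
/-- the value of the alternating sum on `U` -/
theorem altSum_of_mem_U {u : G} (hu : u ∈ U) :
    altSum P u = if u ∈ V then (Nat.card (↥P.B ⧸ (opp P n₀).subgroupOf P.B) : ℂ) else 0 := by
  have key := altSum_restrict P hn₀ hdesc ⟨u, hUB hu⟩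
  rw [key]
  unfold fixedPointCharacter
  by_cases huV : u ∈ V
  · rw [if_pos huV]
    congr 1
    have : MulAction.fixedBy (↥P.B ⧸ (opp P n₀).subgroupOf P.B) (⟨u, hUB hu⟩ : P.B) = Set.univ := by
      rw [Set.eq_univ_iff_forall]
      intro c
      induction c using QuotientGroup.induction_on with
      | H y =>
        rw [MulAction.mem_fixedBy, MulAction.Quotient.smul_mk, QuotientGroup.eq,
          Subgroup.mem_subgroupOf]
        apply V_le_opp P U V hUB hVU hVn
        have h1 := hVn.conj_mem u⁻¹ (V.inv_mem huV) (y : G)⁻¹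
        simp only [smul_eq_mul, Subgroup.coe_mul, Subgroup.coe_inv]
        have e : ((u * (y : G))⁻¹ * (y : G)) = (y : G)⁻¹ * u⁻¹ * ((y : G)⁻¹)⁻¹ := by group
        rw [e]
        exact h1
    rw [this, Nat.card_congr (Equiv.Set.univ _)]
  · rw [if_neg huV]
    have : IsEmpty (MulAction.fixedBy (↥P.B ⧸ (opp P n₀).subgroupOf P.B) (⟨u, hUB hu⟩ : P.B)) := by
      constructor
      rintro ⟨c, hc⟩
      induction c using QuotientGroup.induction_on with
      | H y =>
        rw [MulAction.mem_fixedBy, MulAction.Quotient.smul_mk, QuotientGroup.eq,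
          Subgroup.mem_subgroupOf] at hc
        simp only [smul_eq_mul, Subgroup.coe_mul, Subgroup.coe_inv] at hc
        have hc' := (opp P n₀).inv_mem hc
        have e : ((u * (y : G))⁻¹ * (y : G))⁻¹ = (y : G)⁻¹ * u * ((y : G)⁻¹)⁻¹ := by group
        rw [e, mem_opp] at hc'
        have h1 : (y : G)⁻¹ * u * ((y : G)⁻¹)⁻¹ ∈ U := hUn _ (P.B.inv_mem y.2) u hu
        have h2 := h9 _ h1 hc'.2
        have h3 := hVn.conj_mem _ h2 (y : G)
        apply huV
        have e2 : (y : G) * ((y : G)⁻¹ * u * ((y : G)⁻¹)⁻¹) * (y : G)⁻¹ = u := by group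
        rwa [e2] at h3
    rw [Nat.card_of_isEmpty, Nat.cast_zero]

open Classical in
include hUB hUn hVU hVn hdesc h9 hsyl in
/-- the value of the alternating sum on elements of `p`-power order -/
theorem altSum_of_pElt {g : G} (hg : ∃ k : ℕ, orderOf g = p ^ k) :
    altSum P g = if g ∈ V then (Nat.card (↥P.B ⧸ (opp P n₀).subgroupOf P.B) : ℂ) else 0 := by
  obtain ⟨x, hx⟩ := hsyl g hg
  rw [← altSum_conj P x g, altSum_of_mem_U P U V hUB hUn hVU hVn hn₀ hdesc h9 hx]
  have : x * g * x⁻¹ ∈ V ↔ g ∈ V := by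
    constructor
    · intro h
      have := hVn.conj_mem _ h x⁻¹
      have e : x⁻¹ * (x * g * x⁻¹) * x⁻¹⁻¹ = g := by group
      rwa [e] at this
    · intro h
      exact hVn.conj_mem _ h x
  simp only [this]

omit hN [Fintype G] [Fintype P.S] in
include hUB hBUH hUH in
theorem card_B_eq : Nat.card P.B = Nat.card U * Nat.card (BN.H P) := by
  rw [← Nat.card_prod]
  symm
  apply Nat.card_congr
  refine Equiv.ofBijective (fun q : U × BN.H P =>
    (⟨(q.1 : G) * (q.2 : G), P.B.mul_mem (hUB q.1.2) (BN.H_le_B P q.2.2)⟩ : P.B)) ⟨?_, ?_⟩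
  · rintro ⟨⟨u, hu⟩, ⟨h, hh⟩⟩ ⟨⟨u', hu'⟩, ⟨h', hh'⟩⟩ e
    have e' : u * h = u' * h' := congrArg Subtype.val e
    have h1 : u'⁻¹ * u ∈ U ⊓ BN.H P := by
      refine ⟨U.mul_mem (U.inv_mem hu') hu, ?_⟩
      have e2 : u'⁻¹ * u = h' * h⁻¹ := by
        rw [inv_mul_eq_iff_eq_mul, ← mul_assoc, ← e', mul_inv_cancel_right]
      show u'⁻¹ * u ∈ BN.H P
      rw [e2]
      exact (BN.H P).mul_mem hh' ((BN.H P).inv_mem hh)
    rw [hUH, Subgroup.mem_bot, inv_mul_eq_one] at h1
    subst h1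
    have h2 : h = h' := mul_left_cancel e'
    subst h2
    rfl
  · rintro ⟨b, hb⟩
    obtain ⟨u, hu, h, hh, rfl⟩ := hBUH b hb
    exact ⟨⟨⟨u, hu⟩, ⟨h, hh⟩⟩, rfl⟩

omit hN [Fintype G] [Fintype P.S] in
include hUB hBUH hUH hVU hVn h9 hn₀ in
theorem card_opp_eq : Nat.card (opp P n₀) = Nat.card V * Nat.card (BN.H P) := by
  rw [← Nat.card_prod]
  symm
  have hHopp : BN.H P ≤ opp P n₀ := by
    intro h hh
    rw [mem_opp]
    exact ⟨BN.H_le_B P hh, BN.H_le_B P (BN.conj_mem_H' P hn₀ hh)⟩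
  have hVopp := V_le_opp P U V (n₀ := n₀) hUB hVU hVn
  apply Nat.card_congr
  refine Equiv.ofBijective (fun q : V × BN.H P =>
    (⟨(q.1 : G) * (q.2 : G), (opp P n₀).mul_mem (hVopp q.1.2) (hHopp q.2.2)⟩ : opp P n₀))
    ⟨?_, ?_⟩
  · rintro ⟨⟨u, hu⟩, ⟨h, hh⟩⟩ ⟨⟨u', hu'⟩, ⟨h', hh'⟩⟩ e
    have e' : u * h = u' * h' := congrArg Subtype.val e
    have h1 : u'⁻¹ * u ∈ U ⊓ BN.H P := by
      refine ⟨U.mul_mem (U.inv_mem (hVU hu')) (hVU hu), ?_⟩
      have e2 : u'⁻¹ * u = h' * h⁻¹ := by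
        rw [inv_mul_eq_iff_eq_mul, ← mul_assoc, ← e', mul_inv_cancel_right]
      show u'⁻¹ * u ∈ BN.H P
      rw [e2]
      exact (BN.H P).mul_mem hh' ((BN.H P).inv_mem hh)
    rw [hUH, Subgroup.mem_bot, inv_mul_eq_one] at h1
    subst h1
    have h2 : h = h' := mul_left_cancel e'
    subst h2
    rfl
  · rintro ⟨b, hb⟩
    obtain ⟨u, hu, h, hh, rfl⟩ := hBUH b (opp_le_B P n₀ hb)
    have hu' : u ∈ opp P n₀ := by
      have := (opp P n₀).mul_mem hb ((opp P n₀).inv_mem (hHopp hh))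
      rwa [mul_inv_cancel_right] at this
    rw [mem_opp] at hu'
    exact ⟨⟨⟨u, h9 u hu hu'.2⟩, ⟨h, hh⟩⟩, rfl⟩

include hUB hBUH hUH hVU hVn h9 hn₀ in
/-- `|B : B ∩ n₀ B n₀⁻¹| · |V| = |U|` -/
theorem index_opp_mul :
    Nat.card (↥P.B ⧸ (opp P n₀).subgroupOf P.B) * Nat.card V = Nat.card U := by
  have h1 := Subgroup.card_eq_card_quotient_mul_card_subgroup ((opp P n₀).subgroupOf P.B)
  have h2 : Nat.card ((opp P n₀).subgroupOf P.B) = Nat.card (opp P n₀) :=
    Nat.card_congr (Subgroup.subgroupOfEquivOfLe (opp_le_B P n₀)).toEquiv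
  rw [h2, card_B_eq P U hUB hBUH hUH, card_opp_eq P U V hUB hBUH hUH hVU hVn hn₀ h9] at h1
  have hpos : 0 < Nat.card (BN.H P) := Nat.card_pos
  have h3 : Nat.card U * Nat.card (BN.H P) =
      (Nat.card (↥P.B ⧸ (opp P n₀).subgroupOf P.B) * Nat.card V) * Nat.card (BN.H P) := by
    rw [h1]; ring
  exact (Nat.eq_of_mul_eq_mul_right hpos h3).symm

include hUB hUn hBUH hUH hVU hVn hdesc h9 in
/-- the degree of the alternating sum -/
theorem altSum_one_mul : altSum P 1 * (Nat.card V : ℂ) = (Nat.card U : ℂ) := by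
  rw [altSum_of_mem_U P U V hUB hUn hVU hVn hn₀ hdesc h9 U.one_mem, if_pos V.one_mem,
    ← Nat.cast_mul, index_opp_mul P U V hUB hBUH hUH hVU hVn hn₀ h9]

include hUB hUn hBUH hUH hUp hsyl hVU hVn hdesc h9 in
/-- **one parabolic step** -/
theorem sum_pcount_step :
    ∑ K ∈ (Finset.univ : Finset P.S).powerset, (-1 : ℂ) ^ K.card *
      ((Nat.card (G ⧸ P.parabolic (Subtype.val '' (K : Set P.S))) : ℂ) *
        (pcount p (P.parabolic (Subtype.val '' (K : Set P.S))) : ℂ)) = (Nat.card U : ℂ) := by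
  classical
  have h1 : ∀ K : Finset P.S,
      (Nat.card (G ⧸ P.parabolic (Subtype.val '' (K : Set P.S))) : ℂ) *
        (pcount p (P.parabolic (Subtype.val '' (K : Set P.S))) : ℂ) =
      ∑ g : G, (if (∃ k : ℕ, orderOf g = p ^ k) then
        fixedPointCharacter (P.parabolic (Subtype.val '' (K : Set P.S))) g else 0) := by
    intro K
    rw [sum_fixedPointCharacter _ (fun g => ∃ k : ℕ, orderOf g = p ^ k)
      (fun g x => by rw [orderOf_conj'])]
    rfl
  simp_rw [h1, Finset.mul_sum]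
  rw [Finset.sum_comm]
  have h2 : ∀ g : G, (∑ K ∈ (Finset.univ : Finset P.S).powerset, (-1 : ℂ) ^ K.card *
      (if (∃ k : ℕ, orderOf g = p ^ k) then
        fixedPointCharacter (P.parabolic (Subtype.val '' (K : Set P.S))) g else 0)) =
      if g ∈ V then (Nat.card (↥P.B ⧸ (opp P n₀).subgroupOf P.B) : ℂ) else 0 := by
    intro g
    by_cases hg : ∃ k : ℕ, orderOf g = p ^ k
    · simp only [if_pos hg]
      exact altSum_of_pElt P p U V hUB hUn hsyl hVU hVn hn₀ hdesc h9 hg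
    · simp only [if_neg hg, mul_zero, Finset.sum_const_zero]
      rw [if_neg]
      intro hgV
      exact hg (hUp g (hVU hgV))
  simp_rw [h2]
  rw [← Finset.sum_filter, Finset.sum_const, nsmul_eq_mul,
    ← index_opp_mul P U V hUB hBUH hUH hVU hVn hn₀ h9, Nat.cast_mul, mul_comm]
  congr 2
  rw [Nat.card_eq_fintype_card, Fintype.card_subtype]

end step

end Cfsg.Agent.Helper12.BNCnt
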