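import Cfsg.Agent.Helper12.BNCntC

set_option autoImplicit false

/-!
# Counting elements of `p`-power order: Möbius inversion over the parabolic subgroups
-/

namespace Cfsg.Agent.Helper12.BNCnt

open Cfsg Cfsg.Agent.Helper2 Cfsg.Agent.Helper14.ExchCox Cfsg.Agent.Helper12.BNSt

section comb

variable {α β : Type*} [DecidableEq α]

theorem sum_Icc_neg_one_pow {K S₀ : Finset α} (h : K ⊆ S₀) :
    ∑ J ∈ Finset.Icc K S₀, (-1 : ℂ) ^ J.card = if K = S₀ then (-1 : ℂ) ^ S₀.card else 0 := by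
  rw [Finset.Icc_eq_image_powerset h, Finset.sum_image]
  · have h1 : ∀ T ∈ (S₀ \ K).powerset, (-1 : ℂ) ^ (K ∪ T).card =
        (-1) ^ K.card * (-1) ^ T.card := by
      intro T hT
      rw [Finset.mem_powerset] at hT
      have hd : Disjoint K T := by
        rw [Finset.disjoint_left]
        intro x hxK hxT
        exact (Finset.mem_sdiff.1 (hT hxT)).2 hxK
      rw [Finset.card_union_of_disjoint hd, pow_add]
    rw [Finset.sum_congr rfl h1, ← Finset.mul_sum]
    have h2 : (∑ T ∈ (S₀ \ K).powerset, (-1 : ℂ) ^ T.card) = if S₀ \ K = ∅ then 1 else 0 := by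
      have := congrArg (Int.cast : ℤ → ℂ) (Finset.sum_powerset_neg_one_pow_card (x := S₀ \ K))
      push_cast at this
      rw [this]
    rw [h2]
    by_cases hKS : K = S₀
    · subst hKS; simp
    · rw [if_neg hKS, if_neg, mul_zero]
      intro h0
      exact hKS (subset_antisymm h (Finset.sdiff_eq_empty_iff_subset.1 h0))
  · intro T hT T' hT' e
    have hT := Finset.mem_powerset.1 (Finset.mem_coe.1 hT)
    have hT' := Finset.mem_powerset.1 (Finset.mem_coe.1 hT')
    ext x
    have hx := congrArg (fun A : Finset α => x ∈ A) e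
    simp only [Finset.mem_union, eq_iff_iff] at hx
    constructor
    · intro hxT
      rcases hx.1 (Or.inr hxT) with h3 | h3
      · exact absurd h3 (Finset.mem_sdiff.1 (hT hxT)).2
      · exact h3
    · intro hxT
      rcases hx.2 (Or.inr hxT) with h3 | h3
      · exact absurd h3 (Finset.mem_sdiff.1 (hT' hxT)).2
      · exact h3

/-- Möbius inversion over the subsets of `S₀` -/
theorem moebius_swap (S₀ : Finset α) (r : Finset α → Finset α → ℂ) (idx a : Finset α → ℂ) (c : ℂ)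
    (hr : ∀ K J, K ⊆ J → J ⊆ S₀ → r K J * idx J = idx K)
    (hY : ∀ J, J ⊆ S₀ → ∑ K ∈ J.powerset, (-1 : ℂ) ^ K.card * (r K J * a K) = c) :
    idx S₀ * a S₀ = c * ∑ J ∈ S₀.powerset, (-1 : ℂ) ^ J.card * idx J := by
  have h1 : c * ∑ J ∈ S₀.powerset, (-1 : ℂ) ^ J.card * idx J =
      ∑ J ∈ S₀.powerset, ∑ K ∈ J.powerset,
        ((-1 : ℂ) ^ J.card * ((-1 : ℂ) ^ K.card * (idx K * a K))) := by
    rw [Finset.mul_sum]
    apply Finset.sum_congr rfl
    intro J hJ
    rw [Finset.mem_powerset] at hJ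
    rw [← hY J hJ, Finset.sum_mul]
    apply Finset.sum_congr rfl
    intro K hK
    rw [Finset.mem_powerset] at hK
    rw [← hr K J hK hJ]
    ring
  rw [h1]
  rw [Finset.sum_comm' (s' := fun K => Finset.Icc K S₀) (t' := S₀.powerset)]
  · have h2 : ∀ K ∈ S₀.powerset, (∑ J ∈ Finset.Icc K S₀,
        ((-1 : ℂ) ^ J.card * ((-1 : ℂ) ^ K.card * (idx K * a K)))) =
        if K = S₀ then idx S₀ * a S₀ else 0 := by
      intro K hK
      rw [Finset.mem_powerset] at hK
      rw [← Finset.sum_mul, sum_Icc_neg_one_pow hK]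
      by_cases hKS : K = S₀
      · subst hKS
        rw [if_pos rfl, if_pos rfl, ← mul_assoc, ← pow_add, ← two_mul, pow_mul]
        simp
      · rw [if_neg hKS, if_neg hKS, zero_mul]
    rw [Finset.sum_congr rfl h2, Finset.sum_ite_eq' S₀.powerset S₀]
    rw [if_pos (Finset.mem_powerset.2 (subset_refl _))]
  · intro J K
    rw [Finset.mem_powerset, Finset.mem_powerset, Finset.mem_Icc, Finset.mem_powerset]
    constructor
    · rintro ⟨h1, h2⟩
      exact ⟨⟨h2, h1⟩, h2.trans h1⟩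
    · rintro ⟨⟨h1, h2⟩, _⟩
      exact ⟨h2, h1⟩

/-- reindexing a sum over all finsets of `β` along an embedding -/
theorem sum_finset_map {M : Type*} [AddCommMonoid M] [Fintype β] [DecidableEq β] (e : β ↪ α)
    (J₀ : Finset α) (hJ₀ : J₀ = Finset.univ.map e) (F : Finset α → M) :
    ∑ K' : Finset β, F (K'.map e) = ∑ K ∈ J₀.powerset, F K := by
  subst hJ₀
  symm
  refine Finset.sum_bij' (fun K _ => K.preimage e e.injective.injOn) (fun K' _ => K'.map e)
    ?_ ?_ ?_ ?_ ?_
  · intro K _; exact Finset.mem_univ _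
  · intro K' _
    rw [Finset.mem_powerset]
    exact Finset.map_subset_map.2 (Finset.subset_univ _)
  · intro K hK
    rw [Finset.mem_powerset] at hK
    ext x
    simp only [Finset.mem_map, Finset.mem_preimage]
    constructor
    · rintro ⟨b, hb, rfl⟩; exact hb
    · intro hx
      obtain ⟨b, _, rfl⟩ := Finset.mem_map.1 (hK hx)
      exact ⟨b, hx, rfl⟩
  · intro K' _
    ext b
    simp only [Finset.mem_preimage, Finset.mem_map']
  · intro K hK
    rw [Finset.mem_powerset] at hK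
    congr 1
    ext x
    simp only [Finset.mem_map, Finset.mem_preimage]
    constructor
    · intro hx
      obtain ⟨b, _, rfl⟩ := Finset.mem_map.1 (hK hx)
      exact ⟨b, hx, rfl⟩
    · rintro ⟨b, hb, rfl⟩; exact hb

end comb

section group

variable {G : Type*} [Group G]

/-- `H` is normal in `N` (instance form) -/
scoped instance normalH_inst (P : Cfsg.BNPair G) : ((P.B ⊓ P.N).subgroupOf P.N).Normal :=
  normalH_bn P

theorem pcount_subgroupOf (p : ℕ) {M L : Subgroup G} (hML : M ≤ L) :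
    pcount p (M.subgroupOf L) = pcount p M := by
  unfold pcount
  apply Nat.card_congr
  refine ⟨fun g => ⟨(g.1 : G), g.2.1, ?_⟩, fun g => ⟨⟨g.1, hML g.2.1⟩, g.2.1, ?_⟩, ?_, ?_⟩
  · obtain ⟨k, hk⟩ := g.2.2
    exact ⟨k, by rw [Subgroup.orderOf_coe]; exact hk⟩
  · obtain ⟨k, hk⟩ := g.2.2
    exact ⟨k, by rw [← Subgroup.orderOf_coe]; exact hk⟩
  · intro g; rfl
  · intro g; rfl

theorem parabolic_S_eq_top (P : Cfsg.BNPair G) : P.parabolic P.S = ⊤ := by
  rw [eq_top_iff, ← P.sup_eq_top]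
  apply sup_le (BN.B_le_parabolic _)
  rw [← P.closure_sup]
  exact sup_le (BN.closure_le_parabolic _) (inf_le_left.trans (BN.B_le_parabolic _))

theorem fixedPointCharacter_one (M : Subgroup G) :
    fixedPointCharacter M 1 = (M.index : ℂ) := by
  unfold fixedPointCharacter
  congr 1
  have : MulAction.fixedBy (G ⧸ M) (1 : G) = Set.univ := by
    rw [Set.eq_univ_iff_forall]
    intro c
    rw [MulAction.mem_fixedBy, one_smul]
  rw [this, Nat.card_congr (Equiv.Set.univ _)]
  rfl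

/-- the hypothesis for the parabolic subgroup `P_J` -/
def StepHyp (P : Cfsg.BNPair G) (p : ℕ) (U : Subgroup G) (J : Set G) (hJ : J ⊆ P.S) : Prop :=
  ∃ V : Subgroup G, V ≤ U ∧ (∀ x ∈ P.parabolic J, ∀ v ∈ V, x * v * x⁻¹ ∈ V) ∧
    (∀ g ∈ P.parabolic J, (∃ k : ℕ, orderOf g = p ^ k) →
      ∃ x ∈ P.parabolic J, x * g * x⁻¹ ∈ U) ∧
    ∃ (n₀ : ↥(P.parabolic J)) (hn₀ : n₀ ∈ (subBN P J hJ).N),
      (∀ j : (subBN P J hJ).S, len (sgen (subBN P J hJ))
          ((QuotientGroup.mk ⟨n₀, hn₀⟩ : Wq (subBN P J hJ)) * sgen (subBN P J hJ) j) <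
        len (sgen (subBN P J hJ)) (QuotientGroup.mk ⟨n₀, hn₀⟩ : Wq (subBN P J hJ))) ∧
      ∀ x ∈ U, (n₀ : G)⁻¹ * x * (n₀ : G) ∈ P.B → x ∈ V

variable [Fintype G] [DecidableEq G] (P : Cfsg.BNPair G) (p : ℕ) (U : Subgroup G)
  (hUB : U ≤ P.B) (hUn : ∀ b ∈ P.B, ∀ u ∈ U, b * u * b⁻¹ ∈ U)
  (hBUH : ∀ b ∈ P.B, ∃ u ∈ U, ∃ h ∈ BN.H P, b = u * h) (hUH : U ⊓ BN.H P = ⊥)
  (hUp : ∀ u ∈ U, ∃ k : ℕ, orderOf u = p ^ k)

include hUB hUn hBUH hUH hUp in
/-- the parabolic step, inside `G` -/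
theorem sum_pcount_parabolic (J₀ : Finset G) (hJ : (J₀ : Set G) ⊆ P.S)
    (hS : StepHyp P p U (J₀ : Set G) hJ) :
    ∑ K ∈ J₀.powerset, (-1 : ℂ) ^ K.card *
      (((P.parabolic (K : Set G)).relIndex (P.parabolic (J₀ : Set G)) : ℂ) *
        (pcount p (P.parabolic (K : Set G)) : ℂ)) = (Nat.card U : ℂ) := by
  classical
  obtain ⟨V, hVU, hVn, hsylJ, n₀, hn₀, hdesc, h9⟩ := hS
  have hUPJ : U ≤ P.parabolic (J₀ : Set G) := hUB.trans (BN.B_le_parabolic _)
  let _ : Fintype (subBN P (J₀ : Set G) hJ).S := Fintype.ofFinite _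
  have key := sum_pcount_step (subBN P (J₀ : Set G) hJ) p
    (U.subgroupOf (P.parabolic (J₀ : Set G))) (V.subgroupOf (P.parabolic (J₀ : Set G)))
    (by
      intro u hu
      exact hUB hu)
    (by
      intro b hb u hu
      rw [Subgroup.mem_subgroupOf] at hu ⊢
      simp only [Subgroup.coe_mul, Subgroup.coe_inv]
      exact hUn _ hb _ hu)
    (by
      intro b hb
      obtain ⟨u, hu, h, hh, e⟩ := hBUH _ hb
      refine ⟨⟨u, hUPJ hu⟩, hu, ⟨h, BN.B_le_parabolic _ (BN.H_le_B P hh)⟩, ?_, ?_⟩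
      · rw [mem_subBN_H]; exact hh
      · apply Subtype.ext
        simpa using e)
    (by
      rw [eq_bot_iff]
      rintro x ⟨hx1, hx2⟩
      have hx2' : x ∈ BN.H (subBN P (J₀ : Set G) hJ) := hx2
      rw [mem_subBN_H] at hx2'
      have hx1' : (x : G) ∈ U := hx1
      have : (x : G) ∈ U ⊓ BN.H P := ⟨hx1', hx2'⟩
      rw [hUH, Subgroup.mem_bot] at this
      rw [Subgroup.mem_bot]
      exact Subtype.ext this)
    (by
      intro u hu
      obtain ⟨k, hk⟩ := hUp _ hu
      exact ⟨k, by rw [← Subgroup.orderOf_coe]; exact hk⟩)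
    (by
      intro g hg
      obtain ⟨k, hk⟩ := hg
      obtain ⟨x, hx, hxg⟩ := hsylJ (g : G) g.2 ⟨k, by rw [Subgroup.orderOf_coe]; exact hk⟩
      refine ⟨⟨x, hx⟩, ?_⟩
      rw [Subgroup.mem_subgroupOf]
      simpa using hxg)
    (by
      intro v hv
      exact hVU hv)
    (by
      constructor
      intro v hv x
      rw [Subgroup.mem_subgroupOf] at hv ⊢
      simp only [Subgroup.coe_mul, Subgroup.coe_inv]
      exact hVn _ x.2 _ hv)
    hn₀ hdesc
    (by
      intro x hx hxB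
      rw [Subgroup.mem_subgroupOf] at hx ⊢
      apply h9 _ hx
      have : ((n₀⁻¹ * x * n₀ : ↥(P.parabolic (J₀ : Set G))) : G) ∈ P.B := hxB
      simpa using this)
  have hcardU : Nat.card (U.subgroupOf (P.parabolic (J₀ : Set G))) = Nat.card U :=
    Nat.card_congr (Subgroup.subgroupOfEquivOfLe hUPJ).toEquiv
  rw [hcardU, Finset.powerset_univ] at key
  rw [← key]
  let e : (subBN P (J₀ : Set G) hJ).S ↪ G :=
    ⟨fun x => ((x : ↥(P.parabolic (J₀ : Set G))) : G), fun x y hxy =>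
      Subtype.ext (Subtype.ext hxy)⟩
  have hJ₀ : J₀ = Finset.univ.map e := by
    ext x
    rw [Finset.mem_map]
    constructor
    · intro hx
      have hxP : x ∈ P.parabolic (J₀ : Set G) :=
        BN.closure_le_parabolic _ (Subgroup.subset_closure hx)
      exact ⟨⟨⟨x, hxP⟩, hx⟩, Finset.mem_univ _, rfl⟩
    · rintro ⟨y, _, rfl⟩
      exact y.2
  rw [← sum_finset_map e J₀ hJ₀]
  apply Finset.sum_congr rfl
  intro K' _
  have hcoe : ((K'.map e : Finset G) : Set G) =
      Subtype.val '' (Subtype.val '' (K' : Set (subBN P (J₀ : Set G) hJ).S)) := by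
    rw [Finset.coe_map, Set.image_image]
    rfl
  have hK'S : Subtype.val '' (K' : Set (subBN P (J₀ : Set G) hJ).S) ⊆
      (subBN P (J₀ : Set G) hJ).S := by
    rintro _ ⟨x, _, rfl⟩
    exact x.2
  have hKJ : ((K'.map e : Finset G) : Set G) ⊆ (J₀ : Set G) := by
    rw [hcoe]
    rintro _ ⟨_, ⟨x, _, rfl⟩, rfl⟩
    exact x.2
  have hrel : (P.parabolic (Subtype.val '' (Subtype.val ''
      (K' : Set (subBN P (J₀ : Set G) hJ).S)))).relIndex (P.parabolic (J₀ : Set G)) =
      Nat.card (↥(P.parabolic (J₀ : Set G)) ⧸ (subBN P (J₀ : Set G) hJ).parabolic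
        (Subtype.val '' (K' : Set (subBN P (J₀ : Set G) hJ).S))) := by
    rw [subBN_parabolic hJ _ hK'S]
    rfl
  rw [Finset.card_map, hcoe, ← pcount_subgroupOf p (BN.parabolic_mono (hcoe ▸ hKJ)),
    ← subBN_parabolic hJ _ hK'S, hrel]

include hUB hUn hBUH hUH hUp in
/-- **Möbius inversion**: the number of elements of `p`-power order is `|U|` times the degree
of the alternating sum -/
theorem pcount_top [Fintype P.S]
    (hAll : ∀ (J₀ : Finset G) (hJ : (J₀ : Set G) ⊆ P.S), StepHyp P p U (J₀ : Set G) hJ) :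
    (pcount p (⊤ : Subgroup G) : ℂ) = (Nat.card U : ℂ) * altSum P 1 := by
  classical
  let e : P.S ↪ G := Function.Embedding.subtype _
  set S₀ : Finset G := Finset.univ.map e with hS₀
  have hS₀coe : (S₀ : Set G) = P.S := by
    rw [hS₀, Finset.coe_map, Finset.coe_univ, Set.image_univ]
    exact Subtype.range_val
  have key := moebius_swap S₀
    (fun K J => (((P.parabolic (K : Set G)).relIndex (P.parabolic (J : Set G)) : ℕ) : ℂ))
    (fun J => (((P.parabolic (J : Set G)).index : ℕ) : ℂ))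
    (fun K => (pcount p (P.parabolic (K : Set G)) : ℂ)) (Nat.card U : ℂ)
    (by
      intro K J hKJ _
      have : P.parabolic (K : Set G) ≤ P.parabolic (J : Set G) :=
        BN.parabolic_mono (Finset.coe_subset.2 hKJ)
      rw [← Nat.cast_mul, Subgroup.relIndex_mul_index this])
    (by
      intro J hJS
      have hJ : (J : Set G) ⊆ P.S := by
        rw [← hS₀coe]; exact Finset.coe_subset.2 hJS
      exact sum_pcount_parabolic P p U hUB hUn hBUH hUH hUp J hJ (hAll J hJ))
  rw [hS₀coe, parabolic_S_eq_top, Subgroup.index_top, Nat.cast_one, one_mul] at key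
  rw [key]
  congr 1
  rw [← sum_finset_map e S₀ hS₀ (fun J => (-1 : ℂ) ^ J.card *
    (((P.parabolic (J : Set G)).index : ℕ) : ℂ))]
  unfold altSum
  rw [Finset.powerset_univ]
  apply Finset.sum_congr rfl
  intro K _
  rw [Finset.card_map, fixedPointCharacter_one, Finset.coe_map]
  rfl

end group

end Cfsg.Agent.Helper12.BNCnt
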