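import Cfsg.Agent.Helper12.BNCntD

set_option autoImplicit false

/-!
# The longest element of a parabolic Weyl group, and conjugacy into a Sylow subgroup
-/

namespace Cfsg.Agent.Helper12.BNCnt

open Cfsg Cfsg.Agent.Helper2 Cfsg.Agent.Helper14.ExchCox Cfsg.Agent.Helper12.BNSt

section cox

variable {W : Type*} [Group W] {ι : Type*} {s : ι → W}

/-- additivity of lengths for an element all of whose right multiples are shorter -/
theorem len_longest_mul (h : Hyp s) {w₀ : W} (hR : ∀ j, len s (w₀ * s j) < len s w₀) (x : W) :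
    len s (w₀ * x) + len s x = len s w₀ := by
  have hL : ∀ j, len s (s j * w₀⁻¹) < len s w₀⁻¹ := by
    intro j
    rw [← len_mul_simple_eq_inv h, len_inv h]
    exact hR j
  obtain ⟨X, hX, hX'⟩ := exists_reduced h x
  have key := len_inv_mul_of_all_descL h hL X (red_of_length_eq hX hX')
  rw [hX, hX', len_inv h w₀] at key
  have e : x⁻¹ * w₀⁻¹ = (w₀ * x)⁻¹ := by group
  rw [e, len_inv h] at key
  exact key

theorem len_mul_simple_succ (h : Hyp s) {w : W} {r : ι} (hle : len s w ≤ len s (w * s r)) :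
    len s (w * s r) = len s w + 1 := by
  have h1 := len_mul_simple_le h w r
  by_contra hne
  have h2 : len s (w * s r) ≤ len s w := by omega
  have h3 := len_mul_simple_of_le h h2
  omega

end cox

section sub

variable {G : Type*} [Group G] {P : Cfsg.BNPair G} {J : Set G} (hJ : J ⊆ P.S)

theorem len_sub_eq {n' : ↥(P.parabolic J)} (hn' : n' ∈ (subBN P J hJ).N) :
    len (sgen (subBN P J hJ)) (QuotientGroup.mk ⟨n', hn'⟩ : Wq (subBN P J hJ)) =
      BN.len P P.S (n' : G) := by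
  rw [len_eq, len_subBN]
  exact BN.lenJ_eq_len hJ hn'

/-- right multiplication by a generator in `J` that lengthens `v ∈ N_J` shortens `n₀ v`,
`n₀` the longest element of `W_J` -/
theorem desc_of_longest {n₀ : ↥(P.parabolic J)} (hn₀ : n₀ ∈ (subBN P J hJ).N)
    (hdesc : ∀ j : (subBN P J hJ).S, len (sgen (subBN P J hJ))
        ((QuotientGroup.mk ⟨n₀, hn₀⟩ : Wq (subBN P J hJ)) * sgen (subBN P J hJ) j) <
      len (sgen (subBN P J hJ)) (QuotientGroup.mk ⟨n₀, hn₀⟩ : Wq (subBN P J hJ)))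
    {v r : G} (hv : v ∈ BN.NJ P J) (hr : r ∈ J)
    (hle : BN.len P P.S v ≤ BN.len P P.S (v * r)) :
    BN.len P P.S ((n₀ : G) * v * r) < BN.len P P.S ((n₀ : G) * v) := by
  have hvP : v ∈ P.parabolic J := BN.NJ_le_parabolic J hv
  have hrNJ : r ∈ BN.NJ P J := Subgroup.mem_sup_left (Subgroup.subset_closure hr)
  have hrP : r ∈ P.parabolic J := BN.NJ_le_parabolic J hrNJ
  have hv' : (⟨v, hvP⟩ : ↥(P.parabolic J)) ∈ (subBN P J hJ).N := hv
  let r' : (subBN P J hJ).S := ⟨⟨r, hrP⟩, hr⟩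
  have hr' : (r' : ↥(P.parabolic J)) ∈ (subBN P J hJ).N := (subBN P J hJ).subset r'.2
  have hh := hyp_sgen (P := subBN P J hJ)
  have hvr' : (⟨v, hvP⟩ : ↥(P.parabolic J)) * (r' : ↥(P.parabolic J)) ∈ (subBN P J hJ).N :=
    Subgroup.mul_mem _ hv' hr'
  have hnv' : n₀ * ⟨v, hvP⟩ ∈ (subBN P J hJ).N := Subgroup.mul_mem _ hn₀ hv'
  have hnvr' : n₀ * ⟨v, hvP⟩ * (r' : ↥(P.parabolic J)) ∈ (subBN P J hJ).N :=
    Subgroup.mul_mem _ hnv' hr'
  have e1 := len_sub_eq hJ hv'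
  have e2 := len_sub_eq hJ hvr'
  have e3 := len_sub_eq hJ hnv'
  have e4 := len_sub_eq hJ hnvr'
  have c2 : (QuotientGroup.mk ⟨_, hvr'⟩ : Wq (subBN P J hJ)) =
      QuotientGroup.mk ⟨_, hv'⟩ * sgen (subBN P J hJ) r' := rfl
  have c3 : (QuotientGroup.mk ⟨_, hnv'⟩ : Wq (subBN P J hJ)) =
      QuotientGroup.mk ⟨n₀, hn₀⟩ * QuotientGroup.mk ⟨_, hv'⟩ := rfl
  have c4 : (QuotientGroup.mk ⟨_, hnvr'⟩ : Wq (subBN P J hJ)) =
      QuotientGroup.mk ⟨n₀, hn₀⟩ * (QuotientGroup.mk ⟨_, hv'⟩ * sgen (subBN P J hJ) r') := by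
    rw [← mul_assoc]; rfl
  rw [c2] at e2
  rw [c3] at e3
  rw [c4] at e4
  have hle' : len (sgen (subBN P J hJ)) (QuotientGroup.mk ⟨_, hv'⟩ : Wq (subBN P J hJ)) ≤
      len (sgen (subBN P J hJ))
        ((QuotientGroup.mk ⟨_, hv'⟩ : Wq (subBN P J hJ)) * sgen (subBN P J hJ) r') := by
    rw [e1, e2]; exact hle
  have h1 := len_mul_simple_succ hh hle'
  have h2 := len_longest_mul hh hdesc (QuotientGroup.mk ⟨_, hv'⟩ : Wq (subBN P J hJ))
  have h3 := len_longest_mul hh hdesc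
    ((QuotientGroup.mk ⟨_, hv'⟩ : Wq (subBN P J hJ)) * sgen (subBN P J hJ) r')
  have e3' : BN.len P P.S ((n₀ : G) * v) = _ := e3.symm
  have e4' : BN.len P P.S ((n₀ : G) * v * r) = _ := e4.symm
  rw [e3', e4']
  omega

/-- a representative of the longest element of `W_J`, with all left and right descents -/
theorem exists_longest_sub [Finite G] :
    ∃ (n₀ : ↥(P.parabolic J)) (hn₀ : n₀ ∈ (subBN P J hJ).N),
      (∀ j : (subBN P J hJ).S, len (sgen (subBN P J hJ))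
        ((QuotientGroup.mk ⟨n₀, hn₀⟩ : Wq (subBN P J hJ)) * sgen (subBN P J hJ) j) <
        len (sgen (subBN P J hJ)) (QuotientGroup.mk ⟨n₀, hn₀⟩ : Wq (subBN P J hJ))) ∧
      (∀ j : (subBN P J hJ).S, len (sgen (subBN P J hJ))
        ((QuotientGroup.mk ⟨n₀⁻¹, Subgroup.inv_mem _ hn₀⟩ : Wq (subBN P J hJ)) *
          sgen (subBN P J hJ) j) <
        len (sgen (subBN P J hJ))
          (QuotientGroup.mk ⟨n₀⁻¹, Subgroup.inv_mem _ hn₀⟩ : Wq (subBN P J hJ))) := by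
  have hh := hyp_sgen (P := subBN P J hJ)
  have : Finite (Wq (subBN P J hJ)) := Quotient.finite _
  obtain ⟨w₀, hL, hR⟩ := exists_longest hh
  obtain ⟨⟨n₀, hn₀⟩, rfl⟩ := QuotientGroup.mk_surjective w₀
  refine ⟨n₀, hn₀, hR, ?_⟩
  intro j
  have e : (QuotientGroup.mk ⟨n₀⁻¹, Subgroup.inv_mem _ hn₀⟩ : Wq (subBN P J hJ)) =
      (QuotientGroup.mk ⟨n₀, hn₀⟩ : Wq (subBN P J hJ))⁻¹ := rfl
  rw [e, len_inv hh, ← len_inv hh (_ * _), mul_inv_rev, inv_inv, simple_inv hh]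
  exact hL j

end sub

section sylow

variable {G : Type*} [Group G] [Finite G]

/-- elements of `p`-power order of a subgroup containing a Sylow subgroup are conjugate into it -/
theorem exists_conj_mem_of_sylow {p : ℕ} [Fact p.Prime] (Q : Sylow p G) {M : Subgroup G}
    (hQM : (Q : Subgroup G) ≤ M) {g : G} (hgM : g ∈ M) (hg : ∃ k : ℕ, orderOf g = p ^ k) :
    ∃ x ∈ M, x * g * x⁻¹ ∈ (Q : Subgroup G) := by
  let Q' : Sylow p M := Q.subtype hQM
  have hz : IsPGroup p (Subgroup.zpowers (⟨g, hgM⟩ : M)) := by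
    obtain ⟨k, hk⟩ := hg
    rw [IsPGroup.iff_card, Nat.card_zpowers]
    exact ⟨k, by rw [← Subgroup.orderOf_coe]; exact hk⟩
  obtain ⟨R, hR⟩ := hz.exists_le_sylow
  obtain ⟨x, hx⟩ := MulAction.exists_smul_eq M R Q'
  refine ⟨(x : G), x.2, ?_⟩
  have h1 : (⟨g, hgM⟩ : M) ∈ (R : Subgroup M) := hR (Subgroup.mem_zpowers _)
  have h2 : x * ⟨g, hgM⟩ * x⁻¹ ∈ ((x • R : Sylow p M) : Subgroup M) := by
    rw [Sylow.smul_def, Sylow.pointwise_smul_def]
    exact ⟨_, h1, rfl⟩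
  rw [hx] at h2
  exact h2

end sylow

end Cfsg.Agent.Helper12.BNCnt
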