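import Cfsg.Agent.Helper6.Chev.WeylCox
import Cfsg.Agent.Helper6.Chev.TablesBN
import Cfsg.Agent.Helper12.BNStG

set_option autoImplicit false

/-!
# The Steinberg character of a Chevalley group as the alternating sum of its (B,N)-pair
-/

namespace Cfsg.Agent.Helper12.BNSt

open Cfsg Cfsg.Lie Cfsg.Agent.Helper2 Cfsg.Agent.Helper6 Cfsg.Agent.Helper14.ExchCox

variable {D : ChevalleyDatum} {F : Type*} [Field F] (Δ : BNData D F)

/-- the finite type structure on the set of distinguished generators -/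
@[reducible] noncomputable def fintypeS : Fintype Δ.bnPair.S := Fintype.ofEquiv (Fin D.rank) Δ.sEquiv

/-- the set of distinguished generators indexed by `J` -/
def genSet (J : Set ℕ) : Set ↥(D.group F) :=
  {n | ∃ j ∈ J, j < D.rank ∧ ((n : GL D.Idx F) : Matrix D.Idx D.Idx F) = D.nMat F (D.simple j) 1}

omit Δ in
theorem genSet_subset (J : Set ℕ) : genSet (D := D) (F := F) J ⊆ BNData.Sset D F := by
  rintro n ⟨j, _, hj, hn⟩
  exact ⟨j, hj, hn⟩

include Δ in
theorem parabolicIn_eq (J : Finset ℕ) :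
    D.parabolicIn F J = Δ.bnPair.parabolic (genSet (J : Set ℕ)) := by
  unfold ChevalleyDatum.parabolicIn ChevalleyDatum.parabolicSubgroup BNPair.parabolic
  have hle : Subgroup.closure {g : GL D.Idx F | ∃ j ∈ (J : Set ℕ), j < D.rank ∧
      (g : Matrix D.Idx D.Idx F) = D.nMat F (D.simple j) 1} ≤ D.group F := by
    rw [Subgroup.closure_le]
    rintro g ⟨j, _, hj, hg⟩
    have : g = nU Δ.hB (D.simple j) (one_ne_zero (α := F)) := Units.ext (by rw [hg, nU_val])
    rw [this]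
    exact Δ.monomial_le_group (nU_one_mem_monomial Δ.hB (Δ.hAll j hj).hS.1)
  rw [Subgroup.subgroupOf_sup Δ.borel_le_group hle]
  congr 1
  have himg : {g : GL D.Idx F | ∃ j ∈ (J : Set ℕ), j < D.rank ∧
      (g : Matrix D.Idx D.Idx F) = D.nMat F (D.simple j) 1} =
      (D.group F).subtype '' genSet (D := D) (F := F) (J : Set ℕ) := by
    ext g
    constructor
    · rintro ⟨j, hjJ, hj, hg⟩
      have hgG : g ∈ D.group F := hle (Subgroup.subset_closure ⟨j, hjJ, hj, hg⟩)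
      exact ⟨⟨g, hgG⟩, ⟨j, hjJ, hj, hg⟩, rfl⟩
    · rintro ⟨n, ⟨j, hjJ, hj, hn⟩, rfl⟩
      exact ⟨j, hjJ, hj, hn⟩
  rw [himg, ← MonoidHom.map_closure]
  exact Subgroup.comap_map_eq_self_of_injective (Subgroup.subtype_injective _) _


/-- the set of generators (as a finset of the subtype) indexed by `J` -/
noncomputable def kOf (J : Finset ℕ) : Finset Δ.bnPair.S :=
  ((Finset.univ : Finset (Fin D.rank)).filter (fun i : Fin D.rank => (i : ℕ) ∈ J)).map
    Δ.sEquiv.toEmbedding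

/-- the index set of a finset of generators -/
noncomputable def jOf (K : Finset Δ.bnPair.S) : Finset ℕ :=
  (K.map Δ.sEquiv.symm.toEmbedding).map Fin.valEmbedding

theorem mem_kOf {J : Finset ℕ} {s : Δ.bnPair.S} :
    s ∈ kOf Δ J ↔ ∃ i : Fin D.rank, (i : ℕ) ∈ J ∧ Δ.sEquiv i = s := by
  unfold kOf
  simp only [Finset.mem_map, Finset.mem_filter, Finset.mem_univ, true_and,
    Equiv.coe_toEmbedding]

theorem mem_jOf {K : Finset Δ.bnPair.S} {x : ℕ} :
    x ∈ jOf Δ K ↔ ∃ i : Fin D.rank, Δ.sEquiv i ∈ K ∧ (i : ℕ) = x := by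
  unfold jOf
  simp only [Finset.mem_map, Equiv.coe_toEmbedding, Fin.valEmbedding_apply]
  constructor
  · rintro ⟨i, ⟨s, hs, rfl⟩, rfl⟩
    exact ⟨Δ.sEquiv.symm s, by rwa [Equiv.apply_symm_apply], rfl⟩
  · rintro ⟨i, hi, rfl⟩
    exact ⟨i, ⟨Δ.sEquiv i, hi, by rw [Equiv.symm_apply_apply]⟩, rfl⟩

theorem jOf_kOf {J : Finset ℕ} (hJ : J ⊆ Finset.range D.rank) : jOf Δ (kOf Δ J) = J := by
  ext x
  rw [mem_jOf]
  constructor
  · rintro ⟨i, hi, rfl⟩
    obtain ⟨i', hi', he⟩ := (mem_kOf Δ).mp hi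
    rw [Δ.sEquiv.injective he] at hi'
    exact hi'
  · intro hx
    have hxr : x < D.rank := Finset.mem_range.mp (hJ hx)
    exact ⟨⟨x, hxr⟩, (mem_kOf Δ).mpr ⟨⟨x, hxr⟩, hx, rfl⟩, rfl⟩

theorem kOf_jOf (K : Finset Δ.bnPair.S) : kOf Δ (jOf Δ K) = K := by
  ext s
  rw [mem_kOf]
  constructor
  · rintro ⟨i, hi, rfl⟩
    obtain ⟨i', hi', he⟩ := (mem_jOf Δ).mp hi
    rw [Fin.ext he] at hi'
    exact hi'
  · intro hs
    refine ⟨Δ.sEquiv.symm s, (mem_jOf Δ).mpr ⟨Δ.sEquiv.symm s, ?_, rfl⟩, ?_⟩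
    · rwa [Equiv.apply_symm_apply]
    · rw [Equiv.apply_symm_apply]

theorem jOf_subset (K : Finset Δ.bnPair.S) : jOf Δ K ⊆ Finset.range D.rank := by
  intro x hx
  obtain ⟨i, _, rfl⟩ := (mem_jOf Δ).mp hx
  exact Finset.mem_range.mpr i.2

theorem card_kOf {J : Finset ℕ} (hJ : J ⊆ Finset.range D.rank) : (kOf Δ J).card = J.card := by
  conv_rhs => rw [← jOf_kOf Δ hJ]
  unfold jOf
  rw [Finset.card_map, Finset.card_map]

theorem genSet_eq (J : Finset ℕ) :
    genSet (D := D) (F := F) (J : Set ℕ) = Subtype.val '' ((kOf Δ J : Finset Δ.bnPair.S) : Set Δ.bnPair.S) := by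
  ext n
  constructor
  · rintro ⟨j, hjJ, hj, hn⟩
    refine ⟨Δ.sEquiv ⟨j, hj⟩, ?_, ?_⟩
    · rw [Finset.mem_coe, mem_kOf]
      exact ⟨⟨j, hj⟩, hjJ, rfl⟩
    · rw [BNData.sEquiv_apply]
      apply Subtype.ext
      apply Units.ext
      rw [hn]
      rfl
  · rintro ⟨s, hs, rfl⟩
    rw [Finset.mem_coe, mem_kOf] at hs
    obtain ⟨i, hi, rfl⟩ := hs
    exact ⟨i, hi, i.2, rfl⟩

/-- the Steinberg class function of the Chevalley group is the alternating sum of its (B,N)-pair -/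
theorem steinberg_eq_altSum :
    D.steinbergCharacter F = @altSum _ _ Δ.bnPair (fintypeS Δ) := by
  letI := fintypeS Δ
  funext g
  unfold ChevalleyDatum.steinbergCharacter altSum
  refine Finset.sum_bij' (fun J _ => kOf Δ J) (fun K _ => jOf Δ K) ?_ ?_ ?_ ?_ ?_
  · intro J _
    exact Finset.mem_powerset.mpr (Finset.subset_univ _)
  · intro K _
    exact Finset.mem_powerset.mpr (jOf_subset Δ K)
  · intro J hJ
    exact jOf_kOf Δ (Finset.mem_powerset.mp hJ)
  · intro K _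
    exact kOf_jOf Δ K
  · intro J hJ
    rw [card_kOf Δ (Finset.mem_powerset.mp hJ), parabolicIn_eq Δ, genSet_eq Δ]

end Cfsg.Agent.Helper12.BNSt
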