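import Cfsg.Agent.Helper2.Levi.E
import Cfsg.Agent.Helper12.BNStH
import Cfsg.Agent.Helper12.BNCntE

set_option autoImplicit false

/-!
# Chevalley groups: the longest element of `W_J` sends `Φ_J⁺` to negative roots, and
`U ∩ n_J B n_J⁻¹ ≤ U_J`
-/

namespace Cfsg.Agent.Helper12.BNCnt

open Cfsg Cfsg.Lie Cfsg.Agent.Helper2 Cfsg.Agent.Helper6 Cfsg.Agent.Helper14.ExchCox
  Cfsg.Agent.Helper12.BNSt Cfsg.Agent.Helper2.Levi

variable {D : ChevalleyDatum} {F : Type*} [Field F] (Δ : BNData D F)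

/-- if right multiplication by the fundamental reflection `s` shortens `m`, then
`m X_p m⁻¹ ≤ V` -/
theorem neg_of_len_lt {i : ℕ} (hi : i < D.rank) {m s : ↥(D.group F)} (hm : m ∈ Δ.bnPair.N)
    (hs : (s : GL D.Idx F) = nU Δ.hB (D.simple i) (one_ne_zero (α := F)))
    (hlen : BN.len Δ.bnPair Δ.bnPair.S (m * s) < BN.len Δ.bnPair Δ.bnPair.S m) (t : F) :
    (m : GL D.Idx F) * xU Δ.hB (D.simple i) t * (m : GL D.Idx F)⁻¹ ∈ D.negUnipotent F := by
  have hA := Δ.hAll i hi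
  have hp := hA.hS.1
  have hsS : s ∈ Δ.bnPair.S := ⟨i, hi, by rw [hs, nU_val]⟩
  have hsN : s ∈ Δ.bnPair.N := Δ.bnPair.subset hsS
  have hms : m * s ∈ Δ.bnPair.N := Subgroup.mul_mem _ hm hsN
  have hlen2 : BN.len Δ.bnPair Δ.bnPair.S (m * s) ≤ BN.len Δ.bnPair Δ.bnPair.S (m * s * s) := by
    rw [mul_assoc, BN.len_mul_H (BN.sq_mem_H hsS)]
    exact hlen.le
  have key := Δ.pos_of_len_le hi hms hs hlen2
  have hw : wR D (D.simple i) (D.simple i) = D.neg (D.simple i) := by unfold wR; simp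
  have he : etaR D (D.simple i) (D.simple i) = -1 := by unfold etaR; simp
  have key2 : ∀ t : F, (m : GL D.Idx F) * xU Δ.hB (D.neg (D.simple i)) t * (m : GL D.Idx F)⁻¹ ∈
      D.posUnipotent F := by
    intro t
    have h1 := key (-t)
    have e1 : ((m * s : ↥(D.group F)) : GL D.Idx F) * xU Δ.hB (D.simple i) (-t) *
        ((m * s : ↥(D.group F)) : GL D.Idx F)⁻¹ =
        (m : GL D.Idx F) * (nU Δ.hB (D.simple i) (one_ne_zero (α := F)) *
          xU Δ.hB (D.simple i) (-t) * (nU Δ.hB (D.simple i) (one_ne_zero (α := F)))⁻¹) *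
          (m : GL D.Idx F)⁻¹ := by
      rw [Subgroup.coe_mul, hs]
      group
    rw [e1, nU_conj_xU Δ.hB hA hp, hw, he] at h1
    simpa using h1
  obtain ⟨σ, c, hσ⟩ := Δ.rootPermP_of_mem (Δ.mem_N_iff_val.1 hm)
  obtain ⟨h1, h2, h3⟩ := hσ (D.simple i) hp
  obtain ⟨h1', _, h3'⟩ := hσ (D.neg (D.simple i)) (Δ.hB.neg _ hp).1
  rcases Δ.pos_or_neg h1 with hpos | hneg
  · exfalso
    apply Δ.not_pos_and_neg (m := (m : GL D.Idx F)) (Δ.hB.neg _ hp).1 (key2 1)
    rw [h3', h2]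
    exact Δ.xU_neg_mem (Δ.isNegRoot_neg hpos) _
  · rw [h3]
    exact Δ.xU_neg_mem hneg _

/-- a root in the `J`-orbit of a fundamental root of `J` is conjugate to it under `N_J` -/
theorem exists_conj_of_jreach {J : Set ℕ} {r : ℕ} (h : JReach D J r) :
    ∃ v : ↥(D.group F), v ∈ BN.NJ Δ.bnPair (genSet J) ∧ ∃ j ∈ J, ∃ _ : j < D.rank, ∃ c : F,
      c ≠ 0 ∧ ∀ t : F, (v : GL D.Idx F) * xU Δ.hB (D.simple j) t * (v : GL D.Idx F)⁻¹ =
        xU Δ.hB r (c * t) := by
  induction h with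
  | @simple j hj hJ =>
    refine ⟨1, Subgroup.one_mem _, j, hJ, hj, 1, one_ne_zero, fun t => ?_⟩
    simp
  | @step j' s hj' hJ' hs _ ih =>
    obtain ⟨v, hv, j, hjJ, hj, c, hc, hconj⟩ := ih
    have hA := Δ.hAll j' hj'
    have hnJ : Δ.sElt hj' ∈ genSet (D := D) (F := F) J := ⟨j', hJ', hj', by
      show ((nU Δ.hB (D.simple j') (one_ne_zero (α := F)) : GL D.Idx F) :
        Matrix D.Idx D.Idx F) = _
      rw [nU_val]⟩
    have hη := etaR_sq (F := F) Δ.hB hA hs
    refine ⟨Δ.sElt hj' * v, Subgroup.mul_mem _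
      (Subgroup.mem_sup_left (Subgroup.subset_closure hnJ)) hv, j, hjJ, hj,
      ((etaR D (D.simple j') s : ℤ) : F) * c, ?_, fun t => ?_⟩
    · intro h0
      rcases mul_eq_zero.1 h0 with h0 | h0
      · rw [h0, mul_zero] at hη
        exact zero_ne_one hη
      · exact hc h0
    · have e1 : ((Δ.sElt hj' * v : ↥(D.group F)) : GL D.Idx F) * xU Δ.hB (D.simple j) t *
          ((Δ.sElt hj' * v : ↥(D.group F)) : GL D.Idx F)⁻¹ =
          nU Δ.hB (D.simple j') (one_ne_zero (α := F)) *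
            ((v : GL D.Idx F) * xU Δ.hB (D.simple j) t * (v : GL D.Idx F)⁻¹) *
            (nU Δ.hB (D.simple j') (one_ne_zero (α := F)))⁻¹ := by
        rw [Subgroup.coe_mul]
        show (nU Δ.hB (D.simple j') (one_ne_zero (α := F)) * (v : GL D.Idx F)) * _ *
          (nU Δ.hB (D.simple j') (one_ne_zero (α := F)) * (v : GL D.Idx F))⁻¹ = _
        group
      rw [e1, hconj, nU_conj_xU Δ.hB hA hs, mul_assoc]

/-- the positive root subgroups of the Levi factor -/
def posLevi (D : ChevalleyDatum) (F : Type*) [Field F] (J : Set ℕ) : Subgroup (GL D.Idx F) :=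
  Subgroup.closure {g | ∃ (r : ℕ) (t : F), D.IsPosRoot r ∧ D.InRootSub J r ∧
    (g : Matrix D.Idx D.Idx F) = D.x F r t}

theorem posLevi_le_parabolic (J : Set ℕ) : posLevi D F J ≤ D.parabolicSubgroup F J := by
  unfold posLevi ChevalleyDatum.parabolicSubgroup ChevalleyDatum.borelSubgroup
    ChevalleyDatum.posUnipotent
  rw [Subgroup.closure_le]
  rintro g ⟨r, t, hr, _, hg⟩
  exact Subgroup.mem_sup_left (Subgroup.mem_sup_left (Subgroup.subset_closure ⟨r, t, hr, hg⟩))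

theorem parabolic_genSet (J : Set ℕ) :
    Δ.bnPair.parabolic (genSet J) = (D.parabolicSubgroup F J).subgroupOf (D.group F) := by
  unfold ChevalleyDatum.parabolicSubgroup BNPair.parabolic
  have hle : Subgroup.closure {g : GL D.Idx F | ∃ j ∈ J, j < D.rank ∧
      (g : Matrix D.Idx D.Idx F) = D.nMat F (D.simple j) 1} ≤ D.group F := by
    rw [Subgroup.closure_le]
    rintro g ⟨j, _, hj, hg⟩
    have : g = nU Δ.hB (D.simple j) (one_ne_zero (α := F)) := Units.ext (by rw [hg, nU_val])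
    rw [this]
    exact Δ.monomial_le_group (nU_one_mem_monomial Δ.hB (Δ.hAll j hj).hS.1)
  rw [Subgroup.subgroupOf_sup Δ.borel_le_group hle]
  congr 1
  have himg : {g : GL D.Idx F | ∃ j ∈ J, j < D.rank ∧
      (g : Matrix D.Idx D.Idx F) = D.nMat F (D.simple j) 1} =
      (D.group F).subtype '' genSet (D := D) (F := F) J := by
    ext g
    constructor
    · rintro ⟨j, hjJ, hj, hg⟩
      have hgG : g ∈ D.group F := hle (Subgroup.subset_closure ⟨j, hjJ, hj, hg⟩)
      exact ⟨⟨g, hgG⟩, ⟨j, hjJ, hj, hg⟩, rfl⟩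
    · rintro ⟨n, ⟨j, hjJ, hj, hn⟩, rfl⟩
      exact ⟨j, hjJ, hj, hn⟩
  rw [himg, ← MonoidHom.map_closure]
  exact (Subgroup.comap_map_eq_self_of_injective (Subgroup.subtype_injective _) _).symm

variable {C : List (List ℤ)} (L : LData D F C)

include L in
/-- `U = U_J · (U ∩ L_J)` -/
theorem posUnipotent_le_mul (J : Set ℕ) {u : GL D.Idx F} (hu : u ∈ D.posUnipotent F) :
    ∃ v ∈ D.unipotentRadical F J, ∃ l ∈ posLevi D F J, u = v * l := by
  have hnorm : posLevi D F J ≤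
      Subgroup.normalizer (D.unipotentRadical F J : Set (GL D.Idx F)) :=
    (posLevi_le_parabolic J).trans (L.parabolic_le_normalizer J)
  have hle : D.posUnipotent F ≤ D.unipotentRadical F J ⊔ posLevi D F J := by
    unfold ChevalleyDatum.posUnipotent
    rw [Subgroup.closure_le]
    rintro g ⟨r, t, hr, hg⟩
    by_cases hin : D.InRootSub J r
    · exact Subgroup.mem_sup_right (Subgroup.subset_closure ⟨r, t, hr, hin, hg⟩)
    · exact Subgroup.mem_sup_left (Subgroup.subset_closure ⟨r, t, hr, hin, hg⟩)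
  have h1 : u ∈ ((D.unipotentRadical F J ⊔ posLevi D F J : Subgroup (GL D.Idx F)) :
      Set (GL D.Idx F)) := hle hu
  rw [Subgroup.coe_mul_of_right_le_normalizer_left _ _ hnorm, Set.mem_mul] at h1
  obtain ⟨v, hv, l, hl, rfl⟩ := h1
  exact ⟨v, hv, l, hl, rfl⟩

/-- `U ∩ m⁻¹ B m ≤ U_J` when `m ∈ P_J` sends the positive roots of `Φ_J` to negative roots -/
theorem mem_radical_of_conj_mem (J : Set ℕ) {m : GL D.Idx F} (hmP : m ∈ D.parabolicSubgroup F J)
    (hmneg : ∀ r, D.IsPosRoot r → D.InRootSub J r → ∀ t : F,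
      m * xU L.Δ.hB r t * m⁻¹ ∈ D.negUnipotent F)
    {x : GL D.Idx F} (hx : x ∈ D.posUnipotent F) (hxB : m * x * m⁻¹ ∈ D.borelSubgroup F) :
    x ∈ D.unipotentRadical F J := by
  have hconjV : ∀ l ∈ posLevi D F J, m * l * m⁻¹ ∈ D.negUnipotent F := by
    intro l hl
    unfold posLevi at hl
    induction hl using Subgroup.closure_induction with
    | mem g hg =>
      obtain ⟨r, t, hr, hin, hg⟩ := hg
      have hg' : g = xU L.Δ.hB r t := Units.ext (by rw [hg, xU_val])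
      rw [hg']
      exact hmneg r hr hin t
    | one =>
      rw [mul_one, mul_inv_cancel]
      exact Subgroup.one_mem _
    | mul a b _ _ ha hb =>
      have e : m * (a * b) * m⁻¹ = (m * a * m⁻¹) * (m * b * m⁻¹) := by group
      rw [e]
      exact Subgroup.mul_mem _ ha hb
    | inv a _ ha =>
      have e : m * a⁻¹ * m⁻¹ = (m * a * m⁻¹)⁻¹ := by group
      rw [e]
      exact Subgroup.inv_mem _ ha
  obtain ⟨v, hv, l, hl, rfl⟩ := posUnipotent_le_mul L J hx
  have hmN := L.parabolic_le_normalizer J hmP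
  have hv' : m * v * m⁻¹ ∈ D.unipotentRadical F J :=
    (Subgroup.mem_normalizer_iff.1 hmN v).1 hv
  have hvB : m * v * m⁻¹ ∈ D.borelSubgroup F :=
    L.Δ.posUnipotent_le_borel (unipotentRadical_le_posUnipotent J hv')
  have hlB : m * l * m⁻¹ ∈ D.borelSubgroup F := by
    have := Subgroup.mul_mem _ (Subgroup.inv_mem _ hvB) hxB
    have e : (m * v * m⁻¹)⁻¹ * (m * (v * l) * m⁻¹) = m * l * m⁻¹ := by group
    rwa [e] at this
  have hlV : m * l * m⁻¹ ∈ D.negUnipotent F := hconjV l hl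
  have h1 : m * l * m⁻¹ ∈ D.borelSubgroup F ⊓ D.negUnipotent F := ⟨hlB, hlV⟩
  rw [borel_inf_negUnipotent L.Δ.hB L.Δ.hH L.Δ.good2, Subgroup.mem_bot] at h1
  have hl1 : l = 1 := by
    have e : l = m⁻¹ * (m * l * m⁻¹) * m := by group
    rw [e, h1]
    group
  rw [hl1, mul_one]
  exact hv

end Cfsg.Agent.Helper12.BNCnt
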