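import Cfsg.Agent.Helper6.Chev.OrderSum
import Cfsg.Agent.Helper12.BNStH

set_option autoImplicit false

/-!
# The Steinberg character of a Chevalley group: irreducibility, restriction to `B`, degree
-/

namespace Cfsg.Agent.Helper12.BNSt

open Cfsg Cfsg.Lie Cfsg.Agent.Helper2 Cfsg.Agent.Helper6 Cfsg.Agent.Helper14.ExchCox

variable {D : ChevalleyDatum} {F : Type*} [Field F] (Δ : BNData D F)

include Δ in
/-- irreducibility -/
theorem isIrrCharacter_steinberg [Fintype F] :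
    IsIrrCharacter ↥(D.group F) (D.steinbergCharacter F) := by
  classical
  letI := fintypeS Δ
  haveI := BNData.normalH Δ
  letI : Fintype ↥(D.group F) := Fintype.ofFinite _
  rw [steinberg_eq_altSum Δ]
  exact isIrrCharacter_altSum Δ.bnPair

/-- the representative of the longest element has all right descents -/
theorem desc_of_w0 {n₀ : ↥(D.group F)} (hn₀ : n₀ ∈ Δ.bnPair.N)
    (hmap : (D.posUnipotent F).map (MulAut.conj (n₀ : GL D.Idx F)).toMonoidHom = D.negUnipotent F)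
    (j : Δ.bnPair.S) :
    len (sgen Δ.bnPair) ((QuotientGroup.mk ⟨n₀, hn₀⟩ : Wq Δ.bnPair) * sgen Δ.bnPair j) <
      len (sgen Δ.bnPair) (QuotientGroup.mk ⟨n₀, hn₀⟩ : Wq Δ.bnPair) := by
  haveI := BNData.normalH Δ
  by_contra hcon
  rw [not_lt] at hcon
  have hjN : (j : ↥(D.group F)) ∈ Δ.bnPair.N := Δ.bnPair.subset j.2
  have e1 : (QuotientGroup.mk ⟨n₀, hn₀⟩ : Wq Δ.bnPair) * sgen Δ.bnPair j =
      QuotientGroup.mk ⟨n₀ * (j : ↥(D.group F)), Subgroup.mul_mem _ hn₀ hjN⟩ := rfl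
  rw [e1, len_eq, len_eq] at hcon
  obtain ⟨i, hi, hsv⟩ := j.2
  have hs := Δ.coe_of_mem_Sset hsv
  have h1 := Δ.pos_of_len_le hi hn₀ hs hcon 1
  have hp := (Δ.hAll i hi).hS.1
  have hpos : D.IsPosRoot (D.simple i) := (Δ.hsign' _ hp).2 (Δ.hpN i hi)
  have h2 : (n₀ : GL D.Idx F) * xU Δ.hB (D.simple i) 1 * (n₀ : GL D.Idx F)⁻¹ ∈ D.negUnipotent F := by
    rw [← hmap]
    exact ⟨xU Δ.hB (D.simple i) 1, Δ.xU_pos_mem hpos 1, rfl⟩
  exact Δ.not_pos_and_neg hp h1 h2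

/-- `B ∩ n₀ B n₀⁻¹ = H` -/
theorem opp_of_w0 {n₀ : ↥(D.group F)} (hn₀ : n₀ ∈ Δ.bnPair.N)
    (hmap : (D.posUnipotent F).map (MulAut.conj (n₀ : GL D.Idx F)).toMonoidHom = D.negUnipotent F)
    (x : ↥(D.group F)) (hx : x ∈ Δ.bnPair.B) (hx' : n₀⁻¹ * x * n₀ ∈ Δ.bnPair.B) :
    x ∈ BN.H Δ.bnPair := by
  rw [Δ.mem_H_iff_val]
  have hnN := Δ.mem_N_iff_val.1 hn₀
  have h1 := Δ.mem_B_iff_val.1 hx
  have h2 := Δ.mem_B_iff_val.1 hx'
  simp only [Subgroup.coe_mul, Subgroup.coe_inv] at h2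
  have h3 : (x : GL D.Idx F) ∈ (D.borelSubgroup F).map (MulAut.conj (n₀ : GL D.Idx F)).toMonoidHom := by
    refine ⟨_, h2, ?_⟩
    show (n₀ : GL D.Idx F) * ((n₀ : GL D.Idx F)⁻¹ * (x : GL D.Idx F) * (n₀ : GL D.Idx F)) *
      (n₀ : GL D.Idx F)⁻¹ = x
    group
  have h4 : (D.borelSubgroup F).map (MulAut.conj (n₀ : GL D.Idx F)).toMonoidHom ≤
      D.negUnipotent F ⊔ D.diagonalSubgroup F := by
    unfold ChevalleyDatum.borelSubgroup
    rw [Subgroup.map_sup, hmap]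
    apply sup_le_sup_left
    rintro _ ⟨h, hh, rfl⟩
    exact Δ.conj_diag_mem hnN hh
  have h5 : (x : GL D.Idx F) ∈ D.borelSubgroup F ⊓ (D.negUnipotent F ⊔ D.diagonalSubgroup F) :=
    ⟨h1, h4 h3⟩
  rwa [borel_inf_negBorel Δ.hB Δ.hAll Δ.hAdd Δ.hH Δ.good2] at h5

theorem H_eq : BN.H Δ.bnPair = (D.diagonalSubgroup F).subgroupOf (D.group F) := by
  ext h
  rw [Δ.mem_H_iff_val, Subgroup.mem_subgroupOf]

include Δ in
/-- restriction to `B` -/
theorem steinberg_restrict_borel [Fintype F]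
    (hw0 : ∃ n ∈ D.monomialSubgroup F,
      (D.posUnipotent F).map (MulAut.conj n).toMonoidHom = D.negUnipotent F)
    (b : ↥((D.borelSubgroup F).subgroupOf (D.group F))) :
    D.steinbergCharacter F ((((D.borelSubgroup F).subgroupOf (D.group F)).subtype) b) =
      fixedPointCharacter (((D.diagonalSubgroup F).subgroupOf (D.group F)).subgroupOf
        ((D.borelSubgroup F).subgroupOf (D.group F))) b := by
  classical
  letI := fintypeS Δ
  haveI := BNData.normalH Δ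
  obtain ⟨n, hn, hmap⟩ := hw0
  have hnG : n ∈ D.group F := Δ.monomial_le_group hn
  have hn₀ : (⟨n, hnG⟩ : ↥(D.group F)) ∈ Δ.bnPair.N := Δ.mem_N_iff_val.2 hn
  have key := alt_sum_eq_fixedPointCharacter Δ.bnPair hn₀ (desc_of_w0 Δ hn₀ hmap)
    (opp_of_w0 Δ hn₀ hmap) b
  rw [steinberg_eq_altSum Δ]
  rw [H_eq Δ] at key
  exact key

end Cfsg.Agent.Helper12.BNSt
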