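import Cfsg.Agent.Helper24.DefectZero
import Cfsg.Agent.Helper12.BNStI

set_option autoImplicit false

/-!
# The Steinberg character of a Chevalley group: degree and vanishing on `p`-singular elements
-/

namespace Cfsg.Agent.Helper12.BNSt

open Cfsg Cfsg.Lie Cfsg.Agent.Helper2 Cfsg.Agent.Helper6 Cfsg.Agent.Helper14.ExchCox
open Cfsg.Agent.Helper6.BNData

variable {D : ChevalleyDatum} {F : Type*} [Field F] (Δ : BNData D F)

include Δ in
/-- the degree -/
theorem steinberg_one [Fintype F]
    (hw0 : ∃ n ∈ D.monomialSubgroup F,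
      (D.posUnipotent F).map (MulAut.conj n).toMonoidHom = D.negUnipotent F)
    (hU : Nat.card (D.posUnipotent F) = Fintype.card F ^ (D.nroots / 2)) :
    D.steinbergCharacter F 1 = (Fintype.card F : ℂ) ^ (D.nroots / 2) := by
  have h1 := steinberg_restrict_borel Δ hw0 1
  rw [map_one] at h1
  rw [h1]
  unfold fixedPointCharacter
  rw [MulAction.fixedBy_one_eq_univ, Nat.card_congr (Equiv.Set.univ _), ← Subgroup.index_eq_card]
  -- the index of `H` in `B`
  set B' := (D.borelSubgroup F).subgroupOf (D.group F) with hB'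
  set H' := (D.diagonalSubgroup F).subgroupOf (D.group F) with hH'
  have hHB : D.diagonalSubgroup F ≤ D.borelSubgroup F := Δ.diag_le_borel
  have hle : H' ≤ B' := by
    intro x hx
    rw [hH', Subgroup.mem_subgroupOf] at hx
    rw [hB', Subgroup.mem_subgroupOf]
    exact hHB hx
  have c1 : Nat.card (H'.subgroupOf B') = Nat.card (D.diagonalSubgroup F) := by
    rw [Nat.card_congr (Subgroup.subgroupOfEquivOfLe hle).toEquiv,
      Nat.card_congr (Subgroup.subgroupOfEquivOfLe (hHB.trans Δ.borel_le_group)).toEquiv]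
  have c2 : Nat.card B' = Nat.card (D.borelSubgroup F) :=
    Nat.card_congr (Subgroup.subgroupOfEquivOfLe Δ.borel_le_group).toEquiv
  have c3 := Subgroup.card_mul_index (H'.subgroupOf B')
  rw [c1, c2, Δ.card_borel hU] at c3
  have hpos : 0 < Nat.card (D.diagonalSubgroup F) := Nat.card_pos
  have c4 : (H'.subgroupOf B').index = Fintype.card F ^ (D.nroots / 2) := by
    have : Nat.card (D.diagonalSubgroup F) * (H'.subgroupOf B').index =
        Nat.card (D.diagonalSubgroup F) * Fintype.card F ^ (D.nroots / 2) := by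
      rw [c3, mul_comm]
    exact Nat.eq_of_mul_eq_mul_left hpos this
  rw [c4]
  push_cast
  rfl

include Δ in
/-- the `p`-part of the order of the group divides `q^N` -/
theorem pow_factorization_dvd [Fintype F] (p : ℕ) [Fact p.Prime] [CharP F p]
    (hU : Nat.card (D.posUnipotent F) = Fintype.card F ^ (D.nroots / 2))
    (hH : ∃ d : ℕ, d * Nat.card (D.diagonalSubgroup F) = (Fintype.card F - 1) ^ D.rank) :
    p ^ (Nat.card ↥(D.group F)).factorization p ∣ Fintype.card F ^ (D.nroots / 2) := by
  classical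
  have hp : p.Prime := Fact.out
  haveI : Finite (WeylQ D F) := by
    haveI : Finite ↥(D.monomialSubgroup F) := inferInstance
    exact Quotient.finite _
  letI : Fintype (WeylQ D F) := Fintype.ofFinite _
  obtain ⟨f, _, hq⟩ := FiniteField.card F p
  have hpq : p ∣ Fintype.card F := by
    rw [hq]; exact dvd_pow_self p f.ne_zero
  have hq1 : 1 ≤ Fintype.card F := Fintype.card_pos
  -- `p ∤ |H|`
  have hcH : p.Coprime (Nat.card (D.diagonalSubgroup F)) := by
    rw [Nat.Prime.coprime_iff_not_dvd hp]
    intro hdvd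
    obtain ⟨d, hd⟩ := hH
    have h1 : p ∣ (Fintype.card F - 1) ^ D.rank := by
      rw [← hd]; exact Dvd.dvd.mul_left hdvd d
    have h2 : p ∣ Fintype.card F - 1 := hp.dvd_of_dvd_pow h1
    have h3 : p ∣ 1 := by
      have := (Nat.dvd_sub hpq h2)
      rwa [Nat.sub_sub_self hq1] at this
    exact hp.one_lt.ne' (Nat.dvd_one.mp h3)
  -- `p ∤ Σ_w q^{N(w)}`
  have hcS : p.Coprime (∑ w : WeylQ D F, Fintype.card F ^ (invSet D F (wrep w)).card) := by
    rw [Nat.Prime.coprime_iff_not_dvd hp]
    intro hdvd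
    set w₁ : WeylQ D F := QuotientGroup.mk ⟨1, Subgroup.one_mem _⟩ with hw₁
    rw [← Finset.add_sum_erase Finset.univ _ (Finset.mem_univ w₁)] at hdvd
    have h1 : (invSet D F (wrep w₁)).card = 0 := by
      have hmem : wrep w₁ ∈ D.diagonalSubgroup F := by
        have := mk_wrep w₁
        rw [hw₁, BNData.mk_eq_mk_iff (wrep_mem _) (Subgroup.one_mem _)] at this
        have h2 := Subgroup.inv_mem _ this
        simpa using h2
      rw [Δ.invSet_diag hmem, Finset.card_empty]
    rw [h1, pow_zero] at hdvd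
    have h2 : p ∣ ∑ w ∈ (Finset.univ : Finset (WeylQ D F)).erase w₁,
        Fintype.card F ^ (invSet D F (wrep w)).card := by
      apply Finset.dvd_sum
      intro w hw
      have hw1 : w ≠ w₁ := (Finset.mem_erase.mp hw).1
      have hne : (invSet D F (wrep w)).card ≠ 0 := by
        intro h0
        apply hw1
        have hmem := Δ.mem_diag_of_invSet_eq_empty (wrep_mem w) (Finset.card_eq_zero.mp h0)
        rw [← mk_wrep w, hw₁, BNData.mk_eq_mk_iff (wrep_mem _) (Subgroup.one_mem _)]
        simpa using Subgroup.inv_mem _ hmem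
      exact hpq.trans (dvd_pow_self _ hne)
    have h3 : p ∣ 1 := (Nat.dvd_add_left h2).mp hdvd
    exact hp.one_lt.ne' (Nat.dvd_one.mp h3)
  have hcard := Δ.card_group_eq_sum (F := F)
  rw [Δ.card_borel hU] at hcard
  have hdvd : p ^ (Nat.card ↥(D.group F)).factorization p ∣
      Fintype.card F ^ (D.nroots / 2) * (Nat.card (D.diagonalSubgroup F) *
        ∑ w : WeylQ D F, Fintype.card F ^ (invSet D F (wrep w)).card) := by
    rw [← mul_assoc, ← hcard]
    exact Nat.ordProj_dvd _ _
  exact Nat.Coprime.dvd_of_dvd_mul_right (Nat.Coprime.pow_left _ (Nat.Coprime.mul_right hcH hcS)) hdvd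

include Δ in
/-- vanishing on `p`-singular elements -/
theorem steinberg_eq_zero [Fintype F] (p : ℕ) [Fact p.Prime] [CharP F p]
    (hw0 : ∃ n ∈ D.monomialSubgroup F,
      (D.posUnipotent F).map (MulAut.conj n).toMonoidHom = D.negUnipotent F)
    (hU : Nat.card (D.posUnipotent F) = Fintype.card F ^ (D.nroots / 2))
    (hH : ∃ d : ℕ, d * Nat.card (D.diagonalSubgroup F) = (Fintype.card F - 1) ^ D.rank)
    (g : ↥(D.group F)) (hg : p ∣ orderOf g) : D.steinbergCharacter F g = 0 := by
  classical
  have hp : p.Prime := Fact.out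
  letI : Fintype ↥(D.group F) := Fintype.ofFinite _
  haveI : Fintype (IrrCharacter ↥(D.group F)) := Fintype.ofFinite _
  have hirr := isIrrCharacter_steinberg Δ (F := F)
  have h1 := steinberg_one Δ hw0 hU
  have hne : Nat.card ↥(D.group F) ≠ 0 := Nat.card_pos.ne'
  exact Cfsg.Agent.Helper24.irr_eq_zero_of_defect_zero ⟨D.steinbergCharacter F, hirr⟩ p
    ((Nat.card ↥(D.group F)).factorization p) (Fintype.card F ^ (D.nroots / 2)) hp
    (Nat.ordProj_dvd _ _) (Nat.pow_succ_factorization_not_dvd hne hp)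
    (by show D.steinbergCharacter F 1 = _; rw [h1]; push_cast; rfl)
    (pow_factorization_dvd Δ p hU hH) g hg

end Cfsg.Agent.Helper12.BNSt
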