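import Cfsg.Agent.Helper11.ChevSylow
import Cfsg.Agent.Helper12.BNStJ
import Cfsg.Agent.Helper12.BNCntF

set_option autoImplicit false

/-!
# Steinberg's count of the elements of `p`-power order in a Chevalley group
-/

namespace Cfsg.Agent.Helper12.BNCnt

open Cfsg Cfsg.Lie Cfsg.Agent.Helper2 Cfsg.Agent.Helper6 Cfsg.Agent.Helper14.ExchCox
  Cfsg.Agent.Helper12.BNSt Cfsg.Agent.Helper2.Levi

variable {D : ChevalleyDatum} {F : Type*} [Field F] [Fintype F] {C : List (List ℤ)}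
  (L : LData D F C)

omit [Fintype F] in
/-- the longest element of `W_J` sends the positive roots of `Φ_J` to negative roots -/
theorem conj_neg_of_longest (hchk : jreachChk D = true) (J : Set ℕ)
    {m : ↥(L.Δ.bnPair.parabolic (genSet J))}
    (hm : m ∈ (subBN L.Δ.bnPair (genSet J) (genSet_subset J)).N)
    (hdesc : ∀ j : (subBN L.Δ.bnPair (genSet J) (genSet_subset J)).S,
      len (sgen (subBN L.Δ.bnPair (genSet J) (genSet_subset J)))
        ((QuotientGroup.mk ⟨m, hm⟩ : Wq (subBN L.Δ.bnPair (genSet J) (genSet_subset J))) *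
          sgen (subBN L.Δ.bnPair (genSet J) (genSet_subset J)) j) <
      len (sgen (subBN L.Δ.bnPair (genSet J) (genSet_subset J)))
        (QuotientGroup.mk ⟨m, hm⟩ : Wq (subBN L.Δ.bnPair (genSet J) (genSet_subset J))))
    {r : ℕ} (hr : D.IsPosRoot r) (hin : D.InRootSub J r) (t : F) :
    ((m : ↥(D.group F)) : GL D.Idx F) * xU L.Δ.hB r t * ((m : ↥(D.group F)) : GL D.Idx F)⁻¹ ∈
      D.negUnipotent F := by
  have Δ := L.Δ
  have hJ : genSet (D := D) (F := F) J ⊆ L.Δ.bnPair.S := genSet_subset J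
  have hreach := L.jreach_of_inRootSub J hchk hin
  obtain ⟨v, hv, j, hjJ, hj, c, hc, hconj⟩ := exists_conj_of_jreach L.Δ hreach
  have hsJ : L.Δ.sElt hj ∈ genSet (D := D) (F := F) J := ⟨j, hjJ, hj, by
    show ((nU L.Δ.hB (D.simple j) (one_ne_zero (α := F)) : GL D.Idx F) :
      Matrix D.Idx D.Idx F) = _
    rw [nU_val]⟩
  have hvN : v ∈ L.Δ.bnPair.N := BN.NJ_le_N hJ hv
  have hpos1 : (v : GL D.Idx F) * xU L.Δ.hB (D.simple j) 1 * (v : GL D.Idx F)⁻¹ ∈
      D.posUnipotent F := by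
    rw [hconj]; exact L.Δ.xU_pos_mem hr _
  have hle : BN.len L.Δ.bnPair L.Δ.bnPair.S v ≤
      BN.len L.Δ.bnPair L.Δ.bnPair.S (v * L.Δ.sElt hj) := by
    by_contra hcon
    rw [not_le] at hcon
    exact L.Δ.not_pos_and_neg (L.Δ.hAll j hj).hS.1 hpos1
      (neg_of_len_lt L.Δ hj hvN rfl hcon 1)
  have hlt := desc_of_longest hJ hm hdesc hv hsJ hle
  have hmN : (m : ↥(D.group F)) ∈ L.Δ.bnPair.N := BN.NJ_le_N hJ hm
  have key := neg_of_len_lt L.Δ hj (Subgroup.mul_mem _ hmN hvN) rfl hlt (c⁻¹ * t)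
  have e : (((m : ↥(D.group F)) * v : ↥(D.group F)) : GL D.Idx F) *
      xU L.Δ.hB (D.simple j) (c⁻¹ * t) *
      (((m : ↥(D.group F)) * v : ↥(D.group F)) : GL D.Idx F)⁻¹ =
      ((m : ↥(D.group F)) : GL D.Idx F) *
        ((v : GL D.Idx F) * xU L.Δ.hB (D.simple j) (c⁻¹ * t) * (v : GL D.Idx F)⁻¹) *
        ((m : ↥(D.group F)) : GL D.Idx F)⁻¹ := by
    rw [Subgroup.coe_mul]
    group
  rw [e, hconj, ← mul_assoc, mul_inv_cancel₀ hc, one_mul] at key
  exact key

/-- the hypothesis of the parabolic step holds for every `J` -/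
theorem stepHyp_genSet (p : ℕ) [Fact p.Prime] [CharP F p]
    (hD : D ∈ [chevG2, chevB2, chevD4, chevF4, chevE6, chevE7, chevE8])
    (hchk : jreachChk D = true) (J : Set ℕ) :
    StepHyp L.Δ.bnPair p ((D.posUnipotent F).subgroupOf (D.group F)) (genSet J)
      (genSet_subset J) := by
  have hJ : genSet (D := D) (F := F) J ⊆ L.Δ.bnPair.S := genSet_subset J
  have hpar := parabolic_genSet L.Δ J
  refine ⟨(D.unipotentRadical F J).subgroupOf (D.group F), ?_, ?_, ?_, ?_⟩
  · intro v hv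
    rw [Subgroup.mem_subgroupOf] at hv ⊢
    exact unipotentRadical_le_posUnipotent J hv
  · intro x hx v hv
    rw [hpar, Subgroup.mem_subgroupOf] at hx
    rw [Subgroup.mem_subgroupOf] at hv ⊢
    have := (Subgroup.mem_normalizer_iff.1 (L.parabolic_le_normalizer J hx) v).1 hv
    simpa using this
  · intro g hgM hg
    obtain ⟨Q, hQ⟩ := Cfsg.Agent.Helper11.ChevSylow.exists_sylow (F := F) p hD
    have hQM : (Q : Subgroup ↥(D.group F)) ≤ L.Δ.bnPair.parabolic (genSet J) := by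
      rw [hQ]
      intro u hu
      apply BN.B_le_parabolic
      rw [L.Δ.mem_B_iff_val]
      exact L.Δ.posUnipotent_le_borel (Subgroup.mem_subgroupOf.1 hu)
    obtain ⟨x, hx, hxg⟩ := exists_conj_mem_of_sylow Q hQM hgM hg
    rw [hQ] at hxg
    exact ⟨x, hx, hxg⟩
  · obtain ⟨n₀, hn₀, hR, hRinv⟩ := exists_longest_sub (P := L.Δ.bnPair) hJ
    refine ⟨n₀, hn₀, hR, ?_⟩
    intro x hx hxB
    rw [Subgroup.mem_subgroupOf] at hx ⊢
    have hmP : (((n₀⁻¹ : ↥(L.Δ.bnPair.parabolic (genSet J))) : ↥(D.group F)) : GL D.Idx F) ∈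
        D.parabolicSubgroup F J := by
      have h1 := hpar.le (n₀⁻¹).2
      rw [Subgroup.mem_subgroupOf] at h1
      exact h1
    apply mem_radical_of_conj_mem L J hmP
      (fun r hr hin t => conj_neg_of_longest L hchk J (Subgroup.inv_mem _ hn₀) hRinv hr hin t) hx
    have h1 := L.Δ.mem_B_iff_val.1 hxB
    simpa using h1

include L in
/-- **Steinberg's count.** -/
theorem card_pElts (p : ℕ) [Fact p.Prime] [CharP F p]
    (hD : D ∈ [chevG2, chevB2, chevD4, chevF4, chevE6, chevE7, chevE8])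
    (hchk : jreachChk D = true)
    (hw0 : ∃ n ∈ D.monomialSubgroup F,
      (D.posUnipotent F).map (MulAut.conj n).toMonoidHom = D.negUnipotent F)
    (hU : Nat.card (D.posUnipotent F) = Fintype.card F ^ (D.nroots / 2)) :
    Nat.card {g : ↥(D.group F) // ∃ k : ℕ, orderOf g = p ^ k} =
      Fintype.card F ^ (2 * (D.nroots / 2)) := by
  classical
  let _ : Fintype ↥(D.group F) := Fintype.ofFinite _
  let _ := fintypeS L.Δ
  have hBn : D.borelSubgroup F ≤ Subgroup.normalizer (D.posUnipotent F : Set (GL D.Idx F)) := by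
    unfold ChevalleyDatum.borelSubgroup
    exact sup_le Subgroup.le_normalizer
      (diagonal_le_normalizer_posUnipotent L.Δ.hB L.Δ.hAll L.Δ.hAdd L.Δ.hH)
  obtain ⟨Q, hQ⟩ := Cfsg.Agent.Helper11.ChevSylow.exists_sylow (F := F) p hD
  have key := pcount_top L.Δ.bnPair p ((D.posUnipotent F).subgroupOf (D.group F))
    (by
      intro u hu
      rw [L.Δ.mem_B_iff_val]
      exact L.Δ.posUnipotent_le_borel (Subgroup.mem_subgroupOf.1 hu))
    (by
      intro b hb u hu
      rw [Subgroup.mem_subgroupOf] at hu ⊢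
      have := (Subgroup.mem_normalizer_iff.1 (hBn (L.Δ.mem_B_iff_val.1 hb)) u).1 hu
      simpa using this)
    (by
      intro b hb
      have hb' : (b : GL D.Idx F) ∈ ((D.posUnipotent F ⊔ D.diagonalSubgroup F :
          Subgroup (GL D.Idx F)) : Set (GL D.Idx F)) := L.Δ.mem_B_iff_val.1 hb
      rw [Subgroup.coe_mul_of_right_le_normalizer_left _ _
        (diagonal_le_normalizer_posUnipotent L.Δ.hB L.Δ.hAll L.Δ.hAdd L.Δ.hH),
        Set.mem_mul] at hb'
      obtain ⟨u, hu, h, hh, e⟩ := hb'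
      refine ⟨⟨u, L.Δ.borel_le_group (L.Δ.posUnipotent_le_borel hu)⟩, hu,
        ⟨h, L.Δ.borel_le_group (L.Δ.diag_le_borel hh)⟩, ?_, ?_⟩
      · rw [L.Δ.mem_H_iff_val]; exact hh
      · apply Subtype.ext
        rw [Subgroup.coe_mul]
        exact e.symm)
    (by
      rw [eq_bot_iff]
      rintro x ⟨hx1, hx2⟩
      have hx2' : x ∈ BN.H L.Δ.bnPair := hx2
      rw [L.Δ.mem_H_iff_val] at hx2'
      have hx1' : (x : GL D.Idx F) ∈ D.posUnipotent F := hx1
      have : (x : GL D.Idx F) ∈ D.posUnipotent F ⊓ D.diagonalSubgroup F := ⟨hx1', hx2'⟩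
      rw [posUnipotent_inf_diagonal L.Δ.hB L.Δ.hH L.Δ.good, Subgroup.mem_bot] at this
      rw [Subgroup.mem_bot]
      exact Subtype.ext this)
    (by
      intro u hu
      rw [← hQ] at hu
      have := (IsPGroup.iff_orderOf.1 Q.isPGroup') ⟨u, hu⟩
      obtain ⟨k, hk⟩ := this
      exact ⟨k, by rw [← hk]; exact (Subgroup.orderOf_mk u hu).symm⟩)
    (by
      intro J₀ hJ
      obtain ⟨Jidx, e⟩ : ∃ Jidx : Set ℕ, (J₀ : Set ↥(D.group F)) = genSet Jidx := by
        refine ⟨{j | j < D.rank ∧ ∃ n ∈ J₀,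
          ((n : GL D.Idx F) : Matrix D.Idx D.Idx F) = D.nMat F (D.simple j) 1}, ?_⟩
        ext n
        constructor
        · intro hn
          obtain ⟨i, hi, hni⟩ := hJ hn
          exact ⟨i, ⟨hi, n, hn, hni⟩, hi, hni⟩
        · rintro ⟨j, ⟨_, n', hn', hn'j⟩, _, hnj⟩
          have : n = n' := Subtype.ext (Units.ext (by rw [hnj, hn'j]))
          rw [this]
          exact hn'
      revert hJ
      rw [e]
      intro hJ
      exact stepHyp_genSet L p hD hchk Jidx)
  rw [← steinberg_eq_altSum L.Δ, steinberg_one L.Δ hw0 hU] at key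
  have hcU : Nat.card ((D.posUnipotent F).subgroupOf (D.group F)) = Nat.card (D.posUnipotent F) :=
    Nat.card_congr (Subgroup.subgroupOfEquivOfLe
      (L.Δ.posUnipotent_le_borel.trans L.Δ.borel_le_group)).toEquiv
  rw [hcU, hU] at key
  have hpc : pcount p (⊤ : Subgroup ↥(D.group F)) =
      Nat.card {g : ↥(D.group F) // ∃ k : ℕ, orderOf g = p ^ k} := by
    unfold pcount
    apply Nat.card_congr
    exact ⟨fun g => ⟨g.1, g.2.2⟩, fun g => ⟨g.1, Subgroup.mem_top _, g.2⟩, fun _ => rfl,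
      fun _ => rfl⟩
  rw [hpc] at key
  have key' : (Nat.card {g : ↥(D.group F) // ∃ k : ℕ, orderOf g = p ^ k} : ℂ) =
      ((Fintype.card F ^ (2 * (D.nroots / 2)) : ℕ) : ℂ) := by
    rw [key]
    push_cast
    rw [two_mul, pow_add]
  exact_mod_cast key'

end Cfsg.Agent.Helper12.BNCnt
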