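import Cfsg.Agent.Helper14.ExchCoxA

set_option autoImplicit false

/-!
# Coxeter combinatorics from the folding condition

Deletion condition, parabolic subgroups, minimal coset representatives (additivity of lengths),
used for the Steinberg character of a finite group with a (B,N)-pair.
-/

namespace Cfsg.Agent.Helper12.BNSt

open Cfsg.Agent.Helper14.ExchCox

variable {W : Type*} [Group W] {ι : Type*} {s : ι → W}

theorem simple_inv (h : Hyp s) (i : ι) : (s i)⁻¹ = s i :=
  inv_eq_of_mul_eq_one_right (h.sq i)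

theorem wp_reverse (h : Hyp s) (l : List ι) : wp s l.reverse = (wp s l)⁻¹ := by
  induction l with
  | nil => simp
  | cons a l ih =>
    rw [List.reverse_cons, wp_append, wp_singleton, ih, wp_cons, mul_inv_rev, simple_inv h]

theorem len_inv (h : Hyp s) (w : W) : len s w⁻¹ = len s w := by
  have key : ∀ w : W, len s w⁻¹ ≤ len s w := by
    intro w
    obtain ⟨l, hl, hl'⟩ := exists_reduced h w
    have := len_wp_le s l.reverse
    rw [wp_reverse h, hl, List.length_reverse, hl'] at this
    exact this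
  apply le_antisymm (key w)
  have := key w⁻¹
  rwa [inv_inv] at this

theorem len_mul_simple_le (h : Hyp s) (w : W) (r : ι) : len s (w * s r) ≤ len s w + 1 := by
  have h1 := len_mul_le h w (s r)
  have h2 := len_simple_le (s := s) r
  omega

theorem len_le_mul_simple (h : Hyp s) (w : W) (r : ι) : len s w ≤ len s (w * s r) + 1 := by
  have := len_mul_simple_le h (w * s r) r
  rwa [mul_simple_cancel h] at this

theorem len_mul_simple_eq_inv (h : Hyp s) (w : W) (r : ι) :
    len s (w * s r) = len s (s r * w⁻¹) := by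
  rw [← len_inv h (w * s r), mul_inv_rev, simple_inv h]

/-- parity: if `s_r w` is not longer than `w` then it is shorter by exactly one -/
theorem len_simple_mul_of_le (h : Hyp s) {w : W} {r : ι} (hle : len s (s r * w) ≤ len s w) :
    len s (s r * w) + 1 = len s w := by
  obtain ⟨l, hl, hl'⟩ := exists_reduced h w
  have hred : Red s l := red_of_length_eq hl hl'
  obtain ⟨l₁, t, l₂, hl12, he⟩ := word_exchange h l r hred (by rw [hl]; exact hle)
  have hp := exchange_prod h (l₂ := l₂) he
  rw [← hl12, hl] at hp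
  have h1 : len s (s r * w) ≤ (l₁ ++ l₂).length := by rw [hp]; exact len_wp_le s _
  have h2 : (l₁ ++ l₂).length + 1 = l.length := by
    rw [hl12]; simp only [List.length_append, List.length_cons]; omega
  have h3 := len_le_simple_mul h r w
  omega

theorem len_mul_simple_of_le (h : Hyp s) {w : W} {r : ι} (hle : len s (w * s r) ≤ len s w) :
    len s (w * s r) + 1 = len s w := by
  rw [len_mul_simple_eq_inv h, ← len_inv h w] at hle ⊢
  exact len_simple_mul_of_le h hle

theorem red_nil : Red s ([] : List ι) := by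
  unfold Red
  rw [wp_nil, len_one]
  rfl

/-- deletion condition -/
theorem exists_sublist_of_not_red (h : Hyp s) : ∀ l : List ι, ¬ Red s l →
    ∃ l' : List ι, l'.Sublist l ∧ l'.length < l.length ∧ wp s l' = wp s l := by
  intro l
  induction l with
  | nil => intro hn; exact absurd red_nil hn
  | cons a m ih =>
    intro hn
    by_cases hm : Red s m
    · have hle : len s (s a * wp s m) ≤ len s (wp s m) := by
        by_contra hlt
        rw [not_le] at hlt
        apply hn
        unfold Red
        rw [wp_cons, List.length_cons]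
        have := len_simple_mul_le h a (wp s m)
        unfold Red at hm
        omega
      obtain ⟨l₁, t, l₂, hl12, he⟩ := word_exchange h m a hm hle
      refine ⟨l₁ ++ l₂, ?_, ?_, ?_⟩
      · rw [hl12]
        exact ((List.sublist_cons_self t l₂).append_left l₁).cons a
      · rw [hl12]; simp only [List.length_append, List.length_cons]; omega
      · rw [wp_cons, hl12]
        exact (exchange_prod h he).symm
    · obtain ⟨m', hs, hlt, hw⟩ := ih hm
      refine ⟨a :: m', hs.cons_cons a, ?_, ?_⟩
      · simp only [List.length_cons]; omega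
      · rw [wp_cons, wp_cons, hw]

theorem exists_red_sublist (h : Hyp s) (l : List ι) :
    ∃ l' : List ι, l'.Sublist l ∧ Red s l' ∧ wp s l' = wp s l := by
  induction' hn : l.length using Nat.strong_induction_on with n ih generalizing l
  by_cases hr : Red s l
  · exact ⟨l, List.Sublist.refl l, hr, rfl⟩
  · obtain ⟨l', hs, hlt, hw⟩ := exists_sublist_of_not_red h l hr
    obtain ⟨l'', hs', hr', hw'⟩ := ih l'.length (hn ▸ hlt) l' rfl
    exact ⟨l'', hs'.trans hs, hr', hw'.trans hw⟩

/-- the parabolic subgroup of `W` generated by the reflections in `J` -/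
def WJ (s : ι → W) (J : Set ι) : Subgroup W := Subgroup.closure (s '' J)

theorem simple_mem_WJ {J : Set ι} {j : ι} (hj : j ∈ J) : s j ∈ WJ s J :=
  Subgroup.subset_closure ⟨j, hj, rfl⟩

theorem wp_mem_WJ {J : Set ι} {l : List ι} (hl : ∀ a ∈ l, a ∈ J) : wp s l ∈ WJ s J := by
  induction l with
  | nil => exact Subgroup.one_mem _
  | cons a l ih =>
    rw [wp_cons]
    exact Subgroup.mul_mem _ (simple_mem_WJ (hl a List.mem_cons_self))
      (ih fun b hb => hl b (List.mem_cons_of_mem _ hb))

theorem exists_word_of_mem_WJ (h : Hyp s) {J : Set ι} {w : W} (hw : w ∈ WJ s J) :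
    ∃ l : List ι, (∀ a ∈ l, a ∈ J) ∧ wp s l = w := by
  unfold WJ at hw
  induction hw using Subgroup.closure_induction with
  | mem x hx =>
    obtain ⟨a, ha, rfl⟩ := hx
    exact ⟨[a], by simpa using ha, wp_singleton s a⟩
  | one => exact ⟨[], by simp, rfl⟩
  | mul x y _ _ ihx ihy =>
    obtain ⟨l, hl, rfl⟩ := ihx
    obtain ⟨m, hm, rfl⟩ := ihy
    refine ⟨l ++ m, ?_, wp_append s l m⟩
    intro a ha
    rcases List.mem_append.mp ha with h' | h'
    · exact hl a h'
    · exact hm a h'
  | inv x _ ih =>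
    obtain ⟨l, hl, rfl⟩ := ih
    exact ⟨l.reverse, fun a ha => hl a (List.mem_reverse.mp ha), wp_reverse h l⟩

theorem exists_red_word_of_mem_WJ (h : Hyp s) {J : Set ι} {w : W} (hw : w ∈ WJ s J) :
    ∃ l : List ι, (∀ a ∈ l, a ∈ J) ∧ Red s l ∧ wp s l = w := by
  obtain ⟨l, hl, rfl⟩ := exists_word_of_mem_WJ h hw
  obtain ⟨l', hs, hr, hw'⟩ := exists_red_sublist h l
  exact ⟨l', fun a ha => hl a (hs.subset ha), hr, hw'⟩

/-- additivity of lengths for an element of minimal length in its coset `u W_J` -/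
theorem len_mul_of_min (h : Hyp s) {J : Set ι} {u : W}
    (hmin : ∀ v ∈ WJ s J, len s u ≤ len s (u * v)) {v : W} (hv : v ∈ WJ s J) :
    len s (u * v) = len s u + len s v := by
  obtain ⟨U, hU, hU'⟩ := exists_reduced h u
  obtain ⟨B, hBJ, hBr, hB⟩ := exists_red_word_of_mem_WJ h hv
  have hBlen : B.length = len s v := by unfold Red at hBr; rw [← hBr, hB]
  have hred : Red s (U ++ B) := by
    by_contra hn
    obtain ⟨l', hs, hlt, hw⟩ := exists_sublist_of_not_red h _ hn
    obtain ⟨U', B', rfl, hsU, hsB⟩ := List.sublist_append_iff.mp hs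
    rw [wp_append, wp_append, hU, hB] at hw
    have hB'J : wp s B' ∈ WJ s J := wp_mem_WJ fun a ha => hBJ a (hsB.subset ha)
    have e1 : wp s U' = u * (v * (wp s B')⁻¹) := by
      rw [← mul_assoc, ← hw]; group
    have h1 : len s u ≤ len s (wp s U') := by
      rw [e1]; exact hmin _ (Subgroup.mul_mem _ hv (Subgroup.inv_mem _ hB'J))
    have h2 := len_wp_le s U'
    have h3 := hsU.length_le
    have hUU : U' = U := hsU.eq_of_length_le (by omega)
    subst hUU
    rw [hU] at hw
    have e2 : wp s B' = v := mul_left_cancel hw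
    have h4 := len_wp_le s B'
    rw [e2] at h4
    simp only [List.length_append] at hlt
    omega
  unfold Red at hred
  rw [wp_append, hU, hB, List.length_append, hU', hBlen] at hred
  exact hred

/-- right ascents -/
def AscR (s : ι → W) (w : W) : Set ι := {j | len s w < len s (w * s j)}

/-- left ascents -/
def AscL (s : ι → W) (w : W) : Set ι := {j | len s w < len s (s j * w)}

theorem mem_AscR {w : W} {j : ι} : j ∈ AscR s w ↔ len s w < len s (w * s j) := Iff.rfl

theorem mem_AscL {w : W} {j : ι} : j ∈ AscL s w ↔ len s w < len s (s j * w) := Iff.rfl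

theorem ascL_eq_ascR_inv (h : Hyp s) (w : W) : AscL s w = AscR s w⁻¹ := by
  ext j
  rw [mem_AscL, mem_AscR, len_mul_simple_eq_inv h, inv_inv, len_inv h]

theorem ascR_eq_ascL_inv (h : Hyp s) (w : W) : AscR s w = AscL s w⁻¹ := by
  rw [ascL_eq_ascR_inv h, inv_inv]

theorem exists_min_coset (J : Set ι) (w : W) :
    ∃ u, u⁻¹ * w ∈ WJ s J ∧ ∀ v ∈ WJ s J, len s u ≤ len s (u * v) := by
  have hne : {n | ∃ v ∈ WJ s J, len s (w * v) = n}.Nonempty :=
    ⟨_, 1, Subgroup.one_mem _, rfl⟩
  obtain ⟨v₀, hv₀, hlen⟩ := Nat.sInf_mem hne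
  refine ⟨w * v₀, ?_, ?_⟩
  · have : (w * v₀)⁻¹ * w = v₀⁻¹ := by group
    rw [this]; exact Subgroup.inv_mem _ hv₀
  · intro v hv
    rw [hlen, mul_assoc]
    exact Nat.sInf_le ⟨v₀ * v, Subgroup.mul_mem _ hv₀ hv, rfl⟩

theorem ascR_of_min (h : Hyp s) {J : Set ι} {u : W}
    (hmin : ∀ v ∈ WJ s J, len s u ≤ len s (u * v)) : J ⊆ AscR s u := by
  intro j hj
  rw [mem_AscR]
  have h1 := hmin _ (simple_mem_WJ (s := s) hj)
  rcases Nat.lt_or_ge (len s u) (len s (u * s j)) with hlt | hge
  · exact hlt
  · have := len_mul_simple_of_le h hge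
    omega

theorem min_of_ascR (h : Hyp s) {J : Set ι} {u : W} (hu : J ⊆ AscR s u) :
    ∀ v ∈ WJ s J, len s u ≤ len s (u * v) := by
  obtain ⟨u₀, hu₀, hmin₀⟩ := exists_min_coset (s := s) J u
  have hadd := len_mul_of_min h hmin₀ hu₀
  have e : u₀ * (u₀⁻¹ * u) = u := by group
  rw [e] at hadd
  have hv1 : u₀⁻¹ * u = 1 := by
    obtain ⟨B, hBJ, hBr, hB⟩ := exists_red_word_of_mem_WJ h hu₀
    rcases List.eq_nil_or_concat B with hnil | ⟨B₁, j, hcat⟩
    · rw [← hB, hnil, wp_nil]
    · exfalso
      rw [List.concat_eq_append] at hcat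
      have hjJ : j ∈ J := hBJ j (by rw [hcat]; simp)
      have hlt := hu hjJ
      rw [mem_AscR] at hlt
      have e2 : u * s j = u₀ * wp s B₁ := by
        rw [← e, ← hB, hcat, wp_append, wp_singleton]
        rw [mul_assoc, mul_assoc, h.sq, mul_one]
      have h1 := len_mul_le h u₀ (wp s B₁)
      have h2 := len_wp_le s B₁
      have h3 : B.length = len s (u₀⁻¹ * u) := by unfold Red at hBr; rw [← hBr, hB]
      rw [hcat] at h3
      simp only [List.length_append, List.length_cons, List.length_nil] at h3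
      rw [e2] at hlt
      omega
  have : u = u₀ := by
    rw [← e, hv1, mul_one]
  rw [this]
  exact hmin₀

theorem len_mul_of_ascR (h : Hyp s) {J : Set ι} {u : W} (hu : J ⊆ AscR s u) {v : W}
    (hv : v ∈ WJ s J) : len s (u * v) = len s u + len s v :=
  len_mul_of_min h (min_of_ascR h hu) hv

theorem exists_minR_factor (h : Hyp s) (J : Set ι) (w : W) :
    ∃ u v, v ∈ WJ s J ∧ J ⊆ AscR s u ∧ w = u * v := by
  obtain ⟨u, hu, hmin⟩ := exists_min_coset (s := s) J w
  exact ⟨u, u⁻¹ * w, hu, ascR_of_min h hmin, by group⟩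

theorem minR_unique (h : Hyp s) {J : Set ι} {u u' : W} (hu : J ⊆ AscR s u)
    (hu' : J ⊆ AscR s u') (hv : u⁻¹ * u' ∈ WJ s J) : u = u' := by
  have h1 := len_mul_of_ascR h hu hv
  have hv' : u'⁻¹ * u ∈ WJ s J := by
    have : u'⁻¹ * u = (u⁻¹ * u')⁻¹ := by group
    rw [this]; exact Subgroup.inv_mem _ hv
  have h2 := len_mul_of_ascR h hu' hv'
  have e1 : u * (u⁻¹ * u') = u' := by group
  have e2 : u' * (u'⁻¹ * u) = u := by group
  rw [e1] at h1
  rw [e2] at h2
  have h3 : len s (u⁻¹ * u') = 0 := by omega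
  have := eq_one_of_len_eq_zero h h3
  rw [← e1, this, mul_one]

end Cfsg.Agent.Helper12.BNSt
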