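import Cfsg.Agent.Helper12.BNStA

set_option autoImplicit false

/-!
# Coxeter combinatorics from the folding condition, II

Distinguished double coset representatives and the longest element.
-/

namespace Cfsg.Agent.Helper12.BNSt

open Cfsg.Agent.Helper14.ExchCox

variable {W : Type*} [Group W] {ι : Type*} {s : ι → W}

/-- a double coset `W_J w W_K` has an element of minimal length -/
theorem exists_dmin (J K : Set ι) (w : W) :
    ∃ a ∈ WJ s J, ∃ b ∈ WJ s K, ∃ d, w = a * d * b ∧
      ∀ a' ∈ WJ s J, ∀ b' ∈ WJ s K, len s d ≤ len s (a' * d * b') := by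
  have hne : {n | ∃ a ∈ WJ s J, ∃ b ∈ WJ s K, len s (a * w * b) = n}.Nonempty :=
    ⟨_, 1, Subgroup.one_mem _, 1, Subgroup.one_mem _, rfl⟩
  obtain ⟨a₀, ha₀, b₀, hb₀, hlen⟩ := Nat.sInf_mem hne
  refine ⟨a₀⁻¹, Subgroup.inv_mem _ ha₀, b₀⁻¹, Subgroup.inv_mem _ hb₀, a₀ * w * b₀, by group, ?_⟩
  intro a' ha' b' hb'
  rw [hlen]
  refine Nat.sInf_le ⟨a' * a₀, Subgroup.mul_mem _ ha' ha₀, b₀ * b', Subgroup.mul_mem _ hb₀ hb', ?_⟩
  congr 1
  group

theorem ascL_of_dmin (h : Hyp s) {J K : Set ι} {d : W}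
    (hmin : ∀ a' ∈ WJ s J, ∀ b' ∈ WJ s K, len s d ≤ len s (a' * d * b')) : J ⊆ AscL s d := by
  intro j hj
  rw [mem_AscL]
  have h1 := hmin _ (simple_mem_WJ (s := s) hj) 1 (Subgroup.one_mem _)
  rw [mul_one] at h1
  rcases Nat.lt_or_ge (len s d) (len s (s j * d)) with hlt | hge
  · exact hlt
  · have := len_simple_mul_of_le h hge
    omega

theorem ascR_of_dmin (h : Hyp s) {J K : Set ι} {d : W}
    (hmin : ∀ a' ∈ WJ s J, ∀ b' ∈ WJ s K, len s d ≤ len s (a' * d * b')) : K ⊆ AscR s d := by
  intro j hj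
  rw [mem_AscR]
  have h1 := hmin 1 (Subgroup.one_mem _) _ (simple_mem_WJ (s := s) hj)
  rw [one_mul] at h1
  rcases Nat.lt_or_ge (len s d) (len s (d * s j)) with hlt | hge
  · exact hlt
  · have := len_mul_simple_of_le h hge
    omega

/-- an element of the double coset of a minimal `d` without left ascents in `J` and right ascents
in `K` removed equals `d` -/
theorem eq_of_dmin (h : Hyp s) {J K : Set ι} {d e : W}
    (hmin : ∀ a' ∈ WJ s J, ∀ b' ∈ WJ s K, len s d ≤ len s (a' * d * b'))
    (heL : J ⊆ AscL s e) (heR : K ⊆ AscR s e) {a b : W} (ha : a ∈ WJ s J) (hb : b ∈ WJ s K)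
    (he : e = a * d * b) : e = d := by
  have hne : {n | ∃ A B : List ι, (∀ x ∈ A, x ∈ J) ∧ (∀ x ∈ B, x ∈ K) ∧
      wp s A * d * wp s B = e ∧ A.length + B.length = n}.Nonempty := by
    obtain ⟨A, hA, hA'⟩ := exists_word_of_mem_WJ h ha
    obtain ⟨B, hB, hB'⟩ := exists_word_of_mem_WJ h hb
    exact ⟨_, A, B, hA, hB, by rw [hA', hB', he], rfl⟩
  obtain ⟨A, B, hA, hB, hAB, hn⟩ := Nat.sInf_mem hne
  obtain ⟨D, hD, hD'⟩ := exists_reduced h d
  have hred : Red s (A ++ (D ++ B)) := by
    by_contra hnr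
    obtain ⟨l', hs, hlt, hw⟩ := exists_sublist_of_not_red h _ hnr
    obtain ⟨A', l'', rfl, hsA, hs''⟩ := List.sublist_append_iff.mp hs
    obtain ⟨D', B', rfl, hsD, hsB⟩ := List.sublist_append_iff.mp hs''
    rw [wp_append, wp_append, wp_append, wp_append, hD, ← mul_assoc, ← mul_assoc, hAB] at hw
    have hA'J : wp s A' ∈ WJ s J := wp_mem_WJ fun x hx => hA x (hsA.subset hx)
    have hB'K : wp s B' ∈ WJ s K := wp_mem_WJ fun x hx => hB x (hsB.subset hx)
    have hAJ : wp s A ∈ WJ s J := wp_mem_WJ hA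
    have hBK : wp s B ∈ WJ s K := wp_mem_WJ hB
    have e1 : wp s D' = ((wp s A')⁻¹ * wp s A) * d * (wp s B * (wp s B')⁻¹) := by
      have : wp s D' = (wp s A')⁻¹ * (wp s A' * wp s D' * wp s B') * (wp s B')⁻¹ := by group
      rw [this, hw, ← hAB]; group
    have h1 : len s d ≤ len s (wp s D') := by
      rw [e1]
      exact hmin _ (Subgroup.mul_mem _ (Subgroup.inv_mem _ hA'J) hAJ) _
        (Subgroup.mul_mem _ hBK (Subgroup.inv_mem _ hB'K))
    have h2 := len_wp_le s D'
    have h3 := hsD.length_le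
    have hDD : D' = D := hsD.eq_of_length_le (by omega)
    subst hDD
    rw [hD] at hw
    have hmem : A'.length + B'.length ∈ {n | ∃ A B : List ι, (∀ x ∈ A, x ∈ J) ∧
        (∀ x ∈ B, x ∈ K) ∧ wp s A * d * wp s B = e ∧ A.length + B.length = n} :=
      ⟨A', B', fun x hx => hA x (hsA.subset hx), fun x hx => hB x (hsB.subset hx), hw, rfl⟩
    have h4 := Nat.sInf_le hmem
    simp only [List.length_append] at hlt
    omega
  have hlen : len s e = A.length + (D.length + B.length) := by
    unfold Red at hred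
    rw [wp_append, wp_append, hD, ← mul_assoc, hAB, List.length_append, List.length_append] at hred
    exact hred
  have hAnil : A = [] := by
    cases A with
    | nil => rfl
    | cons a₁ A₁ =>
      exfalso
      have ha₁ : a₁ ∈ J := hA a₁ List.mem_cons_self
      have hlt := heL ha₁
      rw [mem_AscL] at hlt
      have e2 : s a₁ * e = wp s (A₁ ++ (D ++ B)) := by
        rw [← hAB, wp_cons, wp_append, wp_append, hD]
        simp only [mul_assoc]
        rw [← mul_assoc (s a₁), h.sq, one_mul]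
      have h5 := len_wp_le s (A₁ ++ (D ++ B))
      rw [← e2] at h5
      simp only [List.length_append, List.length_cons] at h5 hlen
      omega
  have hBnil : B = [] := by
    rcases List.eq_nil_or_concat B with hnil | ⟨B₁, b₁, hcat⟩
    · exact hnil
    · exfalso
      rw [List.concat_eq_append] at hcat
      have hb₁ : b₁ ∈ K := hB b₁ (by rw [hcat]; simp)
      have hlt := heR hb₁
      rw [mem_AscR] at hlt
      have e2 : e * s b₁ = wp s (A ++ (D ++ B₁)) := by
        rw [← hAB, hcat, wp_append, wp_append, wp_append, wp_singleton, hD]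
        rw [← mul_assoc, mul_assoc (wp s A * d * wp s B₁), h.sq, mul_one, mul_assoc]
      have h5 := len_wp_le s (A ++ (D ++ B₁))
      rw [← e2] at h5
      rw [hcat] at hlen
      simp only [List.length_append, List.length_cons, List.length_nil] at h5 hlen
      omega
  rw [← hAB, hAnil, hBnil, wp_nil, one_mul, mul_one]

/-- two distinguished elements in the same double coset are equal -/
theorem dist_unique (h : Hyp s) {J K : Set ι} {d d' : W}
    (hdL : J ⊆ AscL s d) (hdR : K ⊆ AscR s d) (hd'L : J ⊆ AscL s d') (hd'R : K ⊆ AscR s d')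
    {a b : W} (ha : a ∈ WJ s J) (hb : b ∈ WJ s K) (he : d' = a * d * b) : d' = d := by
  obtain ⟨a₀, ha₀, b₀, hb₀, d₀, hd₀, hmin⟩ := exists_dmin (s := s) J K d
  have h1 : d = d₀ := eq_of_dmin h hmin hdL hdR ha₀ hb₀ hd₀
  have h2 : d' = d₀ := by
    refine eq_of_dmin h hmin hd'L hd'R (Subgroup.mul_mem _ ha ha₀) (Subgroup.mul_mem _ hb₀ hb) ?_
    rw [he, hd₀]; group
  rw [h1, h2]

/-- every double coset contains a distinguished element -/
theorem exists_dist (h : Hyp s) (J K : Set ι) (w : W) :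
    ∃ a ∈ WJ s J, ∃ b ∈ WJ s K, ∃ d, w = a * d * b ∧ J ⊆ AscL s d ∧ K ⊆ AscR s d := by
  obtain ⟨a₀, ha₀, b₀, hb₀, d₀, hd₀, hmin⟩ := exists_dmin (s := s) J K w
  exact ⟨a₀, ha₀, b₀, hb₀, d₀, hd₀, ascL_of_dmin h hmin, ascR_of_dmin h hmin⟩

/-! ### the longest element -/

theorem append_eq_append_cons {X Z l₁ l₂ : List ι} {t : ι} (hx : X ++ Z = l₁ ++ t :: l₂) :
    (∃ c, X = l₁ ++ t :: c ∧ l₂ = c ++ Z) ∨ (∃ a', l₁ = X ++ a' ∧ Z = a' ++ t :: l₂) := by
  rcases List.append_eq_append_iff.mp hx with ⟨a', h1, h2⟩ | ⟨c', h1, h2⟩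
  · exact Or.inr ⟨a', h1, h2⟩
  · cases c' with
    | nil =>
      refine Or.inr ⟨[], ?_, ?_⟩
      · rw [h1]; simp
      · simpa using h2.symm
    | cons t' c'' =>
      rw [List.cons_append, List.cons.injEq] at h2
      obtain ⟨rfl, h3⟩ := h2
      exact Or.inl ⟨c'', h1, h3⟩

theorem len_inv_mul_of_all_descL (h : Hyp s) {w : W} (hw : ∀ j, len s (s j * w) < len s w) :
    ∀ X : List ι, Red s X → len s ((wp s X)⁻¹ * w) + X.length = len s w := by
  intro X
  induction X with
  | nil => intro _; simp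
  | cons a X' ih =>
    intro hredX
    have hredX' : Red s X' := Red.tail h hredX
    have hIH := ih hredX'
    obtain ⟨Z, hZ, hZ'⟩ := exists_reduced h ((wp s X')⁻¹ * w)
    have hwp : wp s (X' ++ Z) = w := by rw [wp_append, hZ]; group
    have hred : Red s (X' ++ Z) := by
      apply red_of_length_eq hwp
      rw [List.length_append, hZ']; omega
    obtain ⟨l₁, t, l₂, hl12, he⟩ := word_exchange h (X' ++ Z) a hred (by rw [hwp]; exact (hw a).le)
    have hp := exchange_prod h (l₂ := l₂) he
    rw [← hl12, hwp] at hp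
    rcases append_eq_append_cons hl12 with ⟨c, h1, h2⟩ | ⟨a', h1, h2⟩
    · exfalso
      have hp' := exchange_prod h (l₂ := c) he
      rw [← h1] at hp'
      have h3 := len_wp_le s (l₁ ++ c)
      rw [← hp'] at h3
      unfold Red at hredX
      rw [wp_cons] at hredX
      rw [h1] at hredX
      simp only [List.length_append, List.length_cons] at h3 hredX
      rw [← h1] at hredX
      omega
    · have e1 : (wp s (a :: X'))⁻¹ * w = wp s (a' ++ l₂) := by
        rw [wp_cons, mul_inv_rev, simple_inv h, mul_assoc, hp, h1, wp_append, wp_append, wp_append]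
        group
      have h3 := len_wp_le s (a' ++ l₂)
      rw [← e1] at h3
      have h4 : Z.length = a'.length + (l₂.length + 1) := by
        rw [h2]; simp only [List.length_append, List.length_cons]
      have h5 : len s w ≤ len s (wp s (a :: X')) + len s ((wp s (a :: X'))⁻¹ * w) := by
        have := len_mul_le h (wp s (a :: X')) ((wp s (a :: X'))⁻¹ * w)
        rwa [mul_inv_cancel_left] at this
      have h6 := len_wp_le s (a :: X')
      simp only [List.length_append, List.length_cons] at h3 h6 ⊢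
      omega

theorem all_descL_unique (h : Hyp s) {w w' : W} (hw : ∀ j, len s (s j * w) < len s w)
    (hw' : ∀ j, len s (s j * w') < len s w') : w = w' := by
  obtain ⟨X, hX, hX'⟩ := exists_reduced h w
  obtain ⟨X', hX1, hX1'⟩ := exists_reduced h w'
  have h1 := len_inv_mul_of_all_descL h hw X' (red_of_length_eq hX1 hX1')
  have h2 := len_inv_mul_of_all_descL h hw' X (red_of_length_eq hX hX')
  rw [hX1, hX1'] at h1
  rw [hX, hX'] at h2
  have h3 : len s (w⁻¹ * w') = len s (w'⁻¹ * w) := by
    rw [← len_inv h (w⁻¹ * w')]; congr 1; group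
  have h4 : len s (w'⁻¹ * w) = 0 := by omega
  have := eq_one_of_len_eq_zero h h4
  have e : w = w' * (w'⁻¹ * w) := by group
  rw [e, this, mul_one]

theorem exists_longest (h : Hyp s) [Finite W] :
    ∃ w₀ : W, (∀ j, len s (s j * w₀) < len s w₀) ∧ (∀ j, len s (w₀ * s j) < len s w₀) := by
  obtain ⟨w₀, hw₀⟩ := Finite.exists_max (len s (W := W))
  refine ⟨w₀, fun j => ?_, fun j => ?_⟩
  · have := len_simple_mul_of_le h (hw₀ (s j * w₀))
    omega
  · have := len_mul_simple_of_le h (hw₀ (w₀ * s j))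
    omega

theorem ascR_eq_empty_iff (h : Hyp s) {w₀ : W} (hR : ∀ j, len s (w₀ * s j) < len s w₀) (w : W) :
    AscR s w = ∅ ↔ w = w₀ := by
  constructor
  · intro hw
    have hwd : ∀ j, len s (s j * w⁻¹) < len s w⁻¹ := by
      intro j
      rw [← len_mul_simple_eq_inv h, len_inv h]
      have hj : j ∉ AscR s w := by rw [hw]; exact Set.notMem_empty j
      rw [mem_AscR, not_lt] at hj
      have := len_mul_simple_of_le h hj
      omega
    have hw₀d : ∀ j, len s (s j * w₀⁻¹) < len s w₀⁻¹ := by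
      intro j
      rw [← len_mul_simple_eq_inv h, len_inv h]
      exact hR j
    have := all_descL_unique h hwd hw₀d
    exact inv_injective this
  · rintro rfl
    rw [Set.eq_empty_iff_forall_notMem]
    intro j hj
    rw [mem_AscR] at hj
    have := hR j
    omega

theorem ascL_eq_empty_iff (h : Hyp s) {w₀ : W} (hL : ∀ j, len s (s j * w₀) < len s w₀) (w : W) :
    AscL s w = ∅ ↔ w = w₀ := by
  constructor
  · intro hw
    have hwd : ∀ j, len s (s j * w) < len s w := by
      intro j
      have hj : j ∉ AscL s w := by rw [hw]; exact Set.notMem_empty j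
      rw [mem_AscL, not_lt] at hj
      have := len_simple_mul_of_le h hj
      omega
    exact all_descL_unique h hwd hL
  · rintro rfl
    rw [Set.eq_empty_iff_forall_notMem]
    intro j hj
    rw [mem_AscL] at hj
    have := hL j
    omega

end Cfsg.Agent.Helper12.BNSt
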