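import Cfsg.Agent.Helper14.ExchCoxBN
import Cfsg.Agent.Helper2.BN.Parabolic
import Cfsg.Agent.Helper12.BNStB

set_option autoImplicit false

/-!
# The type map `G → W` of a (B,N)-pair and its multiplication rules
-/

namespace Cfsg.Agent.Helper12.BNSt

open Cfsg Cfsg.Agent.Helper2 Cfsg.Agent.Helper14.ExchCox

variable {G : Type*} [Group G] (P : Cfsg.BNPair G)

/-- the Weyl group `N / (B ∩ N)` -/
abbrev Wq : Type _ := P.N ⧸ (P.B ⊓ P.N).subgroupOf P.N

/-- the Bruhat type of an element: the class in `W` of `n` with `g ∈ B n B` -/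
noncomputable def typ (g : G) : Wq P :=
  QuotientGroup.mk ⟨Classical.choose (BN.exists_mem_C (P := P) g),
    (Classical.choose_spec (BN.exists_mem_C (P := P) g)).1⟩

theorem typ_eq_of_mem_C {g n : G} (hn : n ∈ P.N) (hg : g ∈ BN.C P n) :
    typ P g = QuotientGroup.mk ⟨n, hn⟩ := by
  unfold typ
  obtain ⟨h1, h2⟩ := Classical.choose_spec (BN.exists_mem_C (P := P) g)
  rw [mk_eq_mk_iff]
  apply BN.bruhat_unique h1 hn
  rw [← BN.C_eq_of_mem P h2, BN.C_eq_of_mem P hg]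

theorem typ_spec (g : G) : ∃ n, ∃ hn : n ∈ P.N, g ∈ BN.C P n ∧ typ P g = QuotientGroup.mk ⟨n, hn⟩ := by
  obtain ⟨n, hn, hg⟩ := BN.exists_mem_C (P := P) g
  exact ⟨n, hn, hg, typ_eq_of_mem_C P hn hg⟩

theorem mem_C_of_typ_eq {g n : G} (hn : n ∈ P.N) (h : typ P g = QuotientGroup.mk ⟨n, hn⟩) :
    g ∈ BN.C P n := by
  obtain ⟨m, hm, hg, ht⟩ := typ_spec P g
  rw [ht, mk_eq_mk_iff] at h
  have e : n = m * (m⁻¹ * n) := by group
  rw [e, BN.C_mul_right P (BN.H_le_B P h)]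
  exact hg

theorem typ_eq_iff {g n : G} (hn : n ∈ P.N) :
    typ P g = QuotientGroup.mk ⟨n, hn⟩ ↔ g ∈ BN.C P n :=
  ⟨mem_C_of_typ_eq P hn, typ_eq_of_mem_C P hn⟩

theorem typ_of_mem_N {n : G} (hn : n ∈ P.N) : typ P n = QuotientGroup.mk ⟨n, hn⟩ :=
  typ_eq_of_mem_C P hn (BN.mem_C_self P n)

theorem typ_mul_left (g : G) {b : G} (hb : b ∈ P.B) : typ P (b * g) = typ P g := by
  obtain ⟨n, hn, hg, ht⟩ := typ_spec P g
  rw [ht]
  exact typ_eq_of_mem_C P hn (BN.mul_mem_C P hb hg)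

theorem typ_mul_right (g : G) {b : G} (hb : b ∈ P.B) : typ P (g * b) = typ P g := by
  obtain ⟨n, hn, hg, ht⟩ := typ_spec P g
  rw [ht]
  exact typ_eq_of_mem_C P hn (BN.mem_C_mul P hb hg)

theorem exists_eq_of_typ {g n : G} (hn : n ∈ P.N) (h : typ P g = QuotientGroup.mk ⟨n, hn⟩) :
    ∃ b ∈ P.B, ∃ b' ∈ P.B, g = b * n * b' :=
  (BN.mem_C_iff P).mp (mem_C_of_typ_eq P hn h)

variable [hN : ((P.B ⊓ P.N).subgroupOf P.N).Normal]

theorem typ_one : typ P 1 = 1 := by
  rw [typ_of_mem_N P (Subgroup.one_mem _)]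
  rfl

theorem typ_eq_one_iff {g : G} : typ P g = 1 ↔ g ∈ P.B := by
  have h1 : (1 : Wq P) = QuotientGroup.mk ⟨1, Subgroup.one_mem _⟩ := rfl
  rw [h1, typ_eq_iff, BN.mem_C_one_iff]

theorem typ_inv (g : G) : typ P g⁻¹ = (typ P g)⁻¹ := by
  obtain ⟨n, hn, hg, ht⟩ := typ_spec P g
  rw [ht]
  exact typ_eq_of_mem_C P (Subgroup.inv_mem _ hn) (BN.inv_mem_C P hg)

omit hN in
theorem sgen_eq (x : P.S) : sgen P x = QuotientGroup.mk ⟨(x : G), P.subset x.2⟩ := rfl

omit hN in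
theorem typ_simple (x : P.S) : typ P (x : G) = sgen P x :=
  typ_of_mem_N P (P.subset x.2)

/-- left multiplication by a distinguished generator -/
theorem typ_simple_mul (x : P.S) (g : G) :
    typ P ((x : G) * g) = sgen P x * typ P g ∨ typ P ((x : G) * g) = typ P g := by
  obtain ⟨n, hn, hg, ht⟩ := typ_spec P g
  have hx : BN.Simple P P.S (x : G) := BN.simple_of_mem x.2
  rcases hx.mul_mem_union (subset_refl _) hn hg with h | h
  · left
    rw [ht, typ_eq_of_mem_C P (Subgroup.mul_mem _ (P.subset x.2) hn) h]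
    rfl
  · right
    rw [ht, typ_eq_of_mem_C P hn h]

theorem typ_simple_mul_of_lt (x : P.S) (g : G)
    (hlt : len (sgen P) (typ P g) < len (sgen P) (sgen P x * typ P g)) :
    typ P ((x : G) * g) = sgen P x * typ P g := by
  obtain ⟨n, hn, hg, ht⟩ := typ_spec P g
  have hx : BN.Simple P P.S (x : G) := BN.simple_of_mem x.2
  have hxn : (x : G) * n ∈ P.N := Subgroup.mul_mem _ (P.subset x.2) hn
  have e1 : sgen P x * typ P g = QuotientGroup.mk ⟨(x : G) * n, hxn⟩ := by rw [ht]; rfl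
  rw [e1, len_eq, ht, len_eq] at hlt
  rw [e1]
  exact typ_eq_of_mem_C P hxn (BN.L1 hn hx hlt.le hg)

theorem sgen_inv (x : P.S) : (sgen P x)⁻¹ = sgen P x :=
  simple_inv hyp_sgen x

omit hN in
theorem inv_mul_eq_simple (x : P.S) (g : G) :
    (g * (x : G))⁻¹ = (x : G) * (((x : G) * (x : G))⁻¹ * g⁻¹) := by group

/-- right multiplication by a distinguished generator -/
theorem typ_mul_simple (x : P.S) (g : G) :
    typ P (g * (x : G)) = typ P g * sgen P x ∨ typ P (g * (x : G)) = typ P g := by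
  have hxx : ((x : G) * (x : G))⁻¹ ∈ P.B := Subgroup.inv_mem _ (P.sq_mem _ x.2)
  have h1 : typ P (((x : G) * (x : G))⁻¹ * g⁻¹) = (typ P g)⁻¹ := by
    rw [typ_mul_left P _ hxx, typ_inv]
  have h2 : typ P (g * (x : G)) = (typ P ((x : G) * (((x : G) * (x : G))⁻¹ * g⁻¹)))⁻¹ := by
    rw [← typ_inv, ← inv_mul_eq_simple, inv_inv]
  rcases typ_simple_mul P x (((x : G) * (x : G))⁻¹ * g⁻¹) with h | h
  · left
    rw [h2, h, h1, mul_inv_rev, inv_inv, sgen_inv]
  · right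
    rw [h2, h, h1, inv_inv]

theorem typ_mul_simple_of_lt (x : P.S) (g : G)
    (hlt : len (sgen P) (typ P g) < len (sgen P) (typ P g * sgen P x)) :
    typ P (g * (x : G)) = typ P g * sgen P x := by
  have hxx : ((x : G) * (x : G))⁻¹ ∈ P.B := Subgroup.inv_mem _ (P.sq_mem _ x.2)
  have h1 : typ P (((x : G) * (x : G))⁻¹ * g⁻¹) = (typ P g)⁻¹ := by
    rw [typ_mul_left P _ hxx, typ_inv]
  have h2 : typ P (g * (x : G)) = (typ P ((x : G) * (((x : G) * (x : G))⁻¹ * g⁻¹)))⁻¹ := by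
    rw [← typ_inv, ← inv_mul_eq_simple, inv_inv]
  have h3 := typ_simple_mul_of_lt P x (((x : G) * (x : G))⁻¹ * g⁻¹) (by
    rw [h1, len_inv hyp_sgen, ← len_mul_simple_eq_inv hyp_sgen]
    exact hlt)
  rw [h2, h3, h1, mul_inv_rev, inv_inv, sgen_inv]

/-- representatives in `N` of the words -/
theorem exists_rep_wp (l : List P.S) :
    ∃ n, ∃ hn : n ∈ P.N, n ∈ Subgroup.closure (Subtype.val '' {j : P.S | j ∈ l}) ∧
      (QuotientGroup.mk ⟨n, hn⟩ : Wq P) = wp (sgen P) l := by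
  induction l with
  | nil => exact ⟨1, Subgroup.one_mem _, Subgroup.one_mem _, rfl⟩
  | cons a l ih =>
    obtain ⟨n, hn, hcl, hw⟩ := ih
    refine ⟨(a : G) * n, Subgroup.mul_mem _ (P.subset a.2) hn, ?_, ?_⟩
    · apply Subgroup.mul_mem
      · exact Subgroup.subset_closure ⟨a, by simp, rfl⟩
      · refine Subgroup.closure_mono ?_ hcl
        rintro _ ⟨j, hj, rfl⟩
        exact ⟨j, List.mem_cons_of_mem _ hj, rfl⟩
    · rw [wp_cons, ← hw]
      rfl

/-- multiplication rule when lengths add -/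
theorem typ_mul_of_add : ∀ (L : List P.S) (x y : G), typ P y = wp (sgen P) L →
    len (sgen P) (typ P x * wp (sgen P) L) = len (sgen P) (typ P x) + L.length →
    typ P (x * y) = typ P x * wp (sgen P) L := by
  intro L
  induction L using List.reverseRecOn with
  | nil =>
    intro x y hy _
    rw [wp_nil] at hy ⊢
    rw [mul_one, typ_mul_right P x ((typ_eq_one_iff P).mp hy)]
  | append_singleton L' r ih =>
    intro x y hy hlen
    obtain ⟨n', hn', _, hw'⟩ := exists_rep_wp P L'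
    have hrN : (r : G) ∈ P.N := P.subset r.2
    have hy' : typ P y = QuotientGroup.mk ⟨n' * (r : G), Subgroup.mul_mem _ hn' hrN⟩ := by
      rw [hy, wp_append, wp_singleton, ← hw']
      rfl
    obtain ⟨b₁, hb₁, b₂, hb₂, rfl⟩ := exists_eq_of_typ P _ hy'
    have hlen' : len (sgen P) (typ P x * wp (sgen P) L') = len (sgen P) (typ P x) + L'.length := by
      rw [wp_append, wp_singleton, ← mul_assoc, List.length_append, List.length_singleton] at hlen
      have h1 := len_mul_simple_le hyp_sgen (typ P x * wp (sgen P) L') r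
      have h2 := len_mul_le hyp_sgen (typ P x) (wp (sgen P) L')
      have h3 := len_wp_le (sgen P) L'
      omega
    have hty' : typ P (b₁ * n') = wp (sgen P) L' := by
      rw [typ_mul_left P _ hb₁, typ_of_mem_N P hn', hw']
    have h1 := ih x (b₁ * n') hty' hlen'
    have e : x * (b₁ * (n' * (r : G)) * b₂) = x * (b₁ * n') * (r : G) * b₂ := by group
    rw [e, typ_mul_right P _ hb₂]
    have hlt : len (sgen P) (typ P (x * (b₁ * n'))) <
        len (sgen P) (typ P (x * (b₁ * n')) * sgen P r) := by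
      rw [h1]
      rw [wp_append, wp_singleton, ← mul_assoc, List.length_append, List.length_singleton] at hlen
      omega
    rw [typ_mul_simple_of_lt P r _ hlt, h1, wp_append, wp_singleton, mul_assoc]

/-- the subset of `P.S` (as a subtype) corresponding to a set of generators in `G` -/
def idx (J : Set G) : Set P.S := {j | (j : G) ∈ J}

omit hN in
theorem val_image_idx {J : Set G} (hJ : J ⊆ P.S) : Subtype.val '' idx P J = J := by
  ext x
  constructor
  · rintro ⟨j, hj, rfl⟩; exact hj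
  · intro hx; exact ⟨⟨x, hJ hx⟩, hx, rfl⟩

theorem exists_rep_of_mem_WJ {J : Set G} {a : Wq P} (ha : a ∈ WJ (sgen P) (idx P J)) :
    ∃ n, ∃ hn : n ∈ P.N, n ∈ Subgroup.closure J ∧ (QuotientGroup.mk ⟨n, hn⟩ : Wq P) = a := by
  obtain ⟨l, hl, rfl⟩ := exists_word_of_mem_WJ hyp_sgen ha
  obtain ⟨n, hn, hcl, hw⟩ := exists_rep_wp P l
  refine ⟨n, hn, ?_, hw⟩
  refine Subgroup.closure_mono ?_ hcl
  rintro _ ⟨j, hj, rfl⟩
  exact hl j hj

theorem mem_parabolic_of_typ_mem {J : Set G} {g : G} (h : typ P g ∈ WJ (sgen P) (idx P J)) :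
    g ∈ P.parabolic J := by
  obtain ⟨n, hn, hcl, hw⟩ := exists_rep_of_mem_WJ P h
  obtain ⟨b, hb, b', hb', rfl⟩ := exists_eq_of_typ P hn hw.symm
  exact Subgroup.mul_mem _ (Subgroup.mul_mem _ (BN.B_le_parabolic J hb)
    (BN.closure_le_parabolic J hcl)) (BN.B_le_parabolic J hb')

/-- left multiplication by an element of a parabolic subgroup changes the type by `W_J` -/
theorem exists_typ_mul_of_mem_parabolic {J : Set G} (hJ : J ⊆ P.S) {x : G}
    (hx : x ∈ P.parabolic J) (g : G) :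
    ∃ a ∈ WJ (sgen P) (idx P J), typ P (x * g) = a * typ P g := by
  have key : ∀ k : ℕ, ∀ n ∈ BN.Reach P J k, ∀ g : G,
      ∃ a ∈ WJ (sgen P) (idx P J), typ P (n * g) = a * typ P g := by
    intro k
    induction k with
    | zero =>
      intro n hn g
      exact ⟨1, Subgroup.one_mem _, by rw [typ_mul_left P g (BN.H_le_B P hn), one_mul]⟩
    | succ k ih =>
      intro n hn g
      obtain ⟨r, m, ⟨s₀, hs₀, hsr⟩, hm, rfl⟩ := hn
      obtain ⟨a', ha', hta⟩ := ih m hm g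
      have e : r * m * g = s₀ * ((s₀⁻¹ * r) * (m * g)) := by group
      have h1 : typ P ((s₀⁻¹ * r) * (m * g)) = a' * typ P g := by
        rw [typ_mul_left P _ (BN.H_le_B P hsr), hta]
      have hmem : sgen P ⟨s₀, hJ hs₀⟩ ∈ WJ (sgen P) (idx P J) :=
        simple_mem_WJ (s := sgen P) (J := idx P J) (j := ⟨s₀, hJ hs₀⟩) hs₀
      rcases typ_simple_mul P ⟨s₀, hJ hs₀⟩ ((s₀⁻¹ * r) * (m * g)) with h | h
      · refine ⟨sgen P ⟨s₀, hJ hs₀⟩ * a', Subgroup.mul_mem _ hmem ha', ?_⟩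
        rw [e, h, h1, mul_assoc]
      · refine ⟨a', ha', ?_⟩
        rw [e, h, h1]
  obtain ⟨n, hn, hxn⟩ := (BN.mem_parabolic_iff hJ).mp hx
  obtain ⟨b, hb, b', hb', rfl⟩ := (BN.mem_C_iff P).mp hxn
  obtain ⟨k, hk⟩ := (BN.mem_NJ_iff hJ).mp hn
  obtain ⟨a, ha, hta⟩ := key k n hk (b' * g)
  refine ⟨a, ha, ?_⟩
  have e : b * n * b' * g = b * (n * (b' * g)) := by group
  rw [e, typ_mul_left P _ hb, hta, typ_mul_left P _ hb']

theorem typ_mem_of_mem_parabolic {J : Set G} (hJ : J ⊆ P.S) {x : G} (hx : x ∈ P.parabolic J) :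
    typ P x ∈ WJ (sgen P) (idx P J) := by
  obtain ⟨a, ha, hta⟩ := exists_typ_mul_of_mem_parabolic P hJ hx 1
  rw [mul_one, typ_one, mul_one] at hta
  rw [hta]; exact ha

theorem mem_parabolic_iff_typ {J : Set G} (hJ : J ⊆ P.S) {x : G} :
    x ∈ P.parabolic J ↔ typ P x ∈ WJ (sgen P) (idx P J) :=
  ⟨typ_mem_of_mem_parabolic P hJ, mem_parabolic_of_typ_mem P⟩

/-- right multiplication by an element of a parabolic subgroup -/
theorem exists_typ_mul_of_mem_parabolic' {J : Set G} (hJ : J ⊆ P.S) {x : G}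
    (hx : x ∈ P.parabolic J) (g : G) :
    ∃ a ∈ WJ (sgen P) (idx P J), typ P (g * x) = typ P g * a := by
  obtain ⟨a, ha, hta⟩ := exists_typ_mul_of_mem_parabolic P hJ (Subgroup.inv_mem _ hx) g⁻¹
  refine ⟨a⁻¹, Subgroup.inv_mem _ ha, ?_⟩
  have e : g * x = (x⁻¹ * g⁻¹)⁻¹ := by group
  rw [e, typ_inv, hta, typ_inv, mul_inv_rev, inv_inv]

end Cfsg.Agent.Helper12.BNSt
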