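import Cfsg.Prelude.Def_ParabolicCharacters
import Cfsg.Agent.Helper12.BNStC

set_option autoImplicit false

/-!
# The alternating sum of parabolic permutation characters on `B`

For `b ∈ B` the alternating sum `Σ_K (-1)^|K| 1_{P_K}^G (b)` counts the chambers fixed by `b` whose
type has no right ascent (i.e. which are opposite to the base chamber).
-/

namespace Cfsg.Agent.Helper12.BNSt

open Cfsg Cfsg.Agent.Helper2 Cfsg.Agent.Helper14.ExchCox

variable {G : Type*} [Group G] (P : Cfsg.BNPair G) [hN : ((P.B ⊓ P.N).subgroupOf P.N).Normal]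

omit hN in
theorem typ_congr {a b : G} (hab : a⁻¹ * b ∈ P.B) : typ P a = typ P b := by
  have e : b = a * (a⁻¹ * b) := by group
  rw [e, typ_mul_right P a hab]

/-- the type of a chamber `x B` -/
noncomputable def typC : G ⧸ P.B → Wq P :=
  Quotient.lift (typ P) (fun _ _ hab => typ_congr P (QuotientGroup.leftRel_apply.mp hab))

omit hN in
theorem typC_mk (g : G) : typC P (QuotientGroup.mk g) = typ P g := rfl

omit hN in
theorem idx_image (K : Set P.S) : idx P (Subtype.val '' K) = K := by
  ext j
  constructor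
  · rintro ⟨j', hj', hjj⟩
    rwa [← Subtype.ext hjj]
  · intro hj; exact ⟨j, hj, rfl⟩

omit hN in
theorem image_subset (K : Set P.S) : Subtype.val '' K ⊆ P.S := by
  rintro _ ⟨j, _, rfl⟩; exact j.2

/-- injectivity of `x B ↦ x P_K` on the chambers whose type is `K`-reduced -/
theorem mem_B_of_minR {K : Set G} (hK : K ⊆ P.S) {x x' : G}
    (hx : idx P K ⊆ AscR (sgen P) (typ P x)) (hx' : idx P K ⊆ AscR (sgen P) (typ P x'))
    (hq : x⁻¹ * x' ∈ P.parabolic K) : x⁻¹ * x' ∈ P.B := by
  have hv := typ_mem_of_mem_parabolic P hK hq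
  obtain ⟨L, hLK, hLr, hL⟩ := exists_red_word_of_mem_WJ hyp_sgen hv
  have hLlen : L.length = len (sgen P) (typ P (x⁻¹ * x')) := by
    unfold Red at hLr; rw [← hLr, hL]
  have hadd := len_mul_of_ascR hyp_sgen hx hv
  have h1 := typ_mul_of_add P L x (x⁻¹ * x') hL.symm (by rw [hL, hadd, hLlen])
  rw [mul_inv_cancel_left, hL] at h1
  have h2 : typ P x = typ P x' := by
    apply minR_unique hyp_sgen hx hx'
    rw [h1, inv_mul_cancel_left]; exact hv
  rw [← h2] at h1
  have h3 : typ P (x⁻¹ * x') = 1 := by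
    have := h1.symm
    rwa [mul_eq_left] at this
  exact (typ_eq_one_iff P).mp h3

/-- surjectivity -/
theorem exists_minR_rep {K : Set G} (g : G) :
    ∃ x, idx P K ⊆ AscR (sgen P) (typ P x) ∧ x⁻¹ * g ∈ P.parabolic K := by
  obtain ⟨u, v, hv, hu, huv⟩ := exists_minR_factor hyp_sgen (idx P K) (typ P g)
  obtain ⟨nv, hnv, hcl, hnv'⟩ := exists_rep_of_mem_WJ P hv
  obtain ⟨⟨nu, hnu⟩, rfl⟩ := QuotientGroup.mk_surjective u
  have ht : typ P g = QuotientGroup.mk ⟨nu * nv, Subgroup.mul_mem _ hnu hnv⟩ := by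
    rw [huv, ← hnv']; rfl
  obtain ⟨b, hb, b', hb', rfl⟩ := exists_eq_of_typ P _ ht
  refine ⟨b * nu, ?_, ?_⟩
  · rw [typ_mul_left P _ hb, typ_of_mem_N P hnu]; exact hu
  · have e : (b * nu)⁻¹ * (b * (nu * nv) * b') = nv * b' := by group
    rw [e]
    exact Subgroup.mul_mem _ (BN.closure_le_parabolic K hcl) (BN.B_le_parabolic K hb')

theorem card_fixedBy_parabolic {K : Set G} (hK : K ⊆ P.S) {b : G} (hb : b ∈ P.B) :
    Nat.card (MulAction.fixedBy (G ⧸ P.parabolic K) b) =
      Nat.card {c : G ⧸ P.B // b • c = c ∧ idx P K ⊆ AscR (sgen P) (typC P c)} := by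
  have hle : P.B ≤ P.parabolic K := BN.B_le_parabolic K
  symm
  let Φ : {c : G ⧸ P.B // b • c = c ∧ idx P K ⊆ AscR (sgen P) (typC P c)} →
      MulAction.fixedBy (G ⧸ P.parabolic K) b := fun c =>
    ⟨Subgroup.quotientMapOfLE hle c.1, by
      obtain ⟨c, hc1, hc2⟩ := c
      induction c using QuotientGroup.induction_on with
      | H x =>
        rw [MulAction.mem_fixedBy]
        simp only [Subgroup.quotientMapOfLE_apply_mk]
        rw [MulAction.Quotient.smul_mk] at hc1 ⊢
        rw [QuotientGroup.eq] at hc1 ⊢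
        exact hle hc1⟩
  apply Nat.card_congr
  refine Equiv.ofBijective Φ ⟨?_, ?_⟩
  · rintro ⟨c, hc1, hc2⟩ ⟨c', hc1', hc2'⟩ h
    have h' : Subgroup.quotientMapOfLE hle c = Subgroup.quotientMapOfLE hle c' :=
      congrArg Subtype.val h
    apply Subtype.ext
    show c = c'
    induction c using QuotientGroup.induction_on with
    | H x =>
      induction c' using QuotientGroup.induction_on with
      | H x' =>
        simp only [Subgroup.quotientMapOfLE_apply_mk] at h'
        rw [QuotientGroup.eq] at h' ⊢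
        exact mem_B_of_minR P hK hc2 hc2' h'
  · rintro ⟨q, hq⟩
    induction q using QuotientGroup.induction_on with
    | H g =>
      obtain ⟨x, hx1, hx2⟩ := exists_minR_rep P (K := K) g
      rw [MulAction.mem_fixedBy, MulAction.Quotient.smul_mk, QuotientGroup.eq] at hq
      have hfix : b • (QuotientGroup.mk x : G ⧸ P.B) = QuotientGroup.mk x := by
        rw [MulAction.Quotient.smul_mk, QuotientGroup.eq]
        have hbx : idx P K ⊆ AscR (sgen P) (typ P (b • x)) := by
          rw [smul_eq_mul, typ_mul_left P _ hb]; exact hx1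
        apply mem_B_of_minR P hK hbx hx1
        -- (b x)⁻¹ x ∈ P_K
        have e : (b • x)⁻¹ * x = (x⁻¹ * g) * ((b • g)⁻¹ * g) * (x⁻¹ * g)⁻¹ := by
          simp only [smul_eq_mul]; group
        rw [e]
        exact Subgroup.mul_mem _ (Subgroup.mul_mem _ hx2 hq) (Subgroup.inv_mem _ hx2)
      refine ⟨⟨QuotientGroup.mk x, hfix, hx1⟩, ?_⟩
      apply Subtype.ext
      show Subgroup.quotientMapOfLE hle (QuotientGroup.mk x) = QuotientGroup.mk g
      rw [Subgroup.quotientMapOfLE_apply_mk, QuotientGroup.eq]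
      exact hx2

theorem card_eq_sum_ite {X : Type*} [Fintype X] (p : X → Prop) [DecidablePred p] :
    (Nat.card {c : X // p c} : ℂ) = ∑ c : X, if p c then (1 : ℂ) else 0 := by
  rw [Nat.card_eq_fintype_card, Fintype.card_subtype, Finset.sum_boole]

theorem sum_powerset_subset {α : Type*} [Fintype α] (A : Set α)
    [DecidablePred fun K : Finset α => (K : Set α) ⊆ A] [Decidable (A = ∅)] :
    ∑ K ∈ (Finset.univ : Finset α).powerset,
        (-1 : ℂ) ^ K.card * (if (K : Set α) ⊆ A then (1 : ℂ) else 0) =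
      if A = ∅ then 1 else 0 := by
  classical
  simp only [mul_ite, mul_one, mul_zero]
  rw [← Finset.sum_filter]
  have hf : (Finset.univ : Finset α).powerset.filter (fun K : Finset α => (K : Set α) ⊆ A) =
      A.toFinset.powerset := by
    ext K
    simp only [Finset.mem_filter, Finset.mem_powerset, Finset.subset_univ, true_and]
    constructor
    · intro h x hx
      rw [Set.mem_toFinset]; exact h hx
    · intro h x hx
      have := h hx
      rwa [Set.mem_toFinset] at this
  rw [hf]
  have h1 := Finset.sum_powerset_neg_one_pow_card (x := A.toFinset)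
  have h2 : (∑ m ∈ A.toFinset.powerset, (-1 : ℂ) ^ m.card) =
      ((∑ m ∈ A.toFinset.powerset, (-1 : ℤ) ^ m.card : ℤ) : ℂ) := by
    push_cast; rfl
  rw [h2, h1]
  by_cases hA : A = ∅
  · subst hA; simp
  · have : A.toFinset ≠ ∅ := by
      intro h; apply hA
      rwa [Set.toFinset_eq_empty] at h
    rw [if_neg this, if_neg hA]; simp

/-- the alternating sum on `B` counts the fixed chambers of type without right ascents -/
theorem alt_sum_fixed [Finite G] [Fintype P.S] {b : G} (hb : b ∈ P.B) :
    ∑ K ∈ (Finset.univ : Finset P.S).powerset, (-1 : ℂ) ^ K.card *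
      fixedPointCharacter (P.parabolic (Subtype.val '' (K : Set P.S))) b =
    (Nat.card {c : G ⧸ P.B // b • c = c ∧ AscR (sgen P) (typC P c) = ∅} : ℂ) := by
  classical
  letI : Fintype (G ⧸ P.B) := Fintype.ofFinite _
  have h1 : ∀ K : Finset P.S,
      fixedPointCharacter (P.parabolic (Subtype.val '' (K : Set P.S))) b =
      ∑ c : G ⧸ P.B, if (b • c = c ∧ (K : Set P.S) ⊆ AscR (sgen P) (typC P c))
        then (1 : ℂ) else 0 := by
    intro K
    unfold fixedPointCharacter
    rw [card_fixedBy_parabolic P (image_subset P _) hb, idx_image, card_eq_sum_ite]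
  simp_rw [h1, Finset.mul_sum]
  rw [Finset.sum_comm, card_eq_sum_ite]
  apply Finset.sum_congr rfl
  intro c _
  by_cases hc : b • c = c
  · simp only [hc, true_and]
    exact sum_powerset_subset _
  · simp [hc]

end Cfsg.Agent.Helper12.BNSt
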