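import Mathlib
import Cfsg.Prelude.Def_Solvable
import Cfsg.Agent.Helper5.Green

/-!
Radical `p`-subgroups: a `p`-subgroup normalized by the normalizer of a radical `p`-subgroup `D`
lies in `D`.
-/

set_option autoImplicit false

namespace Cfsg.Agent.Helper12.BlkSL

open Cfsg

theorem map_conj_eq_of_mem_normalizer {G : Type*} [Group G] {H : Subgroup G} {x : G}
    (hx : x ∈ Subgroup.normalizer (H : Set G)) :
    H.map (MulAut.conj x).toMonoidHom = H := by
  ext y
  rw [Subgroup.mem_map]
  constructor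
  · rintro ⟨h, hh, rfl⟩
    exact (Subgroup.mem_normalizer_iff.mp hx h).mp hh
  · intro hy
    refine ⟨x⁻¹ * y * x, ?_, ?_⟩
    · apply (Subgroup.mem_normalizer_iff.mp hx _).mpr
      have : x * (x⁻¹ * y * x) * x⁻¹ = y := by group
      rw [this]
      exact hy
    · show x * (x⁻¹ * y * x) * x⁻¹ = y
      group

theorem conj_mem_sup {G : Type*} [Group G] {R D : Subgroup G} {x : G}
    (hR : x ∈ Subgroup.normalizer (R : Set G)) (hD : x ∈ Subgroup.normalizer (D : Set G))
    {q : G} (hq : q ∈ R ⊔ D) : x * q * x⁻¹ ∈ R ⊔ D := by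
  have h1 : (R ⊔ D).map (MulAut.conj x).toMonoidHom = R ⊔ D := by
    rw [Subgroup.map_sup, map_conj_eq_of_mem_normalizer hR, map_conj_eq_of_mem_normalizer hD]
  rw [← h1]
  exact ⟨q, hq, rfl⟩

/-- A `p`-subgroup `R` normalized by the normalizer of a radical `p`-subgroup `D` lies in `D`. -/
theorem le_of_radical {G : Type*} [Group G] [Finite G] {p : ℕ} [Fact p.Prime] (D R : Subgroup G)
    (hD : IsPGroup p D) (hR : IsPGroup p R)
    (hrad : (pCore p (Subgroup.normalizer (D : Set G))).map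
      (Subgroup.normalizer (D : Set G)).subtype ≤ D)
    (hN : Subgroup.normalizer (D : Set G) ≤ Subgroup.normalizer (R : Set G)) : R ≤ D := by
  have hDR : D ≤ Subgroup.normalizer (R : Set G) := Subgroup.le_normalizer.trans hN
  have hQ : IsPGroup p (R ⊔ D : Subgroup G) := IsPGroup.to_sup_of_normal_left' hR hD hDR
  by_contra hcon
  have hne : D ≠ R ⊔ D := by
    intro h
    apply hcon
    rw [h]
    exact le_sup_left
  obtain ⟨r, hrQ, hrN, hrD⟩ :=
    Cfsg.Agent.Helper5.CC.exists_mem_normalizer_not_mem hQ le_sup_right hne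
  apply hrD
  apply hrad
  set N := Subgroup.normalizer (D : Set G) with hNdef
  let K : Subgroup N := ((R ⊔ D) ⊓ N).subgroupOf N
  have hKn : K.Normal := by
    constructor
    intro k hk x
    rw [Subgroup.mem_subgroupOf] at hk ⊢
    refine ⟨?_, ?_⟩
    · have := conj_mem_sup (hN x.2) x.2 hk.1
      simpa using this
    · exact (x * k * x⁻¹).2
  have hKp : IsPGroup p K := by
    have h1 : IsPGroup p ((R ⊔ D) ⊓ N : Subgroup G) := hQ.to_le inf_le_left
    exact h1.comap_subtype
  have hK : K ≤ pCore p N := le_sSup ⟨hKn, hKp⟩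
  refine ⟨⟨r, hrN⟩, hK ?_, rfl⟩
  rw [Subgroup.mem_subgroupOf]
  exact ⟨hrQ, hrN⟩

end Cfsg.Agent.Helper12.BlkSL
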