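import Mathlib

set_option autoImplicit false

namespace Cfsg.Agent.Helper12

variable {k G V : Type*} [Field k] [Group G] [AddCommGroup V] [Module k V]

/-- The ascending series of iterated fixed spaces of a representation. -/
def fixSeries (ρ : Representation k G V) : ℕ → Submodule k V
  | 0 => ⊥
  | i + 1 => ⨅ g : G, (fixSeries ρ i).comap (ρ g - 1)

theorem fixSeries_zero (ρ : Representation k G V) : fixSeries ρ 0 = ⊥ := rfl

theorem mem_fixSeries_succ (ρ : Representation k G V) (i : ℕ) (v : V) :
    v ∈ fixSeries ρ (i + 1) ↔ ∀ g : G, ρ g v - v ∈ fixSeries ρ i := by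
  simp only [fixSeries, Submodule.mem_iInf, Submodule.mem_comap, LinearMap.sub_apply,
    Module.End.one_apply]

theorem fixSeries_le_succ (ρ : Representation k G V) (i : ℕ) :
    fixSeries ρ i ≤ fixSeries ρ (i + 1) := by
  induction i with
  | zero => rw [fixSeries_zero]; exact bot_le
  | succ j ih =>
    intro v hv
    rw [mem_fixSeries_succ] at hv ⊢
    intro g
    exact ih (hv g)

theorem fixSeries_mono (ρ : Representation k G V) : Monotone (fixSeries ρ) :=
  monotone_nat_of_le_succ (fixSeries_le_succ ρ)

theorem fixSeries_invariant (ρ : Representation k G V) (i : ℕ) (g : G) (v : V)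
    (hv : v ∈ fixSeries ρ i) : ρ g v ∈ fixSeries ρ i := by
  cases i with
  | zero =>
    rw [fixSeries_zero, Submodule.mem_bot] at hv ⊢
    rw [hv, map_zero]
  | succ j =>
    rw [mem_fixSeries_succ] at hv ⊢
    intro h
    have h1 := hv (h * g)
    have h2 := hv g
    have h3 : ρ h (ρ g v) - ρ g v = (ρ (h * g) v - v) - (ρ g v - v) := by
      rw [map_mul]; simp
    rw [h3]
    exact Submodule.sub_mem _ h1 h2

/-- The action on the quotient by a member of the series. -/
@[reducible] noncomputable def fixSeriesQuotAction (ρ : Representation k G V) (i : ℕ) :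
    MulAction G (V ⧸ fixSeries ρ i) where
  smul g x := Submodule.mapQ (fixSeries ρ i) (fixSeries ρ i) (ρ g)
    (fun v hv => fixSeries_invariant ρ i g v hv) x
  one_smul x := by
    induction x using Submodule.Quotient.induction_on with
    | _ v =>
      show Submodule.mapQ _ _ (ρ 1) _ (Submodule.Quotient.mk v) = _
      rw [Submodule.mapQ_apply, map_one]
      rfl
  mul_smul g h x := by
    induction x using Submodule.Quotient.induction_on with
    | _ v =>
      show Submodule.mapQ _ _ (ρ (g * h)) _ (Submodule.Quotient.mk v) =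
        Submodule.mapQ _ _ (ρ g) _ (Submodule.mapQ _ _ (ρ h) _ (Submodule.Quotient.mk v))
      rw [Submodule.mapQ_apply, Submodule.mapQ_apply, Submodule.mapQ_apply, map_mul]
      rfl

theorem fixSeriesQuotAction_smul_mk (ρ : Representation k G V) (i : ℕ) (g : G) (v : V) :
    letI := fixSeriesQuotAction ρ i
    g • (Submodule.Quotient.mk v : V ⧸ fixSeries ρ i) = Submodule.Quotient.mk (ρ g v) := by
  let _ := fixSeriesQuotAction ρ i
  show Submodule.mapQ _ _ (ρ g) _ (Submodule.Quotient.mk v) = _
  rw [Submodule.mapQ_apply]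

/-- For a `p`-group acting on a finite space in characteristic `p`, the series strictly
increases until it reaches the top. -/
theorem fixSeries_lt_succ (ρ : Representation k G V) (p : ℕ) [Fact p.Prime] [CharP k p]
    [Finite V] (hG : IsPGroup p G) (i : ℕ) (hi : fixSeries ρ i ≠ ⊤) :
    fixSeries ρ i < fixSeries ρ (i + 1) := by
  let _ := fixSeriesQuotAction ρ i
  have : Finite (V ⧸ fixSeries ρ i) :=
    Finite.of_surjective _ (Submodule.Quotient.mk_surjective (fixSeries ρ i))
  have hp : p.Prime := Fact.out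
  -- the quotient is nontrivial
  obtain ⟨w, hw⟩ : ∃ w : V, w ∉ fixSeries ρ i := by
    by_contra h
    push Not at h
    exact hi (eq_top_iff.2 fun v _ => h v)
  have hx : (Submodule.Quotient.mk w : V ⧸ fixSeries ρ i) ≠ 0 := by
    rw [Ne, Submodule.Quotient.mk_eq_zero]; exact hw
  -- p divides the cardinality of the quotient
  have hcard : p ∣ Nat.card (V ⧸ fixSeries ρ i) := by
    have h1 : p • (Submodule.Quotient.mk w : V ⧸ fixSeries ρ i) = 0 := by
      rw [← Nat.cast_smul_eq_nsmul k, CharP.cast_eq_zero, zero_smul]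
    have h2 : addOrderOf (Submodule.Quotient.mk w : V ⧸ fixSeries ρ i) ∣ p :=
      addOrderOf_dvd_of_nsmul_eq_zero h1
    have h3 : addOrderOf (Submodule.Quotient.mk w : V ⧸ fixSeries ρ i) ≠ 1 := by
      rw [Ne, AddMonoid.addOrderOf_eq_one_iff]; exact hx
    have h4 : addOrderOf (Submodule.Quotient.mk w : V ⧸ fixSeries ρ i) = p := by
      rcases (Nat.dvd_prime hp).1 h2 with h | h
      · exact absurd h h3
      · exact h
    rw [← h4]
    exact addOrderOf_dvd_natCard _
  have h0 : (0 : V ⧸ fixSeries ρ i) ∈ MulAction.fixedPoints G (V ⧸ fixSeries ρ i) := by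
    intro g
    have := fixSeriesQuotAction_smul_mk ρ i g 0
    rw [map_zero] at this
    exact this
  obtain ⟨b, hb, hb0⟩ :=
    hG.exists_fixed_point_of_prime_dvd_card_of_fixed_point (V ⧸ fixSeries ρ i) hcard h0
  obtain ⟨v, rfl⟩ := Submodule.Quotient.mk_surjective _ b
  refine lt_of_le_of_ne (fixSeries_le_succ ρ i) ?_
  intro heq
  have hv : v ∈ fixSeries ρ (i + 1) := by
    rw [mem_fixSeries_succ]
    intro g
    have h1 := hb g
    rw [fixSeriesQuotAction_smul_mk] at h1
    rw [← Submodule.Quotient.mk_eq_zero, Submodule.Quotient.mk_sub, h1, sub_self]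
  rw [← heq] at hv
  apply hb0
  rw [eq_comm, Submodule.Quotient.mk_eq_zero]
  exact hv

/-- The series reaches the top. -/
theorem exists_fixSeries_eq_top (ρ : Representation k G V) (p : ℕ) [Fact p.Prime] [CharP k p]
    [Finite V] (hG : IsPGroup p G) : ∃ N : ℕ, fixSeries ρ N = ⊤ := by
  have : IsNoetherian k V := isNoetherian_of_finite k V
  obtain ⟨n, hn⟩ := monotone_stabilizes_iff_noetherian.2 ‹IsNoetherian k V›
    ⟨fixSeries ρ, fixSeries_mono ρ⟩
  refine ⟨n, ?_⟩
  by_contra h
  have h1 := fixSeries_lt_succ ρ p hG n h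
  have h2 := hn (n + 1) (Nat.le_succ n)
  simp only [OrderHom.coe_mk] at h2
  rw [← h2] at h1
  exact lt_irrefl _ h1

end Cfsg.Agent.Helper12
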