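import Mathlib
import Cfsg.Agent.Helper12.BlkSLA
import Cfsg.Agent.Helper12.FixSeries

/-!
In `SL_n(F)`, `F` finite of characteristic `p`: a `p`-regular element centralizing a nontrivial
radical `p`-subgroup is central.
-/

set_option autoImplicit false

namespace Cfsg.Agent.Helper12.BlkSL

open Cfsg Matrix

variable {F : Type*} [Field F] {n : ℕ}

/-- The space of vectors fixed by a subgroup of `SL_n`. -/
def fixSp (D : Subgroup (Matrix.SpecialLinearGroup (Fin n) F)) : Submodule F (Fin n → F) where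
  carrier := {v | ∀ d ∈ D, (d : Matrix (Fin n) (Fin n) F) *ᵥ v = v}
  add_mem' := by
    intro a b ha hb d hd
    rw [Matrix.mulVec_add, ha d hd, hb d hd]
  zero_mem' := by
    intro d _
    rw [Matrix.mulVec_zero]
  smul_mem' := by
    intro c a ha d hd
    rw [Matrix.mulVec_smul, ha d hd]

theorem mem_fixSp {D : Subgroup (Matrix.SpecialLinearGroup (Fin n) F)} {v : Fin n → F} :
    v ∈ fixSp D ↔ ∀ d ∈ D, (d : Matrix (Fin n) (Fin n) F) *ᵥ v = v := Iff.rfl

/-- The elements acting trivially on `W` and on `V/W`. -/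
def radSub (W : Submodule F (Fin n → F)) : Subgroup (Matrix.SpecialLinearGroup (Fin n) F) where
  carrier := {g | (∀ v, (g : Matrix (Fin n) (Fin n) F) *ᵥ v - v ∈ W) ∧
    ∀ v ∈ W, (g : Matrix (Fin n) (Fin n) F) *ᵥ v = v}
  mul_mem' := by
    rintro a b ⟨ha1, ha2⟩ ⟨hb1, hb2⟩
    refine ⟨?_, ?_⟩
    · intro v
      have h1 : ((a * b : Matrix.SpecialLinearGroup (Fin n) F) : Matrix (Fin n) (Fin n) F) *ᵥ v - v =
          ((a : Matrix (Fin n) (Fin n) F) *ᵥ ((b : Matrix (Fin n) (Fin n) F) *ᵥ v - v)) +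
            ((a : Matrix (Fin n) (Fin n) F) *ᵥ v - v) := by
        rw [Matrix.SpecialLinearGroup.coe_mul, ← Matrix.mulVec_mulVec, Matrix.mulVec_sub]
        abel
      rw [h1, ha2 _ (hb1 v)]
      exact W.add_mem (hb1 v) (ha1 v)
    · intro v hv
      rw [Matrix.SpecialLinearGroup.coe_mul, ← Matrix.mulVec_mulVec, hb2 v hv, ha2 v hv]
  one_mem' := by
    refine ⟨?_, ?_⟩
    · intro v
      rw [Matrix.SpecialLinearGroup.coe_one, Matrix.one_mulVec, sub_self]
      exact W.zero_mem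
    · intro v _
      rw [Matrix.SpecialLinearGroup.coe_one, Matrix.one_mulVec]
  inv_mem' := by
    rintro a ⟨ha1, ha2⟩
    have hinv : ∀ v, ((a⁻¹ : Matrix.SpecialLinearGroup (Fin n) F) : Matrix (Fin n) (Fin n) F) *ᵥ
        ((a : Matrix (Fin n) (Fin n) F) *ᵥ v) = v := by
      intro v
      rw [Matrix.mulVec_mulVec, ← Matrix.SpecialLinearGroup.coe_mul, inv_mul_cancel,
        Matrix.SpecialLinearGroup.coe_one, Matrix.one_mulVec]
    have hfix : ∀ v ∈ W, ((a⁻¹ : Matrix.SpecialLinearGroup (Fin n) F) :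
        Matrix (Fin n) (Fin n) F) *ᵥ v = v := by
      intro v hv
      have := hinv v
      rwa [ha2 v hv] at this
    refine ⟨?_, hfix⟩
    intro v
    have h1 := ha1 v
    have h2 := hfix _ h1
    rw [Matrix.mulVec_sub, hinv] at h2
    have h3 : ((a⁻¹ : Matrix.SpecialLinearGroup (Fin n) F) : Matrix (Fin n) (Fin n) F) *ᵥ v - v =
        -((a : Matrix (Fin n) (Fin n) F) *ᵥ v - v) := by
      rw [← h2]
      abel
    rw [h3]
    exact W.neg_mem h1

theorem mem_radSub {W : Submodule F (Fin n → F)} {g : Matrix.SpecialLinearGroup (Fin n) F} :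
    g ∈ radSub W ↔ (∀ v, (g : Matrix (Fin n) (Fin n) F) *ᵥ v - v ∈ W) ∧
      ∀ v ∈ W, (g : Matrix (Fin n) (Fin n) F) *ᵥ v = v := Iff.rfl

theorem sub_one_sq_of_mem_radSub {W : Submodule F (Fin n → F)}
    {g : Matrix.SpecialLinearGroup (Fin n) F} (hg : g ∈ radSub W) :
    ((g : Matrix (Fin n) (Fin n) F) - 1) * ((g : Matrix (Fin n) (Fin n) F) - 1) = 0 := by
  apply Matrix.mulVec_injective
  funext v
  rw [← Matrix.mulVec_mulVec, Matrix.zero_mulVec]
  have h1 : ((g : Matrix (Fin n) (Fin n) F) - 1) *ᵥ v = (g : Matrix (Fin n) (Fin n) F) *ᵥ v - v := by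
    rw [Matrix.sub_mulVec, Matrix.one_mulVec]
  rw [h1, Matrix.sub_mulVec, Matrix.one_mulVec, hg.2 _ (hg.1 v), sub_self]

theorem one_add_pow_of_sq_zero {R : Type*} [Ring R] (X : R) (hX : X * X = 0) (k : ℕ) :
    (1 + X) ^ k = 1 + k • X := by
  induction k with
  | zero => simp
  | succ k ih =>
    rw [pow_succ, ih, add_smul, one_smul]
    have : (k • X) * X = 0 := by rw [smul_mul_assoc, hX, smul_zero]
    calc (1 + k • X) * (1 + X) = 1 + X + k • X + (k • X) * X := by noncomm_ring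
      _ = 1 + (k • X + X) := by rw [this]; abel

theorem isPGroup_radSub (p : ℕ) [Fact p.Prime] [CharP F p] (W : Submodule F (Fin n → F)) :
    IsPGroup p (radSub W) := by
  have hp : p.Prime := Fact.out
  intro g
  refine ⟨1, ?_⟩
  rw [pow_one]
  apply Subtype.ext
  apply Subtype.ext
  show (((g : Matrix.SpecialLinearGroup (Fin n) F) ^ p : Matrix.SpecialLinearGroup (Fin n) F) :
    Matrix (Fin n) (Fin n) F) = 1
  rw [Matrix.SpecialLinearGroup.coe_pow]
  have hX := sub_one_sq_of_mem_radSub g.2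
  set X : Matrix (Fin n) (Fin n) F := ((g : Matrix.SpecialLinearGroup (Fin n) F) :
    Matrix (Fin n) (Fin n) F) - 1 with hXdef
  have hg : ((g : Matrix.SpecialLinearGroup (Fin n) F) : Matrix (Fin n) (Fin n) F) = 1 + X := by
    rw [hXdef]
    abel
  rw [hg, one_add_pow_of_sq_zero X hX, ← Nat.cast_smul_eq_nsmul F, CharP.cast_eq_zero, zero_smul,
    add_zero]

/-- The rank one unipotent element `1 + v φᵀ`. -/
def rkOne (v φ : Fin n → F) (h : φ ⬝ᵥ v = 0) : Matrix.SpecialLinearGroup (Fin n) F :=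
  ⟨1 + Matrix.vecMulVec v φ, by
    rw [Matrix.vecMulVec_eq Unit, Matrix.det_one_add_replicateCol_mul_replicateRow, h, add_zero]⟩

theorem rkOne_val (v φ : Fin n → F) (h : φ ⬝ᵥ v = 0) :
    ((rkOne v φ h : Matrix.SpecialLinearGroup (Fin n) F) : Matrix (Fin n) (Fin n) F) =
      1 + Matrix.vecMulVec v φ := rfl

theorem rkOne_mulVec (v φ : Fin n → F) (h : φ ⬝ᵥ v = 0) (w : Fin n → F) :
    ((rkOne v φ h : Matrix.SpecialLinearGroup (Fin n) F) : Matrix (Fin n) (Fin n) F) *ᵥ w =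
      w + (φ ⬝ᵥ w) • v := by
  rw [rkOne_val, Matrix.add_mulVec, Matrix.one_mulVec, Matrix.vecMulVec_mulVec]
  congr 1
  funext i
  simp [mul_comm]

theorem rkOne_mem_radSub (W : Submodule F (Fin n → F)) (v φ : Fin n → F) (hv : v ∈ W)
    (hφ : ∀ w ∈ W, φ ⬝ᵥ w = 0) : rkOne v φ (hφ v hv) ∈ radSub W := by
  refine ⟨?_, ?_⟩
  · intro w
    rw [rkOne_mulVec, add_sub_cancel_left]
    exact W.smul_mem _ hv
  · intro w hw
    rw [rkOne_mulVec, hφ w hw, zero_smul, add_zero]

end Cfsg.Agent.Helper12.BlkSL
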