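import Mathlib
import Cfsg.Agent.Helper12.BlkSLB

/-!
In `SL_n(F)`: normalizers preserve fixed spaces; a `p`-regular element commuting with `radSub W`
for a proper nonzero subspace `W` is central.
-/

set_option autoImplicit false

namespace Cfsg.Agent.Helper12.BlkSL

open Cfsg Matrix

variable {F : Type*} [Field F] {n : ℕ}

theorem inv_mulVec_mulVec (x : Matrix.SpecialLinearGroup (Fin n) F) (v : Fin n → F) :
    ((x⁻¹ : Matrix.SpecialLinearGroup (Fin n) F) : Matrix (Fin n) (Fin n) F) *ᵥ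
      ((x : Matrix (Fin n) (Fin n) F) *ᵥ v) = v := by
  rw [Matrix.mulVec_mulVec, ← Matrix.SpecialLinearGroup.coe_mul, inv_mul_cancel,
    Matrix.SpecialLinearGroup.coe_one, Matrix.one_mulVec]

theorem mulVec_inv_mulVec (x : Matrix.SpecialLinearGroup (Fin n) F) (v : Fin n → F) :
    (x : Matrix (Fin n) (Fin n) F) *ᵥ
      (((x⁻¹ : Matrix.SpecialLinearGroup (Fin n) F) : Matrix (Fin n) (Fin n) F) *ᵥ v) = v := by
  rw [Matrix.mulVec_mulVec, ← Matrix.SpecialLinearGroup.coe_mul, mul_inv_cancel,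
    Matrix.SpecialLinearGroup.coe_one, Matrix.one_mulVec]

theorem mulVec_mem_fixSp {D : Subgroup (Matrix.SpecialLinearGroup (Fin n) F)}
    {x : Matrix.SpecialLinearGroup (Fin n) F} (hx : x ∈ Subgroup.normalizer (D : Set _))
    {v : Fin n → F} (hv : v ∈ fixSp D) : (x : Matrix (Fin n) (Fin n) F) *ᵥ v ∈ fixSp D := by
  intro d hd
  have h1 : x⁻¹ * d * x ∈ D := by
    have := (Subgroup.mem_normalizer_iff.mp (inv_mem hx) d).mp hd
    simpa using this
  have h2 := hv _ h1
  have h3 : (x : Matrix (Fin n) (Fin n) F) *ᵥ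
      (((x⁻¹ * d * x : Matrix.SpecialLinearGroup (Fin n) F) : Matrix (Fin n) (Fin n) F) *ᵥ v) =
      (d : Matrix (Fin n) (Fin n) F) *ᵥ ((x : Matrix (Fin n) (Fin n) F) *ᵥ v) := by
    have e : x * (x⁻¹ * d * x) = d * x := by group
    rw [Matrix.mulVec_mulVec, Matrix.mulVec_mulVec, ← Matrix.SpecialLinearGroup.coe_mul,
      ← Matrix.SpecialLinearGroup.coe_mul, e]
  rw [← h3, h2]

theorem conj_mem_radSub {W : Submodule F (Fin n → F)}
    {x g : Matrix.SpecialLinearGroup (Fin n) F}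
    (hx : ∀ v ∈ W, (x : Matrix (Fin n) (Fin n) F) *ᵥ v ∈ W)
    (hx' : ∀ v ∈ W, ((x⁻¹ : Matrix.SpecialLinearGroup (Fin n) F) :
      Matrix (Fin n) (Fin n) F) *ᵥ v ∈ W)
    (hg : g ∈ radSub W) : x * g * x⁻¹ ∈ radSub W := by
  have hmul : ∀ v, ((x * g * x⁻¹ : Matrix.SpecialLinearGroup (Fin n) F) :
      Matrix (Fin n) (Fin n) F) *ᵥ v = (x : Matrix (Fin n) (Fin n) F) *ᵥ
        ((g : Matrix (Fin n) (Fin n) F) *ᵥ
          (((x⁻¹ : Matrix.SpecialLinearGroup (Fin n) F) : Matrix (Fin n) (Fin n) F) *ᵥ v)) := by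
    intro v
    rw [Matrix.SpecialLinearGroup.coe_mul, Matrix.SpecialLinearGroup.coe_mul,
      ← Matrix.mulVec_mulVec, ← Matrix.mulVec_mulVec]
  refine ⟨?_, ?_⟩
  · intro v
    have h1 := hg.1 (((x⁻¹ : Matrix.SpecialLinearGroup (Fin n) F) :
      Matrix (Fin n) (Fin n) F) *ᵥ v)
    have h2 := hx _ h1
    rw [Matrix.mulVec_sub, mulVec_inv_mulVec] at h2
    rw [hmul]
    exact h2
  · intro v hv
    rw [hmul, hg.2 _ (hx' v hv), mulVec_inv_mulVec]

theorem normalizer_le_normalizer_radSub (D : Subgroup (Matrix.SpecialLinearGroup (Fin n) F)) :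
    Subgroup.normalizer (D : Set (Matrix.SpecialLinearGroup (Fin n) F)) ≤
      Subgroup.normalizer ((radSub (fixSp D) : Subgroup (Matrix.SpecialLinearGroup (Fin n) F)) :
        Set (Matrix.SpecialLinearGroup (Fin n) F)) := by
  have key : ∀ x ∈ Subgroup.normalizer (D : Set (Matrix.SpecialLinearGroup (Fin n) F)),
      ∀ g ∈ radSub (fixSp D), x * g * x⁻¹ ∈ radSub (fixSp D) := by
    intro x hx g hg
    exact conj_mem_radSub (fun v hv => mulVec_mem_fixSp hx hv)
      (fun v hv => mulVec_mem_fixSp (inv_mem hx) hv) hg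
  intro x hx
  rw [Subgroup.mem_normalizer_iff]
  intro g
  constructor
  · exact key x hx g
  · intro h
    have := key x⁻¹ (inv_mem hx) _ h
    have e : x⁻¹ * (x * g * x⁻¹) * x⁻¹⁻¹ = g := by group
    rwa [e] at this

/-- The row vector of a linear functional. -/
def rowOf (f : Module.Dual F (Fin n → F)) : Fin n → F := fun j => f (Pi.single j 1)

theorem rowOf_dotProduct (f : Module.Dual F (Fin n → F)) (w : Fin n → F) :
    rowOf f ⬝ᵥ w = f w := by
  have h := LinearMap.pi_apply_eq_sum_univ f w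
  rw [h]
  unfold rowOf dotProduct
  apply Finset.sum_congr rfl
  intro j _
  rw [smul_eq_mul, mul_comm]
  congr 1
  show f (Pi.single j 1) = f fun j_1 => if j = j_1 then 1 else 0
  congr 1
  funext i
  simp [Pi.single_apply, eq_comm]

end Cfsg.Agent.Helper12.BlkSL
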