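import Mathlib
import Cfsg.Agent.Helper12.BlkSLC

/-!
A `p`-regular element of `SL_n(F)` commuting with `radSub W`, `W` a proper nonzero subspace, is
central.
-/

set_option autoImplicit false

namespace Cfsg.Agent.Helper12.BlkSL

open Cfsg Matrix

variable {F : Type*} [Field F] {n : ℕ}

theorem commute_rkOne {s : Matrix.SpecialLinearGroup (Fin n) F} {v φ : Fin n → F}
    (h : φ ⬝ᵥ v = 0) (hs : s * rkOne v φ h = rkOne v φ h * s) (i j : Fin n) :
    ((s : Matrix (Fin n) (Fin n) F) *ᵥ v) i * φ j =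
      v i * (φ ᵥ* (s : Matrix (Fin n) (Fin n) F)) j := by
  have h1 := congrArg (fun g : Matrix.SpecialLinearGroup (Fin n) F =>
    (g : Matrix (Fin n) (Fin n) F)) hs
  simp only [Matrix.SpecialLinearGroup.coe_mul, rkOne_val, mul_add, add_mul, mul_one, one_mul,
    add_right_inj] at h1
  rw [Matrix.mul_vecMulVec, Matrix.vecMulVec_mul] at h1
  have h2 := congrFun (congrFun h1 i) j
  rwa [Matrix.vecMulVec_apply, Matrix.vecMulVec_apply] at h2

theorem mem_center_of_commute_radSub (p : ℕ) [Fact p.Prime] [CharP F p]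
    (W : Submodule F (Fin n → F)) (hW0 : W ≠ ⊥) (hW1 : W ≠ ⊤)
    (s : Matrix.SpecialLinearGroup (Fin n) F) (hs : ∀ g ∈ radSub W, s * g = g * s)
    (hreg : ¬ p ∣ orderOf s) :
    s ∈ Subgroup.center (Matrix.SpecialLinearGroup (Fin n) F) := by
  classical
  obtain ⟨v₀, hv₀W, hv₀⟩ := Submodule.exists_mem_ne_zero_of_ne_bot hW0
  obtain ⟨w₀, hw₀⟩ : ∃ w₀ : Fin n → F, w₀ ∉ W := by
    by_contra hcon
    push Not at hcon
    exact hW1 (eq_top_iff.2 fun w _ => hcon w)
  obtain ⟨f₀, hf₀, hWf₀⟩ := Submodule.exists_le_ker_of_notMem hw₀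
  set φ₀ := rowOf f₀ with hφ₀
  have hφ₀W : ∀ w ∈ W, φ₀ ⬝ᵥ w = 0 := by
    intro w hw
    rw [hφ₀, rowOf_dotProduct]
    exact hWf₀ hw
  obtain ⟨j₀, hj₀⟩ : ∃ j₀, φ₀ j₀ ≠ 0 := by
    by_contra hcon
    push Not at hcon
    apply hf₀
    rw [← rowOf_dotProduct, ← hφ₀]
    unfold dotProduct
    apply Finset.sum_eq_zero
    intro j _
    rw [hcon j, zero_mul]
  obtain ⟨i₀, hi₀⟩ : ∃ i₀, v₀ i₀ ≠ 0 := by
    by_contra hcon
    push Not at hcon
    exact hv₀ (funext hcon)
  set S : Matrix (Fin n) (Fin n) F := (s : Matrix (Fin n) (Fin n) F) with hS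
  set c : F := (φ₀ ᵥ* S) j₀ / φ₀ j₀ with hc
  -- step 1: `s` acts on `W` by the scalar `c`
  have h1 : ∀ v ∈ W, S *ᵥ v = c • v := by
    intro v hv
    funext i
    have := commute_rkOne (hφ₀W v hv) (hs _ (rkOne_mem_radSub W v φ₀ hv hφ₀W)) i j₀
    rw [Pi.smul_apply, smul_eq_mul, hc]
    field_simp
    rw [this]
    ring
  -- step 2: `s` acts on the annihilator of `W` by `c`
  have h2 : ∀ φ : Fin n → F, (∀ w ∈ W, φ ⬝ᵥ w = 0) → φ ᵥ* S = c • φ := by
    intro φ hφ
    funext j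
    have := commute_rkOne (hφ v₀ hv₀W) (hs _ (rkOne_mem_radSub W v₀ φ hv₀W hφ)) i₀ j
    rw [h1 v₀ hv₀W, Pi.smul_apply, smul_eq_mul] at this
    rw [Pi.smul_apply, smul_eq_mul]
    have h3 : v₀ i₀ * (c * φ j) = v₀ i₀ * (φ ᵥ* S) j := by
      rw [← this]
      ring
    exact (mul_left_cancel₀ hi₀ h3).symm
  -- step 3: `s - c` maps into `W`
  have h3 : ∀ w, S *ᵥ w - c • w ∈ W := by
    intro w
    by_contra hcon
    obtain ⟨f, hf, hWf⟩ := Submodule.exists_le_ker_of_notMem hcon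
    have hφW : ∀ w' ∈ W, rowOf f ⬝ᵥ w' = 0 := by
      intro w' hw'
      rw [rowOf_dotProduct]
      exact hWf hw'
    apply hf
    rw [← rowOf_dotProduct, dotProduct_sub, Matrix.dotProduct_mulVec, h2 _ hφW,
      smul_dotProduct, dotProduct_smul, sub_self]
  -- step 4
  set Y : Matrix (Fin n) (Fin n) F := S - c • (1 : Matrix (Fin n) (Fin n) F) with hY
  have hYv : ∀ w, Y *ᵥ w = S *ᵥ w - c • w := by
    intro w
    rw [hY, Matrix.sub_mulVec, Matrix.smul_mulVec, Matrix.one_mulVec]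
  have hYY : Y * Y = 0 := by
    apply Matrix.mulVec_injective
    funext w
    rw [← Matrix.mulVec_mulVec, Matrix.zero_mulVec, hYv (Y *ᵥ w), hYv w, h1 _ (h3 w), sub_self]
  have hc0 : c ≠ 0 := by
    intro h0
    apply hv₀
    have := h1 v₀ hv₀W
    rw [h0, zero_smul] at this
    have h4 := inv_mulVec_mulVec s v₀
    rw [← hS, this, Matrix.mulVec_zero] at h4
    exact h4.symm
  set m := orderOf s with hm
  have hSm : S ^ m = 1 := by
    rw [hS, ← Matrix.SpecialLinearGroup.coe_pow, pow_orderOf_eq_one,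
      Matrix.SpecialLinearGroup.coe_one]
  have hSY : S = c • (1 + c⁻¹ • Y) := by
    rw [smul_add, smul_smul, mul_inv_cancel₀ hc0, one_smul, hY]
    abel
  have hYc : (c⁻¹ • Y) * (c⁻¹ • Y) = 0 := by
    rw [smul_mul_smul_comm, hYY, smul_zero]
  have hpow : S ^ m = c ^ m • (1 + m • (c⁻¹ • Y)) := by
    rw [hSY, smul_pow, one_add_pow_of_sq_zero _ hYc]
  rw [hSm] at hpow
  have hcm : c ^ m = 1 := by
    have h5 := congrArg (fun A : Matrix (Fin n) (Fin n) F => (A *ᵥ v₀) i₀) hpow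
    simp only [Matrix.one_mulVec, Matrix.smul_mulVec, Matrix.add_mulVec, Pi.smul_apply,
      Pi.add_apply, smul_eq_mul] at h5
    have hYv₀ : Y *ᵥ v₀ = 0 := by rw [hYv, h1 v₀ hv₀W, sub_self]
    rw [hYv₀] at h5
    simp only [Pi.zero_apply, mul_zero, smul_zero, add_zero] at h5
    have h6 : 1 * v₀ i₀ = c ^ m * v₀ i₀ := by rw [one_mul]; exact h5
    exact (mul_right_cancel₀ hi₀ h6).symm
  rw [hcm, one_smul] at hpow
  have hmF : (m : F) ≠ 0 := by
    rw [Ne, CharP.cast_eq_zero_iff F p]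
    exact hreg
  have hY0 : Y = 0 := by
    have h7 : m • (c⁻¹ • Y) = 0 := by
      have := hpow
      rw [eq_comm, add_eq_left] at this
      exact this
    rw [← Nat.cast_smul_eq_nsmul F, smul_smul] at h7
    rcases smul_eq_zero.mp h7 with h8 | h8
    · exfalso
      exact mul_ne_zero hmF (inv_ne_zero hc0) h8
    · exact h8
  have hSc : S = c • (1 : Matrix (Fin n) (Fin n) F) := by
    rw [hY0, eq_comm, sub_eq_zero] at hY
    exact hY
  rw [Matrix.SpecialLinearGroup.mem_center_iff]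
  refine ⟨c, ?_, ?_⟩
  · have hdet := s.2
    rw [← hS, hSc, Matrix.det_smul, Matrix.det_one, mul_one] at hdet
    exact hdet
  · rw [← hS, hSc]
    ext i j
    simp [Matrix.scalar_apply, Matrix.one_apply, Matrix.diagonal_apply]

/-- The natural representation of a subgroup of `SL_n(F)`. -/
def natRep (D : Subgroup (Matrix.SpecialLinearGroup (Fin n) F)) :
    Representation F D (Fin n → F) where
  toFun d := Matrix.mulVecLin ((d : Matrix.SpecialLinearGroup (Fin n) F) : Matrix (Fin n) (Fin n) F)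
  map_one' := by
    show Matrix.mulVecLin (((1 : D) : Matrix.SpecialLinearGroup (Fin n) F) :
      Matrix (Fin n) (Fin n) F) = 1
    rw [Subgroup.coe_one, Matrix.SpecialLinearGroup.coe_one, Matrix.mulVecLin_one]
    rfl
  map_mul' a b := by
    show Matrix.mulVecLin (((a * b : D) : Matrix.SpecialLinearGroup (Fin n) F) :
      Matrix (Fin n) (Fin n) F) = _
    rw [Subgroup.coe_mul, Matrix.SpecialLinearGroup.coe_mul, Matrix.mulVecLin_mul]
    rfl

theorem natRep_apply (D : Subgroup (Matrix.SpecialLinearGroup (Fin n) F)) (d : D)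
    (v : Fin n → F) : natRep D d v =
      ((d : Matrix.SpecialLinearGroup (Fin n) F) : Matrix (Fin n) (Fin n) F) *ᵥ v := rfl

theorem fixSp_ne_bot [Finite F] (p : ℕ) [Fact p.Prime] [CharP F p] (hn : 0 < n)
    (D : Subgroup (Matrix.SpecialLinearGroup (Fin n) F)) (hD : IsPGroup p D) :
    fixSp D ≠ ⊥ := by
  have : Nonempty (Fin n) := ⟨⟨0, hn⟩⟩
  have hbt : fixSeries (natRep D) 0 ≠ ⊤ := by
    rw [fixSeries_zero]
    exact bot_ne_top
  have hlt := fixSeries_lt_succ (natRep D) p hD 0 hbt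
  obtain ⟨v, hv1, hv0⟩ := SetLike.exists_of_lt hlt
  rw [fixSeries_zero, Submodule.mem_bot] at hv0
  intro hcon
  apply hv0
  have hvW : v ∈ fixSp D := by
    intro d hd
    have := (mem_fixSeries_succ (natRep D) 0 v).mp hv1 ⟨d, hd⟩
    rw [fixSeries_zero, Submodule.mem_bot, sub_eq_zero] at this
    exact this
  rw [hcon, Submodule.mem_bot] at hvW
  exact hvW

theorem fixSp_ne_top (D : Subgroup (Matrix.SpecialLinearGroup (Fin n) F)) (hD : D ≠ ⊥) :
    fixSp D ≠ ⊤ := by
  intro hcon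
  apply hD
  rw [Subgroup.eq_bot_iff_forall]
  intro d hd
  apply Subtype.ext
  apply Matrix.mulVec_injective
  funext v
  have hv : v ∈ fixSp D := by rw [hcon]; exact Submodule.mem_top
  rw [hv d hd, Matrix.SpecialLinearGroup.coe_one, Matrix.one_mulVec]

/-- A `p`-regular element centralizing a nontrivial radical `p`-subgroup of `SL_n(F)` is
central. -/
theorem mem_center_of_radical [Fintype F] [DecidableEq F] (p : ℕ) [Fact p.Prime] [CharP F p]
    (hn : 0 < n)
    (D : Subgroup (Matrix.SpecialLinearGroup (Fin n) F)) (hD : IsPGroup p D) (hD1 : D ≠ ⊥)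
    (hrad : (pCore p (Subgroup.normalizer (D : Set (Matrix.SpecialLinearGroup (Fin n) F)))).map
      (Subgroup.normalizer (D : Set (Matrix.SpecialLinearGroup (Fin n) F))).subtype ≤ D)
    (s : Matrix.SpecialLinearGroup (Fin n) F) (hs : ∀ d ∈ D, s * d = d * s)
    (hreg : ¬ p ∣ orderOf s) :
    s ∈ Subgroup.center (Matrix.SpecialLinearGroup (Fin n) F) := by
  have hle : radSub (fixSp D) ≤ D :=
    le_of_radical D (radSub (fixSp D)) hD (isPGroup_radSub p _) hrad
      (normalizer_le_normalizer_radSub D)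
  exact mem_center_of_commute_radSub p (fixSp D) (fixSp_ne_bot p hn D hD) (fixSp_ne_top D hD1) s
    (fun g hg => hs g (hle hg)) hreg

end Cfsg.Agent.Helper12.BlkSL
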