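import Mathlib
import Cfsg.Agent.Helper12.BlkSLD
import Cfsg.Agent.Helper5.HeightZero2
import Cfsg.Agent.S0955
import Cfsg.Agent.S0908
import Cfsg.Agent.S0931

/-!
Defect groups of `p`-blocks of `SL_n(F)` in the defining characteristic are trivial or Sylow.
-/

set_option autoImplicit false

namespace Cfsg.Agent.Helper12.BlkSL

open Cfsg Matrix

variable {F : Type*} [Field F] {n : ℕ}

theorem defectGroup_eq_bot_or_card [Fintype F] [DecidableEq F] (p : ℕ) [Fact p.Prime] [CharP F p]
    (hn : 0 < n) (M : Ideal AlgInt) (hM : IsPModular p M)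
    (B : Set (IrrCharacter (Matrix.SpecialLinearGroup (Fin n) F))) (hB : IsPBlock M B)
    (D : Subgroup (Matrix.SpecialLinearGroup (Fin n) F)) (hD : IsDefectGroup p M B D) :
    D = ⊥ ∨ Nat.card D = p ^ (Nat.card (Matrix.SpecialLinearGroup (Fin n) F)).factorization p := by
  classical
  have : Fintype (IrrCharacter (Matrix.SpecialLinearGroup (Fin n) F)) := Fintype.ofFinite _
  by_cases hD1 : D = ⊥
  · exact Or.inl hD1
  right
  have hrad := Cfsg.Agent.S0955.result p M hM B hB D hD
  obtain ⟨g, hg, P, hDP⟩ := hD
  have hreg := Cfsg.Agent.Helper5.CC.not_dvd_orderOf_of_defectClass hM hB hg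
  have hDp : IsPGroup p D := by
    rw [hDP]
    exact P.2.map _
  have hcomm : ∀ d ∈ D, g * d = d * g := by
    intro d hd
    rw [hDP] at hd
    obtain ⟨x, _, rfl⟩ := hd
    have := x.2
    rw [Subgroup.mem_centralizer_iff] at this
    exact this g rfl
  have hc := mem_center_of_radical p hn D hDp hD1 hrad.le g hcomm hreg
  have htop : Subgroup.centralizer ({g} : Set (Matrix.SpecialLinearGroup (Fin n) F)) = ⊤ := by
    rw [eq_top_iff]
    intro x _
    rw [Subgroup.mem_centralizer_iff]
    intro h hh
    rw [Set.mem_singleton_iff] at hh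
    rw [hh]
    exact (Subgroup.mem_center_iff.mp hc x).symm
  have hcard : Nat.card (Subgroup.centralizer ({g} : Set (Matrix.SpecialLinearGroup (Fin n) F))) =
      Nat.card (Matrix.SpecialLinearGroup (Fin n) F) := by
    rw [htop]
    exact Subgroup.card_top
  rw [hDP, Nat.card_congr (Subgroup.equivMapOfInjective _ _
    (Subgroup.subtype_injective _)).symm.toEquiv, Sylow.card_eq_multiplicity, hcard]

theorem blockDefect_eq_zero_or_full [Fintype F] [DecidableEq F] (p : ℕ) [Fact p.Prime] [CharP F p]
    (hn : 0 < n) (M : Ideal AlgInt) (hM : IsPModular p M)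
    (B : Set (IrrCharacter (Matrix.SpecialLinearGroup (Fin n) F))) (hB : IsPBlock M B) :
    blockDefect p B = 0 ∨
      blockDefect p B = (Nat.card (Matrix.SpecialLinearGroup (Fin n) F)).factorization p := by
  have hp : p.Prime := Fact.out
  obtain ⟨D, hD⟩ := Cfsg.Agent.S0931.exists_defectGroup p M hM B hB
  have hcard := Cfsg.Agent.S0908.result p M hM B hB D hD
  rcases defectGroup_eq_bot_or_card p hn M hM B hB D hD with h | h
  · left
    rw [h, Subgroup.card_bot] at hcard
    by_contra h0
    have := Nat.one_lt_pow h0 hp.one_lt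
    omega
  · right
    rw [h] at hcard
    exact (Nat.pow_right_injective hp.two_le hcard).symm

end Cfsg.Agent.Helper12.BlkSL
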