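import Mathlib
import Cfsg.Prelude.Def_Solvable

/-!
Counting the `p`-regular classes of `N_G(P)` inside `C_G(P)` when they are all central.
-/

set_option autoImplicit false

namespace Cfsg.Agent.Helper12.BlkSL

open Cfsg

variable {G : Type*} [Group G]

/-- A Sylow `p`-subgroup is radical. -/
theorem sylow_radical [Finite G] {p : ℕ} [Fact p.Prime] (P : Sylow p G) :
    (pCore p (Subgroup.normalizer ((P : Subgroup G) : Set G))).map
      (Subgroup.normalizer ((P : Subgroup G) : Set G)).subtype ≤ P := by
  set N := Subgroup.normalizer ((P : Subgroup G) : Set G) with hN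
  have hle : pCore p N ≤ (P : Subgroup G).subgroupOf N := by
    apply sSup_le
    rintro K ⟨hKn, hKp⟩
    intro k hk
    rw [Subgroup.mem_subgroupOf]
    have hKm : IsPGroup p (K.map N.subtype) := hKp.map _
    have hKN : K.map N.subtype ≤ Subgroup.normalizer ((P : Subgroup G) : Set G) := by
      rintro _ ⟨x, _, rfl⟩
      exact x.2
    have hsup : IsPGroup p ((P : Subgroup G) ⊔ K.map N.subtype : Subgroup G) :=
      IsPGroup.to_sup_of_normal_left' P.2 hKm hKN
    have heq : (P : Subgroup G) ⊔ K.map N.subtype = P := P.is_maximal' hsup le_sup_left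
    rw [← heq]
    exact Subgroup.mem_sup_right ⟨k, hk, rfl⟩
  rintro _ ⟨x, hx, rfl⟩
  exact Subgroup.mem_subgroupOf.mp (hle hx)

/-- If the `p`-regular elements of `C_G(P)` are exactly the central elements of `G`, the
`p`-regular classes of `N_G(P)` inside `C_G(P)` are as many as the central elements. -/
theorem card_regular_classes_eq_card_center {p : ℕ} (P : Subgroup G)
    (h1 : ∀ z ∈ Subgroup.center G, ¬ p ∣ orderOf z)
    (h2 : ∀ s ∈ Subgroup.centralizer (P : Set G), ¬ p ∣ orderOf s → s ∈ Subgroup.center G) :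
    Nat.card {C : ConjClasses (Subgroup.normalizer (P : Set G)) //
      ∀ n : Subgroup.normalizer (P : Set G), ConjClasses.mk n = C →
        ¬ p ∣ orderOf n ∧ (n : G) ∈ Subgroup.centralizer (P : Set G)} =
    Nat.card (Subgroup.center G) := by
  symm
  have hZN : ∀ z ∈ Subgroup.center G, z ∈ Subgroup.normalizer (P : Set G) := by
    intro z hz
    rw [Subgroup.mem_normalizer_iff]
    intro h
    have : z * h * z⁻¹ = h := by
      rw [(Subgroup.mem_center_iff.mp hz h).symm, mul_assoc, mul_inv_cancel, mul_one]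
    rw [this]
  have hconj : ∀ (z : G) (hz : z ∈ Subgroup.center G)
      (m : Subgroup.normalizer (P : Set G)),
      ConjClasses.mk m = ConjClasses.mk (⟨z, hZN z hz⟩ : Subgroup.normalizer (P : Set G)) →
        m = ⟨z, hZN z hz⟩ := by
    intro z hz m hm
    rw [ConjClasses.mk_eq_mk_iff_isConj, isConj_comm, isConj_iff] at hm
    obtain ⟨y, hy⟩ := hm
    rw [← hy]
    apply Subtype.ext
    show (y : G) * z * (y : G)⁻¹ = z
    rw [(Subgroup.mem_center_iff.mp hz (y : G)), mul_assoc, mul_inv_cancel, mul_one]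
  let f : Subgroup.center G → {C : ConjClasses (Subgroup.normalizer (P : Set G)) //
      ∀ n : Subgroup.normalizer (P : Set G), ConjClasses.mk n = C →
        ¬ p ∣ orderOf n ∧ (n : G) ∈ Subgroup.centralizer (P : Set G)} := fun z =>
    ⟨ConjClasses.mk ⟨z, hZN z z.2⟩, by
      intro m hm
      have := hconj z z.2 m hm
      rw [this]
      refine ⟨?_, ?_⟩
      · rw [← Subgroup.orderOf_coe]
        exact h1 z z.2
      · show (z : G) ∈ Subgroup.centralizer (P : Set G)
        rw [Subgroup.mem_centralizer_iff]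
        intro h _
        exact (Subgroup.mem_center_iff.mp z.2 h)⟩
  apply Nat.card_congr (Equiv.ofBijective f ⟨?_, ?_⟩)
  · intro z z' hzz'
    have h3 := congrArg Subtype.val hzz'
    have h4 := hconj z' z'.2 ⟨z, hZN z z.2⟩ h3
    apply Subtype.ext
    exact congrArg (fun t : Subgroup.normalizer (P : Set G) => (t : G)) h4
  · rintro ⟨C, hC⟩
    obtain ⟨m, rfl⟩ := ConjClasses.mk_surjective C
    obtain ⟨hm1, hm2⟩ := hC m rfl
    rw [← Subgroup.orderOf_coe] at hm1
    have hmz := h2 _ hm2 hm1
    refine ⟨⟨m, hmz⟩, ?_⟩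
    apply Subtype.ext
    rfl

end Cfsg.Agent.Helper12.BlkSL
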