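import Mathlib
import Cfsg.Agent.S0263
import Cfsg.Agent.Helper2.SLCard

/-!
The order of a Sylow `p`-subgroup of `PSL_n(q)` in the defining characteristic.
-/

set_option autoImplicit false

namespace Cfsg.Agent.Helper12.Stein

open Cfsg
open scoped MatrixGroups

theorem not_dvd_card_units {F : Type*} [Field F] [Fintype F] (p : ℕ) [Fact p.Prime] [CharP F p] :
    ¬ p ∣ Nat.card Fˣ := by
  have hp : p.Prime := Fact.out
  obtain ⟨f, _, hq⟩ := FiniteField.card F p
  have h1 : p ∣ Fintype.card F := by
    rw [hq]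
    exact dvd_pow_self p f.pos.ne'
  have h2 := Nat.card_eq_card_units_add_one F
  rw [Nat.card_eq_fintype_card] at h2
  intro h
  rw [h2] at h1
  have : p ∣ 1 := (Nat.dvd_add_right h).mp h1
  exact hp.one_lt.ne' (Nat.dvd_one.mp this)

theorem factorization_card_PSL {F : Type*} [Field F] [Fintype F] (p : ℕ) [Fact p.Prime]
    [CharP F p] (n : ℕ) (hn : 1 ≤ n) :
    (Nat.card (Matrix.ProjectiveSpecialLinearGroup (Fin n) F)).factorization p =
      (Nat.card (GL (Fin n) F)).factorization p := by
  classical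
  have hp : p.Prime := Fact.out
  have : Nonempty (Fin n) := ⟨⟨0, hn⟩⟩
  have h1 := Cfsg.Agent.Helper2.card_SL_mul_card_units (ι := Fin n) (F := F)
  have h2 : Nat.card (Matrix.SpecialLinearGroup (Fin n) F) =
      Nat.card (Matrix.ProjectiveSpecialLinearGroup (Fin n) F) *
        Nat.card (Subgroup.center (Matrix.SpecialLinearGroup (Fin n) F)) :=
    Subgroup.card_eq_card_quotient_mul_card_subgroup _
  have h3 := Cfsg.Agent.Helper2.card_center_SL (F := F) n hn
  have hu := not_dvd_card_units (F := F) p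
  have hz : ¬ p ∣ Nat.card (Subgroup.center (Matrix.SpecialLinearGroup (Fin n) F)) := by
    rw [h3]
    intro h
    exact hu (h.trans (Nat.gcd_dvd_right _ _))
  rw [← h1, h2, Nat.factorization_mul (Nat.mul_ne_zero Nat.card_pos.ne' Nat.card_pos.ne')
    Nat.card_pos.ne', Nat.factorization_mul Nat.card_pos.ne' Nat.card_pos.ne']
  simp only [Finsupp.coe_add, Pi.add_apply]
  rw [Nat.factorization_eq_zero_of_not_dvd hz, Nat.factorization_eq_zero_of_not_dvd hu, add_zero,
    add_zero]

theorem card_sylow_PSL {F : Type*} [Field F] [Fintype F] (p : ℕ) [Fact p.Prime]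
    [CharP F p] (n : ℕ) (hn : 1 ≤ n)
    (P : Sylow p (Matrix.ProjectiveSpecialLinearGroup (Fin n) F)) :
    Nat.card P = Fintype.card F ^ (n * (n - 1) / 2) := by
  classical
  have hG := Cfsg.Agent.S0263.result (F := F) rfl p n (default : Sylow p (GL (Fin n) F))
  rw [Sylow.card_eq_multiplicity] at hG
  rw [Sylow.card_eq_multiplicity, factorization_card_PSL p n hn, hG]

end Cfsg.Agent.Helper12.Stein
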