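import Mathlib
import Cfsg.Agent.Helper12.BlkSLE
import Cfsg.Agent.Helper12.BlkSLF
import Cfsg.Agent.Helper12.SteinN
import Cfsg.Agent.S0953

/-!
The `p`-blocks of `SL_n(F)` of full defect are as many as the central elements.
-/

set_option autoImplicit false

namespace Cfsg.Agent.Helper12.BlkSL

open Cfsg Matrix
open scoped MatrixGroups

variable {F : Type*} [Field F] {n : ℕ}

theorem factorization_card_SL [Fintype F] (p : ℕ) [Fact p.Prime] [CharP F p] (hn : 1 ≤ n) :
    (Nat.card (Matrix.SpecialLinearGroup (Fin n) F)).factorization p =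
      (Nat.card (GL (Fin n) F)).factorization p := by
  classical
  have : Nonempty (Fin n) := ⟨⟨0, hn⟩⟩
  have h1 := Cfsg.Agent.Helper2.card_SL_mul_card_units (ι := Fin n) (F := F)
  have hu := Cfsg.Agent.Helper12.Stein.not_dvd_card_units (F := F) p
  rw [← h1, Nat.factorization_mul Nat.card_pos.ne' Nat.card_pos.ne']
  simp only [Finsupp.coe_add, Pi.add_apply]
  rw [Nat.factorization_eq_zero_of_not_dvd hu, add_zero]

theorem card_sylow_SL [Fintype F] (p : ℕ) [Fact p.Prime] [CharP F p] (hn : 1 ≤ n)
    (P : Sylow p (Matrix.SpecialLinearGroup (Fin n) F)) :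
    Nat.card P = Fintype.card F ^ (n * (n - 1) / 2) := by
  classical
  have hG := Cfsg.Agent.S0263.result (F := F) rfl p n (default : Sylow p (GL (Fin n) F))
  rw [Sylow.card_eq_multiplicity] at hG
  rw [Sylow.card_eq_multiplicity, factorization_card_SL p hn, hG]

theorem sylow_SL_ne_bot [Fintype F] (p : ℕ) [Fact p.Prime] [CharP F p] (hn : 2 ≤ n)
    (P : Sylow p (Matrix.SpecialLinearGroup (Fin n) F)) :
    (P : Subgroup (Matrix.SpecialLinearGroup (Fin n) F)) ≠ ⊥ := by
  intro h
  have h1 := card_sylow_SL p (by omega) P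
  have h2 : Nat.card (P : Subgroup (Matrix.SpecialLinearGroup (Fin n) F)) = 1 := by
    rw [h]
    exact Subgroup.card_bot
  have h3 : Nat.card P = 1 := h2
  rw [h3] at h1
  have hq : 1 < Fintype.card F := Fintype.one_lt_card
  have hN : n * (n - 1) / 2 ≠ 0 := by
    have : 2 ≤ n * (n - 1) := by
      have h4 : 1 ≤ n - 1 := by omega
      nlinarith
    omega
  have := Nat.one_lt_pow hN hq
  omega

theorem not_dvd_orderOf_of_mem_center [Fintype F] (p : ℕ) [Fact p.Prime] [CharP F p]
    (hn : 1 ≤ n) (z : Matrix.SpecialLinearGroup (Fin n) F)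
    (hz : z ∈ Subgroup.center (Matrix.SpecialLinearGroup (Fin n) F)) : ¬ p ∣ orderOf z := by
  classical
  intro h
  have h1 : orderOf (⟨z, hz⟩ : Subgroup.center (Matrix.SpecialLinearGroup (Fin n) F)) ∣
      Nat.card (Subgroup.center (Matrix.SpecialLinearGroup (Fin n) F)) := orderOf_dvd_natCard _
  rw [← Subgroup.orderOf_coe, Cfsg.Agent.Helper2.card_center_SL (F := F) n hn] at h1
  exact Cfsg.Agent.Helper12.Stein.not_dvd_card_units (F := F) p
    ((h.trans h1).trans (Nat.gcd_dvd_right _ _))

/-- The number of `p`-blocks of `SL_n(F)` with a given Sylow `p`-subgroup as defect group. -/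
theorem card_blocks_sylow [Fintype F] [DecidableEq F] (p : ℕ) [Fact p.Prime] [CharP F p]
    (hn : 2 ≤ n) (M : Ideal AlgInt) (hM : IsPModular p M)
    (P : Sylow p (Matrix.SpecialLinearGroup (Fin n) F)) :
    Nat.card {B : Set (IrrCharacter (Matrix.SpecialLinearGroup (Fin n) F)) //
      IsPBlock M B ∧ IsDefectGroup p M B (P : Subgroup (Matrix.SpecialLinearGroup (Fin n) F))} =
    Nat.card (Subgroup.center (Matrix.SpecialLinearGroup (Fin n) F)) := by
  rw [Cfsg.Agent.S0953.result p M hM P]
  apply card_regular_classes_eq_card_center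
  · intro z hz
    exact not_dvd_orderOf_of_mem_center p (by omega) z hz
  · intro s hs hreg
    have hcomm : ∀ d ∈ (P : Subgroup (Matrix.SpecialLinearGroup (Fin n) F)), s * d = d * s := by
      intro d hd
      rw [Subgroup.mem_centralizer_iff] at hs
      exact (hs d hd).symm
    exact mem_center_of_radical p (by omega) (P : Subgroup (Matrix.SpecialLinearGroup (Fin n) F))
      P.2 (sylow_SL_ne_bot p hn P) (sylow_radical P) s hcomm hreg

end Cfsg.Agent.Helper12.BlkSL
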