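import Mathlib

/-!
Gelfand's trick, operator form: the `(U, ψ)`-projector of a representation and the operators
`E ρ(x) E`.
-/

set_option autoImplicit false

namespace Cfsg.Agent.Helper12.GG

open Finset

variable {G : Type*} [Group G] {V : Type*} [AddCommGroup V] [Module ℂ V]

/-- The `(U, ψ)`-projector. -/
noncomputable def proj (ρ : Representation ℂ G V) (U : Subgroup G) [Fintype U] (ψ : U →* ℂˣ) :
    Module.End ℂ V :=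
  (Nat.card U : ℂ)⁻¹ • ∑ u : U, (((ψ u)⁻¹ : ℂˣ) : ℂ) • ρ (u : G)

variable (ρ : Representation ℂ G V) (U : Subgroup G) [Fintype U] (ψ : U →* ℂˣ)

theorem rho_mul_sum (u₀ : U) :
    ρ (u₀ : G) * ∑ u : U, (((ψ u)⁻¹ : ℂˣ) : ℂ) • ρ (u : G) =
      ((ψ u₀ : ℂˣ) : ℂ) • ∑ u : U, (((ψ u)⁻¹ : ℂˣ) : ℂ) • ρ (u : G) := by
  rw [Finset.mul_sum, Finset.smul_sum]
  rw [← Fintype.sum_equiv (Equiv.mulLeft u₀) (fun u => (((ψ u₀ : ℂˣ) : ℂ) *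
    (((ψ (u₀ * u))⁻¹ : ℂˣ) : ℂ)) • ρ ((u₀ * u : U) : G))
    (fun u => ((ψ u₀ : ℂˣ) : ℂ) • ((((ψ u)⁻¹ : ℂˣ) : ℂ) • ρ (u : G)))
    (fun u => by simp [smul_smul])]
  apply Finset.sum_congr rfl
  intro u _
  rw [mul_smul_comm, map_mul, mul_inv_rev, Units.val_mul, ← mul_assoc,
    ← Units.val_mul, ← Units.val_mul, Subgroup.coe_mul, map_mul]
  congr 2
  rw [mul_comm (ψ u₀), mul_assoc, mul_inv_cancel, mul_one]

theorem sum_mul_rho (u₀ : U) :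
    (∑ u : U, (((ψ u)⁻¹ : ℂˣ) : ℂ) • ρ (u : G)) * ρ (u₀ : G) =
      ((ψ u₀ : ℂˣ) : ℂ) • ∑ u : U, (((ψ u)⁻¹ : ℂˣ) : ℂ) • ρ (u : G) := by
  rw [Finset.sum_mul, Finset.smul_sum]
  rw [← Fintype.sum_equiv (Equiv.mulRight u₀) (fun u => (((ψ u₀ : ℂˣ) : ℂ) *
    (((ψ (u * u₀))⁻¹ : ℂˣ) : ℂ)) • ρ ((u * u₀ : U) : G))
    (fun u => ((ψ u₀ : ℂˣ) : ℂ) • ((((ψ u)⁻¹ : ℂˣ) : ℂ) • ρ (u : G)))
    (fun u => by simp [smul_smul])]
  apply Finset.sum_congr rfl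
  intro u _
  rw [smul_mul_assoc, map_mul, mul_inv_rev, Units.val_mul, ← mul_assoc,
    ← Units.val_mul, mul_inv_cancel, Units.val_one, one_mul, Subgroup.coe_mul, map_mul]

theorem rho_mul_proj (u₀ : U) :
    ρ (u₀ : G) * proj ρ U ψ = ((ψ u₀ : ℂˣ) : ℂ) • proj ρ U ψ := by
  unfold proj
  rw [mul_smul_comm, rho_mul_sum, smul_comm]

theorem proj_mul_rho (u₀ : U) :
    proj ρ U ψ * ρ (u₀ : G) = ((ψ u₀ : ℂˣ) : ℂ) • proj ρ U ψ := by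
  unfold proj
  rw [smul_mul_assoc, sum_mul_rho, smul_comm]

theorem proj_mul_proj : proj ρ U ψ * proj ρ U ψ = proj ρ U ψ := by
  have hU : (Nat.card U : ℂ) ≠ 0 := by
    rw [Nat.cast_ne_zero]
    exact Nat.card_pos.ne'
  have h1 : proj ρ U ψ * proj ρ U ψ =
      (Nat.card U : ℂ)⁻¹ • ∑ u : U, (((ψ u)⁻¹ : ℂˣ) : ℂ) • (ρ (u : G) * proj ρ U ψ) := by
    have h0 : proj ρ U ψ * proj ρ U ψ =
        ((Nat.card U : ℂ)⁻¹ • ∑ u : U, (((ψ u)⁻¹ : ℂˣ) : ℂ) • ρ (u : G)) * proj ρ U ψ := rfl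
    rw [h0, smul_mul_assoc, Finset.sum_mul]
    simp only [smul_mul_assoc]
  rw [h1]
  have h2 : ∀ u : U, (((ψ u)⁻¹ : ℂˣ) : ℂ) • (ρ (u : G) * proj ρ U ψ) = proj ρ U ψ := by
    intro u
    rw [rho_mul_proj, smul_smul, ← Units.val_mul, inv_mul_cancel, Units.val_one, one_smul]
  rw [Finset.sum_congr rfl (fun u _ => h2 u), Finset.sum_const, Finset.card_univ,
    ← Nat.card_eq_fintype_card, ← Nat.cast_smul_eq_nsmul ℂ, smul_smul, inv_mul_cancel₀ hU,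
    one_smul]

/-- The operator `E ρ(x) E`. -/
noncomputable def tOp (x : G) : Module.End ℂ V := proj ρ U ψ * ρ x * proj ρ U ψ

theorem tOp_mul_left (u : U) (x : G) :
    tOp ρ U ψ ((u : G) * x) = ((ψ u : ℂˣ) : ℂ) • tOp ρ U ψ x := by
  unfold tOp
  rw [map_mul, ← mul_assoc (proj ρ U ψ), proj_mul_rho, smul_mul_assoc, smul_mul_assoc]

theorem tOp_mul_right (x : G) (u : U) :
    tOp ρ U ψ (x * (u : G)) = ((ψ u : ℂˣ) : ℂ) • tOp ρ U ψ x := by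
  unfold tOp
  rw [map_mul, mul_assoc, mul_assoc, rho_mul_proj, mul_smul_comm, mul_smul_comm, mul_assoc]

theorem tOp_mul_tOp (g h : G) :
    tOp ρ U ψ g * tOp ρ U ψ h =
      (Nat.card U : ℂ)⁻¹ • ∑ u : U, (((ψ u)⁻¹ : ℂˣ) : ℂ) • tOp ρ U ψ (g * (u : G) * h) := by
  have h1 : tOp ρ U ψ g * tOp ρ U ψ h =
      proj ρ U ψ * ρ g * proj ρ U ψ * ρ h * proj ρ U ψ := by
    unfold tOp
    calc proj ρ U ψ * ρ g * proj ρ U ψ * (proj ρ U ψ * ρ h * proj ρ U ψ)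
        = proj ρ U ψ * ρ g * (proj ρ U ψ * proj ρ U ψ) * ρ h * proj ρ U ψ := by
          simp only [mul_assoc]
      _ = _ := by rw [proj_mul_proj]
  rw [h1]
  have h2 : proj ρ U ψ * ρ g * proj ρ U ψ * ρ h * proj ρ U ψ =
      proj ρ U ψ * ρ g * ((Nat.card U : ℂ)⁻¹ • ∑ u : U, (((ψ u)⁻¹ : ℂˣ) : ℂ) • ρ (u : G)) *
        ρ h * proj ρ U ψ := by
    conv_lhs => enter [1, 1, 2]; rw [proj]
  rw [h2, mul_smul_comm, smul_mul_assoc, smul_mul_assoc]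
  congr 1
  rw [Finset.mul_sum, Finset.sum_mul, Finset.sum_mul]
  apply Finset.sum_congr rfl
  intro u _
  rw [mul_smul_comm, smul_mul_assoc, smul_mul_assoc]
  congr 1
  unfold tOp
  rw [map_mul, map_mul]
  simp only [mul_assoc]

end Cfsg.Agent.Helper12.GG
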