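import Mathlib
import Cfsg.Agent.Helper12.GGAbsA

/-!
Trace and range of the `(U, ψ)`-projector.
-/

set_option autoImplicit false

namespace Cfsg.Agent.Helper12.GG

open Finset

variable {G : Type*} [Group G] {V : Type*} [AddCommGroup V] [Module ℂ V]
variable (ρ : Representation ℂ G V) (U : Subgroup G) [Fintype U] (ψ : U →* ℂˣ)

theorem trace_proj [FiniteDimensional ℂ V] :
    LinearMap.trace ℂ V (proj ρ U ψ) =
      (Nat.card U : ℂ)⁻¹ * ∑ u : U, (((ψ u)⁻¹ : ℂˣ) : ℂ) * ρ.character (u : G) := by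
  unfold proj
  rw [map_smul, map_sum, smul_eq_mul]
  congr 1
  apply Finset.sum_congr rfl
  intro u _
  rw [map_smul, smul_eq_mul]
  rfl

theorem trace_proj_eq_finrank [FiniteDimensional ℂ V] :
    LinearMap.trace ℂ V (proj ρ U ψ) =
      (Module.finrank ℂ (LinearMap.range (proj ρ U ψ)) : ℂ) := by
  have h1 : IsIdempotentElem (proj ρ U ψ) := proj_mul_proj ρ U ψ
  exact (LinearMap.IsIdempotentElem.isProj_range _ h1).trace

theorem proj_apply_of_eigen {v : V} (hv : ∀ u : U, ρ (u : G) v = ((ψ u : ℂˣ) : ℂ) • v) :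
    proj ρ U ψ v = v := by
  have hU : (Nat.card U : ℂ) ≠ 0 := by
    rw [Nat.cast_ne_zero]
    exact Nat.card_pos.ne'
  unfold proj
  rw [LinearMap.smul_apply, LinearMap.sum_apply]
  have h2 : ∀ u : U, ((((ψ u)⁻¹ : ℂˣ) : ℂ) • ρ (u : G)) v = v := by
    intro u
    rw [LinearMap.smul_apply, hv u, smul_smul, ← Units.val_mul, inv_mul_cancel, Units.val_one,
      one_smul]
  rw [Finset.sum_congr rfl (fun u _ => h2 u), Finset.sum_const, Finset.card_univ,
    ← Nat.card_eq_fintype_card, ← Nat.cast_smul_eq_nsmul ℂ, smul_smul, inv_mul_cancel₀ hU,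
    one_smul]

theorem mem_range_proj_iff (v : V) :
    v ∈ LinearMap.range (proj ρ U ψ) ↔ ∀ u : U, ρ (u : G) v = ((ψ u : ℂˣ) : ℂ) • v := by
  constructor
  · rintro ⟨w, rfl⟩ u
    have h := rho_mul_proj ρ U ψ u
    have h2 := congrArg (fun f : Module.End ℂ V => f w) h
    simpa using h2
  · intro hv
    exact ⟨v, proj_apply_of_eigen ρ U ψ hv⟩

end Cfsg.Agent.Helper12.GG
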