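import Mathlib
import Cfsg.Agent.Helper12.GGAbsC

/-!
The rank-one Hecke relation for the `U`-fixed projector: if `s u s ∈ U ∪ U s N(U) U` for all
`u ∈ U`, then `E ρ(s) E ≠ 0`; consequently the eigencharacter of the normaliser on a
one-dimensional fixed space is `s`-invariant.
-/

set_option autoImplicit false

namespace Cfsg.Agent.Helper12.GG

open Finset

variable {G : Type*} [Group G] {V : Type*} [AddCommGroup V] [Module ℂ V]
variable (ρ : Representation ℂ G V) (U : Subgroup G) [Fintype U]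

theorem rho_comm_proj_one (t : G) (ht : t ∈ Subgroup.normalizer (U : Set G)) :
    ρ t * proj ρ U 1 = proj ρ U 1 * ρ t := by
  unfold proj
  rw [mul_smul_comm, smul_mul_assoc, Finset.mul_sum, Finset.sum_mul]
  congr 1
  have hmem : ∀ u : U, t * (u : G) * t⁻¹ ∈ U := fun u =>
    (Subgroup.mem_normalizer_iff.mp ht (u : G)).mp u.2
  have hmem' : ∀ u : U, t⁻¹ * (u : G) * t ∈ U := fun u => by
    have := (Subgroup.mem_normalizer_iff.mp ((Subgroup.normalizer (U : Set G)).inv_mem ht) (u : G)).mp u.2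
    rwa [inv_inv] at this
  let e : U ≃ U :=
    { toFun := fun u => ⟨t * (u : G) * t⁻¹, hmem u⟩
      invFun := fun u => ⟨t⁻¹ * (u : G) * t, hmem' u⟩
      left_inv := fun u => by
        apply Subtype.ext
        show t⁻¹ * (t * (u : G) * t⁻¹) * t = u
        group
      right_inv := fun u => by
        apply Subtype.ext
        show t * (t⁻¹ * (u : G) * t) * t⁻¹ = u
        group }
  rw [← Fintype.sum_equiv e (fun u => ((((1 : U →* ℂˣ) (e u))⁻¹ : ℂˣ) : ℂ) • ρ ((e u : U) : G) * ρ t)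
    (fun u => ((((1 : U →* ℂˣ) u)⁻¹ : ℂˣ) : ℂ) • ρ (u : G) * ρ t) (fun u => rfl)]
  apply Finset.sum_congr rfl
  intro u _
  simp only [MonoidHom.one_apply, inv_one, Units.val_one, one_smul]
  show ρ t * ρ (u : G) = ρ (t * (u : G) * t⁻¹) * ρ t
  rw [← map_mul, ← map_mul]
  congr 1
  group

theorem tOp_one_of_mem (x : G) (hx : x ∈ U) : tOp ρ U 1 x = proj ρ U 1 := by
  have h := tOp_mul_left ρ U 1 ⟨x, hx⟩ 1
  simp only [MonoidHom.one_apply, Units.val_one, one_smul, mul_one] at h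
  rw [h]
  unfold tOp
  rw [map_one, mul_one, proj_mul_proj]

theorem tOp_ne_zero_of_hecke (s : G) (hs : s * s = 1) (hP : proj ρ U 1 ≠ 0)
    (hU : ∀ u : U, s * (u : G) * s ∈ U ∨
      ∃ u₁ u₂ : U, ∃ t ∈ Subgroup.normalizer (U : Set G), s * (u : G) * s = (u₁ : G) * s * t * (u₂ : G)) :
    tOp ρ U 1 s ≠ 0 := by
  classical
  intro h0
  have hcard : (Nat.card U : ℂ) ≠ 0 := by
    rw [Nat.cast_ne_zero]
    exact Nat.card_pos.ne'
  have h1 := tOp_mul_tOp ρ U 1 s s
  rw [h0, mul_zero] at h1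
  have h2 : ∀ u : U, ((((1 : U →* ℂˣ) u)⁻¹ : ℂˣ) : ℂ) • tOp ρ U 1 (s * (u : G) * s) =
      (if s * (u : G) * s ∈ U then (1 : ℂ) else 0) • proj ρ U 1 := by
    intro u
    simp only [MonoidHom.one_apply, inv_one, Units.val_one, one_smul]
    by_cases hu : s * (u : G) * s ∈ U
    · rw [if_pos hu, one_smul]
      exact tOp_one_of_mem ρ U _ hu
    · rw [if_neg hu, zero_smul]
      rcases hU u with h | ⟨u₁, u₂, t, ht, h⟩
      · exact absurd h hu
      · rw [h]
        have e1 : (u₁ : G) * s * t * (u₂ : G) = (u₁ : G) * ((s * t) * (u₂ : G)) := by group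
        rw [e1, tOp_mul_left, tOp_mul_right]
        simp only [MonoidHom.one_apply, Units.val_one, one_smul]
        unfold tOp
        rw [map_mul, mul_assoc, mul_assoc, rho_comm_proj_one ρ U t ht, ← mul_assoc, ← mul_assoc]
        have : proj ρ U 1 * ρ s * proj ρ U 1 = 0 := h0
        rw [this, zero_mul]
  rw [Finset.sum_congr rfl (fun u _ => h2 u), ← Finset.sum_smul] at h1
  have h3 : (∑ u : U, (if s * (u : G) * s ∈ U then (1 : ℂ) else 0)) ≠ 0 := by
    have h4 : (∑ u : U, (if s * (u : G) * s ∈ U then (1 : ℂ) else 0)) =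
        ((Finset.univ.filter (fun u : U => s * (u : G) * s ∈ U)).card : ℂ) := by
      rw [Finset.sum_boole]
    rw [h4, Nat.cast_ne_zero]
    apply Finset.card_ne_zero_of_mem (a := (1 : U))
    rw [Finset.mem_filter]
    refine ⟨Finset.mem_univ _, ?_⟩
    rw [Subgroup.coe_one, mul_one, hs]
    exact U.one_mem
  have h5 := h1.symm
  rw [smul_eq_zero] at h5
  rcases h5 with h5 | h5
  · exact (inv_ne_zero hcard) h5
  · rw [smul_eq_zero] at h5
    rcases h5 with h5 | h5
    · exact h3 h5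
    · exact hP h5

/-- Invariance of the eigenvalue on a one-dimensional `U`-fixed space. -/
theorem eigen_invariant (s t : G) (ht : t ∈ Subgroup.normalizer (U : Set G)) (v : V)
    (hrank : ∀ w ∈ LinearMap.range (proj ρ U 1), ∃ a : ℂ, w = a • v)
    (hτ : tOp ρ U 1 s ≠ 0) (l l' : ℂ) (h1 : ρ t v = l • v) (h2 : ρ (s⁻¹ * t * s) v = l' • v) :
    l = l' := by
  obtain ⟨κ, hκ⟩ := hrank (proj ρ U 1 (ρ s v)) ⟨_, rfl⟩
  have hv0 : v ≠ 0 := by
    intro hv0
    apply hτ
    apply LinearMap.ext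
    intro x
    obtain ⟨a, ha⟩ := hrank (proj ρ U 1 x) ⟨_, rfl⟩
    unfold tOp
    rw [Module.End.mul_apply, Module.End.mul_apply, ha, hv0, smul_zero, map_zero, map_zero,
      LinearMap.zero_apply]
  have hκ0 : κ ≠ 0 := by
    intro hκ0
    apply hτ
    apply LinearMap.ext
    intro x
    obtain ⟨a, ha⟩ := hrank (proj ρ U 1 x) ⟨_, rfl⟩
    unfold tOp
    rw [Module.End.mul_apply, Module.End.mul_apply, ha, map_smul, map_smul, hκ, hκ0, zero_smul,
      smul_zero, LinearMap.zero_apply]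
  have h3 : ρ t (proj ρ U 1 (ρ s v)) = (κ * l) • v := by
    rw [hκ, map_smul, h1, smul_smul]
  have h4 : ρ t (proj ρ U 1 (ρ s v)) = (l' * κ) • v := by
    have e1 : ρ t (proj ρ U 1 (ρ s v)) = (ρ t * proj ρ U 1) (ρ s v) := rfl
    rw [e1, rho_comm_proj_one ρ U t ht, Module.End.mul_apply]
    have e2 : ρ t (ρ s v) = ρ s (ρ (s⁻¹ * t * s) v) := by
      rw [← Module.End.mul_apply, ← Module.End.mul_apply, ← map_mul, ← map_mul]
      congr 2
      group
    rw [e2, h2, map_smul, map_smul, hκ, smul_smul]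
  rw [h3] at h4
  have h5 : (κ * l - l' * κ) • v = 0 := by
    rw [sub_smul, h4, sub_self]
  rcases smul_eq_zero.mp h5 with h6 | h6
  · have : κ * (l - l') = 0 := by linear_combination h6
    rcases mul_eq_zero.mp this with h7 | h7
    · exact absurd h7 hκ0
    · exact sub_eq_zero.mp h7
  · exact absurd h6 hv0

end Cfsg.Agent.Helper12.GG
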