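import Mathlib
import Cfsg.Prelude.Def_ParabolicCharacters

/-!
The upper unitriangular subgroup of `GL_n(F)` and its nondegenerate linear character.
-/

set_option autoImplicit false

namespace Cfsg.Agent.Helper12.GG

open Cfsg Matrix Finset
open scoped MatrixGroups

variable {F : Type*} [Field F] {n : ℕ}

theorem upper_mul_diag {A B : Matrix (Fin n) (Fin n) F} (hA : A.BlockTriangular id)
    (hB : B.BlockTriangular id) (i : Fin n) : (A * B) i i = A i i * B i i := by
  rw [Matrix.mul_apply]
  apply Finset.sum_eq_single i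
  · intro k _ hk
    rcases lt_or_gt_of_ne hk with h | h
    · rw [hA h, zero_mul]
    · rw [hB h, mul_zero]
  · intro h
    exact absurd (Finset.mem_univ i) h

/-- The upper unitriangular subgroup. -/
def unitri (n : ℕ) (F : Type*) [Field F] : Subgroup (GL (Fin n) F) where
  carrier := {g | (g : Matrix (Fin n) (Fin n) F).BlockTriangular id ∧
    ∀ i, (g : Matrix (Fin n) (Fin n) F) i i = 1}
  mul_mem' := fun {a} {b} ha hb => by
    refine ⟨(upperTriangularGL n F).mul_mem ha.1 hb.1, ?_⟩
    intro i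
    rw [Units.val_mul, upper_mul_diag ha.1 hb.1, ha.2, hb.2, mul_one]
  one_mem' := by
    refine ⟨(upperTriangularGL n F).one_mem, ?_⟩
    intro i
    rw [Units.val_one, Matrix.one_apply_eq]
  inv_mem' := fun {a} ha => by
    have h1 : ((a⁻¹ : GL (Fin n) F) : Matrix (Fin n) (Fin n) F).BlockTriangular id :=
      (upperTriangularGL n F).inv_mem ha.1
    refine ⟨h1, ?_⟩
    intro i
    have h2 := upper_mul_diag h1 ha.1 i
    rw [← Units.val_mul, inv_mul_cancel, Units.val_one, Matrix.one_apply_eq, ha.2, mul_one] at h2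
    exact h2.symm

theorem mem_unitri {g : GL (Fin n) F} : g ∈ unitri n F ↔
    (g : Matrix (Fin n) (Fin n) F).BlockTriangular id ∧
      ∀ i, (g : Matrix (Fin n) (Fin n) F) i i = 1 := Iff.rfl

theorem unitri_le_upper : unitri n F ≤ upperTriangularGL n F := fun _ h => h.1

/-- The sum of the entries on the first superdiagonal. -/
def supSum (M : Matrix (Fin n) (Fin n) F) : F :=
  ∑ i : Fin n, if h : i.val + 1 < n then M i ⟨i.val + 1, h⟩ else 0

theorem unitri_mul_sup {a b : GL (Fin n) F} (ha : a ∈ unitri n F) (hb : b ∈ unitri n F)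
    (i : Fin n) (h : i.val + 1 < n) :
    ((a * b : GL (Fin n) F) : Matrix (Fin n) (Fin n) F) i ⟨i.val + 1, h⟩ =
      (a : Matrix (Fin n) (Fin n) F) i ⟨i.val + 1, h⟩ +
        (b : Matrix (Fin n) (Fin n) F) i ⟨i.val + 1, h⟩ := by
  rw [Units.val_mul, Matrix.mul_apply]
  have hne : i ≠ ⟨i.val + 1, h⟩ := by
    intro hcon
    have := congrArg Fin.val hcon
    simp at this
  rw [Finset.sum_eq_add_of_mem i ⟨i.val + 1, h⟩ (Finset.mem_univ _) (Finset.mem_univ _) hne]
  · rw [ha.2, hb.2, one_mul, mul_one, add_comm]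
  · intro k _ hk
    by_cases hki : k < i
    · rw [ha.1 hki, zero_mul]
    · have hk2 : (⟨i.val + 1, h⟩ : Fin n) < k := by
        rw [Fin.lt_def]
        have h1 : k.val ≠ i.val := fun hh => hk.1 (Fin.ext hh)
        have h2 : k.val ≠ i.val + 1 := fun hh => hk.2 (Fin.ext hh)
        have h3 : ¬ k.val < i.val := hki
        show i.val + 1 < k.val
        omega
      rw [hb.1 hk2, mul_zero]

theorem supSum_mul {a b : GL (Fin n) F} (ha : a ∈ unitri n F) (hb : b ∈ unitri n F) :
    supSum ((a * b : GL (Fin n) F) : Matrix (Fin n) (Fin n) F) =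
      supSum (a : Matrix (Fin n) (Fin n) F) + supSum (b : Matrix (Fin n) (Fin n) F) := by
  unfold supSum
  rw [← Finset.sum_add_distrib]
  apply Finset.sum_congr rfl
  intro i _
  by_cases h : i.val + 1 < n
  · rw [dif_pos h, dif_pos h, dif_pos h, unitri_mul_sup ha hb]
  · rw [dif_neg h, dif_neg h, dif_neg h, add_zero]

theorem supSum_one : supSum (1 : Matrix (Fin n) (Fin n) F) = 0 := by
  unfold supSum
  apply Finset.sum_eq_zero
  intro i _
  by_cases h : i.val + 1 < n
  · rw [dif_pos h, Matrix.one_apply_ne]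
    intro hcon
    have := congrArg Fin.val hcon
    simp at this
  · rw [dif_neg h]

/-- The linear character of the unitriangular group attached to an additive character. -/
noncomputable def gPsi (ψ₀ : AddChar F ℂ) : unitri n F →* ℂˣ where
  toFun u := Units.mk0 (ψ₀ (supSum ((u : GL (Fin n) F) : Matrix (Fin n) (Fin n) F))) (by
    intro h
    have h1 := AddChar.map_add_eq_mul ψ₀ (supSum ((u : GL (Fin n) F) : Matrix (Fin n) (Fin n) F))
      (-supSum ((u : GL (Fin n) F) : Matrix (Fin n) (Fin n) F))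
    rw [add_neg_cancel, AddChar.map_zero_eq_one, h, zero_mul] at h1
    exact one_ne_zero h1)
  map_one' := by
    apply Units.ext
    show ψ₀ (supSum (((1 : unitri n F) : GL (Fin n) F) : Matrix (Fin n) (Fin n) F)) = 1
    rw [Subgroup.coe_one, Units.val_one, supSum_one, AddChar.map_zero_eq_one]
  map_mul' a b := by
    apply Units.ext
    show ψ₀ (supSum (((a * b : unitri n F) : GL (Fin n) F) : Matrix (Fin n) (Fin n) F)) =
      ψ₀ (supSum ((a : GL (Fin n) F) : Matrix (Fin n) (Fin n) F)) *
        ψ₀ (supSum ((b : GL (Fin n) F) : Matrix (Fin n) (Fin n) F))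
    rw [Subgroup.coe_mul, supSum_mul a.2 b.2, AddChar.map_add_eq_mul]

theorem gPsi_apply (ψ₀ : AddChar F ℂ) (u : unitri n F) :
    ((gPsi ψ₀ u : ℂˣ) : ℂ) = ψ₀ (supSum ((u : GL (Fin n) F) : Matrix (Fin n) (Fin n) F)) := rfl

end Cfsg.Agent.Helper12.GG
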