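import Mathlib
import Cfsg.Agent.Helper12.GGUniA
import Cfsg.Agent.S0263

/-!
The upper unitriangular subgroup of `GL_n(F)` is a `p`-group in the defining characteristic.
-/

set_option autoImplicit false

namespace Cfsg.Agent.Helper12.GG

open Cfsg Matrix Finset
open scoped MatrixGroups

variable {F : Type*} [Field F] {n : ℕ}

theorem sub_one_pow_eq_zero_of_mem_unitri {u : GL (Fin n) F} (hu : u ∈ unitri n F) :
    ((u : Matrix (Fin n) (Fin n) F) - 1) ^ n = 0 := by
  have h1 : (u : Matrix (Fin n) (Fin n) F).charpoly = (Polynomial.X - Polynomial.C 1) ^ n := by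
    rw [Matrix.charpoly_of_isUpperTriangular _ hu.1]
    simp only [hu.2]
    rw [Finset.prod_const, Finset.card_univ, Fintype.card_fin]
  have h2 := Matrix.aeval_self_charpoly (u : Matrix (Fin n) (Fin n) F)
  rw [h1] at h2
  simpa using h2

theorem pow_eq_one_of_mem_unitri (p : ℕ) [Fact p.Prime] [CharP F p] {u : GL (Fin n) F}
    (hu : u ∈ unitri n F) : u ^ (p ^ n) = 1 := by
  apply Units.ext
  rw [Units.val_pow_eq_pow_val, Units.val_one]
  have hp : p.Prime := Fact.out
  by_cases hn : n = 0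
  · subst hn
    apply Matrix.ext
    intro i
    exact i.elim0
  have : Nonempty (Fin n) := ⟨⟨0, Nat.pos_of_ne_zero hn⟩⟩
  have : CharP (Matrix (Fin n) (Fin n) F) p := Matrix.charP p
  have h1 : (u : Matrix (Fin n) (Fin n) F) = ((u : Matrix (Fin n) (Fin n) F) - 1) + 1 := by
    rw [sub_add_cancel]
  rw [h1, add_pow_char_pow_of_commute p n (Commute.one_right _), one_pow]
  have h2 : n ≤ p ^ n := (Nat.lt_pow_self hp.one_lt).le
  obtain ⟨k, hk⟩ := Nat.exists_eq_add_of_le h2
  rw [hk, pow_add, sub_one_pow_eq_zero_of_mem_unitri hu, zero_mul, zero_add]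

theorem isPGroup_unitri (p : ℕ) [Fact p.Prime] [CharP F p] : IsPGroup p (unitri n F) := by
  intro u
  refine ⟨n, ?_⟩
  apply Subtype.ext
  rw [Subgroup.coe_pow, Subgroup.coe_one]
  exact pow_eq_one_of_mem_unitri p u.2

theorem dvd_orderOf_of_mem_unitri (p : ℕ) [Fact p.Prime] [CharP F p] {u : GL (Fin n) F}
    (hu : u ∈ unitri n F) (hu1 : u ≠ 1) : p ∣ orderOf u := by
  have hp : p.Prime := Fact.out
  have h1 : orderOf u ∣ p ^ n := orderOf_dvd_of_pow_eq_one (pow_eq_one_of_mem_unitri p hu)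
  obtain ⟨k, _, hk⟩ := (Nat.dvd_prime_pow hp).1 h1
  rw [hk]
  rcases Nat.eq_zero_or_pos k with h0 | h0
  · exfalso
    rw [h0, pow_zero, orderOf_eq_one_iff] at hk
    exact hu1 hk
  · exact dvd_pow_self p h0.ne'

theorem card_unitri_dvd [Fintype F] (p : ℕ) [Fact p.Prime] [CharP F p] :
    Nat.card (unitri n F) ∣ Fintype.card F ^ (n * (n - 1) / 2) := by
  classical
  obtain ⟨P, hP⟩ := (isPGroup_unitri (F := F) (n := n) p).exists_le_sylow
  have hG := Cfsg.Agent.S0263.result (F := F) rfl p n P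
  rw [← hG]
  exact Subgroup.card_dvd_of_le hP

end Cfsg.Agent.Helper12.GG
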