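import Mathlib
import Cfsg.Agent.Helper12.GGAbsA

/-!
Gelfand's trick: with an anti-involution fixing `(U, ψ)` and the relevant double cosets, the
operators `E ρ(x) E` commute, and the `(U, ψ)`-isotypic part of an irreducible representation is
at most one-dimensional.
-/

set_option autoImplicit false

namespace Cfsg.Agent.Helper12.GG

open Finset

variable {G : Type*} [Group G] {V : Type*} [AddCommGroup V] [Module ℂ V]
variable (ρ : Representation ℂ G V) (U : Subgroup G) [Fintype U] (ψ : U →* ℂˣ)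

/-- `n` does not support a `(U, ψ)`-bi-equivariant function. -/
def Bad (n : G) : Prop :=
  ∃ u : U, ∃ h : n⁻¹ * (u : G) * n ∈ U, ψ u ≠ ψ ⟨n⁻¹ * (u : G) * n, h⟩

theorem tOp_eq_zero_of_bad (n : G) (hbad : Bad U ψ n) : tOp ρ U ψ n = 0 := by
  obtain ⟨u, h, hne⟩ := hbad
  have h1 : (u : G) * n = n * ((⟨n⁻¹ * (u : G) * n, h⟩ : U) : G) := by
    show (u : G) * n = n * (n⁻¹ * (u : G) * n)
    group
  have h2 := tOp_mul_left ρ U ψ u n
  rw [h1, tOp_mul_right] at h2
  have h3 : (((ψ u : ℂˣ) : ℂ) - ((ψ ⟨n⁻¹ * (u : G) * n, h⟩ : ℂˣ) : ℂ)) • tOp ρ U ψ n = 0 := by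
    rw [sub_smul, h2, sub_self]
  rcases smul_eq_zero.mp h3 with h4 | h4
  · exfalso
    apply hne
    apply Units.ext
    exact sub_eq_zero.mp h4
  · exact h4

variable (τ : G → G) (hτmul : ∀ x y, τ (x * y) = τ y * τ x) (hττ : ∀ x, τ (τ x) = x)
  (hτU : ∀ u : U, τ (u : G) ∈ U) (hψτ : ∀ u : U, ψ ⟨τ (u : G), hτU u⟩ = ψ u)

include hτmul in
theorem tau_one : τ 1 = 1 := by
  have h1 := hτmul 1 1
  rw [mul_one] at h1
  exact left_eq_mul.mp h1

include hτmul in
theorem tau_inv (x : G) : τ x⁻¹ = (τ x)⁻¹ := by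
  apply eq_inv_of_mul_eq_one_left
  rw [← hτmul, mul_inv_cancel, tau_one τ hτmul]

omit [Fintype U] in
include hτmul hψτ in
theorem bad_tau (n : G) (hbad : Bad U ψ n) : Bad U ψ (τ n) := by
  obtain ⟨u, h, hne⟩ := hbad
  have key : (τ n)⁻¹ * τ (n⁻¹ * (u : G) * n) * τ n = τ (u : G) := by
    rw [hτmul, hτmul, tau_inv τ hτmul]
    group
  refine ⟨⟨τ (n⁻¹ * (u : G) * n), hτU ⟨_, h⟩⟩, ?_, ?_⟩
  · show (τ n)⁻¹ * τ (n⁻¹ * (u : G) * n) * τ n ∈ U
    rw [key]
    exact hτU u
  · have h1 : ψ ⟨τ (n⁻¹ * (u : G) * n), hτU ⟨_, h⟩⟩ = ψ ⟨n⁻¹ * (u : G) * n, h⟩ := hψτ ⟨_, h⟩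
    rw [h1]
    intro hcon
    apply hne
    rw [hcon, ← hψτ u]
    congr 1
    apply Subtype.ext
    exact key.symm

include hτmul hψτ in
theorem tOp_tau
    (hdec : ∀ x : G, ∃ (u₁ u₂ : U) (n : G), x = (u₁ : G) * n * (u₂ : G) ∧
      (τ n = n ∨ Bad U ψ n)) (x : G) : tOp ρ U ψ (τ x) = tOp ρ U ψ x := by
  obtain ⟨u₁, u₂, n, rfl, hn⟩ := hdec x
  have h1 : τ ((u₁ : G) * n * (u₂ : G)) =
      ((⟨τ (u₂ : G), hτU u₂⟩ : U) : G) * τ n * ((⟨τ (u₁ : G), hτU u₁⟩ : U) : G) := by
    rw [hτmul, hτmul, mul_assoc]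
  rw [h1, tOp_mul_right, tOp_mul_left, tOp_mul_right, tOp_mul_left, hψτ, hψτ]
  rcases hn with hn | hn
  · rw [hn, smul_comm]
  · rw [tOp_eq_zero_of_bad ρ U ψ n hn,
      tOp_eq_zero_of_bad ρ U ψ (τ n) (bad_tau U ψ τ hτmul hτU hψτ n hn)]
    simp

include hτmul hττ hψτ in
theorem tOp_comm (hT : ∀ x : G, tOp ρ U ψ (τ x) = tOp ρ U ψ x) (g h : G) :
    tOp ρ U ψ g * tOp ρ U ψ h = tOp ρ U ψ h * tOp ρ U ψ g := by
  let e : U ≃ U :=
    { toFun := fun u => ⟨τ (u : G), hτU u⟩
      invFun := fun u => ⟨τ (u : G), hτU u⟩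
      left_inv := fun u => Subtype.ext (hττ _)
      right_inv := fun u => Subtype.ext (hττ _) }
  rw [tOp_mul_tOp, ← hT h, ← hT g, tOp_mul_tOp]
  congr 1
  apply Fintype.sum_equiv e
  intro u
  show _ = (((ψ ⟨τ (u : G), hτU u⟩)⁻¹ : ℂˣ) : ℂ) • tOp ρ U ψ (τ h * τ (u : G) * τ g)
  rw [hψτ, ← hT (g * (u : G) * h), hτmul, hτmul, mul_assoc]

omit [Fintype U] in
theorem span_orbit_eq_top [ρ.IsIrreducible] {x : V} (hx : x ≠ 0) :
    Submodule.span ℂ (Set.range fun g : G => ρ g x) = ⊤ := by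
  let W : Subrepresentation ρ :=
    { toSubmodule := Submodule.span ℂ (Set.range fun g : G => ρ g x)
      apply_mem_toSubmodule := by
        intro g w hw
        induction hw using Submodule.span_induction with
        | mem y hy =>
          obtain ⟨g', rfl⟩ := hy
          apply Submodule.subset_span
          refine ⟨g * g', ?_⟩
          show ρ (g * g') x = ρ g (ρ g' x)
          rw [map_mul]
          rfl
        | zero => rw [map_zero]; exact Submodule.zero_mem _
        | add a b _ _ ha hb => rw [map_add]; exact Submodule.add_mem _ ha hb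
        | smul c a _ ha => rw [map_smul]; exact Submodule.smul_mem _ c ha }
  rcases eq_bot_or_eq_top W with hW | hW
  · exfalso
    apply hx
    have h1 : x ∈ W.toSubmodule := by
      apply Submodule.subset_span
      refine ⟨1, ?_⟩
      show ρ 1 x = x
      rw [map_one]
      rfl
    rw [hW] at h1
    have h2 : x ∈ (⊥ : Submodule ℂ V) := h1
    exact (Submodule.mem_bot ℂ).mp h2
  · have : W.toSubmodule = (⊤ : Subrepresentation ρ).toSubmodule := by rw [hW]
    exact this

/-- If the operators `E ρ(x) E` commute, the `(U, ψ)`-part of an irreducible representation is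
at most one-dimensional. -/
theorem finrank_range_proj_le_one [FiniteDimensional ℂ V] [ρ.IsIrreducible]
    (hcomm : ∀ g h : G, tOp ρ U ψ g * tOp ρ U ψ h = tOp ρ U ψ h * tOp ρ U ψ g) :
    Module.finrank ℂ (LinearMap.range (proj ρ U ψ)) ≤ 1 := by
  set E := proj ρ U ψ with hE
  set W := LinearMap.range E with hW
  have hEW : ∀ w ∈ W, E w = w := by
    rintro w ⟨y, rfl⟩
    have := congrArg (fun f : Module.End ℂ V => f y) (proj_mul_proj ρ U ψ)
    exact this
  have htW : ∀ (g : G) (v : V), tOp ρ U ψ g v ∈ W := by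
    intro g v
    exact ⟨(ρ g * proj ρ U ψ) v, by simp [tOp, hE, mul_assoc]⟩
  -- every vector of `W` lies in the span of the `T g x`
  have hspan : ∀ x ∈ W, x ≠ 0 → ∀ y ∈ W,
      y ∈ Submodule.span ℂ (Set.range fun g : G => tOp ρ U ψ g x) := by
    intro x hxW hx y hyW
    have hy : y ∈ Submodule.span ℂ (Set.range fun g : G => ρ g x) := by
      rw [span_orbit_eq_top ρ hx]
      exact Submodule.mem_top
    have key : ∀ y' ∈ Submodule.span ℂ (Set.range fun g : G => ρ g x),
        E y' ∈ Submodule.span ℂ (Set.range fun g : G => tOp ρ U ψ g x) := by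
      intro y' hy'
      induction hy' using Submodule.span_induction with
      | mem z hz =>
        obtain ⟨g, rfl⟩ := hz
        apply Submodule.subset_span
        refine ⟨g, ?_⟩
        show (E * ρ g * E) x = E (ρ g x)
        rw [Module.End.mul_apply, hEW x hxW]
        rfl
      | zero => rw [map_zero]; exact Submodule.zero_mem _
      | add a b _ _ ha hb => rw [map_add]; exact Submodule.add_mem _ ha hb
      | smul c a _ ha => rw [map_smul]; exact Submodule.smul_mem _ c ha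
    rw [← hEW y hyW]
    exact key y hy
  by_cases hW0 : ∀ w ∈ W, w = 0
  · have : W = ⊥ := by
      rw [eq_bot_iff]
      intro w hw
      rw [Submodule.mem_bot]
      exact hW0 w hw
    rw [this, finrank_bot]
    exact Nat.zero_le 1
  push Not at hW0
  obtain ⟨x, hxW, hx⟩ := hW0
  -- each `T g` is a scalar on `W`
  have hscal : ∀ g : G, ∃ c : ℂ, ∀ w ∈ W, tOp ρ U ψ g w = c • w := by
    intro g
    have : Nontrivial W := ⟨⟨⟨x, hxW⟩, 0, fun h => hx (congrArg Subtype.val h)⟩⟩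
    let f : Module.End ℂ W := (tOp ρ U ψ g).restrict (fun w _ => htW g w)
    obtain ⟨c, hc⟩ := Module.End.exists_eigenvalue f
    obtain ⟨w₀, hw₀⟩ := hc.exists_hasEigenvector
    have hw₀e : tOp ρ U ψ g (w₀ : V) = c • (w₀ : V) := by
      have := congrArg Subtype.val hw₀.apply_eq_smul
      exact this
    have hw₀0 : (w₀ : V) ≠ 0 := fun h => hw₀.2 (Subtype.ext h)
    refine ⟨c, ?_⟩
    intro w hw
    have h1 := hspan (w₀ : V) w₀.2 hw₀0 w hw
    have key : ∀ w' ∈ Submodule.span ℂ (Set.range fun h : G => tOp ρ U ψ h (w₀ : V)),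
        tOp ρ U ψ g w' = c • w' := by
      intro w' hw'
      induction hw' using Submodule.span_induction with
      | mem z hz =>
        obtain ⟨h, rfl⟩ := hz
        show tOp ρ U ψ g (tOp ρ U ψ h (w₀ : V)) = c • tOp ρ U ψ h (w₀ : V)
        rw [← Module.End.mul_apply, hcomm, Module.End.mul_apply, hw₀e, map_smul]
      | zero => rw [map_zero, smul_zero]
      | add a b _ _ ha hb => rw [map_add, ha, hb, smul_add]
      | smul d a _ ha => rw [map_smul, ha, smul_comm]
    exact key w h1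
  apply finrank_le_one (⟨x, hxW⟩ : W)
  rintro ⟨y, hyW⟩
  have h1 := hspan x hxW hx y hyW
  have h2 : y ∈ Submodule.span ℂ ({x} : Set V) := by
    refine Submodule.span_le.mpr ?_ h1
    rintro z ⟨g, rfl⟩
    obtain ⟨c, hc⟩ := hscal g
    show tOp ρ U ψ g x ∈ Submodule.span ℂ ({x} : Set V)
    rw [hc x hxW]
    exact Submodule.smul_mem _ c (Submodule.mem_span_singleton_self x)
  obtain ⟨c, hc⟩ := Submodule.mem_span_singleton.mp h2
  exact ⟨c, Subtype.ext hc⟩

end Cfsg.Agent.Helper12.GG
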