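import Mathlib

/-!
A permutation all of whose descents are by exactly one is a product of reversals of consecutive
intervals; in particular it is an involution.
-/

set_option autoImplicit false

namespace Cfsg.Agent.Helper12.GG

theorem exists_preimage_of_inj {n i : ℕ} (g : ℕ → ℕ) (hin : i < n)
    (hge : ∀ k, i ≤ k → k < n → i ≤ g k) (hlt : ∀ k, k < n → g k < n)
    (hinj : ∀ k, k < n → ∀ l, l < n → g k = g l → k = l) :
    ∃ j, i ≤ j ∧ j < n ∧ g j = i := by
  classical
  have himg : (Finset.Ico i n).image g = Finset.Ico i n := by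
    apply Finset.eq_of_subset_of_card_le
    · intro y hy
      rw [Finset.mem_image] at hy
      obtain ⟨k, hk, rfl⟩ := hy
      rw [Finset.mem_Ico] at hk ⊢
      exact ⟨hge k hk.1 hk.2, hlt k hk.2⟩
    · rw [Finset.card_image_of_injOn]
      intro k hk l hl h
      rw [Finset.mem_coe, Finset.mem_Ico] at hk hl
      exact hinj k hk.2 l hl.2 h
  have hi : i ∈ (Finset.Ico i n).image g := by
    rw [himg, Finset.mem_Ico]
    exact ⟨le_refl i, hin⟩
  rw [Finset.mem_image] at hi
  obtain ⟨j, hj, hji⟩ := hi
  rw [Finset.mem_Ico] at hj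
  exact ⟨j, hj.1, hj.2, hji⟩

theorem block_structure {α : Type*} {n : ℕ} (g : ℕ → ℕ) (d : ℕ → α)
    (hlt : ∀ k, k < n → g k < n)
    (hinj : ∀ k, k < n → ∀ l, l < n → g k = g l → k = l)
    (hdesc : ∀ k, k + 1 < n → g (k + 1) < g k → g (k + 1) + 1 = g k ∧ d (g (k + 1)) = d (g k)) :
    ∀ m i, n - i = m → (∀ k, i ≤ k → k < n → i ≤ g k) →
      ∀ k, i ≤ k → k < n → g (g k) = k ∧ d (g k) = d k := by
  intro m
  induction m using Nat.strong_induction_on with
  | _ m ih =>
    intro i hm hQ k hik hkn
    have hin : i < n := lt_of_le_of_lt hik hkn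
    obtain ⟨b, hib, hbn, hgb⟩ := exists_preimage_of_inj g hin hQ hlt hinj
    -- the backward run
    have hrun : ∀ t, t ≤ b - i → ∀ s, s ≤ t → g (b - s) = i + s ∧ d (i + s) = d i := by
      intro t
      induction t with
      | zero =>
        intro _ s hs
        have : s = 0 := by omega
        subst this
        exact ⟨by simpa using hgb, rfl⟩
      | succ t iht =>
        intro ht s hs
        have IH := iht (by omega)
        by_cases hst : s ≤ t
        · exact IH s hst
        have hs1 : s = t + 1 := by omega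
        subst hs1
        obtain ⟨h1, h2⟩ := IH t (le_refl t)
        have hpos : b - (t + 1) + 1 = b - t := by omega
        have hw := hQ (b - (t + 1)) (by omega) (by omega)
        have hgt : i + t < g (b - (t + 1)) := by
          by_contra hcon
          push Not at hcon
          obtain ⟨h3, -⟩ := IH (g (b - (t + 1)) - i) (by omega)
          have h4 : g (b - (g (b - (t + 1)) - i)) = g (b - (t + 1)) := by
            rw [h3]
            omega
          have h5 := hinj _ (by omega) _ (by omega) h4
          omega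
        have hd := hdesc (b - (t + 1)) (by omega) (by rw [hpos, h1]; exact hgt)
        rw [hpos, h1] at hd
        refine ⟨by omega, ?_⟩
        have h6 : g (b - (t + 1)) = i + (t + 1) := by omega
        rw [h6] at hd
        rw [← hd.2, h2]
    have hrun' := hrun (b - i) (le_refl _)
    by_cases hkb : k ≤ b
    · obtain ⟨h1, h2⟩ := hrun' (b - k) (by omega)
      obtain ⟨h3, h4⟩ := hrun' (k - i) (by omega)
      have e1 : b - (b - k) = k := by omega
      rw [e1] at h1
      have e2 : i + (b - k) = b - (k - i) := by omega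
      have e3 : i + (k - i) = k := by omega
      rw [h1, e2, h3, e3]
      refine ⟨rfl, ?_⟩
      rw [← e2, h2, ← h4, e3]
    · push Not at hkb
      have hQ' : ∀ l, b + 1 ≤ l → l < n → b + 1 ≤ g l := by
        intro l hl hln
        by_contra hcon
        push Not at hcon
        have hil := hQ l (by omega) hln
        obtain ⟨h3, -⟩ := hrun' (g l - i) (by omega)
        have h4 : g (b - (g l - i)) = g l := by
          rw [h3]
          omega
        have h5 := hinj _ (by omega) _ hln h4
        omega
      exact ih (n - (b + 1)) (by omega) (b + 1) rfl hQ' k (by omega) hkn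

/-- A permutation of `Fin n` whose descents are all by exactly one is an involution; a function
constant along descents is invariant under it. -/
theorem perm_involution_of_descents {α : Type*} {n : ℕ} (f : Equiv.Perm (Fin n)) (c : Fin n → α)
    (h : ∀ (i : Fin n) (hi : i.val + 1 < n), f ⟨i.val + 1, hi⟩ < f i →
      (f ⟨i.val + 1, hi⟩).val + 1 = (f i).val ∧ c (f ⟨i.val + 1, hi⟩) = c (f i)) :
    ∀ i, f (f i) = i ∧ c (f i) = c i := by
  let g : ℕ → ℕ := fun k => if hk : k < n then (f ⟨k, hk⟩).val else k
  let d : ℕ → Option α := fun k => if hk : k < n then some (c ⟨k, hk⟩) else none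
  have hg : ∀ k (hk : k < n), g k = (f ⟨k, hk⟩).val := fun k hk => dif_pos hk
  have hd : ∀ k (hk : k < n), d k = some (c ⟨k, hk⟩) := fun k hk => dif_pos hk
  have hlt : ∀ k, k < n → g k < n := by
    intro k hk
    rw [hg k hk]
    exact (f ⟨k, hk⟩).2
  have hinj : ∀ k, k < n → ∀ l, l < n → g k = g l → k = l := by
    intro k hk l hl hkl
    rw [hg k hk, hg l hl] at hkl
    have := f.injective (Fin.ext hkl)
    exact congrArg Fin.val this
  have hdesc : ∀ k, k + 1 < n → g (k + 1) < g k →
      g (k + 1) + 1 = g k ∧ d (g (k + 1)) = d (g k) := by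
    intro k hk hlt'
    have hk' : k < n := by omega
    rw [hg k hk', hg (k + 1) hk] at hlt' ⊢
    obtain ⟨h1, h2⟩ := h ⟨k, hk'⟩ hk hlt'
    refine ⟨h1, ?_⟩
    rw [hd _ (f ⟨k + 1, hk⟩).2, hd _ (f ⟨k, hk'⟩).2]
    exact congrArg some h2
  intro i
  obtain ⟨h1, h2⟩ := block_structure g d hlt hinj hdesc n 0 rfl (fun _ _ _ => Nat.zero_le _)
    i.val (Nat.zero_le _) i.2
  rw [hg i.val i.2] at h1 h2
  rw [hg _ (f i).2] at h1
  rw [hd _ (f i).2, hd _ i.2] at h2
  refine ⟨Fin.ext h1, ?_⟩
  exact Option.some.inj h2

end Cfsg.Agent.Helper12.GG
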