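import Mathlib
import Cfsg.Agent.Helper12.GGUniA

/-!
The anti-involution `g ↦ w₀ gᵀ w₀` of `GL_n(F)`.
-/

set_option autoImplicit false

namespace Cfsg.Agent.Helper12.GG

open Cfsg Matrix Finset
open scoped MatrixGroups

variable {F : Type*} [Field F] {n : ℕ}

/-- Reflection of a matrix in the anti-diagonal. -/
def tauM (M : Matrix (Fin n) (Fin n) F) : Matrix (Fin n) (Fin n) F := fun i j => M j.rev i.rev

theorem tauM_apply (M : Matrix (Fin n) (Fin n) F) (i j : Fin n) : tauM M i j = M j.rev i.rev := rfl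

theorem tauM_mul (A B : Matrix (Fin n) (Fin n) F) : tauM (A * B) = tauM B * tauM A := by
  apply Matrix.ext
  intro i j
  rw [tauM_apply, Matrix.mul_apply, Matrix.mul_apply]
  rw [← Equiv.sum_comp Fin.revPerm]
  apply Finset.sum_congr rfl
  intro k _
  rw [tauM_apply, tauM_apply, mul_comm]
  rfl

theorem tauM_one : tauM (1 : Matrix (Fin n) (Fin n) F) = 1 := by
  apply Matrix.ext
  intro i j
  rw [tauM_apply]
  by_cases h : i = j
  · rw [h, Matrix.one_apply_eq, Matrix.one_apply_eq]
  · rw [Matrix.one_apply_ne h, Matrix.one_apply_ne]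
    intro hcon
    exact h (Fin.rev_injective hcon).symm

theorem tauM_tauM (M : Matrix (Fin n) (Fin n) F) : tauM (tauM M) = M := by
  apply Matrix.ext
  intro i j
  rw [tauM_apply, tauM_apply, Fin.rev_rev, Fin.rev_rev]

/-- The anti-involution of `GL_n(F)`. -/
def tauGL (g : GL (Fin n) F) : GL (Fin n) F :=
  ⟨tauM (g : Matrix (Fin n) (Fin n) F), tauM ((g⁻¹ : GL (Fin n) F) : Matrix (Fin n) (Fin n) F),
    by rw [← tauM_mul, ← Units.val_mul, inv_mul_cancel, Units.val_one, tauM_one],
    by rw [← tauM_mul, ← Units.val_mul, mul_inv_cancel, Units.val_one, tauM_one]⟩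

theorem tauGL_val (g : GL (Fin n) F) :
    ((tauGL g : GL (Fin n) F) : Matrix (Fin n) (Fin n) F) =
      tauM (g : Matrix (Fin n) (Fin n) F) := rfl

theorem tauGL_mul (x y : GL (Fin n) F) : tauGL (x * y) = tauGL y * tauGL x := by
  apply Units.ext
  rw [Units.val_mul, tauGL_val, tauGL_val, tauGL_val, Units.val_mul, tauM_mul]

theorem tauGL_tauGL (x : GL (Fin n) F) : tauGL (tauGL x) = x := by
  apply Units.ext
  rw [tauGL_val, tauGL_val, tauM_tauM]

theorem tauGL_mem_unitri {u : GL (Fin n) F} (hu : u ∈ unitri n F) : tauGL u ∈ unitri n F := by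
  refine ⟨?_, ?_⟩
  · intro i j hij
    rw [tauGL_val, tauM_apply]
    apply hu.1
    exact Fin.rev_lt_rev.mpr hij
  · intro i
    rw [tauGL_val, tauM_apply]
    exact hu.2 _

theorem supSum_eq_double (M : Matrix (Fin n) (Fin n) F) :
    supSum M = ∑ i : Fin n, ∑ j : Fin n, if j.val = i.val + 1 then M i j else 0 := by
  unfold supSum
  apply Finset.sum_congr rfl
  intro i _
  by_cases h : i.val + 1 < n
  · rw [dif_pos h, Finset.sum_eq_single (⟨i.val + 1, h⟩ : Fin n)]
    · rw [if_pos rfl]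
    · intro j _ hj
      rw [if_neg]
      intro hcon
      exact hj (Fin.ext hcon)
    · intro hcon
      exact absurd (Finset.mem_univ _) hcon
  · rw [dif_neg h]
    symm
    apply Finset.sum_eq_zero
    intro j _
    rw [if_neg]
    have := j.2
    omega

theorem supSum_tauM (M : Matrix (Fin n) (Fin n) F) : supSum (tauM M) = supSum M := by
  rw [supSum_eq_double, supSum_eq_double, Finset.sum_comm]
  rw [← Equiv.sum_comp Fin.revPerm]
  apply Finset.sum_congr rfl
  intro j _
  rw [← Equiv.sum_comp Fin.revPerm]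
  apply Finset.sum_congr rfl
  intro i _
  rw [tauM_apply]
  have h1 : (Fin.revPerm j : Fin n) = j.rev := rfl
  have h2 : (Fin.revPerm i : Fin n) = i.rev := rfl
  rw [h1, h2, Fin.rev_rev, Fin.rev_rev]
  have hi := i.2
  have hj := j.2
  by_cases h : i.val = j.val + 1
  · rw [if_pos h, if_pos]
    rw [Fin.val_rev, Fin.val_rev]
    omega
  · rw [if_neg h, if_neg]
    rw [Fin.val_rev, Fin.val_rev]
    omega

theorem gPsi_tau (ψ₀ : AddChar F ℂ) (u : unitri n F) :
    gPsi ψ₀ ⟨tauGL (u : GL (Fin n) F), tauGL_mem_unitri u.2⟩ = gPsi ψ₀ u := by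
  apply Units.ext
  rw [gPsi_apply, gPsi_apply]
  show ψ₀ (supSum ((tauGL (u : GL (Fin n) F) : GL (Fin n) F) : Matrix (Fin n) (Fin n) F)) = _
  rw [tauGL_val, supSum_tauM]

end Cfsg.Agent.Helper12.GG
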