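import Cfsg.Agent.Helper12.FlagCountB

set_option autoImplicit false

namespace Cfsg.Agent.Helper12.FlagCount

open Cfsg

variable {n : ℕ} (μ : Fin n → ℕ)

theorem compLabel_lt (hμ : ∑ i, μ i = n) (i : Fin n) : compLabel μ i < n := by
  have hn : 0 < n := Fin.pos i
  have h := (compLabel_le_iff μ i (n - 1) (by omega)).mpr (by
    rw [pre_top μ (n - 1 + 1) (by omega), hμ]
    exact i.2)
  omega

theorem compLabel_mono : Monotone (compLabel μ) := by
  intro i i' h
  rw [compLabel_eq, compLabel_eq]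
  apply Finset.card_le_card
  intro j hj
  rw [Finset.mem_filter] at hj ⊢
  exact ⟨hj.1, le_trans hj.2 h⟩

/-- The column cutoff (end of the block containing `j`); `n` outside the range. -/
def cut (j : ℕ) : ℕ :=
  if h : j < n then pre μ (compLabel μ ⟨j, h⟩ + 1) else n

theorem cut_of_lt (j : Fin n) : cut μ j.val = pre μ (compLabel μ j + 1) := by
  unfold cut
  rw [dif_pos j.2]

theorem cut_le (hμ : ∑ i, μ i = n) (j : ℕ) : cut μ j ≤ n := by
  unfold cut
  split_ifs with h
  · calc pre μ (compLabel μ ⟨j, h⟩ + 1) ≤ pre μ n := pre_mono μ (compLabel_lt μ hμ _)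
      _ = n := by rw [pre_top μ n le_rfl, hμ]
  · exact le_rfl

theorem lt_cut (hμ : ∑ i, μ i = n) (j : Fin n) : j.val < cut μ j.val := by
  rw [cut_of_lt]
  exact (compLabel_le_iff μ j _ (compLabel_lt μ hμ j)).mp le_rfl

theorem cut_mono (hμ : ∑ i, μ i = n) : Monotone (cut μ) := by
  intro j j' h
  by_cases h' : j' < n
  · have hj : j < n := lt_of_le_of_lt h h'
    unfold cut
    rw [dif_pos hj, dif_pos h']
    apply pre_mono
    have := compLabel_mono μ (show (⟨j, hj⟩ : Fin n) ≤ ⟨j', h'⟩ from h)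
    omega
  · unfold cut
    rw [dif_neg h']
    exact cut_le μ hμ j

/-- The block-triangularity condition in terms of cutoffs. -/
theorem compLabel_lt_iff (hμ : ∑ i, μ i = n) (i j : Fin n) :
    compLabel μ j < compLabel μ i ↔ cut μ j.val ≤ i.val := by
  rw [cut_of_lt, ← not_le, compLabel_le_iff μ i _ (compLabel_lt μ hμ j), not_lt]

/-- Positions in block `a`. -/
theorem compLabel_eq_iff (i : Fin n) (a : ℕ) (ha : a < n) :
    compLabel μ i = a ↔ pre μ a ≤ i.val ∧ i.val < pre μ (a + 1) := by
  rcases Nat.eq_zero_or_pos a with h0 | h0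
  · subst h0
    rw [pre_zero, ← compLabel_le_iff μ i 0 ha]
    omega
  · have h1 := compLabel_le_iff μ i a ha
    have h2 := compLabel_le_iff μ i (a - 1) (by omega)
    rw [Nat.sub_add_cancel h0] at h2
    omega

end Cfsg.Agent.Helper12.FlagCount
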