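import Mathlib
import Cfsg.Prelude.Def_LinearParabolics
import Cfsg.Agent.Helper12.FlagCountC

/-!
Permutation matrices in `GL_n` and the Bruhat decomposition (existence part).
-/

set_option autoImplicit false

namespace Cfsg.Agent.Helper12.Stein

open Cfsg Matrix
open scoped MatrixGroups

variable {F : Type*} [Field F] {n : ℕ}

/-- Permutation matrices as a monoid homomorphism. -/
def pmHom (F : Type*) [Field F] (n : ℕ) :
    Equiv.Perm (Fin n) →* Matrix (Fin n) (Fin n) F where
  toFun σ := Matrix.of fun i j => if i = σ j then 1 else 0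
  map_one' := by
    ext i j
    rw [Matrix.one_apply]
    rfl
  map_mul' σ τ := by
    ext i j
    rw [Matrix.mul_apply, Finset.sum_eq_single (τ j)]
    · show (if i = (σ * τ) j then (1 : F) else 0) =
        (if i = σ (τ j) then (1 : F) else 0) * (if τ j = τ j then (1 : F) else 0)
      rw [if_pos rfl, mul_one]
      rfl
    · intro k _ hk
      show (if i = σ k then (1 : F) else 0) * (if k = τ j then (1 : F) else 0) = 0
      rw [if_neg hk, mul_zero]
    · intro h
      exact absurd (Finset.mem_univ _) h

theorem pmHom_apply (σ : Equiv.Perm (Fin n)) (i j : Fin n) :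
    pmHom F n σ i j = if i = σ j then 1 else 0 := rfl

/-- Permutation matrices as elements of the general linear group. -/
def Pm (F : Type*) [Field F] (n : ℕ) : Equiv.Perm (Fin n) →* GL (Fin n) F :=
  (Units.map (pmHom F n)).comp (toUnits (G := Equiv.Perm (Fin n))).toMonoidHom

theorem Pm_val (σ : Equiv.Perm (Fin n)) :
    ((Pm F n σ : GL (Fin n) F) : Matrix (Fin n) (Fin n) F) = pmHom F n σ := rfl

theorem Pm_apply (σ : Equiv.Perm (Fin n)) (i j : Fin n) :
    ((Pm F n σ : GL (Fin n) F) : Matrix (Fin n) (Fin n) F) i j = if i = σ j then 1 else 0 := rfl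

theorem mul_Pm_apply (M : Matrix (Fin n) (Fin n) F) (σ : Equiv.Perm (Fin n)) (i j : Fin n) :
    (M * ((Pm F n σ : GL (Fin n) F) : Matrix (Fin n) (Fin n) F)) i j = M i (σ j) := by
  rw [Matrix.mul_apply, Finset.sum_eq_single (σ j)]
  · simp [Pm_apply]
  · intro k _ hk
    simp [Pm_apply, hk]
  · intro h
    exact absurd (Finset.mem_univ _) h

theorem Pm_mul_apply (M : Matrix (Fin n) (Fin n) F) (σ : Equiv.Perm (Fin n)) (i j : Fin n) :
    (((Pm F n σ : GL (Fin n) F) : Matrix (Fin n) (Fin n) F) * M) i j = M (σ⁻¹ i) j := by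
  rw [Matrix.mul_apply, Finset.sum_eq_single (σ⁻¹ i)]
  · simp [Pm_apply]
  · intro k _ hk
    have : i ≠ σ k := by
      intro h
      apply hk
      rw [h]
      simp
    simp [Pm_apply, this]
  · intro h
    exact absurd (Finset.mem_univ _) h

/-- Label-preserving permutations give elements of the parabolic subgroup. -/
theorem Pm_mem_parabolicGL (μ : Fin n → ℕ) (σ : Equiv.Perm (Fin n))
    (hσ : σ ∈ youngSubgroup μ) : Pm F n σ ∈ parabolicGL n F μ := by
  show ((Pm F n σ : GL (Fin n) F) : Matrix (Fin n) (Fin n) F).BlockTriangular (compLabel μ)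
  intro i j hij
  rw [Pm_apply, if_neg]
  intro h
  rw [h, hσ j] at hij
  exact lt_irrefl _ hij

/-- The Borel subgroup lies in every standard parabolic subgroup. -/
theorem upperTriangularGL_le_parabolicGL (μ : Fin n → ℕ) :
    upperTriangularGL n F ≤ parabolicGL n F μ := by
  intro g hg
  show (g : Matrix (Fin n) (Fin n) F).BlockTriangular (compLabel μ)
  intro i j hij
  apply hg
  show j < i
  by_contra hcon
  push Not at hcon
  have := Cfsg.Agent.Helper12.FlagCount.compLabel_mono μ hcon
  omega

/-! ### Pivots -/

/-- One more than the largest row index of a non-zero entry of column `j` (zero for a zero column). -/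
noncomputable def piv (M : Matrix (Fin n) (Fin n) F) (j : Fin n) : ℕ := by
  classical
  exact (Finset.univ.filter fun i => M i j ≠ 0).sup fun i => i.val + 1

theorem le_piv (M : Matrix (Fin n) (Fin n) F) (i j : Fin n) (h : M i j ≠ 0) :
    i.val + 1 ≤ piv M j := by
  classical
  unfold piv
  exact Finset.le_sup (f := fun i : Fin n => i.val + 1)
    (Finset.mem_filter.mpr ⟨Finset.mem_univ i, h⟩)

theorem eq_zero_of_piv_le (M : Matrix (Fin n) (Fin n) F) (i j : Fin n) (h : piv M j ≤ i.val) :
    M i j = 0 := by
  by_contra hne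
  have := le_piv M i j hne
  omega

theorem exists_piv (M : Matrix (Fin n) (Fin n) F) (j : Fin n) (h : ∃ i, M i j ≠ 0) :
    ∃ i, M i j ≠ 0 ∧ i.val + 1 = piv M j := by
  classical
  obtain ⟨i₀, hi₀⟩ := h
  have hne : (Finset.univ.filter fun i => M i j ≠ 0).Nonempty :=
    ⟨i₀, Finset.mem_filter.mpr ⟨Finset.mem_univ _, hi₀⟩⟩
  obtain ⟨i, hi, hsup⟩ := Finset.exists_mem_eq_sup _ hne (fun i : Fin n => i.val + 1)
  refine ⟨i, (Finset.mem_filter.mp hi).2, ?_⟩
  unfold piv
  exact hsup.symm

theorem exists_ne_zero_col (g : GL (Fin n) F) (j : Fin n) :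
    ∃ i, (g : Matrix (Fin n) (Fin n) F) i j ≠ 0 := by
  by_contra hcon
  push Not at hcon
  have hdet : (g : Matrix (Fin n) (Fin n) F).det = 0 :=
    Matrix.det_eq_zero_of_column_eq_zero j hcon
  have hu : IsUnit (g : Matrix (Fin n) (Fin n) F).det :=
    (Matrix.isUnit_iff_isUnit_det _).mp g.isUnit
  rw [hdet] at hu
  exact not_isUnit_zero hu

/-- Upper transvections as elements of the Borel subgroup. -/
theorem exists_transvection_mem (j j' : Fin n) (hjj' : j < j') (c : F) :
    ∃ t : GL (Fin n) F, t ∈ upperTriangularGL n F ∧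
      (t : Matrix (Fin n) (Fin n) F) = Matrix.transvection j j' c := by
  have hdet : (Matrix.transvection j j' c).det = 1 :=
    Matrix.det_transvection_of_ne j j' (ne_of_lt hjj') c
  have hu : IsUnit (Matrix.transvection j j' c).det := by rw [hdet]; exact isUnit_one
  refine ⟨Matrix.GeneralLinearGroup.mk'' _ hu, ?_, rfl⟩
  show (Matrix.transvection j j' c).BlockTriangular id
  intro a b hab
  have hab' : b < a := hab
  unfold Matrix.transvection
  rw [Matrix.add_apply, Matrix.one_apply_ne (ne_of_gt hab'), zero_add, Matrix.single_apply,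
    if_neg]
  rintro ⟨rfl, rfl⟩
  exact lt_asymm hjj' hab'

theorem exists_injective_piv (k : ℕ) : ∀ g : GL (Fin n) F,
    ∑ j, piv (g : Matrix (Fin n) (Fin n) F) j = k →
    ∃ q ∈ upperTriangularGL n F,
      Function.Injective (piv ((g * q : GL (Fin n) F) : Matrix (Fin n) (Fin n) F)) := by
  induction k using Nat.strong_induction_on with
  | _ k ih =>
    intro g hk
    by_cases hinj : Function.Injective (piv (g : Matrix (Fin n) (Fin n) F))
    · exact ⟨1, Subgroup.one_mem _, by simpa using hinj⟩
    · -- two columns with the same pivot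
      rw [Function.Injective] at hinj
      push Not at hinj
      obtain ⟨j₁, j₂, hpiv, hne⟩ := hinj
      obtain ⟨j, j', hjj', hpiv'⟩ : ∃ j j' : Fin n, j < j' ∧
          piv (g : Matrix (Fin n) (Fin n) F) j = piv (g : Matrix (Fin n) (Fin n) F) j' := by
        rcases lt_or_gt_of_ne hne with h | h
        · exact ⟨j₁, j₂, h, hpiv⟩
        · exact ⟨j₂, j₁, h, hpiv.symm⟩
      obtain ⟨i, hi, hip⟩ := exists_piv _ j (exists_ne_zero_col g j)
      set G : Matrix (Fin n) (Fin n) F := (g : Matrix (Fin n) (Fin n) F) with hG
      set c : F := -(G i j') / (G i j) with hc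
      obtain ⟨t, ht, htv⟩ := exists_transvection_mem (F := F) j j' hjj' c
      have hcol : ∀ a, ((g * t : GL (Fin n) F) : Matrix (Fin n) (Fin n) F) a j' =
          G a j' + c * G a j := by
        intro a
        rw [Units.val_mul, htv, Matrix.mul_transvection_apply_same]
      have hother : ∀ a l, l ≠ j' →
          ((g * t : GL (Fin n) F) : Matrix (Fin n) (Fin n) F) a l = G a l := by
        intro a l hl
        rw [Units.val_mul, htv, Matrix.mul_transvection_apply_of_ne _ _ _ _ hl]
      have hpl : ∀ l, l ≠ j' →
          piv ((g * t : GL (Fin n) F) : Matrix (Fin n) (Fin n) F) l = piv G l := by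
        intro l hl
        unfold piv
        congr 1
        ext a
        simp only [Finset.mem_filter, Finset.mem_univ, true_and]
        rw [hother a l hl]
      have hpj : piv ((g * t : GL (Fin n) F) : Matrix (Fin n) (Fin n) F) j' < piv G j' := by
        classical
        rw [← hpiv', ← hip]
        unfold piv
        rw [Finset.sup_lt_iff (by exact Nat.succ_pos _)]
        intro a ha
        rw [Finset.mem_filter] at ha
        have ha2 := ha.2
        rw [hcol] at ha2
        by_contra hcon
        push Not at hcon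
        have hia : i.val ≤ a.val := by omega
        rcases Nat.eq_or_lt_of_le hia with heq | hlt
        · have : a = i := Fin.ext heq.symm
          subst this
          apply ha2
          rw [hc]
          field_simp
          ring
        · apply ha2
          rw [eq_zero_of_piv_le G a j (by omega), eq_zero_of_piv_le G a j' (by omega)]
          simp
      have hsum : ∑ l, piv ((g * t : GL (Fin n) F) : Matrix (Fin n) (Fin n) F) l < k := by
        rw [← hk]
        apply Finset.sum_lt_sum
        · intro l _
          by_cases hl : l = j'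
          · subst hl
            exact le_of_lt hpj
          · exact le_of_eq (hpl l hl)
        · exact ⟨j', Finset.mem_univ _, hpj⟩
      obtain ⟨q', hq', hinj'⟩ := ih _ hsum (g * t) rfl
      refine ⟨t * q', Subgroup.mul_mem _ ht hq', ?_⟩
      rw [← mul_assoc]
      exact hinj'

/-- The Bruhat decomposition of `GL_n` (existence). -/
theorem exists_bruhat (g : GL (Fin n) F) :
    ∃ b ∈ upperTriangularGL n F, ∃ σ : Equiv.Perm (Fin n), ∃ q ∈ upperTriangularGL n F,
      g = b * Pm F n σ * q := by
  obtain ⟨q, hq, hinj⟩ := exists_injective_piv (F := F) _ g rfl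
  set m : GL (Fin n) F := g * q with hm
  have hpos : ∀ j, 1 ≤ piv (m : Matrix (Fin n) (Fin n) F) j := by
    intro j
    obtain ⟨i, -, hi⟩ := exists_piv _ j (exists_ne_zero_col m j)
    omega
  have hlt : ∀ j, piv (m : Matrix (Fin n) (Fin n) F) j - 1 < n := by
    intro j
    obtain ⟨i, -, hi⟩ := exists_piv _ j (exists_ne_zero_col m j)
    have := i.2
    omega
  let s : Fin n → Fin n := fun j => ⟨piv (m : Matrix (Fin n) (Fin n) F) j - 1, hlt j⟩
  have hs : Function.Injective s := by
    intro j j' h
    apply hinj
    have := congrArg Fin.val h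
    simp only [s] at this
    have h1 := hpos j
    have h2 := hpos j'
    omega
  let σ : Equiv.Perm (Fin n) := Equiv.ofBijective s (Finite.injective_iff_bijective.mp hs)
  have hσ : ∀ j, (σ j).val + 1 = piv (m : Matrix (Fin n) (Fin n) F) j := by
    intro j
    show (piv (m : Matrix (Fin n) (Fin n) F) j - 1) + 1 = _
    have := hpos j
    omega
  refine ⟨m * (Pm F n σ)⁻¹, ?_, σ, q⁻¹, Subgroup.inv_mem _ hq, ?_⟩
  · show ((m * (Pm F n σ)⁻¹ : GL (Fin n) F) : Matrix (Fin n) (Fin n) F).BlockTriangular id
    intro a c hca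
    have hca' : c < a := hca
    rw [← map_inv, Units.val_mul, mul_Pm_apply]
    apply eq_zero_of_piv_le
    rw [← hσ]
    have : σ (σ⁻¹ c) = c := by simp
    rw [this]
    exact hca'
  · rw [hm]
    group

end Cfsg.Agent.Helper12.Stein
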