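import Mathlib
import Cfsg.Agent.Helper12.GGUniB
import Cfsg.Agent.Helper12.SteinC

/-!
Monomial matrices and the Bruhat decomposition `GL_n = U N U`.
-/

set_option autoImplicit false

namespace Cfsg.Agent.Helper12.GG

open Cfsg Matrix Finset Cfsg.Agent.Helper12.Stein
open scoped MatrixGroups

variable {F : Type*} [Field F] {n : ℕ}

/-- Diagonal elements of `GL_n(F)`. -/
def dg (c : Fin n → Fˣ) : GL (Fin n) F :=
  ⟨Matrix.diagonal fun i => ((c i : Fˣ) : F), Matrix.diagonal fun i => (((c i)⁻¹ : Fˣ) : F),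
    by rw [Matrix.diagonal_mul_diagonal]; simp,
    by rw [Matrix.diagonal_mul_diagonal]; simp⟩

theorem dg_val (c : Fin n → Fˣ) :
    ((dg c : GL (Fin n) F) : Matrix (Fin n) (Fin n) F) =
      Matrix.diagonal fun i => ((c i : Fˣ) : F) := rfl

theorem dg_inv_val (c : Fin n → Fˣ) :
    (((dg c)⁻¹ : GL (Fin n) F) : Matrix (Fin n) (Fin n) F) =
      Matrix.diagonal fun i => (((c i)⁻¹ : Fˣ) : F) := rfl

/-- Monomial matrices. -/
def mono (σ : Equiv.Perm (Fin n)) (c : Fin n → Fˣ) : GL (Fin n) F := Pm F n σ * dg c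

theorem mono_apply (σ : Equiv.Perm (Fin n)) (c : Fin n → Fˣ) (i j : Fin n) :
    ((mono σ c : GL (Fin n) F) : Matrix (Fin n) (Fin n) F) i j =
      if i = σ j then ((c j : Fˣ) : F) else 0 := by
  unfold mono
  rw [Units.val_mul, Pm_mul_apply, dg_val, Matrix.diagonal_apply]
  by_cases h : i = σ j
  · have h' : σ⁻¹ i = j := by rw [h, Equiv.Perm.inv_def, Equiv.symm_apply_apply]
    rw [if_pos h, if_pos h', h']
  · have h' : ¬ σ⁻¹ i = j := by
      intro hcon
      apply h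
      rw [← hcon, Equiv.Perm.inv_def, Equiv.apply_symm_apply]
    rw [if_neg h, if_neg h']

theorem dg_mul_Pm (t : Fin n → Fˣ) (σ : Equiv.Perm (Fin n)) :
    dg t * Pm F n σ = Pm F n σ * dg (fun j => t (σ j)) := by
  apply Units.ext
  apply Matrix.ext
  intro i j
  rw [Units.val_mul, Units.val_mul, mul_Pm_apply, Pm_mul_apply, dg_val, dg_val,
    Matrix.diagonal_apply, Matrix.diagonal_apply]
  by_cases h : i = σ j
  · have h' : σ⁻¹ i = j := by rw [h, Equiv.Perm.inv_def, Equiv.symm_apply_apply]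
    rw [if_pos h, if_pos h', h, Equiv.Perm.inv_def, Equiv.symm_apply_apply]
  · have h' : ¬ σ⁻¹ i = j := by
      intro hcon
      apply h
      rw [← hcon, Equiv.Perm.inv_def, Equiv.apply_symm_apply]
    rw [if_neg h, if_neg h']

theorem dg_mul_dg (s t : Fin n → Fˣ) : dg s * dg t = dg (fun j => s j * t j) := by
  apply Units.ext
  rw [Units.val_mul, dg_val, dg_val, dg_val, Matrix.diagonal_mul_diagonal]
  rfl

theorem diag_ne_zero_of_upper {b : GL (Fin n) F} (hb : b ∈ upperTriangularGL n F) (i : Fin n) :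
    (b : Matrix (Fin n) (Fin n) F) i i ≠ 0 := by
  have hdet : (b : Matrix (Fin n) (Fin n) F).det ≠ 0 := by
    have := b.isUnit.map Matrix.detMonoidHom
    exact this.ne_zero
  have hb' : (b : Matrix (Fin n) (Fin n) F).BlockTriangular id := hb
  rw [Matrix.det_of_isUpperTriangular hb'] at hdet
  exact (Finset.prod_ne_zero_iff.mp hdet) i (Finset.mem_univ i)

/-- An upper triangular matrix is unitriangular times diagonal. -/
theorem exists_unitri_mul_dg {b : GL (Fin n) F} (hb : b ∈ upperTriangularGL n F) :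
    ∃ u ∈ unitri n F, ∃ t : Fin n → Fˣ, b = u * dg t := by
  let t : Fin n → Fˣ := fun i => Units.mk0 _ (diag_ne_zero_of_upper hb i)
  refine ⟨b * (dg t)⁻¹, ?_, t, by group⟩
  have hb' : (b : Matrix (Fin n) (Fin n) F).BlockTriangular id := hb
  have hd : (((dg t)⁻¹ : GL (Fin n) F) : Matrix (Fin n) (Fin n) F).BlockTriangular id := by
    rw [dg_inv_val]
    exact Matrix.blockTriangular_diagonal _
  refine ⟨?_, ?_⟩
  · rw [Units.val_mul]
    exact hb'.mul hd
  · intro i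
    rw [Units.val_mul, upper_mul_diag hb' hd, dg_inv_val, Matrix.diagonal_apply_eq]
    show (b : Matrix (Fin n) (Fin n) F) i i * ((t i)⁻¹ : Fˣ) = 1
    have : (b : Matrix (Fin n) (Fin n) F) i i = ((t i : Fˣ) : F) := rfl
    rw [this, ← Units.val_mul, mul_inv_cancel, Units.val_one]

theorem exists_dg_mul_unitri {b : GL (Fin n) F} (hb : b ∈ upperTriangularGL n F) :
    ∃ t : Fin n → Fˣ, ∃ u ∈ unitri n F, b = dg t * u := by
  obtain ⟨u, hu, t, h⟩ := exists_unitri_mul_dg ((upperTriangularGL n F).inv_mem hb)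
  refine ⟨fun i => (t i)⁻¹, u⁻¹, (unitri n F).inv_mem hu, ?_⟩
  have h1 : dg (fun i => (t i)⁻¹) = (dg t)⁻¹ := by
    apply Units.ext
    rw [dg_val, dg_inv_val]
  rw [h1, ← _root_.mul_inv_rev, ← h, inv_inv]

/-- The Bruhat decomposition `GL_n = U N U`. -/
theorem exists_unitri_mono (g : GL (Fin n) F) :
    ∃ u₁ ∈ unitri n F, ∃ u₂ ∈ unitri n F, ∃ (σ : Equiv.Perm (Fin n)) (c : Fin n → Fˣ),
      g = u₁ * mono σ c * u₂ := by
  obtain ⟨b, hb, σ, q, hq, hg⟩ := exists_bruhat g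
  obtain ⟨u₁, hu₁, t, hbt⟩ := exists_unitri_mul_dg hb
  obtain ⟨t', u₂, hu₂, hqt⟩ := exists_dg_mul_unitri hq
  refine ⟨u₁, hu₁, u₂, hu₂, σ, fun j => t (σ j) * t' j, ?_⟩
  unfold mono
  rw [← dg_mul_dg (fun j => t (σ j)) t', ← mul_assoc (Pm F n σ), ← dg_mul_Pm, hg, hbt, hqt]
  group

end Cfsg.Agent.Helper12.GG
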