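import Mathlib
import Cfsg.Agent.Helper12.GGUniC

/-!
Root elements of `GL_n(F)` and their conjugates under monomial matrices.
-/

set_option autoImplicit false

namespace Cfsg.Agent.Helper12.GG

open Cfsg Matrix Finset Cfsg.Agent.Helper12.Stein
open scoped MatrixGroups

variable {F : Type*} [Field F] {n : ℕ}

/-- The root element `1 + a E_ij`. -/
def xr (i j : Fin n) (hij : i ≠ j) (a : F) : GL (Fin n) F :=
  ⟨Matrix.transvection i j a, Matrix.transvection i j (-a),
    by rw [Matrix.transvection_mul_transvection_same i j hij, add_neg_cancel,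
      Matrix.transvection_zero],
    by rw [Matrix.transvection_mul_transvection_same i j hij, neg_add_cancel,
      Matrix.transvection_zero]⟩

theorem xr_apply (i j : Fin n) (hij : i ≠ j) (a : F) (r s : Fin n) :
    ((xr i j hij a : GL (Fin n) F) : Matrix (Fin n) (Fin n) F) r s =
      (if r = s then 1 else 0) + if i = r ∧ j = s then a else 0 := by
  show (1 + Matrix.single i j a : Matrix (Fin n) (Fin n) F) r s = _
  rw [Matrix.add_apply, Matrix.single_apply, Matrix.one_apply]

theorem xr_mem_unitri (i j : Fin n) (hij : i < j) (a : F) : xr i j hij.ne a ∈ unitri n F := by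
  refine ⟨?_, ?_⟩
  · intro r s hrs
    have hrs' : s < r := hrs
    rw [xr_apply, if_neg hrs'.ne', if_neg, add_zero]
    rintro ⟨rfl, rfl⟩
    exact lt_asymm hij hrs'
  · intro r
    rw [xr_apply, if_pos rfl, if_neg, add_zero]
    rintro ⟨rfl, rfl⟩
    exact lt_irrefl _ hij

theorem supSum_xr (i j : Fin n) (hij : i ≠ j) (a : F) :
    supSum ((xr i j hij a : GL (Fin n) F) : Matrix (Fin n) (Fin n) F) =
      if j.val = i.val + 1 then a else 0 := by
  rw [supSum_eq_double]
  have h1 : ∀ r s : Fin n, (if s.val = r.val + 1 then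
      ((xr i j hij a : GL (Fin n) F) : Matrix (Fin n) (Fin n) F) r s else 0) =
      if r = i ∧ s = j then (if j.val = i.val + 1 then a else 0) else 0 := by
    intro r s
    rw [xr_apply]
    by_cases hrs : s.val = r.val + 1
    · have hne : r ≠ s := by
        intro h
        rw [h] at hrs
        omega
      rw [if_pos hrs, if_neg hne, zero_add]
      by_cases h : i = r ∧ j = s
      · obtain ⟨rfl, rfl⟩ := h
        rw [if_pos ⟨rfl, rfl⟩, if_pos ⟨rfl, rfl⟩, if_pos hrs]
      · rw [if_neg h, if_neg]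
        rintro ⟨rfl, rfl⟩
        exact h ⟨rfl, rfl⟩
    · rw [if_neg hrs]
      by_cases h : r = i ∧ s = j
      · obtain ⟨rfl, rfl⟩ := h
        rw [if_pos ⟨rfl, rfl⟩, if_neg hrs]
      · rw [if_neg h]
  simp only [h1]
  rw [Finset.sum_eq_single i]
  · rw [Finset.sum_eq_single j]
    · rw [if_pos ⟨rfl, rfl⟩]
    · intro s _ hs
      rw [if_neg]
      rintro ⟨-, h⟩
      exact hs h
    · intro h
      exact absurd (Finset.mem_univ _) h
  · intro r _ hr
    apply Finset.sum_eq_zero
    intro s _
    rw [if_neg]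
    rintro ⟨h, -⟩
    exact hr h
  · intro h
    exact absurd (Finset.mem_univ _) h

/-- Conjugating a root element by a monomial matrix. -/
theorem xr_mul_mono (σ : Equiv.Perm (Fin n)) (c : Fin n → Fˣ) (i j : Fin n) (hij : i ≠ j)
    (a : F) :
    xr i j hij a * mono σ c = mono σ c * xr (σ⁻¹ i) (σ⁻¹ j)
      (fun h => hij (σ⁻¹.injective h))
      (a * ((c (σ⁻¹ j) : Fˣ) : F) * (((c (σ⁻¹ i))⁻¹ : Fˣ) : F)) := by
  apply Units.ext
  apply Matrix.ext
  intro r s
  rw [Units.val_mul, Units.val_mul, Matrix.mul_apply, Matrix.mul_apply]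
  simp only [xr_apply, mono_apply]
  simp only [add_mul, mul_add, Finset.sum_add_distrib]
  congr 1
  · rw [Finset.sum_eq_single r, Finset.sum_eq_single s]
    · rw [if_pos rfl, if_pos rfl, one_mul, mul_one]
    · intro k _ hk
      rw [if_neg hk, mul_zero]
    · intro h
      exact absurd (Finset.mem_univ _) h
    · intro k _ hk
      rw [if_neg hk.symm, zero_mul]
    · intro h
      exact absurd (Finset.mem_univ _) h
  · have e1 : σ (σ⁻¹ i) = i := by
      rw [Equiv.Perm.inv_def, Equiv.apply_symm_apply]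
    have e3 : (σ⁻¹ j = s) ↔ j = σ s := by
      constructor
      · intro h
        rw [← h, Equiv.Perm.inv_def, Equiv.apply_symm_apply]
      · intro h
        rw [h, Equiv.Perm.inv_def, Equiv.symm_apply_apply]
    have hL : ∑ k : Fin n, (if i = r ∧ j = k then a else 0) *
        (if k = σ s then ((c s : Fˣ) : F) else 0) =
        if i = r ∧ j = σ s then a * ((c s : Fˣ) : F) else 0 := by
      rw [Finset.sum_eq_single j]
      · by_cases hr : i = r
        · by_cases hs : j = σ s
          · rw [if_pos ⟨hr, rfl⟩, if_pos hs, if_pos ⟨hr, hs⟩]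
          · rw [if_neg hs, mul_zero, if_neg (fun h => hs h.2)]
        · rw [if_neg (fun h => hr h.1), zero_mul, if_neg (fun h => hr h.1)]
      · intro k _ hk
        rw [if_neg (fun h => hk h.2.symm), zero_mul]
      · intro h
        exact absurd (Finset.mem_univ _) h
    have hR : ∑ k : Fin n, (if r = σ k then ((c k : Fˣ) : F) else 0) *
        (if σ⁻¹ i = k ∧ σ⁻¹ j = s then
          a * ((c (σ⁻¹ j) : Fˣ) : F) * (((c (σ⁻¹ i))⁻¹ : Fˣ) : F) else 0) =
        if i = r ∧ j = σ s then a * ((c s : Fˣ) : F) else 0 := by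
      rw [Finset.sum_eq_single (σ⁻¹ i)]
      · by_cases hr : i = r
        · by_cases hs : j = σ s
          · have hs' : σ⁻¹ j = s := e3.mpr hs
            rw [if_pos (by rw [e1, hr]), if_pos ⟨rfl, hs'⟩, if_pos ⟨hr, hs⟩, hs']
            have hc : ((c (σ⁻¹ i) : Fˣ) : F) * (((c (σ⁻¹ i))⁻¹ : Fˣ) : F) = 1 := by
              rw [← Units.val_mul, mul_inv_cancel, Units.val_one]
            calc ((c (σ⁻¹ i) : Fˣ) : F) * (a * ((c s : Fˣ) : F) * (((c (σ⁻¹ i))⁻¹ : Fˣ) : F))
                = a * ((c s : Fˣ) : F) *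
                  (((c (σ⁻¹ i) : Fˣ) : F) * (((c (σ⁻¹ i))⁻¹ : Fˣ) : F)) := by ring
              _ = _ := by rw [hc, mul_one]
          · rw [if_neg (show ¬ (σ⁻¹ i = σ⁻¹ i ∧ σ⁻¹ j = s) from fun h => hs (e3.mp h.2)), mul_zero,
              if_neg (show ¬ (i = r ∧ j = σ s) from fun h => hs h.2)]
        · rw [if_neg, zero_mul, if_neg (fun h => hr h.1)]
          intro h
          apply hr
          rw [h, e1]
      · intro k _ hk
        rw [if_neg (show ¬ (σ⁻¹ i = k ∧ σ⁻¹ j = s) from fun h => hk h.1.symm), mul_zero]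
      · intro h
        exact absurd (Finset.mem_univ _) h
    rw [hL, hR]

end Cfsg.Agent.Helper12.GG
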