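import Mathlib
import Cfsg.Agent.Helper12.GGUniD
import Cfsg.Agent.Helper12.GGComb
import Cfsg.Agent.Helper12.GGAbsB

/-!
The Gelfand–Graev representation of `GL_n(F)` is multiplicity free.
-/

set_option autoImplicit false

namespace Cfsg.Agent.Helper12.GG

open Cfsg Matrix Finset Cfsg.Agent.Helper12.Stein
open scoped MatrixGroups

variable {F : Type*} [Field F] {n : ℕ}

theorem conj_xr_mono (σ : Equiv.Perm (Fin n)) (c : Fin n → Fˣ) (i j : Fin n) (hij : i ≠ j)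
    (a : F) :
    (mono σ c)⁻¹ * xr i j hij a * mono σ c = xr (σ⁻¹ i) (σ⁻¹ j)
      (fun h => hij (σ⁻¹.injective h))
      (a * ((c (σ⁻¹ j) : Fˣ) : F) * (((c (σ⁻¹ i))⁻¹ : Fˣ) : F)) := by
  rw [mul_assoc, xr_mul_mono, ← mul_assoc, inv_mul_cancel, one_mul]

/-- If a monomial matrix supports a `(U, ψ)`-bi-equivariant function, its permutation has only
ascents by one, with equal weights. -/
theorem mono_ascent (ψ₀ : AddChar F ℂ) (hψ₀ : ∀ c : F, (∀ a, ψ₀ (a * c) = 1) → c = 0)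
    (σ : Equiv.Perm (Fin n)) (c : Fin n → Fˣ)
    (hbad : ¬ Bad (unitri n F) (gPsi ψ₀) (mono σ c))
    (i : Fin n) (hi : i.val + 1 < n) (hlt : σ⁻¹ i < σ⁻¹ ⟨i.val + 1, hi⟩) :
    (σ⁻¹ ⟨i.val + 1, hi⟩).val = (σ⁻¹ i).val + 1 ∧ c (σ⁻¹ ⟨i.val + 1, hi⟩) = c (σ⁻¹ i) := by
  set i' : Fin n := ⟨i.val + 1, hi⟩ with hi'
  have hii' : i < i' := by
    rw [Fin.lt_def]
    show i.val < i.val + 1
    omega
  have key : ∀ a : F, ψ₀ a = ψ₀ (if (σ⁻¹ i').val = (σ⁻¹ i).val + 1 then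
      a * ((c (σ⁻¹ i') : Fˣ) : F) * (((c (σ⁻¹ i))⁻¹ : Fˣ) : F) else 0) := by
    intro a
    have h1 : (mono σ c)⁻¹ * ((⟨xr i i' hii'.ne a, xr_mem_unitri i i' hii' a⟩ : unitri n F) :
        GL (Fin n) F) * mono σ c ∈ unitri n F := by
      show (mono σ c)⁻¹ * xr i i' hii'.ne a * mono σ c ∈ unitri n F
      rw [conj_xr_mono]
      exact xr_mem_unitri _ _ hlt _
    have h2 : gPsi ψ₀ ⟨xr i i' hii'.ne a, xr_mem_unitri i i' hii' a⟩ =
        gPsi ψ₀ ⟨_, h1⟩ := by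
      by_contra hne
      exact hbad ⟨_, h1, hne⟩
    have h3 := congrArg (fun z : ℂˣ => (z : ℂ)) h2
    simp only [gPsi_apply] at h3
    rw [supSum_xr, if_pos rfl] at h3
    rw [h3]
    congr 1
    show supSum (((mono σ c)⁻¹ * xr i i' hii'.ne a * mono σ c : GL (Fin n) F) :
      Matrix (Fin n) (Fin n) F) = _
    rw [conj_xr_mono, supSum_xr]
  by_cases hs : (σ⁻¹ i').val = (σ⁻¹ i).val + 1
  · refine ⟨hs, ?_⟩
    simp only [if_pos hs] at key
    have h4 : (1 : F) - ((c (σ⁻¹ i') : Fˣ) : F) * (((c (σ⁻¹ i))⁻¹ : Fˣ) : F) = 0 := by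
      apply hψ₀
      intro a
      have h5 : a * (1 - ((c (σ⁻¹ i') : Fˣ) : F) * (((c (σ⁻¹ i))⁻¹ : Fˣ) : F)) =
          a + -(a * ((c (σ⁻¹ i') : Fˣ) : F) * (((c (σ⁻¹ i))⁻¹ : Fˣ) : F)) := by ring
      rw [h5, AddChar.map_add_eq_mul, AddChar.map_neg_eq_inv, ← key a]
      apply mul_inv_cancel₀
      intro h0
      have h6 := AddChar.map_add_eq_mul ψ₀ a (-a)
      rw [add_neg_cancel, AddChar.map_zero_eq_one, h0, zero_mul] at h6
      exact one_ne_zero h6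
    have h7 : ((c (σ⁻¹ i') : Fˣ) : F) = ((c (σ⁻¹ i) : Fˣ) : F) := by
      have h8 : ((c (σ⁻¹ i') : Fˣ) : F) * (((c (σ⁻¹ i))⁻¹ : Fˣ) : F) = 1 := by
        rw [sub_eq_zero] at h4
        exact h4.symm
      have h9 : ((c (σ⁻¹ i) : Fˣ) : F) ≠ 0 := Units.ne_zero _
      rw [Units.val_inv_eq_inv_val] at h8
      field_simp at h8
      exact h8
    exact Units.ext h7
  · exfalso
    simp only [if_neg hs, AddChar.map_zero_eq_one] at key
    have := hψ₀ 1 (fun a => by rw [mul_one]; exact key a)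
    exact one_ne_zero this

/-- A monomial matrix either is fixed by the anti-involution or supports no bi-equivariant
function. -/
theorem mono_dichotomy (ψ₀ : AddChar F ℂ) (hψ₀ : ∀ c : F, (∀ a, ψ₀ (a * c) = 1) → c = 0)
    (σ : Equiv.Perm (Fin n)) (c : Fin n → Fˣ) :
    tauGL (mono σ c) = mono σ c ∨ Bad (unitri n F) (gPsi ψ₀) (mono σ c) := by
  by_cases hbad : Bad (unitri n F) (gPsi ψ₀) (mono σ c)
  · exact Or.inr hbad
  left
  let f : Equiv.Perm (Fin n) := σ⁻¹.trans Fin.revPerm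
  have hf : ∀ k, f k = (σ⁻¹ k).rev := fun k => rfl
  have hinv := perm_involution_of_descents f (fun k => c k.rev) (by
    intro i hi hlt
    rw [hf, hf, Fin.rev_lt_rev] at hlt
    obtain ⟨h1, h2⟩ := mono_ascent ψ₀ hψ₀ σ c hbad i hi hlt
    refine ⟨?_, ?_⟩
    · rw [hf, hf, Fin.val_rev, Fin.val_rev, h1]
      have := (σ⁻¹ ⟨i.val + 1, hi⟩).2
      omega
    · show c (f ⟨i.val + 1, hi⟩).rev = c (f i).rev
      rw [hf, hf, Fin.rev_rev, Fin.rev_rev, h2])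
  have hσ : ∀ k, σ (σ⁻¹ k) = k := fun k => by
    rw [Equiv.Perm.inv_def, Equiv.apply_symm_apply]
  have hσ' : ∀ k, σ⁻¹ (σ k) = k := fun k => by
    rw [Equiv.Perm.inv_def, Equiv.symm_apply_apply]
  apply Units.ext
  apply Matrix.ext
  intro i j
  rw [tauGL_val, tauM_apply, mono_apply, mono_apply]
  by_cases h : i = σ j
  · have h1 := (hinv i).1
    rw [hf, hf, h, hσ'] at h1
    -- h1 : (σ⁻¹ j.rev).rev = σ j
    have h2 : j.rev = σ i.rev := by
      have : σ⁻¹ j.rev = (σ j).rev := by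
        rw [← h1, Fin.rev_rev]
      rw [h, ← this, hσ]
    have h3 := (hinv i).2
    simp only [hf, Fin.rev_rev] at h3
    rw [h, hσ'] at h3
    rw [if_pos h2, if_pos h, h, h3]
  · rw [if_neg h, if_neg]
    intro h2
    apply h
    have h1 := (hinv (σ j)).1
    rw [hf, hf, hσ', h2, hσ', Fin.rev_rev] at h1
    exact h1

/-- **Gelfand–Graev.** The `(U, ψ)`-part of an irreducible complex representation of `GL_n(F)`
is at most one-dimensional, for `ψ` a nondegenerate character of the unitriangular group. -/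
theorem finrank_whittaker_le_one {V : Type*} [AddCommGroup V] [Module ℂ V]
    [FiniteDimensional ℂ V] (ρ : Representation ℂ (GL (Fin n) F) V) [ρ.IsIrreducible]
    [Fintype (unitri n F)]
    (ψ₀ : AddChar F ℂ) (hψ₀ : ∀ c : F, (∀ a, ψ₀ (a * c) = 1) → c = 0) :
    Module.finrank ℂ (LinearMap.range (proj ρ (unitri n F) (gPsi ψ₀))) ≤ 1 := by
  apply finrank_range_proj_le_one
  have hτU : ∀ u : unitri n F, tauGL (u : GL (Fin n) F) ∈ unitri n F :=
    fun u => tauGL_mem_unitri u.2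
  apply tOp_comm ρ (unitri n F) (gPsi ψ₀) tauGL tauGL_mul tauGL_tauGL hτU (gPsi_tau ψ₀)
  apply tOp_tau ρ (unitri n F) (gPsi ψ₀) tauGL tauGL_mul hτU (gPsi_tau ψ₀)
  intro x
  obtain ⟨u₁, hu₁, u₂, hu₂, σ, c, hx⟩ := exists_unitri_mono x
  exact ⟨⟨u₁, hu₁⟩, ⟨u₂, hu₂⟩, mono σ c, hx, mono_dichotomy ψ₀ hψ₀ σ c⟩

end Cfsg.Agent.Helper12.GG
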