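import Mathlib
import Cfsg.Agent.Helper12.GGUniE

/-!
Rank-one computations in `GL_n(F)`: the simple reflections satisfy the hypothesis of the
rank-one Hecke relation.
-/

set_option autoImplicit false

namespace Cfsg.Agent.Helper12.GG

open Cfsg Matrix Finset Cfsg.Agent.Helper12.Stein
open scoped MatrixGroups

variable {F : Type*} [Field F] {n : ℕ}

theorem xr_mul_apply (i j : Fin n) (hij : i ≠ j) (a : F) (N : Matrix (Fin n) (Fin n) F)
    (r s : Fin n) :
    (((xr i j hij a : GL (Fin n) F) : Matrix (Fin n) (Fin n) F) * N) r s =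
      N r s + if r = i then a * N j s else 0 := by
  show ((1 + Matrix.single i j a : Matrix (Fin n) (Fin n) F) * N) r s = _
  rw [add_mul, one_mul, Matrix.add_apply]
  congr 1
  by_cases h : r = i
  · subst h
    rw [if_pos rfl, Matrix.single_mul_apply_same]
  · rw [if_neg h, Matrix.single_mul_apply_of_ne _ _ _ _ _ h]

theorem mul_xr_apply (i j : Fin n) (hij : i ≠ j) (a : F) (N : Matrix (Fin n) (Fin n) F)
    (r s : Fin n) :
    (N * ((xr i j hij a : GL (Fin n) F) : Matrix (Fin n) (Fin n) F)) r s =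
      N r s + if s = j then N r i * a else 0 := by
  show (N * (1 + Matrix.single i j a : Matrix (Fin n) (Fin n) F)) r s = _
  rw [mul_add, mul_one, Matrix.add_apply]
  congr 1
  by_cases h : s = j
  · subst h
    rw [if_pos rfl, Matrix.mul_single_apply_same]
  · rw [if_neg h, Matrix.mul_single_apply_of_ne _ _ _ _ _ h]

theorem swap_adj_val (i : Fin n) (hi : i.val + 1 < n) (x : Fin n) :
    (Equiv.swap i ⟨i.val + 1, hi⟩ x).val =
      if x.val = i.val then i.val + 1 else if x.val = i.val + 1 then i.val else x.val := by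
  rw [Equiv.swap_apply_def]
  by_cases h1 : x = i
  · rw [if_pos h1, if_pos (congrArg Fin.val h1)]
  · have h1' : ¬ x.val = i.val := fun h => h1 (Fin.ext h)
    rw [if_neg h1, if_neg h1']
    by_cases h2 : x = ⟨i.val + 1, hi⟩
    · rw [if_pos h2, if_pos (congrArg Fin.val h2)]
    · have h2' : ¬ x.val = i.val + 1 := fun h => h2 (Fin.ext h)
      rw [if_neg h2, if_neg h2']

theorem swap_conj_apply (σ : Equiv.Perm (Fin n)) (hσ : σ⁻¹ = σ) (u : GL (Fin n) F) (k l : Fin n) :
    ((Pm F n σ * u * Pm F n σ : GL (Fin n) F) : Matrix (Fin n) (Fin n) F) k l =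
      (u : Matrix (Fin n) (Fin n) F) (σ k) (σ l) := by
  rw [Units.val_mul, Units.val_mul, mul_Pm_apply, Pm_mul_apply, hσ]

theorem swap_conj_mem_unitri (i : Fin n) (hi : i.val + 1 < n) {u : GL (Fin n) F}
    (hu : u ∈ unitri n F) (h0 : (u : Matrix (Fin n) (Fin n) F) i ⟨i.val + 1, hi⟩ = 0) :
    Pm F n (Equiv.swap i ⟨i.val + 1, hi⟩) * u * Pm F n (Equiv.swap i ⟨i.val + 1, hi⟩) ∈
      unitri n F := by
  have hσ : (Equiv.swap i ⟨i.val + 1, hi⟩)⁻¹ = Equiv.swap i ⟨i.val + 1, hi⟩ := Equiv.swap_inv _ _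
  refine ⟨?_, ?_⟩
  · intro k l hlk
    have hlk' : l.val < k.val := hlk
    rw [swap_conj_apply _ hσ]
    by_cases h : Equiv.swap i ⟨i.val + 1, hi⟩ l < Equiv.swap i ⟨i.val + 1, hi⟩ k
    · exact hu.1 h
    · have h' : ¬ (Equiv.swap i ⟨i.val + 1, hi⟩ l).val < (Equiv.swap i ⟨i.val + 1, hi⟩ k).val := h
      have hk := swap_adj_val i hi k
      have hl := swap_adj_val i hi l
      have hne : (Equiv.swap i ⟨i.val + 1, hi⟩ l).val ≠ (Equiv.swap i ⟨i.val + 1, hi⟩ k).val := by
        intro he
        have := (Equiv.swap i ⟨i.val + 1, hi⟩).injective (Fin.ext he)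
        rw [this] at hlk'
        exact lt_irrefl _ hlk'
      have hkl : (Equiv.swap i ⟨i.val + 1, hi⟩ k).val = i.val ∧
          (Equiv.swap i ⟨i.val + 1, hi⟩ l).val = i.val + 1 := by
        split_ifs at hk hl <;> omega
      have e1 : Equiv.swap i ⟨i.val + 1, hi⟩ k = i := Fin.ext hkl.1
      have e2 : Equiv.swap i ⟨i.val + 1, hi⟩ l = ⟨i.val + 1, hi⟩ := Fin.ext hkl.2
      rw [e1, e2]
      exact h0
  · intro k
    rw [swap_conj_apply _ hσ]
    exact hu.2 _

/-- The torus part of the rank-one monomial element. -/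
noncomputable def cRk (i i' : Fin n) (a : Fˣ) : Fin n → Fˣ :=
  fun k => if k = i then a else if k = i' then -a⁻¹ else 1

theorem mono_swap_apply (i i' : Fin n) (hii' : i ≠ i') (a : Fˣ) (r s : Fin n) :
    ((mono (Equiv.swap i i') (cRk i i' a) : GL (Fin n) F) : Matrix (Fin n) (Fin n) F) r s =
      if s = i then (if r = i' then (a : F) else 0)
      else if s = i' then (if r = i then -((a⁻¹ : Fˣ) : F) else 0)
      else (if r = s then 1 else 0) := by
  rw [mono_apply]
  by_cases h1 : s = i
  · subst h1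
    rw [if_pos rfl, Equiv.swap_apply_left]
    unfold cRk
    rw [if_pos rfl]
  · rw [if_neg h1]
    by_cases h2 : s = i'
    · subst h2
      rw [if_pos rfl, Equiv.swap_apply_right]
      unfold cRk
      rw [if_neg h1, if_pos rfl]
      simp
    · rw [if_neg h2, Equiv.swap_apply_of_ne_of_ne h1 h2]
      unfold cRk
      rw [if_neg h1, if_neg h2]
      simp

theorem xr_neg_root (i i' : Fin n) (hii' : i ≠ i') (a : Fˣ) :
    xr i' i hii'.symm (a : F) =
      xr i i' hii' ((a⁻¹ : Fˣ) : F) * mono (Equiv.swap i i') (cRk i i' a) *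
        xr i i' hii' ((a⁻¹ : Fˣ) : F) := by
  apply Units.ext
  apply Matrix.ext
  intro r s
  rw [Units.val_mul, Units.val_mul, mul_xr_apply, xr_mul_apply, xr_mul_apply, xr_apply]
  simp only [mono_swap_apply i i' hii']
  by_cases hs1 : s = i
  · subst hs1
    simp only [if_true, if_neg hii']
    by_cases hr1 : r = s
    · subst hr1
      simp only [if_true, if_neg hii']
      simp [hii'.symm]
    · by_cases hr2 : r = i'
      · subst hr2
        simp [hii'.symm]
      · simp [hr1, hr2, Ne.symm hr2]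
  · by_cases hs2 : s = i'
    · subst hs2
      simp only [if_true, if_neg hs1]
      by_cases hr1 : r = i
      · subst hr1
        simp only [if_true, if_neg hii']
        simp [Ne.symm hs1]
      · by_cases hr2 : r = s
        · subst hr2
          simp [hr1, hii']
        · simp [hr1, hr2, Ne.symm hr2]
    · simp only [if_neg hs1, if_neg hs2]
      by_cases hr1 : r = i
      · subst hr1
        simp [Ne.symm hs1, Ne.symm hs2]
      · simp [hr1, Ne.symm hs1]

theorem dg_inv (c : Fin n → Fˣ) : ((dg c)⁻¹ : GL (Fin n) F) = dg (fun i => (c i)⁻¹) := by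
  apply Units.ext
  rw [dg_val, dg_inv_val]

theorem dg_conj_apply (c : Fin n → Fˣ) (h : GL (Fin n) F) (k l : Fin n) :
    ((dg c * h * (dg c)⁻¹ : GL (Fin n) F) : Matrix (Fin n) (Fin n) F) k l =
      (c k : F) * (h : Matrix (Fin n) (Fin n) F) k l * ((c l)⁻¹ : Fˣ) := by
  rw [Units.val_mul, Units.val_mul, dg_val, dg_inv_val, Matrix.mul_diagonal, Matrix.diagonal_mul]

theorem dg_conj_mem_unitri (c : Fin n → Fˣ) {h : GL (Fin n) F} (hh : h ∈ unitri n F) :
    dg c * h * (dg c)⁻¹ ∈ unitri n F := by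
  refine ⟨?_, ?_⟩
  · intro k l hlk
    rw [dg_conj_apply, hh.1 hlk, mul_zero, zero_mul]
  · intro k
    rw [dg_conj_apply, hh.2, mul_one, ← Units.val_mul, mul_inv_cancel, Units.val_one]

theorem dg_mem_normalizer (c : Fin n → Fˣ) :
    dg c ∈ Subgroup.normalizer ((unitri n F : Subgroup (GL (Fin n) F)) : Set (GL (Fin n) F)) := by
  rw [Subgroup.mem_normalizer_iff]
  intro h
  constructor
  · exact dg_conj_mem_unitri c
  · intro hh
    have h1 := dg_conj_mem_unitri (fun i => (c i)⁻¹) hh
    rw [← dg_inv] at h1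
    have h2 : (dg c)⁻¹ * (dg c * h * (dg c)⁻¹) * ((dg c)⁻¹)⁻¹ = h := by group
    rw [h2] at h1
    exact h1

theorem swap_conj_xr (i i' : Fin n) (hii' : i ≠ i') (a : F) :
    Pm F n (Equiv.swap i i') * xr i i' hii' a * Pm F n (Equiv.swap i i') =
      xr i' i hii'.symm a := by
  apply Units.ext
  apply Matrix.ext
  intro k l
  rw [swap_conj_apply _ (Equiv.swap_inv _ _), xr_apply, xr_apply]
  congr 1
  · by_cases h : k = l
    · rw [if_pos h, if_pos (by rw [h])]
    · rw [if_neg h, if_neg (fun h' => h ((Equiv.swap i i').injective h'))]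
  · have e1 : i = Equiv.swap i i' k ↔ i' = k := by
      constructor
      · intro h
        have := congrArg (Equiv.swap i i') h
        rw [Equiv.swap_apply_left, Equiv.swap_apply_self] at this
        exact this
      · intro h
        rw [← h, Equiv.swap_apply_right]
    have e2 : i' = Equiv.swap i i' l ↔ i = l := by
      constructor
      · intro h
        have := congrArg (Equiv.swap i i') h
        rw [Equiv.swap_apply_right, Equiv.swap_apply_self] at this
        exact this
      · intro h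
        rw [← h, Equiv.swap_apply_left]
    by_cases h : i' = k ∧ i = l
    · rw [if_pos h, if_pos ⟨e1.2 h.1, e2.2 h.2⟩]
    · rw [if_neg h, if_neg (fun h' => h ⟨e1.1 h'.1, e2.1 h'.2⟩)]

/-- The hypothesis of the rank-one Hecke relation for the simple reflections of `GL_n`. -/
theorem hecke_hyp (i : Fin n) (hi : i.val + 1 < n) (u : unitri n F) :
    Pm F n (Equiv.swap i ⟨i.val + 1, hi⟩) * (u : GL (Fin n) F) *
        Pm F n (Equiv.swap i ⟨i.val + 1, hi⟩) ∈ unitri n F ∨
      ∃ u₁ u₂ : unitri n F, ∃ t ∈ Subgroup.normalizer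
          ((unitri n F : Subgroup (GL (Fin n) F)) : Set (GL (Fin n) F)),
        Pm F n (Equiv.swap i ⟨i.val + 1, hi⟩) * (u : GL (Fin n) F) *
          Pm F n (Equiv.swap i ⟨i.val + 1, hi⟩) =
        (u₁ : GL (Fin n) F) * Pm F n (Equiv.swap i ⟨i.val + 1, hi⟩) * t * (u₂ : GL (Fin n) F) := by
  set i' : Fin n := ⟨i.val + 1, hi⟩ with hi'
  have hlt : i < i' := by
    rw [Fin.lt_def]
    show i.val < i.val + 1
    omega
  have hii' : i ≠ i' := hlt.ne
  set s : GL (Fin n) F := Pm F n (Equiv.swap i i') with hs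
  have hss : s * s = 1 := by
    rw [hs, ← map_mul, Equiv.swap_mul_self, map_one]
  by_cases ha : ((u : GL (Fin n) F) : Matrix (Fin n) (Fin n) F) i i' = 0
  · left
    exact swap_conj_mem_unitri i hi u.2 ha
  · right
    set a : F := ((u : GL (Fin n) F) : Matrix (Fin n) (Fin n) F) i i' with ha'
    set a' : Fˣ := Units.mk0 a ha with haa
    set u' : GL (Fin n) F := (u : GL (Fin n) F) * xr i i' hii' (-a) with hu'
    have hu'mem : u' ∈ unitri n F := (unitri n F).mul_mem u.2 (xr_mem_unitri i i' hlt (-a))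
    have hu'0 : (u' : Matrix (Fin n) (Fin n) F) i i' = 0 := by
      rw [hu', Units.val_mul, mul_xr_apply, if_pos rfl, u.2.2, one_mul, ← ha', add_neg_cancel]
    have h1 : s * u' * s ∈ unitri n F := swap_conj_mem_unitri i hi hu'mem hu'0
    have hb : xr i i' hii' ((a'⁻¹ : Fˣ) : F) ∈ unitri n F := xr_mem_unitri i i' hlt _
    have hxx : xr i i' hii' (-a) * xr i i' hii' a = 1 := by
      apply Units.ext
      rw [Units.val_mul, Units.val_one]
      show Matrix.transvection i i' (-a) * Matrix.transvection i i' a = 1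
      rw [Matrix.transvection_mul_transvection_same i i' hii', neg_add_cancel,
        Matrix.transvection_zero]
    have h2 : (u : GL (Fin n) F) = u' * xr i i' hii' a := by
      rw [hu', mul_assoc, hxx, mul_one]
    have h3 : s * xr i i' hii' a * s = xr i i' hii' ((a'⁻¹ : Fˣ) : F) *
        mono (Equiv.swap i i') (cRk i i' a') * xr i i' hii' ((a'⁻¹ : Fˣ) : F) := by
      rw [hs, swap_conj_xr, ← xr_neg_root i i' hii' a']
      rfl
    refine ⟨⟨s * u' * s * xr i i' hii' ((a'⁻¹ : Fˣ) : F), (unitri n F).mul_mem h1 hb⟩,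
      ⟨xr i i' hii' ((a'⁻¹ : Fˣ) : F), hb⟩, dg (cRk i i' a'), dg_mem_normalizer _, ?_⟩
    show s * (u : GL (Fin n) F) * s = s * u' * s * xr i i' hii' ((a'⁻¹ : Fˣ) : F) * s *
      dg (cRk i i' a') * xr i i' hii' ((a'⁻¹ : Fˣ) : F)
    have h4 : s * (u : GL (Fin n) F) * s = (s * u' * s) * (s * xr i i' hii' a * s) := by
      rw [h2]
      calc s * (u' * xr i i' hii' a) * s = s * u' * 1 * xr i i' hii' a * s := by group
        _ = s * u' * (s * s) * xr i i' hii' a * s := by rw [hss]
        _ = _ := by group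
    rw [h4, h3]
    unfold mono
    rw [← hs]
    group

end Cfsg.Agent.Helper12.GG
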