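import Mathlib
import Cfsg.Agent.Helper12.GGUniG
import Cfsg.Agent.Helper12.GGUniF
import Cfsg.Agent.Helper12.GGAbsD

/-!
An irreducible representation of `GL_n(F)` whose character vanishes on the nontrivial unipotent
upper triangular matrices has degree `|U|` and a Borel eigenvector with eigencharacter
`α ∘ det`.
-/

set_option autoImplicit false

namespace Cfsg.Agent.Helper12.GG

open Cfsg Matrix Finset Cfsg.Agent.Helper12.Stein
open scoped MatrixGroups

variable {F : Type*} [Field F] {n : ℕ}

theorem exists_nondeg_addChar [Finite F] :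
    ∃ ψ₀ : AddChar F ℂ, ∀ c : F, (∀ a, ψ₀ (a * c) = 1) → c = 0 := by
  refine ⟨AddChar.FiniteField.primitiveChar_to_Complex F, ?_⟩
  intro c hc
  by_contra hc0
  have h1 := AddChar.FiniteField.primitiveChar_to_Complex_isPrimitive F hc0
  apply h1
  ext a
  rw [AddChar.mulShift_apply, mul_comm, hc a]
  rfl

theorem finrank_pos_of_irreducible {G : Type*} [Group G] {V : Type*} [AddCommGroup V] [Module ℂ V]
    [FiniteDimensional ℂ V] (ρ : Representation ℂ G V) [ρ.IsIrreducible] :
    Module.finrank ℂ V ≠ 0 := by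
  intro h0
  have hsub : Subsingleton V := Module.finrank_zero_iff.mp h0
  have h1 : (⊥ : Subrepresentation ρ) ≠ ⊤ := bot_ne_top
  apply h1
  apply Subrepresentation.toSubmodule_injective
  apply Submodule.ext
  intro x
  rw [Subsingleton.elim x 0]
  exact ⟨fun _ => Submodule.zero_mem _, fun _ => Submodule.zero_mem _⟩

section

variable {V : Type*} [AddCommGroup V] [Module ℂ V] [FiniteDimensional ℂ V]
  (ρ : Representation ℂ (GL (Fin n) F) V) [Fintype (unitri n F)]

/-- The multiplicity of a linear character of `U` in a representation whose character vanishes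
on `U ∖ 1`. -/
theorem finrank_range_proj_of_vanish
    (hvan : ∀ u ∈ unitri n F, u ≠ 1 → ρ.character u = 0) (ψ : unitri n F →* ℂˣ) :
    ρ.character 1 = (Module.finrank ℂ (LinearMap.range (proj ρ (unitri n F) ψ)) : ℂ) *
      (Nat.card (unitri n F) : ℂ) := by
  have hcard : (Nat.card (unitri n F) : ℂ) ≠ 0 := by
    rw [Nat.cast_ne_zero]
    exact Nat.card_pos.ne'
  have h1 := trace_proj ρ (unitri n F) ψ
  rw [trace_proj_eq_finrank] at h1
  rw [Finset.sum_eq_single (1 : unitri n F)] at h1
  · rw [h1, map_one, inv_one, Units.val_one, one_mul, Subgroup.coe_one]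
    field_simp
  · intro u _ hu
    rw [hvan (u : GL (Fin n) F) u.2 (fun h => hu (Subtype.ext h)), mul_zero]
  · intro h
    exact absurd (Finset.mem_univ _) h

theorem character_one_of_vanish [Finite F] [ρ.IsIrreducible]
    (hvan : ∀ u ∈ unitri n F, u ≠ 1 → ρ.character u = 0) :
    ρ.character 1 = (Nat.card (unitri n F) : ℂ) ∧
      Module.finrank ℂ (LinearMap.range (proj ρ (unitri n F) 1)) = 1 := by
  obtain ⟨ψ₀, hψ₀⟩ := exists_nondeg_addChar (F := F)
  have hcard : (Nat.card (unitri n F) : ℂ) ≠ 0 := by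
    rw [Nat.cast_ne_zero]
    exact Nat.card_pos.ne'
  have h1 := finrank_range_proj_of_vanish ρ hvan (gPsi ψ₀)
  have h2 := finrank_whittaker_le_one ρ ψ₀ hψ₀
  have h3 : ρ.character 1 = (Module.finrank ℂ V : ℂ) := Representation.char_one ρ
  have h4 := finrank_pos_of_irreducible ρ
  have h5 : Module.finrank ℂ (LinearMap.range (proj ρ (unitri n F) (gPsi ψ₀))) = 1 := by
    rcases Nat.le_one_iff_eq_zero_or_eq_one.mp h2 with h | h
    · exfalso
      rw [h, Nat.cast_zero, zero_mul, h3, Nat.cast_eq_zero] at h1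
      exact h4 h1
    · exact h
  rw [h5, Nat.cast_one, one_mul] at h1
  refine ⟨h1, ?_⟩
  have h6 := finrank_range_proj_of_vanish ρ hvan 1
  rw [h1] at h6
  have h7 : ((Module.finrank ℂ (LinearMap.range (proj ρ (unitri n F) 1)) : ℕ) : ℂ) = 1 := by
    have h8 : (1 : ℂ) * (Nat.card (unitri n F) : ℂ) =
        ((Module.finrank ℂ (LinearMap.range (proj ρ (unitri n F) 1)) : ℕ) : ℂ) *
          (Nat.card (unitri n F) : ℂ) := by
      rw [one_mul]
      exact h6
    exact (mul_right_cancel₀ hcard h8).symm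
  exact_mod_cast h7

end

end Cfsg.Agent.Helper12.GG
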