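import Mathlib
import Cfsg.Agent.Helper12.GGUniH

/-!
The Borel eigenvector of an irreducible representation of `GL_n(F)` whose character vanishes on
the nontrivial unipotent upper triangular matrices, with eigencharacter `α ∘ det`.
-/

set_option autoImplicit false

namespace Cfsg.Agent.Helper12.GG

open Cfsg Matrix Finset Cfsg.Agent.Helper12.Stein
open scoped MatrixGroups

variable {F : Type*} [Field F] {n : ℕ}

theorem det_dg (c : Fin n → Fˣ) :
    Matrix.GeneralLinearGroup.det (dg c : GL (Fin n) F) = ∏ k, c k := by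
  apply Units.ext
  rw [Matrix.GeneralLinearGroup.val_det_apply, dg_val, Matrix.det_diagonal, Units.coe_prod]

theorem det_of_mem_unitri {u : GL (Fin n) F} (hu : u ∈ unitri n F) :
    Matrix.GeneralLinearGroup.det u = 1 := by
  apply Units.ext
  rw [Matrix.GeneralLinearGroup.val_det_apply, Matrix.det_of_isUpperTriangular hu.1, Units.val_one]
  apply Finset.prod_eq_one
  intro i _
  exact hu.2 i

theorem mulSingle_comp_swap (i : Fin n) (hi : i.val + 1 < n) (a : Fˣ) :
    (fun j => (Pi.mulSingle i a : Fin n → Fˣ) (Equiv.swap i ⟨i.val + 1, hi⟩ j)) =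
      Pi.mulSingle (⟨i.val + 1, hi⟩ : Fin n) a := by
  funext j
  by_cases hj : j = ⟨i.val + 1, hi⟩
  · subst hj
    rw [Equiv.swap_apply_right, Pi.mulSingle_eq_same, Pi.mulSingle_eq_same]
  · rw [Pi.mulSingle_eq_of_ne hj]
    apply Pi.mulSingle_eq_of_ne
    intro h
    apply hj
    have := congrArg (Equiv.swap i ⟨i.val + 1, hi⟩) h
    rw [Equiv.swap_apply_self, Equiv.swap_apply_left] at this
    exact this

/-- A multiplicative function on the diagonal torus that is invariant under the adjacent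
transpositions factors through the product of the entries. -/
theorem torus_char_eq (hn : 0 < n) (lam : (Fin n → Fˣ) →* ℂ)
    (hinv : ∀ (i : Fin n) (hi : i.val + 1 < n) (c : Fin n → Fˣ),
      lam (fun j => c (Equiv.swap i ⟨i.val + 1, hi⟩ j)) = lam c) (c : Fin n → Fˣ) :
    lam c = lam (Pi.mulSingle (⟨0, hn⟩ : Fin n) (∏ k, c k)) := by
  classical
  have h1 : ∀ (m : ℕ) (hm : m < n) (a : Fˣ),
      lam (Pi.mulSingle (⟨m, hm⟩ : Fin n) a) = lam (Pi.mulSingle (⟨0, hn⟩ : Fin n) a) := by
    intro m
    induction m with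
    | zero => intro hm a; rfl
    | succ m ih =>
      intro hm a
      have hm' : m < n := by omega
      rw [← ih hm' a, ← mulSingle_comp_swap (⟨m, hm'⟩ : Fin n) hm a, hinv]
  have h2 : c = ∏ k, Pi.mulSingle k (c k) := (Finset.univ_prod_mulSingle c).symm
  conv_lhs => rw [h2]
  rw [map_prod]
  have h3 : ∀ k : Fin n, lam (Pi.mulSingle k (c k)) =
      (lam.comp (MonoidHom.mulSingle (fun _ : Fin n => Fˣ) (⟨0, hn⟩ : Fin n))) (c k) := by
    intro k
    exact h1 k.val k.2 (c k)
  rw [Finset.prod_congr rfl (fun k _ => h3 k), ← map_prod]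
  rfl

section

variable {V : Type*} [AddCommGroup V] [Module ℂ V] [FiniteDimensional ℂ V]
  (ρ : Representation ℂ (GL (Fin n) F) V)

theorem exists_borel_eigen [Finite F] [ρ.IsIrreducible] (hn : 0 < n)
    (hvan : ∀ u ∈ unitri n F, u ≠ 1 → ρ.character u = 0) :
    ∃ α : Fˣ →* ℂˣ, ∃ v : V, v ≠ 0 ∧ ∀ b ∈ upperTriangularGL n F,
      ρ b v = ((α (Matrix.GeneralLinearGroup.det b) : ℂˣ) : ℂ) • v := by
  classical
  have : Finite (GL (Fin n) F) := by
    have : Fintype F := Fintype.ofFinite F
    infer_instance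
  have : Fintype (unitri n F) := Fintype.ofFinite _
  obtain ⟨_, hrk⟩ := character_one_of_vanish ρ hvan
  set P := proj ρ (unitri n F) 1 with hP
  obtain ⟨v', hv'0, hv'⟩ := finrank_eq_one_iff'.mp hrk
  set v : V := (v' : V) with hv
  have hv0 : v ≠ 0 := fun h => hv'0 (Subtype.ext h)
  have hvmem : v ∈ LinearMap.range P := v'.2
  have hrank : ∀ w ∈ LinearMap.range P, ∃ a : ℂ, w = a • v := by
    intro w hw
    obtain ⟨a, ha⟩ := hv' ⟨w, hw⟩
    refine ⟨a, ?_⟩
    have := congrArg Subtype.val ha
    exact this.symm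
  have hfix : ∀ u : unitri n F, ρ (u : GL (Fin n) F) v = v := by
    intro u
    have := (mem_range_proj_iff ρ (unitri n F) 1 v).mp hvmem u
    rw [this, MonoidHom.one_apply, Units.val_one, one_smul]
  have hPv : P v = v := by
    apply proj_apply_of_eigen
    intro u
    rw [hfix u, MonoidHom.one_apply, Units.val_one, one_smul]
  have hPne : P ≠ 0 := by
    intro h
    apply hv0
    rw [← hPv, h, LinearMap.zero_apply]
  -- the torus acts on the line
  have htor : ∀ c : Fin n → Fˣ, ∃ z : ℂ, ρ (dg c) v = z • v := by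
    intro c
    apply hrank
    refine ⟨ρ (dg c) v, ?_⟩
    have h1 := rho_comm_proj_one ρ (unitri n F) (dg c) (dg_mem_normalizer c)
    have h2 := congrArg (fun f : Module.End ℂ V => f v) h1
    simp only [Module.End.mul_apply] at h2
    rw [← hP, hPv] at h2
    exact h2.symm
  choose lam hlam using htor
  have hlam_mul : ∀ c c', lam (c * c') = lam c * lam c' := by
    intro c c'
    have h1 : dg (c * c') = (dg c * dg c' : GL (Fin n) F) := by
      rw [dg_mul_dg]
      rfl
    have h2 : ρ (dg (c * c')) v = (lam c * lam c') • v := by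
      rw [h1, map_mul, Module.End.mul_apply, hlam c', map_smul, hlam c, smul_smul, mul_comm]
    rw [hlam (c * c')] at h2
    have h3 : (lam (c * c') - lam c * lam c') • v = 0 := by
      rw [sub_smul, h2, sub_self]
    rcases smul_eq_zero.mp h3 with h | h
    · exact sub_eq_zero.mp h
    · exact absurd h hv0
  have hlam_one : lam 1 = 1 := by
    have h1 : (dg (1 : Fin n → Fˣ) : GL (Fin n) F) = 1 := by
      apply Units.ext
      rw [dg_val, Units.val_one]
      simp
    have h2 := hlam 1
    rw [h1, map_one, Module.End.one_apply] at h2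
    have h3 : (lam 1 - 1) • v = 0 := by
      rw [sub_smul, ← h2, one_smul, sub_self]
    rcases smul_eq_zero.mp h3 with h | h
    · exact sub_eq_zero.mp h
    · exact absurd h hv0
  let lamHom : (Fin n → Fˣ) →* ℂ :=
    { toFun := lam
      map_one' := hlam_one
      map_mul' := hlam_mul }
  have hinv : ∀ (i : Fin n) (hi : i.val + 1 < n) (c : Fin n → Fˣ),
      lamHom (fun j => c (Equiv.swap i ⟨i.val + 1, hi⟩ j)) = lamHom c := by
    intro i hi c
    symm
    set s : GL (Fin n) F := Pm F n (Equiv.swap i ⟨i.val + 1, hi⟩) with hs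
    have hss : s * s = 1 := by
      rw [hs, ← map_mul, Equiv.swap_mul_self, map_one]
    have hτ : tOp ρ (unitri n F) 1 s ≠ 0 :=
      tOp_ne_zero_of_hecke ρ (unitri n F) s hss hPne (fun u => hecke_hyp i hi u)
    have hconj : s⁻¹ * dg c * s = dg (fun j => c (Equiv.swap i ⟨i.val + 1, hi⟩ j)) := by
      rw [mul_assoc, hs, dg_mul_Pm, ← mul_assoc, inv_mul_cancel, one_mul]
    apply eigen_invariant ρ (unitri n F) s (dg c) (dg_mem_normalizer c) v hrank hτ
    · exact hlam c
    · rw [hconj]
      exact hlam _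
  have hlam_eq := torus_char_eq hn lamHom hinv
  let α₀ : Fˣ →* ℂ := lamHom.comp (MonoidHom.mulSingle (fun _ : Fin n => Fˣ) (⟨0, hn⟩ : Fin n))
  refine ⟨α₀.toHomUnits, v, hv0, ?_⟩
  intro b hb
  obtain ⟨u, hu, t, hbt⟩ := exists_unitri_mul_dg hb
  have hdet : Matrix.GeneralLinearGroup.det b = ∏ k, t k := by
    rw [hbt, map_mul, det_of_mem_unitri hu, one_mul, det_dg]
  rw [hdet, MonoidHom.coe_toHomUnits]
  have h1 : ρ b v = lam t • v := by
    rw [hbt, map_mul, Module.End.mul_apply, hlam t, map_smul, hfix ⟨u, hu⟩]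
  rw [h1]
  congr 1
  exact hlam_eq t

end

end Cfsg.Agent.Helper12.GG
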