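import Mathlib
import Cfsg.Agent.Helper12.GGUniI
import Cfsg.Agent.Helper5.PermChar
import Cfsg.Agent.Helper8.Ind
import Cfsg.Agent.Helper24.CharBasic

/-!
An irreducible character of `GL_n(F)` vanishing on the nontrivial unipotent upper triangular
matrices is, up to a twist by a linear character `α ∘ det`, a constituent of the permutation
character on the full flags.
-/

set_option autoImplicit false

namespace Cfsg.Agent.Helper12.GG

open Cfsg Matrix Finset Cfsg.Agent.Helper12.Stein
open scoped MatrixGroups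

variable {F : Type*} [Field F] {n : ℕ}

theorem classInner_borel_ne_zero [Fintype F] [DecidableEq F] (hn : 0 < n)
    (χ : GL (Fin n) F → ℂ)
    (hχ : IsIrrCharacter (GL (Fin n) F) χ)
    (hvan : ∀ u ∈ unitri n F, u ≠ 1 → χ u = 0) :
    χ 1 = (Nat.card (unitri n F) : ℂ) ∧
    ∃ α : Fˣ →* ℂˣ,
      classInner (fixedPointCharacter (upperTriangularGL n F))
        (fun g => ((α (Matrix.GeneralLinearGroup.det g) : ℂˣ) : ℂ) * χ g) ≠ 0 := by
  classical
  obtain ⟨m, ρ, hirr, hchar⟩ := hχ
  have := hirr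
  have : Fintype (unitri n F) := Fintype.ofFinite _
  have : Fintype (upperTriangularGL n F) := Fintype.ofFinite _
  have hvan' : ∀ u ∈ unitri n F, u ≠ 1 → ρ.character u = 0 := by
    intro u hu hu1
    rw [hchar]
    exact hvan u hu hu1
  obtain ⟨hdeg, _⟩ := character_one_of_vanish ρ hvan'
  rw [hchar] at hdeg
  refine ⟨hdeg, ?_⟩
  obtain ⟨α, v, hv0, hv⟩ := exists_borel_eigen ρ hn hvan'
  refine ⟨α⁻¹, ?_⟩
  set B := upperTriangularGL n F with hB
  set ψB : B →* ℂˣ := (α.comp Matrix.GeneralLinearGroup.det).comp B.subtype with hψB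
  have hmem : v ∈ LinearMap.range (proj ρ B ψB) := by
    rw [mem_range_proj_iff]
    intro b
    exact hv (b : GL (Fin n) F) b.2
  have hrk : Module.finrank ℂ (LinearMap.range (proj ρ B ψB)) ≠ 0 := by
    intro h0
    have hsub : Subsingleton (LinearMap.range (proj ρ B ψB)) := Module.finrank_zero_iff.mp h0
    apply hv0
    have := Subsingleton.elim (⟨v, hmem⟩ : LinearMap.range (proj ρ B ψB)) 0
    exact congrArg Subtype.val this
  have htr := trace_proj ρ B ψB
  rw [trace_proj_eq_finrank] at htr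
  have hfp : fixedPointCharacter B = indFun B (fun _ => 1) := by
    funext g
    rw [Cfsg.Agent.Helper5.indFun_one_eq_card_fixedBy]
    rfl
  have hcf : IsClassFunction (GL (Fin n) F)
      (fun g => (((α⁻¹) (Matrix.GeneralLinearGroup.det g) : ℂˣ) : ℂ) * χ g) := by
    intro g h
    have h1 : Matrix.GeneralLinearGroup.det (h * g * h⁻¹) = Matrix.GeneralLinearGroup.det g := by
      rw [map_mul, map_mul, map_inv, mul_comm, ← mul_assoc, inv_mul_cancel, one_mul]
    have h2 : χ (h * g * h⁻¹) = χ g := by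
      rw [← hchar]
      exact Representation.char_conj ρ g h
    show (((α⁻¹) (Matrix.GeneralLinearGroup.det (h * g * h⁻¹)) : ℂˣ) : ℂ) * χ (h * g * h⁻¹) = _
    rw [h1, h2]
  rw [hfp, Cfsg.Agent.Helper8.frobenius_reciprocity B _ _ hcf]
  unfold classInner
  have hcardB : (Nat.card B : ℂ) ≠ 0 := by
    rw [Nat.cast_ne_zero]
    exact Nat.card_pos.ne'
  intro h0
  apply hrk
  have h3 : (Nat.card B : ℂ)⁻¹ * ∑ b : B, (((ψB b)⁻¹ : ℂˣ) : ℂ) * ρ.character (b : GL (Fin n) F) =
      (starRingEnd ℂ) ((Nat.card B : ℂ)⁻¹ * ∑ b : B, (1 : ℂ) * (starRingEnd ℂ)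
        ((((α⁻¹) (Matrix.GeneralLinearGroup.det (b : GL (Fin n) F)) : ℂˣ) : ℂ) *
          χ (b : GL (Fin n) F))) := by
    rw [map_mul, map_inv₀, Complex.conj_natCast, map_sum]
    congr 1
    apply Finset.sum_congr rfl
    intro b _
    rw [one_mul, Complex.conj_conj, hchar]
    rfl
  rw [h0, map_zero] at h3
  rw [h3] at htr
  exact_mod_cast htr

end Cfsg.Agent.Helper12.GG
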