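import Mathlib
import Cfsg.Prelude.Def_ParabolicCharacters
import Cfsg.Agent.Helper24.TwoTransitive

/-!
Inner products of permutation characters on coset spaces: orbits on pairs of cosets.
-/

set_option autoImplicit false

namespace Cfsg.Agent.Helper12.Stein

open Cfsg MulAction

universe u

section General

variable {G : Type u} [Group G]

/-- Fixed points of a product action. -/
def fixedByProdEquiv (A B : Type*) [MulAction G A] [MulAction G B] (g : G) :
    fixedBy (A × B) g ≃ fixedBy A g × fixedBy B g where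
  toFun p := ⟨⟨p.1.1, congrArg Prod.fst p.2⟩, ⟨p.1.2, congrArg Prod.snd p.2⟩⟩
  invFun p := ⟨(p.1.1, p.2.1), Prod.ext p.1.2 p.2.2⟩
  left_inv _ := rfl
  right_inv _ := rfl

/-- The averaged product of two permutation characters counts the orbits on pairs of cosets. -/
theorem inner_fixedPointCharacter [Fintype G] (H K : Subgroup G) :
    (Nat.card G : ℂ)⁻¹ * ∑ g : G, fixedPointCharacter H g * fixedPointCharacter K g =
      (Nat.card (orbitRel.Quotient G ((G ⧸ H) × (G ⧸ K))) : ℂ) := by
  have h1 : ∀ g : G, fixedPointCharacter H g * fixedPointCharacter K g =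
      (Nat.card (fixedBy ((G ⧸ H) × (G ⧸ K)) g) : ℂ) := by
    intro g
    unfold fixedPointCharacter
    rw [Nat.card_congr (fixedByProdEquiv (G ⧸ H) (G ⧸ K) g), Nat.card_prod]
    push_cast
    rfl
  rw [Finset.sum_congr rfl (fun g _ => h1 g),
    Cfsg.Agent.Helper24.sum_card_fixedBy_complex]
  have hG : (Nat.card G : ℂ) ≠ 0 := by
    rw [Nat.cast_ne_zero]
    exact Nat.card_pos.ne'
  field_simp

/-- Orbits on pairs of cosets are classified by any complete invariant of the double cosets. -/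
theorem card_orbits_eq_of_invariant (H K : Subgroup G) {Z : Type*} (Φ : G → Z)
    (hΦ : ∀ g g' : G, Φ g = Φ g' ↔ ∃ h ∈ H, ∃ k ∈ K, g' = h * g * k)
    (hsurj : Function.Surjective Φ) :
    Nat.card (orbitRel.Quotient G ((G ⧸ H) × (G ⧸ K))) = Nat.card Z := by
  have hinv : ∀ (g : G) (h : G) (k : G), h ∈ H → k ∈ K → Φ (h * g * k) = Φ g := by
    intro g h k hh hk
    exact ((hΦ g (h * g * k)).mpr ⟨h, hh, k, hk, rfl⟩).symm
  let Ψ : (G ⧸ H) × (G ⧸ K) → Z := fun p => Φ (p.1.out⁻¹ * p.2.out)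
  have hΨ : ∀ (x y : G), Ψ ((x : G ⧸ H), (y : G ⧸ K)) = Φ (x⁻¹ * y) := by
    intro x y
    obtain ⟨h, hh⟩ := QuotientGroup.mk_out_eq_mul H x
    obtain ⟨k, hk⟩ := QuotientGroup.mk_out_eq_mul K y
    show Φ ((x : G ⧸ H).out⁻¹ * (y : G ⧸ K).out) = _
    rw [hh, hk]
    have : (x * (h : G))⁻¹ * (y * (k : G)) = (h : G)⁻¹ * (x⁻¹ * y) * (k : G) := by group
    rw [this]
    exact hinv _ _ _ (H.inv_mem h.2) k.2
  have hΨinv : ∀ (p q : (G ⧸ H) × (G ⧸ K)), orbitRel G _ p q → Ψ p = Ψ q := by
    rintro ⟨a, b⟩ ⟨c, d⟩ ⟨g, hg⟩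
    induction a using QuotientGroup.induction_on with | _ x => ?_
    induction b using QuotientGroup.induction_on with | _ y => ?_
    induction c using QuotientGroup.induction_on with | _ x' => ?_
    induction d using QuotientGroup.induction_on with | _ y' => ?_
    simp only [Prod.smul_mk, Prod.mk.injEq] at hg
    rw [← hg.1, ← hg.2]
    show Ψ ((((g * x' : G)) : G ⧸ H), (((g * y' : G)) : G ⧸ K)) = _
    rw [hΨ, hΨ]
    congr 1
    group
  apply Nat.card_congr
  refine Equiv.ofBijective (Quotient.lift Ψ hΨinv) ⟨?_, ?_⟩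
  · intro p q
    induction p using Quotient.inductionOn with | _ p => ?_
    induction q using Quotient.inductionOn with | _ q => ?_
    obtain ⟨a, b⟩ := p
    obtain ⟨c, d⟩ := q
    induction a using QuotientGroup.induction_on with | _ x => ?_
    induction b using QuotientGroup.induction_on with | _ y => ?_
    induction c using QuotientGroup.induction_on with | _ x' => ?_
    induction d using QuotientGroup.induction_on with | _ y' => ?_
    intro hpq
    simp only [Quotient.lift_mk] at hpq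
    rw [hΨ, hΨ] at hpq
    obtain ⟨h, hh, k, hk, hhk⟩ := (hΦ _ _).mp hpq
    apply Quotient.sound
    -- need g with g • (x', y') = (x, y)
    refine ⟨x * h⁻¹ * x'⁻¹, ?_⟩
    simp only [Prod.smul_mk, Prod.mk.injEq]
    constructor
    · show (((x * h⁻¹ * x'⁻¹ * x' : G)) : G ⧸ H) = (x : G ⧸ H)
      rw [QuotientGroup.eq]
      have : (x * h⁻¹ * x'⁻¹ * x')⁻¹ * x = h := by group
      rw [this]
      exact hh
    · show (((x * h⁻¹ * x'⁻¹ * y' : G)) : G ⧸ K) = (y : G ⧸ K)
      rw [QuotientGroup.eq]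
      have : (x * h⁻¹ * x'⁻¹ * y')⁻¹ * y = (x'⁻¹ * y')⁻¹ * h * (x⁻¹ * y) := by group
      rw [this, hhk]
      have : (h * (x⁻¹ * y) * k)⁻¹ * h * (x⁻¹ * y) = k⁻¹ := by group
      rw [this]
      exact K.inv_mem hk
  · intro z
    obtain ⟨g, rfl⟩ := hsurj z
    refine ⟨Quotient.mk _ (((1 : G) : G ⧸ H), ((g : G) : G ⧸ K)), ?_⟩
    simp only [Quotient.lift_mk]
    rw [hΨ]
    simp

end General

end Cfsg.Agent.Helper12.Stein
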