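import Mathlib
import Cfsg.Agent.Helper12.SteinA

/-!
Double cosets of label stabilisers in a symmetric group: the cell-count matrix.
-/

set_option autoImplicit false

namespace Cfsg.Agent.Helper12.Stein

open MulAction

/-- Two maps with equinumerous fibres differ by a bijection of the sources. -/
theorem exists_equiv_of_card_fiber_eq {X Y I : Type*} [Finite X] [Finite Y]
    (f : X → I) (g : Y → I)
    (h : ∀ i, Nat.card {x // f x = i} = Nat.card {y // g y = i}) :
    ∃ e : X ≃ Y, ∀ x, g (e x) = f x := by
  have h' : ∀ i, Nonempty ({x // f x = i} ≃ {y // g y = i}) := fun i =>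
    Finite.card_eq.mp (h i)
  have ε : ∀ i, {x // f x = i} ≃ {y // g y = i} := fun i => (h' i).some
  refine ⟨(Equiv.sigmaFiberEquiv f).symm.trans
    ((Equiv.sigmaCongrRight ε).trans (Equiv.sigmaFiberEquiv g)), ?_⟩
  intro x
  exact (ε (f x) ⟨x, rfl⟩).2

section Perm

variable {X I J : Type*} [Fintype X] [DecidableEq X]

/-- The stabiliser of a labelling in the symmetric group. -/
def labelStab (a : X → I) : Subgroup (Equiv.Perm X) where
  carrier := {σ | ∀ x, a (σ x) = a x}
  mul_mem' := fun {s} {t} hs ht x => by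
    change a (s (t x)) = a x
    rw [hs, ht]
  one_mem' := fun _ => rfl
  inv_mem' := fun {s} hs x => by
    have h := hs (s⁻¹ x)
    have e : s (s⁻¹ x) = x := by simp
    rw [e] at h
    exact h.symm

omit [Fintype X] [DecidableEq X] in
theorem mem_labelStab (a : X → I) (σ : Equiv.Perm X) :
    σ ∈ labelStab a ↔ ∀ x, a (σ x) = a x := Iff.rfl

/-- The cell counts of a permutation with respect to two labellings. -/
noncomputable def cell (a : X → I) (b : X → J) (w : Equiv.Perm X) (i : I) (j : J) : ℕ :=
  Nat.card {x // a (w x) = i ∧ b x = j}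

omit [DecidableEq X] in
theorem cell_eq_iff (a : X → I) (b : X → J) (w w' : Equiv.Perm X) :
    cell a b w = cell a b w' ↔
      ∃ y ∈ labelStab a, ∃ y' ∈ labelStab b, w' = y * w * y' := by
  constructor
  · intro h
    have hfib : ∀ p : I × J, Nat.card {x // (a (w' x), b x) = p} =
        Nat.card {x // (a (w x), b x) = p} := by
      rintro ⟨i, j⟩
      have := congrFun (congrFun h i) j
      unfold cell at this
      simp only [Prod.mk.injEq]
      exact this.symm
    obtain ⟨τ, hτ⟩ := exists_equiv_of_card_fiber_eq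
      (fun x => (a (w' x), b x)) (fun x => (a (w x), b x)) hfib
    simp only [Prod.mk.injEq] at hτ
    refine ⟨w' * τ⁻¹ * w⁻¹, ?_, τ, fun x => (hτ x).2, ?_⟩
    · intro z
      show a (w' (τ⁻¹ (w⁻¹ z))) = a z
      rw [← (hτ _).1]
      simp
    · simp [mul_assoc]
  · rintro ⟨y, hy, y', hy', rfl⟩
    funext i j
    unfold cell
    refine (Nat.card_congr ?_).symm
    refine Equiv.subtypeEquiv y' ?_
    intro x
    show a ((y * w * y') x) = i ∧ b x = j ↔ a (w (y' x)) = i ∧ b (y' x) = j
    rw [hy' x]
    show a (y (w (y' x))) = i ∧ b x = j ↔ _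
    rw [hy]

theorem sum_cell_right [Fintype J] (a : X → I) (b : X → J) (w : Equiv.Perm X) (i : I) :
    ∑ j, cell a b w i j = Nat.card {x // a x = i} := by
  classical
  unfold cell
  have h1 : Nat.card {x // a x = i} = Nat.card {x // a (w x) = i} := by
    refine (Nat.card_congr ?_).symm
    exact Equiv.subtypeEquiv w (fun x => Iff.rfl)
  rw [h1]
  simp only [Nat.card_eq_fintype_card, Fintype.card_subtype]
  rw [← Finset.card_biUnion]
  · congr 1
    ext x
    simp
  · intro j _ j' _ hjj'
    rw [Function.onFun, Finset.disjoint_left]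
    intro x hx hx'
    rw [Finset.mem_filter] at hx hx'
    exact hjj' (hx.2.2.symm.trans hx'.2.2)

theorem sum_cell_left [Fintype I] (a : X → I) (b : X → J) (w : Equiv.Perm X) (j : J) :
    ∑ i, cell a b w i j = Nat.card {x // b x = j} := by
  classical
  unfold cell
  simp only [Nat.card_eq_fintype_card, Fintype.card_subtype]
  rw [← Finset.card_biUnion]
  · congr 1
    ext x
    simp
  · intro i _ i' _ hii'
    rw [Function.onFun, Finset.disjoint_left]
    intro x hx hx'
    rw [Finset.mem_filter] at hx hx'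
    exact hii' (hx.2.1.symm.trans hx'.2.1)

/-- The cell of a sigma type. -/
def sigmaCellEquiv [DecidableEq I] [DecidableEq J] (M : I → J → ℕ) (i : I) (j : J) :
    {y : (Σ j : J, Σ i : I, Fin (M i j)) // y.2.1 = i ∧ y.1 = j} ≃ Fin (M i j) where
  toFun y := Fin.cast (by rw [y.2.1, y.2.2]) y.1.2.2
  invFun k := ⟨⟨j, i, k⟩, rfl, rfl⟩
  left_inv := by
    rintro ⟨⟨j', i', k⟩, h1, h2⟩
    simp only at h1 h2
    subst h1 h2
    rfl
  right_inv k := rfl

theorem exists_cell_eq [Fintype I] [Fintype J] [DecidableEq I] [DecidableEq J]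
    (a : X → I) (b : X → J) (M : I → J → ℕ)
    (hrow : ∀ i, ∑ j, M i j = Nat.card {x // a x = i})
    (hcol : ∀ j, ∑ i, M i j = Nat.card {x // b x = j}) :
    ∃ w : Equiv.Perm X, cell a b w = M := by
  classical
  -- first a row-labelling `r` compatible with `b`
  have hfib : ∀ j, Nat.card {x // b x = j} =
      Nat.card {y : (Σ j : J, Σ i : I, Fin (M i j)) // y.1 = j} := by
    intro j
    rw [Nat.card_congr (Equiv.sigmaSubtype j), ← hcol j]
    simp
  obtain ⟨e, he⟩ := exists_equiv_of_card_fiber_eq b
    (fun y : (Σ j : J, Σ i : I, Fin (M i j)) => y.1) hfib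
  let r : X → I := fun x => (e x).2.1
  have hcell : ∀ i j, Nat.card {x // r x = i ∧ b x = j} = M i j := by
    intro i j
    have h1 : {x // r x = i ∧ b x = j} ≃
        {y : (Σ j : J, Σ i : I, Fin (M i j)) // y.2.1 = i ∧ y.1 = j} := by
      refine Equiv.subtypeEquiv e ?_
      intro x
      show (e x).2.1 = i ∧ b x = j ↔ (e x).2.1 = i ∧ (e x).1 = j
      rw [← he x]
    rw [Nat.card_congr (h1.trans (sigmaCellEquiv M i j))]
    simp
  have hr : ∀ i, Nat.card {x // r x = i} = Nat.card {x // a x = i} := by
    intro i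
    rw [← hrow i]
    simp only [Nat.card_eq_fintype_card, Fintype.card_subtype]
    have : ∀ j, M i j = (Finset.univ.filter (fun x => r x = i ∧ b x = j)).card := by
      intro j
      rw [← hcell i j, Nat.card_eq_fintype_card, Fintype.card_subtype]
    simp only [this]
    rw [← Finset.card_biUnion]
    · congr 1
      ext x
      simp
    · intro j _ j' _ hjj'
      rw [Function.onFun, Finset.disjoint_left]
      intro x hx hx'
      rw [Finset.mem_filter] at hx hx'
      exact hjj' (hx.2.2.symm.trans hx'.2.2)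
  obtain ⟨w, hw⟩ := exists_equiv_of_card_fiber_eq r a hr
  refine ⟨w, ?_⟩
  funext i j
  unfold cell
  rw [← hcell i j]
  simp only [hw]

/-- The number of orbits of a symmetric group on pairs of cosets of label stabilisers. -/
theorem card_orbits_perm [Fintype I] [Fintype J] [DecidableEq I] [DecidableEq J]
    (a : X → I) (b : X → J) :
    Nat.card (orbitRel.Quotient (Equiv.Perm X)
      ((Equiv.Perm X ⧸ labelStab a) × (Equiv.Perm X ⧸ labelStab b))) =
    Nat.card {M : I → J → ℕ // (∀ i, ∑ j, M i j = Nat.card {x // a x = i}) ∧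
      (∀ j, ∑ i, M i j = Nat.card {x // b x = j})} := by
  apply card_orbits_eq_of_invariant (labelStab a) (labelStab b)
    (fun w => (⟨cell a b w, fun i => sum_cell_right a b w i, fun j => sum_cell_left a b w j⟩ :
      {M : I → J → ℕ // (∀ i, ∑ j, M i j = Nat.card {x // a x = i}) ∧
        (∀ j, ∑ i, M i j = Nat.card {x // b x = j})}))
  · intro w w'
    rw [Subtype.mk.injEq]
    exact cell_eq_iff a b w w'
  · rintro ⟨M, h1, h2⟩
    obtain ⟨w, hw⟩ := exists_cell_eq a b M h1 h2
    exact ⟨w, Subtype.ext hw⟩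

end Perm

end Cfsg.Agent.Helper12.Stein
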