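import Mathlib
import Cfsg.Agent.Helper12.SteinC

/-!
Rank invariants of the double cosets of two standard parabolic subgroups of `GL_n`.
-/

set_option autoImplicit false

namespace Cfsg.Agent.Helper12.Stein

open Cfsg Matrix
open scoped MatrixGroups

variable {F : Type*} [Field F] {n : ℕ}

open Classical in
/-- The rank of the submatrix on the rows satisfying `P` and the columns satisfying `Q`. -/
noncomputable def rk (P Q : Fin n → Prop) (M : Matrix (Fin n) (Fin n) F) : ℕ :=
  (M.submatrix (Subtype.val : {x // P x} → Fin n) (Subtype.val : {y // Q y} → Fin n)).rank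

theorem sum_subtype_of_zero {P : Fin n → Prop} [DecidablePred P] (f : Fin n → F)
    (hf : ∀ c, ¬ P c → f c = 0) : ∑ c : {c // P c}, f c.1 = ∑ c, f c := by
  rw [← Finset.sum_subtype (Finset.univ.filter P) (by simp) f]
  apply Finset.sum_filter_of_ne
  intro c _ hc
  by_contra hP
  exact hc (hf c hP)

theorem rk_mul_left (P Q : Fin n → Prop) (p p' g : Matrix (Fin n) (Fin n) F)
    (hpp : p' * p = 1) (hp : ∀ x c, P x → ¬ P c → p x c = 0)
    (hp' : ∀ x c, P x → ¬ P c → p' x c = 0) :
    rk P Q (p * g) = rk P Q g := by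
  classical
  unfold rk
  have h1 : ∀ (A B : Matrix (Fin n) (Fin n) F) (Q' : Fin n → Prop),
      (∀ x c, P x → ¬ P c → A x c = 0) →
      (A * B).submatrix (Subtype.val : {x // P x} → Fin n) (Subtype.val : {y // Q' y} → Fin n) =
      A.submatrix (Subtype.val : {x // P x} → Fin n) (Subtype.val : {x // P x} → Fin n) *
        B.submatrix (Subtype.val : {x // P x} → Fin n) (Subtype.val : {y // Q' y} → Fin n) := by
    intro A B Q' hA
    ext x y
    simp only [Matrix.submatrix_apply, Matrix.mul_apply]
    symm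
    apply sum_subtype_of_zero (fun c => A x.1 c * B c y.1)
    intro c hc
    show A x.1 c * B c y.1 = 0
    rw [hA x.1 c x.2 hc, zero_mul]
  rw [h1 p g Q hp]
  apply Matrix.rank_mul_eq_right_of_isUnit_det
  have h2 := h1 p' p P hp'
  rw [hpp] at h2
  have h3 : (1 : Matrix (Fin n) (Fin n) F).submatrix (Subtype.val : {x // P x} → Fin n)
      (Subtype.val : {x // P x} → Fin n) = 1 :=
    Matrix.submatrix_one _ Subtype.val_injective
  rw [h3] at h2
  exact Matrix.isUnit_det_of_left_inverse h2.symm

theorem rk_mul_right (P Q : Fin n → Prop) (q q' g : Matrix (Fin n) (Fin n) F)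
    (hqq : q * q' = 1) (hq : ∀ c y, Q y → ¬ Q c → q c y = 0)
    (hq' : ∀ c y, Q y → ¬ Q c → q' c y = 0) :
    rk P Q (g * q) = rk P Q g := by
  classical
  unfold rk
  have h1 : ∀ (A B : Matrix (Fin n) (Fin n) F) (P' : Fin n → Prop),
      (∀ c y, Q y → ¬ Q c → B c y = 0) →
      (A * B).submatrix (Subtype.val : {x // P' x} → Fin n) (Subtype.val : {y // Q y} → Fin n) =
      A.submatrix (Subtype.val : {x // P' x} → Fin n) (Subtype.val : {y // Q y} → Fin n) *
        B.submatrix (Subtype.val : {y // Q y} → Fin n) (Subtype.val : {y // Q y} → Fin n) := by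
    intro A B P' hB
    ext x y
    simp only [Matrix.submatrix_apply, Matrix.mul_apply]
    symm
    apply sum_subtype_of_zero (fun c => A x.1 c * B c y.1)
    intro c hc
    show A x.1 c * B c y.1 = 0
    rw [hB c y.1 y.2 hc, mul_zero]
  rw [h1 g q P hq]
  apply Matrix.rank_mul_eq_left_of_isUnit_det
  have h2 := h1 q q' Q hq'
  rw [hqq] at h2
  have h3 : (1 : Matrix (Fin n) (Fin n) F).submatrix (Subtype.val : {y // Q y} → Fin n)
      (Subtype.val : {y // Q y} → Fin n) = 1 :=
    Matrix.submatrix_one _ Subtype.val_injective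
  rw [h3] at h2
  exact Matrix.isUnit_det_of_right_inverse h2.symm

/-- The rank of a partial permutation matrix. -/
theorem rk_Pm (P Q : Fin n → Prop) (w : Equiv.Perm (Fin n)) :
    rk P Q ((Pm F n w : GL (Fin n) F) : Matrix (Fin n) (Fin n) F) =
      Nat.card {y // Q y ∧ P (w y)} := by
  classical
  unfold rk
  rw [Matrix.rank_eq_finrank_span_cols]
  set S : Matrix {x // P x} {y // Q y} F :=
    ((Pm F n w : GL (Fin n) F) : Matrix (Fin n) (Fin n) F).submatrix Subtype.val Subtype.val
    with hS
  let ι : {y : {y // Q y} // P (w y.1)} → {x // P x} := fun t => ⟨w t.1.1, t.2⟩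
  have hι : Function.Injective ι := by
    intro t t' h
    have := congrArg Subtype.val h
    simp only [ι] at this
    exact Subtype.ext (Subtype.ext (w.injective this))
  let v : {y : {y // Q y} // P (w y.1)} → ({x // P x} → F) :=
    fun t => Pi.single (ι t) 1
  have hv : LinearIndependent F v := by
    have h0 := (Pi.basisFun F {x // P x}).linearIndependent.comp ι hι
    have h1 : (⇑(Pi.basisFun F {x // P x}) ∘ ι) = v := by
      funext t
      simp [v, Pi.basisFun_apply]
    rw [h1] at h0
    exact h0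
  have hcol : ∀ (y : {y // Q y}) (h : P (w y.1)), S.col y = v ⟨y, h⟩ := by
    intro y h
    funext x
    show S x y = (Pi.single (ι ⟨y, h⟩) (1 : F) : {x // P x} → F) x
    rw [hS, Matrix.submatrix_apply, Pm_apply, Pi.single_apply]
    congr 1
    simp only [ι, eq_iff_iff]
    exact ⟨fun h' => Subtype.ext h', fun h' => congrArg Subtype.val h'⟩
  have hcol0 : ∀ (y : {y // Q y}), ¬ P (w y.1) → S.col y = 0 := by
    intro y h
    funext x
    show S x y = 0
    rw [hS, Matrix.submatrix_apply, Pm_apply, if_neg]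
    intro h'
    apply h
    rw [← h']
    exact x.2
  have hspan : Submodule.span F (Set.range S.col) = Submodule.span F (Set.range v) := by
    apply le_antisymm
    · apply Submodule.span_le.mpr
      rintro _ ⟨y, rfl⟩
      by_cases h : P (w y.1)
      · rw [hcol y h]
        exact Submodule.subset_span ⟨_, rfl⟩
      · rw [hcol0 y h]
        exact Submodule.zero_mem _
    · apply Submodule.span_le.mpr
      rintro _ ⟨t, rfl⟩
      rw [← hcol t.1 t.2]
      exact Submodule.subset_span ⟨_, rfl⟩
  rw [hspan, finrank_span_eq_card hv, ← Nat.card_eq_fintype_card]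
  apply Nat.card_congr
  exact Equiv.subtypeSubtypeEquivSubtypeInter Q (fun y => P (w y))

/-- Invariance of the rank functions on double cosets of parabolic subgroups. -/
theorem rk_parabolic (α β : Fin n → ℕ) (i j : ℕ) (p q g : GL (Fin n) F)
    (hp : p ∈ parabolicGL n F α) (hq : q ∈ parabolicGL n F β) :
    rk (fun x => i ≤ compLabel α x) (fun y => compLabel β y ≤ j)
      ((p * g * q : GL (Fin n) F) : Matrix (Fin n) (Fin n) F) =
    rk (fun x => i ≤ compLabel α x) (fun y => compLabel β y ≤ j)
      (g : Matrix (Fin n) (Fin n) F) := by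
  have hP : ∀ (p : GL (Fin n) F), p ∈ parabolicGL n F α → ∀ x c : Fin n,
      i ≤ compLabel α x → ¬ (i ≤ compLabel α c) →
      (p : Matrix (Fin n) (Fin n) F) x c = 0 := by
    intro p hp x c hx hc
    apply hp
    omega
  have hQ : ∀ (q : GL (Fin n) F), q ∈ parabolicGL n F β → ∀ c y : Fin n,
      compLabel β y ≤ j → ¬ (compLabel β c ≤ j) →
      (q : Matrix (Fin n) (Fin n) F) c y = 0 := by
    intro q hq c y hy hc
    apply hq
    omega
  rw [Units.val_mul, rk_mul_right _ _ (q : Matrix (Fin n) (Fin n) F)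
    ((q⁻¹ : GL (Fin n) F) : Matrix (Fin n) (Fin n) F) _ (by rw [← Units.val_mul]; simp)
    (hQ q hq) (hQ q⁻¹ (Subgroup.inv_mem _ hq)),
    Units.val_mul, rk_mul_left _ _ (p : Matrix (Fin n) (Fin n) F)
    ((p⁻¹ : GL (Fin n) F) : Matrix (Fin n) (Fin n) F) _ (by rw [← Units.val_mul]; simp)
    (hP p hp) (hP p⁻¹ (Subgroup.inv_mem _ hp))]

end Cfsg.Agent.Helper12.Stein
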