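import Mathlib
import Cfsg.Agent.Helper12.SteinB
import Cfsg.Agent.Helper12.SteinD

/-!
Orbits of `GL_n` and of `Sym(n)` on pairs of cosets of standard parabolic / Young subgroups:
both are counted by the matrices of natural numbers with prescribed margins.
-/

set_option autoImplicit false

namespace Cfsg.Agent.Helper12.Stein

open Cfsg Matrix MulAction
open scoped MatrixGroups
open Cfsg.Agent.Helper12.FlagCount

variable {F : Type*} [Field F] {n : ℕ}

/-- Matrices of natural numbers with prescribed row and column sums. -/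
def Marg (α β : Fin n → ℕ) : Type :=
  {M : Fin n → Fin n → ℕ // (∀ i, ∑ j, M i j = α i) ∧ (∀ j, ∑ i, M i j = β j)}

/-- An interval of `Fin n`. -/
def intervalEquiv (n p m : ℕ) (h : p + m ≤ n) :
    Fin m ≃ {x : Fin n // p ≤ x.val ∧ x.val < p + m} where
  toFun k := ⟨⟨p + k.val, by have := k.2; omega⟩, by
    have := k.2
    constructor
    · show p ≤ p + k.val
      omega
    · show p + k.val < p + m
      omega⟩
  invFun x := ⟨x.1.val - p, by have := x.2; omega⟩
  left_inv k := by
    apply Fin.ext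
    show p + k.val - p = k.val
    omega
  right_inv x := by
    apply Subtype.ext
    apply Fin.ext
    show p + (x.1.val - p) = x.1.val
    have := x.2
    omega

theorem card_fiber_compLabel (α : Fin n → ℕ) (hα : ∑ i, α i = n) (i : Fin n) :
    Nat.card {x : Fin n // compLabel α x = i.val} = α i := by
  have hle : pre α i.val + α i ≤ n := by
    rw [← pre_succ]
    calc pre α (i.val + 1) ≤ pre α n := pre_mono α i.2
      _ = n := by rw [pre_top α n le_rfl, hα]
  have e : {x : Fin n // compLabel α x = i.val} ≃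
      {x : Fin n // pre α i.val ≤ x.val ∧ x.val < pre α i.val + α i} := by
    refine Equiv.subtypeEquivRight ?_
    intro x
    rw [compLabel_eq_iff α x i.val i.2, pre_succ]
  rw [Nat.card_congr (e.trans (intervalEquiv n _ _ hle).symm)]
  simp

/-- The block label with values in `Fin n`. -/
def labelFin (α : Fin n → ℕ) (hα : ∑ i, α i = n) : Fin n → Fin n :=
  fun x => ⟨compLabel α x, compLabel_lt α hα x⟩

theorem labelFin_eq_iff (α : Fin n → ℕ) (hα : ∑ i, α i = n) (x y : Fin n) :
    labelFin α hα x = labelFin α hα y ↔ compLabel α x = compLabel α y := by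
  unfold labelFin
  rw [Fin.mk.injEq]

theorem labelStab_labelFin (α : Fin n → ℕ) (hα : ∑ i, α i = n) :
    labelStab (labelFin α hα) = youngSubgroup α := by
  ext σ
  show (∀ x, labelFin α hα (σ x) = labelFin α hα x) ↔ ∀ x, compLabel α (σ x) = compLabel α x
  simp only [labelFin_eq_iff]

theorem card_fiber_labelFin (α : Fin n → ℕ) (hα : ∑ i, α i = n) (i : Fin n) :
    Nat.card {x : Fin n // labelFin α hα x = i} = α i := by
  rw [← card_fiber_compLabel α hα i]
  apply Nat.card_congr
  refine Equiv.subtypeEquivRight ?_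
  intro x
  unfold labelFin
  rw [Fin.ext_iff]

/-- The margins type in the form produced by `card_orbits_perm`. -/
theorem card_marg_eq (α β : Fin n → ℕ) (hα : ∑ i, α i = n) (hβ : ∑ i, β i = n) :
    Nat.card {M : Fin n → Fin n → ℕ //
      (∀ i, ∑ j, M i j = Nat.card {x // labelFin α hα x = i}) ∧
      (∀ j, ∑ i, M i j = Nat.card {x // labelFin β hβ x = j})} = Nat.card (Marg α β) := by
  apply Nat.card_congr
  unfold Marg
  refine Equiv.subtypeEquivRight ?_
  intro M
  simp only [card_fiber_labelFin]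

/-- Orbits of the symmetric group on pairs of cosets of Young subgroups. -/
theorem card_orbits_young (α β : Fin n → ℕ) (hα : ∑ i, α i = n) (hβ : ∑ i, β i = n) :
    Nat.card (orbitRel.Quotient (Equiv.Perm (Fin n))
      ((Equiv.Perm (Fin n) ⧸ youngSubgroup α) × (Equiv.Perm (Fin n) ⧸ youngSubgroup β))) =
    Nat.card (Marg α β) := by
  rw [← card_marg_eq α β hα hβ, ← card_orbits_perm (labelFin α hα) (labelFin β hβ),
    labelStab_labelFin, labelStab_labelFin]

/-! ### From rank data to cell counts -/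

theorem card_filter_split {X : Type*} [Fintype X] (p q r : X → Prop) [DecidablePred p]
    [DecidablePred q] [DecidablePred r] (hpqr : ∀ y, p y ↔ (q y ∨ r y))
    (hdisj : ∀ y, ¬ (q y ∧ r y)) :
    (Finset.univ.filter p).card = (Finset.univ.filter q).card + (Finset.univ.filter r).card := by
  classical
  rw [← Finset.card_union_of_disjoint]
  · congr 1
    ext y
    simp only [Finset.mem_filter, Finset.mem_univ, true_and, Finset.mem_union]
    exact hpqr y
  · rw [Finset.disjoint_left]
    intro y hy hy'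
    rw [Finset.mem_filter] at hy hy'
    exact hdisj y ⟨hy.2, hy'.2⟩

theorem cells_of_ranks {X : Type*} [Fintype X] (f f' h : X → ℕ)
    (H : ∀ i j, Nat.card {y // h y ≤ j ∧ i ≤ f y} = Nat.card {y // h y ≤ j ∧ i ≤ f' y}) :
    ∀ i j, Nat.card {y // f y = i ∧ h y = j} = Nat.card {y // f' y = i ∧ h y = j} := by
  classical
  simp only [Nat.card_eq_fintype_card, Fintype.card_subtype] at H ⊢
  have hS : ∀ i j, (Finset.univ.filter fun y => h y ≤ j ∧ f y = i).card =
      (Finset.univ.filter fun y => h y ≤ j ∧ f' y = i).card := by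
    intro i j
    have h1 := card_filter_split (fun y => h y ≤ j ∧ i ≤ f y) (fun y => h y ≤ j ∧ f y = i)
      (fun y => h y ≤ j ∧ i + 1 ≤ f y) (by intro y; omega) (by intro y; omega)
    have h2 := card_filter_split (fun y => h y ≤ j ∧ i ≤ f' y) (fun y => h y ≤ j ∧ f' y = i)
      (fun y => h y ≤ j ∧ i + 1 ≤ f' y) (by intro y; omega) (by intro y; omega)
    have h3 := H i j
    have h4 := H (i + 1) j
    omega
  intro i j
  rcases Nat.eq_zero_or_pos j with hj | hj
  · subst hj
    have h1 := hS i 0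
    have e1 : (Finset.univ.filter fun y => f y = i ∧ h y = 0) =
        (Finset.univ.filter fun y => h y ≤ 0 ∧ f y = i) := by
      ext y
      simp only [Finset.mem_filter, Finset.mem_univ, true_and]
      omega
    have e2 : (Finset.univ.filter fun y => f' y = i ∧ h y = 0) =
        (Finset.univ.filter fun y => h y ≤ 0 ∧ f' y = i) := by
      ext y
      simp only [Finset.mem_filter, Finset.mem_univ, true_and]
      omega
    rw [e1, e2]
    exact h1
  · obtain ⟨j', rfl⟩ : ∃ j', j = j' + 1 := ⟨j - 1, by omega⟩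
    have h1 := card_filter_split (fun y => h y ≤ j' + 1 ∧ f y = i)
      (fun y => f y = i ∧ h y = j' + 1) (fun y => h y ≤ j' ∧ f y = i)
      (by intro y; omega) (by intro y; omega)
    have h2 := card_filter_split (fun y => h y ≤ j' + 1 ∧ f' y = i)
      (fun y => f' y = i ∧ h y = j' + 1) (fun y => h y ≤ j' ∧ f' y = i)
      (by intro y; omega) (by intro y; omega)
    have h3 := hS i (j' + 1)
    have h4 := hS i j'
    omega

/-! ### The double cosets of parabolic subgroups -/

theorem dc_trans1 {G : Type*} [Group G] (g g' P P' W W' Q Q' p q : G) (hg : g = P * W * Q)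
    (hg' : g' = P' * W' * Q') (hpq : W' = p * W * q) :
    g' = (P' * p * P⁻¹) * g * (Q⁻¹ * q * Q') := by
  subst hg hg' hpq
  group

theorem dc_trans2 {G : Type*} [Group G] (g g' P P' W W' Q Q' p q : G) (hg : g = P * W * Q)
    (hg' : g' = P' * W' * Q') (h : g' = p * g * q) :
    W' = (P'⁻¹ * p * P) * W * (Q * q * Q'⁻¹) := by
  have h1 : W' = P'⁻¹ * g' * Q'⁻¹ := by
    subst hg'
    group
  rw [h1, h]
  subst hg
  group

theorem cell_eq_of_Pm_mem (α β : Fin n → ℕ) (hα : ∑ i, α i = n) (hβ : ∑ i, β i = n)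
    (w w' : Equiv.Perm (Fin n)) (p q : GL (Fin n) F) (hp : p ∈ parabolicGL n F α)
    (hq : q ∈ parabolicGL n F β) (h : Pm F n w' = p * Pm F n w * q) :
    cell (labelFin α hα) (labelFin β hβ) w = cell (labelFin α hα) (labelFin β hβ) w' := by
  have hrk : ∀ i j : ℕ,
      Nat.card {y // compLabel β y ≤ j ∧ i ≤ compLabel α (w y)} =
      Nat.card {y // compLabel β y ≤ j ∧ i ≤ compLabel α (w' y)} := by
    intro i j
    rw [← rk_Pm (F := F) (fun x => i ≤ compLabel α x) (fun y => compLabel β y ≤ j) w,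
      ← rk_Pm (F := F) (fun x => i ≤ compLabel α x) (fun y => compLabel β y ≤ j) w', h,
      rk_parabolic α β i j p q _ hp hq]
  have hc := cells_of_ranks (fun y => compLabel α (w y)) (fun y => compLabel α (w' y))
    (fun y => compLabel β y) hrk
  funext i j
  unfold cell
  have e : ∀ v : Equiv.Perm (Fin n),
      Nat.card {x // labelFin α hα (v x) = i ∧ labelFin β hβ x = j} =
      Nat.card {y // compLabel α (v y) = i.val ∧ compLabel β y = j.val} := by
    intro v
    apply Nat.card_congr
    refine Equiv.subtypeEquivRight ?_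
    intro x
    unfold labelFin
    rw [Fin.ext_iff, Fin.ext_iff]
  rw [e w, e w']
  exact hc i.val j.val

theorem Pm_mem_of_cell_eq (α β : Fin n → ℕ) (hα : ∑ i, α i = n) (hβ : ∑ i, β i = n)
    (w w' : Equiv.Perm (Fin n))
    (h : cell (labelFin α hα) (labelFin β hβ) w = cell (labelFin α hα) (labelFin β hβ) w') :
    ∃ p ∈ parabolicGL n F α, ∃ q ∈ parabolicGL n F β, Pm F n w' = p * Pm F n w * q := by
  obtain ⟨y, hy, y', hy', rfl⟩ := (cell_eq_iff _ _ w w').mp h
  rw [labelStab_labelFin] at hy hy'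
  exact ⟨Pm F n y, Pm_mem_parabolicGL α y hy, Pm F n y', Pm_mem_parabolicGL β y' hy',
    by rw [map_mul, map_mul]⟩

theorem exists_parabolic_decomp (α β : Fin n → ℕ) (g : GL (Fin n) F) :
    ∃ w : Equiv.Perm (Fin n), ∃ p ∈ parabolicGL n F α, ∃ q ∈ parabolicGL n F β,
      g = p * Pm F n w * q := by
  obtain ⟨b, hb, σ, q, hq, rfl⟩ := exists_bruhat g
  exact ⟨σ, b, upperTriangularGL_le_parabolicGL α hb, q, upperTriangularGL_le_parabolicGL β hq, rfl⟩

/-- Orbits of `GL_n` on pairs of cosets of standard parabolic subgroups. -/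
theorem card_orbits_parabolic (α β : Fin n → ℕ) (hα : ∑ i, α i = n) (hβ : ∑ i, β i = n) :
    Nat.card (orbitRel.Quotient (GL (Fin n) F)
      ((GL (Fin n) F ⧸ parabolicGL n F α) × (GL (Fin n) F ⧸ parabolicGL n F β))) =
    Nat.card (Marg α β) := by
  rw [← card_marg_eq α β hα hβ]
  choose wOf pOf hpOf qOf hqOf hOf using exists_parabolic_decomp (F := F) α β
  set a := labelFin α hα
  set b := labelFin β hβ
  -- key: the cell matrix is determined by the double coset
  have key : ∀ g g' : GL (Fin n) F, cell a b (wOf g) = cell a b (wOf g') ↔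
      ∃ p ∈ parabolicGL n F α, ∃ q ∈ parabolicGL n F β, g' = p * g * q := by
    intro g g'
    constructor
    · intro h
      obtain ⟨p, hp, q, hq, hpq⟩ := Pm_mem_of_cell_eq (F := F) α β hα hβ _ _ h
      refine ⟨pOf g' * p * (pOf g)⁻¹, ?_, (qOf g)⁻¹ * q * qOf g', ?_, ?_⟩
      · exact Subgroup.mul_mem _ (Subgroup.mul_mem _ (hpOf g') hp) (Subgroup.inv_mem _ (hpOf g))
      · exact Subgroup.mul_mem _ (Subgroup.mul_mem _ (Subgroup.inv_mem _ (hqOf g)) hq) (hqOf g')
      · exact dc_trans1 g g' _ _ _ _ _ _ p q (hOf g) (hOf g') hpq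
    · rintro ⟨p, hp, q, hq, hg'⟩
      apply cell_eq_of_Pm_mem (F := F) α β hα hβ _ _ ((pOf g')⁻¹ * p * pOf g)
        (qOf g * q * (qOf g')⁻¹)
      · exact Subgroup.mul_mem _ (Subgroup.mul_mem _ (Subgroup.inv_mem _ (hpOf g')) hp) (hpOf g)
      · exact Subgroup.mul_mem _ (Subgroup.mul_mem _ (hqOf g) hq) (Subgroup.inv_mem _ (hqOf g'))
      · exact dc_trans2 g g' _ _ _ _ _ _ p q (hOf g) (hOf g') hg'
  apply card_orbits_eq_of_invariant (parabolicGL n F α) (parabolicGL n F β)
    (fun g => (⟨cell a b (wOf g), fun i => sum_cell_right a b _ i,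
      fun j => sum_cell_left a b _ j⟩ :
      {M : Fin n → Fin n → ℕ // (∀ i, ∑ j, M i j = Nat.card {x // a x = i}) ∧
        (∀ j, ∑ i, M i j = Nat.card {x // b x = j})}))
  · intro g g'
    rw [Subtype.mk.injEq]
    exact key g g'
  · rintro ⟨M, h1, h2⟩
    obtain ⟨w, hw⟩ := exists_cell_eq a b M h1 h2
    refine ⟨Pm F n w, Subtype.ext ?_⟩
    show cell a b (wOf (Pm F n w)) = M
    rw [← hw]
    symm
    apply cell_eq_of_Pm_mem (F := F) α β hα hβ _ _ ((pOf (Pm F n w))⁻¹ * 1 * 1)
      (1 * 1 * (qOf (Pm F n w))⁻¹)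
    · simpa using Subgroup.inv_mem _ (hpOf (Pm F n w))
    · simpa using Subgroup.inv_mem _ (hqOf (Pm F n w))
    · exact dc_trans2 (Pm F n w) (Pm F n w) 1 _ (Pm F n w) _ 1 _ 1 1 (by group) (hOf (Pm F n w))
        (by group)

end Cfsg.Agent.Helper12.Stein
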