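import Mathlib

/-!
Complete homogeneous symmetric polynomials via their generating series, and the matrix identity
behind the Jacobi–Trudi formula.
-/

set_option autoImplicit false

namespace Cfsg.Agent.Helper12.Stein

open MvPolynomial Finset

variable {n : ℕ}

/-- The coefficient ring. -/
abbrev PolyR (n : ℕ) : Type := MvPolynomial (Fin n) ℤ

/-- The geometric series `∑ a^m t^m`. -/
noncomputable def geom {R : Type*} [CommRing R] (a : R) : PowerSeries R :=
  PowerSeries.mk fun m => a ^ m

theorem one_sub_mul_geom {R : Type*} [CommRing R] (a : R) :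
    (1 - PowerSeries.C a * PowerSeries.X) * geom a = 1 := by
  ext m
  rw [sub_mul, one_mul, map_sub, mul_assoc, PowerSeries.coeff_C_mul]
  cases m with
  | zero =>
    rw [PowerSeries.coeff_zero_X_mul, mul_zero, sub_zero]
    simp [geom]
  | succ m =>
    rw [PowerSeries.coeff_succ_X_mul]
    simp only [geom, PowerSeries.coeff_mk, PowerSeries.coeff_one]
    rw [if_neg (Nat.succ_ne_zero m), pow_succ]
    ring

/-- The generating series of the complete homogeneous symmetric polynomials. -/
noncomputable def Hser (n : ℕ) : PowerSeries (PolyR n) :=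
  ∏ l : Fin n, geom (X l : PolyR n)

/-- The complete homogeneous symmetric polynomial of degree `m`. -/
noncomputable def hpoly (n m : ℕ) : PolyR n := PowerSeries.coeff m (Hser n)

/-- `h_{m-k}`, zero when `k > m`. -/
noncomputable def hsub (n m k : ℕ) : PolyR n := if k ≤ m then hpoly n (m - k) else 0

theorem hpoly_zero (n : ℕ) : hpoly n 0 = 1 := by
  unfold hpoly Hser
  rw [PowerSeries.coeff_zero_eq_constantCoeff_apply, map_prod]
  apply Finset.prod_eq_one
  intro l _
  rw [← PowerSeries.coeff_zero_eq_constantCoeff_apply]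
  simp [geom]

/-- The product `∏_{l ≠ i} (1 - x_l t)`. -/
noncomputable def Pser (i : Fin n) : PowerSeries (PolyR n) :=
  ∏ l ∈ (Finset.univ.erase i), (1 - PowerSeries.C (X l : PolyR n) * PowerSeries.X)

theorem coeff_prod_one_sub_eq_zero {R : Type*} [CommRing R] {ι : Type*} [DecidableEq ι]
    (a : ι → R) (s : Finset ι) (k : ℕ) (hk : s.card < k) :
    PowerSeries.coeff k (∏ l ∈ s, (1 - PowerSeries.C (a l) * PowerSeries.X)) = 0 := by
  induction s using Finset.induction_on generalizing k with
  | empty =>
    rw [Finset.prod_empty, PowerSeries.coeff_one, if_neg]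
    rw [Finset.card_empty] at hk
    omega
  | insert b s hb ih =>
    rw [Finset.prod_insert hb, sub_mul, one_mul, map_sub, mul_assoc, PowerSeries.coeff_C_mul]
    rw [Finset.card_insert_of_notMem hb] at hk
    obtain ⟨k', rfl⟩ : ∃ k', k = k' + 1 := ⟨k - 1, by omega⟩
    rw [PowerSeries.coeff_succ_X_mul, ih (k' + 1) (by omega), ih k' (by omega)]
    simp

theorem coeff_Pser_eq_zero (i : Fin n) (k : ℕ) (hk : n ≤ k) :
    PowerSeries.coeff k (Pser i) = 0 := by
  apply coeff_prod_one_sub_eq_zero
  rw [Finset.card_erase_of_mem (Finset.mem_univ i), Finset.card_univ, Fintype.card_fin]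
  have := i.2
  omega

theorem Pser_mul_Hser (i : Fin n) : Pser i * Hser n = geom (X i : PolyR n) := by
  unfold Pser Hser
  rw [← Finset.mul_prod_erase Finset.univ _ (Finset.mem_univ i), mul_left_comm,
    ← Finset.prod_mul_distrib, Finset.prod_eq_one, mul_one]
  intro l _
  exact one_sub_mul_geom _

/-- The key linear relation between powers and complete homogeneous polynomials. -/
theorem sum_coeff_Pser_mul_hsub (i : Fin n) (m : ℕ) :
    ∑ k : Fin n, PowerSeries.coeff k.val (Pser i) * hsub n m k.val = (X i : PolyR n) ^ m := by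
  have h1 : PowerSeries.coeff m (Pser i * Hser n) = (X i : PolyR n) ^ m := by
    rw [Pser_mul_Hser]
    simp [geom]
  rw [PowerSeries.coeff_mul,
    Finset.Nat.sum_antidiagonal_eq_sum_range_succ
      (fun k l => PowerSeries.coeff k (Pser i) * PowerSeries.coeff l (Hser n))] at h1
  rw [← h1, Fin.sum_univ_eq_sum_range
    (fun k => PowerSeries.coeff k (Pser i) * hsub n m k) n]
  have e1 : ∑ k ∈ Finset.range n, PowerSeries.coeff k (Pser i) * hsub n m k =
      ∑ k ∈ Finset.range (n + m + 1), PowerSeries.coeff k (Pser i) * hsub n m k := by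
    apply Finset.sum_subset
    · intro k hk
      rw [Finset.mem_range] at hk ⊢
      omega
    · intro k _ hk
      rw [Finset.mem_range] at hk
      rw [coeff_Pser_eq_zero i k (by omega), zero_mul]
  have e2 : ∑ k ∈ Finset.range m.succ,
      PowerSeries.coeff k (Pser i) * PowerSeries.coeff (m - k) (Hser n) =
      ∑ k ∈ Finset.range (n + m + 1), PowerSeries.coeff k (Pser i) * hsub n m k := by
    rw [← Finset.sum_subset (s₁ := Finset.range m.succ) (s₂ := Finset.range (n + m + 1))]
    · apply Finset.sum_congr rfl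
      intro k hk
      rw [Finset.mem_range] at hk
      unfold hsub hpoly
      rw [if_pos (by omega)]
    · intro k hk
      rw [Finset.mem_range] at hk ⊢
      omega
    · intro k _ hk
      rw [Finset.mem_range] at hk
      unfold hsub
      rw [if_neg (by omega), mul_zero]
  rw [e1, e2]

/-- The matrix of coefficients of the series `Pser i`. -/
noncomputable def Cmat (n : ℕ) : Matrix (Fin n) (Fin n) (PolyR n) :=
  Matrix.of fun i k => PowerSeries.coeff k.val (Pser i)

/-- The matrix `(h_{m_j - k})`. -/
noncomputable def Hmat (n : ℕ) (m : Fin n → ℕ) : Matrix (Fin n) (Fin n) (PolyR n) :=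
  Matrix.of fun k j => hsub n (m j) k.val

/-- The alternant matrix `(x_i^{m_j})`. -/
noncomputable def Amat (n : ℕ) (m : Fin n → ℕ) : Matrix (Fin n) (Fin n) (PolyR n) :=
  Matrix.of fun i j => (X i : PolyR n) ^ (m j)

theorem Cmat_mul_Hmat (m : Fin n → ℕ) : Cmat n * Hmat n m = Amat n m := by
  apply Matrix.ext
  intro i j
  rw [Matrix.mul_apply]
  exact sum_coeff_Pser_mul_hsub i (m j)

theorem det_Hmat_id (n : ℕ) : (Hmat n (fun j : Fin n => j.val)).det = 1 := by
  have htri : (Hmat n (fun j : Fin n => j.val)).BlockTriangular id := by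
    intro k j hjk
    have hjk' : j < k := hjk
    show hsub n j.val k.val = 0
    unfold hsub
    rw [if_neg]
    exact not_le.mpr hjk'
  rw [Matrix.det_of_isUpperTriangular htri]
  apply Finset.prod_eq_one
  intro j _
  show hsub n j.val j.val = 1
  unfold hsub
  rw [if_pos le_rfl, Nat.sub_self, hpoly_zero]

theorem det_Cmat (n : ℕ) : (Cmat n).det = (Amat n (fun j : Fin n => j.val)).det := by
  rw [← Cmat_mul_Hmat, Matrix.det_mul, det_Hmat_id, mul_one]

/-- Jacobi–Trudi in determinantal form. -/
theorem det_Amat_id_mul_det_Hmat (m : Fin n → ℕ) :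
    (Amat n (fun j : Fin n => j.val)).det * (Hmat n m).det = (Amat n m).det := by
  rw [← det_Cmat, ← Matrix.det_mul, Cmat_mul_Hmat]

end Cfsg.Agent.Helper12.Stein
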