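import Mathlib
import Cfsg.Agent.Helper12.SteinE
import Cfsg.Agent.Helper12.SteinF

/-!
Coefficients of products of complete homogeneous symmetric polynomials count the matrices of
natural numbers with prescribed margins.
-/

set_option autoImplicit false

namespace Cfsg.Agent.Helper12.Stein

open MvPolynomial Finset

variable {n : ℕ}

/-- A function on `Fin n` as a finitely supported function. -/
noncomputable def toFs (α : Fin n → ℕ) : Fin n →₀ ℕ := Finsupp.equivFunOnFinite.symm α

@[simp] theorem toFs_apply (α : Fin n → ℕ) (i : Fin n) : toFs α i = α i := rfl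

theorem toFs_injective : Function.Injective (toFs (n := n)) :=
  Finsupp.equivFunOnFinite.symm.injective

theorem prod_X_pow (c : Fin n →₀ ℕ) :
    ∏ l : Fin n, (X l : PolyR n) ^ (c l) = monomial c 1 := by
  rw [MvPolynomial.monomial_eq, map_one, one_mul, Finsupp.prod_fintype]
  intro i
  exact pow_zero _

theorem hpoly_eq_sum (b : ℕ) :
    hpoly n b = ∑ c ∈ Finset.finsuppAntidiag (Finset.univ : Finset (Fin n)) b,
      (monomial c 1 : PolyR n) := by
  unfold hpoly Hser
  rw [PowerSeries.coeff_prod]
  apply Finset.sum_congr rfl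
  intro c _
  rw [← prod_X_pow]
  apply Finset.prod_congr rfl
  intro l _
  simp [geom]

theorem prod_hpoly_eq_sum (β : Fin n → ℕ) :
    ∏ j : Fin n, hpoly n (β j) =
      ∑ p ∈ Fintype.piFinset
        (fun j => Finset.finsuppAntidiag (Finset.univ : Finset (Fin n)) (β j)),
        (monomial (∑ j, p j) 1 : PolyR n) := by
  simp only [hpoly_eq_sum]
  rw [Finset.prod_univ_sum]
  apply Finset.sum_congr rfl
  intro p _
  rw [MvPolynomial.monomial_sum_one]

/-- Margin matrices as tuples of exponent vectors. -/
noncomputable def margEquiv (α β : Fin n → ℕ) :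
    Marg α β ≃ {p : Fin n → (Fin n →₀ ℕ) //
      p ∈ (Fintype.piFinset
        (fun j => Finset.finsuppAntidiag (Finset.univ : Finset (Fin n)) (β j))).filter
        (fun p => ∑ j, p j = toFs α)} where
  toFun M := ⟨fun j => toFs (fun l => M.1 l j), by
    rw [Finset.mem_filter, Fintype.mem_piFinset]
    refine ⟨fun j => ?_, ?_⟩
    · rw [Finset.mem_finsuppAntidiag]
      refine ⟨?_, Finset.subset_univ _⟩
      exact M.2.2 j
    · ext l
      rw [Finsupp.finsetSum_apply]
      simp only [toFs_apply]
      exact M.2.1 l⟩
  invFun p := ⟨fun l j => p.1 j l, by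
    have hp := p.2
    rw [Finset.mem_filter, Fintype.mem_piFinset] at hp
    refine ⟨fun l => ?_, fun j => ?_⟩
    · have := congrArg (fun f : Fin n →₀ ℕ => f l) hp.2
      simp only [Finsupp.finsetSum_apply, toFs_apply] at this
      exact this
    · have := hp.1 j
      rw [Finset.mem_finsuppAntidiag] at this
      exact this.1⟩
  left_inv M := by
    apply Subtype.ext
    funext l j
    rfl
  right_inv p := by
    apply Subtype.ext
    funext j
    ext l
    rfl

/-- The coefficient of `x^α` in `∏_j h_{β_j}` is the number of margin matrices. -/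
theorem coeff_prod_hpoly (α β : Fin n → ℕ) :
    coeff (toFs α) (∏ j : Fin n, hpoly n (β j)) = (Nat.card (Marg α β) : ℤ) := by
  classical
  rw [prod_hpoly_eq_sum, MvPolynomial.coeff_sum]
  simp only [MvPolynomial.coeff_monomial]
  rw [← Finset.sum_filter, Finset.sum_const, nsmul_eq_mul, mul_one,
    Nat.card_congr (margEquiv α β), Nat.card_eq_finsetCard]

end Cfsg.Agent.Helper12.Stein
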