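import Mathlib
import Cfsg.Agent.Helper12.SteinG

/-!
The alternating double sum of margin-matrix counts (orthogonality of the Steinberg–Frobenius
determinantal characters).
-/

set_option autoImplicit false

namespace Cfsg.Agent.Helper12.Stein

open MvPolynomial Finset

variable {n : ℕ}

/-- `κ` is admissible for `m`: the difference `m - κ` has no negative entry. -/
def Valid (m : Fin n → ℕ) (κ : Equiv.Perm (Fin n)) : Prop := ∀ i, (κ i).val ≤ m i

instance (m : Fin n → ℕ) (κ : Equiv.Perm (Fin n)) : Decidable (Valid m κ) :=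
  inferInstanceAs (Decidable (∀ i, (κ i).val ≤ m i))

theorem det_Hmat (m : Fin n → ℕ) :
    (Hmat n m).det = ∑ κ : Equiv.Perm (Fin n), ((Equiv.Perm.sign κ : ℤ) : PolyR n) *
      (if Valid m κ then ∏ j, hpoly n (m j - (κ j).val) else 0) := by
  rw [Matrix.det_apply']
  apply Finset.sum_congr rfl
  intro κ _
  congr 1
  have : ∀ j, Hmat n m (κ j) j =
      if (κ j).val ≤ m j then hpoly n (m j - (κ j).val) else 0 := fun j => rfl
  simp only [this]
  rw [Fintype.prod_ite_zero]
  by_cases hv : Valid m κ
  · rw [if_pos hv, if_pos (show ∀ i, (κ i).val ≤ m i from hv)]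
  · rw [if_neg hv, if_neg (show ¬ ∀ i, (κ i).val ≤ m i from hv)]

theorem det_Amat (m : Fin n → ℕ) :
    (Amat n m).det = ∑ σ : Equiv.Perm (Fin n), ((Equiv.Perm.sign σ : ℤ) : PolyR n) *
      monomial (toFs (fun i => m (σ i))) 1 := by
  rw [← Matrix.det_transpose, Matrix.det_apply']
  apply Finset.sum_congr rfl
  intro σ _
  congr 1
  rw [← prod_X_pow]
  rfl

theorem toFs_le_iff (a b : Fin n → ℕ) : toFs a ≤ toFs b ↔ ∀ i, a i ≤ b i := by
  rw [Finsupp.le_def]
  rfl

theorem toFs_sub (a b : Fin n → ℕ) : toFs a - toFs b = toFs (fun i => a i - b i) := by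
  ext i
  rw [Finsupp.tsub_apply]
  rfl

theorem intCast_eq_C (z : ℤ) : ((z : ℤ) : PolyR n) = C z := (eq_intCast C z).symm

/-- The alternating double sum. -/
noncomputable def Tsum (lam lam' : Fin n → ℕ) : ℤ :=
  ∑ κ : Equiv.Perm (Fin n), ∑ κ' : Equiv.Perm (Fin n),
    if Valid lam κ then
      if Valid lam' κ' then
        (Equiv.Perm.sign κ : ℤ) * (Equiv.Perm.sign κ' : ℤ) *
          (Nat.card (Marg (fun i => lam i - (κ i).val) (fun i => lam' i - (κ' i).val)) : ℤ)
      else 0
    else 0

theorem coeff_det_Hmat (α m : Fin n → ℕ) :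
    coeff (toFs α) (Hmat n m).det = ∑ κ' : Equiv.Perm (Fin n),
      if Valid m κ' then (Equiv.Perm.sign κ' : ℤ) *
        (Nat.card (Marg α (fun i => m i - (κ' i).val)) : ℤ) else 0 := by
  rw [det_Hmat, MvPolynomial.coeff_sum]
  apply Finset.sum_congr rfl
  intro κ' _
  rw [intCast_eq_C, MvPolynomial.coeff_C_mul]
  split_ifs with h
  · rw [coeff_prod_hpoly]
  · simp

theorem Tsum_eq_coeff (lam lam' : Fin n → ℕ) :
    Tsum lam lam' = coeff (toFs lam) (Amat n lam').det := by
  rw [← det_Amat_id_mul_det_Hmat, det_Amat, Finset.sum_mul, MvPolynomial.coeff_sum]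
  unfold Tsum
  apply Finset.sum_congr rfl
  intro κ _
  rw [intCast_eq_C, mul_assoc, MvPolynomial.coeff_C_mul, MvPolynomial.coeff_monomial_mul']
  by_cases h : Valid lam κ
  · have h' : toFs (fun i : Fin n => (κ i).val) ≤ toFs lam := (toFs_le_iff _ _).mpr h
    rw [if_pos h']
    simp only [if_pos h]
    rw [one_mul, toFs_sub, coeff_det_Hmat, Finset.mul_sum]
    apply Finset.sum_congr rfl
    intro κ' _
    split_ifs
    · ring
    · simp
  · have h' : ¬ toFs (fun i : Fin n => (κ i).val) ≤ toFs lam := by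
      rw [toFs_le_iff]
      exact h
    rw [if_neg h']
    simp only [if_neg h]
    simp

theorem coeff_det_Amat (lam lam' : Fin n → ℕ) (h : StrictMono lam) (h' : StrictMono lam') :
    coeff (toFs lam) (Amat n lam').det = if lam = lam' then 1 else 0 := by
  classical
  rw [det_Amat, MvPolynomial.coeff_sum]
  have hσ : ∀ σ : Equiv.Perm (Fin n), toFs (fun i => lam' (σ i)) = toFs lam → σ = 1 := by
    intro σ hσ
    have h1 : (fun i => lam' (σ i)) = lam := toFs_injective hσ
    have h2 : StrictMono (σ : Fin n → Fin n) := by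
      intro i j hij
      have := h hij
      rw [← h1] at this
      exact h'.lt_iff_lt.mp this
    ext i
    rw [h2.apply_eq]
    rfl
  by_cases hll : lam = lam'
  · rw [if_pos hll, Finset.sum_eq_single (1 : Equiv.Perm (Fin n))]
    · rw [intCast_eq_C, MvPolynomial.coeff_C_mul, MvPolynomial.coeff_monomial, if_pos]
      · simp
      · rw [hll]
        rfl
    · intro σ _ hne
      rw [intCast_eq_C, MvPolynomial.coeff_C_mul, MvPolynomial.coeff_monomial, if_neg, mul_zero]
      intro hcon
      exact hne (hσ σ hcon)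
    · intro hcon
      exact absurd (Finset.mem_univ _) hcon
  · rw [if_neg hll]
    apply Finset.sum_eq_zero
    intro σ _
    rw [intCast_eq_C, MvPolynomial.coeff_C_mul, MvPolynomial.coeff_monomial, if_neg, mul_zero]
    intro hcon
    have := hσ σ hcon
    subst this
    apply hll
    exact (toFs_injective hcon).symm

/-- Orthogonality: the alternating double sum is a Kronecker delta. -/
theorem Tsum_eq (lam lam' : Fin n → ℕ) (h : StrictMono lam) (h' : StrictMono lam') :
    Tsum lam lam' = if lam = lam' then 1 else 0 := by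
  rw [Tsum_eq_coeff, coeff_det_Amat lam lam' h h']

end Cfsg.Agent.Helper12.Stein
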