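import Mathlib
import Cfsg.Prelude.Def_Characters
import Cfsg.Agent.Helper12.SteinH

/-!
Inner products of the alternating-sum class functions of `GL_n(q)`.
-/

set_option autoImplicit false

namespace Cfsg.Agent.Helper12.Stein

open Cfsg Finset
open scoped MatrixGroups ComplexConjugate

variable {F : Type*} [Field F] {n : ℕ}

theorem sum_shift_sub (lam : Fin n → ℕ) (κ : Equiv.Perm (Fin n)) (hv : Valid lam κ) :
    ∑ i, (lam i - (κ i).val) + ∑ i : Fin n, i.val = ∑ i, lam i := by
  have h2 : ∑ i, (κ i).val = ∑ i : Fin n, i.val := Equiv.sum_comp κ (fun i => i.val)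
  rw [← h2, ← Finset.sum_add_distrib]
  apply Finset.sum_congr rfl
  intro i _
  exact Nat.sub_add_cancel (hv i)

theorem sum_lam_sub (ν : Fin n → ℕ) (hsum : ∑ i, ν i = n) (κ : Equiv.Perm (Fin n))
    (hv : Valid (fun i => ν i + i.val) κ) :
    ∑ i, (ν i + i.val - (κ i).val) = n := by
  have h1 := sum_shift_sub (fun i => ν i + i.val) κ hv
  simp only [Finset.sum_add_distrib, hsum] at h1
  omega

theorem strictMono_shift (ν : Fin n → ℕ) (hmono : Monotone ν) :
    StrictMono (fun i : Fin n => ν i + i.val) := by
  intro i j hij
  have h1 := hmono (le_of_lt hij)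
  have h2 : i.val < j.val := hij
  show ν i + i.val < ν j + j.val
  omega

theorem shift_injective (ν ν' : Fin n → ℕ)
    (h : (fun i : Fin n => ν i + i.val) = (fun i : Fin n => ν' i + i.val)) : ν = ν' := by
  funext i
  have := congrFun h i
  change ν i + i.val = ν' i + i.val at this
  omega

theorem conj_unipotentCharacterGL (ν : Fin n → ℕ) (g : GL (Fin n) F) :
    conj (unipotentCharacterGL n F ν g) = unipotentCharacterGL n F ν g := by
  unfold unipotentCharacterGL fixedPointCharacter
  rw [map_sum]
  apply Finset.sum_congr rfl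
  intro κ _
  split_ifs
  · rw [map_mul, map_intCast, map_natCast]
  · rw [map_zero]

/-- The inner product of two permutation characters on flags. -/
theorem inner_parabolic [Fintype (GL (Fin n) F)] (α β : Fin n → ℕ) (hα : ∑ i, α i = n)
    (hβ : ∑ i, β i = n) :
    (Nat.card (GL (Fin n) F) : ℂ)⁻¹ * ∑ g : GL (Fin n) F,
      fixedPointCharacter (parabolicGL n F α) g * fixedPointCharacter (parabolicGL n F β) g =
    (Nat.card (Marg α β) : ℂ) := by
  rw [inner_fixedPointCharacter, card_orbits_parabolic α β hα hβ]

/-- Orthonormality of the alternating-sum class functions. -/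
theorem classInner_unipotentCharacterGL [Fintype (GL (Fin n) F)] (ν ν' : Fin n → ℕ)
    (hmono : Monotone ν) (hsum : ∑ i, ν i = n) (hmono' : Monotone ν') (hsum' : ∑ i, ν' i = n) :
    classInner (unipotentCharacterGL n F ν) (unipotentCharacterGL n F ν') =
      if ν = ν' then 1 else 0 := by
  classical
  set lam : Fin n → ℕ := fun i => ν i + i.val with hlam
  set lam' : Fin n → ℕ := fun i => ν' i + i.val with hlam'
  have hT := Tsum_eq lam lam' (strictMono_shift ν hmono) (strictMono_shift ν' hmono')
  have hmain : classInner (unipotentCharacterGL n F ν) (unipotentCharacterGL n F ν') =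
      ((Tsum lam lam' : ℤ) : ℂ) := by
    unfold classInner
    simp only [conj_unipotentCharacterGL]
    unfold unipotentCharacterGL Tsum
    simp only [Finset.sum_mul_sum]
    rw [Finset.sum_comm, Finset.mul_sum]
    push_cast
    apply Finset.sum_congr rfl
    intro κ _
    rw [Finset.sum_comm, Finset.mul_sum]
    apply Finset.sum_congr rfl
    intro κ' _
    by_cases hv : Valid lam κ
    · by_cases hv' : Valid lam' κ'
      · have h1 : (∀ i : Fin n, (κ i).val ≤ ν i + i.val) := hv
        have h2 : (∀ i : Fin n, (κ' i).val ≤ ν' i + i.val) := hv'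
        simp only [if_pos h1, if_pos h2, if_pos hv, if_pos hv']
        have := inner_parabolic (F := F) (fun i => ν i + i.val - (κ i).val)
          (fun i => ν' i + i.val - (κ' i).val) (sum_lam_sub ν hsum κ hv)
          (sum_lam_sub ν' hsum' κ' hv')
        rw [← this, Finset.mul_sum, Finset.mul_sum, Finset.mul_sum]
        apply Finset.sum_congr rfl
        intro g _
        ring
      · have h2 : ¬ (∀ i : Fin n, (κ' i).val ≤ ν' i + i.val) := hv'
        simp only [if_neg h2, if_neg hv']
        simp
    · have h1 : ¬ (∀ i : Fin n, (κ i).val ≤ ν i + i.val) := hv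
      simp only [if_neg h1, if_neg hv]
      simp
  rw [hmain, hT]
  by_cases h : ν = ν'
  · have hl : lam = lam' := by rw [hlam, hlam', h]
    rw [if_pos h, if_pos hl]
    simp
  · rw [if_neg h, if_neg]
    · simp
    · intro hcon
      exact h (shift_injective ν ν' hcon)

end Cfsg.Agent.Helper12.Stein
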