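import Cfsg.Agent.Helper12.FlagCountD

set_option autoImplicit false

namespace Cfsg.Agent.Helper12.FlagCount

open Cfsg

/-- The `q`-integer `1 + q + ⋯ + q^(m-1)`. -/
def qint (q m : ℕ) : ℕ := ∑ l ∈ Finset.range m, q ^ l

theorem qint_spec (q m : ℕ) (hq : 1 ≤ q) : (q - 1) * qint q m + 1 = q ^ m := by
  unfold qint
  induction m with
  | zero => simp
  | succ m ih =>
    rw [Finset.sum_range_succ, mul_add, pow_succ]
    obtain ⟨r, rfl⟩ : ∃ r, q = r + 1 := ⟨q - 1, by omega⟩
    simp only [Nat.add_sub_cancel] at ih ⊢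
    nlinarith [ih]

theorem pow_sub_pow (q j D : ℕ) (hq : 1 ≤ q) (hjD : j ≤ D) :
    q ^ D - q ^ j = q ^ j * ((q - 1) * qint q (D - j)) := by
  have h := qint_spec q (D - j) hq
  have h2 : q ^ D = q ^ j * q ^ (D - j) := by rw [← pow_add]; congr 1; omega
  rw [h2, ← h, mul_add, mul_one, Nat.add_sub_cancel]

variable {n : ℕ} (μ : Fin n → ℕ)

/-- `μ` extended by zero. -/
def ext0 (a : ℕ) : ℕ := if h : a < n then μ ⟨a, h⟩ else 0

theorem pre_succ' (a : ℕ) (ha : a < n) : pre μ (a + 1) = pre μ a + ext0 μ a := by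
  have := pre_succ μ ⟨a, ha⟩
  unfold ext0
  rw [dif_pos ha]
  exact this

theorem cut_block (hμ : ∑ i, μ i = n) (a : ℕ) (ha : a < n) (x : ℕ) (hx : x < ext0 μ a) :
    cut μ (pre μ a + x) = pre μ a + ext0 μ a := by
  have h1 : pre μ a + x < pre μ (a + 1) := by rw [pre_succ' μ a ha]; omega
  have h2 : pre μ (a + 1) ≤ n := by
    calc pre μ (a + 1) ≤ pre μ n := pre_mono μ ha
      _ = n := by rw [pre_top μ n le_rfl, hμ]
  have hlt : pre μ a + x < n := by omega
  have hlab : compLabel μ ⟨pre μ a + x, hlt⟩ = a :=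
    (compLabel_eq_iff μ ⟨pre μ a + x, hlt⟩ a ha).mpr ⟨Nat.le_add_right _ _, h1⟩
  unfold cut
  rw [dif_pos hlt, hlab, pre_succ' μ a ha]

theorem prod_blocks (hμ : ∑ i, μ i = n) (q : ℕ) (A : ℕ) (hA : A ≤ n) :
    ∏ j ∈ Finset.range (pre μ A), qint q (cut μ j - j) =
      ∏ a ∈ Finset.range A, ∏ k ∈ Finset.range (ext0 μ a), qint q (k + 1) := by
  induction A with
  | zero => simp [pre_zero]
  | succ A ih =>
    have hAn : A < n := hA
    rw [pre_succ' μ A hAn, Finset.prod_range_add, ih (by omega), Finset.prod_range_succ]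
    congr 1
    rw [← Finset.prod_range_reflect (fun k => qint q (k + 1)) (ext0 μ A)]
    apply Finset.prod_congr rfl
    intro x hx
    rw [Finset.mem_range] at hx
    rw [cut_block μ hμ A hAn x hx]
    congr 1
    omega

theorem prod_cut (hμ : ∑ i, μ i = n) (q : ℕ) :
    ∏ j : Fin n, qint q (cut μ j.val - j.val) =
      ∏ a : Fin n, ∏ k ∈ Finset.range (μ a), qint q (k + 1) := by
  rw [Fin.prod_univ_eq_prod_range (fun j => qint q (cut μ j - j)) n]
  have h := prod_blocks μ hμ q n le_rfl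
  rw [pre_top μ n le_rfl, hμ] at h
  rw [h, ← Fin.prod_univ_eq_prod_range (fun a => ∏ k ∈ Finset.range (ext0 μ a), qint q (k + 1)) n]
  apply Finset.prod_congr rfl
  intro a _
  unfold ext0
  rw [dif_pos a.2]

theorem prod_top (q n : ℕ) :
    ∏ j : Fin n, qint q (n - j.val) = ∏ j ∈ Finset.range n, qint q (j + 1) := by
  rw [Fin.prod_univ_eq_prod_range (fun j => qint q (n - j)) n,
    ← Finset.prod_range_reflect (fun k => qint q (k + 1)) n]
  apply Finset.prod_congr rfl
  intro x hx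
  rw [Finset.mem_range] at hx
  congr 1
  omega

end Cfsg.Agent.Helper12.FlagCount
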