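import Mathlib
import Cfsg.Agent.S2424
import Cfsg.Agent.Helper12.SteinI

/-!
Positivity of the degree of the alternating-sum class functions of `GL_n(q)`, and the fact that
they are generalized characters.
-/

set_option autoImplicit false

namespace Cfsg.Agent.Helper12.Stein

open Cfsg Finset
open scoped MatrixGroups

variable {F : Type*} [Field F] {n : ℕ}

theorem qsum_pos (q m : ℕ) : 0 < ∑ l ∈ Finset.range (m + 1), q ^ l := by
  have h : q ^ 0 ≤ ∑ l ∈ Finset.range (m + 1), q ^ l :=
    Finset.single_le_sum (f := fun l => q ^ l) (fun _ _ => Nat.zero_le _)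
      (Finset.mem_range.mpr (Nat.succ_pos m))
  rw [pow_zero] at h
  exact h

theorem qsum_lt (q m m' : ℕ) (hq : 1 ≤ q) (h : m < m') :
    ∑ l ∈ Finset.range m, q ^ l < ∑ l ∈ Finset.range m', q ^ l := by
  apply Finset.sum_lt_sum_of_subset (i := m)
  · intro l hl
    rw [Finset.mem_range] at hl ⊢
    omega
  · exact Finset.mem_range.mpr h
  · simp
  · exact Nat.pow_pos hq
  · intro j _ _
    exact Nat.zero_le _

theorem unipotentCharacterGL_one_re_pos [Fintype F] (ν : Fin n → ℕ) (hmono : Monotone ν)
    (hsum : ∑ i, ν i = n) : 0 < (unipotentCharacterGL n F ν 1).re := by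
  set q := Fintype.card F with hq
  have hq1 : 1 ≤ q := Fintype.card_pos
  have h := Cfsg.Agent.S2424.result (F := F) (q := q) rfl ν hmono hsum
  set a : ℝ := (q : ℝ) ^ (n * (n - 1) * (n - 2) / 6) *
    ∏ i : Fin n, ∏ j ∈ Finset.range (ν i + i.val),
      ((∑ l ∈ Finset.range (j + 1), q ^ l : ℕ) : ℝ) with ha
  set b : ℝ := (∏ j ∈ Finset.range n, ((∑ l ∈ Finset.range (j + 1), q ^ l : ℕ) : ℝ)) *
    ∏ i : Fin n, ∏ j ∈ Finset.univ.filter (fun j : Fin n => i < j),
      (((∑ l ∈ Finset.range (ν j + j.val), q ^ l : ℕ) : ℝ) -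
        ((∑ l ∈ Finset.range (ν i + i.val), q ^ l : ℕ) : ℝ)) with hb
  have ha0 : 0 < a := by
    apply mul_pos
    · apply pow_pos
      exact_mod_cast hq1
    · apply Finset.prod_pos
      intro i _
      apply Finset.prod_pos
      intro j _
      exact_mod_cast qsum_pos q j
  have hb0 : 0 < b := by
    apply mul_pos
    · apply Finset.prod_pos
      intro j _
      exact_mod_cast qsum_pos q j
    · apply Finset.prod_pos
      intro i _
      apply Finset.prod_pos
      intro j hj
      rw [Finset.mem_filter] at hj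
      rw [sub_pos, Nat.cast_lt]
      apply qsum_lt q _ _ hq1
      have h1 := hmono (le_of_lt hj.2)
      have h2 : i.val < j.val := hj.2
      omega
  have hab : unipotentCharacterGL n F ν 1 * (a : ℂ) = (b : ℂ) := by
    rw [ha, hb]
    push_cast at h ⊢
    rw [← mul_assoc]
    exact h
  have hval : unipotentCharacterGL n F ν 1 = ((b / a : ℝ) : ℂ) := by
    rw [Complex.ofReal_div]
    have ha' : (a : ℂ) ≠ 0 := by
      rw [Ne, Complex.ofReal_eq_zero]
      exact ha0.ne'
    exact eq_div_of_mul_eq ha' hab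
  rw [hval, Complex.ofReal_re]
  exact div_pos hb0 ha0

theorem isGeneralizedCharacter_unipotentCharacterGL [Fintype F] (ν : Fin n → ℕ) :
    IsGeneralizedCharacter (GL (Fin n) F) (unipotentCharacterGL n F ν) := by
  classical
  have e : unipotentCharacterGL n F ν = ∑ κ : Equiv.Perm (Fin n),
      (fun g : GL (Fin n) F => if ∀ i : Fin n, (κ i).val ≤ ν i + i.val then
        ((Equiv.Perm.sign κ : ℤ) : ℂ) *
          fixedPointCharacter (parabolicGL n F fun i => ν i + i.val - (κ i).val) g
      else 0) := by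
    funext g
    rw [Finset.sum_apply]
    rfl
  rw [e]
  apply Cfsg.Agent.Helper24.isGeneralizedCharacter_sum
  intro κ _
  by_cases hv : ∀ i : Fin n, (κ i).val ≤ ν i + i.val
  · simp only [if_pos hv]
    have h1 := Cfsg.Agent.Helper24.isCharacter_permChar (G := GL (Fin n) F)
      (GL (Fin n) F ⧸ parabolicGL n F fun i => ν i + i.val - (κ i).val)
    exact Cfsg.Agent.Helper24.IsGeneralizedCharacter.zsmul
      (Cfsg.Agent.Helper24.IsCharacter.isGeneralizedCharacter h1) (Equiv.Perm.sign κ : ℤ)
  · simp only [if_neg hv]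
    exact Cfsg.Agent.Helper24.isGeneralizedCharacter_zero

end Cfsg.Agent.Helper12.Stein
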