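import Mathlib
import Cfsg.Agent.Helper12.SteinI

/-!
Restriction of the alternating-sum class functions of `GL_n(q)` along a homomorphism whose image
has the same orbits on pairs of flags (e.g. `SL_n(q) → GL_n(q)`).
-/

set_option autoImplicit false

namespace Cfsg.Agent.Helper12.Stein

open Cfsg Finset MulAction
open scoped MatrixGroups ComplexConjugate

universe u v

section General

variable {S : Type u} {G : Type v} [Group S] [Fintype S] [Group G] [Finite G]

/-- Burnside along a homomorphism whose image has the same orbits on pairs of cosets. -/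
theorem inner_fixedPointCharacter_of_hom (φ : S →* G) (H K : Subgroup G)
    (hφ : ∀ (x : (G ⧸ H) × (G ⧸ K)) (g : G), ∃ s : S, φ s • x = g • x) :
    (Nat.card S : ℂ)⁻¹ * ∑ s : S, fixedPointCharacter H (φ s) * fixedPointCharacter K (φ s) =
      (Nat.card (orbitRel.Quotient G ((G ⧸ H) × (G ⧸ K))) : ℂ) := by
  let _ : MulAction S ((G ⧸ H) × (G ⧸ K)) := MulAction.compHom _ φ
  have hsmul : ∀ (s : S) (x : (G ⧸ H) × (G ⧸ K)), s • x = φ s • x := fun _ _ => rfl
  have h1 : ∀ s : S, fixedPointCharacter H (φ s) * fixedPointCharacter K (φ s) =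
      (Nat.card (fixedBy ((G ⧸ H) × (G ⧸ K)) s) : ℂ) := by
    intro s
    unfold fixedPointCharacter
    have e : fixedBy ((G ⧸ H) × (G ⧸ K)) s = fixedBy ((G ⧸ H) × (G ⧸ K)) (φ s) := by
      ext x
      rw [mem_fixedBy, mem_fixedBy, hsmul]
    rw [e, Nat.card_congr (fixedByProdEquiv (G ⧸ H) (G ⧸ K) (φ s)), Nat.card_prod]
    push_cast
    rfl
  rw [Finset.sum_congr rfl (fun g _ => h1 g),
    Cfsg.Agent.Helper24.sum_card_fixedBy_complex]
  have hS : (Nat.card S : ℂ) ≠ 0 := by
    rw [Nat.cast_ne_zero]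
    exact Nat.card_pos.ne'
  have hq : Nat.card (orbitRel.Quotient S ((G ⧸ H) × (G ⧸ K))) =
      Nat.card (orbitRel.Quotient G ((G ⧸ H) × (G ⧸ K))) := by
    apply Nat.card_congr
    apply Quotient.congrRight
    intro a b
    show a ∈ orbit S b ↔ a ∈ orbit G b
    constructor
    · rintro ⟨s, rfl⟩
      exact ⟨φ s, rfl⟩
    · rintro ⟨g, rfl⟩
      obtain ⟨s, hs⟩ := hφ b g
      exact ⟨s, hs⟩
  rw [hq]
  field_simp

end General

section GLn

variable {F : Type*} [Field F] {n : ℕ}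

/-- A diagonal matrix with one prescribed entry. -/
noncomputable def dgOne (i₀ : Fin n) (c : Fˣ) : GL (Fin n) F :=
  Matrix.GeneralLinearGroup.mk'' (Matrix.diagonal (Function.update (fun _ => (1 : F)) i₀ (c : F)))
    (by
      rw [Matrix.det_diagonal, Finset.prod_update_of_mem (Finset.mem_univ i₀)]
      simp)

theorem dgOne_val (i₀ : Fin n) (c : Fˣ) :
    ((dgOne i₀ c : GL (Fin n) F) : Matrix (Fin n) (Fin n) F) =
      Matrix.diagonal (Function.update (fun _ => (1 : F)) i₀ (c : F)) := rfl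

theorem det_dgOne (i₀ : Fin n) (c : Fˣ) :
    Matrix.GeneralLinearGroup.det (dgOne i₀ c : GL (Fin n) F) = c := by
  apply Units.ext
  rw [Matrix.GeneralLinearGroup.val_det_apply, dgOne_val, Matrix.det_diagonal,
    Finset.prod_update_of_mem (Finset.mem_univ i₀)]
  simp

theorem dgOne_mem_parabolicGL (i₀ : Fin n) (c : Fˣ) (μ : Fin n → ℕ) :
    dgOne i₀ c ∈ parabolicGL n F μ := by
  show ((dgOne i₀ c : GL (Fin n) F) : Matrix (Fin n) (Fin n) F).BlockTriangular (compLabel μ)
  intro i j hij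
  rw [dgOne_val, Matrix.diagonal_apply_ne]
  rintro rfl
  exact lt_irrefl _ hij

theorem conj_dgOne_mem_parabolicGL (i₀ : Fin n) (c : Fˣ) (μ : Fin n → ℕ)
    (w : Equiv.Perm (Fin n)) :
    (Pm F n w)⁻¹ * dgOne i₀ c * Pm F n w ∈ parabolicGL n F μ := by
  show (((Pm F n w)⁻¹ * dgOne i₀ c * Pm F n w : GL (Fin n) F) :
    Matrix (Fin n) (Fin n) F).BlockTriangular (compLabel μ)
  intro i j hij
  rw [← map_inv, Units.val_mul, mul_Pm_apply, Units.val_mul, Pm_mul_apply, dgOne_val,
    Matrix.diagonal_apply_ne]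
  intro h
  have : i = j := by
    have h' : w i = w j := by simpa using h
    exact w.injective h'
  rw [this] at hij
  exact lt_irrefl _ hij

/-- `SL_n` has the same orbits as `GL_n` on pairs of cosets of standard parabolic subgroups. -/
theorem exists_SL_smul_eq (hn : 0 < n) (α β : Fin n → ℕ)
    (x : (GL (Fin n) F ⧸ parabolicGL n F α) × (GL (Fin n) F ⧸ parabolicGL n F β))
    (g : GL (Fin n) F) :
    ∃ s : Matrix.SpecialLinearGroup (Fin n) F,
      (Matrix.SpecialLinearGroup.toGL s : GL (Fin n) F) • x = g • x := by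
  obtain ⟨xa, xb⟩ := x
  induction xa using QuotientGroup.induction_on with | _ a => ?_
  induction xb using QuotientGroup.induction_on with | _ b => ?_
  obtain ⟨w, p, hp, q, hq, hpq⟩ := exists_parabolic_decomp (F := F) α β (a⁻¹ * b)
  set c : Fˣ := Matrix.GeneralLinearGroup.det g with hc
  set h : GL (Fin n) F := a * p with hh
  set d : GL (Fin n) F := dgOne ⟨0, hn⟩ c with hd
  set t : GL (Fin n) F := h * d * h⁻¹ with ht
  -- `t` fixes both cosets
  have hb : b = h * Pm F n w * q := by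
    rw [hh, mul_assoc, mul_assoc, ← mul_assoc p, ← hpq]
    group
  have ht1 : t • ((a : GL (Fin n) F) : GL (Fin n) F ⧸ parabolicGL n F α) =
      ((a : GL (Fin n) F) : GL (Fin n) F ⧸ parabolicGL n F α) := by
    show (((t * a : GL (Fin n) F)) : GL (Fin n) F ⧸ parabolicGL n F α) = _
    rw [QuotientGroup.eq]
    have : (t * a)⁻¹ * a = p * d⁻¹ * p⁻¹ := by
      rw [ht, hh]
      group
    rw [this]
    exact Subgroup.mul_mem _ (Subgroup.mul_mem _ hp
      (Subgroup.inv_mem _ (dgOne_mem_parabolicGL _ _ α))) (Subgroup.inv_mem _ hp)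
  have ht2 : t • ((b : GL (Fin n) F) : GL (Fin n) F ⧸ parabolicGL n F β) =
      ((b : GL (Fin n) F) : GL (Fin n) F ⧸ parabolicGL n F β) := by
    show (((t * b : GL (Fin n) F)) : GL (Fin n) F ⧸ parabolicGL n F β) = _
    rw [QuotientGroup.eq]
    have : (t * b)⁻¹ * b = q⁻¹ * ((Pm F n w)⁻¹ * d * Pm F n w)⁻¹ * q := by
      rw [ht, hb]
      group
    rw [this]
    exact Subgroup.mul_mem _ (Subgroup.mul_mem _ (Subgroup.inv_mem _ hq)
      (Subgroup.inv_mem _ (conj_dgOne_mem_parabolicGL _ _ β w))) hq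
  have hdet : Matrix.GeneralLinearGroup.det (g * t⁻¹) = 1 := by
    rw [map_mul, map_inv, ht, map_mul, map_mul, map_inv, hd, det_dgOne]
    rw [mul_comm (Matrix.GeneralLinearGroup.det h), mul_assoc, mul_inv_cancel, mul_one, ← hc,
      mul_inv_cancel]
  have hdet' : ((g * t⁻¹ : GL (Fin n) F) : Matrix (Fin n) (Fin n) F).det = 1 := by
    have := congrArg Units.val hdet
    rwa [Matrix.GeneralLinearGroup.val_det_apply] at this
  refine ⟨⟨((g * t⁻¹ : GL (Fin n) F) : Matrix (Fin n) (Fin n) F), hdet'⟩, ?_⟩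
  have hs : (Matrix.SpecialLinearGroup.toGL
      (⟨((g * t⁻¹ : GL (Fin n) F) : Matrix (Fin n) (Fin n) F), hdet'⟩ :
        Matrix.SpecialLinearGroup (Fin n) F) : GL (Fin n) F) = g * t⁻¹ := by
    apply Units.ext
    rfl
  rw [hs]
  have htinv : t⁻¹ • (((a : GL (Fin n) F) : GL (Fin n) F ⧸ parabolicGL n F α),
      ((b : GL (Fin n) F) : GL (Fin n) F ⧸ parabolicGL n F β)) =
      (((a : GL (Fin n) F) : GL (Fin n) F ⧸ parabolicGL n F α),
      ((b : GL (Fin n) F) : GL (Fin n) F ⧸ parabolicGL n F β)) := by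
    rw [inv_smul_eq_iff, Prod.smul_mk, ht1, ht2]
  rw [mul_smul, htinv]

end GLn

end Cfsg.Agent.Helper12.Stein
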