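import Mathlib
import Cfsg.Agent.Helper12.SteinK
import Cfsg.Agent.Helper12.SteinJ

/-!
Orthonormality of the alternating-sum class functions of `GL_n(q)` after restriction along a
homomorphism with the same orbits on pairs of flags; application to `SL_n(q)`.
-/

set_option autoImplicit false

namespace Cfsg.Agent.Helper12.Stein

open Cfsg Finset MulAction
open scoped MatrixGroups ComplexConjugate

universe u

variable {F : Type*} [Field F] {n : ℕ}

/-- Orthonormality of the alternating-sum class functions restricted along `φ`. -/
theorem classInner_unipotent_comp {S : Type u} [Group S] [Fintype S] [Finite (GL (Fin n) F)]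
    (φ : S →* GL (Fin n) F)
    (hφ : ∀ (α β : Fin n → ℕ)
      (x : (GL (Fin n) F ⧸ parabolicGL n F α) × (GL (Fin n) F ⧸ parabolicGL n F β))
      (g : GL (Fin n) F), ∃ s : S, φ s • x = g • x)
    (ν ν' : Fin n → ℕ)
    (hmono : Monotone ν) (hsum : ∑ i, ν i = n) (hmono' : Monotone ν') (hsum' : ∑ i, ν' i = n) :
    classInner (fun s : S => unipotentCharacterGL n F ν (φ s))
      (fun s : S => unipotentCharacterGL n F ν' (φ s)) =
      if ν = ν' then 1 else 0 := by
  classical
  set lam : Fin n → ℕ := fun i => ν i + i.val with hlam
  set lam' : Fin n → ℕ := fun i => ν' i + i.val with hlam'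
  have hT := Tsum_eq lam lam' (strictMono_shift ν hmono) (strictMono_shift ν' hmono')
  have hmain : classInner (fun s : S => unipotentCharacterGL n F ν (φ s))
      (fun s : S => unipotentCharacterGL n F ν' (φ s)) =
      ((Tsum lam lam' : ℤ) : ℂ) := by
    unfold classInner
    simp only [conj_unipotentCharacterGL]
    unfold unipotentCharacterGL Tsum
    simp only [Finset.sum_mul_sum]
    rw [Finset.sum_comm, Finset.mul_sum]
    push_cast
    apply Finset.sum_congr rfl
    intro κ _
    rw [Finset.sum_comm, Finset.mul_sum]
    apply Finset.sum_congr rfl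
    intro κ' _
    by_cases hv : Valid lam κ
    · by_cases hv' : Valid lam' κ'
      · have h1 : (∀ i : Fin n, (κ i).val ≤ ν i + i.val) := hv
        have h2 : (∀ i : Fin n, (κ' i).val ≤ ν' i + i.val) := hv'
        simp only [if_pos h1, if_pos h2, if_pos hv, if_pos hv']
        have := inner_fixedPointCharacter_of_hom φ
          (parabolicGL n F (fun i => ν i + i.val - (κ i).val))
          (parabolicGL n F (fun i => ν' i + i.val - (κ' i).val)) (hφ _ _)
        rw [card_orbits_parabolic _ _ (sum_lam_sub ν hsum κ hv)
          (sum_lam_sub ν' hsum' κ' hv')] at this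
        rw [← this, Finset.mul_sum, Finset.mul_sum, Finset.mul_sum]
        apply Finset.sum_congr rfl
        intro g _
        ring
      · have h2 : ¬ (∀ i : Fin n, (κ' i).val ≤ ν' i + i.val) := hv'
        simp only [if_neg h2, if_neg hv']
        simp
    · have h1 : ¬ (∀ i : Fin n, (κ i).val ≤ ν i + i.val) := hv
      simp only [if_neg h1, if_neg hv]
      simp
  rw [hmain, hT]
  by_cases h : ν = ν'
  · have hl : lam = lam' := by rw [hlam, hlam', h]
    rw [if_pos h, if_pos hl]
    simp
  · rw [if_neg h, if_neg]
    · simp
    · intro hcon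
      exact h (shift_injective ν ν' hcon)

/-- The restriction of an alternating-sum class function to `SL_n(q)` is an irreducible
character. -/
theorem isIrrCharacter_unipotent_SL [Fintype F] (hn : 0 < n) (ν : Fin n → ℕ)
    (hmono : Monotone ν) (hsum : ∑ i, ν i = n) :
    IsIrrCharacter (Matrix.SpecialLinearGroup (Fin n) F)
      (fun s => unipotentCharacterGL n F ν (Matrix.SpecialLinearGroup.toGL s)) := by
  classical
  have : Fintype (Matrix.SpecialLinearGroup (Fin n) F) := Fintype.ofFinite _
  have : Fintype (IrrCharacter (Matrix.SpecialLinearGroup (Fin n) F)) := Fintype.ofFinite _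
  apply Cfsg.Agent.Helper24.IsGeneralizedCharacter.isIrrCharacter_of_classInner_self
  · exact Cfsg.Agent.Helper24.IsGeneralizedCharacter.comp
      (isGeneralizedCharacter_unipotentCharacterGL ν) Matrix.SpecialLinearGroup.toGL
  · rw [classInner_unipotent_comp Matrix.SpecialLinearGroup.toGL
      (fun α β x g => exists_SL_smul_eq hn α β x g) ν ν hmono hsum hmono hsum, if_pos rfl]
  · show 0 < (unipotentCharacterGL n F ν (Matrix.SpecialLinearGroup.toGL 1)).re
    rw [map_one]
    exact unipotentCharacterGL_one_re_pos ν hmono hsum

/-- A central element of a subgroup `H` fixes every coset of `H`. -/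
theorem fixedPointCharacter_of_central {G : Type*} [Group G] (H : Subgroup G) (z : G)
    (hz : z ∈ H) (hc : ∀ g : G, z * g = g * z) :
    fixedPointCharacter H z = fixedPointCharacter H 1 := by
  unfold fixedPointCharacter
  have : fixedBy (G ⧸ H) z = fixedBy (G ⧸ H) (1 : G) := by
    ext x
    simp only [mem_fixedBy, one_smul, iff_true]
    induction x using QuotientGroup.induction_on with | _ a => ?_
    show ((z * a : G) : G ⧸ H) = a
    rw [QuotientGroup.eq, hc a, mul_inv_rev, mul_assoc, inv_mul_cancel, mul_one]
    exact Subgroup.inv_mem _ hz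
  rw [this]

theorem unipotentCharacterGL_of_central (ν : Fin n → ℕ) (z : GL (Fin n) F)
    (hz : ∀ μ : Fin n → ℕ, z ∈ parabolicGL n F μ) (hc : ∀ g : GL (Fin n) F, z * g = g * z) :
    unipotentCharacterGL n F ν z = unipotentCharacterGL n F ν 1 := by
  unfold unipotentCharacterGL
  apply Finset.sum_congr rfl
  intro κ _
  rw [fixedPointCharacter_of_central _ z (hz _) hc]

theorem unipotent_SL_center (ν : Fin n → ℕ) (z : Matrix.SpecialLinearGroup (Fin n) F)
    (hz : z ∈ Subgroup.center (Matrix.SpecialLinearGroup (Fin n) F)) :
    unipotentCharacterGL n F ν (Matrix.SpecialLinearGroup.toGL z) =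
      unipotentCharacterGL n F ν (Matrix.SpecialLinearGroup.toGL 1) := by
  rw [map_one]
  obtain ⟨r, -, hr⟩ := Matrix.SpecialLinearGroup.mem_center_iff.mp hz
  have hval : ((Matrix.SpecialLinearGroup.toGL z : GL (Fin n) F) : Matrix (Fin n) (Fin n) F) =
      Matrix.scalar (Fin n) r := by
    rw [hr]
    rfl
  apply unipotentCharacterGL_of_central
  · intro μ
    show ((Matrix.SpecialLinearGroup.toGL z : GL (Fin n) F) :
      Matrix (Fin n) (Fin n) F).BlockTriangular (compLabel μ)
    rw [hval]
    intro i j hij
    rw [Matrix.scalar_apply, Matrix.diagonal_apply_ne]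
    rintro rfl
    exact lt_irrefl _ hij
  · intro g
    apply Units.ext
    rw [Units.val_mul, Units.val_mul, hval]
    exact (Matrix.scalar_commute r (Commute.all r) (g : Matrix (Fin n) (Fin n) F)).eq

end Cfsg.Agent.Helper12.Stein
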