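import Mathlib
import Cfsg.Agent.Helper12.SteinJ
import Cfsg.Agent.Helper8.PosDef
import Cfsg.Agent.Helper23.CharOrtho
import Cfsg.Agent.Helper24.Orthogonality

/-!
The irreducible constituents of the permutation characters of `GL_n(q)` on flags are the
alternating-sum characters: the span argument.
-/

set_option autoImplicit false

namespace Cfsg.Agent.Helper12.Stein

open Cfsg Finset Cfsg.Agent.Helper24
open scoped MatrixGroups ComplexConjugate

variable {F : Type*} [Field F] {n : ℕ}

/-- Permuting the columns of a matrix with prescribed margins. -/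
def margPermRight (α β : Fin n → ℕ) (σ : Equiv.Perm (Fin n)) :
    Marg α β ≃ Marg α (fun j => β (σ j)) where
  toFun M := ⟨fun i j => M.1 i (σ j), by
    constructor
    · intro i
      rw [Equiv.sum_comp σ (fun j => M.1 i j)]
      exact M.2.1 i
    · intro j
      exact M.2.2 (σ j)⟩
  invFun M := ⟨fun i j => M.1 i (σ.symm j), by
    constructor
    · intro i
      rw [Equiv.sum_comp σ.symm (fun j => M.1 i j)]
      exact M.2.1 i
    · intro j
      have := M.2.2 (σ.symm j)
      simp only [Equiv.apply_symm_apply] at this
      exact this⟩
  left_inv M := by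
    apply Subtype.ext
    funext i j
    simp
  right_inv M := by
    apply Subtype.ext
    funext i j
    simp

/-- Permuting the rows of a matrix with prescribed margins. -/
def margPermLeft (α β : Fin n → ℕ) (σ : Equiv.Perm (Fin n)) :
    Marg α β ≃ Marg (fun i => α (σ i)) β where
  toFun M := ⟨fun i j => M.1 (σ i) j, by
    constructor
    · intro i
      exact M.2.1 (σ i)
    · intro j
      rw [Equiv.sum_comp σ (fun i => M.1 i j)]
      exact M.2.2 j⟩
  invFun M := ⟨fun i j => M.1 (σ.symm i) j, by
    constructor
    · intro i
      have := M.2.1 (σ.symm i)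
      simp only [Equiv.apply_symm_apply] at this
      exact this
    · intro j
      rw [Equiv.sum_comp σ.symm (fun i => M.1 i j)]
      exact M.2.2 j⟩
  left_inv M := by
    apply Subtype.ext
    funext i j
    simp
  right_inv M := by
    apply Subtype.ext
    funext i j
    simp

theorem conj_fixedPointCharacter {G : Type*} [Group G] (H : Subgroup G) (g : G) :
    conj (fixedPointCharacter H g) = fixedPointCharacter H g := by
  unfold fixedPointCharacter
  exact Complex.conj_natCast _

theorem classInner_parabolic [Fintype (GL (Fin n) F)] (α β : Fin n → ℕ) (hα : ∑ i, α i = n)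
    (hβ : ∑ i, β i = n) :
    classInner (fixedPointCharacter (parabolicGL n F α)) (fixedPointCharacter (parabolicGL n F β)) =
      (Nat.card (Marg α β) : ℂ) := by
  rw [← inner_parabolic (F := F) α β hα hβ]
  unfold classInner
  congr 1
  apply Finset.sum_congr rfl
  intro g _
  rw [conj_fixedPointCharacter]

/-- The permutation character on flags depends only on the multiset of the parts. -/
theorem fixedPointCharacter_parabolic_perm [Fintype (GL (Fin n) F)] (μ : Fin n → ℕ)
    (hμ : ∑ i, μ i = n) (σ : Equiv.Perm (Fin n)) :
    fixedPointCharacter (parabolicGL n F (fun i => μ (σ i))) =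
      fixedPointCharacter (parabolicGL n F μ) := by
  have hμσ : ∑ i, μ (σ i) = n := by
    rw [Equiv.sum_comp σ μ]
    exact hμ
  have h1 : Nat.card (Marg (fun i => μ (σ i)) (fun i => μ (σ i))) = Nat.card (Marg μ μ) :=
    (Nat.card_congr ((margPermRight μ μ σ).trans (margPermLeft μ _ σ))).symm
  have h2 : Nat.card (Marg (fun i => μ (σ i)) μ) = Nat.card (Marg μ μ) :=
    (Nat.card_congr (margPermLeft μ μ σ)).symm
  have h3 : Nat.card (Marg μ (fun i => μ (σ i))) = Nat.card (Marg μ μ) :=
    (Nat.card_congr (margPermRight μ μ σ)).symm
  have h0 : classInner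
      (fixedPointCharacter (parabolicGL n F (fun i => μ (σ i))) -
        fixedPointCharacter (parabolicGL n F μ))
      (fixedPointCharacter (parabolicGL n F (fun i => μ (σ i))) -
        fixedPointCharacter (parabolicGL n F μ)) = 0 := by
    rw [classInner_sub_left, classInner_sub_right, classInner_sub_right,
      classInner_parabolic _ _ hμσ hμσ, classInner_parabolic _ _ hμσ hμ,
      classInner_parabolic _ _ hμ hμσ, classInner_parabolic _ _ hμ hμ, h1, h2, h3]
    ring
  have := Cfsg.Agent.Helper8.eq_zero_of_classInner_self_eq_zero h0
  exact sub_eq_zero.mp this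

/-- Partitions of `n` with `n` non-decreasing parts. -/
def Part (n : ℕ) : Type := {ν : Fin n → ℕ // Monotone ν ∧ ∑ i, ν i = n}

instance : Finite (Part n) := by
  have hinj : Function.Injective (fun ν : Part n => fun i : Fin n =>
      (⟨ν.1 i, by
        have h1 : ν.1 i ≤ ∑ j, ν.1 j := Finset.single_le_sum (f := ν.1) (fun _ _ => Nat.zero_le _)
          (Finset.mem_univ i)
        have h2 := ν.2.2
        omega⟩ : Fin (n + 1))) := by
    intro ν ν' h
    apply Subtype.ext
    funext i
    have := congrFun h i
    exact congrArg Fin.val this
  exact Finite.of_injective _ hinj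

end Cfsg.Agent.Helper12.Stein
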