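import Mathlib
import Cfsg.Agent.Helper12.SteinO
import Cfsg.Agent.S2421

/-!
The irreducible constituents of the permutation characters of `GL_n(q)` on flags are the
alternating-sum characters.
-/

set_option autoImplicit false

namespace Cfsg.Agent.Helper12.Stein

open Cfsg Finset Cfsg.Agent.Helper24
open scoped MatrixGroups ComplexConjugate

variable {F : Type*} [Field F] {n : ℕ}

theorem exists_part_of_comp [Fintype (GL (Fin n) F)] (μ : Fin n → ℕ) (hμ : ∑ i, μ i = n) :
    ∃ ν : Part n, fixedPointCharacter (parabolicGL n F μ) =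
      fixedPointCharacter (parabolicGL n F ν.1) := by
  refine ⟨⟨fun i => μ (Tuple.sort μ i), Tuple.monotone_sort μ, ?_⟩, ?_⟩
  · rw [Equiv.sum_comp (Tuple.sort μ) μ]
    exact hμ
  · exact (fixedPointCharacter_parabolic_perm μ hμ (Tuple.sort μ)).symm

theorem unipotent_of_constituent [Fintype F] [DecidableEq F] (μ : Fin n → ℕ)
    (hμ : ∑ i, μ i = n) (χ : GL (Fin n) F → ℂ) (hχ : IsIrrCharacter (GL (Fin n) F) χ)
    (hne : classInner (fixedPointCharacter (parabolicGL n F μ)) χ ≠ 0) :
    ∃ ν : Fin n → ℕ, Monotone ν ∧ ∑ i, ν i = n ∧ χ = unipotentCharacterGL n F ν := by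
  classical
  have : Fintype (Part n) := Fintype.ofFinite _
  set pi : Part n → (GL (Fin n) F → ℂ) :=
    fun ν => fixedPointCharacter (parabolicGL n F ν.1) with hpi
  set ch : Part n → (GL (Fin n) F → ℂ) := fun ν => unipotentCharacterGL n F ν.1 with hch
  set Wp := Submodule.span ℂ (Set.range pi) with hWp
  set Wc := Submodule.span ℂ (Set.range ch) with hWc
  have hcomp : ∀ μ' : Fin n → ℕ, ∑ i, μ' i = n →
      fixedPointCharacter (parabolicGL n F μ') ∈ Wp := by
    intro μ' hμ'
    obtain ⟨ν, hν⟩ := exists_part_of_comp (F := F) μ' hμ'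
    rw [hν]
    exact Submodule.subset_span ⟨ν, rfl⟩
  have hle : Wc ≤ Wp := by
    rw [hWc, Submodule.span_le]
    rintro _ ⟨ν, rfl⟩
    have e : ch ν = ∑ κ : Equiv.Perm (Fin n),
        (fun g : GL (Fin n) F => if ∀ i : Fin n, (κ i).val ≤ ν.1 i + i.val then
          ((Equiv.Perm.sign κ : ℤ) : ℂ) *
            fixedPointCharacter (parabolicGL n F fun i => ν.1 i + i.val - (κ i).val) g
        else 0) := by
      funext g
      rw [Finset.sum_apply]
      rfl
    rw [SetLike.mem_coe, e]
    apply Submodule.sum_mem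
    intro κ _
    by_cases hv : ∀ i : Fin n, (κ i).val ≤ ν.1 i + i.val
    · simp only [if_pos hv]
      have h1 := hcomp (fun i => ν.1 i + i.val - (κ i).val) (sum_lam_sub ν.1 ν.2.2 κ hv)
      exact Submodule.smul_mem _ ((Equiv.Perm.sign κ : ℤ) : ℂ) h1
    · simp only [if_neg hv]
      exact Submodule.zero_mem _
  have horth : ∀ ν ν' : Part n, classInner (ch ν) (ch ν') = if ν = ν' then 1 else 0 := by
    intro ν ν'
    rw [hch]
    simp only
    rw [classInner_unipotentCharacterGL ν.1 ν'.1 ν.2.1 ν.2.2 ν'.2.1 ν'.2.2]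
    by_cases h : ν = ν'
    · rw [if_pos h, if_pos (congrArg Subtype.val h)]
    · rw [if_neg h, if_neg (fun h' => h (Subtype.ext h'))]
  have hli : LinearIndependent ℂ ch := by
    rw [linearIndependent_iff']
    intro s g hg i hi
    have h1 : classInner (∑ j ∈ s, g j • ch j) (ch i) = g i := by
      rw [classInner_sum_left]
      rw [Finset.sum_eq_single i]
      · rw [classInner_smul_left, horth, if_pos rfl, mul_one]
      · intro j _ hj
        rw [classInner_smul_left, horth, if_neg hj, mul_zero]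
      · intro h
        exact absurd hi h
    rw [hg, classInner_zero_left] at h1
    exact h1.symm
  have hfc : Module.finrank ℂ Wc = Fintype.card (Part n) := finrank_span_eq_card hli
  have hfp : Module.finrank ℂ Wp ≤ Fintype.card (Part n) := finrank_range_le_card pi
  have heq : Wc = Wp := Submodule.eq_of_le_of_finrank_le hle (by rw [hfc]; exact hfp)
  have hmem : fixedPointCharacter (parabolicGL n F μ) ∈ Wc := by
    rw [heq]
    exact hcomp μ hμ
  rw [hWc, Submodule.mem_span_range_iff_exists_fun] at hmem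
  obtain ⟨c, hc⟩ := hmem
  rw [← hc, classInner_sum_left] at hne
  obtain ⟨ν, _, hν⟩ := Finset.exists_ne_zero_of_sum_ne_zero hne
  rw [classInner_smul_left] at hν
  have hν' : classInner (ch ν) χ ≠ 0 := right_ne_zero_of_mul hν
  have hirr : IsIrrCharacter (GL (Fin n) F) (ch ν) := Cfsg.Agent.S2421.result ν.1 ν.2.1 ν.2.2
  rw [Cfsg.Agent.Helper23.classInner_irrCharacter _ _ hirr hχ] at hν'
  refine ⟨ν.1, ν.2.1, ν.2.2, ?_⟩
  by_contra hcon
  apply hν'
  rw [if_neg]
  intro h
  exact hcon h.symm

end Cfsg.Agent.Helper12.Stein
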