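import Mathlib
import Cfsg.Agent.Helper12.SteinL

/-!
The degree of the Steinberg character of `GL_n(q)`: `q^(n(n-1)/2)`.
-/

set_option autoImplicit false

namespace Cfsg.Agent.Helper12.Stein

open Cfsg Finset
open scoped MatrixGroups

theorem qint_sub {R : Type*} [CommRing R] (x : R) (i n : ℕ) (h : i ≤ n) :
    (∑ l ∈ range (n + 1), x ^ l) - ∑ l ∈ range (i + 1), x ^ l =
      x ^ (i + 1) * ∑ l ∈ range (n - i), x ^ l := by
  have h1 : n + 1 = (i + 1) + (n - i) := by omega
  rw [h1, Finset.sum_range_add, add_sub_cancel_left, Finset.mul_sum]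
  apply Finset.sum_congr rfl
  intro l _
  rw [pow_add]

theorem sum_succ_range (n : ℕ) : ∑ i ∈ range n, (i + 1) = (n + 1) * n / 2 := by
  have h := Finset.sum_range_id (n + 1)
  rw [Finset.sum_range_succ'] at h
  simpa using h

theorem stein_identity {R : Type*} [CommRing R] (x : R) (n : ℕ) :
    x ^ (∑ j ∈ range n, (j * (j - 1) / 2) + n * (n - 1) / 2) *
      ∏ i ∈ range n, ∏ j ∈ range (i + 1), (∑ l ∈ range (j + 1), x ^ l) =
    (∏ j ∈ range n, ∑ l ∈ range (j + 1), x ^ l) *
      ∏ i ∈ range n, ∏ j ∈ range n,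
        (if i < j then (∑ l ∈ range (j + 1), x ^ l) - ∑ l ∈ range (i + 1), x ^ l else 1) := by
  induction n with
  | zero => simp
  | succ n ih =>
    have hD : ∏ i ∈ range (n + 1), ∏ j ∈ range (n + 1),
        (if i < j then (∑ l ∈ range (j + 1), x ^ l) - ∑ l ∈ range (i + 1), x ^ l else 1) =
        (∏ i ∈ range n, ∏ j ∈ range n,
        (if i < j then (∑ l ∈ range (j + 1), x ^ l) - ∑ l ∈ range (i + 1), x ^ l else 1)) *
        (x ^ ((n + 1) * n / 2) * ∏ j ∈ range n, ∑ l ∈ range (j + 1), x ^ l) := by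
      rw [Finset.prod_range_succ]
      have h1 : ∏ j ∈ range (n + 1),
          (if n < j then (∑ l ∈ range (j + 1), x ^ l) - ∑ l ∈ range (n + 1), x ^ l else 1) = 1 := by
        apply Finset.prod_eq_one
        intro j hj
        rw [Finset.mem_range] at hj
        rw [if_neg (by omega)]
      rw [h1, mul_one]
      have h2 : ∀ i ∈ range n, ∏ j ∈ range (n + 1),
          (if i < j then (∑ l ∈ range (j + 1), x ^ l) - ∑ l ∈ range (i + 1), x ^ l else 1) =
          (∏ j ∈ range n,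
          (if i < j then (∑ l ∈ range (j + 1), x ^ l) - ∑ l ∈ range (i + 1), x ^ l else 1)) *
          (x ^ (i + 1) * ∑ l ∈ range (n - i), x ^ l) := by
        intro i hi
        rw [Finset.mem_range] at hi
        rw [Finset.prod_range_succ, if_pos hi, qint_sub x i n hi.le]
      rw [Finset.prod_congr rfl h2, Finset.prod_mul_distrib, Finset.prod_mul_distrib,
        Finset.prod_pow_eq_pow_sum, sum_succ_range]
      congr 2
      have h3 := Finset.prod_range_reflect (fun j => ∑ l ∈ range (j + 1), x ^ l) n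
      rw [← h3]
      apply Finset.prod_congr rfl
      intro i hi
      rw [Finset.mem_range] at hi
      have : n - 1 - i + 1 = n - i := by omega
      rw [this]
    rw [hD, Finset.prod_range_succ (fun i => ∏ j ∈ range (i + 1), ∑ l ∈ range (j + 1), x ^ l)]
    have hc : ∑ j ∈ range (n + 1), (j * (j - 1) / 2) + (n + 1) * (n + 1 - 1) / 2 =
        (∑ j ∈ range n, (j * (j - 1) / 2) + n * (n - 1) / 2) + (n + 1) * n / 2 := by
      rw [Finset.sum_range_succ]
      simp
    rw [hc, pow_add]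
    calc x ^ (∑ j ∈ range n, j * (j - 1) / 2 + n * (n - 1) / 2) * x ^ ((n + 1) * n / 2) *
        ((∏ x_1 ∈ range n, ∏ j ∈ range (x_1 + 1), ∑ l ∈ range (j + 1), x ^ l) *
          ∏ j ∈ range (n + 1), ∑ l ∈ range (j + 1), x ^ l)
        = (x ^ (∑ j ∈ range n, j * (j - 1) / 2 + n * (n - 1) / 2) *
          (∏ x_1 ∈ range n, ∏ j ∈ range (x_1 + 1), ∑ l ∈ range (j + 1), x ^ l)) *
          (x ^ ((n + 1) * n / 2) * ∏ j ∈ range (n + 1), ∑ l ∈ range (j + 1), x ^ l) := by ring
      _ = _ := by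
        rw [ih]
        ring

variable {F : Type*} [Field F] {n : ℕ}

/-- The degree of the Steinberg character of `GL_n(q)`. -/
theorem steinberg_degree [Fintype F] :
    unipotentCharacterGL n F (fun _ => 1) 1 = (Fintype.card F : ℂ) ^ (n * (n - 1) / 2) := by
  set q := Fintype.card F with hq
  have hq1 : 1 ≤ q := Fintype.card_pos
  have hx : (q : ℂ) ≠ 0 := by
    rw [Nat.cast_ne_zero]
    omega
  have h := Cfsg.Agent.S2424.result (F := F) (q := q) rfl (n := n) (fun _ => 1) monotone_const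
    (by simp)
  have hA : ∏ i : Fin n, ∏ j ∈ Finset.range (1 + i.val),
      ((∑ l ∈ Finset.range (j + 1), q ^ l : ℕ) : ℂ) =
      ∏ i ∈ range n, ∏ j ∈ range (i + 1), (∑ l ∈ range (j + 1), (q : ℂ) ^ l) := by
    rw [← Fin.prod_univ_eq_prod_range (fun i => ∏ j ∈ range (i + 1),
      (∑ l ∈ range (j + 1), (q : ℂ) ^ l)) n]
    apply Finset.prod_congr rfl
    intro i _
    rw [add_comm 1 i.val]
    apply Finset.prod_congr rfl
    intro j _
    push_cast
    rfl
  have hA0 : ∏ i : Fin n, ∏ j ∈ Finset.range (1 + i.val),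
      ((∑ l ∈ Finset.range (j + 1), q ^ l : ℕ) : ℂ) ≠ 0 := by
    apply Finset.prod_ne_zero_iff.mpr
    intro i _
    apply Finset.prod_ne_zero_iff.mpr
    intro j _
    rw [Nat.cast_ne_zero]
    exact (qsum_pos q j).ne'
  have hP : (∏ j ∈ Finset.range n, ((∑ l ∈ Finset.range (j + 1), q ^ l : ℕ) : ℂ)) =
      ∏ j ∈ range n, ∑ l ∈ range (j + 1), (q : ℂ) ^ l := by
    apply Finset.prod_congr rfl
    intro j _
    push_cast
    rfl
  have hD : ∏ i : Fin n, ∏ j ∈ Finset.univ.filter (fun j : Fin n => i < j),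
      (((∑ l ∈ Finset.range (1 + j.val), q ^ l : ℕ) : ℂ) -
        ((∑ l ∈ Finset.range (1 + i.val), q ^ l : ℕ) : ℂ)) =
      ∏ i ∈ range n, ∏ j ∈ range n,
        (if i < j then (∑ l ∈ range (j + 1), (q : ℂ) ^ l) - ∑ l ∈ range (i + 1), (q : ℂ) ^ l
          else 1) := by
    rw [← Fin.prod_univ_eq_prod_range (fun i => ∏ j ∈ range n,
        (if i < j then (∑ l ∈ range (j + 1), (q : ℂ) ^ l) - ∑ l ∈ range (i + 1), (q : ℂ) ^ l
          else 1)) n]
    apply Finset.prod_congr rfl
    intro i _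
    rw [← Fin.prod_univ_eq_prod_range (fun j =>
        (if i.val < j then (∑ l ∈ range (j + 1), (q : ℂ) ^ l) -
          ∑ l ∈ range (i.val + 1), (q : ℂ) ^ l else 1)) n, Finset.prod_filter]
    apply Finset.prod_congr rfl
    intro j _
    by_cases hij : i < j
    · rw [if_pos hij, if_pos (Fin.lt_def.mp hij), add_comm 1 j.val, add_comm 1 i.val]
      push_cast
      rfl
    · rw [if_neg hij, if_neg (fun h' => hij (Fin.lt_def.mpr h'))]
  rw [hP, hD, ← stein_identity (q : ℂ) n, Cfsg.Agent.S2424.sum_tri, pow_add] at h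
  have h2 : unipotentCharacterGL n F (fun _ => 1) 1 *
      ((q : ℂ) ^ (n * (n - 1) * (n - 2) / 6) *
        ∏ i : Fin n, ∏ j ∈ Finset.range (1 + i.val),
          ((∑ l ∈ Finset.range (j + 1), q ^ l : ℕ) : ℂ)) =
      (q : ℂ) ^ (n * (n - 1) / 2) * ((q : ℂ) ^ (n * (n - 1) * (n - 2) / 6) *
        ∏ i : Fin n, ∏ j ∈ Finset.range (1 + i.val),
          ((∑ l ∈ Finset.range (j + 1), q ^ l : ℕ) : ℂ)) := by
    rw [← mul_assoc, h, hA]
    ring
  exact mul_right_cancel₀ (mul_ne_zero (pow_ne_zero _ hx) hA0) h2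

end Cfsg.Agent.Helper12.Stein
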