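import Mathlib
import Cfsg.Agent.Helper12.SteinM

/-!
The alternating-sum character of `GL_n(q)` of degree `q^(n(n-1)/2)` is the Steinberg character.
-/

set_option autoImplicit false

namespace Cfsg.Agent.Helper12.Stein

open Cfsg Finset
open scoped MatrixGroups

theorem qsum_add (q a b : ℕ) :
    ∑ l ∈ range (a + b), q ^ l = ∑ l ∈ range a, q ^ l + q ^ a * ∑ l ∈ range b, q ^ l := by
  rw [Finset.sum_range_add, Finset.mul_sum]
  congr 1
  apply Finset.sum_congr rfl
  intro l _
  rw [pow_add]

theorem qsum_succ_zmod (q r : ℕ) : ((∑ l ∈ range (r + 1), q ^ l : ℕ) : ZMod q) = 1 := by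
  rw [Finset.sum_range_succ']
  push_cast
  rw [ZMod.natCast_self]
  simp

theorem pow_mul_eq_pow_mul_aux {q : ℕ} (hq : 2 ≤ q) {a b A B : ℕ} (hA : (A : ZMod q) = 1)
    (hab : a < b) (h : q ^ a * A = q ^ b * B) : False := by
  have : Fact (1 < q) := ⟨hq⟩
  obtain ⟨k, rfl⟩ := Nat.exists_eq_add_of_lt hab
  have hq0 : 0 < q ^ a := pow_pos (by omega) a
  have h1 : A = q ^ (k + 1) * B := by
    apply Nat.eq_of_mul_eq_mul_left hq0
    rw [h, ← mul_assoc, ← pow_add, add_assoc]
  have h2 : (A : ZMod q) = ((q ^ (k + 1) * B : ℕ) : ZMod q) := by rw [h1]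
  rw [hA] at h2
  push_cast at h2
  rw [ZMod.natCast_self, zero_pow (Nat.succ_ne_zero k), zero_mul] at h2
  exact one_ne_zero h2

theorem pow_mul_eq_pow_mul {q : ℕ} (hq : 2 ≤ q) {a b A B : ℕ} (hA : (A : ZMod q) = 1)
    (hB : (B : ZMod q) = 1) (h : q ^ a * A = q ^ b * B) : a = b := by
  rcases lt_trichotomy a b with hab | hab | hab
  · exact (pow_mul_eq_pow_mul_aux hq hA hab h).elim
  · exact hab
  · exact (pow_mul_eq_pow_mul_aux hq hB hab h.symm).elim

/-- Rearrangement: a non-decreasing sequence paired with strictly decreasing weights has weighted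
sum equal to the mean only if it is constant. -/
theorem const_of_weighted_sum {n : ℕ} (w ν : Fin n → ℕ) (hw : ∀ i j : Fin n, i < j → w j < w i)
    (hmono : Monotone ν) (hsum : ∑ i, ν i = n) (h : ∑ i, w i * ν i = ∑ i, w i) :
    ∀ i j : Fin n, i < j → ν i = ν j := by
  set W : Fin n → ℤ := fun i => (w i : ℤ) with hW
  set N : Fin n → ℤ := fun i => (ν i : ℤ) with hN
  have hsum' : ∑ i, N i = (n : ℤ) := by
    rw [hN]
    simp only
    rw [← Nat.cast_sum, hsum]
  have h' : ∑ i, W i * N i = ∑ i, W i := by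
    rw [hW, hN]
    simp only
    have : ((∑ i, w i * ν i : ℕ) : ℤ) = ((∑ i, w i : ℕ) : ℤ) := by rw [h]
    push_cast at this
    exact this
  have hdouble : ∑ i, ∑ j, (W i - W j) * (N i - N j) =
      2 * (n : ℤ) * ∑ i, W i * N i - 2 * (∑ i, W i) * ∑ i, N i := by
    simp only [sub_mul, mul_sub, Finset.sum_sub_distrib, Finset.sum_const, Finset.card_univ,
      Fintype.card_fin, nsmul_eq_mul, ← Finset.mul_sum, ← Finset.sum_mul]
    ring
  rw [h', hsum'] at hdouble
  have hzero : ∑ i, ∑ j, (W i - W j) * (N i - N j) = 0 := by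
    rw [hdouble]
    ring
  have hnonpos : ∀ i j : Fin n, (W i - W j) * (N i - N j) ≤ 0 := by
    intro i j
    rcases lt_trichotomy i j with hij | hij | hij
    · apply mul_nonpos_of_nonneg_of_nonpos
      · have := hw i j hij
        rw [hW]
        simp only
        omega
      · have := hmono hij.le
        rw [hN]
        simp only
        omega
    · rw [hij]
      simp
    · apply mul_nonpos_of_nonpos_of_nonneg
      · have := hw j i hij
        rw [hW]
        simp only
        omega
      · have := hmono hij.le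
        rw [hN]
        simp only
        omega
  have h1 := (Finset.sum_eq_zero_iff_of_nonpos (fun i _ =>
    Finset.sum_nonpos (fun j _ => hnonpos i j))).mp hzero
  intro i j hij
  have h2 := (Finset.sum_eq_zero_iff_of_nonpos (fun j _ => hnonpos i j)).mp
    (h1 i (Finset.mem_univ i)) j (Finset.mem_univ j)
  rcases mul_eq_zero.mp h2 with h3 | h3
  · exfalso
    have := hw i j hij
    rw [hW] at h3
    simp only at h3
    omega
  · rw [hN] at h3
    simp only at h3
    omega

variable {F : Type*} [Field F] {n : ℕ}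

theorem degree_exponent [Fintype F] (ν : Fin n → ℕ) (hmono : Monotone ν) (hsum : ∑ i, ν i = n)
    (hdeg : unipotentCharacterGL n F ν 1 = (Fintype.card F : ℂ) ^ (n * (n - 1) / 2)) :
    n * (n - 1) / 2 + n * (n - 1) * (n - 2) / 6 =
      ∑ i : Fin n, (ν i + i.val) * (Finset.univ.filter (fun j : Fin n => i < j)).card := by
  set q := Fintype.card F with hq
  have hq2 : 2 ≤ q := Fintype.one_lt_card
  have h := Cfsg.Agent.S2424.result (F := F) (q := q) rfl ν hmono hsum
  rw [hdeg] at h
  have hlam := strictMono_shift ν hmono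
  have hdiff : ∀ i j : Fin n, i < j →
      (((∑ l ∈ range (ν j + j.val), q ^ l : ℕ) : ℂ) -
        ((∑ l ∈ range (ν i + i.val), q ^ l : ℕ) : ℂ)) =
      ((q ^ (ν i + i.val) *
        ∑ l ∈ range ((ν j + j.val - (ν i + i.val) - 1) + 1), q ^ l : ℕ) : ℂ) := by
    intro i j hij
    have h1 : ν i + i.val < ν j + j.val := hlam hij
    have h2 : ν j + j.val = (ν i + i.val) + ((ν j + j.val - (ν i + i.val) - 1) + 1) := by omega
    conv_lhs => rw [h2, qsum_add]
    push_cast
    ring
  have hR : ∏ i : Fin n, ∏ j ∈ Finset.univ.filter (fun j : Fin n => i < j),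
      (((∑ l ∈ Finset.range (ν j + j.val), q ^ l : ℕ) : ℂ) -
        ((∑ l ∈ Finset.range (ν i + i.val), q ^ l : ℕ) : ℂ)) =
      ((∏ i : Fin n, ∏ j ∈ Finset.univ.filter (fun j : Fin n => i < j),
        (q ^ (ν i + i.val) *
          ∑ l ∈ range ((ν j + j.val - (ν i + i.val) - 1) + 1), q ^ l) : ℕ) : ℂ) := by
    rw [Nat.cast_prod]
    apply Finset.prod_congr rfl
    intro i _
    rw [Nat.cast_prod]
    apply Finset.prod_congr rfl
    intro j hj
    rw [Finset.mem_filter] at hj
    exact hdiff i j hj.2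
  rw [hR] at h
  have hnat : q ^ (n * (n - 1) / 2) * q ^ (n * (n - 1) * (n - 2) / 6) *
      ∏ i : Fin n, ∏ j ∈ Finset.range (ν i + i.val), (∑ l ∈ Finset.range (j + 1), q ^ l) =
      (∏ j ∈ Finset.range n, (∑ l ∈ Finset.range (j + 1), q ^ l)) *
      ∏ i : Fin n, ∏ j ∈ Finset.univ.filter (fun j : Fin n => i < j),
        (q ^ (ν i + i.val) *
          ∑ l ∈ range ((ν j + j.val - (ν i + i.val) - 1) + 1), q ^ l) := by
    exact_mod_cast h
  have hsplit : ∏ i : Fin n, ∏ j ∈ Finset.univ.filter (fun j : Fin n => i < j),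
        (q ^ (ν i + i.val) *
          ∑ l ∈ range ((ν j + j.val - (ν i + i.val) - 1) + 1), q ^ l) =
      q ^ (∑ i : Fin n, (ν i + i.val) * (Finset.univ.filter (fun j : Fin n => i < j)).card) *
      ∏ i : Fin n, ∏ j ∈ Finset.univ.filter (fun j : Fin n => i < j),
          ∑ l ∈ range ((ν j + j.val - (ν i + i.val) - 1) + 1), q ^ l := by
    rw [← Finset.prod_pow_eq_pow_sum, ← Finset.prod_mul_distrib]
    apply Finset.prod_congr rfl
    intro i _
    rw [Finset.prod_mul_distrib, Finset.prod_const, ← pow_mul]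
  rw [hsplit] at hnat
  have hA : ((∏ i : Fin n, ∏ j ∈ Finset.range (ν i + i.val),
      (∑ l ∈ Finset.range (j + 1), q ^ l) : ℕ) : ZMod q) = 1 := by
    rw [Nat.cast_prod]
    apply Finset.prod_eq_one
    intro i _
    rw [Nat.cast_prod]
    apply Finset.prod_eq_one
    intro j _
    exact qsum_succ_zmod q j
  have hB : (((∏ j ∈ Finset.range n, (∑ l ∈ Finset.range (j + 1), q ^ l)) *
      ∏ i : Fin n, ∏ j ∈ Finset.univ.filter (fun j : Fin n => i < j),
          ∑ l ∈ range ((ν j + j.val - (ν i + i.val) - 1) + 1), q ^ l : ℕ) : ZMod q) = 1 := by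
    rw [Nat.cast_mul, Nat.cast_prod, Nat.cast_prod]
    rw [Finset.prod_eq_one (fun j _ => qsum_succ_zmod q j), one_mul]
    apply Finset.prod_eq_one
    intro i _
    rw [Nat.cast_prod]
    apply Finset.prod_eq_one
    intro j _
    exact qsum_succ_zmod q _
  apply pow_mul_eq_pow_mul hq2 hA hB
  rw [pow_add, hnat]
  ring

/-- Among the alternating-sum characters, only the Steinberg character has degree
`q^(n(n-1)/2)`. -/
theorem eq_ones_of_degree [Fintype F] (ν : Fin n → ℕ) (hmono : Monotone ν)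
    (hsum : ∑ i, ν i = n)
    (hdeg : unipotentCharacterGL n F ν 1 = (Fintype.card F : ℂ) ^ (n * (n - 1) / 2)) :
    ν = fun _ => 1 := by
  have h1 := degree_exponent ν hmono hsum hdeg
  have h2 := degree_exponent (F := F) (n := n) (fun _ => 1) monotone_const (by simp)
    steinberg_degree
  rw [h1] at h2
  set w : Fin n → ℕ := fun i => (Finset.univ.filter (fun j : Fin n => i < j)).card with hw
  have h3 : ∑ i, w i * ν i = ∑ i, w i := by
    have e1 : ∑ i : Fin n, (ν i + i.val) * w i = ∑ i, w i * ν i + ∑ i : Fin n, i.val * w i := by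
      rw [← Finset.sum_add_distrib]
      apply Finset.sum_congr rfl
      intro i _
      ring
    have e2 : ∑ i : Fin n, (1 + i.val) * w i = ∑ i, w i + ∑ i : Fin n, i.val * w i := by
      rw [← Finset.sum_add_distrib]
      apply Finset.sum_congr rfl
      intro i _
      ring
    rw [e1, e2] at h2
    omega
  have hwlt : ∀ i j : Fin n, i < j → w j < w i := by
    intro i j hij
    apply Finset.card_lt_card
    rw [Finset.ssubset_iff_of_subset]
    · refine ⟨j, ?_, ?_⟩
      · rw [Finset.mem_filter]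
        exact ⟨Finset.mem_univ _, hij⟩
      · rw [Finset.mem_filter]
        exact fun h => lt_irrefl _ h.2
    · intro k hk
      rw [Finset.mem_filter] at hk ⊢
      exact ⟨hk.1, lt_trans hij hk.2⟩
  have hconst := const_of_weighted_sum w ν hwlt hmono hsum h3
  by_cases hn : n = 0
  · subst hn
    funext i
    exact i.elim0
  have hall : ∀ i : Fin n, ν i = ν ⟨0, Nat.pos_of_ne_zero hn⟩ := by
    intro i
    by_cases hi : i = ⟨0, Nat.pos_of_ne_zero hn⟩
    · rw [hi]
    · symm
      apply hconst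
      rw [Fin.lt_def]
      show 0 < i.val
      rcases Nat.eq_zero_or_pos i.val with h | h
      · exact absurd (Fin.ext h) hi
      · exact h
  have hs : ∑ i : Fin n, ν i = n * ν ⟨0, Nat.pos_of_ne_zero hn⟩ := by
    rw [Finset.sum_congr rfl (fun i _ => hall i), Finset.sum_const, Finset.card_univ,
      Fintype.card_fin, smul_eq_mul]
  rw [hsum] at hs
  have h0 : ν ⟨0, Nat.pos_of_ne_zero hn⟩ = 1 := by
    have : n * 1 = n * ν ⟨0, Nat.pos_of_ne_zero hn⟩ := by rw [mul_one]; exact hs
    exact (Nat.eq_of_mul_eq_mul_left (Nat.pos_of_ne_zero hn) this).symm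
  funext i
  rw [hall i, h0]

end Cfsg.Agent.Helper12.Stein
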