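import Mathlib
import Cfsg.Prelude.Def_LinearParabolics

/-!
The parabolic subgroup of the composition `(1, …, 1)` is the Borel subgroup.
-/

set_option autoImplicit false

namespace Cfsg.Agent.Helper12.Stein

open Cfsg Finset
open scoped MatrixGroups

variable {F : Type*} [Field F] {n : ℕ}

theorem compLabel_ones (i : Fin n) : compLabel (fun _ : Fin n => 1) i = i.val := by
  unfold compLabel
  have h1 : ∀ j : Fin n, (∑ k ∈ Finset.univ.filter (fun k : Fin n => k ≤ j), 1) = j.val + 1 := by
    intro j
    rw [Finset.sum_const, smul_eq_mul, mul_one]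
    have : Finset.univ.filter (fun k : Fin n => k ≤ j) = Finset.Iic j := by
      ext k
      simp
    rw [this, Fin.card_Iic]
  simp only [h1]
  have h2 : Finset.univ.filter (fun j : Fin n => j.val + 1 ≤ i.val) = Finset.Iio i := by
    ext j
    simp only [Finset.mem_filter, Finset.mem_univ, true_and, Finset.mem_Iio, Fin.lt_def]
    omega
  rw [h2, Fin.card_Iio]

theorem parabolicGL_ones : parabolicGL n F (fun _ => 1) = upperTriangularGL n F := by
  ext g
  show (g : Matrix (Fin n) (Fin n) F).BlockTriangular (compLabel (fun _ : Fin n => 1)) ↔
    (g : Matrix (Fin n) (Fin n) F).BlockTriangular id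
  constructor
  · intro h i j hij
    apply h
    rw [compLabel_ones, compLabel_ones]
    exact hij
  · intro h i j hij
    apply h
    rw [compLabel_ones, compLabel_ones] at hij
    exact hij

end Cfsg.Agent.Helper12.Stein
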