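import Mathlib
import Cfsg.Agent.Helper12.GGUniJ
import Cfsg.Agent.Helper12.SteinP
import Cfsg.Agent.Helper12.SteinQ
import Cfsg.Agent.Helper12.SteinR
import Cfsg.Agent.Helper12.SteinL
import Cfsg.Agent.S0963
import Cfsg.Agent.Helper24.DegreeRatio
import Cfsg.Agent.Helper24.DefectZero
import Cfsg.Agent.Helper24.CliffordSurj
import Cfsg.Agent.Helper8.CliffordAb

/-!
The Steinberg character is the only irreducible character of `SL_n(q)` of `p`-defect zero.
-/

set_option autoImplicit false

namespace Cfsg.Agent.Helper12.BlkSL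

open Cfsg Matrix Cfsg.Agent.Helper12.Stein Cfsg.Agent.Helper12.GG
open scoped MatrixGroups

universe u

variable {F : Type u} [Field F] {n : ℕ}

theorem toGL_range_normal :
    (Matrix.SpecialLinearGroup.toGL :
      Matrix.SpecialLinearGroup (Fin n) F →* GL (Fin n) F).range.Normal := by
  constructor
  rintro _ ⟨x, rfl⟩ g
  have hdet : (g * Matrix.SpecialLinearGroup.toGL x * g⁻¹ : GL (Fin n) F).val.det = 1 := by
    have h1 : Matrix.GeneralLinearGroup.det (g * Matrix.SpecialLinearGroup.toGL x * g⁻¹) =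
        Matrix.GeneralLinearGroup.det (Matrix.SpecialLinearGroup.toGL x) := by
      rw [map_mul, map_mul, map_inv, mul_comm, ← mul_assoc, inv_mul_cancel, one_mul]
    have h2 := congrArg Units.val h1
    rw [Matrix.GeneralLinearGroup.val_det_apply, Matrix.GeneralLinearGroup.val_det_apply] at h2
    rw [h2]
    exact x.2
  refine ⟨⟨_, hdet⟩, ?_⟩
  apply Units.ext
  rfl

/-- The Steinberg character is the only irreducible character of `SL_n(q)` whose degree is
divisible by `q^(n(n-1)/2)`. -/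
theorem defect_zero_unique [Fintype F] [DecidableEq F] (p : ℕ) [Fact p.Prime] [CharP F p]
    (hn : 0 < n) (χ : Matrix.SpecialLinearGroup (Fin n) F → ℂ)
    (hχ : IsIrrCharacter (Matrix.SpecialLinearGroup (Fin n) F) χ) (d : ℕ) (hd : χ 1 = d)
    (hdiv : Fintype.card F ^ (n * (n - 1) / 2) ∣ d) :
    χ = fun s => unipotentCharacterGL n F (fun _ => 1) (Matrix.SpecialLinearGroup.toGL s) := by
  classical
  have hp : p.Prime := Fact.out
  set ι : Matrix.SpecialLinearGroup (Fin n) F →* GL (Fin n) F :=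
    Matrix.SpecialLinearGroup.toGL with hι
  set N : Subgroup (GL (Fin n) F) := ι.range with hN
  have hNn : N.Normal := toGL_range_normal
  have : Fintype N := Fintype.ofFinite _
  have : Fintype (IrrCharacter (GL (Fin n) F)) := Fintype.ofFinite _
  have : Fintype (Matrix.SpecialLinearGroup (Fin n) F) := Fintype.ofFinite _
  let e : Matrix.SpecialLinearGroup (Fin n) F ≃* N :=
    MonoidHom.ofInjective Matrix.SpecialLinearGroup.toGL_injective
  set ϑ : N → ℂ := fun x => χ (e.symm x) with hϑdef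
  have hϑ : IsIrrCharacter N ϑ :=
    Cfsg.Agent.Helper8.isIrrCharacter_comp_surjective e.symm.toMonoidHom e.symm.surjective hχ
  obtain ⟨ψ, hψ⟩ := Cfsg.Agent.S0963.exists_irr_over N ⟨ϑ, hϑ⟩
  obtain ⟨k, hk, _⟩ := Cfsg.Agent.Helper24.degree_ratio_dvd_index N (ψ : GL (Fin n) F → ℂ) ψ.2
    ϑ hϑ hψ
  have hϑ1 : ϑ 1 = d := by
    show χ (e.symm 1) = d
    rw [map_one, hd]
  rw [hϑ1] at hk
  have hk' : (ψ : GL (Fin n) F → ℂ) 1 = ((k * d : ℕ) : ℂ) := by
    rw [hk]
    push_cast
    rfl
  set q := Fintype.card F with hq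
  set a := (Nat.card (GL (Fin n) F)).factorization p with ha
  have hpa : p ^ a = q ^ (n * (n - 1) / 2) := by
    have hG := Cfsg.Agent.S0263.result (F := F) rfl p n (default : Sylow p (GL (Fin n) F))
    rw [Sylow.card_eq_multiplicity] at hG
    exact hG
  have hdvd1 : p ^ a ∣ Nat.card (GL (Fin n) F) := Nat.ordProj_dvd _ _
  have hdvd2 : ¬ p ^ (a + 1) ∣ Nat.card (GL (Fin n) F) :=
    Nat.pow_succ_factorization_not_dvd Nat.card_pos.ne' hp
  have hdeg : p ^ a ∣ k * d := by
    rw [hpa]
    exact Dvd.dvd.mul_left hdiv k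
  have hvan : ∀ u ∈ unitri n F, u ≠ 1 → (ψ : GL (Fin n) F → ℂ) u = 0 := by
    intro u hu hu1
    exact Cfsg.Agent.Helper24.irr_eq_zero_of_defect_zero ψ p a (k * d) hp hdvd1 hdvd2 hk' hdeg u
      (dvd_orderOf_of_mem_unitri p hu hu1)
  obtain ⟨hψ1, α, hα⟩ := classInner_borel_ne_zero hn (ψ : GL (Fin n) F → ℂ) ψ.2 hvan
  -- the twisted character
  set χ' : GL (Fin n) F → ℂ :=
    fun g => ((α (Matrix.GeneralLinearGroup.det g) : ℂˣ) : ℂ) * (ψ : GL (Fin n) F → ℂ) g with hχ'
  have hχ'irr : IsIrrCharacter (GL (Fin n) F) χ' :=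
    Cfsg.Agent.Helper8.isIrrCharacter_linear_mul (α.comp Matrix.GeneralLinearGroup.det) ψ.2
  rw [← parabolicGL_ones] at hα
  obtain ⟨ν, hmono, hsum, hν⟩ := unipotent_of_constituent (fun _ => 1) (by simp) χ' hχ'irr hα
  -- the degree
  have hcardU : Nat.card (unitri n F) = q ^ (n * (n - 1) / 2) := by
    apply Nat.dvd_antisymm (card_unitri_dvd p)
    rw [hk'] at hψ1
    have h1 : k * d = Nat.card (unitri n F) := by exact_mod_cast hψ1
    rw [← h1]
    exact Dvd.dvd.mul_left hdiv k
  have hχ'1 : χ' 1 = (q : ℂ) ^ (n * (n - 1) / 2) := by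
    rw [hχ']
    simp only
    rw [map_one, map_one, Units.val_one, one_mul, hψ1, hcardU]
    push_cast
    rfl
  rw [hν] at hχ'1
  have hν1 := eq_ones_of_degree ν hmono hsum hχ'1
  rw [hν1] at hν
  -- restriction to SL
  have hres : ∀ s : Matrix.SpecialLinearGroup (Fin n) F,
      (ψ : GL (Fin n) F → ℂ) (ι s) = unipotentCharacterGL n F (fun _ => 1) (ι s) := by
    intro s
    have h1 := congrFun hν (ι s)
    rw [hχ'] at h1
    simp only at h1
    have hdet : Matrix.GeneralLinearGroup.det (ι s) = 1 := by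
      apply Units.ext
      rw [Matrix.GeneralLinearGroup.val_det_apply, Units.val_one]
      exact s.2
    rw [hdet, map_one, Units.val_one, one_mul] at h1
    exact h1
  have hSt := isIrrCharacter_unipotent_SL (F := F) hn (fun _ => 1) monotone_const (by simp)
  have hinner : classInner (fun s : Matrix.SpecialLinearGroup (Fin n) F =>
      unipotentCharacterGL n F (fun _ => 1) (Matrix.SpecialLinearGroup.toGL s)) χ ≠ 0 := by
    have h1 := Cfsg.Agent.Helper24.classInner_comp_mulEquiv e
      (fun x : N => (ψ : GL (Fin n) F → ℂ) x) ϑ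
    have h2 : (fun s : Matrix.SpecialLinearGroup (Fin n) F => ϑ (e s)) = χ := by
      funext s
      show χ (e.symm (e s)) = χ s
      rw [MulEquiv.symm_apply_apply]
    have h3 : (fun s : Matrix.SpecialLinearGroup (Fin n) F =>
        (ψ : GL (Fin n) F → ℂ) ((e s : N) : GL (Fin n) F)) =
        fun s => unipotentCharacterGL n F (fun _ => 1) (Matrix.SpecialLinearGroup.toGL s) := by
      funext s
      exact hres s
    rw [h2, h3] at h1
    rw [h1]
    exact hψ
  rw [Cfsg.Agent.Helper23.classInner_irrCharacter _ _ hSt hχ] at hinner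
  by_contra hcon
  apply hinner
  rw [if_neg]
  intro h
  exact hcon h.symm

end Cfsg.Agent.Helper12.BlkSL
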