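import Mathlib
import Cfsg.Agent.Helper12.BlkSLH
import Cfsg.Agent.Helper12.BlkSLG
import Cfsg.Agent.S0969
import Cfsg.Agent.S0908
import Cfsg.Agent.S0931
import Cfsg.Agent.Helper5.BlockBasic
import Cfsg.Agent.Helper5.DefectGroups2

/-!
The `p`-blocks of `SL_n(q)` in the defining characteristic: exactly one block of defect zero
(that of the Steinberg character) and `|Z|` blocks of full defect.
-/

set_option autoImplicit false

namespace Cfsg.Agent.Helper12.BlkSL

open Cfsg Matrix Cfsg.Agent.Helper12.Stein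
open scoped MatrixGroups

universe u

variable {F : Type u} [Field F] {n : ℕ}

theorem charDegree_of_natCast {G : Type*} [Group G] (χ : G → ℂ) (d : ℕ) (h : χ 1 = d) :
    charDegree χ = d := by
  rw [charDegree, h, Complex.natCast_re, Nat.floor_natCast]

/-- The Steinberg character of `SL_n(F)`. -/
noncomputable def steinSL [Fintype F] (hn : 0 < n) :
    IrrCharacter (Matrix.SpecialLinearGroup (Fin n) F) :=
  ⟨fun s => unipotentCharacterGL n F (fun _ => 1) (Matrix.SpecialLinearGroup.toGL s),
    isIrrCharacter_unipotent_SL hn (fun _ => 1) monotone_const (by simp)⟩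

theorem pow_factorization_SL [Fintype F] (p : ℕ) [Fact p.Prime] [CharP F p] (hn : 0 < n) :
    p ^ (Nat.card (Matrix.SpecialLinearGroup (Fin n) F)).factorization p =
      Fintype.card F ^ (n * (n - 1) / 2) := by
  classical
  rw [factorization_card_SL p hn]
  have hG := Cfsg.Agent.S0263.result (F := F) rfl p n (default : Sylow p (GL (Fin n) F))
  rw [Sylow.card_eq_multiplicity] at hG
  exact hG

theorem charDegree_steinSL [Fintype F] (hn : 0 < n) :
    charDegree ((steinSL (F := F) hn : IrrCharacter (Matrix.SpecialLinearGroup (Fin n) F)) :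
      Matrix.SpecialLinearGroup (Fin n) F → ℂ) = Fintype.card F ^ (n * (n - 1) / 2) := by
  apply charDegree_of_natCast
  show unipotentCharacterGL n F (fun _ => 1) (Matrix.SpecialLinearGroup.toGL 1) = _
  rw [map_one, steinberg_degree]
  push_cast
  rfl

theorem blockDefect_steinSL [Fintype F] (p : ℕ) [Fact p.Prime] [CharP F p] (hn : 0 < n)
    (M : Ideal AlgInt) (hM : IsPModular p M) :
    blockDefect p (blockOf M ((steinSL (F := F) hn :
      IrrCharacter (Matrix.SpecialLinearGroup (Fin n) F)) :
        Matrix.SpecialLinearGroup (Fin n) F → ℂ)) = 0 := by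
  classical
  have hp : p.Prime := Fact.out
  have hdeg : (charDegree ((steinSL (F := F) hn :
      IrrCharacter (Matrix.SpecialLinearGroup (Fin n) F)) :
        Matrix.SpecialLinearGroup (Fin n) F → ℂ)).factorization p =
      (⊥ : Subgroup (Matrix.SpecialLinearGroup (Fin n) F)).index.factorization p := by
    rw [charDegree_steinSL, Subgroup.index_bot, ← pow_factorization_SL p hn,
      Nat.Prime.factorization_pow hp, Finsupp.single_eq_same]
  have h1 := (Cfsg.Agent.S0969.result p M hM (⊥ : Subgroup (Matrix.SpecialLinearGroup (Fin n) F))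
    (IsPGroup.of_bot) bot_le (steinSL hn) hdeg).1
  have h2 := Cfsg.Agent.S0908.result p M hM _ ⟨steinSL hn, rfl⟩ _ h1
  rw [Subgroup.card_bot] at h2
  by_contra h0
  have : 1 < p ^ blockDefect p (blockOf M ((steinSL (F := F) hn :
      IrrCharacter (Matrix.SpecialLinearGroup (Fin n) F)) :
        Matrix.SpecialLinearGroup (Fin n) F → ℂ)) := Nat.one_lt_pow h0 hp.one_lt
  omega

theorem block_eq_of_defect_zero [Fintype F] [DecidableEq F] (p : ℕ) [Fact p.Prime] [CharP F p]
    (hn : 0 < n) (M : Ideal AlgInt) (hM : IsPModular p M)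
    (B : Set (IrrCharacter (Matrix.SpecialLinearGroup (Fin n) F))) (hB : IsPBlock M B)
    (h0 : blockDefect p B = 0) :
    B = blockOf M ((steinSL (F := F) hn : IrrCharacter (Matrix.SpecialLinearGroup (Fin n) F)) :
        Matrix.SpecialLinearGroup (Fin n) F → ℂ) := by
  have hp : p.Prime := Fact.out
  have hMp := Cfsg.Agent.Helper5.Loc.isPrime_of_isPModular hM
  obtain ⟨χ₀, rfl⟩ := hB
  have hmem : χ₀ ∈ blockOf M (χ₀ : Matrix.SpecialLinearGroup (Fin n) F → ℂ) :=
    Cfsg.Agent.Helper5.CC.mem_blockOf_self hMp χ₀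
  obtain ⟨d, hdpos, hd⟩ := Cfsg.Agent.Helper24.isIrrCharacter_one χ₀.2
  have hcd := charDegree_of_natCast _ d hd
  unfold blockDefect at h0
  have h1 : (Nat.card (Matrix.SpecialLinearGroup (Fin n) F)).factorization p ≤
      (charDegree (χ₀ : Matrix.SpecialLinearGroup (Fin n) F → ℂ)).factorization p := by
    have h2 : sInf ((fun χ : IrrCharacter (Matrix.SpecialLinearGroup (Fin n) F) =>
        (charDegree (χ : Matrix.SpecialLinearGroup (Fin n) F → ℂ)).factorization p) ''
          blockOf M (χ₀ : Matrix.SpecialLinearGroup (Fin n) F → ℂ)) ≤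
        (charDegree (χ₀ : Matrix.SpecialLinearGroup (Fin n) F → ℂ)).factorization p :=
      Nat.sInf_le ⟨χ₀, hmem, rfl⟩
    omega
  rw [hcd] at h1
  have h3 : p ^ (Nat.card (Matrix.SpecialLinearGroup (Fin n) F)).factorization p ∣ d :=
    (Nat.Prime.pow_dvd_iff_le_factorization hp hdpos.ne').mpr h1
  rw [pow_factorization_SL p hn] at h3
  have h4 := defect_zero_unique p hn (χ₀ : Matrix.SpecialLinearGroup (Fin n) F → ℂ) χ₀.2 d hd h3
  have h5 : χ₀ = steinSL hn := Subtype.ext h4
  rw [h5]

theorem card_defect_zero_blocks [Fintype F] [DecidableEq F] (p : ℕ) [Fact p.Prime] [CharP F p]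
    (hn : 0 < n) (M : Ideal AlgInt) (hM : IsPModular p M) :
    Nat.card {B : Set (IrrCharacter (Matrix.SpecialLinearGroup (Fin n) F)) //
      IsPBlock M B ∧ blockDefect p B = 0} = 1 := by
  rw [Nat.card_eq_one_iff_unique]
  constructor
  · constructor
    rintro ⟨B, hB, h0⟩ ⟨B', hB', h0'⟩
    apply Subtype.ext
    show B = B'
    rw [block_eq_of_defect_zero p hn M hM B hB h0, block_eq_of_defect_zero p hn M hM B' hB' h0']
  · exact ⟨⟨_, ⟨steinSL hn, rfl⟩, blockDefect_steinSL p hn M hM⟩⟩

end Cfsg.Agent.Helper12.BlkSL
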