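import Mathlib
import Cfsg.Agent.Helper12.BlkSLI

/-!
The number of `p`-blocks of `SL_n(q)` in the defining characteristic is `|Z| + 1`.
-/

set_option autoImplicit false

namespace Cfsg.Agent.Helper12.BlkSL

open Cfsg Matrix Cfsg.Agent.Helper12.Stein
open scoped MatrixGroups

universe u

variable {F : Type u} [Field F] {n : ℕ}

/-- A block of full defect has every Sylow `p`-subgroup as a defect group. -/
theorem isDefectGroup_sylow_of_full {G : Type u} [Group G] [Finite G] (p : ℕ) [Fact p.Prime]
    (M : Ideal AlgInt) (hM : IsPModular p M) (B : Set (IrrCharacter G)) (hB : IsPBlock M B)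
    (hfull : blockDefect p B = (Nat.card G).factorization p) (P : Sylow p G) :
    IsDefectGroup p M B (P : Subgroup G) := by
  classical
  have : Fintype G := Fintype.ofFinite G
  have : Fintype (IrrCharacter G) := Fintype.ofFinite _
  obtain ⟨D, hD⟩ := Cfsg.Agent.S0931.exists_defectGroup p M hM B hB
  have hcard := Cfsg.Agent.S0908.result p M hM B hB D hD
  rw [hfull] at hcard
  let Q : Sylow p G := Sylow.ofCard D hcard
  obtain ⟨g, hg⟩ := MulAction.exists_smul_eq G Q P
  have h1 := Cfsg.Agent.Helper5.CC.isDefectGroup_map_cj hD g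
  have h2 : D.map (Cfsg.Agent.Helper14.cj g) = (P : Subgroup G) := by
    rw [← hg]
    rfl
  rw [h2] at h1
  exact h1

theorem card_blocks [Fintype F] [DecidableEq F] (p : ℕ) [Fact p.Prime] [CharP F p]
    (hn : 2 ≤ n) (M : Ideal AlgInt) (hM : IsPModular p M) :
    Nat.card {B : Set (IrrCharacter (Matrix.SpecialLinearGroup (Fin n) F)) // IsPBlock M B} =
      Nat.card (Subgroup.center (Matrix.SpecialLinearGroup (Fin n) F)) + 1 := by
  classical
  have hp : p.Prime := Fact.out
  have hn0 : 0 < n := by omega
  have : Fintype (IrrCharacter (Matrix.SpecialLinearGroup (Fin n) F)) := Fintype.ofFinite _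
  set a := (Nat.card (Matrix.SpecialLinearGroup (Fin n) F)).factorization p with ha
  have ha0 : a ≠ 0 := by
    intro h0
    have h1 := pow_factorization_SL (F := F) p hn0
    rw [← ha, h0, pow_zero] at h1
    have hq : 1 < Fintype.card F := Fintype.one_lt_card
    have hN : n * (n - 1) / 2 ≠ 0 := by
      have : 2 ≤ n * (n - 1) := by
        have h4 : 1 ≤ n - 1 := by omega
        nlinarith
      omega
    have := Nat.one_lt_pow hN hq
    omega
  obtain ⟨P⟩ : Nonempty (Sylow p (Matrix.SpecialLinearGroup (Fin n) F)) := inferInstance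
  have h1 := card_blocks_sylow p hn M hM P
  have h2 := card_defect_zero_blocks (F := F) p hn0 M hM
  rw [← h1, ← h2, ← Nat.card_sum]
  apply Nat.card_congr
  refine Equiv.ofBijective (fun B =>
    if h : blockDefect p B.1 = 0 then Sum.inr ⟨B.1, B.2, h⟩
    else Sum.inl ⟨B.1, B.2, isDefectGroup_sylow_of_full p M hM B.1 B.2
      ((blockDefect_eq_zero_or_full p hn0 M hM B.1 B.2).resolve_left h) P⟩) ⟨?_, ?_⟩
  · intro B B' hBB'
    apply Subtype.ext
    by_cases h : blockDefect p B.1 = 0
    · by_cases h' : blockDefect p B'.1 = 0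
      · simp only [dif_pos h, dif_pos h'] at hBB'
        have := Sum.inr.inj hBB'
        exact Subtype.mk.inj this
      · simp only [dif_pos h, dif_neg h'] at hBB'
        exact absurd hBB' (by simp)
    · by_cases h' : blockDefect p B'.1 = 0
      · simp only [dif_neg h, dif_pos h'] at hBB'
        exact absurd hBB' (by simp)
      · simp only [dif_neg h, dif_neg h'] at hBB'
        have := Sum.inl.inj hBB'
        exact Subtype.mk.inj this
  · rintro (⟨B, hB, hD⟩ | ⟨B, hB, h0⟩)
    · have hne : ¬ blockDefect p B = 0 := by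
        intro h0
        have hcard := Cfsg.Agent.S0908.result p M hM B hB _ hD
        rw [h0, pow_zero] at hcard
        have hP : Nat.card (P : Subgroup (Matrix.SpecialLinearGroup (Fin n) F)) = p ^ a :=
          Sylow.card_eq_multiplicity P
        rw [hcard] at hP
        have := Nat.one_lt_pow ha0 hp.one_lt
        omega
      refine ⟨⟨B, hB⟩, ?_⟩
      simp only [dif_neg hne]
    · refine ⟨⟨B, hB⟩, ?_⟩
      simp only [dif_pos h0]

end Cfsg.Agent.Helper12.BlkSL
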