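import Mathlib
import Cfsg.Agent.Helper12.BlockSL2
import Cfsg.Agent.Helper12.PSL2Char
import Cfsg.Agent.Helper12.SL2SylowTwo
import Cfsg.Agent.Helper24.Linear
import Cfsg.Agent.Helper24.Abelian

set_option autoImplicit false

/-! The three `p`-blocks of `SL₂(q)`, `q` odd, in the defining characteristic. -/

namespace Cfsg.Agent.Helper12

open Cfsg Cfsg.Agent.Helper24 Cfsg.Agent.Helper5 Cfsg.Agent.Helper5.Loc Cfsg.Agent.Helper5.CC

variable {F : Type*} [Field F]

local notation "S2" => Matrix.SpecialLinearGroup (Fin 2) F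
local notation "M2" => Matrix (Fin 2) (Fin 2) F

/-- The Steinberg block. -/
def blkSt (F : Type*) [Field F] [Fintype F] :
    Set (IrrCharacter (Matrix.SpecialLinearGroup (Fin 2) F)) :=
  {χ | (χ : Matrix.SpecialLinearGroup (Fin 2) F → ℂ) 1 = (Fintype.card F : ℂ)}

/-- The principal block. -/
def blkPlus (F : Type*) [Field F] [Fintype F] :
    Set (IrrCharacter (Matrix.SpecialLinearGroup (Fin 2) F)) :=
  {χ | (χ : Matrix.SpecialLinearGroup (Fin 2) F → ℂ) (-1) =
      (χ : Matrix.SpecialLinearGroup (Fin 2) F → ℂ) 1 ∧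
    (χ : Matrix.SpecialLinearGroup (Fin 2) F → ℂ) 1 ≠ (Fintype.card F : ℂ)}

/-- The faithful block. -/
def blkMinus (F : Type*) [Field F] [Fintype F] :
    Set (IrrCharacter (Matrix.SpecialLinearGroup (Fin 2) F)) :=
  {χ | (χ : Matrix.SpecialLinearGroup (Fin 2) F → ℂ) (-1) =
      -(χ : Matrix.SpecialLinearGroup (Fin 2) F → ℂ) 1}

section

variable [Fintype F] (p : ℕ) [Fact p.Prime] [CharP F p]

include p in
theorem odd_card_of_ne_two (hp2 : p ≠ 2) : Odd (Fintype.card F) := by
  have hp : p.Prime := Fact.out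
  obtain ⟨n, _, hn⟩ := FiniteField.card F p
  rw [hn]
  exact (hp.odd_of_ne_two hp2).pow

include p in
theorem two_ne_zero_of_char_ne_two (hp2 : p ≠ 2) : (2 : F) ≠ 0 := by
  have hp : p.Prime := Fact.out
  intro h
  have h' : ((2 : ℕ) : F) = 0 := by exact_mod_cast h
  have := (CharP.cast_eq_zero_iff F p 2).1 h'
  exact hp2 ((Nat.prime_dvd_prime_iff_eq hp Nat.prime_two).1 this)

include p in
theorem char_dvd_card : p ∣ Fintype.card F := by
  obtain ⟨n, _, hn⟩ := FiniteField.card F p
  rw [hn]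
  exact dvd_pow_self p n.ne_zero

/-- The Steinberg character is the unique irreducible character of degree `q`. -/
theorem eq_stS_of_apply_one [DecidableEq F] (hp2 : p ≠ 2) (χ : IrrCharacter S2)
    (h : (χ : S2 → ℂ) 1 = (Fintype.card F : ℂ)) : χ = stS := by
  apply Subtype.ext
  apply eq_stS_of_dvd_degree_odd p (odd_card_of_ne_two p hp2) χ.1 χ.2
  rw [(charDegree_eq_iff χ (Fintype.card F)).2 h]
  exact char_dvd_card p

theorem not_dvd_irrDeg_of_ne [DecidableEq F] (hp2 : p ≠ 2) (χ : IrrCharacter S2)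
    (h : (χ : S2 → ℂ) 1 ≠ (Fintype.card F : ℂ)) : ¬ p ∣ irrDeg χ := by
  intro hdvd
  apply h
  have : χ = stS := by
    apply Subtype.ext
    apply eq_stS_of_dvd_degree_odd p (odd_card_of_ne_two p hp2) χ.1 χ.2
    rw [Cfsg.Agent.Helper12.charDegree_eq_irrDeg]
    exact hdvd
  rw [this, stS_one]

theorem blkSt_eq [DecidableEq F] (hp2 : p ≠ 2) : blkSt F = {stS} := by
  ext χ
  constructor
  · intro h
    exact eq_stS_of_apply_one p hp2 χ h
  · intro h
    rw [Set.mem_singleton_iff] at h
    rw [h]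
    exact stS_one

theorem stS_neg_one [DecidableEq F] :
    (stS (F := F) : S2 → ℂ) (-1) = (Fintype.card F : ℂ) := by
  rw [stS_central (-1) sl2_neg_one_mem_center, stS_one]

theorem card_ne_neg_card : (Fintype.card F : ℂ) ≠ -(Fintype.card F : ℂ) := by
  intro h
  have h0 : (Fintype.card F : ℂ) = 0 := by linear_combination h / 2
  have : Fintype.card F ≠ 0 := Fintype.card_ne_zero
  exact this (by exact_mod_cast h0)

/-- The block of the Steinberg character. -/
theorem blockOf_stS [DecidableEq F] (hp2 : p ≠ 2) (M : Ideal AlgInt) (hM : IsPModular p M) :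
    blockOf M ((stS (F := F) : IrrCharacter S2) : S2 → ℂ) = blkSt F := by
  have hp : p.Prime := Fact.out
  rw [blkSt_eq p hp2]
  apply (Cfsg.Agent.S0914.result p M hM (stS (F := F))).1
  rw [(charDegree_eq_iff stS (Fintype.card F)).2 stS_one, Cfsg.Agent.S2301.card_sl2]
  have hq : 1 < Fintype.card F := Fintype.one_lt_card
  have e : (Fintype.card F + 1) * ((Fintype.card F - 1) * Fintype.card F) / Fintype.card F =
      (Fintype.card F + 1) * (Fintype.card F - 1) := by
    rw [← mul_assoc]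
    exact Nat.mul_div_cancel _ (by omega)
  rw [e]
  have hpq := char_dvd_card (F := F) p
  intro hdvd
  rcases (Nat.Prime.dvd_mul hp).1 hdvd with h | h
  · have := (Nat.dvd_add_right hpq).1 h
    exact hp.one_lt.ne' (Nat.dvd_one.1 this)
  · have h' : p ∣ (Fintype.card F - 1) + 1 := by
      rw [Nat.sub_add_cancel (by omega)]; exact hpq
    have := (Nat.dvd_add_right h).1 h'
    exact hp.one_lt.ne' (Nat.dvd_one.1 this)

/-- Two characters of degree prime to `p` with the same central sign lie in the same block. -/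
theorem sameBlock_of_sign [DecidableEq F] (hp2 : p ≠ 2) (M : Ideal AlgInt)
    (hM : IsPModular p M) (χ ψ : IrrCharacter S2) (hχ : ¬ p ∣ irrDeg χ) (hψ : ¬ p ∣ irrDeg ψ)
    (hs : (χ : S2 → ℂ) (-1) / (χ : S2 → ℂ) 1 = (ψ : S2 → ℂ) (-1) / (ψ : S2 → ℂ) 1) :
    SameBlock M (χ : S2 → ℂ) (ψ : S2 → ℂ) := by
  have hMp := isPrime_of_isPModular hM
  have : Fintype (IrrCharacter S2) := Fintype.ofFinite _
  apply sameBlock_of_regular hM χ ψ
  intro g hg
  by_cases hidx : p ∣ (Subgroup.centralizer ({g} : Set S2)).index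
  · exact li_sub hMp (centralChar_li_of_dvd_index hM χ g hχ hidx)
      (centralChar_li_of_dvd_index hM ψ g hψ hidx)
  · rcases eq_one_or_neg_one_of_regular p hp2 g hg hidx with h | h
    · rw [h, centralChar_of_mem_center _ (Subgroup.one_mem _),
        centralChar_of_mem_center _ (Subgroup.one_mem _), div_self (irr_one_ne_zero χ),
        div_self (irr_one_ne_zero ψ), sub_self]
      exact memLocalIdeal_zero hMp
    · rw [h, centralChar_of_mem_center _ sl2_neg_one_mem_center,
        centralChar_of_mem_center _ sl2_neg_one_mem_center, hs, sub_self]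
      exact memLocalIdeal_zero hMp

/-- Characters with different central signs lie in different blocks. -/
theorem not_sameBlock_of_sign (hp2 : p ≠ 2) (M : Ideal AlgInt)
    (hM : IsPModular p M) (χ ψ : IrrCharacter S2)
    (hχ : (χ : S2 → ℂ) (-1) = (χ : S2 → ℂ) 1) (hψ : (ψ : S2 → ℂ) (-1) = -(ψ : S2 → ℂ) 1) :
    ¬ SameBlock M (χ : S2 → ℂ) (ψ : S2 → ℂ) := by
  have hp : p.Prime := Fact.out
  intro h
  have h1 := h (-1)
  rw [centralChar_of_mem_center _ sl2_neg_one_mem_center,
    centralChar_of_mem_center _ sl2_neg_one_mem_center, hχ, hψ, div_self (irr_one_ne_zero χ),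
    neg_div, div_self (irr_one_ne_zero ψ)] at h1
  have e : (1 : ℂ) - -1 = ((2 : ℕ) : ℂ) := by norm_num
  rw [e, memLocalIdeal_natCast_iff hM] at h1
  exact hp2 ((Nat.prime_dvd_prime_iff_eq hp Nat.prime_two).1 h1)

/-- The trichotomy of irreducible characters. -/
theorem mem_blk_cases (χ : IrrCharacter S2) :
    χ ∈ blkSt F ∨ χ ∈ blkPlus F ∨ χ ∈ blkMinus F := by
  have hz2 : (-1 : S2) * (-1) = 1 := by rw [neg_mul_neg, one_mul]
  rcases irr_central_involution χ sl2_neg_one_mem_center hz2 with h | h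
  · by_cases h1 : (χ : S2 → ℂ) 1 = (Fintype.card F : ℂ)
    · left; exact h1
    · right; left; exact ⟨h, h1⟩
  · right; right; exact h

theorem stS_mem_blkSt [DecidableEq F] : stS ∈ blkSt F := stS_one

theorem stS_not_mem_blkPlus [DecidableEq F] : stS ∉ blkPlus F := fun h => h.2 stS_one

theorem stS_not_mem_blkMinus [DecidableEq F] : stS ∉ blkMinus F := by
  intro h
  have h' : (stS (F := F) : S2 → ℂ) (-1) = -(stS (F := F) : S2 → ℂ) 1 := h
  rw [stS_neg_one, stS_one] at h'
  exact card_ne_neg_card h'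

theorem trivIrr_mem_blkPlus : trivIrr S2 ∈ blkPlus F := by
  refine ⟨rfl, ?_⟩
  rw [trivIrr_apply]
  have hq : 1 < Fintype.card F := Fintype.one_lt_card
  intro h
  have : (1 : ℕ) = Fintype.card F := by exact_mod_cast h
  omega

theorem trivIrr_not_mem_blkMinus : trivIrr S2 ∉ blkMinus F := by
  intro h
  have h' : (trivIrr S2 : S2 → ℂ) (-1) = -(trivIrr S2 : S2 → ℂ) 1 := h
  rw [trivIrr_apply, trivIrr_apply] at h'
  norm_num at h'

/-- There is a faithful irreducible character. -/
theorem exists_mem_blkMinus (hp2 : p ≠ 2) : ∃ χ : IrrCharacter S2, χ ∈ blkMinus F := by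
  classical
  have : Fintype (IrrCharacter S2) := Fintype.ofFinite _
  by_contra hno
  push Not at hno
  have hz2 : (-1 : S2) * (-1) = 1 := by rw [neg_mul_neg, one_mul]
  have hall : ∀ χ : IrrCharacter S2, (χ : S2 → ℂ) (-1) = (χ : S2 → ℂ) 1 := by
    intro χ
    rcases irr_central_involution χ sl2_neg_one_mem_center hz2 with h | h
    · exact h
    · exact absurd h (hno χ)
  have hne : (-1 : S2) ≠ 1 := (sl2_one_ne_neg_one (two_ne_zero_of_char_ne_two p hp2)).symm
  have h0 := sum_irr_one_mul_eq_zero (G := S2) hne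
  have h1 : ∑ χ : IrrCharacter S2, (χ : S2 → ℂ) 1 * (χ : S2 → ℂ) (-1) =
      ((∑ χ : IrrCharacter S2, irrDeg χ ^ 2 : ℕ) : ℂ) := by
    push_cast
    refine Finset.sum_congr rfl fun χ _ => ?_
    rw [hall χ, irrDeg_spec χ, pow_two]
  rw [h1, sum_irrDeg_sq] at h0
  have : Nat.card S2 ≠ 0 := Nat.card_pos.ne'
  exact this (by exact_mod_cast h0)

/-- The block of a character in the principal family. -/
theorem blockOf_of_mem_blkPlus [DecidableEq F] (hp2 : p ≠ 2) (M : Ideal AlgInt)
    (hM : IsPModular p M) (χ : IrrCharacter S2) (hχ : χ ∈ blkPlus F) :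
    blockOf M (χ : S2 → ℂ) = blkPlus F := by
  have hMp := isPrime_of_isPModular hM
  ext ψ
  rw [mem_blockOf_iff]
  constructor
  · intro h
    rcases mem_blk_cases ψ with h1 | h1 | h1
    · exfalso
      have hψ := eq_stS_of_apply_one p hp2 ψ h1
      rw [hψ] at h
      have h2 : χ ∈ blockOf M ((stS (F := F) : IrrCharacter S2) : S2 → ℂ) :=
        mem_blockOf_iff.2 (sameBlock_symm h)
      rw [blockOf_stS p hp2 M hM] at h2
      exact hχ.2 h2
    · exact h1
    · exact absurd h (not_sameBlock_of_sign p hp2 M hM χ ψ hχ.1 h1)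
  · intro h
    apply sameBlock_of_sign p hp2 M hM χ ψ (not_dvd_irrDeg_of_ne p hp2 χ hχ.2)
      (not_dvd_irrDeg_of_ne p hp2 ψ h.2)
    rw [hχ.1, h.1, div_self (irr_one_ne_zero χ), div_self (irr_one_ne_zero ψ)]

theorem apply_one_ne_of_mem_blkMinus [DecidableEq F] (χ : IrrCharacter S2)
    (hχ : χ ∈ blkMinus F) : (χ : S2 → ℂ) 1 ≠ (Fintype.card F : ℂ) := by
  intro h1
  have hz2 : (-1 : S2) * (-1) = 1 := by rw [neg_mul_neg, one_mul]
  -- degree `q` forces a character trivial on the centre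
  have h' : (χ : S2 → ℂ) (-1) = -(χ : S2 → ℂ) 1 := hχ
  obtain ⟨p, hp⟩ := CharP.exists F
  have hpp : p.Prime := by
    rcases CharP.char_is_prime_or_zero F p with h | h
    · exact h
    · subst h
      have := CharP.charP_to_charZero F
      exact (not_finite F).elim
  have : Fact p.Prime := ⟨hpp⟩
  by_cases hp2 : p = 2
  · subst hp2
    have : (-1 : S2) = 1 := by
      apply Subtype.ext
      rw [sl2_neg_one_coe, Matrix.SpecialLinearGroup.coe_one]
      ext i j
      rw [Matrix.neg_apply]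
      exact CharTwo.neg_eq _
    rw [this] at h'
    have h0 : (χ : S2 → ℂ) 1 = 0 := by linear_combination h' / 2
    exact irr_one_ne_zero χ h0
  · have := eq_stS_of_apply_one p hp2 χ h1
    rw [this] at hχ
    exact stS_not_mem_blkMinus hχ

/-- The block of a faithful character. -/
theorem blockOf_of_mem_blkMinus [DecidableEq F] (hp2 : p ≠ 2) (M : Ideal AlgInt)
    (hM : IsPModular p M) (χ : IrrCharacter S2) (hχ : χ ∈ blkMinus F) :
    blockOf M (χ : S2 → ℂ) = blkMinus F := by
  have hMp := isPrime_of_isPModular hM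
  have hχ1 := apply_one_ne_of_mem_blkMinus χ hχ
  ext ψ
  rw [mem_blockOf_iff]
  constructor
  · intro h
    rcases mem_blk_cases ψ with h1 | h1 | h1
    · exfalso
      have hψ := eq_stS_of_apply_one p hp2 ψ h1
      rw [hψ] at h
      have h2 : χ ∈ blockOf M ((stS (F := F) : IrrCharacter S2) : S2 → ℂ) :=
        mem_blockOf_iff.2 (sameBlock_symm h)
      rw [blockOf_stS p hp2 M hM] at h2
      exact hχ1 h2
    · exact absurd (sameBlock_symm h) (not_sameBlock_of_sign p hp2 M hM ψ χ h1.1 hχ)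
    · exact h1
  · intro h
    have h' : (ψ : S2 → ℂ) (-1) = -(ψ : S2 → ℂ) 1 := h
    have hχ' : (χ : S2 → ℂ) (-1) = -(χ : S2 → ℂ) 1 := hχ
    apply sameBlock_of_sign p hp2 M hM χ ψ (not_dvd_irrDeg_of_ne p hp2 χ hχ1)
      (not_dvd_irrDeg_of_ne p hp2 ψ (apply_one_ne_of_mem_blkMinus ψ h))
    rw [hχ', h', neg_div, neg_div, div_self (irr_one_ne_zero χ), div_self (irr_one_ne_zero ψ)]

end

end Cfsg.Agent.Helper12
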