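import Mathlib
import Cfsg.Prelude.Def_BaumannBlocks
import Cfsg.Agent.Helper15.CL3

/-!
# Conjugates of members of the Chermak–Delgado lattice (for S3008, part 2)

`cj g H = g H g⁻¹`; members of the lattice (`Cfsg.IsCentralizerLarge`), maximal abelian members
(`MaxAb`), finite joins and meets of members.
-/

set_option autoImplicit false

namespace Cfsg.Agent.Helper12.CLN

open Subgroup Cfsg.Agent.Helper15

variable {P : Type*} [Group P]

/-- the conjugate subgroup `g H g⁻¹` -/
def cj (g : P) (H : Subgroup P) : Subgroup P := H.map (MulAut.conj g).toMonoidHom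

theorem mem_cj {g x : P} {H : Subgroup P} : x ∈ cj g H ↔ g⁻¹ * x * g ∈ H := by
  unfold cj
  constructor
  · rintro ⟨y, hy, rfl⟩
    have : g⁻¹ * (g * y * g⁻¹) * g = y := by group
    simpa [this] using hy
  · intro h
    refine ⟨g⁻¹ * x * g, h, ?_⟩
    show g * (g⁻¹ * x * g) * g⁻¹ = x
    group

theorem conj_mem_cj {g x : P} {H : Subgroup P} (hx : x ∈ H) : g * x * g⁻¹ ∈ cj g H := by
  rw [mem_cj]
  have : g⁻¹ * (g * x * g⁻¹) * g = x := by group
  rwa [this]

theorem cj_one (H : Subgroup P) : cj 1 H = H := by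
  ext x; rw [mem_cj]; simp

theorem cj_mul (g h : P) (H : Subgroup P) : cj (g * h) H = cj g (cj h H) := by
  ext x
  rw [mem_cj, mem_cj, mem_cj]
  have : (g * h)⁻¹ * x * (g * h) = h⁻¹ * (g⁻¹ * x * g) * h := by group
  rw [this]

theorem cj_inv_cj (g : P) (H : Subgroup P) : cj g⁻¹ (cj g H) = H := by
  rw [← cj_mul]; simp [cj_one]

theorem cj_cj_inv (g : P) (H : Subgroup P) : cj g (cj g⁻¹ H) = H := by
  rw [← cj_mul]; simp [cj_one]

theorem cj_mono {g : P} {H K : Subgroup P} (h : H ≤ K) : cj g H ≤ cj g K := by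
  intro x hx; rw [mem_cj] at hx ⊢; exact h hx

theorem cj_le_iff {g : P} {H K : Subgroup P} : cj g H ≤ cj g K ↔ H ≤ K := by
  refine ⟨fun h => ?_, cj_mono⟩
  have := cj_mono (g := g⁻¹) h
  rwa [cj_inv_cj, cj_inv_cj] at this

theorem cj_le_comm {g : P} {H K : Subgroup P} : cj g H ≤ K ↔ H ≤ cj g⁻¹ K := by
  constructor
  · intro h
    have := cj_mono (g := g⁻¹) h
    rwa [cj_inv_cj] at this
  · intro h
    have := cj_mono (g := g) h
    rwa [cj_cj_inv] at this

theorem cj_inf (g : P) (H K : Subgroup P) : cj g (H ⊓ K) = cj g H ⊓ cj g K := by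
  ext x; simp only [mem_cj, Subgroup.mem_inf]

theorem cj_sup (g : P) (H K : Subgroup P) : cj g (H ⊔ K) = cj g H ⊔ cj g K := by
  unfold cj; exact Subgroup.map_sup _ _ _

theorem cj_iInf {ι : Sort*} (g : P) (H : ι → Subgroup P) : cj g (⨅ i, H i) = ⨅ i, cj g (H i) := by
  ext x; simp only [mem_cj, Subgroup.mem_iInf]

theorem cj_iSup {ι : Sort*} (g : P) (H : ι → Subgroup P) : cj g (⨆ i, H i) = ⨆ i, cj g (H i) := by
  unfold cj; exact Subgroup.map_iSup _ _

theorem card_cj (g : P) (H : Subgroup P) : Nat.card (cj g H) = Nat.card H := by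
  unfold cj
  exact (Nat.card_congr (H.equivMapOfInjective _ (MulAut.conj g).injective).toEquiv).symm

theorem cz_cj (g : P) (H : Subgroup P) : cz (cj g H) = cj g (cz H) := by
  ext x
  rw [mem_cj, mem_cz_iff, mem_cz_iff]
  constructor
  · intro h y hy
    have h1 := h (g * y * g⁻¹) (conj_mem_cj hy)
    calc y * (g⁻¹ * x * g) = g⁻¹ * ((g * y * g⁻¹) * x) * g := by group
      _ = g⁻¹ * (x * (g * y * g⁻¹)) * g := by rw [h1]
      _ = g⁻¹ * x * g * y := by group
  · intro h y hy
    rw [mem_cj] at hy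
    have h1 := h _ hy
    calc y * x = g * ((g⁻¹ * y * g) * (g⁻¹ * x * g)) * g⁻¹ := by group
      _ = g * ((g⁻¹ * x * g) * (g⁻¹ * y * g)) * g⁻¹ := by rw [h1]
      _ = x * y := by group

theorem cj_eq_self_of_mem_normalizer {g : P} {H : Subgroup P}
    (hg : g ∈ Subgroup.normalizer (H : Set P)) : cj g H = H := by
  have := (Subgroup.mem_normalizer_iff_map_conj_eq (H := H)).mp hg
  unfold cj
  exact this

theorem mem_normalizer_of_cj_eq_self {g : P} {H : Subgroup P} (h : cj g H = H) :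
    g ∈ Subgroup.normalizer (H : Set P) := by
  rw [Subgroup.mem_normalizer_iff_map_conj_eq (H := H)]
  exact h

theorem le_normalizer_iff_cj {K H : Subgroup P} :
    K ≤ Subgroup.normalizer (H : Set P) ↔ ∀ k ∈ K, cj k H = H :=
  ⟨fun h k hk => cj_eq_self_of_mem_normalizer (h hk),
   fun h k hk => mem_normalizer_of_cj_eq_self (h k hk)⟩

/-- `cj g H = H` as soon as `cj g H ≤ H` in a finite group -/
theorem cj_eq_self_of_le [Finite P] {g : P} {H : Subgroup P} (h : cj g H ≤ H) : cj g H = H :=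
  eq_of_le_of_card_ge' h (le_of_eq (card_cj g H).symm)

theorem mem_cj_of_mem {g : P} {H : Subgroup P} (hg : g ∈ H) {x : P} : x ∈ cj g H ↔ x ∈ H := by
  rw [mem_cj]
  constructor
  · intro h
    have := H.mul_mem (H.mul_mem hg h) (H.inv_mem hg)
    have e : g * (g⁻¹ * x * g) * g⁻¹ = x := by group
    rwa [e] at this
  · intro h
    exact H.mul_mem (H.mul_mem (H.inv_mem hg) h) hg

theorem cj_le_of_mem {g : P} {H K : Subgroup P} (hHK : H ≤ K) (hg : g ∈ K) : cj g H ≤ K := by
  intro x hx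
  have : x ∈ cj g K := cj_mono hHK hx
  exact (mem_cj_of_mem hg).mp this

/-- membership in the Chermak–Delgado lattice is invariant under conjugation -/
theorem mem_cj_iff_large (g : P) {H : Subgroup P} (hH : Cfsg.IsCentralizerLarge H) :
    Cfsg.IsCentralizerLarge (cj g H) := by
  unfold Cfsg.IsCentralizerLarge at hH ⊢
  have h1 : Subgroup.centralizer ((cj g H : Subgroup P) : Set P) = cj g (cz H) := cz_cj g H
  rw [h1, card_cj, card_cj]
  exact hH

/-- abelian, in the form `H ≤ C(H)` -/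
theorem ab_cj (g : P) {H : Subgroup P} (hH : H ≤ cz H) : cj g H ≤ cz (cj g H) := by
  rw [cz_cj]; exact cj_mono hH

/-- a maximal abelian member of the Chermak–Delgado lattice -/
def MaxAb (B : Subgroup P) : Prop :=
  Cfsg.IsCentralizerLarge B ∧ B ≤ cz B ∧
    ∀ B' : Subgroup P, Cfsg.IsCentralizerLarge B' → B' ≤ cz B' → B ≤ B' → B' = B

theorem MaxAb.cj {B : Subgroup P} (hB : MaxAb B) (g : P) : MaxAb (cj g B) := by
  refine ⟨mem_cj_iff_large g hB.1, ab_cj g hB.2.1, ?_⟩
  intro B' h1 h2 h3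
  have h4 : B ≤ CLN.cj g⁻¹ B' := cj_le_comm.mp h3
  have h5 := hB.2.2 (CLN.cj g⁻¹ B') (mem_cj_iff_large g⁻¹ h1) (ab_cj g⁻¹ h2) h4
  rw [← h5, cj_cj_inv]

/-- finite meets of members are members -/
theorem large_iInf [Finite P] {ι : Type*} [Nonempty ι] (H : ι → Subgroup P)
    (h : ∀ i, Cfsg.IsCentralizerLarge (H i)) : Cfsg.IsCentralizerLarge (⨅ i, H i) := by
  have hcl : InfClosed {R : Subgroup P | Cfsg.IsCentralizerLarge R} := by
    intro a ha b hb
    exact (cd_lattice a b ha hb).2.1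
  have : sInf (Set.range H) ∈ {R : Subgroup P | Cfsg.IsCentralizerLarge R} := by
    apply hcl.sInf_mem_of_nonempty (Set.toFinite _) (Set.range_nonempty H)
    rintro _ ⟨i, rfl⟩
    exact h i
  rwa [sInf_range] at this

/-- finite joins of members are members -/
theorem large_iSup [Finite P] {ι : Type*} [Nonempty ι] (H : ι → Subgroup P)
    (h : ∀ i, Cfsg.IsCentralizerLarge (H i)) : Cfsg.IsCentralizerLarge (⨆ i, H i) := by
  have hcl : SupClosed {R : Subgroup P | Cfsg.IsCentralizerLarge R} := by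
    intro a ha b hb
    exact (cd_lattice a b ha hb).1
  have : sSup (Set.range H) ∈ {R : Subgroup P | Cfsg.IsCentralizerLarge R} := by
    apply hcl.sSup_mem_of_nonempty (Set.toFinite _) (Set.range_nonempty H)
    rintro _ ⟨i, rfl⟩
    exact h i
  rwa [sSup_range] at this

end Cfsg.Agent.Helper12.CLN
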