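import Mathlib
import Cfsg.Prelude.Def_BaumannBlocks
import Cfsg.Agent.Helper15.CL3
import Cfsg.Agent.Helper12.CLConj

/-!
# The replacement lemma for maximal abelian members of the Chermak–Delgado lattice

`B` a maximal abelian member, `A` an abelian subgroup with `BA = AB`, `W = ⟨B^a : a ∈ A⟩`,
`C = ⋂ B^a`.  Then `B' = (W ∩ A) C` is an abelian member, and an element `w ∈ W` with
`[w, A] ≤ C` lies in `B'`.
-/

set_option autoImplicit false

namespace Cfsg.Agent.Helper12.CLN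

open Subgroup Cfsg.Agent.Helper15
open scoped Pointwise

variable {P : Type*} [Group P]

/-- If `W ⊆ B K` with `B, K ≤ W` then `|W| |B ∩ K| ≤ |B| |K|`. -/
theorem card_le_of_subset_mul [Finite P] (W B K : Subgroup P) (hB : B ≤ W) (hK : K ≤ W)
    (h : ∀ w ∈ W, ∃ b ∈ B, ∃ k ∈ K, w = b * k) :
    Nat.card W * Nat.card ↥(B ⊓ K) ≤ Nat.card B * Nat.card K := by
  -- the embedding of coset spaces K / (B ∩ K) ↪ W / B is surjective
  have hsurj : Function.Surjective (Subgroup.quotientSubgroupOfEmbeddingOfLE B hK) := by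
    intro q
    induction q using QuotientGroup.induction_on with
    | H w =>
      -- apply the hypothesis to w⁻¹: w⁻¹ = b' k', so w = k'⁻¹ b'⁻¹
      obtain ⟨b', hb', k', hk', hw'⟩ := h (w.1)⁻¹ (W.inv_mem w.2)
      refine ⟨QuotientGroup.mk ⟨k'⁻¹, K.inv_mem hk'⟩, ?_⟩
      rw [Subgroup.quotientSubgroupOfEmbeddingOfLE_apply_mk, QuotientGroup.eq,
        Subgroup.mem_subgroupOf]
      have e : w.1 = k'⁻¹ * b'⁻¹ := by
        have : (w.1)⁻¹⁻¹ = (b' * k')⁻¹ := by rw [hw']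
        simpa using this
      have : (((Subgroup.inclusion hK ⟨k'⁻¹, K.inv_mem hk'⟩ : W))⁻¹ * w : W).1 = b'⁻¹ := by
        show (k'⁻¹)⁻¹ * w.1 = b'⁻¹
        rw [e]; group
      rw [this]
      exact B.inv_mem hb'
  have h1 : B.relIndex W ≤ B.relIndex K := by
    unfold Subgroup.relIndex Subgroup.index
    exact Nat.card_le_card_of_surjective _ hsurj
  have h2 : Nat.card B * B.relIndex W = Nat.card W := card_mul_relIndex hB
  have h3 : Nat.card ↥(B ⊓ K) * B.relIndex K = Nat.card K := by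
    rw [← Subgroup.inf_relIndex_right]
    exact card_mul_relIndex inf_le_right
  calc Nat.card W * Nat.card ↥(B ⊓ K) = Nat.card B * (Nat.card ↥(B ⊓ K) * B.relIndex W) := by
        rw [← h2]; ring
    _ ≤ Nat.card B * (Nat.card ↥(B ⊓ K) * B.relIndex K) := by gcongr
    _ = Nat.card B * Nat.card K := by rw [h3]

/-- the hypotheses of the abstract replacement lemma -/
structure ReplData (B A W C : Subgroup P) : Prop where
  maxab : MaxAb B
  abA : A ≤ cz A
  prod : ((B ⊔ A : Subgroup P) : Set P) = (B : Set P) * (A : Set P)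
  memW : Cfsg.IsCentralizerLarge W
  memC : Cfsg.IsCentralizerLarge C
  hBW : B ≤ W
  hWBA : W ≤ B ⊔ A
  hCB : C ≤ B
  hCW : C ≤ cz W
  hZW : W ⊓ cz W ≤ C
  hD : A ⊓ B ≤ C
  core : ∀ b ∈ B, (∀ a ∈ A, a⁻¹ * b * a ∈ B) → b ∈ C

namespace ReplData

variable {B A W C : Subgroup P}

/-- every `w ∈ W` is `b * x` with `b ∈ B`, `x ∈ W ∩ A` -/
theorem decomp (h : ReplData B A W C) {w : P} (hw : w ∈ W) :
    ∃ b ∈ B, ∃ x ∈ W ⊓ A, w = b * x := by
  have h1 : w ∈ ((B ⊔ A : Subgroup P) : Set P) := h.hWBA hw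
  rw [h.prod] at h1
  obtain ⟨b, hb, a, ha, rfl⟩ := h1
  refine ⟨b, hb, a, ⟨?_, ha⟩, rfl⟩
  have := W.mul_mem (W.inv_mem (h.hBW hb)) hw
  simpa using this

/-- elements of `A` commute -/
theorem commA (h : ReplData B A W C) {a a' : P} (ha : a ∈ A) (ha' : a' ∈ A) : a * a' = a' * a :=
  mem_cz_iff.mp (h.abA ha') a ha

/-- elements of `C` commute with elements of `W` -/
theorem commCW (h : ReplData B A W C) {c w : P} (hc : c ∈ C) (hw : w ∈ W) : w * c = c * w :=
  mem_cz_iff.mp (h.hCW hc) w hw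

/-- `W ∩ C(B) = B` -/
theorem inf_cz_eq (h : ReplData B A W C) : W ⊓ cz B = B := by
  apply le_antisymm
  · rintro x ⟨hxW, hxB⟩
    obtain ⟨b, hb, a, ⟨haW, haA⟩, rfl⟩ := h.decomp hxW
    have hbc : b ∈ cz B := h.maxab.2.1 hb
    have hac : a ∈ cz B := by
      have := (cz B).mul_mem ((cz B).inv_mem hbc) hxB
      simpa using this
    have haW' : a ∈ cz W := by
      rw [mem_cz_iff]
      intro w hw
      obtain ⟨b₁, hb₁, a₁, ⟨-, ha₁⟩, rfl⟩ := h.decomp hw
      have e1 : b₁ * a = a * b₁ := mem_cz_iff.mp hac b₁ hb₁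
      have e2 : a₁ * a = a * a₁ := h.commA ha₁ haA
      calc b₁ * a₁ * a = b₁ * (a₁ * a) := by group
        _ = b₁ * (a * a₁) := by rw [e2]
        _ = (b₁ * a) * a₁ := by group
        _ = (a * b₁) * a₁ := by rw [e1]
        _ = a * (b₁ * a₁) := by group
    have : a ∈ B := h.hCB (h.hZW ⟨haW, haW'⟩)
    exact B.mul_mem hb this
  · exact le_inf h.hBW h.maxab.2.1

/-- `C(W) ∩ B = C` -/
theorem czW_inf_eq (h : ReplData B A W C) : cz W ⊓ B = C := by
  apply le_antisymm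
  · rintro x ⟨h1, h2⟩
    exact h.hZW ⟨h.hBW h2, h1⟩
  · exact le_inf h.hCW h.hCB

/-- `|B|² = |W| |C|` -/
theorem card_sq [Finite P] (h : ReplData B A W C) :
    Nat.card B * Nat.card B = Nat.card W * Nat.card C := by
  obtain ⟨hQ, hBcc⟩ := cd_centralizer B h.maxab.1
  obtain ⟨hR, -⟩ := cd_centralizer W h.memW
  obtain ⟨-, -, -, h4, h5⟩ := cd_lattice W (cz B) h.memW hQ
  rw [h.inf_cz_eq] at h5
  rw [← hBcc] at h4 h5
  rw [← h5, h.czW_inf_eq] at h4
  -- h4 : |C(W)| |B| = |C(B)| |C|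
  have e1 : cdm B = cdm W := by
    have a1 := h.maxab.1; have a2 := h.memW
    rw [isCentralizerLarge_iff] at a1 a2
    rw [a1, a2]
  unfold cdm at e1
  -- e1 : |B| |C(B)| = |W| |C(W)|
  have hpos : 0 < Nat.card ↥(cz W) := Nat.card_pos
  have : Nat.card ↥(cz W) * (Nat.card B * Nat.card B) = Nat.card ↥(cz W) * (Nat.card W * Nat.card C) := by
    calc Nat.card ↥(cz W) * (Nat.card B * Nat.card B)
        = (Nat.card ↥(cz W) * Nat.card B) * Nat.card B := by ring
      _ = (Nat.card ↥(cz B) * Nat.card C) * Nat.card B := by rw [h4]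
      _ = (Nat.card B * Nat.card ↥(cz B)) * Nat.card C := by ring
      _ = (Nat.card W * Nat.card ↥(cz W)) * Nat.card C := by rw [e1]
      _ = _ := by ring
  exact Nat.eq_of_mul_eq_mul_left hpos this

/-- the new subgroup `B' = (W ∩ A) C` -/
def newB (_h : ReplData B A W C) : Subgroup P := (W ⊓ A) ⊔ C

theorem newB_le_W (h : ReplData B A W C) : h.newB ≤ W :=
  sup_le inf_le_left (h.hCB.trans h.hBW)

theorem newB_ab (h : ReplData B A W C) : h.newB ≤ cz h.newB := by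
  unfold newB
  rw [cz_sup]
  have h1 : W ⊓ A ≤ cz (W ⊓ A) := (inf_le_right.trans h.abA).trans (cz_anti inf_le_right)
  have h2 : C ≤ cz C := (h.hCB.trans h.maxab.2.1).trans (cz_anti h.hCB)
  have h3 : C ≤ cz (W ⊓ A) := h.hCW.trans (cz_anti inf_le_left)
  exact sup_le (le_inf h1 (le_cz_comm h3)) (le_inf h3 h2)

theorem inf_inf_eq (h : ReplData B A W C) : (W ⊓ A) ⊓ C = A ⊓ B := by
  apply le_antisymm
  · exact le_inf (inf_le_left.trans inf_le_right) (inf_le_right.trans h.hCB)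
  · exact le_inf (le_inf (inf_le_right.trans h.hBW) inf_le_left) h.hD

theorem card_le_newB [Finite P] (h : ReplData B A W C) : Nat.card B ≤ Nat.card h.newB := by
  have h1 : Nat.card ↥(W ⊓ A) * Nat.card C ≤ Nat.card h.newB * Nat.card ↥((W ⊓ A) ⊓ C) :=
    card_mul_card_le_sup_mul_inf (W ⊓ A) C
  rw [h.inf_inf_eq] at h1
  have h2 : Nat.card W * Nat.card ↥(B ⊓ (W ⊓ A)) ≤ Nat.card B * Nat.card ↥(W ⊓ A) :=
    card_le_of_subset_mul W B (W ⊓ A) h.hBW inf_le_left (fun w hw => h.decomp hw)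
  have e : B ⊓ (W ⊓ A) = A ⊓ B := by
    apply le_antisymm
    · exact le_inf (inf_le_right.trans inf_le_right) inf_le_left
    · exact le_inf inf_le_right (le_inf (inf_le_right.trans h.hBW) inf_le_left)
  rw [e] at h2
  have h3 := h.card_sq
  set b := Nat.card B
  set b' := Nat.card h.newB
  set d := Nat.card ↥(A ⊓ B)
  set w := Nat.card W
  set c := Nat.card C
  set x := Nat.card ↥(W ⊓ A)
  have hd : 0 < d := Nat.card_pos
  have hb : 0 < b := Nat.card_pos
  have key : b * (d * b) ≤ b' * (d * b) := by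
    calc b * (d * b) = d * (b * b) := by ring
      _ = d * (w * c) := by rw [h3]
      _ = (w * d) * c := by ring
      _ ≤ (b * x) * c := Nat.mul_le_mul_right _ h2
      _ = b * (x * c) := by ring
      _ ≤ b * (b' * d) := Nat.mul_le_mul_left _ h1
      _ = b' * (d * b) := by ring
  exact Nat.le_of_mul_le_mul_right key (Nat.mul_pos hd hb)

/-- `B'` is a member of the Chermak–Delgado lattice -/
theorem newB_mem [Finite P] (h : ReplData B A W C) : Cfsg.IsCentralizerLarge h.newB := by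
  rw [isCentralizerLarge_iff]
  apply le_antisymm (cdm_le_max _)
  have hW := h.memW
  rw [isCentralizerLarge_iff] at hW
  rw [← hW]
  -- C(B') ≥ B' ⊔ C(W)
  have h1 : h.newB ⊔ cz W ≤ cz h.newB := sup_le h.newB_ab (cz_anti h.newB_le_W)
  have h2 : Nat.card h.newB * Nat.card ↥(cz W) ≤
      Nat.card ↥(h.newB ⊔ cz W) * Nat.card ↥(h.newB ⊓ cz W) :=
    card_mul_card_le_sup_mul_inf _ _
  have h3 : h.newB ⊓ cz W ≤ C := fun x hx => h.hZW ⟨h.newB_le_W hx.1, hx.2⟩
  have h4 : Nat.card ↥(h.newB ⊓ cz W) ≤ Nat.card C := Subgroup.card_le_of_le h3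
  have h5 : Nat.card ↥(h.newB ⊔ cz W) ≤ Nat.card ↥(cz h.newB) := Subgroup.card_le_of_le h1
  have h6 := h.card_sq
  have h7 := h.card_le_newB
  unfold cdm
  set b := Nat.card B
  set b' := Nat.card h.newB
  set r := Nat.card ↥(cz W)
  set w := Nat.card W
  set c := Nat.card C
  set s := Nat.card ↥(h.newB ⊔ cz W)
  set i := Nat.card ↥(h.newB ⊓ cz W)
  set z := Nat.card ↥(cz h.newB)
  have hc : 0 < c := Nat.card_pos
  have key : (w * r) * c ≤ (b' * z) * c := by
    calc (w * r) * c = (w * c) * r := by ring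
      _ = (b * b) * r := by rw [h6]
      _ ≤ (b' * b') * r := by gcongr
      _ = b' * (b' * r) := by ring
      _ ≤ b' * (s * i) := Nat.mul_le_mul_left _ h2
      _ ≤ b' * (z * c) := by gcongr
      _ = (b' * z) * c := by ring
  exact Nat.le_of_mul_le_mul_right key hc

/-- an element of `W` centralised by `A` modulo `C` lies in `B'` -/
theorem mem_newB_of_fixed (h : ReplData B A W C) {w : P} (hw : w ∈ W)
    (hfix : ∀ a ∈ A, w⁻¹ * (a⁻¹ * w * a) ∈ C) : w ∈ h.newB := by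
  obtain ⟨b, hb, x, ⟨hxW, hxA⟩, rfl⟩ := h.decomp hw
  have hbC : b ∈ C := by
    apply h.core b hb
    intro a ha
    have h1 := hfix a ha
    have e1 : x * a = a * x := h.commA hxA ha
    -- (b x)⁻¹ (a⁻¹ b x a) = x⁻¹ (b⁻¹ a⁻¹ b a) x
    have e2 : (b * x)⁻¹ * (a⁻¹ * (b * x) * a) = x⁻¹ * (b⁻¹ * (a⁻¹ * b * a)) * x := by
      calc (b * x)⁻¹ * (a⁻¹ * (b * x) * a) = x⁻¹ * b⁻¹ * a⁻¹ * b * (x * a) := by group
        _ = x⁻¹ * b⁻¹ * a⁻¹ * b * (a * x) := by rw [e1]
        _ = _ := by group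
    rw [e2] at h1
    set c := x⁻¹ * (b⁻¹ * (a⁻¹ * b * a)) * x with hc
    have e3 : x * c = c * x := h.commCW h1 hxW
    have e4 : b⁻¹ * (a⁻¹ * b * a) = c := by
      calc b⁻¹ * (a⁻¹ * b * a) = x * c * x⁻¹ := by rw [hc]; group
        _ = c * x * x⁻¹ := by rw [e3]
        _ = c := by group
    have e5 : a⁻¹ * b * a = b * c := by rw [← e4]; group
    rw [e5]
    exact B.mul_mem hb (h.hCB h1)
  unfold newB
  exact ((W ⊓ A) ⊔ C).mul_mem (le_sup_right (b := C) hbC) (le_sup_left (a := W ⊓ A) ⟨hxW, hxA⟩)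

end ReplData

end Cfsg.Agent.Helper12.CLN
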