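import Mathlib
import Cfsg.Prelude.Def_BaumannBlocks
import Cfsg.Prelude.Def_PLocal
import Cfsg.Agent.Helper15.CL3
import Cfsg.Agent.Helper12.CLConj
import Cfsg.Agent.Helper12.CLRepl

/-!
# `W = ⟨B^a : a ∈ A⟩` and `C = ⋂ B^a` for a maximal abelian member `B` and `A ∈ 𝒜`
-/

set_option autoImplicit false

namespace Cfsg.Agent.Helper12.CLN

open Subgroup Cfsg.Agent.Helper15
open scoped Pointwise

variable {P : Type*} [Group P]

/-- `W = ⟨B^a : a ∈ A⟩` -/
def Wd (B A : Subgroup P) : Subgroup P := ⨆ a : A, cj (a : P) B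

/-- `C = ⋂ B^a` -/
def Cd (B A : Subgroup P) : Subgroup P := ⨅ a : A, cj (a : P) B

theorem cj_le_Wd {B A : Subgroup P} {a : P} (ha : a ∈ A) : cj a B ≤ Wd B A :=
  le_iSup (fun a : A => cj (a : P) B) ⟨a, ha⟩

theorem Cd_le_cj {B A : Subgroup P} {a : P} (ha : a ∈ A) : Cd B A ≤ cj a B :=
  iInf_le (fun a : A => cj (a : P) B) ⟨a, ha⟩

theorem le_Wd (B A : Subgroup P) : B ≤ Wd B A := by
  have := cj_le_Wd (B := B) (A := A) A.one_mem
  rwa [cj_one] at this

theorem Cd_le (B A : Subgroup P) : Cd B A ≤ B := by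
  have := Cd_le_cj (B := B) (A := A) A.one_mem
  rwa [cj_one] at this

theorem mem_Cd {B A : Subgroup P} {x : P} : x ∈ Cd B A ↔ ∀ a ∈ A, a⁻¹ * x * a ∈ B := by
  unfold Cd
  rw [Subgroup.mem_iInf]
  constructor
  · intro h a ha
    exact mem_cj.mp (h ⟨a, ha⟩)
  · intro h a
    exact mem_cj.mpr (h a a.2)

/-- an element permuting the conjugates `B^a` normalises `W` -/
theorem cj_Wd_eq [Finite P] {B A : Subgroup P} {g : P}
    (hg : ∀ a ∈ A, ∃ a' ∈ A, cj g (cj a B) = cj a' B) : cj g (Wd B A) = Wd B A := by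
  apply cj_eq_self_of_le
  unfold Wd
  rw [cj_iSup]
  apply iSup_le
  intro a
  obtain ⟨a', ha', h⟩ := hg a a.2
  rw [h]
  exact cj_le_Wd ha'

/-- an element permuting the conjugates `B^a` normalises `C` -/
theorem cj_Cd_eq [Finite P] {B A : Subgroup P} {g : P}
    (hg : ∀ a ∈ A, ∃ a' ∈ A, cj g (cj a B) = cj a' B) : cj g (Cd B A) = Cd B A := by
  have h1 : Cd B A ≤ cj g (Cd B A) := by
    unfold Cd
    rw [cj_iInf]
    apply le_iInf
    intro a
    obtain ⟨a', ha', h⟩ := hg a a.2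
    rw [h]
    exact iInf_le (fun a : A => cj (a : P) B) ⟨a', ha'⟩
  exact (eq_of_le_of_card_ge' h1 (le_of_eq (card_cj g _))).symm

/-- `g ∈ A` permutes the conjugates `B^a`, `a ∈ A` -/
theorem perm_of_mem {B A : Subgroup P} {g : P} (hg : g ∈ A) :
    ∀ a ∈ A, ∃ a' ∈ A, cj g (cj a B) = cj a' B :=
  fun a ha => ⟨g * a, A.mul_mem hg ha, (cj_mul g a B).symm⟩

/-- if `N` normalises `B` and `A` normalises `N`, every `n ∈ N` fixes each `B^a` -/
theorem fix_of_normal {B A N : Subgroup P} (hNB : N ≤ Subgroup.normalizer (B : Set P))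
    (hAN : A ≤ Subgroup.normalizer (N : Set P)) {n : P} (hn : n ∈ N) {a : P} (ha : a ∈ A) :
    cj n (cj a B) = cj a B := by
  have h1 : a⁻¹ * n * a ∈ N := by
    have h2 : a⁻¹ ∈ Subgroup.normalizer (N : Set P) := (Subgroup.normalizer _).inv_mem (hAN ha)
    have := (Subgroup.mem_normalizer_iff.mp h2 n).mp hn
    simpa using this
  have h3 : cj (a⁻¹ * n * a) B = B := cj_eq_self_of_mem_normalizer (hNB h1)
  calc cj n (cj a B) = cj (n * a) B := (cj_mul n a B).symm
    _ = cj (a * (a⁻¹ * n * a)) B := by congr 1; group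
    _ = cj a (cj (a⁻¹ * n * a) B) := cj_mul _ _ _
    _ = cj a B := by rw [h3]

theorem perm_of_normal {B A N : Subgroup P} (hNB : N ≤ Subgroup.normalizer (B : Set P))
    (hAN : A ≤ Subgroup.normalizer (N : Set P)) {n : P} (hn : n ∈ N) :
    ∀ a ∈ A, ∃ a' ∈ A, cj n (cj a B) = cj a' B :=
  fun a ha => ⟨a, ha, fix_of_normal hNB hAN hn ha⟩

/-- conjugates of abelian subgroups of largest order -/
theorem maxAbelian_cj {A : Subgroup P} (hA : A ∈ Cfsg.maxAbelianSubgroups P) (g : P) :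
    cj g A ∈ Cfsg.maxAbelianSubgroups P := by
  refine ⟨(isMulCommutative_iff_le_cz _).mpr (ab_cj g ((isMulCommutative_iff_le_cz A).mp hA.1)), ?_⟩
  intro B hB
  rw [card_cj]
  exact hA.2 B hB

/-- `C(B)` is centrally large for an abelian member `B` -/
theorem cl_cz_of_ab [Finite P] {B : Subgroup P} (hB : Cfsg.IsCentralizerLarge B) (hab : B ≤ cz B) :
    Cfsg.IsCentrallyLarge (cz B) := by
  obtain ⟨h1, h2⟩ := cd_centralizer B hB
  rw [cl_iff_of_centralizerLarge _ h1, ← h2]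
  exact hab

/-- the data of the replacement lemma for `B` maximal abelian member and `A ∈ 𝒜` -/
theorem replData [Finite P] {B A : Subgroup P} (hB : MaxAb B)
    (hA : A ∈ Cfsg.maxAbelianSubgroups P) : ReplData B A (Wd B A) (Cd B A) := by
  have hAab : A ≤ cz A := (isMulCommutative_iff_le_cz A).mp hA.1
  obtain ⟨hQ, hBcc⟩ := cd_centralizer B hB.1
  have hQcl := cl_cz_of_ab hB.1 hB.2.1
  have hQZ : cz B ⊓ cz (cz B) = B := by
    rw [← hBcc]; exact inf_eq_right.mpr hB.2.1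
  have hmemcj : ∀ a : A, Cfsg.IsCentralizerLarge (cj (a : P) B) := fun a => mem_cj_iff_large _ hB.1
  have hmemW : Cfsg.IsCentralizerLarge (Wd B A) := large_iSup _ hmemcj
  have hmemC : Cfsg.IsCentralizerLarge (Cd B A) := large_iInf _ hmemcj
  have hCW : Cd B A ≤ cz (Wd B A) := by
    apply le_cz_comm
    unfold Wd
    apply iSup_le
    intro a
    have h1 : cj (a : P) B ≤ cz (cj (a : P) B) := ab_cj _ hB.2.1
    exact h1.trans (cz_anti (Cd_le_cj a.2))
  refine
    { maxab := hB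
      abA := hAab
      prod := ?_
      memW := hmemW
      memC := hmemC
      hBW := le_Wd B A
      hWBA := ?_
      hCB := Cd_le B A
      hCW := hCW
      hZW := ?_
      hD := ?_
      core := ?_ }
  · have := (cl_maxAbelian_all (cz B) A hQcl hA).2.2.2
    rwa [hQZ] at this
  · unfold Wd
    apply iSup_le
    intro a
    exact cj_le_of_mem le_sup_left (le_sup_right (a := B) a.2)
  · -- Z(W) ≤ every conjugate, by maximality
    obtain ⟨hR, -⟩ := cd_centralizer (Wd B A) hmemW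
    have hZmem : Cfsg.IsCentralizerLarge (Wd B A ⊓ cz (Wd B A)) := (cd_lattice _ _ hmemW hR).2.1
    have hZab : Wd B A ⊓ cz (Wd B A) ≤ cz (Wd B A ⊓ cz (Wd B A)) :=
      inf_le_right.trans (cz_anti inf_le_left)
    unfold Cd
    apply le_iInf
    intro a
    set Ba := cj (a : P) B with hBa
    have hBaM : MaxAb Ba := hB.cj _
    have hZBa : Wd B A ⊓ cz (Wd B A) ≤ cz Ba := inf_le_right.trans (cz_anti (cj_le_Wd a.2))
    have hsupab : Ba ⊔ (Wd B A ⊓ cz (Wd B A)) ≤ cz (Ba ⊔ (Wd B A ⊓ cz (Wd B A))) := by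
      rw [cz_sup]
      exact sup_le (le_inf hBaM.2.1 (le_cz_comm hZBa)) (le_inf hZBa hZab)
    have hsupmem : Cfsg.IsCentralizerLarge (Ba ⊔ (Wd B A ⊓ cz (Wd B A))) :=
      (cd_lattice _ _ hBaM.1 hZmem).1
    have := hBaM.2.2 _ hsupmem hsupab le_sup_left
    rw [← this]
    exact le_sup_right
  · rintro x ⟨hxA, hxB⟩
    rw [mem_Cd]
    intro a ha
    have e : a * x = x * a := mem_cz_iff.mp (hAab hxA) a ha
    have : a⁻¹ * x * a = x := by
      calc a⁻¹ * x * a = a⁻¹ * (x * a) := by group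
        _ = a⁻¹ * (a * x) := by rw [e]
        _ = x := by group
    rw [this]; exact hxB
  · intro b _ hb
    exact mem_Cd.mpr hb

end Cfsg.Agent.Helper12.CLN
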