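import Mathlib

/-!
# A fixed point lemma for `p`-groups acting on a section `W / C`
-/

set_option autoImplicit false

namespace Cfsg.Agent.Helper12.CLN

open Subgroup

/-- In a finite `p`-group a non-trivial normal subgroup meets the centre non-trivially. -/
theorem exists_central_of_normal {p : ℕ} [Fact p.Prime] {T : Type*} [Group T] [Finite T]
    (hT : IsPGroup p T) (N : Subgroup T) [N.Normal] (hN : N ≠ ⊥) :
    ∃ b ∈ N, b ≠ 1 ∧ ∀ t : T, t * b * t⁻¹ = b := by
  have hG : IsPGroup p (ConjAct T) := hT.of_equiv ConjAct.toConjAct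
  have hNp : IsPGroup p N := hT.to_subgroup N
  have hnt : Nontrivial N := (Subgroup.nontrivial_iff_ne_bot N).mpr hN
  have dvd : p ∣ Nat.card N := by
    obtain ⟨n, hn0, hn⟩ := hNp.nontrivial_iff_card.mp hnt
    exact hn.symm ▸ dvd_pow_self _ (ne_of_gt hn0)
  have h1 : (1 : N) ∈ MulAction.fixedPoints (ConjAct T) N := by
    intro g
    exact smul_one g
  obtain ⟨b, hb, hne⟩ := hG.exists_fixed_point_of_prime_dvd_card_of_fixed_point N dvd h1
  refine ⟨b.1, b.2, ?_, ?_⟩
  · intro h
    apply hne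
    exact Subtype.ext h.symm
  · intro t
    have := hb (ConjAct.toConjAct t)
    have h2 := congrArg Subtype.val this
    rw [ConjAct.Subgroup.val_conj_smul, ConjAct.smul_def] at h2
    simpa using h2

/-- abstract form: `C < W` normal subgroups of a finite `p`-group `T`: some `w ∈ W ∖ C` is central
modulo `C`. -/
theorem exists_fixed_mod_of_normal {p : ℕ} [Fact p.Prime] {T : Type*} [Group T] [Finite T]
    (hT : IsPGroup p T) (C W : Subgroup T) [C.Normal] [W.Normal] (hCW : C ≤ W) (hne : C ≠ W) :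
    ∃ w ∈ W, w ∉ C ∧ ∀ t : T, w⁻¹ * (t⁻¹ * w * t) ∈ C := by
  have hTq : IsPGroup p (T ⧸ C) := hT.to_quotient C
  set π := QuotientGroup.mk' C with hπ
  have hsurj : Function.Surjective π := QuotientGroup.mk'_surjective C
  have : (W.map π).Normal := Subgroup.Normal.map inferInstance π hsurj
  have hWne : W.map π ≠ ⊥ := by
    intro h
    apply hne
    apply le_antisymm hCW
    intro w hw
    have : π w ∈ W.map π := Subgroup.mem_map_of_mem π hw
    rw [h, Subgroup.mem_bot] at this
    have h2 : w ∈ π.ker := this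
    rwa [hπ, QuotientGroup.ker_mk'] at h2
  obtain ⟨b, hb, hb1, hbc⟩ := exists_central_of_normal hTq (W.map π) hWne
  obtain ⟨w, hw, rfl⟩ := hb
  refine ⟨w, hw, ?_, ?_⟩
  · intro hwC
    apply hb1
    have : w ∈ π.ker := by rw [hπ, QuotientGroup.ker_mk']; exact hwC
    exact this
  · intro t
    have h1 := hbc (π t⁻¹)
    have h2 : π (w⁻¹ * (t⁻¹ * w * t)) = 1 := by
      have e : π (t⁻¹ * w * t) = π t⁻¹ * π w * (π t⁻¹)⁻¹ := by
        simp [map_mul, map_inv]
      rw [map_mul, e, h1, map_inv]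
      simp
    have : w⁻¹ * (t⁻¹ * w * t) ∈ π.ker := h2
    rwa [hπ, QuotientGroup.ker_mk'] at this

/-- A `p`-group `H` normalising `C < W` (with `W` normalising `C`) centralises some element of
`W ∖ C` modulo `C`. -/
theorem exists_fixed_mod {p : ℕ} [Fact p.Prime] {P : Type*} [Group P] [Finite P]
    (hP : IsPGroup p P) (C W H : Subgroup P) (hCW : C ≤ W) (hne : C ≠ W)
    (hHW : H ≤ Subgroup.normalizer (W : Set P)) (hHC : H ≤ Subgroup.normalizer (C : Set P))
    (hWC : W ≤ Subgroup.normalizer (C : Set P)) :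
    ∃ w ∈ W, w ∉ C ∧ ∀ h ∈ H, w⁻¹ * (h⁻¹ * w * h) ∈ C := by
  set T : Subgroup P := Subgroup.normalizer (C : Set P) ⊓ Subgroup.normalizer (W : Set P) with hTdef
  have hCT : C ≤ T := le_inf Subgroup.le_normalizer (hCW.trans Subgroup.le_normalizer)
  have hWT : W ≤ T := le_inf hWC Subgroup.le_normalizer
  have hHT : H ≤ T := le_inf hHC hHW
  have : (C.subgroupOf T).Normal :=
    (Subgroup.normal_subgroupOf_iff_le_normalizer hCT).mpr inf_le_left
  have : (W.subgroupOf T).Normal :=
    (Subgroup.normal_subgroupOf_iff_le_normalizer hWT).mpr inf_le_right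
  have hle : C.subgroupOf T ≤ W.subgroupOf T := by
    intro x hx
    rw [Subgroup.mem_subgroupOf] at hx ⊢
    exact hCW hx
  have hne' : C.subgroupOf T ≠ W.subgroupOf T := by
    intro h
    apply hne
    apply le_antisymm hCW
    intro w hw
    have : (⟨w, hWT hw⟩ : T) ∈ W.subgroupOf T := by rw [Subgroup.mem_subgroupOf]; exact hw
    rw [← h, Subgroup.mem_subgroupOf] at this
    exact this
  obtain ⟨w, hw, hwC, hfix⟩ :=
    exists_fixed_mod_of_normal (hP.to_subgroup T) (C.subgroupOf T) (W.subgroupOf T) hle hne'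
  rw [Subgroup.mem_subgroupOf] at hw hwC
  refine ⟨w.1, hw, hwC, ?_⟩
  intro h hh
  have := hfix ⟨h, hHT hh⟩
  rw [Subgroup.mem_subgroupOf] at this
  simpa using this

end Cfsg.Agent.Helper12.CLN
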