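import Mathlib
import Cfsg.Prelude.Def_BaumannBlocks
import Cfsg.Prelude.Def_PLocal
import Cfsg.Agent.Helper15.CL3
import Cfsg.Agent.Helper12.CLConj

/-!
# Maximal abelian members of the Chermak–Delgado lattice and minimal centrally large subgroups
-/

set_option autoImplicit false

namespace Cfsg.Agent.Helper12.CLN

open Subgroup Cfsg.Agent.Helper15

variable {P : Type*} [Group P]

/-- every abelian member lies in a maximal abelian member -/
theorem exists_maxAb_ge [Finite P] {X : Subgroup P} (hX : Cfsg.IsCentralizerLarge X)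
    (hab : X ≤ cz X) : ∃ B, MaxAb B ∧ X ≤ B := by
  classical
  have hfin : {B : Subgroup P | Cfsg.IsCentralizerLarge B ∧ B ≤ cz B ∧ X ≤ B}.Finite :=
    Set.toFinite _
  have hne : {B : Subgroup P | Cfsg.IsCentralizerLarge B ∧ B ≤ cz B ∧ X ≤ B}.Nonempty :=
    ⟨X, hX, hab, le_rfl⟩
  obtain ⟨B, hB, hmax⟩ := hfin.exists_maximalFor (fun B : Subgroup P => Nat.card B) _ hne
  refine ⟨B, ⟨hB.1, hB.2.1, ?_⟩, hB.2.2⟩
  intro B' h1 h2 h3
  have h4 : B' ∈ {B : Subgroup P | Cfsg.IsCentralizerLarge B ∧ B ≤ cz B ∧ X ≤ B} :=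
    ⟨h1, h2, hB.2.2.trans h3⟩
  have h5 : Nat.card B' ≤ Nat.card B := hmax h4 (Helper15.card_le_of_le h3)
  exact (eq_of_le_of_card_ge' h3 h5).symm

/-- there is a maximal abelian member -/
theorem exists_maxAb [Finite P] : ∃ B : Subgroup P, MaxAb B := by
  obtain ⟨Q, hQ⟩ := exists_cl (P := P)
  obtain ⟨hQ1, hQ2⟩ := cl_imp Q hQ
  obtain ⟨hZ, -⟩ := cd_centralizer Q hQ1
  have hczQ : cz Q ≤ Q := by rw [hQ2]; exact inf_le_left
  obtain ⟨B, hB, -⟩ := exists_maxAb_ge hZ (cz_anti hczQ)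
  exact ⟨B, hB⟩

/-- the centraliser of a maximal abelian member is a minimal centrally large subgroup -/
theorem MaxAb.mcl [Finite P] {B : Subgroup P} (hB : MaxAb B) :
    Cfsg.IsMinimalCentrallyLarge (cz B) := by
  obtain ⟨hQ, hBcc⟩ := cd_centralizer B hB.1
  have hcl : Cfsg.IsCentrallyLarge (cz B) := by
    rw [cl_iff_of_centralizerLarge _ hQ, ← hBcc]; exact hB.2.1
  refine ⟨hcl, ?_⟩
  intro R hR hRcl
  obtain ⟨hR1, hR2⟩ := cl_imp R hRcl
  obtain ⟨hZ, hRcc⟩ := cd_centralizer R hR1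
  have hczR : cz R ≤ R := by rw [hR2]; exact inf_le_left
  have h1 : B ≤ cz R := by rw [hBcc]; exact cz_anti hR
  have h2 := hB.2.2 (cz R) hZ (cz_anti hczR) h1
  rw [hRcc, h2]

theorem MaxAb.card_eq [Finite P] {B B' : Subgroup P} (hB : MaxAb B) (hB' : MaxAb B') :
    Nat.card B = Nat.card B' := by
  obtain ⟨-, h1⟩ := cd_centralizer B hB.1
  obtain ⟨-, h2⟩ := cd_centralizer B' hB'.1
  have := (mcl_card_eq (cz B) (cz B') hB.mcl hB'.mcl).2
  rw [← h1, ← h2] at this
  exact this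

/-- an abelian member of the order of a maximal abelian member is maximal -/
theorem maxAb_of_card [Finite P] {B X : Subgroup P} (hB : MaxAb B)
    (hX : Cfsg.IsCentralizerLarge X) (hab : X ≤ cz X) (hc : Nat.card B ≤ Nat.card X) :
    MaxAb X := by
  obtain ⟨B₁, hB₁, hXB₁⟩ := exists_maxAb_ge hX hab
  have h1 : Nat.card B₁ ≤ Nat.card X := by rw [← hB.card_eq hB₁]; exact hc
  have h2 : X = B₁ := eq_of_le_of_card_ge' hXB₁ h1
  rw [h2]; exact hB₁

/-- the normaliser of `X` normalises `C(X)` -/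
theorem normalizer_le_normalizer_cz (X : Subgroup P) :
    Subgroup.normalizer (X : Set P) ≤ Subgroup.normalizer ((cz X : Subgroup P) : Set P) := by
  intro g hg
  apply mem_normalizer_of_cj_eq_self
  rw [← cz_cj, cj_eq_self_of_mem_normalizer hg]

theorem normalizer_inf_le (X Y : Subgroup P) :
    Subgroup.normalizer (X : Set P) ⊓ Subgroup.normalizer (Y : Set P) ≤
      Subgroup.normalizer ((X ⊓ Y : Subgroup P) : Set P) := by
  rintro g ⟨h1, h2⟩
  apply mem_normalizer_of_cj_eq_self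
  rw [cj_inf, cj_eq_self_of_mem_normalizer h1, cj_eq_self_of_mem_normalizer h2]

theorem normalizer_sup_le (X Y : Subgroup P) :
    Subgroup.normalizer (X : Set P) ⊓ Subgroup.normalizer (Y : Set P) ≤
      Subgroup.normalizer ((X ⊔ Y : Subgroup P) : Set P) := by
  rintro g ⟨h1, h2⟩
  apply mem_normalizer_of_cj_eq_self
  rw [cj_sup, cj_eq_self_of_mem_normalizer h1, cj_eq_self_of_mem_normalizer h2]

/-- the subgroup generated by the members of `𝒜` normalising `B` -/
def NA (B : Subgroup P) : Subgroup P :=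
  sSup {A | A ∈ Cfsg.maxAbelianSubgroups P ∧ A ≤ Subgroup.normalizer (B : Set P)}

theorem NA_le_normalizer (B : Subgroup P) : NA B ≤ Subgroup.normalizer (B : Set P) :=
  sSup_le fun _ hA => hA.2

theorem le_NA {A B : Subgroup P} (hA : A ∈ Cfsg.maxAbelianSubgroups P)
    (h : A ≤ Subgroup.normalizer (B : Set P)) : A ≤ NA B :=
  le_sSup ⟨hA, h⟩

end Cfsg.Agent.Helper12.CLN
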