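import Mathlib
import Cfsg.Prelude.Def_BaumannBlocks
import Cfsg.Prelude.Def_PLocal
import Cfsg.Agent.Helper15.CL3
import Cfsg.Agent.Helper12.CLConj
import Cfsg.Agent.Helper12.CLFix
import Cfsg.Agent.Helper12.CLRepl
import Cfsg.Agent.Helper12.CLCore
import Cfsg.Agent.Helper12.CLMax

/-!
# Some minimal centrally large subgroup is normalised by `J(P)` and by `P_MCL`
(Glauberman; part 2 of S3008.)
-/

set_option autoImplicit false

namespace Cfsg.Agent.Helper12.CLN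

open Subgroup Cfsg.Agent.Helper15
open scoped Pointwise

variable {P : Type*} [Group P]

/-- normaliser condition: if some `A ∈ 𝒜` does not normalise `B₀`, some `A ∈ 𝒜` normalises
`N = NA B₀` without lying in it. -/
theorem exists_normalizing {p : ℕ} [Fact p.Prime] [Finite P] (hP : IsPGroup p P) (B₀ : Subgroup P)
    (hnot : ∃ A ∈ Cfsg.maxAbelianSubgroups P, ¬ A ≤ Subgroup.normalizer (B₀ : Set P)) :
    ∃ A ∈ Cfsg.maxAbelianSubgroups P, A ≤ Subgroup.normalizer ((NA B₀ : Subgroup P) : Set P) ∧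
      ¬ A ≤ NA B₀ := by
  by_contra hcon
  push Not at hcon
  set N := NA B₀ with hN
  set N₁ := Subgroup.normalizer (N : Set P) with hN₁
  have hNN₁ : N ≤ N₁ := Subgroup.le_normalizer
  have hself : Subgroup.normalizer (N₁ : Set P) = N₁ := by
    apply le_antisymm _ Subgroup.le_normalizer
    intro g hg
    apply mem_normalizer_of_cj_eq_self
    apply cj_eq_self_of_le
    apply cj_le_comm.mpr
    apply sSup_le
    rintro A ⟨hA, hAB⟩
    apply cj_le_comm.mp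
    have h1 : cj g A ∈ Cfsg.maxAbelianSubgroups P := maxAbelian_cj hA g
    have h2 : cj g A ≤ N₁ := by
      have h3 : A ≤ N₁ := (le_NA hA hAB).trans hNN₁
      have h4 : cj g A ≤ cj g N₁ := cj_mono h3
      rwa [cj_eq_self_of_mem_normalizer hg] at h4
    exact hcon _ h1 h2
  have hnil : Group.IsNilpotent P := hP.isNilpotent
  have htop : N₁ = ⊤ :=
    (normalizerCondition_iff_only_full_group_self_normalizing.mp
      Group.normalizerCondition_of_isNilpotent) N₁ hself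
  obtain ⟨A, hA, hAnot⟩ := hnot
  apply hAnot
  have h1 : A ≤ N₁ := by rw [htop]; exact le_top
  exact (hcon A hA h1).trans (NA_le_normalizer B₀)

/-- `(B ∩ C(C₁)) C₁` is a maximal abelian member when `B` is one and `C₁` is an abelian member -/
theorem maxAb_shift [Finite P] {B C₁ : Subgroup P} (hB : MaxAb B)
    (hC₁ : Cfsg.IsCentralizerLarge C₁) (hab : C₁ ≤ cz C₁) : MaxAb ((B ⊓ cz C₁) ⊔ C₁) := by
  obtain ⟨hQ, hBcc⟩ := cd_centralizer B hB.1
  obtain ⟨hR, hCcc⟩ := cd_centralizer C₁ hC₁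
  obtain ⟨-, hX, -, h4, h5⟩ := cd_lattice B (cz C₁) hB.1 hR
  rw [← hCcc] at h4 h5
  have hB₁ : Cfsg.IsCentralizerLarge ((B ⊓ cz C₁) ⊔ C₁) := (cd_lattice _ _ hX hC₁).1
  have hXab : B ⊓ cz C₁ ≤ cz (B ⊓ cz C₁) := (inf_le_left.trans hB.2.1).trans (cz_anti inf_le_left)
  have hXC : B ⊓ cz C₁ ≤ cz C₁ := inf_le_right
  have hB₁ab : (B ⊓ cz C₁) ⊔ C₁ ≤ cz ((B ⊓ cz C₁) ⊔ C₁) := by
    rw [cz_sup]
    exact sup_le (le_inf hXab hXC) (le_inf (le_cz_comm hXC) hab)
  refine maxAb_of_card hB hB₁ hB₁ab ?_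
  -- C(B) ∩ C₁ = B ∩ C₁ by maximality
  have hY : Cfsg.IsCentralizerLarge (cz B ⊓ C₁) := (cd_lattice _ _ hQ hC₁).2.1
  have hYab : cz B ⊓ C₁ ≤ cz (cz B ⊓ C₁) := (inf_le_right.trans hab).trans (cz_anti inf_le_right)
  have hYB : cz B ⊓ C₁ ≤ cz B := inf_le_left
  have hsupab : B ⊔ (cz B ⊓ C₁) ≤ cz (B ⊔ (cz B ⊓ C₁)) := by
    rw [cz_sup]
    exact sup_le (le_inf hB.2.1 (le_cz_comm hYB)) (le_inf hYB hYab)
  have hsupmem : Cfsg.IsCentralizerLarge (B ⊔ (cz B ⊓ C₁)) := (cd_lattice _ _ hB.1 hY).1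
  have hsup := hB.2.2 _ hsupmem hsupab le_sup_left
  have hinf : cz B ⊓ C₁ = B ⊓ C₁ := by
    apply le_antisymm
    · refine le_inf ?_ inf_le_right
      calc cz B ⊓ C₁ ≤ B ⊔ (cz B ⊓ C₁) := le_sup_right
        _ = B := hsup
    · exact le_inf (inf_le_left.trans hB.2.1) inf_le_right
  rw [hinf] at h4
  -- h4 : |C(B)| |C₁| = |C(B) ⊔ C₁| |B ∩ C₁| ; h5 : C(B ∩ C(C₁)) = C(B) ⊔ C₁
  have e1 : cdm (B ⊓ cz C₁) = cdm B := by
    have a1 := hB.1
    rw [isCentralizerLarge_iff] at hX a1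
    rw [hX, a1]
  unfold cdm at e1
  rw [h5] at e1
  have h6 : Nat.card ↥(B ⊓ cz C₁) * Nat.card C₁ ≤
      Nat.card ↥((B ⊓ cz C₁) ⊔ C₁) * Nat.card ↥((B ⊓ cz C₁) ⊓ C₁) :=
    card_mul_card_le_sup_mul_inf _ _
  have e2 : (B ⊓ cz C₁) ⊓ C₁ = B ⊓ C₁ := by
    apply le_antisymm
    · exact le_inf (inf_le_left.trans inf_le_left) inf_le_right
    · exact le_inf (le_inf inf_le_left (inf_le_right.trans hab)) inf_le_right
  rw [e2] at h6
  set x := Nat.card ↥(B ⊓ cz C₁)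
  set y := Nat.card ↥(cz B ⊔ C₁)
  set q := Nat.card ↥(cz B)
  set c₁ := Nat.card C₁
  set i := Nat.card ↥(B ⊓ C₁)
  set b := Nat.card B
  set b₁ := Nat.card ↥((B ⊓ cz C₁) ⊔ C₁)
  have hi : 0 < i := Nat.card_pos
  have hy : 0 < y := Nat.card_pos
  have key : b * (i * y) ≤ b₁ * (i * y) := by
    calc b * (i * y) = (b * q) * 0 + b * (y * i) := by ring
      _ = b * (q * c₁) := by rw [h4]; ring
      _ = (b * q) * c₁ := by ring
      _ = (x * y) * c₁ := by rw [e1]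
      _ = (x * c₁) * y := by ring
      _ ≤ (b₁ * i) * y := Nat.mul_le_mul_right _ h6
      _ = b₁ * (i * y) := by ring
  exact Nat.le_of_mul_le_mul_right key (Nat.mul_pos hi hy)

/-- the inductive step: the `A`-core of `B` can be enlarged keeping `NA B = N` -/
theorem step {p : ℕ} [Fact p.Prime] [Finite P] (hP : IsPGroup p P) {B A N : Subgroup P}
    (hB : MaxAb B) (hN : NA B = N)
    (hmax : ∀ B' : Subgroup P, MaxAb B' → Nat.card (NA B') ≤ Nat.card N)
    (hA : A ∈ Cfsg.maxAbelianSubgroups P) (hAN : A ≤ Subgroup.normalizer (N : Set P))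
    (hAnot : ¬ A ≤ N) :
    ∃ B₁, MaxAb B₁ ∧ NA B₁ = N ∧ Nat.card (Cd B A) < Nat.card (Cd B₁ A) := by
  have hNB : N ≤ Subgroup.normalizer (B : Set P) := hN ▸ NA_le_normalizer B
  have hAB : ¬ A ≤ Subgroup.normalizer (B : Set P) := fun h => hAnot (hN ▸ le_NA hA h)
  have D := replData hB hA
  have hAW : ∀ a ∈ A, cj a (Wd B A) = Wd B A := fun a ha => cj_Wd_eq (perm_of_mem ha)
  have hAC : ∀ a ∈ A, cj a (Cd B A) = Cd B A := fun a ha => cj_Cd_eq (perm_of_mem ha)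
  have hNW : ∀ n ∈ N, cj n (Wd B A) = Wd B A :=
    fun n hn => cj_Wd_eq (perm_of_normal hNB hAN hn)
  have hNC : ∀ n ∈ N, cj n (Cd B A) = Cd B A :=
    fun n hn => cj_Cd_eq (perm_of_normal hNB hAN hn)
  have hHW : N ⊔ A ≤ Subgroup.normalizer ((Wd B A : Subgroup P) : Set P) :=
    sup_le (le_normalizer_iff_cj.mpr hNW) (le_normalizer_iff_cj.mpr hAW)
  have hHC : N ⊔ A ≤ Subgroup.normalizer ((Cd B A : Subgroup P) : Set P) :=
    sup_le (le_normalizer_iff_cj.mpr hNC) (le_normalizer_iff_cj.mpr hAC)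
  have hCW : Cd B A ≤ Wd B A := (Cd_le B A).trans (le_Wd B A)
  have hne : Cd B A ≠ Wd B A := by
    intro h
    apply hAB
    rw [le_normalizer_iff_cj]
    intro a ha
    have h1 : B ≤ cj a B := by
      calc B ≤ Wd B A := le_Wd B A
        _ = Cd B A := h.symm
        _ ≤ cj a B := Cd_le_cj ha
    exact (eq_of_le_of_card_ge' h1 (le_of_eq (card_cj a B))).symm
  have hWC : Wd B A ≤ Subgroup.normalizer ((Cd B A : Subgroup P) : Set P) := by
    rw [le_normalizer_iff_cj]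
    intro w hw
    apply cj_eq_self_of_le
    intro x hx
    rw [mem_cj] at hx
    have e := D.commCW hx hw
    have e2 : x = w⁻¹ * x * w := by
      calc x = w * (w⁻¹ * x * w) * w⁻¹ := by group
        _ = (w⁻¹ * x * w) * w * w⁻¹ := by rw [e]
        _ = w⁻¹ * x * w := by group
    rw [e2]; exact hx
  obtain ⟨w, hwW, hwC, hfix⟩ :=
    exists_fixed_mod hP (Cd B A) (Wd B A) (N ⊔ A) hCW hne hHW hHC hWC
  have hB'mem := D.newB_mem
  have hB'ab := D.newB_ab
  -- the new core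
  set C₁ : Subgroup P := ⨅ h : (N ⊔ A : Subgroup P), cj (h : P) D.newB with hC₁
  have hC₁B' : C₁ ≤ D.newB := by
    have := iInf_le (fun h : (N ⊔ A : Subgroup P) => cj (h : P) D.newB) ⟨1, (N ⊔ A).one_mem⟩
    simpa [cj_one] using this
  have hC₁mem : Cfsg.IsCentralizerLarge C₁ :=
    large_iInf _ (fun h => mem_cj_iff_large _ hB'mem)
  have hC₁ab : C₁ ≤ cz C₁ := (hC₁B'.trans hB'ab).trans (cz_anti hC₁B')
  have hCC₁ : Cd B A ≤ C₁ := by
    apply le_iInf
    intro h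
    have h1 : cj (h : P)⁻¹ (Cd B A) = Cd B A :=
      cj_eq_self_of_mem_normalizer ((Subgroup.normalizer _).inv_mem (hHC h.2))
    have h2 : cj (h : P)⁻¹ (Cd B A) ≤ D.newB := by
      rw [h1]; exact le_sup_right
    have := cj_le_comm.mp h2
    rwa [inv_inv] at this
  have hwC₁ : w ∈ C₁ := by
    rw [hC₁, Subgroup.mem_iInf]
    intro h
    rw [mem_cj]
    have hw'W : (h : P)⁻¹ * w * h ∈ Wd B A := by
      have : w ∈ cj (h : P) (Wd B A) := by
        rw [cj_eq_self_of_mem_normalizer (hHW h.2)]; exact hwW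
      exact mem_cj.mp this
    have hc : w⁻¹ * ((h : P)⁻¹ * w * h) ∈ Cd B A := hfix h h.2
    apply D.mem_newB_of_fixed hw'W
    intro a ha
    have hca : w⁻¹ * (a⁻¹ * w * a) ∈ Cd B A := hfix a (le_sup_right (a := N) ha)
    have hcc : a⁻¹ * (w⁻¹ * ((h : P)⁻¹ * w * h)) * a ∈ Cd B A := by
      have : w⁻¹ * ((h : P)⁻¹ * w * h) ∈ cj a (Cd B A) := by rw [hAC a ha]; exact hc
      exact mem_cj.mp this
    have e : ((h : P)⁻¹ * w * h)⁻¹ * (a⁻¹ * ((h : P)⁻¹ * w * h) * a) =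
        (w⁻¹ * ((h : P)⁻¹ * w * h))⁻¹ * (w⁻¹ * (a⁻¹ * w * a)) *
          (a⁻¹ * (w⁻¹ * ((h : P)⁻¹ * w * h)) * a) := by group
    rw [e]
    exact (Cd B A).mul_mem ((Cd B A).mul_mem ((Cd B A).inv_mem hc) hca) hcc
  have hHC₁ : ∀ g ∈ N ⊔ A, cj g C₁ = C₁ := by
    intro g hg
    have h1 : C₁ ≤ cj g C₁ := by
      rw [hC₁, cj_iInf]
      apply le_iInf
      intro h
      rw [← cj_mul]
      exact iInf_le (fun h : (N ⊔ A : Subgroup P) => cj (h : P) D.newB)
        ⟨g * h, (N ⊔ A).mul_mem hg h.2⟩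
    exact (eq_of_le_of_card_ge' h1 (le_of_eq (card_cj g _))).symm
  have hB₁ : MaxAb ((B ⊓ cz C₁) ⊔ C₁) := maxAb_shift hB hC₁mem hC₁ab
  refine ⟨(B ⊓ cz C₁) ⊔ C₁, hB₁, ?_, ?_⟩
  · have hle : N ≤ NA ((B ⊓ cz C₁) ⊔ C₁) := by
      rw [← hN]
      apply sSup_le
      rintro A' ⟨hA', hA'B⟩
      apply le_NA hA'
      have hA'N : A' ≤ N := hN ▸ le_NA hA' hA'B
      have hA'C₁ : A' ≤ Subgroup.normalizer ((C₁ : Subgroup P) : Set P) := fun x hx =>
        mem_normalizer_of_cj_eq_self (hHC₁ x (le_sup_left (b := A) (hA'N hx)))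
      have h1 : A' ≤ Subgroup.normalizer ((cz C₁ : Subgroup P) : Set P) :=
        hA'C₁.trans (normalizer_le_normalizer_cz C₁)
      have h2 : A' ≤ Subgroup.normalizer ((B ⊓ cz C₁ : Subgroup P) : Set P) :=
        (le_inf hA'B h1).trans (normalizer_inf_le _ _)
      exact (le_inf h2 hA'C₁).trans (normalizer_sup_le _ _)
    exact (eq_of_le_of_card_ge' hle (hmax _ hB₁)).symm
  · have h1 : C₁ ≤ Cd ((B ⊓ cz C₁) ⊔ C₁) A := by
      apply le_iInf
      intro a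
      have h2 : cj (a : P)⁻¹ C₁ = C₁ :=
        hHC₁ _ ((N ⊔ A).inv_mem (le_sup_right (a := N) a.2))
      have h3 : cj (a : P)⁻¹ C₁ ≤ (B ⊓ cz C₁) ⊔ C₁ := by rw [h2]; exact le_sup_right
      have := cj_le_comm.mp h3
      rwa [inv_inv] at this
    have h2 : Nat.card (Cd B A) < Nat.card C₁ := by
      by_contra hcon
      push Not at hcon
      have h3 := eq_of_le_of_card_ge' hCC₁ hcon
      exact hwC (h3 ▸ hwC₁)
    exact lt_of_lt_of_le h2 (Helper15.card_le_of_le h1)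

/-- **Main theorem.** Some maximal abelian member of the Chermak–Delgado lattice of a finite
`p`-group is normalised by every abelian subgroup of largest order. -/
theorem exists_maxAb_normalized {p : ℕ} [Fact p.Prime] [Finite P] (hP : IsPGroup p P) :
    ∃ B : Subgroup P, MaxAb B ∧
      ∀ A ∈ Cfsg.maxAbelianSubgroups P, A ≤ Subgroup.normalizer (B : Set P) := by
  classical
  -- choose `B₀` with `|NA B₀|` maximal
  have hfin : {B : Subgroup P | MaxAb B}.Finite := Set.toFinite _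
  have hne : {B : Subgroup P | MaxAb B}.Nonempty := exists_maxAb
  obtain ⟨B₀, hB₀, hmax₀⟩ := hfin.exists_maximalFor (fun B : Subgroup P => Nat.card (NA B)) _ hne
  have hmax : ∀ B' : Subgroup P, MaxAb B' → Nat.card (NA B') ≤ Nat.card (NA B₀) := by
    intro B' hB'
    by_contra hlt
    push Not at hlt
    exact absurd (hmax₀ hB' hlt.le) (not_le.mpr hlt)
  by_contra hcon
  have hnot : ∃ A ∈ Cfsg.maxAbelianSubgroups P, ¬ A ≤ Subgroup.normalizer (B₀ : Set P) := by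
    by_contra h
    push Not at h
    exact hcon ⟨B₀, hB₀, h⟩
  obtain ⟨A, hA, hAN, hAnot⟩ := exists_normalizing hP B₀ hnot
  -- among the `B` with `NA B = NA B₀` choose one with the largest `A`-core
  have hfin2 : {B : Subgroup P | MaxAb B ∧ NA B = NA B₀}.Finite := Set.toFinite _
  have hne2 : {B : Subgroup P | MaxAb B ∧ NA B = NA B₀}.Nonempty := ⟨B₀, hB₀, rfl⟩
  obtain ⟨B, hB, hmaxB⟩ :=
    hfin2.exists_maximalFor (fun B : Subgroup P => Nat.card (Cd B A)) _ hne2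
  obtain ⟨B₁, hB₁, hNB₁, hlt⟩ := step hP hB.1 hB.2 hmax hA hAN hAnot
  have h5 : Nat.card (Cd B₁ A) ≤ Nat.card (Cd B A) :=
    hmaxB (show B₁ ∈ {B : Subgroup P | MaxAb B ∧ NA B = NA B₀} from ⟨hB₁, hNB₁⟩) hlt.le
  omega

/-- **S3008, part 2.** Some minimal centrally large subgroup of a finite `p`-group `P` is normalised
by `J(P)` and by `P_MCL`. -/
theorem exists_mcl_normalized {p : ℕ} [Fact p.Prime] [Finite P] (hP : IsPGroup p P) :
    ∃ Q : Subgroup P, Cfsg.IsMinimalCentrallyLarge Q ∧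
      Cfsg.thompsonSubgroupA P ≤ Subgroup.normalizer (Q : Set P) ∧
      Cfsg.minimalCentrallyLargeJoin P ≤ Subgroup.normalizer (Q : Set P) := by
  obtain ⟨B, hB, hnorm⟩ := exists_maxAb_normalized hP
  have hQ := hB.mcl
  have hJ : Cfsg.thompsonSubgroupA P ≤ Subgroup.normalizer ((cz B : Subgroup P) : Set P) := by
    unfold Cfsg.thompsonSubgroupA
    apply sSup_le
    intro A hA
    exact (hnorm A hA).trans (normalizer_le_normalizer_cz B)
  refine ⟨cz B, hQ, hJ, ?_⟩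
  unfold Cfsg.minimalCentrallyLargeJoin
  apply sSup_le
  intro R hR
  -- R = (R ∩ Q) Z(R), and Z(R) ≤ J
  have h1 : (R ⊓ cz B) ⊔ cz R = R := mcl_eq_inf_sup_center R (cz B) hR hQ.1
  obtain ⟨A, hA⟩ := exists_maxAbelian (P := P)
  have h2 := (cl_sup_maxAbelian R A hR.1 hA).2.2.1
  obtain ⟨-, hR2⟩ := cl_imp R hR.1
  have h3 : cz R ≤ Cfsg.thompsonSubgroupA P := by
    have h4 : cz R ≤ (R ⊓ A) ⊔ (R ⊓ cz R) := by
      rw [← hR2]; exact le_sup_right
    exact h4.trans (le_sSup h2)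
  rw [← h1]
  exact sup_le (inf_le_right.trans Subgroup.le_normalizer) (h3.trans hJ)

end Cfsg.Agent.Helper12.CLN
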