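import Mathlib
import Cfsg.Prelude.Def_Characters
import Cfsg.Agent.Helper5.Central

set_option autoImplicit false

namespace Cfsg.Agent.Helper12

open Cfsg

/-- A central element acts on an irreducible character by a scalar. -/
theorem exists_central_scalar {G : Type*} [Group G] {χ : G → ℂ} (hχ : IsIrrCharacter G χ)
    (z : G) (hz : ∀ g : G, z * g = g * z) : ∃ ω : ℂ, ∀ g : G, χ (z * g) = ω * χ g := by
  obtain ⟨n, ρ, hirr, rfl⟩ := hχ
  have := hirr
  have hT : ∀ g : G, ρ z ∘ₗ ρ g = ρ g ∘ₗ ρ z := by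
    intro g
    rw [← Module.End.mul_eq_comp, ← Module.End.mul_eq_comp, ← map_mul, ← map_mul, hz g]
  obtain ⟨c, hc⟩ := Cfsg.Agent.Helper5.schur_scalar ρ (ρ z) hT
  refine ⟨c, fun g => ?_⟩
  unfold Representation.character
  rw [map_mul, hc, Module.End.mul_eq_comp, LinearMap.smul_comp, LinearMap.id_comp, map_smul,
    smul_eq_mul]

end Cfsg.Agent.Helper12
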