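import Mathlib

set_option autoImplicit false

namespace Cfsg.Agent.Helper12

/-- A partial bijection on a finite type, given as a relation, extends to a permutation. -/
theorem exists_perm_of_rel {α : Type*} [Finite α] (R : α → α → Prop)
    (hf : ∀ a b b', R a b → R a b' → b = b') (hi : ∀ a a' b, R a b → R a' b → a = a') :
    ∃ σ : Equiv.Perm α, ∀ a b, R a b → σ a = b := by
  classical
  let p : α → Prop := fun a => ∃ b, R a b
  let q : α → Prop := fun b => ∃ a, R a b
  let e : {a // p a} ≃ {b // q b} :=
    { toFun := fun x => ⟨Classical.choose x.2, ⟨x.1, Classical.choose_spec x.2⟩⟩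
      invFun := fun y => ⟨Classical.choose y.2, ⟨y.1, Classical.choose_spec y.2⟩⟩
      left_inv := by
        rintro ⟨a, ha⟩
        apply Subtype.ext
        simp only
        have h1 := Classical.choose_spec ha
        have h2 : q (Classical.choose ha) := ⟨a, h1⟩
        have h3 := Classical.choose_spec h2
        exact hi _ _ _ h3 h1
      right_inv := by
        rintro ⟨b, hb⟩
        apply Subtype.ext
        simp only
        have h1 := Classical.choose_spec hb
        have h2 : p (Classical.choose hb) := ⟨b, h1⟩
        have h3 := Classical.choose_spec h2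
        exact hf _ _ _ h3 h1 }
  refine ⟨e.extendSubtype, ?_⟩
  intro a b hab
  have ha : p a := ⟨b, hab⟩
  rw [Equiv.extendSubtype_apply_of_mem e a ha]
  exact hf _ _ _ (Classical.choose_spec ha) hab

/-- The value of a letter under an assignment of generators. -/
def letterVal {G : Type*} [Group G] (f : ℕ → G) (x : ℕ × Bool) : G :=
  bif x.2 then f x.1 else (f x.1)⁻¹

/-- The relation forcing the word `L` to move the last point down to `0`. -/
def wordRel (L : List (ℕ × Bool)) (i : ℕ) (a b : Fin (L.length + 1)) : Prop :=
  ∃ (k : ℕ) (hk : k < L.length),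
    (L[k] = (i, true) ∧ a.val = k + 1 ∧ b.val = k) ∨ (L[k] = (i, false) ∧ a.val = k ∧ b.val = k + 1)

theorem wordRel_functional (L : List (ℕ × Bool)) (hL : FreeGroup.IsReduced L) (i : ℕ)
    (a b b' : Fin (L.length + 1)) (h1 : wordRel L i a b) (h2 : wordRel L i a b') : b = b' := by
  unfold FreeGroup.IsReduced at hL
  rw [List.isChain_iff_getElem] at hL
  obtain ⟨k, hk, h1 | h1⟩ := h1 <;> obtain ⟨k', hk', h2 | h2⟩ := h2
  · apply Fin.ext; omega
  · exfalso
    have hkk : k' = k + 1 := by omega
    subst hkk
    have := hL k hk'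
    rw [h1.1, h2.1] at this
    simpa using this rfl
  · exfalso
    have hkk : k = k' + 1 := by omega
    subst hkk
    have := hL k' hk
    rw [h1.1, h2.1] at this
    simpa using this rfl
  · apply Fin.ext; omega

theorem wordRel_injective (L : List (ℕ × Bool)) (hL : FreeGroup.IsReduced L) (i : ℕ)
    (a a' b : Fin (L.length + 1)) (h1 : wordRel L i a b) (h2 : wordRel L i a' b) : a = a' := by
  unfold FreeGroup.IsReduced at hL
  rw [List.isChain_iff_getElem] at hL
  obtain ⟨k, hk, h1 | h1⟩ := h1 <;> obtain ⟨k', hk', h2 | h2⟩ := h2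
  · apply Fin.ext; omega
  · exfalso
    have hkk : k = k' + 1 := by omega
    subst hkk
    have := hL k' hk
    rw [h1.1, h2.1] at this
    simpa using this rfl
  · exfalso
    have hkk : k' = k + 1 := by omega
    subst hkk
    have := hL k hk'
    rw [h1.1, h2.1] at this
    simpa using this rfl
  · apply Fin.ext; omega

/-- For a reduced word there are permutations of `length + 1` points on which the word moves the
last point to the first. -/
theorem exists_perms_word_moves (L : List (ℕ × Bool)) (hL : FreeGroup.IsReduced L) :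
    ∃ σ : ℕ → Equiv.Perm (Fin (L.length + 1)),
      (L.map (letterVal σ)).prod (Fin.last L.length) = 0 := by
  have hex : ∀ i : ℕ, ∃ σ : Equiv.Perm (Fin (L.length + 1)), ∀ a b, wordRel L i a b → σ a = b :=
    fun i => exists_perm_of_rel (wordRel L i) (wordRel_functional L hL i) (wordRel_injective L hL i)
  choose σ hσ using hex
  refine ⟨σ, ?_⟩
  have key : ∀ d : ℕ, ∀ k : ℕ, (hk : k ≤ L.length) → d = L.length - k →
      ((L.drop k).map (letterVal σ)).prod (Fin.last L.length) = ⟨k, by omega⟩ := by
    intro d
    induction d with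
    | zero =>
      intro k hk hd
      have : k = L.length := by omega
      subst this
      simp
      rfl
    | succ d ih =>
      intro k hk hd
      have hk' : k < L.length := by omega
      rw [List.drop_eq_getElem_cons hk', List.map_cons, List.prod_cons, Equiv.Perm.mul_apply,
        ih (k + 1) (by omega) (by omega)]
      rcases hx : L[k] with ⟨i, b⟩
      cases b
      · -- inverse letter
        simp only [letterVal, cond_false]
        rw [Equiv.Perm.inv_eq_iff_eq]
        symm
        apply hσ
        exact ⟨k, hk', Or.inr ⟨hx, rfl, rfl⟩⟩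
      · simp only [letterVal, cond_true]
        apply hσ
        exact ⟨k, hk', Or.inl ⟨hx, rfl, rfl⟩⟩
  have := key L.length 0 (Nat.zero_le _) (by omega)
  simpa using this

theorem lift_mk_eq_prod_letterVal {G : Type*} [Group G] (f : ℕ → G) (L : List (ℕ × Bool)) :
    FreeGroup.lift f (FreeGroup.mk L) = (L.map (letterVal f)).prod := by
  rw [FreeGroup.lift_mk]
  rfl

/-- A nontrivial element of a free group is not a law in some finite symmetric group. -/
theorem exists_perms_lift_ne_one (w : FreeGroup ℕ) (hw : w ≠ 1) :
    ∃ (m : ℕ) (σ : ℕ → Equiv.Perm (Fin m)), FreeGroup.lift σ w ≠ 1 := by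
  obtain ⟨L, hL⟩ : ∃ L, L = w.toWord := ⟨_, rfl⟩
  have hLred : FreeGroup.IsReduced L := hL ▸ FreeGroup.isReduced_toWord
  have hLw : FreeGroup.mk L = w := by rw [hL, FreeGroup.mk_toWord]
  obtain ⟨σ, hσ⟩ := exists_perms_word_moves L hLred
  refine ⟨L.length + 1, σ, ?_⟩
  intro h
  rw [← hLw, lift_mk_eq_prod_letterVal] at h
  rw [h] at hσ
  have hlen : L.length ≠ 0 := by
    intro h0
    apply hw
    rw [← FreeGroup.toWord_eq_nil_iff, ← hL]
    exact List.length_eq_zero_iff.1 h0
  have : (Fin.last L.length).val = (0 : Fin (L.length + 1)).val := by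
    rw [← hσ]; rfl
  simp only [Fin.val_last, Fin.val_zero] at this
  exact hlen this

/-- An injective homomorphism from a symmetric group into a larger alternating group. -/
theorem exists_injective_hom_to_alternating (m n : ℕ) (h : 2 * m ≤ n) :
    ∃ φ : Equiv.Perm (Fin m) →* alternatingGroup (Fin n), Function.Injective φ := by
  classical
  have hcard : Fintype.card (Fin m ⊕ Fin m) ≤ Fintype.card (Fin n) := by
    simp only [Fintype.card_sum, Fintype.card_fin]; omega
  obtain ⟨ι⟩ := Function.Embedding.nonempty_of_card_le hcard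
  let e : (Fin m ⊕ Fin m) ≃ {x : Fin n // x ∈ Set.range ι} := Equiv.ofInjective ι ι.injective
  let diag : Equiv.Perm (Fin m) →* Equiv.Perm (Fin m) × Equiv.Perm (Fin m) :=
    (MonoidHom.id _).prod (MonoidHom.id _)
  let ψ : Equiv.Perm (Fin m) →* Equiv.Perm (Fin n) :=
    (Equiv.Perm.extendDomainHom e).comp ((Equiv.Perm.sumCongrHom (Fin m) (Fin m)).comp diag)
  have hψinj : Function.Injective ψ := by
    apply (Equiv.Perm.extendDomainHom_injective e).comp
    apply Equiv.Perm.sumCongrHom_injective.comp
    intro a b hab
    exact congrArg Prod.fst hab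
  have hψmem : ∀ σ, ψ σ ∈ alternatingGroup (Fin n) := by
    intro σ
    rw [Equiv.Perm.mem_alternatingGroup]
    show Equiv.Perm.sign ((Equiv.Perm.sumCongr σ σ).extendDomain e) = 1
    rw [Equiv.Perm.sign_extendDomain, Equiv.Perm.sign_sumCongr, Int.units_mul_self]
  refine ⟨ψ.codRestrict (alternatingGroup (Fin n)) hψmem, ?_⟩
  intro a b hab
  apply hψinj
  have := congrArg Subtype.val hab
  simpa using this

end Cfsg.Agent.Helper12
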