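import Mathlib

set_option autoImplicit false

/-! A word "fails noncentrally" on a group: some substitution gives a noncentral value.
Transfer along injective and surjective homomorphisms, commutator subgroups, central quotients. -/

namespace Cfsg.Agent.Helper12

/-- Some substitution of elements of `G` into `w` is not central. -/
def Fails (G : Type*) [Group G] (w : FreeGroup ℕ) : Prop :=
  ∃ f : ℕ → G, FreeGroup.lift f w ∉ Subgroup.center G

theorem lift_comp_hom {G H : Type*} [Group G] [Group H] (ψ : G →* H) (f : ℕ → G)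
    (w : FreeGroup ℕ) : FreeGroup.lift (fun i => ψ (f i)) w = ψ (FreeGroup.lift f w) := by
  have hcomp : FreeGroup.lift (fun i => ψ (f i)) = ψ.comp (FreeGroup.lift f) := by
    apply FreeGroup.ext_hom
    intro i
    simp
  rw [hcomp, MonoidHom.comp_apply]

theorem Fails.of_injective {G H : Type*} [Group G] [Group H] {w : FreeGroup ℕ}
    (h : Fails G w) (ψ : G →* H) (hψ : Function.Injective ψ) : Fails H w := by
  obtain ⟨f, hf⟩ := h
  refine ⟨fun i => ψ (f i), ?_⟩
  rw [lift_comp_hom]
  intro hc
  apply hf
  rw [Subgroup.mem_center_iff] at hc ⊢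
  intro g
  apply hψ
  rw [map_mul, map_mul]
  exact hc (ψ g)

theorem Fails.of_surjective {G H : Type*} [Group G] [Group H] {w : FreeGroup ℕ}
    (h : Fails G w) (π : H →* G) (hπ : Function.Surjective π) : Fails H w := by
  obtain ⟨f, hf⟩ := h
  choose g hg using hπ
  refine ⟨fun i => g (f i), ?_⟩
  intro hc
  apply hf
  have h1 : FreeGroup.lift f w = π (FreeGroup.lift (fun i => g (f i)) w) := by
    rw [← lift_comp_hom]
    congr 2
    funext i
    exact (hg (f i)).symm
  rw [h1, Subgroup.mem_center_iff] at *
  intro x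
  rw [← hg x, ← map_mul, ← map_mul, hc (g x)]

theorem Fails.of_mulEquiv {G H : Type*} [Group G] [Group H] {w : FreeGroup ℕ}
    (h : Fails G w) (e : G ≃* H) : Fails H w :=
  h.of_injective e.toMonoidHom e.injective

/-- If `w` fails noncentrally on `H`, then `w` is not a law in `H ⧸ Z(H)`. -/
theorem Fails.not_law_quotient_center {H : Type*} [Group H] {w : FreeGroup ℕ}
    (h : Fails H w) : ∃ f : ℕ → H ⧸ Subgroup.center H, FreeGroup.lift f w ≠ 1 := by
  obtain ⟨f, hf⟩ := h
  refine ⟨fun i => QuotientGroup.mk' (Subgroup.center H) (f i), ?_⟩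
  rw [lift_comp_hom]
  intro hc
  apply hf
  exact (QuotientGroup.eq_one_iff _).1 hc

/-- If `w` is a law in a group isomorphic to `H ⧸ Z(H)`, then `w` does not fail noncentrally
on `H`. -/
theorem not_fails_of_law {G H : Type*} [Group G] [Group H] {w : FreeGroup ℕ}
    (e : G ≃* H ⧸ Subgroup.center H) (hlaw : ∀ f : ℕ → G, FreeGroup.lift f w = 1) :
    ¬ Fails H w := by
  intro h
  obtain ⟨f, hf⟩ := h.not_law_quotient_center
  apply hf
  have := hlaw (fun i => e.symm (f i))
  have h2 := lift_comp_hom e.symm.toMonoidHom f w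
  simp only [MulEquiv.toMonoidHom_eq_coe, MonoidHom.coe_coe] at h2
  rw [h2] at this
  exact (map_eq_one_iff e.symm e.symm.injective).1 this

/-- A perfect group embedded in `O` lands in the commutator subgroup of `O`. -/
theorem Fails.to_commutator {K O : Type*} [Group K] [Group O] {w : FreeGroup ℕ}
    (h : Fails K w) (hK : commutator K = ⊤) (ψ : K →* O) (hψ : Function.Injective ψ) :
    Fails (commutator O) w := by
  have hmem : ∀ k : K, ψ k ∈ commutator O := by
    intro k
    have hk : k ∈ commutator K := by rw [hK]; exact Subgroup.mem_top k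
    rw [commutator_def] at hk ⊢
    have h1 : ψ k ∈ Subgroup.map ψ ⁅(⊤ : Subgroup K), ⊤⁆ := Subgroup.mem_map_of_mem ψ hk
    rw [Subgroup.map_commutator] at h1
    exact Subgroup.commutator_mono le_top le_top h1
  refine h.of_injective (ψ.codRestrict (commutator O) hmem) ?_
  intro a b hab
  apply hψ
  have := congrArg Subtype.val hab
  simpa using this

end Cfsg.Agent.Helper12
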