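import Mathlib
import Cfsg.Agent.Helper12.FreeWord

set_option autoImplicit false

open Polynomial

namespace Cfsg.Agent.Helper12

variable {F : Type*} [Field F]

/-- One ping-pong step on pairs of polynomials. -/
theorem pp_step (p : F[X]) (a : ℕ) (ha : 1 ≤ a) (hp : p.degree = a) (f g : F[X])
    (hne : f ≠ 0 ∨ g ≠ 0) (hnot : ¬ (g.degree = f.degree + a ∧ f ≠ 0)) :
    (f + p * (g + p * f)).degree = (g + p * f).degree + a ∧ g + p * f ≠ 0 := by
  by_cases hf : f = 0
  · subst hf
    have hg : g ≠ 0 := by simpa using hne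
    simp only [mul_zero, add_zero, zero_add, ne_eq, hg, not_false_eq_true, and_true]
    rw [degree_mul, hp, add_comm]
  by_cases hg : g = 0
  · subst hg
    simp only [zero_add]
    have hp0 : p ≠ 0 := by
      intro h; rw [h, degree_zero] at hp; exact WithBot.bot_ne_coe hp
    refine ⟨?_, mul_ne_zero hp0 hf⟩
    have h1 : f.degree < (p * (p * f)).degree := by
      rw [degree_mul, degree_mul, hp, degree_eq_natDegree hf]
      norm_cast
      omega
    rw [degree_add_eq_right_of_degree_lt h1, degree_mul, hp, add_comm]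
  have hdf := degree_eq_natDegree hf
  have hdg := degree_eq_natDegree hg
  have hcase : g.natDegree < f.natDegree + a ∨ f.natDegree + a < g.natDegree := by
    rcases lt_trichotomy g.natDegree (f.natDegree + a) with h | h | h
    · exact Or.inl h
    · exfalso
      apply hnot
      refine ⟨?_, hf⟩
      rw [hdf, hdg]
      exact_mod_cast h
    · exact Or.inr h
  have hpf : (p * f).degree = ((a + f.natDegree : ℕ) : WithBot ℕ) := by
    rw [degree_mul, hp, hdf]; norm_cast
  rcases hcase with h | h
  · have h1 : g.degree < (p * f).degree := by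
      rw [hpf, hdg]; norm_cast; omega
    have h2 : (g + p * f).degree = ((a + f.natDegree : ℕ) : WithBot ℕ) := by
      rw [degree_add_eq_right_of_degree_lt h1, hpf]
    have h3 : g + p * f ≠ 0 := by
      intro h0; rw [h0, degree_zero] at h2; exact WithBot.bot_ne_coe h2
    refine ⟨?_, h3⟩
    have h4 : (p * (g + p * f)).degree = ((a + (a + f.natDegree) : ℕ) : WithBot ℕ) := by
      rw [degree_mul, hp, h2]; norm_cast
    have h5 : f.degree < (p * (g + p * f)).degree := by
      rw [h4, hdf]; norm_cast; omega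
    rw [degree_add_eq_right_of_degree_lt h5, h4, h2]
    norm_cast
    omega
  · have h1 : (p * f).degree < g.degree := by
      rw [hpf, hdg]; norm_cast; omega
    have h2 : (g + p * f).degree = (g.natDegree : WithBot ℕ) := by
      rw [degree_add_eq_left_of_degree_lt h1, hdg]
    have h3 : g + p * f ≠ 0 := by
      intro h0; rw [h0, degree_zero] at h2; exact WithBot.bot_ne_coe h2
    refine ⟨?_, h3⟩
    have h4 : (p * (g + p * f)).degree = ((a + g.natDegree : ℕ) : WithBot ℕ) := by
      rw [degree_mul, hp, h2]; norm_cast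
    have h5 : f.degree < (p * (g + p * f)).degree := by
      rw [h4, hdf]; norm_cast; omega
    rw [degree_add_eq_right_of_degree_lt h5, h4, h2]
    norm_cast
    omega

/-- The ping-pong region attached to a letter. -/
def ppIn (x : ℕ × Bool) (f g : F[X]) : Prop :=
  bif x.2 then (f.degree = g.degree + ((x.1 + 1 : ℕ) : WithBot ℕ) ∧ g ≠ 0)
  else (g.degree = f.degree + ((x.1 + 1 : ℕ) : WithBot ℕ) ∧ f ≠ 0)

theorem ppIn_ne_zero (x : ℕ × Bool) (f g : F[X]) (h : ppIn x f g) : f ≠ 0 ∨ g ≠ 0 := by
  rcases x with ⟨i, b⟩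
  cases b
  · exact Or.inl h.2
  · exact Or.inr h.2

theorem ppIn_unique (x y : ℕ × Bool) (f g : F[X]) (hx : ppIn x f g) (hy : ppIn y f g) : x = y := by
  rcases x with ⟨i, b⟩
  rcases y with ⟨j, c⟩
  have key : ∀ (i j : ℕ) (u v : F[X]), u.degree = v.degree + ((i + 1 : ℕ) : WithBot ℕ) → v ≠ 0 →
      (u.degree = v.degree + ((j + 1 : ℕ) : WithBot ℕ) → i = j) ∧
      (v.degree = u.degree + ((j + 1 : ℕ) : WithBot ℕ) → False) := by
    intro i j u v h1 hv
    have hu : u ≠ 0 := by
      intro h0
      rw [h0, degree_zero, degree_eq_natDegree hv] at h1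
      exact WithBot.bot_ne_coe h1
    rw [degree_eq_natDegree hv, degree_eq_natDegree hu] at *
    constructor
    · intro h2
      rw [h1] at h2
      have : v.natDegree + (i + 1) = v.natDegree + (j + 1) := by exact_mod_cast h2
      omega
    · intro h2
      have h1' : u.natDegree = v.natDegree + (i + 1) := by exact_mod_cast h1
      have h2' : v.natDegree = u.natDegree + (j + 1) := by exact_mod_cast h2
      omega
  cases b <;> cases c
  · have := (key i j g f hx.1 hx.2).1 hy.1
    rw [this]
  · exact ((key i j g f hx.1 hx.2).2 hy.1).elim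
  · exact ((key i j f g hx.1 hx.2).2 hy.1).elim
  · have := (key i j f g hx.1 hx.2).1 hy.1
    rw [this]

/-- The polynomial matrix attached to a letter. -/
noncomputable def ppMat (x : ℕ × Bool) : Matrix (Fin 2) (Fin 2) F[X] :=
  bif x.2 then !![1 + X ^ (2 * (x.1 + 1)), X ^ (x.1 + 1); X ^ (x.1 + 1), 1]
  else !![1, -X ^ (x.1 + 1); -X ^ (x.1 + 1), 1 + X ^ (2 * (x.1 + 1))]

theorem ppMat_step (x : ℕ × Bool) (f g : F[X]) (hne : f ≠ 0 ∨ g ≠ 0)
    (hnot : ¬ ppIn (x.1, !x.2) f g) :
    ppIn x ((ppMat (F := F) x) 0 0 * f + (ppMat (F := F) x) 0 1 * g)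
      ((ppMat (F := F) x) 1 0 * f + (ppMat (F := F) x) 1 1 * g) := by
  rcases x with ⟨i, b⟩
  cases b
  · -- inverse letter
    have h := pp_step (-X ^ (i + 1) : F[X]) (i + 1) (by omega)
      (by rw [degree_neg, degree_X_pow]) g f hne.symm hnot
    simp only [ppMat, ppIn, cond_false, Matrix.of_apply, Matrix.cons_val', Matrix.cons_val_zero,
      Matrix.cons_val_one, Matrix.cons_val_fin_one]
    convert h using 2 <;> ring_nf
  · have h := pp_step (X ^ (i + 1) : F[X]) (i + 1) (by omega)
      (by rw [degree_X_pow]) f g hne hnot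
    simp only [ppMat, ppIn, cond_true, Matrix.of_apply, Matrix.cons_val', Matrix.cons_val_zero,
      Matrix.cons_val_one, Matrix.cons_val_fin_one]
    convert h using 2 <;> ring_nf

theorem ppIn_one_one (x : ℕ × Bool) : ¬ ppIn (F := F) x 1 1 := by
  rcases x with ⟨i, b⟩
  cases b <;>
  · simp only [ppIn, cond_false, cond_true, degree_one]
    rintro ⟨h, -⟩
    have : (0 : ℕ) = 0 + (i + 1) := by exact_mod_cast h
    omega

theorem ppIn_diag (x : ℕ × Bool) (s : F[X]) : ¬ ppIn (F := F) x s s := by
  rcases x with ⟨i, b⟩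
  cases b <;>
  · simp only [ppIn, cond_false, cond_true]
    rintro ⟨h, hs⟩
    rw [degree_eq_natDegree hs] at h
    have : s.natDegree = s.natDegree + (i + 1) := by exact_mod_cast h
    omega

/-- The product of the letter matrices along a word. -/
noncomputable def ppProd (F : Type*) [Field F] (L : List (ℕ × Bool)) : Matrix (Fin 2) (Fin 2) F[X] :=
  (L.map (ppMat (F := F))).prod

theorem ppProd_cons (x : ℕ × Bool) (L : List (ℕ × Bool)) :
    ppProd F (x :: L) = ppMat x * ppProd F L := by
  simp [ppProd]

theorem ppProd_vec (L : List (ℕ × Bool)) (hL : FreeGroup.IsReduced L) :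
    ∀ x L', L = x :: L' →
      ppIn x (ppProd F L 0 0 + ppProd F L 0 1) (ppProd F L 1 0 + ppProd F L 1 1) := by
  induction L with
  | nil => intro x L' h; cases h
  | cons y L ih =>
    intro x L' h
    obtain ⟨rfl, rfl⟩ := List.cons.inj h
    have hred : FreeGroup.IsReduced L := by
      unfold FreeGroup.IsReduced at hL ⊢
      exact hL.tail
    have hstep := ppMat_step (F := F) y (ppProd F L 0 0 + ppProd F L 0 1)
      (ppProd F L 1 0 + ppProd F L 1 1)
    have hgoal : ∀ (hne : ppProd F L 0 0 + ppProd F L 0 1 ≠ 0 ∨ ppProd F L 1 0 + ppProd F L 1 1 ≠ 0)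
        (hnot : ¬ ppIn (y.1, !y.2) (ppProd F L 0 0 + ppProd F L 0 1)
          (ppProd F L 1 0 + ppProd F L 1 1)),
        ppIn y (ppProd F (y :: L) 0 0 + ppProd F (y :: L) 0 1)
          (ppProd F (y :: L) 1 0 + ppProd F (y :: L) 1 1) := by
      intro hne hnot
      have := hstep hne hnot
      rw [ppProd_cons]
      simp only [Matrix.mul_apply, Fin.sum_univ_two]
      convert this using 1 <;> ring
    cases L with
    | nil =>
      have h1 : ppProd F [] = 1 := by simp [ppProd]
      apply hgoal
      · left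
        rw [h1]
        simp
      · rw [h1]
        simpa using ppIn_one_one (F := F) (y.1, !y.2)
    | cons z L2 =>
      have hz := ih hred z L2 rfl
      apply hgoal
      · exact ppIn_ne_zero _ _ _ hz
      · intro hcontra
        have heq := ppIn_unique _ _ _ _ hcontra hz
        unfold FreeGroup.IsReduced at hL
        rw [List.isChain_cons_cons] at hL
        have h1 := hL.1
        have h2 : y.1 = z.1 := by rw [← heq]
        have h3 : (!y.2) = z.2 := by rw [← heq]
        have h4 := h1 h2
        rw [h4] at h3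
        simp at h3

/-- Along a nonempty reduced word the product of the letter matrices is not a scalar matrix. -/
theorem ppProd_not_scalar (L : List (ℕ × Bool)) (hL : FreeGroup.IsReduced L) (hne : L ≠ []) :
    ¬ (ppProd F L 0 1 = 0 ∧ ppProd F L 1 0 = 0 ∧ ppProd F L 0 0 = ppProd F L 1 1) := by
  rintro ⟨h1, h2, h3⟩
  cases L with
  | nil => exact hne rfl
  | cons x L' =>
    have := ppProd_vec (F := F) (x :: L') hL x L' rfl
    rw [h1, h2, h3, add_zero, zero_add] at this
    exact ppIn_diag _ _ this

/-- Degree bound attached to a word. -/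
def ppBound (L : List (ℕ × Bool)) : ℕ := (L.map (fun x => 2 * (x.1 + 1))).sum

theorem ppMat_natDegree_le (x : ℕ × Bool) (i j : Fin 2) :
    ((ppMat (F := F) x) i j).natDegree ≤ 2 * (x.1 + 1) := by
  rcases x with ⟨k, b⟩
  cases b <;> fin_cases i <;> fin_cases j <;>
    simp only [ppMat, cond_false, cond_true, Matrix.of_apply, Matrix.cons_val', Matrix.cons_val_zero,
      Matrix.cons_val_one, Matrix.cons_val_fin_one, Fin.zero_eta, Fin.mk_one] <;>
    compute_degree <;> omega

theorem ppProd_natDegree_le (L : List (ℕ × Bool)) (i j : Fin 2) :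
    ((ppProd F L) i j).natDegree ≤ ppBound L := by
  induction L generalizing i j with
  | nil =>
    have h1 : ppProd F [] = 1 := by simp [ppProd]
    rw [h1]
    by_cases h : i = j
    · subst h; simp
    · simp [Matrix.one_apply_ne h]
  | cons x L ih =>
    rw [ppProd_cons]
    have hb : ppBound (x :: L) = 2 * (x.1 + 1) + ppBound L := by simp [ppBound]
    rw [hb, Matrix.mul_apply, Fin.sum_univ_two]
    apply natDegree_add_le_of_degree_le
    · exact natDegree_mul_le_of_le (ppMat_natDegree_le x i 0) (ih 0 j)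
    · exact natDegree_mul_le_of_le (ppMat_natDegree_le x i 1) (ih 1 j)

/-- The specialised generators. -/
def ppSL (c : F) (i : ℕ) : Matrix.SpecialLinearGroup (Fin 2) F :=
  ⟨!![1 + c ^ (2 * (i + 1)), c ^ (i + 1); c ^ (i + 1), 1], by
    rw [Matrix.det_fin_two_of]; ring⟩

theorem ppSL_letterVal (c : F) (x : ℕ × Bool) :
    ((letterVal (ppSL c) x : Matrix.SpecialLinearGroup (Fin 2) F) : Matrix (Fin 2) (Fin 2) F) =
      (ppMat (F := F) x).map (Polynomial.eval c) := by
  rcases x with ⟨i, b⟩
  cases b
  · simp only [letterVal]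
    simp only [cond_false]
    rw [Matrix.SpecialLinearGroup.coe_inv]
    simp only [ppSL, Matrix.adjugate_fin_two_of, ppMat, cond_false]
    ext a b
    fin_cases a <;> fin_cases b <;> simp
  · simp only [letterVal]
    simp only [cond_true]
    simp only [ppSL, ppMat, cond_true]
    ext a b
    fin_cases a <;> fin_cases b <;> simp

theorem ppSL_prod (c : F) (L : List (ℕ × Bool)) :
    (((L.map (letterVal (ppSL c))).prod : Matrix.SpecialLinearGroup (Fin 2) F) :
      Matrix (Fin 2) (Fin 2) F) = (ppProd F L).map (Polynomial.eval c) := by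
  induction L with
  | nil =>
    simp only [List.map_nil, List.prod_nil, Matrix.SpecialLinearGroup.coe_one, ppProd]
    ext a b
    by_cases h : a = b
    · subst h; simp
    · simp [Matrix.one_apply_ne h]
  | cons x L ih =>
    rw [List.map_cons, List.prod_cons, Matrix.SpecialLinearGroup.coe_mul, ih, ppSL_letterVal,
      ppProd_cons]
    have := Matrix.map_mul (L := ppMat (F := F) x) (M := ppProd F L) (f := Polynomial.evalRingHom c)
    simpa using this.symm

/-- A nontrivial word is not central-valued on `SL₂` of a sufficiently large finite field. -/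
theorem exists_sl2_lift_not_mem_center [Fintype F] (w : FreeGroup ℕ) (hw : w ≠ 1)
    (hcard : ppBound w.toWord < Fintype.card F) :
    ∃ f : ℕ → Matrix.SpecialLinearGroup (Fin 2) F,
      FreeGroup.lift f w ∉ Subgroup.center (Matrix.SpecialLinearGroup (Fin 2) F) := by
  have hne : w.toWord ≠ [] := by
    intro h
    exact hw (FreeGroup.toWord_eq_nil_iff.1 h)
  have hns := ppProd_not_scalar (F := F) w.toWord FreeGroup.isReduced_toWord hne
  -- a nonzero polynomial of bounded degree
  obtain ⟨Q, hQ0, hQdeg, hQ⟩ : ∃ Q : F[X], Q ≠ 0 ∧ Q.natDegree ≤ ppBound w.toWord ∧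
      ∀ c : F, Q.eval c ≠ 0 →
        ¬ ((ppProd F w.toWord).map (Polynomial.eval c) 0 1 = 0 ∧
          (ppProd F w.toWord).map (Polynomial.eval c) 1 0 = 0 ∧
          (ppProd F w.toWord).map (Polynomial.eval c) 0 0 =
            (ppProd F w.toWord).map (Polynomial.eval c) 1 1) := by
    by_cases h1 : ppProd F w.toWord 0 1 = 0
    · by_cases h2 : ppProd F w.toWord 1 0 = 0
      · have h3 : ppProd F w.toWord 0 0 ≠ ppProd F w.toWord 1 1 := fun h3 => hns ⟨h1, h2, h3⟩
        refine ⟨ppProd F w.toWord 0 0 - ppProd F w.toWord 1 1, sub_ne_zero.2 h3, ?_, ?_⟩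
        · refine (natDegree_sub_le _ _).trans (max_le ?_ ?_) <;> exact ppProd_natDegree_le _ _ _
        · intro c hc ⟨_, _, h⟩
          apply hc
          rw [eval_sub, sub_eq_zero]
          simpa using h
      · refine ⟨ppProd F w.toWord 1 0, h2, ppProd_natDegree_le _ _ _, ?_⟩
        intro c hc ⟨_, h, _⟩
        apply hc
        simpa using h
    · refine ⟨ppProd F w.toWord 0 1, h1, ppProd_natDegree_le _ _ _, ?_⟩
      intro c hc ⟨h, _, _⟩
      apply hc
      simpa using h
  obtain ⟨c, hc⟩ : ∃ c : F, Q.eval c ≠ 0 := by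
    by_contra hall
    push Not at hall
    apply hQ0
    exact Polynomial.eq_zero_of_natDegree_lt_card_of_eval_eq_zero Q (f := id)
      Function.injective_id hall (lt_of_le_of_lt hQdeg hcard)
  refine ⟨ppSL c, ?_⟩
  intro hmem
  rw [Matrix.SpecialLinearGroup.mem_center_iff] at hmem
  obtain ⟨r, -, hr⟩ := hmem
  have hlift : FreeGroup.lift (ppSL c) w = ((w.toWord).map (letterVal (ppSL c))).prod := by
    rw [← lift_mk_eq_prod_letterVal, FreeGroup.mk_toWord]
  rw [hlift, ppSL_prod] at hr
  apply hQ c hc
  rw [← hr]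
  simp

end Cfsg.Agent.Helper12
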