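import Mathlib
import Cfsg.Agent.Helper12.LawFail
import Cfsg.Agent.Helper12.PingPong
import Cfsg.Agent.Helper12.FreeWord

set_option autoImplicit false

/-! A nontrivial word fails noncentrally on `SL_m(F)` once `m` or `|F|` is large. -/

namespace Cfsg.Agent.Helper12

open Matrix

section emb

variable {ι κ : Type*} [Fintype ι] [DecidableEq ι] [Fintype κ] [DecidableEq κ]
  {k : Type*} [CommRing k]

/-- The matrix `1 + E (g - 1) R`. -/
def embMat (E : Matrix ι κ k) (R : Matrix κ ι k) (g : Matrix κ κ k) : Matrix ι ι k :=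
  1 + E * (g - 1) * R

omit [Fintype ι] in
theorem embMat_one (E : Matrix ι κ k) (R : Matrix κ ι k) : embMat E R 1 = 1 := by
  simp [embMat]

theorem embMat_mul {E : Matrix ι κ k} {R : Matrix κ ι k} (h : R * E = 1)
    (g g' : Matrix κ κ k) : embMat E R (g * g') = embMat E R g * embMat E R g' := by
  have key : ∀ A B : Matrix κ κ k, (E * A * R) * (E * B * R) = E * (A * B) * R := by
    intro A B
    calc (E * A * R) * (E * B * R) = E * A * (R * E) * B * R := by
          simp only [Matrix.mul_assoc]
      _ = E * (A * B) * R := by rw [h, Matrix.mul_one]; simp only [Matrix.mul_assoc]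
  simp only [embMat, Matrix.mul_add, Matrix.add_mul, Matrix.mul_one, Matrix.one_mul, key]
  have : g * g' - 1 = (g - 1) + (g' - 1) + (g - 1) * (g' - 1) := by noncomm_ring
  rw [this, Matrix.mul_add, Matrix.mul_add, Matrix.add_mul, Matrix.add_mul]
  abel

theorem det_embMat {E : Matrix ι κ k} {R : Matrix κ ι k} (h : R * E = 1)
    (g : Matrix κ κ k) : (embMat E R g).det = g.det := by
  rw [embMat, Matrix.mul_assoc, det_one_add_mul_comm, Matrix.mul_assoc, h, Matrix.mul_one,
    add_sub_cancel]

/-- The embedding as a group homomorphism. -/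
def embSL (E : Matrix ι κ k) (R : Matrix κ ι k) (h : R * E = 1) :
    Matrix.SpecialLinearGroup κ k →* Matrix.SpecialLinearGroup ι k where
  toFun g := ⟨embMat E R (g : Matrix κ κ k), by rw [det_embMat h]; exact g.2⟩
  map_one' := by
    apply Subtype.ext
    simp [embMat_one]
  map_mul' g g' := by
    apply Subtype.ext
    simp only [Matrix.SpecialLinearGroup.coe_mul]
    exact embMat_mul h _ _

@[simp] theorem coe_embSL (E : Matrix ι κ k) (R : Matrix κ ι k) (h : R * E = 1)
    (g : Matrix.SpecialLinearGroup κ k) :
    ((embSL E R h g : Matrix.SpecialLinearGroup ι k) : Matrix ι ι k)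
      = embMat E R (g : Matrix κ κ k) := rfl

theorem embMat_injective {E : Matrix ι κ k} {R : Matrix κ ι k} (h : R * E = 1)
    {g g' : Matrix κ κ k} (hgg : embMat E R g = embMat E R g') : g = g' := by
  have h1 : E * (g - 1) * R = E * (g' - 1) * R := add_left_cancel hgg
  have h2 : R * (E * (g - 1) * R) * E = R * (E * (g' - 1) * R) * E := by rw [h1]
  have h3 : ∀ A : Matrix κ κ k, R * (E * A * R) * E = A := by
    intro A
    calc R * (E * A * R) * E = (R * E) * A * (R * E) := by simp only [Matrix.mul_assoc]
      _ = A := by rw [h, Matrix.one_mul, Matrix.mul_one]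
  rw [h3, h3] at h2
  exact sub_left_injective h2

theorem embSL_injective (E : Matrix ι κ k) (R : Matrix κ ι k) (h : R * E = 1) :
    Function.Injective (embSL E R h) := by
  intro g g' hgg
  apply Subtype.ext
  apply embMat_injective h
  exact congrArg Subtype.val hgg

end emb

section coord

variable {k : Type*} [CommRing k]

/-- The coordinate inclusion matrix along an injection of index types. -/
def coordE (k : Type*) [CommRing k] {ι κ : Type*} [DecidableEq ι] (c : κ → ι) : Matrix ι κ k :=
  (1 : Matrix ι ι k).submatrix id c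

theorem coordE_transpose_mul {ι κ : Type*} [Fintype ι] [DecidableEq ι] [DecidableEq κ]
    (c : κ → ι) (hc : Function.Injective c) :
    (coordE k c)ᵀ * coordE k c = 1 := by
  ext a b
  simp only [coordE, Matrix.mul_apply, Matrix.transpose_apply, Matrix.submatrix_apply, id_eq,
    Matrix.one_apply]
  rw [Finset.sum_eq_single (c a)]
  · simp only [if_true, one_mul]
    by_cases hab : a = b
    · subst hab; simp
    · rw [if_neg hab, if_neg (fun h => hab (hc h))]
  · intro i _ hi
    rw [if_neg hi, zero_mul]
  · intro h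
    exact (h (Finset.mem_univ _)).elim

end coord

section perm

variable (m : ℕ) (F : Type*) [Field F]

/-- Even permutations as matrices of determinant one. -/
noncomputable def permSL : alternatingGroup (Fin m) →* Matrix.SpecialLinearGroup (Fin m) F where
  toFun σ := ⟨Matrix.permMatrixHom (R := F) (σ : Equiv.Perm (Fin m)), by
    have hs : Equiv.Perm.sign ((σ : Equiv.Perm (Fin m))⁻¹) = 1 := by
      rw [Equiv.Perm.sign_inv]
      exact Equiv.Perm.mem_alternatingGroup.1 σ.2
    rw [Matrix.permMatrixHom_apply, Matrix.det_permutation, hs]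
    simp⟩
  map_one' := by
    apply Subtype.ext
    simp
  map_mul' a b := by
    apply Subtype.ext
    show Matrix.permMatrixHom (R := F) ((a * b : alternatingGroup (Fin m)) : Equiv.Perm (Fin m)) =
      Matrix.permMatrixHom (R := F) (a : Equiv.Perm (Fin m)) *
        Matrix.permMatrixHom (R := F) (b : Equiv.Perm (Fin m))
    rw [Subgroup.coe_mul, map_mul]

theorem permSL_injective : Function.Injective (permSL m F) := by
  intro a b hab
  have h1 : (((a : Equiv.Perm (Fin m))⁻¹).permMatrix F) = ((b : Equiv.Perm (Fin m))⁻¹).permMatrix F := by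
    exact congrArg Subtype.val hab
  apply Subtype.ext
  apply inv_injective
  ext i
  have h2 := congrArg (fun M => M *ᵥ (Pi.single (((a : Equiv.Perm (Fin m))⁻¹) i) (1 : F))) h1
  simp only [Matrix.permMatrix_mulVec] at h2
  have h3 := congrFun h2 i
  simp only [Function.comp_apply, Pi.single_eq_same] at h3
  by_contra hne
  rw [Pi.single_eq_of_ne (fun h => hne (congrArg Fin.val h.symm))] at h3
  exact one_ne_zero h3

end perm

theorem Fails.sl_of_alt {m : ℕ} {F : Type*} [Field F] {w : FreeGroup ℕ}
    (h : Fails (alternatingGroup (Fin m)) w) : Fails (Matrix.SpecialLinearGroup (Fin m) F) w :=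
  h.of_injective (permSL m F) (permSL_injective m F)

theorem Fails.sl_of_sl2 {m : ℕ} {F : Type*} [Field F] {w : FreeGroup ℕ} (h2 : 2 ≤ m)
    (h : Fails (Matrix.SpecialLinearGroup (Fin 2) F) w) :
    Fails (Matrix.SpecialLinearGroup (Fin m) F) w :=
  h.of_injective _
    (embSL_injective (coordE F (Fin.castLE h2)) (coordE F (Fin.castLE h2))ᵀ
      (coordE_transpose_mul _ (Fin.castLE_injective h2)))

/-- A nontrivial word fails noncentrally on large alternating groups and on `SL₂` of large
finite fields. -/
theorem exists_bounds_fails (w : FreeGroup ℕ) (hw : w ≠ 1) :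
    ∃ m0 q0 : ℕ, (∀ n : ℕ, m0 ≤ n → Fails (alternatingGroup (Fin n)) w) ∧
      (∀ (K : Type) [Field K] [Fintype K], q0 ≤ Fintype.card K →
        Fails (Matrix.SpecialLinearGroup (Fin 2) K) w) := by
  obtain ⟨m', σ, hσ⟩ := exists_perms_lift_ne_one w hw
  refine ⟨max (2 * m') 4, ppBound w.toWord + 1, ?_, ?_⟩
  · intro m h
    obtain ⟨φ, hφ⟩ := exists_injective_hom_to_alternating m' m (le_trans (le_max_left _ _) h)
    refine ⟨fun i => φ (σ i), ?_⟩
    rw [lift_comp_hom, alternatingGroup.center_eq_bot (by
      rw [Nat.card_eq_fintype_card, Fintype.card_fin]; exact le_trans (le_max_right _ _) h),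
      Subgroup.mem_bot]
    intro hc
    apply hσ
    exact (map_eq_one_iff φ hφ).1 hc
  · intro K _ _ hq
    obtain ⟨f, hf⟩ := exists_sl2_lift_not_mem_center (F := K) w hw (by omega)
    exact ⟨f, hf⟩

end Cfsg.Agent.Helper12
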