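import Mathlib
import Cfsg.Agent.Helper12.LawFailSL

set_option autoImplicit false

/-! The abelian unipotent radical `Q = {1 + e₀ (E a)ᵀ}` of `SL_{m+1}(F)` and the block
`SL_m(F)` normalizing it. -/

namespace Cfsg.Agent.Helper12

open Matrix

variable {F : Type*} [Field F] {m : ℕ}

/-- The inclusion of the last `m` coordinates. -/
def succE (m : ℕ) (F : Type*) [Field F] : Matrix (Fin (m + 1)) (Fin m) F :=
  coordE F (Fin.succ : Fin m → Fin (m + 1))

theorem succE_transpose_mul : (succE m F)ᵀ * succE m F = 1 :=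
  coordE_transpose_mul _ (Fin.succ_injective m)

theorem succE_mulVec_zero (a : Fin m → F) : (succE m F *ᵥ a) 0 = 0 := by
  simp only [succE, coordE, Matrix.mulVec, dotProduct, Matrix.submatrix_apply, id_eq,
    Matrix.one_apply]
  apply Finset.sum_eq_zero
  intro j _
  rw [if_neg (Fin.succ_ne_zero j).symm, zero_mul]

theorem succE_mulVec_succ (a : Fin m → F) (j : Fin m) : (succE m F *ᵥ a) j.succ = a j := by
  simp only [succE, coordE, Matrix.mulVec, dotProduct, Matrix.submatrix_apply, id_eq,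
    Matrix.one_apply]
  rw [Finset.sum_eq_single j]
  · simp
  · intro k _ hk
    rw [if_neg (fun h => hk (Fin.succ_injective m h).symm), zero_mul]
  · intro h
    exact (h (Finset.mem_univ _)).elim

theorem succE_transpose_mulVec_single :
    (succE m F)ᵀ *ᵥ (Pi.single 0 1 : Fin (m + 1) → F) = 0 := by
  ext j
  simp only [succE, coordE, Matrix.mulVec, dotProduct, Matrix.transpose_apply,
    Matrix.submatrix_apply, id_eq, Matrix.one_apply, Pi.zero_apply]
  apply Finset.sum_eq_zero
  intro i _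
  by_cases hi : i = 0
  · subst hi
    rw [if_neg (Fin.succ_ne_zero j).symm, zero_mul]
  · rw [Pi.single_eq_of_ne hi, mul_zero]

/-- The unipotent matrix `1 + e₀ (E a)ᵀ`. -/
def ccuMat (a : Fin m → F) : Matrix (Fin (m + 1)) (Fin (m + 1)) F :=
  1 + Matrix.vecMulVec (Pi.single 0 1) (succE m F *ᵥ a)

theorem dot_single_zero (a : Fin m → F) :
    (succE m F *ᵥ a) ⬝ᵥ (Pi.single 0 1 : Fin (m + 1) → F) = 0 := by
  rw [dotProduct_single, succE_mulVec_zero, mul_one]

theorem ccuMat_zero : ccuMat (0 : Fin m → F) = 1 := by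
  simp [ccuMat]

theorem ccuMat_add (a b : Fin m → F) : ccuMat (a + b) = ccuMat a * ccuMat b := by
  simp only [ccuMat, Matrix.mulVec_add, Matrix.vecMulVec_add, Matrix.mul_add, Matrix.add_mul,
    Matrix.mul_one, Matrix.one_mul, Matrix.vecMulVec_mul_vecMulVec, dot_single_zero, zero_smul]
  rw [show Matrix.vecMulVec (Pi.single 0 1 : Fin (m + 1) → F) (0 : Fin (m + 1) → F) = 0 from by
    ext i j; simp [Matrix.vecMulVec_apply]]
  abel

theorem det_ccuMat (a : Fin m → F) : (ccuMat a).det = 1 := by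
  rw [ccuMat, Matrix.vecMulVec_eq Unit, Matrix.det_one_add_replicateCol_mul_replicateRow,
    dot_single_zero, add_zero]

/-- The unipotent element as an element of `SL`. -/
def uSL (a : Fin m → F) : Matrix.SpecialLinearGroup (Fin (m + 1)) F := ⟨ccuMat a, det_ccuMat a⟩

theorem uSL_zero : uSL (0 : Fin m → F) = 1 := Subtype.ext ccuMat_zero

theorem uSL_add (a b : Fin m → F) : uSL (a + b) = uSL a * uSL b := Subtype.ext (ccuMat_add a b)

theorem ccuMat_apply_zero_succ (a : Fin m → F) (j : Fin m) : ccuMat a 0 j.succ = a j := by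
  simp [ccuMat, Matrix.vecMulVec_apply, succE_mulVec_succ, Matrix.one_apply_ne (Fin.succ_ne_zero j).symm]

/-- Nontrivial elements of `Q` are not central. -/
theorem uSL_not_mem_center {a : Fin m → F} (ha : a ≠ 0) :
    uSL a ∉ Subgroup.center (Matrix.SpecialLinearGroup (Fin (m + 1)) F) := by
  intro h
  rw [Matrix.SpecialLinearGroup.mem_center_iff] at h
  obtain ⟨r, -, hr⟩ := h
  apply ha
  ext j
  have := congrFun (congrFun hr 0) j.succ
  rw [Matrix.scalar_apply, Matrix.diagonal_apply_ne _ (Fin.succ_ne_zero j).symm] at this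
  have h2 : ((uSL a : Matrix.SpecialLinearGroup (Fin (m + 1)) F) :
      Matrix (Fin (m + 1)) (Fin (m + 1)) F) 0 j.succ = a j := ccuMat_apply_zero_succ a j
  rw [← h2, ← this, Pi.zero_apply]

/-- The block embedding of `SL_m` into `SL_{m+1}`. -/
def blockSL (m : ℕ) (F : Type*) [Field F] :
    Matrix.SpecialLinearGroup (Fin m) F →* Matrix.SpecialLinearGroup (Fin (m + 1)) F :=
  embSL (succE m F) (succE m F)ᵀ succE_transpose_mul

/-- The commutation relation between `Q` and the block `SL_m`. -/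
theorem uSL_mul_blockSL (a : Fin m → F) (g : Matrix.SpecialLinearGroup (Fin m) F) :
    uSL a * blockSL m F g = blockSL m F g * uSL ((g : Matrix (Fin m) (Fin m) F)ᵀ *ᵥ a) := by
  apply Subtype.ext
  rw [Matrix.SpecialLinearGroup.coe_mul, Matrix.SpecialLinearGroup.coe_mul]
  show ccuMat a * embMat (succE m F) (succE m F)ᵀ (g : Matrix (Fin m) (Fin m) F) =
    embMat (succE m F) (succE m F)ᵀ (g : Matrix (Fin m) (Fin m) F) *
      ccuMat ((g : Matrix (Fin m) (Fin m) F)ᵀ *ᵥ a)
  generalize (g : Matrix (Fin m) (Fin m) F) = G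
  have h1 : Matrix.vecMulVec (Pi.single 0 1 : Fin (m + 1) → F) (succE m F *ᵥ a) *
      (succE m F * (G - 1) * (succE m F)ᵀ) =
      Matrix.vecMulVec (Pi.single 0 1) (succE m F *ᵥ (Gᵀ *ᵥ a)) -
        Matrix.vecMulVec (Pi.single 0 1) (succE m F *ᵥ a) := by
    rw [Matrix.vecMulVec_mul, ← Matrix.vecMulVec_sub]
    congr 1
    rw [← Matrix.vecMul_vecMul, ← Matrix.vecMul_vecMul,
      ← Matrix.mulVec_transpose (A := (succE m F)ᵀ),
      Matrix.transpose_transpose, ← Matrix.mulVec_transpose (succE m F), Matrix.mulVec_mulVec,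
      succE_transpose_mul, Matrix.one_mulVec, Matrix.vecMul_sub, Matrix.vecMul_one,
      Matrix.mulVec_sub, ← Matrix.mulVec_transpose G]
  have h2 : (succE m F * (G - 1) * (succE m F)ᵀ) *
      Matrix.vecMulVec (Pi.single 0 1 : Fin (m + 1) → F)
      (succE m F *ᵥ (Gᵀ *ᵥ a)) = 0 := by
    rw [Matrix.mul_vecMulVec, ← Matrix.mulVec_mulVec, succE_transpose_mulVec_single,
      Matrix.mulVec_zero]
    ext i j
    simp [Matrix.vecMulVec_apply]
  simp only [ccuMat, embMat, Matrix.add_mul, Matrix.mul_add, Matrix.one_mul, Matrix.mul_one]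
  rw [h1, h2]
  abel

end Cfsg.Agent.Helper12
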