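import Mathlib

set_option autoImplicit false

/-! Projectors onto the weight spaces of an elementary abelian group `F^m` acting on `K^d`,
in terms of a primitive additive character of `F`. -/

namespace Cfsg.Agent.Helper12

open Matrix

variable {F : Type*} [Field F] [Fintype F] [DecidableEq F] {K : Type*} [Field K] {m d : ℕ}

/-- The additive character `a ↦ ψ (a ⬝ᵥ c)` of `F^m`. -/
def dotChar (ψ : AddChar F K) (c : Fin m → F) : AddChar (Fin m → F) K :=
  ψ.compAddMonoidHom (AddMonoidHom.mk' (fun a : Fin m → F => a ⬝ᵥ c)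
    (fun a b => add_dotProduct a b c))

omit [Fintype F] [DecidableEq F] in
theorem dotChar_apply (ψ : AddChar F K) (c a : Fin m → F) : dotChar ψ c a = ψ (a ⬝ᵥ c) := rfl

omit [Fintype F] in
theorem dotChar_ne_one (ψ : AddChar F K) (hψ : ψ.IsPrimitive) {c : Fin m → F} (hc : c ≠ 0) :
    dotChar ψ c ≠ 1 := by
  have hψ1 : ψ ≠ 1 := by
    have := hψ (one_ne_zero (α := F))
    intro h
    apply this
    rw [h]
    ext x
    simp
  obtain ⟨t, ht⟩ := AddChar.ne_one_iff.1 hψ1
  obtain ⟨j, hj⟩ : ∃ j, c j ≠ 0 := by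
    by_contra hcon
    push Not at hcon
    exact hc (funext hcon)
  rw [AddChar.ne_one_iff]
  refine ⟨Pi.single j (t / c j), ?_⟩
  rw [dotChar_apply, single_dotProduct, div_mul_cancel₀ _ hj]
  exact ht

/-- Orthogonality. -/
theorem sum_addChar_dot (ψ : AddChar F K) (hψ : ψ.IsPrimitive) (c : Fin m → F) :
    ∑ a : Fin m → F, ψ (a ⬝ᵥ c) = if c = 0 then (Fintype.card F : K) ^ m else 0 := by
  split_ifs with hc
  · subst hc
    simp
  · have := AddChar.sum_eq_zero_of_ne_one (dotChar_ne_one ψ hψ hc)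
    simpa [dotChar_apply] using this

variable (ψ : AddChar F K) (R : (Fin m → F) → Matrix (Fin d) (Fin d) K)

/-- The (unnormalized) projector onto the weight space of `c`. -/
def wproj (c : Fin m → F) : Matrix (Fin d) (Fin d) K :=
  ∑ a : Fin m → F, ψ (-(a ⬝ᵥ c)) • R a

theorem wproj_mulVec_of_weight (hψ : ψ.IsPrimitive) (b c : Fin m → F) (v : Fin d → K)
    (hv : ∀ a, R a *ᵥ v = ψ (a ⬝ᵥ b) • v) :
    wproj ψ R c *ᵥ v = (if b = c then (Fintype.card F : K) ^ m else 0) • v := by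
  have h1 : wproj ψ R c *ᵥ v = (∑ a : Fin m → F, ψ (a ⬝ᵥ (b - c))) • v := by
    rw [wproj, Matrix.sum_mulVec, Finset.sum_smul]
    apply Finset.sum_congr rfl
    intro a _
    rw [Matrix.smul_mulVec, hv a, smul_smul, ← AddChar.map_add_eq_mul, dotProduct_sub]
    congr 2
    ring
  rw [h1, sum_addChar_dot ψ hψ]
  simp only [sub_eq_zero]

theorem sum_wproj (hψ : ψ.IsPrimitive) (hR0 : R 0 = 1) :
    ∑ c : Fin m → F, wproj ψ R c = ((Fintype.card F : K) ^ m) • (1 : Matrix (Fin d) (Fin d) K) := by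
  simp only [wproj]
  rw [Finset.sum_comm]
  have h1 : ∀ a : Fin m → F, ∑ c : Fin m → F, ψ (-(a ⬝ᵥ c)) • R a =
      (if a = 0 then (Fintype.card F : K) ^ m else 0) • R a := by
    intro a
    rw [← Finset.sum_smul]
    congr 1
    have h2 : ∑ c : Fin m → F, ψ (-(a ⬝ᵥ c)) = ∑ c : Fin m → F, ψ (c ⬝ᵥ (-a)) := by
      apply Finset.sum_congr rfl
      intro c _
      rw [dotProduct_neg, dotProduct_comm]
    rw [h2, sum_addChar_dot ψ hψ (-a)]
    by_cases ha : a = 0
    · rw [if_pos ha, if_pos (by rw [ha, neg_zero])]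
    · rw [if_neg ha, if_neg (by rwa [neg_eq_zero])]
  simp only [h1]
  rw [Finset.sum_eq_single 0]
  · rw [if_pos rfl, hR0]
  · intro a _ ha
    rw [if_neg ha, zero_smul]
  · intro h
    exact (h (Finset.mem_univ _)).elim

omit [DecidableEq F] in
theorem mul_wproj (hRadd : ∀ a b, R (a + b) = R a * R b) (a c : Fin m → F) :
    R a * wproj ψ R c = ψ (a ⬝ᵥ c) • wproj ψ R c := by
  simp only [wproj]
  rw [Matrix.mul_sum, Finset.smul_sum]
  rw [← Equiv.sum_comp (Equiv.addLeft a)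
    (fun a'' => ψ (a ⬝ᵥ c) • (ψ (-(a'' ⬝ᵥ c)) • R a''))]
  apply Finset.sum_congr rfl
  intro a' _
  simp only [Equiv.coe_addLeft]
  rw [Matrix.mul_smul, ← hRadd, smul_smul, ← AddChar.map_add_eq_mul, add_dotProduct]
  congr 2
  ring

end Cfsg.Agent.Helper12
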