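import Mathlib
import Cfsg.Agent.Helper12.SLTrans

set_option autoImplicit false

/-! The action of `SL_n(F)` on nonzero vectors: transitivity and the orbits on pairs. -/

namespace Cfsg.Agent.Helper12

open Matrix MulAction

variable {F : Type*} [Field F] {n : ℕ}

/-- Nonzero vectors. -/
abbrev NzVec (n : ℕ) (F : Type*) [Field F] : Type _ := {v : Fin n → F // v ≠ 0}

theorem sl_inv_mulVec_mulVec (g : Matrix.SpecialLinearGroup (Fin n) F) (v : Fin n → F) :
    ((g⁻¹ : Matrix.SpecialLinearGroup (Fin n) F) : Matrix (Fin n) (Fin n) F) *ᵥ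
      ((g : Matrix (Fin n) (Fin n) F) *ᵥ v) = v := by
  rw [Matrix.mulVec_mulVec, ← Matrix.SpecialLinearGroup.coe_mul, inv_mul_cancel,
    Matrix.SpecialLinearGroup.coe_one, Matrix.one_mulVec]

theorem sl_mulVec_ne_zero (g : Matrix.SpecialLinearGroup (Fin n) F) {v : Fin n → F}
    (hv : v ≠ 0) : (g : Matrix (Fin n) (Fin n) F) *ᵥ v ≠ 0 := by
  intro h
  apply hv
  rw [← sl_inv_mulVec_mulVec g v, h, Matrix.mulVec_zero]

/-- The action of `SL_n(F)` on nonzero vectors. -/
instance nzVecAction : MulAction (Matrix.SpecialLinearGroup (Fin n) F) (NzVec n F) where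
  smul g v := ⟨(g : Matrix (Fin n) (Fin n) F) *ᵥ v.1, sl_mulVec_ne_zero g v.2⟩
  one_smul v := Subtype.ext (by
    show ((1 : Matrix.SpecialLinearGroup (Fin n) F) : Matrix (Fin n) (Fin n) F) *ᵥ v.1 = v.1
    rw [Matrix.SpecialLinearGroup.coe_one, Matrix.one_mulVec])
  mul_smul g h v := Subtype.ext (by
    show ((g * h : Matrix.SpecialLinearGroup (Fin n) F) : Matrix (Fin n) (Fin n) F) *ᵥ v.1 =
      (g : Matrix (Fin n) (Fin n) F) *ᵥ ((h : Matrix (Fin n) (Fin n) F) *ᵥ v.1)
    rw [Matrix.SpecialLinearGroup.coe_mul, Matrix.mulVec_mulVec])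

theorem nzVec_smul_val (g : Matrix.SpecialLinearGroup (Fin n) F) (v : NzVec n F) :
    (g • v).1 = (g : Matrix (Fin n) (Fin n) F) *ᵥ v.1 := rfl

theorem nzVec_exists_smul_eq (hn : 2 ≤ n) (u v : NzVec n F) :
    ∃ g : Matrix.SpecialLinearGroup (Fin n) F, g • u = v := by
  have hu : LinearIndependent F (fun _ : Fin 1 => u.1) := by
    rw [linearIndependent_unique_iff]; exact u.2
  have hv : LinearIndependent F (fun _ : Fin 1 => v.1) := by
    rw [linearIndependent_unique_iff]; exact v.2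
  obtain ⟨g, hg⟩ := exists_sl_map_family (by omega : 1 < n) _ _ hu hv
  exact ⟨g, Subtype.ext (hg 0)⟩

theorem nzVec_isPretransitive (hn : 2 ≤ n) :
    IsPretransitive (Matrix.SpecialLinearGroup (Fin n) F) (NzVec n F) :=
  ⟨nzVec_exists_smul_eq hn⟩

theorem nzVec_exists_smul_pair (hn : 3 ≤ n) (u v u' v' : NzVec n F)
    (h : ∀ a : F, a • u.1 ≠ v.1) (h' : ∀ a : F, a • u'.1 ≠ v'.1) :
    ∃ g : Matrix.SpecialLinearGroup (Fin n) F, g • u = u' ∧ g • v = v' := by
  have hu : LinearIndependent F ![u.1, v.1] := (LinearIndependent.pair_iff' u.2).2 h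
  have hv : LinearIndependent F ![u'.1, v'.1] := (LinearIndependent.pair_iff' u'.2).2 h'
  obtain ⟨g, hg⟩ := exists_sl_map_family (by omega : 2 < n) _ _ hu hv
  exact ⟨g, Subtype.ext (hg 0), Subtype.ext (hg 1)⟩

/-- The ratio invariant of a pair of nonzero vectors (zero for independent pairs). -/
noncomputable def ratio (p : NzVec n F × NzVec n F) : F :=
  open Classical in if h : ∃ c : F, p.2.1 = c • p.1.1 then Classical.choose h else 0

theorem ratio_eq_of_eq_smul {p : NzVec n F × NzVec n F} {c : F} (h : p.2.1 = c • p.1.1) :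
    ratio p = c := by
  have hex : ∃ c : F, p.2.1 = c • p.1.1 := ⟨c, h⟩
  unfold ratio
  rw [dif_pos hex]
  have h2 := Classical.choose_spec hex
  have h3 : (c - Classical.choose hex) • p.1.1 = 0 := by rw [sub_smul, ← h2, ← h, sub_self]
  rcases smul_eq_zero.1 h3 with h4 | h4
  · exact (sub_eq_zero.1 h4).symm
  · exact (p.1.2 h4).elim

theorem ratio_eq_zero_iff (p : NzVec n F × NzVec n F) :
    ratio p = 0 ↔ ∀ a : F, a • p.1.1 ≠ p.2.1 := by
  constructor
  · intro h a ha
    have := ratio_eq_of_eq_smul (p := p) ha.symm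
    rw [h] at this
    rw [← this, zero_smul] at ha
    exact p.2.2 ha.symm
  · intro h
    unfold ratio
    rw [dif_neg]
    rintro ⟨c, hc⟩
    exact h c hc.symm

theorem eq_ratio_smul {p : NzVec n F × NzVec n F} (h : ratio p ≠ 0) :
    p.2.1 = ratio p • p.1.1 := by
  by_contra hne
  apply h
  rw [ratio_eq_zero_iff]
  intro a ha
  apply hne
  rw [ratio_eq_of_eq_smul ha.symm, ha]

theorem ratio_smul (g : Matrix.SpecialLinearGroup (Fin n) F) (p : NzVec n F × NzVec n F) :
    ratio (g • p) = ratio p := by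
  by_cases h : ratio p = 0
  · rw [h, ratio_eq_zero_iff]
    rw [ratio_eq_zero_iff] at h
    intro a ha
    apply h a
    have h1 : (g • p).1.1 = (g : Matrix (Fin n) (Fin n) F) *ᵥ p.1.1 := rfl
    have h2 : (g • p).2.1 = (g : Matrix (Fin n) (Fin n) F) *ᵥ p.2.1 := rfl
    rw [h1, h2, ← Matrix.mulVec_smul] at ha
    have := congrArg (fun x => ((g⁻¹ : Matrix.SpecialLinearGroup (Fin n) F) :
      Matrix (Fin n) (Fin n) F) *ᵥ x) ha
    simp only [sl_inv_mulVec_mulVec] at this
    exact this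
  · apply ratio_eq_of_eq_smul
    have h1 : (g • p).1.1 = (g : Matrix (Fin n) (Fin n) F) *ᵥ p.1.1 := rfl
    have h2 : (g • p).2.1 = (g : Matrix (Fin n) (Fin n) F) *ᵥ p.2.1 := rfl
    rw [h1, h2, ← Matrix.mulVec_smul, ← eq_ratio_smul h]

/-- The ratio invariant on orbits of pairs. -/
noncomputable def ratioQuot :
    orbitRel.Quotient (Matrix.SpecialLinearGroup (Fin n) F) (NzVec n F × NzVec n F) → F :=
  Quotient.lift ratio (by
    rintro p p' ⟨g, hg⟩
    rw [← hg]
    exact ratio_smul g p')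

theorem ratioQuot_injective (hn : 3 ≤ n) : Function.Injective (ratioQuot (F := F) (n := n)) := by
  intro x y hxy
  induction x using Quotient.inductionOn with | _ p =>
  induction y using Quotient.inductionOn with | _ p' =>
  have hr : ratio p = ratio p' := hxy
  apply Quotient.sound
  show p ∈ orbit _ p'
  by_cases h : ratio p = 0
  · have h' : ratio p' = 0 := by rw [← hr, h]
    rw [ratio_eq_zero_iff] at h h'
    obtain ⟨g, hg1, hg2⟩ := nzVec_exists_smul_pair hn p'.1 p'.2 p.1 p.2 h' h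
    exact ⟨g, Prod.ext hg1 hg2⟩
  · have h' : ratio p' ≠ 0 := by rw [← hr]; exact h
    obtain ⟨g, hg⟩ := nzVec_exists_smul_eq (by omega : 2 ≤ n) p'.1 p.1
    refine ⟨g, Prod.ext hg (Subtype.ext ?_)⟩
    show (g : Matrix (Fin n) (Fin n) F) *ᵥ p'.2.1 = p.2.1
    rw [eq_ratio_smul h, eq_ratio_smul h', Matrix.mulVec_smul, hr]
    congr 1
    exact congrArg Subtype.val hg

theorem ratioQuot_surjective (hn : 2 ≤ n) : Function.Surjective (ratioQuot (F := F) (n := n)) := by
  intro c
  have h01 : (⟨0, by omega⟩ : Fin n) ≠ ⟨1, by omega⟩ := by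
    intro h
    have := congrArg Fin.val h
    simp at this
  let e0 : NzVec n F := ⟨Pi.single ⟨0, by omega⟩ 1, by
    intro h
    have := congrFun h ⟨0, by omega⟩
    simp at this⟩
  let e1 : NzVec n F := ⟨Pi.single ⟨1, by omega⟩ 1, by
    intro h
    have := congrFun h ⟨1, by omega⟩
    simp at this⟩
  by_cases hc : c = 0
  · refine ⟨Quotient.mk'' (e0, e1), ?_⟩
    show ratio (e0, e1) = c
    rw [hc, ratio_eq_zero_iff]
    intro a ha
    have := congrFun ha ⟨1, by omega⟩
    simp only [e0, e1, Pi.smul_apply, Pi.single_eq_same, smul_eq_mul] at this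
    rw [Pi.single_eq_of_ne (fun h => h01 h.symm)] at this
    simp at this
  · refine ⟨Quotient.mk'' (e0, ⟨c • e0.1, smul_ne_zero hc e0.2⟩), ?_⟩
    show ratio (e0, _) = c
    exact ratio_eq_of_eq_smul rfl

theorem card_orbits_pairs [Fintype F] (hn : 3 ≤ n) :
    Nat.card (orbitRel.Quotient (Matrix.SpecialLinearGroup (Fin n) F) (NzVec n F × NzVec n F)) =
      Fintype.card F := by
  rw [← Nat.card_eq_fintype_card]
  exact Nat.card_congr (Equiv.ofBijective _
    ⟨ratioQuot_injective hn, ratioQuot_surjective (by omega)⟩)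

end Cfsg.Agent.Helper12
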