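import Mathlib
import Cfsg.Agent.Helper12.CrossCharB
import Cfsg.Agent.Helper12.SLNonzero

set_option autoImplicit false

/-! The weight-space counting argument of Landazuri and Seitz: an elementary abelian group
`F^m` acting on `K^d` and normalized by `SL_m(F)` (acting transitively on the nonzero
characters) forces `q^m - 1 ≤ d` as soon as the action of `F^m` is nontrivial. -/

namespace Cfsg.Agent.Helper12

open Matrix

variable {F : Type*} [Field F] [Fintype F] [DecidableEq F] {K : Type*} [Field K] {m d : ℕ}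

/-- A weight vector of weight `c`. -/
def IsWeight (ψ : AddChar F K) (R : (Fin m → F) → Matrix (Fin d) (Fin d) K)
    (c : Fin m → F) (v : Fin d → K) : Prop :=
  ∀ a, R a *ᵥ v = ψ (a ⬝ᵥ c) • v

variable (ψ : AddChar F K) (R : (Fin m → F) → Matrix (Fin d) (Fin d) K)

theorem exists_wproj_ne_zero (hψ : ψ.IsPrimitive) (hq : (Fintype.card F : K) ≠ 0)
    (hR0 : R 0 = 1) (hRadd : ∀ a b, R (a + b) = R a * R b) (hne : ∃ a, R a ≠ 1) :
    ∃ c : Fin m → F, c ≠ 0 ∧ wproj ψ R c ≠ 0 := by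
  by_contra hcon
  push Not at hcon
  obtain ⟨a, ha⟩ := hne
  apply ha
  have h1 := sum_wproj ψ R hψ hR0
  rw [Finset.sum_eq_single 0] at h1
  · have h2 := mul_wproj ψ R hRadd a 0
    rw [dotProduct_zero, AddChar.map_zero_eq_one, one_smul, h1, Matrix.mul_smul,
      Matrix.mul_one] at h2
    have h3 : ((Fintype.card F : K) ^ m) ≠ 0 := pow_ne_zero _ hq
    exact smul_right_injective _ h3 h2
  · intro c _ hc
    exact hcon c hc
  · intro h
    exact (h (Finset.mem_univ _)).elim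

omit [DecidableEq F] in
theorem exists_weight_of_wproj_ne_zero (hRadd : ∀ a b, R (a + b) = R a * R b)
    {c : Fin m → F} (hc : wproj ψ R c ≠ 0) :
    ∃ v : Fin d → K, v ≠ 0 ∧ IsWeight ψ R c v := by
  obtain ⟨j, hj⟩ : ∃ j, wproj ψ R c *ᵥ (Pi.single j 1) ≠ 0 := by
    by_contra hcon
    push Not at hcon
    apply hc
    ext i j
    have := congrFun (hcon j) i
    rw [Matrix.mulVec_single_one] at this
    simpa using this
  refine ⟨_, hj, ?_⟩
  intro a
  rw [Matrix.mulVec_mulVec, mul_wproj ψ R hRadd, Matrix.smul_mulVec]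

omit [Fintype F] [DecidableEq F] in
theorem IsWeight.map {S : Matrix (Fin d) (Fin d) K} {g : Matrix (Fin m) (Fin m) F}
    (hRS : ∀ a, R a * S = S * R (gᵀ *ᵥ a))
    {c : Fin m → F} {v : Fin d → K} (hv : IsWeight ψ R c v) :
    IsWeight ψ R (g *ᵥ c) (S *ᵥ v) := by
  intro a
  rw [Matrix.mulVec_mulVec, hRS, ← Matrix.mulVec_mulVec, hv, Matrix.mulVec_smul]
  congr 2
  rw [Matrix.mulVec_transpose, ← Matrix.dotProduct_mulVec]

theorem linearIndependent_of_isWeight (hψ : ψ.IsPrimitive) (hq : (Fintype.card F : K) ≠ 0)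
    (v : NzVec m F → Fin d → K) (hv0 : ∀ c, v c ≠ 0) (hv : ∀ c, IsWeight ψ R c.1 (v c)) :
    LinearIndependent K v := by
  rw [Fintype.linearIndependent_iff]
  intro l hl c₀
  have h1 := congrArg (fun w => wproj ψ R c₀.1 *ᵥ w) hl
  simp only [Matrix.mulVec_zero, Matrix.mulVec_sum, Matrix.mulVec_smul] at h1
  rw [Finset.sum_eq_single c₀] at h1
  · rw [wproj_mulVec_of_weight ψ R hψ c₀.1 c₀.1 (v c₀) (hv c₀), if_pos rfl, smul_smul] at h1
    rcases smul_eq_zero.1 h1 with h2 | h2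
    · rcases mul_eq_zero.1 h2 with h3 | h3
      · exact h3
      · exact (pow_ne_zero _ hq h3).elim
    · exact (hv0 c₀ h2).elim
  · intro c _ hc
    rw [wproj_mulVec_of_weight ψ R hψ c.1 c₀.1 (v c) (hv c),
      if_neg (fun h => hc (Subtype.ext h)), zero_smul, smul_zero]
  · intro h
    exact (h (Finset.mem_univ _)).elim

theorem card_nzVec : Fintype.card (NzVec m F) = Fintype.card F ^ m - 1 := by
  rw [Fintype.card_subtype_compl, Fintype.card_subtype_eq, Fintype.card_fun, Fintype.card_fin]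

/-- The Landazuri–Seitz counting argument. -/
theorem card_pow_sub_one_le (hψ : ψ.IsPrimitive) (hq : (Fintype.card F : K) ≠ 0)
    (hm : 2 ≤ m)
    (hR0 : R 0 = 1) (hRadd : ∀ a b, R (a + b) = R a * R b) (hne : ∃ a, R a ≠ 1)
    (S : Matrix.SpecialLinearGroup (Fin m) F → Matrix (Fin d) (Fin d) K)
    (hS : ∀ g (v : Fin d → K), S g *ᵥ v = 0 → v = 0)
    (hRS : ∀ g a, R a * S g = S g * R ((g : Matrix (Fin m) (Fin m) F)ᵀ *ᵥ a)) :
    Fintype.card F ^ m - 1 ≤ d := by
  obtain ⟨c, hc0, hc⟩ := exists_wproj_ne_zero ψ R hψ hq hR0 hRadd hne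
  obtain ⟨v, hv0, hv⟩ := exists_weight_of_wproj_ne_zero ψ R hRadd hc
  have hall : ∀ c' : NzVec m F, ∃ w : Fin d → K, w ≠ 0 ∧ IsWeight ψ R c'.1 w := by
    intro c'
    obtain ⟨g, hg⟩ := nzVec_exists_smul_eq hm (⟨c, hc0⟩ : NzVec m F) c'
    refine ⟨S g *ᵥ v, fun h => hv0 (hS g v h), ?_⟩
    have := IsWeight.map ψ R (hRS g) hv
    rw [← hg]
    exact this
  choose w hw0 hw using hall
  have hli := linearIndependent_of_isWeight ψ R hψ hq w hw0 hw
  have := hli.fintype_card_le_finrank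
  rw [card_nzVec, Module.finrank_pi, Fintype.card_fin] at this
  exact this

end Cfsg.Agent.Helper12
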