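import Mathlib
import Cfsg.Agent.Helper12.CrossCharC

set_option autoImplicit false

/-! More flexible versions of the weight-space counting argument: weights moved around by
arbitrary normalizing elements, and independence of weight vectors for any injective family
of weights. -/

namespace Cfsg.Agent.Helper12

open Matrix

variable {F : Type*} [Field F] [Fintype F] [DecidableEq F] {K : Type*} [Field K] {m d : ℕ}

variable (ψ : AddChar F K) (R : (Fin m → F) → Matrix (Fin d) (Fin d) K)

/-- An element pairing to zero with every occurring weight acts trivially. -/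
theorem R_eq_one_of_forall_weight (hψ : ψ.IsPrimitive) (hq : (Fintype.card F : K) ≠ 0)
    (hR0 : R 0 = 1) (hRadd : ∀ a b, R (a + b) = R a * R b) (a : Fin m → F)
    (h : ∀ c, wproj ψ R c ≠ 0 → a ⬝ᵥ c = 0) : R a = 1 := by
  have h1 := sum_wproj ψ R hψ hR0
  have h2 : R a * ∑ c : Fin m → F, wproj ψ R c = ∑ c : Fin m → F, wproj ψ R c := by
    rw [Matrix.mul_sum]
    apply Finset.sum_congr rfl
    intro c _
    rw [mul_wproj ψ R hRadd]
    by_cases hc : wproj ψ R c = 0
    · rw [hc, smul_zero]
    · rw [h c hc, AddChar.map_zero_eq_one, one_smul]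
  rw [h1, Matrix.mul_smul, Matrix.mul_one] at h2
  have h3 : ((Fintype.card F : K) ^ m) ≠ 0 := pow_ne_zero _ hq
  exact smul_right_injective _ h3 h2

omit [Fintype F] [DecidableEq F] in
theorem IsWeight.map' {S : Matrix (Fin d) (Fin d) K} {T : (Fin m → F) → (Fin m → F)}
    (hRS : ∀ a, R a * S = S * R (T a))
    {c c' : Fin m → F} (hT : ∀ a, T a ⬝ᵥ c = a ⬝ᵥ c') {v : Fin d → K} (hv : IsWeight ψ R c v) :
    IsWeight ψ R c' (S *ᵥ v) := by
  intro a
  rw [Matrix.mulVec_mulVec, hRS, ← Matrix.mulVec_mulVec, hv, Matrix.mulVec_smul, hT]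

theorem linearIndependent_of_isWeight' (hψ : ψ.IsPrimitive) (hq : (Fintype.card F : K) ≠ 0)
    {ι : Type*} [Fintype ι] (w : ι → Fin m → F) (hw : Function.Injective w)
    (v : ι → Fin d → K) (hv0 : ∀ i, v i ≠ 0) (hv : ∀ i, IsWeight ψ R (w i) (v i)) :
    LinearIndependent K v := by
  classical
  rw [Fintype.linearIndependent_iff]
  intro l hl i₀
  have h1 := congrArg (fun x => wproj ψ R (w i₀) *ᵥ x) hl
  simp only [Matrix.mulVec_zero, Matrix.mulVec_sum, Matrix.mulVec_smul] at h1
  rw [Finset.sum_eq_single i₀] at h1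
  · rw [wproj_mulVec_of_weight ψ R hψ (w i₀) (w i₀) (v i₀) (hv i₀), if_pos rfl, smul_smul] at h1
    rcases smul_eq_zero.1 h1 with h2 | h2
    · rcases mul_eq_zero.1 h2 with h3 | h3
      · exact h3
      · exact (pow_ne_zero _ hq h3).elim
    · exact (hv0 i₀ h2).elim
  · intro i _ hi
    rw [wproj_mulVec_of_weight ψ R hψ (w i) (w i₀) (v i) (hv i),
      if_neg (fun h => hi (hw h)), zero_smul, smul_zero]
  · intro h
    exact (h (Finset.mem_univ _)).elim

/-- An injective family of occurring weights bounds the degree from below. -/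
theorem card_le_of_isWeight (hψ : ψ.IsPrimitive) (hq : (Fintype.card F : K) ≠ 0)
    {ι : Type*} [Fintype ι] (w : ι → Fin m → F) (hw : Function.Injective w)
    (hv : ∀ i, ∃ v : Fin d → K, v ≠ 0 ∧ IsWeight ψ R (w i) v) :
    Fintype.card ι ≤ d := by
  choose v hv0 hv using hv
  have hli := linearIndependent_of_isWeight' ψ R hψ hq w hw v hv0 hv
  have := hli.fintype_card_le_finrank
  rw [Module.finrank_pi, Fintype.card_fin] at this
  exact this

/-- Some occurring weight does not vanish against a nontrivially acting element. -/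
theorem exists_weight_dot_ne_zero (hψ : ψ.IsPrimitive) (hq : (Fintype.card F : K) ≠ 0)
    (hR0 : R 0 = 1) (hRadd : ∀ a b, R (a + b) = R a * R b) {a : Fin m → F} (ha : R a ≠ 1) :
    ∃ c : Fin m → F, a ⬝ᵥ c ≠ 0 ∧ ∃ v : Fin d → K, v ≠ 0 ∧ IsWeight ψ R c v := by
  by_contra hcon
  push Not at hcon
  apply ha
  apply R_eq_one_of_forall_weight ψ R hψ hq hR0 hRadd
  intro c hc
  by_contra hac
  obtain ⟨v, hv0, hv⟩ := exists_weight_of_wproj_ne_zero ψ R hRadd hc
  exact hcon c hac v hv0 hv

end Cfsg.Agent.Helper12
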