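import Mathlib
import Cfsg.Agent.Helper12.CrossCharD

set_option autoImplicit false

/-! Further tools for the weight-space counting: a separating set of weights contains a basis,
and independence of pairs of weight vectors. -/

namespace Cfsg.Agent.Helper12

open Matrix

/-- A set of vectors not contained in any hyperplane `a^⊥` contains a basis. -/
theorem exists_independent_family {k : Type*} [Field k] {n : ℕ} (Y : Set (Fin n → k))
    (hY : ∀ a : Fin n → k, a ≠ 0 → ∃ c ∈ Y, a ⬝ᵥ c ≠ 0) :
    ∃ b : Fin n → (Fin n → k), LinearIndependent k b ∧ ∀ i, b i ∈ Y := by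
  classical
  have hspan : Submodule.span k Y = ⊤ := by
    by_contra h
    obtain ⟨f, hf0, hf⟩ := Submodule.exists_le_ker_of_lt_top _ (lt_top_iff_ne_top.2 h)
    have hfa : ∀ x : Fin n → k, f x = (fun i => f (Pi.single i 1)) ⬝ᵥ x := by
      intro x
      rw [LinearMap.pi_apply_eq_sum_univ f x, dotProduct]
      apply Finset.sum_congr rfl
      intro i _
      rw [smul_eq_mul, mul_comm]
      congr 2
      ext j
      by_cases hij : i = j
      · subst hij; simp
      · rw [if_neg hij, Pi.single_eq_of_ne (Ne.symm hij)]
    have ha : (fun i => f (Pi.single i (1 : k))) ≠ 0 := by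
      intro h0
      apply hf0
      apply LinearMap.ext
      intro x
      rw [hfa, h0, zero_dotProduct]
      rfl
    obtain ⟨c, hcY, hc⟩ := hY _ ha
    apply hc
    rw [← hfa]
    exact hf (Submodule.subset_span hcY)
  obtain ⟨B, hBY, hBspan, hBli⟩ := exists_linearIndependent k Y
  have hBfin : B.Finite := hBli.setFinite
  let _ : Fintype B := hBfin.fintype
  have hcard : Fintype.card B = n := by
    have h1 := finrank_span_eq_card hBli
    rw [Subtype.range_coe, hBspan, hspan, finrank_top, Module.finrank_pi, Fintype.card_fin] at h1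
    exact h1.symm
  let e : Fin n ≃ B := (Fintype.equivFinOfCardEq hcard).symm
  refine ⟨fun i => (e i : Fin n → k), ?_, fun i => hBY (e i).2⟩
  exact hBli.comp e e.injective

variable {F : Type*} [Field F] [Fintype F] [DecidableEq F] {K : Type*} [Field K] {m d : ℕ}

variable (ψ : AddChar F K) (R : (Fin m → F) → Matrix (Fin d) (Fin d) K)

/-- Independent pairs of weight vectors attached to distinct weights form an independent
family. -/
theorem linearIndependent_pairs_of_isWeight (hψ : ψ.IsPrimitive) (hq : (Fintype.card F : K) ≠ 0)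
    {ι : Type*} [Fintype ι] (w : ι → Fin m → F) (hw : Function.Injective w)
    (v : ι × Bool → Fin d → K) (hv : ∀ i ε, IsWeight ψ R (w i) (v (i, ε)))
    (hpair : ∀ i, LinearIndependent K (fun ε : Bool => v (i, ε))) :
    LinearIndependent K v := by
  classical
  rw [Fintype.linearIndependent_iff]
  intro l hl
  have key : ∀ i₀ : ι, ∑ ε : Bool, l (i₀, ε) • v (i₀, ε) = 0 := by
    intro i₀
    have h1 := congrArg (fun x => wproj ψ R (w i₀) *ᵥ x) hl
    simp only [Matrix.mulVec_zero, Matrix.mulVec_sum, Matrix.mulVec_smul] at h1
    rw [Fintype.sum_prod_type, Finset.sum_eq_single i₀] at h1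
    · have h2 : ∑ ε : Bool, l (i₀, ε) • wproj ψ R (w i₀) *ᵥ v (i₀, ε) =
          ((Fintype.card F : K) ^ m) • ∑ ε : Bool, l (i₀, ε) • v (i₀, ε) := by
        rw [Finset.smul_sum]
        apply Finset.sum_congr rfl
        intro ε _
        rw [wproj_mulVec_of_weight ψ R hψ (w i₀) (w i₀) _ (hv i₀ ε), if_pos rfl, smul_comm]
      rw [h2] at h1
      rcases smul_eq_zero.1 h1 with h3 | h3
      · exact (pow_ne_zero _ hq h3).elim
      · exact h3
    · intro i _ hi
      apply Finset.sum_eq_zero
      intro ε _
      rw [wproj_mulVec_of_weight ψ R hψ (w i) (w i₀) _ (hv i ε),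
        if_neg (fun h => hi (hw h)), zero_smul, smul_zero]
    · intro h
      exact (h (Finset.mem_univ _)).elim
  rintro ⟨i, ε⟩
  have := Fintype.linearIndependent_iff.1 (hpair i) (fun ε => l (i, ε)) (key i)
  exact this ε

/-- Pairs of independent weight vectors for an injective family of weights bound the degree. -/
theorem two_mul_card_le_of_pairs (hψ : ψ.IsPrimitive) (hq : (Fintype.card F : K) ≠ 0)
    {ι : Type*} [Fintype ι] (w : ι → Fin m → F) (hw : Function.Injective w)
    (hv : ∀ i, ∃ v v' : Fin d → K, IsWeight ψ R (w i) v ∧ IsWeight ψ R (w i) v' ∧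
      LinearIndependent K ![v, v']) :
    2 * Fintype.card ι ≤ d := by
  choose v v' hv1 hv2 hli using hv
  have h := linearIndependent_pairs_of_isWeight ψ R hψ hq w hw
    (fun x : ι × Bool => if x.2 then v' x.1 else v x.1) ?_ ?_
  · have := h.fintype_card_le_finrank
    rw [Module.finrank_pi, Fintype.card_fin, Fintype.card_prod, Fintype.card_bool, mul_comm] at this
    exact this
  · intro i ε
    cases ε
    · simpa using hv1 i
    · simpa using hv2 i
  · intro i
    have h2 := hli i
    rw [LinearIndependent.pair_iff] at h2
    rw [Fintype.linearIndependent_iff]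
    intro g hg
    rw [Fintype.sum_bool] at hg
    simp only [if_true, Bool.false_eq_true, if_false] at hg
    have h3 := h2 (g false) (g true) (by rw [add_comm]; exact hg)
    intro ε
    cases ε
    · exact h3.1
    · exact h3.2

end Cfsg.Agent.Helper12
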