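import Mathlib
import Cfsg.Agent.Helper12.CrossCharA

set_option autoImplicit false

/-! An abelian unipotent subgroup `{[[1, e₀aᵀ + ae₀ᵀ],[0,1]]}` of `Sp_{2n}(F)` and the Levi
elements `diag(g, g⁻ᵀ)` normalizing it. -/

namespace Cfsg.Agent.Helper12

open Matrix

variable {F : Type*} [Field F] {n m : ℕ}

/-- The Siegel unipotent `[[1, B],[0, 1]]`. -/
def siegelMat (B : Matrix (Fin n) (Fin n) F) : Matrix (Fin n ⊕ Fin n) (Fin n ⊕ Fin n) F :=
  fromBlocks 1 B 0 1

theorem siegelMat_mem {B : Matrix (Fin n) (Fin n) F} (hB : Bᵀ = B) :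
    siegelMat B ∈ symplecticGroup (Fin n) F := by
  rw [siegelMat, SymplecticGroup.fromBlocks_mem_iff]
  simp [hB]

theorem siegelMat_zero : siegelMat (0 : Matrix (Fin n) (Fin n) F) = 1 := by
  rw [siegelMat, Matrix.fromBlocks_one]

theorem siegelMat_add (B B' : Matrix (Fin n) (Fin n) F) :
    siegelMat (B + B') = siegelMat B * siegelMat B' := by
  simp [siegelMat, Matrix.fromBlocks_multiply, add_comm]

/-- The Levi element `diag(g, hᵀ)`, for `h = g⁻¹`. -/
def leviMat (g h : Matrix (Fin n) (Fin n) F) : Matrix (Fin n ⊕ Fin n) (Fin n ⊕ Fin n) F :=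
  fromBlocks g 0 0 hᵀ

theorem leviMat_mem {g h : Matrix (Fin n) (Fin n) F} (hhg : h * g = 1) :
    leviMat g h ∈ symplecticGroup (Fin n) F := by
  rw [leviMat, SymplecticGroup.fromBlocks_mem_iff]
  simp [← Matrix.transpose_mul, hhg]

theorem siegelMat_mul_leviMat (B g h : Matrix (Fin n) (Fin n) F) (hgh : g * h = 1) :
    siegelMat B * leviMat g h = leviMat g h * siegelMat (h * B * hᵀ) := by
  simp only [siegelMat, leviMat, Matrix.fromBlocks_multiply, Matrix.one_mul, Matrix.mul_one,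
    Matrix.mul_zero, Matrix.zero_mul, add_zero, zero_add]
  rw [← Matrix.mul_assoc, ← Matrix.mul_assoc, hgh, Matrix.one_mul]

theorem siegelMat_mul_J_eq (B : Matrix (Fin n) (Fin n) F)
    (h : siegelMat B * J (Fin n) F = J (Fin n) F * siegelMat B) : B = 0 := by
  simp only [siegelMat, J, Matrix.fromBlocks_multiply, Matrix.one_mul, Matrix.mul_one,
    Matrix.mul_zero, Matrix.zero_mul, add_zero, zero_add] at h
  exact (Matrix.fromBlocks_inj.1 h).1

/-- The symmetric matrix `e₀aᵀ + ae₀ᵀ`. -/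
def rowB (a : Fin (m + 1) → F) : Matrix (Fin (m + 1)) (Fin (m + 1)) F :=
  Matrix.vecMulVec (Pi.single 0 1) a + Matrix.vecMulVec a (Pi.single 0 1)

theorem rowB_transpose (a : Fin (m + 1) → F) : (rowB a)ᵀ = rowB a := by
  rw [rowB, Matrix.transpose_add, Matrix.transpose_vecMulVec, Matrix.transpose_vecMulVec]
  exact add_comm _ _

theorem rowB_zero : rowB (0 : Fin (m + 1) → F) = 0 := by
  ext i j
  simp [rowB]

theorem rowB_add (a b : Fin (m + 1) → F) : rowB (a + b) = rowB a + rowB b := by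
  simp only [rowB, Matrix.vecMulVec_add, Matrix.add_vecMulVec]
  abel

theorem rowB_eq_zero (h2 : (2 : F) ≠ 0) {a : Fin (m + 1) → F} (h : rowB a = 0) : a = 0 := by
  ext j
  have h1 := congrFun (congrFun h 0) j
  simp only [rowB, Matrix.add_apply, Matrix.vecMulVec_apply, Pi.single_eq_same, one_mul,
    Matrix.zero_apply] at h1
  by_cases hj : j = 0
  · subst hj
    rw [Pi.single_eq_same, mul_one, ← two_mul] at h1
    rcases mul_eq_zero.1 h1 with h3 | h3
    · exact (h2 h3).elim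
    · exact h3
  · rw [Pi.single_eq_of_ne hj, mul_zero, add_zero] at h1
    exact h1

theorem mul_rowB_mul (h : Matrix (Fin (m + 1)) (Fin (m + 1)) F) (s : F)
    (hs : h *ᵥ (Pi.single 0 1 : Fin (m + 1) → F) = s • Pi.single 0 1) (a : Fin (m + 1) → F) :
    h * rowB a * hᵀ = rowB (s • h *ᵥ a) := by
  rw [rowB, rowB, Matrix.mul_add, Matrix.add_mul, Matrix.mul_vecMulVec, Matrix.mul_vecMulVec,
    Matrix.vecMulVec_mul, Matrix.vecMulVec_mul, Matrix.vecMul_transpose, Matrix.vecMul_transpose,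
    hs, Matrix.smul_vecMulVec, Matrix.vecMulVec_smul, Matrix.smul_vecMulVec,
    Matrix.vecMulVec_smul]

/-- The abelian unipotent subgroup of `Sp`. -/
def uSp (a : Fin (m + 1) → F) : symplecticGroup (Fin (m + 1)) F :=
  ⟨siegelMat (rowB a), siegelMat_mem (rowB_transpose a)⟩

theorem uSp_zero : uSp (0 : Fin (m + 1) → F) = 1 := by
  apply Subtype.ext
  show siegelMat (rowB (0 : Fin (m + 1) → F)) = 1
  rw [rowB_zero, siegelMat_zero]

theorem uSp_add (a b : Fin (m + 1) → F) : uSp (a + b) = uSp a * uSp b := by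
  apply Subtype.ext
  show siegelMat (rowB (a + b)) = siegelMat (rowB a) * siegelMat (rowB b)
  rw [rowB_add, siegelMat_add]

theorem uSp_not_mem_center (h2 : (2 : F) ≠ 0) {a : Fin (m + 1) → F} (ha : a ≠ 0) :
    uSp a ∉ Subgroup.center (symplecticGroup (Fin (m + 1)) F) := by
  intro h
  rw [Subgroup.mem_center_iff] at h
  have h1 := h (SymplecticGroup.symJ (Fin (m + 1)) F)
  have h3 := congrArg Subtype.val h1
  exact ha (rowB_eq_zero h2 (siegelMat_mul_J_eq _ h3.symm))

/-- Levi elements of `Sp`. -/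
def leviSp (g h : Matrix (Fin n) (Fin n) F) (hhg : h * g = 1) : symplecticGroup (Fin n) F :=
  ⟨leviMat g h, leviMat_mem hhg⟩

theorem uSp_mul_leviSp (g h : Matrix (Fin (m + 1)) (Fin (m + 1)) F) (hhg : h * g = 1) (s : F)
    (hs : h *ᵥ (Pi.single 0 1 : Fin (m + 1) → F) = s • Pi.single 0 1) (a : Fin (m + 1) → F) :
    uSp a * leviSp g h hhg = leviSp g h hhg * uSp (s • h *ᵥ a) := by
  apply Subtype.ext
  show siegelMat (rowB a) * leviMat g h = leviMat g h * siegelMat (rowB (s • h *ᵥ a))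
  rw [siegelMat_mul_leviMat _ _ _ (mul_eq_one_comm.1 hhg), mul_rowB_mul h s hs]

theorem smul_mulVec_dot (h : Matrix (Fin n) (Fin n) F) (s : F) (a c : Fin n → F) :
    (s • h *ᵥ a) ⬝ᵥ c = a ⬝ᵥ (s • hᵀ *ᵥ c) := by
  rw [smul_dotProduct, dotProduct_smul, Matrix.mulVec_transpose, dotProduct_comm (h *ᵥ a) c,
    Matrix.dotProduct_mulVec, dotProduct_comm a]

/-- The diagonal matrix `diag(s, 1, …, 1)`. -/
def torMat (s : F) : Matrix (Fin (m + 1)) (Fin (m + 1)) F :=
  Matrix.diagonal (Function.update (fun _ => 1) 0 s)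

theorem torMat_mul {s t : F} (hst : s * t = 1) : torMat (m := m) s * torMat t = 1 := by
  rw [torMat, torMat, Matrix.diagonal_mul_diagonal, ← Matrix.diagonal_one]
  congr 1
  ext i
  by_cases hi : i = 0
  · subst hi
    simp [hst]
  · simp [hi]

theorem torMat_mulVec (s : F) (c : Fin (m + 1) → F) (i : Fin (m + 1)) :
    (torMat s *ᵥ c) i = if i = 0 then s * c 0 else c i := by
  rw [torMat, Matrix.mulVec_diagonal]
  by_cases hi : i = 0
  · subst hi
    simp
  · simp [hi]

theorem torMat_transpose (s : F) : (torMat (m := m) s)ᵀ = torMat s := by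
  rw [torMat, Matrix.diagonal_transpose]

theorem torMat_mulVec_single (s : F) :
    torMat s *ᵥ (Pi.single 0 1 : Fin (m + 1) → F) = s • Pi.single 0 1 := by
  ext i
  rw [torMat_mulVec]
  by_cases hi : i = 0
  · subst hi
    simp
  · simp [hi]

theorem ccuMat_mulVec_single (y : Fin m → F) :
    ccuMat y *ᵥ (Pi.single 0 1 : Fin (m + 1) → F) = (1 : F) • Pi.single 0 1 := by
  rw [ccuMat, Matrix.add_mulVec, Matrix.one_mulVec, one_smul, Matrix.vecMulVec_mulVec,
    dot_single_zero, op_smul_eq_smul, zero_smul, add_zero]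

theorem ccuMat_transpose_mulVec (y : Fin m → F) (c : Fin (m + 1) → F) :
    (ccuMat y)ᵀ *ᵥ c = c + c 0 • (succE m F *ᵥ y) := by
  rw [ccuMat, Matrix.transpose_add, Matrix.transpose_one, Matrix.transpose_vecMulVec,
    Matrix.add_mulVec, Matrix.one_mulVec, Matrix.vecMulVec_mulVec, single_dotProduct, one_mul,
    op_smul_eq_smul]

end Cfsg.Agent.Helper12
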