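import Mathlib

set_option autoImplicit false

namespace Cfsg.Agent.Helper12

/-- A prime dividing the lcm of a multiset of naturals divides one of its members. -/
theorem prime_dvd_multiset_lcm {p : ℕ} (hp : p.Prime) (m : Multiset ℕ) (h : p ∣ m.lcm) :
    ∃ a ∈ m, p ∣ a := by
  induction m using Multiset.induction_on with
  | empty =>
    simp only [Multiset.lcm_zero] at h
    exact absurd (Nat.dvd_one.mp h) hp.one_lt.ne'
  | cons a s ih =>
    rw [Multiset.lcm_cons] at h
    have h2 : p ∣ a * s.lcm := dvd_trans h (lcm_dvd_mul a s.lcm)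
    rcases (Nat.Prime.dvd_mul hp).1 h2 with h3 | h3
    · exact ⟨a, Multiset.mem_cons_self a s, h3⟩
    · obtain ⟨b, hb, hpb⟩ := ih h3
      exact ⟨b, Multiset.mem_cons_of_mem hb, hpb⟩

/-- If two members of a multiset of positive naturals are distinct, their sum is at most the sum. -/
theorem add_le_multiset_sum_of_ne {m : Multiset ℕ} {a b : ℕ} (ha : a ∈ m) (hb : b ∈ m) (hab : a ≠ b) :
    a + b ≤ m.sum := by
  obtain ⟨t, rfl⟩ := Multiset.exists_cons_of_mem ha
  have hb' : b ∈ t := by
    rcases Multiset.mem_cons.1 hb with h | h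
    · exact absurd h.symm hab
    · exact h
  obtain ⟨u, rfl⟩ := Multiset.exists_cons_of_mem hb'
  simp only [Multiset.sum_cons]
  omega

theorem le_multiset_sum_of_mem {m : Multiset ℕ} {a : ℕ} (ha : a ∈ m) : a ≤ m.sum := by
  obtain ⟨t, rfl⟩ := Multiset.exists_cons_of_mem ha
  simp only [Multiset.sum_cons]
  omega

end Cfsg.Agent.Helper12
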