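import Mathlib
import Cfsg.Agent.Helper12.CycleTypeAux

set_option autoImplicit false

namespace Cfsg.Agent.Helper12

/-- The sign product over a cycle type only sees the even members. -/
theorem sign_prod_eq_neg_one_pow_card_even (m : Multiset ℕ) :
    (m.map fun n => -(-1 : ℤˣ) ^ n).prod = (-1 : ℤˣ) ^ Multiset.card (m.filter (fun a => Even a)) := by
  induction m using Multiset.induction_on with
  | empty => simp
  | cons a s ih =>
    rw [Multiset.map_cons, Multiset.prod_cons, ih]
    by_cases ha : Even a
    · rw [Multiset.filter_cons_of_pos _ ha, Multiset.card_cons, pow_succ, ha.neg_one_pow]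
      simp
    · rw [Multiset.filter_cons_of_neg _ ha]
      have : Odd a := Nat.not_even_iff_odd.mp ha
      rw [this.neg_one_pow]
      simp

theorem even_of_neg_one_pow_eq_one {k : ℕ} (h : (-1 : ℤˣ) ^ k = 1) : Even k := by
  by_contra hk
  have : Odd k := Nat.not_even_iff_odd.mp hk
  rw [this.neg_one_pow] at h
  exact absurd h (by decide)

/-- In an even permutation the number of even-length cycles is even. -/
theorem even_card_filter_even_cycleType {α : Type*} [Fintype α] [DecidableEq α] (g : Equiv.Perm α)
    (hg : Equiv.Perm.sign g = 1) : Even (Multiset.card (g.cycleType.filter (fun a => Even a))) := by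
  apply even_of_neg_one_pow_eq_one
  rw [← sign_prod_eq_neg_one_pow_card_even, ← Equiv.Perm.sign_of_cycleType', hg]

theorem multiset_sum_filter_add (m : Multiset ℕ) (p : ℕ → Prop) [DecidablePred p] :
    (m.filter p).sum + (m.filter (fun a => ¬ p a)).sum = m.sum := by
  rw [← Multiset.sum_add, Multiset.filter_add_not]

end Cfsg.Agent.Helper12
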