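import Mathlib
import Cfsg.Agent.Helper12.CycleTypeSign

set_option autoImplicit false

namespace Cfsg.Agent.Helper12

/-- (sum, lcm, parity of the number of even members) of a multiset of naturals. -/
def cycState (m : Multiset ℕ) : ℕ × ℕ × ℕ :=
  (m.sum, m.lcm, (Multiset.card (m.filter (fun a => Even a))) % 2)

def stepState (a : ℕ) (st : ℕ × ℕ × ℕ) : ℕ × ℕ × ℕ :=
  (st.1 + a, Nat.lcm a st.2.1, (st.2.2 + (if a % 2 = 0 then 1 else 0)) % 2)

theorem cycState_zero : cycState 0 = (0, 1, 0) := by
  simp [cycState]

theorem cycState_cons (a : ℕ) (m : Multiset ℕ) : cycState (a ::ₘ m) = stepState a (cycState m) := by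
  unfold cycState stepState
  refine Prod.ext ?_ (Prod.ext ?_ ?_)
  · simp only [Multiset.sum_cons]; omega
  · simp only [Multiset.lcm_cons]; rfl
  · simp only
    by_cases ha : Even a
    · have h : Multiset.filter (fun a => Even a) (a ::ₘ m) =
          a ::ₘ Multiset.filter (fun a => Even a) m := Multiset.filter_cons_of_pos _ ha
      rw [h, Multiset.card_cons]
      have : a % 2 = 0 := Nat.even_iff.mp ha
      rw [if_pos this]
      omega
    · have h : Multiset.filter (fun a => Even a) (a ::ₘ m) =
          Multiset.filter (fun a => Even a) m := Multiset.filter_cons_of_neg _ ha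
      rw [h]
      have : ¬ a % 2 = 0 := fun h => ha (Nat.even_iff.mpr h)
      rw [if_neg this]
      omega

/-- If a list of states contains the start state and is closed under admissible steps,
it contains the state of every multiset with members at least 2 and sum at most `N`. -/
theorem cycState_mem (N : ℕ) (R : List (ℕ × ℕ × ℕ)) (h0 : (0, 1, 0) ∈ R)
    (hstep : ∀ st ∈ R, ∀ a ∈ List.range (N + 1), 2 ≤ a → st.1 + a ≤ N → stepState a st ∈ R)
    (m : Multiset ℕ) (hm : ∀ a ∈ m, 2 ≤ a) (hs : m.sum ≤ N) : cycState m ∈ R := by
  induction m using Multiset.induction_on with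
  | empty => rw [cycState_zero]; exact h0
  | cons a s ih =>
    rw [Multiset.sum_cons] at hs
    have h1 : cycState s ∈ R :=
      ih (fun b hb => hm b (Multiset.mem_cons_of_mem hb)) (by omega)
    rw [cycState_cons]
    apply hstep _ h1 a
    · rw [List.mem_range]; omega
    · exact hm a (Multiset.mem_cons_self a s)
    · show s.sum + a ≤ N
      omega

/-- The state of the cycle type of an even permutation of `Fin n`. -/
theorem cycState_cycleType_even {n : ℕ} (g : Equiv.Perm (Fin n)) (hg : Equiv.Perm.sign g = 1) :
    cycState g.cycleType = (g.cycleType.sum, orderOf g, 0) := by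
  unfold cycState
  rw [Equiv.Perm.lcm_cycleType]
  have := even_card_filter_even_cycleType g hg
  rw [Nat.even_iff.mp this]

theorem cycState_cycleType {n : ℕ} (g : Equiv.Perm (Fin n)) :
    (cycState g.cycleType).2.1 = orderOf g := by
  unfold cycState
  rw [Equiv.Perm.lcm_cycleType]

end Cfsg.Agent.Helper12
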