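import Mathlib
import Cfsg.Agent.Helper12.CyclicGen2

set_option autoImplicit false

/-! `SL_{n+1}(K)`, `|K| > 3`, is generated by `h = diag(k, k⁻¹, 1, …)` and `x w`. -/

open Matrix
open Fin.NatCast Fin.CommRing

namespace Cfsg.Agent.Helper12.CycGen

variable {K : Type*} [Field K] [Fintype K]

/-- Every element of a finite field is a difference of two squares. -/
theorem exists_sq_sub_sq (c : K) : ∃ s₁ s₂ : K, c = s₁ ^ 2 - s₂ ^ 2 := by
  by_cases h2 : (2 : K) = 0
  · have hchar : ringChar K = 2 := by
      have hp := CharP.char_is_prime K (ringChar K)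
      have : ringChar K ∣ 2 := (ringChar.spec K 2).1 (by exact_mod_cast h2)
      exact (Nat.prime_dvd_prime_iff_eq hp Nat.prime_two).1 this
    obtain ⟨s, hs⟩ := FiniteField.isSquare_of_char_two hchar c
    exact ⟨s, 0, by rw [hs]; ring⟩
  · exact ⟨(c + 1) / 2, (c - 1) / 2, by field_simp; ring⟩

omit [Fintype K] in
theorem step_one {n : ℕ} (W : Matrix (Fin (n + 1)) (Fin (n + 1)) K) (δ δ' : Fin (n + 1) → K)
    (hW : W * diagonal δ = diagonal δ' * W) (i j : Fin (n + 1)) (hij : i ≠ j) (hj : δ' j ≠ 0) (t : K)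
    (ht : t = 1 - δ' i * (δ' j)⁻¹) :
    (1 + single i j t) * diagonal δ' * ((1 + single i j 1) * W) =
      (1 + single i j 1) * W * diagonal δ := by
  calc (1 + single i j t) * diagonal δ' * ((1 + single i j 1) * W)
      = (1 + single i j t) * (diagonal δ' * (1 + single i j 1)) * W := by
        simp only [Matrix.mul_assoc]
    _ = (1 + single i j t) * ((1 + single i j (δ' i * 1 * (δ' j)⁻¹)) * diagonal δ') * W := by
        rw [diagonal_mul_transvection δ' i j hj 1]
    _ = ((1 + single i j t) * (1 + single i j (δ' i * 1 * (δ' j)⁻¹))) * (diagonal δ' * W) := by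
        simp only [Matrix.mul_assoc]
    _ = (1 + single i j 1) * (diagonal δ' * W) := by
        rw [transvection_mul_transvection i j hij]
        congr 3
        rw [ht]
        ring
    _ = (1 + single i j 1) * W * diagonal δ := by
        rw [← hW, Matrix.mul_assoc]

omit [Fintype K] in
theorem step_two {n : ℕ} (δ δ' : Fin (n + 1) → K) (i j : Fin (n + 1)) (hij : i ≠ j)
    (hj : δ j ≠ 0) (t u : K) (hu : u = δ i * t * (δ j)⁻¹ - t) :
    (1 + single i j u) * ((1 + single i j t) * diagonal δ' * diagonal δ) =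
      diagonal δ * ((1 + single i j t) * diagonal δ') := by
  calc (1 + single i j u) * ((1 + single i j t) * diagonal δ' * diagonal δ)
      = ((1 + single i j u) * (1 + single i j t)) * (diagonal δ' * diagonal δ) := by
        simp only [Matrix.mul_assoc]
    _ = (1 + single i j (δ i * t * (δ j)⁻¹)) * (diagonal δ * diagonal δ') := by
        rw [transvection_mul_transvection i j hij, diagonal_mul_diagonal, diagonal_mul_diagonal]
        congr 2
        · congr 2
          rw [hu]
          ring
        · funext a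
          exact mul_comm _ _
    _ = diagonal δ * (1 + single i j t) * diagonal δ' := by
        rw [diagonal_mul_transvection δ i j hj t, Matrix.mul_assoc]
    _ = diagonal δ * ((1 + single i j t) * diagonal δ') := by
        rw [Matrix.mul_assoc]

theorem closure_eq_top_of_gen (hK : 3 < Fintype.card K) (m : ℕ)
    (k : Kˣ) (hk : ∀ u : Kˣ, u ∈ Subgroup.zpowers k)
    (h x w : SpecialLinearGroup (Fin (m + 1 + 1)) K)
    (hh : (h : Matrix (Fin (m + 1 + 1)) (Fin (m + 1 + 1)) K) =
      Matrix.diagonal (fun i => if i.val = 0 then (k : K) else if i.val = 1 then ((k⁻¹ : Kˣ) : K)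
        else 1))
    (hx : (x : Matrix (Fin (m + 1 + 1)) (Fin (m + 1 + 1)) K) =
      Matrix.transvection (0 : Fin (m + 1 + 1)) (1 : Fin (m + 1 + 1)) 1)
    (hw : (w : Matrix (Fin (m + 1 + 1)) (Fin (m + 1 + 1)) K) =
      Matrix.of (fun a b => if a = b - 1 then eps (m + 1) b else 0)) :
    Subgroup.closure ({h, x * w} : Set (SpecialLinearGroup (Fin (m + 1 + 1)) K)) = ⊤ := by
  set H := Subgroup.closure ({h, x * w} : Set (SpecialLinearGroup (Fin (m + 1 + 1)) K)) with hH
  have hhH : h ∈ H := Subgroup.subset_closure (by simp)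
  have hgH : x * w ∈ H := Subgroup.subset_closure (by simp)
  have h01 : (0 : Fin (m + 1 + 1)) ≠ 1 := zero_ne_one
  have hv1 : ((1 : Fin (m + 1 + 1)) : ℕ) = 1 := Fin.val_one m
  have hk0 : (k : K) ≠ 0 := k.ne_zero
  -- the order of `k`
  have hord : orderOf k = Fintype.card K - 1 := by
    rw [orderOf_eq_card_of_forall_mem_zpowers hk, Nat.card_units, Nat.card_eq_fintype_card]
  have hk2 : (k : K) ^ 2 ≠ 1 := by
    intro e
    have : k ^ 2 = 1 := Units.ext (by rw [Units.val_pow_eq_pow_val, e, Units.val_one])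
    have := Nat.le_of_dvd (by norm_num) (orderOf_dvd_of_pow_eq_one this)
    omega
  have hk1 : (k : K) ≠ 1 := by
    intro e
    exact hk2 (by rw [e, one_pow])
  -- the diagonal entries
  set δ : Fin (m + 1 + 1) → K := fun i => if i.val = 0 then (k : K) else if i.val = 1 then
    ((k⁻¹ : Kˣ) : K) else 1 with hδ
  have hδ0 : δ 0 = k := by simp [hδ]
  have hδ1 : δ 1 = (k : K)⁻¹ := by
    simp only [hδ, hv1]
    simp
  have hδne : ∀ i, δ i ≠ 0 := by
    intro i
    simp only [hδ]
    split_ifs
    · exact hk0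
    · exact (k⁻¹).ne_zero
    · exact one_ne_zero
  set δ' : Fin (m + 1 + 1) → K := fun a => δ (a + 1) with hδ'
  have hδ'0 : δ' 0 = (k : K)⁻¹ := by
    simp only [hδ', zero_add]
    exact hδ1
  have hX : (x : Matrix (Fin (m + 1 + 1)) (Fin (m + 1 + 1)) K) = 1 + single 0 1 1 := hx
  have hprod : ∏ i, δ i = 1 := by
    have := h.2
    rw [hh, det_diagonal] at this
    exact this
  have hprod' : ∏ i, δ' i = 1 := by
    rw [← hprod]
    exact Equiv.prod_comp (Equiv.addRight (1 : Fin (m + 1 + 1))) δ
  -- Step 1: `y = T(t) h'`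
  set t : K := 1 - δ' 0 * (δ' 1)⁻¹ with ht
  let h' : SpecialLinearGroup (Fin (m + 1 + 1)) K :=
    ⟨diagonal δ', by rw [det_diagonal]; exact hprod'⟩
  have hh' : (h' : Matrix (Fin (m + 1 + 1)) (Fin (m + 1 + 1)) K) = diagonal δ' := rfl
  have hy : SpecialLinearGroup.transvection h01 t * h' ∈ H := by
    apply mem_of_mul_eq (mul_mem hgH hhH) hgH
    simp only [Matrix.SpecialLinearGroup.coe_mul]
    rw [Matrix.SpecialLinearGroup.transvection_coe, hX, hh, hh']
    exact step_one _ δ δ' (W_mul_diagonal _ hw δ) 0 1 h01 (hδne _) t ht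
  -- Step 2: `T(u)`
  set u : K := δ 0 * t * (δ 1)⁻¹ - t with hu
  have hz : SpecialLinearGroup.transvection h01 u ∈ H := by
    apply mem_of_mul_eq (mul_mem hhH hy) (mul_mem hy hhH)
    simp only [Matrix.SpecialLinearGroup.coe_mul]
    rw [Matrix.SpecialLinearGroup.transvection_coe, Matrix.SpecialLinearGroup.transvection_coe, hh,
      hh']
    exact step_two δ δ' 0 1 h01 (hδne _) t u hu
  -- Step 3: closure under multiplication by `k²`
  have hstep : ∀ c : K, SpecialLinearGroup.transvection h01 c ∈ H →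
      SpecialLinearGroup.transvection h01 ((k : K) ^ 2 * c) ∈ H := by
    intro c hc
    apply mem_of_mul_eq (mul_mem hhH hc) hhH
    simp only [Matrix.SpecialLinearGroup.coe_mul]
    rw [Matrix.SpecialLinearGroup.transvection_coe,
      Matrix.SpecialLinearGroup.transvection_coe, hh]
    show (1 + single 0 1 ((k : K) ^ 2 * c)) * diagonal δ = diagonal δ * (1 + single 0 1 c)
    rw [diagonal_mul_transvection δ 0 1 (hδne _) c, hδ0, hδ1, inv_inv]
    congr 3
    ring
  have hpow : ∀ (j : ℕ) (c : K), SpecialLinearGroup.transvection h01 c ∈ H →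
      SpecialLinearGroup.transvection h01 (((k : K) ^ j) ^ 2 * c) ∈ H := by
    intro j
    induction j with
    | zero =>
      intro c hc
      rw [pow_zero, one_pow, one_mul]
      exact hc
    | succ j ih =>
      intro c hc
      have := hstep _ (ih c hc)
      have e : (k : K) ^ 2 * (((k : K) ^ j) ^ 2 * c) = ((k : K) ^ (j + 1)) ^ 2 * c := by ring
      rw [e] at this
      exact this
  have hsq : ∀ (s c : K), SpecialLinearGroup.transvection h01 c ∈ H →
      SpecialLinearGroup.transvection h01 (s ^ 2 * c) ∈ H := by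
    intro s c hc
    by_cases hs : s = 0
    · rw [hs, zero_pow two_ne_zero, zero_mul, Matrix.SpecialLinearGroup.transvection_coeff_zero]
      exact one_mem _
    · have h1 : Units.mk0 s hs ∈ Submonoid.powers k := mem_powers_iff_mem_zpowers.2 (hk _)
      obtain ⟨j, hj⟩ := (Submonoid.mem_powers_iff _ _).1 h1
      have h2 : (k : K) ^ j = s := by
        have := congrArg (fun v : Kˣ => (v : K)) hj
        simpa using this
      rw [← h2]
      exact hpow j c hc
  have hmul : ∀ (a c : K), SpecialLinearGroup.transvection h01 c ∈ H →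
      SpecialLinearGroup.transvection h01 (a * c) ∈ H := by
    intro a c hc
    obtain ⟨s₁, s₂, rfl⟩ := exists_sq_sub_sq a
    have e : (s₁ ^ 2 - s₂ ^ 2) * c = s₁ ^ 2 * c + -(s₂ ^ 2 * c) := by ring
    rw [e, Matrix.SpecialLinearGroup.transvection_add, ← Matrix.SpecialLinearGroup.transvection_inv]
    exact mul_mem (hsq s₁ c hc) (inv_mem (hsq s₂ c hc))
  -- `u ≠ 0`
  have hδ'1 : δ' 1 = (k : K) ∨ δ' 1 = 1 := by
    simp only [hδ', hδ]
    split_ifs
    · left; rfl
    · exfalso
      rename_i h1 h2
      have h3 : ((1 + 1 : Fin (m + 1 + 1)) : ℕ) = (1 + 1) % (m + 1 + 1) := by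
        rw [Fin.val_add, hv1]
      rw [h3] at h2
      rcases Nat.eq_zero_or_pos m with hm | hm
      · subst hm
        norm_num at h2
      · rw [Nat.mod_eq_of_lt (by omega)] at h2
        omega
    · right; rfl
  have ht0 : t ≠ 0 := by
    rw [ht, hδ'0]
    rcases hδ'1 with e | e
    · rw [e]
      intro h0
      apply hk2
      rw [sub_eq_zero, ← mul_inv, ← sq] at h0
      exact inv_eq_one.1 h0.symm
    · rw [e]
      intro h0
      apply hk1
      rw [inv_one, mul_one, sub_eq_zero] at h0
      exact inv_eq_one.1 h0.symm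
  have hu0 : u ≠ 0 := by
    rw [hu, hδ0, hδ1, inv_inv]
    have : (k : K) * t * k - t = ((k : K) ^ 2 - 1) * t := by ring
    rw [this]
    exact mul_ne_zero (sub_ne_zero.2 hk2) ht0
  have hall : ∀ c : K, SpecialLinearGroup.transvection h01 c ∈ H := by
    intro c
    have := hmul (c * u⁻¹) u hz
    rw [mul_assoc, inv_mul_cancel₀ hu0, mul_one] at this
    exact this
  -- `x` and `w` lie in `H`
  have hxH : x ∈ H := by
    have : x = SpecialLinearGroup.transvection h01 1 := Subtype.ext hx
    rw [this]
    exact hall 1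
  have hwH : w ∈ H := by
    have : w = x⁻¹ * (x * w) := by group
    rw [this]
    exact mul_mem (inv_mem hxH) hgH
  exact eq_top_of_mem (by omega) H w hw hwH (fun _ c => hall c)

end Cfsg.Agent.Helper12.CycGen
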