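import Mathlib
import Cfsg.Prelude.Def_Characters
import Cfsg.Agent.Helper12.LSLDefs
import Cfsg.Agent.Helper18.LSLPROJA
import Cfsg.Agent.Helper18.LSLPROJB
import Cfsg.Agent.Helper18.LSLPROJC
import Cfsg.Agent.Helper24.Integrality

set_option autoImplicit false

/-! S2345: generic lemmas on the projections `projOp` and an indexed-family version of the
integrality of central characters. -/

namespace Cfsg.Agent.Helper12.LOP

open Matrix Cfsg Cfsg.Agent.Helper12.LSL

/-- the character on `U a` as a sum over the isotypic projections -/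
theorem char_eq_sum_projOp {G : Type*} [Group G] {V : Type*} [AddCommGroup V] [Module ℂ V]
    [FiniteDimensional ℂ V] {A : Type*} [Group A] [Fintype A] {ι : Type*} [Fintype ι]
    (ρ : Representation ℂ G V) (U : A →* G)
    (lam : ι → A →* ℂ) (horth : ∀ a : A, a ≠ 1 → ∑ i, lam i a = 0)
    (hcard : Fintype.card ι = Fintype.card A) (a : A) :
    ρ.character (U a) = ∑ i, lam i a * LinearMap.trace ℂ V (projOp ρ U (lam i)) := by
  have h1 : ρ (U a) = ∑ i, lam i a • projOp ρ U (lam i) := by
    have h0 : ρ (U a) = ρ (U a) ∘ₗ ∑ i, projOp ρ U (lam i) := by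
      rw [sum_projOp ρ U lam horth hcard]
      rfl
    conv_lhs => rw [h0]
    show ρ (U a) * ∑ i, projOp ρ U (lam i) = _
    rw [Finset.mul_sum]
    exact Finset.sum_congr rfl (fun i _ => rho_comp_projOp ρ U (lam i) a)
  show LinearMap.trace ℂ V (ρ (U a)) = _
  rw [h1, map_sum]
  exact Finset.sum_congr rfl (fun i _ => by rw [map_smul, smul_eq_mul])

/-- conjugate endomorphisms have the same trace -/
theorem trace_eq_of_conj {G : Type*} [Group G] {V : Type*} [AddCommGroup V] [Module ℂ V]
    [FiniteDimensional ℂ V] (ρ : Representation ℂ G V) (g : G) (p p' : V →ₗ[ℂ] V)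
    (h : ρ g ∘ₗ p = p' ∘ₗ ρ g) : LinearMap.trace ℂ V p = LinearMap.trace ℂ V p' := by
  have h1 : p = ρ g⁻¹ ∘ₗ (p' ∘ₗ ρ g) := by
    rw [← h, ← LinearMap.comp_assoc]
    have : ρ g⁻¹ ∘ₗ ρ g = LinearMap.id := by
      show ρ g⁻¹ * ρ g = 1
      rw [← map_mul, inv_mul_cancel, map_one]
    rw [this, LinearMap.id_comp]
  rw [h1, LinearMap.trace_comp_comm', LinearMap.comp_assoc]
  have : ρ g ∘ₗ ρ g⁻¹ = LinearMap.id := by
    show ρ g * ρ g⁻¹ = 1
    rw [← map_mul, mul_inv_cancel, map_one]
  rw [this, LinearMap.comp_id]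

/-- integrality of central characters for a conjugation-invariant indexed family of group
elements on which the character is constant -/
theorem dvd_of_conj_invariant_family {G : Type*} [Group G] [Fintype G] (k : ℕ)
    (ρ : Representation ℂ G (Fin k → ℂ)) (hρ : ρ.IsIrreducible) {ι : Type*} [Fintype ι]
    (f : ι → G) (act : G → ι ≃ ι) (hact : ∀ h i, f (act h i) = h * f i * h⁻¹) (t : ℤ)
    (ht : ∀ i, ρ.character (f i) = (t : ℂ)) : (k : ℤ) ∣ (Fintype.card ι : ℤ) * t := by
  classical
  haveI := hρ
  let a : G → ℂ := fun g => ((Finset.univ.filter (fun i => f i = g)).card : ℂ)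
  have ha : IsClassFunction G a := by
    intro g h
    show ((Finset.univ.filter (fun i => f i = h * g * h⁻¹)).card : ℂ) =
      ((Finset.univ.filter (fun i => f i = g)).card : ℂ)
    congr 1
    symm
    apply Finset.card_bij (fun i _ => act h i)
    · intro i hi
      rw [Finset.mem_filter] at hi ⊢
      refine ⟨Finset.mem_univ _, ?_⟩
      rw [hact, hi.2]
    · intro i _ j _ hij
      exact (act h).injective hij
    · intro j hj
      rw [Finset.mem_filter] at hj
      refine ⟨(act h).symm j, ?_, (act h).apply_symm_apply j⟩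
      rw [Finset.mem_filter]
      refine ⟨Finset.mem_univ _, ?_⟩
      have h1 := hact h ((act h).symm j)
      rw [(act h).apply_symm_apply, hj.2] at h1
      have h2 : f ((act h).symm j) = h⁻¹ * (h * g * h⁻¹) * h := by
        rw [h1]; group
      rw [h2]; group
  have hai : ∀ g, IsIntegral ℤ (a g) := by
    intro g
    show IsIntegral ℤ ((Finset.univ.filter (fun i => f i = g)).card : ℂ)
    exact isIntegral_natCast (R := ℤ) (B := ℂ) _
  obtain ⟨c, hc, hcs⟩ := Cfsg.Agent.Helper24.isIntegral_class_sum_div ρ a ha hai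
  rw [Module.finrank_fin_fun] at hcs
  have hsum : ∑ g, a g * ρ.character g = (Fintype.card ι : ℂ) * (t : ℂ) := by
    have h1 : ∀ g, a g * ρ.character g =
        ∑ i ∈ Finset.univ.filter (fun i => f i = g), (t : ℂ) := by
      intro g
      show ((Finset.univ.filter (fun i => f i = g)).card : ℂ) * ρ.character g = _
      rw [Finset.sum_const, nsmul_eq_mul]
      by_cases hne : (Finset.univ.filter (fun i => f i = g)).Nonempty
      · obtain ⟨i, hi⟩ := hne
        rw [Finset.mem_filter] at hi
        rw [← hi.2, ht i]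
      · rw [Finset.not_nonempty_iff_eq_empty] at hne
        rw [hne]
        simp
    rw [Finset.sum_congr rfl (fun g _ => h1 g)]
    rw [Finset.sum_fiberwise Finset.univ f (fun _ => (t : ℂ)), Finset.sum_const, Finset.card_univ,
      nsmul_eq_mul]
  rw [hsum] at hcs
  have hk : (k : ℂ) ≠ 0 := by
    have hpos := Cfsg.Agent.Helper24.finrank_pos_of_isIrreducible ρ
    rw [Module.finrank_fin_fun] at hpos
    exact_mod_cast hpos.ne'
  have hkq : (k : ℚ) ≠ 0 := by
    intro h0
    apply hk
    exact_mod_cast h0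
  have hcq : c = ((((Fintype.card ι : ℕ) : ℚ) * (t : ℚ) / (k : ℚ) : ℚ) : ℂ) := by
    push_cast
    rw [eq_div_iff hk]
    exact hcs
  rw [hcq] at hc
  obtain ⟨n, hn⟩ := Cfsg.Agent.Helper24.exists_int_of_isIntegral_ratCast hc
  rw [div_eq_iff hkq] at hn
  refine ⟨n, ?_⟩
  have : (((Fintype.card ι : ℕ) : ℤ) * t : ℚ) = ((k : ℤ) * n : ℚ) := by
    push_cast
    rw [hn]
    ring
  exact_mod_cast this

end Cfsg.Agent.Helper12.LOP
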