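import Mathlib
import Cfsg.Agent.Helper12.LOPGen

set_option autoImplicit false
set_option linter.unusedSectionVars false
set_option linter.unusedVariables false

/-! Minimal degree of `³D₄(q)`, part A: additive characters of a finite field and the characters of
the abelian group `K × F × F`. -/

namespace Cfsg.Agent.Helper12.D4Deg

open Cfsg Cfsg.Agent.Helper12.LSL Cfsg.Agent.Helper12.LOP

section addchar

variable {F : Type*} [Field F] [Fintype F]

/-- a finite field has a primitive additive character -/
theorem exists_primitive : ∃ ψ : AddChar F ℂ, ψ.IsPrimitive := by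
  obtain ⟨ψ, hψ⟩ := (AddChar.exists_apply_ne_zero (α := F) (a := 1)).mpr one_ne_zero
  refine ⟨ψ, AddChar.IsPrimitive.of_ne_one ?_⟩
  intro h
  apply hψ
  rw [h]
  rfl

/-- every additive character of a finite field is a shift of a given primitive one -/
theorem exists_mulShift_eq {ψ : AddChar F ℂ} (hψ : ψ.IsPrimitive) (ε : AddChar F ℂ) :
    ∃ x₀ : F, ∀ s, ε s = ψ (x₀ * s) := by
  classical
  have hinj : Function.Injective (fun x : F => AddChar.mulShift ψ x) :=
    AddChar.to_mulShift_inj_of_isPrimitive hψ
  have hcard : Nat.card (AddChar F ℂ) ≤ Nat.card F := by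
    haveI : Fintype (AddChar F ℂ) := Fintype.ofFinite _
    have := AddChar.card_eq (α := F)
    rw [Nat.card_eq_fintype_card, Nat.card_eq_fintype_card]
    exact le_of_eq (by convert this)
  have hsurj : Function.Surjective (fun x : F => AddChar.mulShift ψ x) :=
    (Function.Injective.bijective_of_nat_card_le hinj hcard).2
  obtain ⟨x₀, hx₀⟩ := hsurj ε
  refine ⟨x₀, fun s => ?_⟩
  rw [← hx₀]
  rfl

/-- a primitive character takes a value `≠ 1` on every non-zero multiple class -/
theorem exists_ne_one {ψ : AddChar F ℂ} (hψ : ψ.IsPrimitive) {x : F} (hx : x ≠ 0) :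
    ∃ s, ψ (x * s) ≠ 1 := by
  by_contra hcon
  push Not at hcon
  apply hψ hx
  ext s
  rw [AddChar.mulShift_apply, hcon]
  rfl

theorem sum_mul_eq_zero {ψ : AddChar F ℂ} (hψ : ψ.IsPrimitive) {b : F} (hb : b ≠ 0) :
    ∑ x : F, ψ (x * b) = 0 := by
  classical
  rw [AddChar.sum_mulShift b hψ, if_neg hb]
  simp

end addchar

end Cfsg.Agent.Helper12.D4Deg
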