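import Mathlib
import Cfsg.Agent.Helper12.D4DegA

set_option autoImplicit false
set_option linter.unusedSectionVars false
set_option linter.unusedVariables false

/-! Minimal degree of `³D₄(q)`, part B: the relations used, the abelian subgroup
`A = X_{2a+b} X_{3a+b} X_{3a+2b}` and its characters. -/

namespace Cfsg.Agent.Helper12.D4Deg

open Cfsg Cfsg.Agent.Helper12.LSL Cfsg.Agent.Helper12.LOP

/-- The relations of `³D₄(q)` used in the degree bound.  `F` is the field with `q` elements, `K` the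
field with `q³` elements; `z, y, e, f` are the root subgroups of the long roots `3a+2b, 3a+b, b, -b`,
and `c, d, a` those of the short roots `2a+b, a+b, a`. -/
structure Rel (G F K : Type*) [Group G] [Field F] [Field K] [Algebra F K] where
  tr : K →ₗ[F] F
  nu : K → F
  z : F → G
  y : F → G
  e : F → G
  f : F → G
  c : K → G
  d : K → G
  a : K → G
  na : G
  h0 : G
  k1 : F
  k2 : F
  k3 : F
  k4 : F
  k5 : F
  k6 : F
  kap : K
  hk1 : k1 ≠ 0
  hk2 : k2 ≠ 0
  hk3 : k3 ≠ 0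
  hk4 : k4 ≠ 0
  hk5 : k5 ≠ 0
  hk6 : k6 ≠ 0
  hkap : kap ≠ 1
  tr_surj : Function.Surjective tr
  nu_surj : Function.Surjective nu
  z_add : ∀ w w', z (w + w') = z w * z w'
  y_add : ∀ v v', y (v + v') = y v * y v'
  c_add : ∀ u u', c (u + u') = c u * c u'
  e_add : ∀ s s', e (s + s') = e s * e s'
  d_add : ∀ t t', d (t + t') = d t * d t'
  yz : ∀ v w, y v * z w = z w * y v
  cy : ∀ u v, c u * y v = y v * c u
  cz : ∀ u w, c u * z w = z w * c u
  ey : ∀ s v, e s * y v = y v * z (k1 * s * v) * e s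
  ec : ∀ s u, e s * c u = c u * e s
  ez : ∀ s w, e s * z w = z w * e s
  fz : ∀ s w, f s * z w = z w * y (k2 * s * w) * f s
  fy : ∀ s v, f s * y v = y v * f s
  fc : ∀ s u, f s * c u = c u * f s
  ac : ∀ t u, a t * c u = c u * y (k3 * tr (t * u)) * a t
  ay : ∀ t v, a t * y v = y v * a t
  az : ∀ t w, a t * z w = z w * a t
  dc : ∀ t u, d t * c u = c u * z (k4 * tr (t * u)) * d t
  dy : ∀ t v, d t * y v = y v * d t
  dz : ∀ t w, d t * z w = z w * d t
  ae : ∀ t s, ∃ t' u' w', e s * a t = a t * (e s * d t' * c u' * y (k5 * nu t * s) * z w')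
  na_z : ∀ w, ∃ w', z w * na = na * z w'
  na_y : ∀ v, ∃ s, y v * na = na * e s
  na_e : ∀ s, e s * na = na * y (k6 * s)
  h0_y : ∀ v, y v * h0 = h0 * y v
  h0_c : ∀ u, ∃ u', c u * h0 = h0 * c u'
  h0_z : ∀ w, ∃ w', z w * h0 = h0 * z w'
  h0_d : ∀ t, d t * h0 = h0 * d (kap * t)

variable {G F K : Type*} [Group G] [Field F] [Field K] [Algebra F K] (R : Rel G F K)

namespace Rel

theorem z_zero : R.z 0 = 1 := by
  have h := R.z_add 0 0
  rw [add_zero] at h
  exact mul_eq_left.mp h.symm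

theorem y_zero : R.y 0 = 1 := by
  have h := R.y_add 0 0
  rw [add_zero] at h
  exact mul_eq_left.mp h.symm

theorem c_zero : R.c 0 = 1 := by
  have h := R.c_add 0 0
  rw [add_zero] at h
  exact mul_eq_left.mp h.symm

theorem e_zero : R.e 0 = 1 := by
  have h := R.e_add 0 0
  rw [add_zero] at h
  exact mul_eq_left.mp h.symm

theorem d_zero : R.d 0 = 1 := by
  have h := R.d_add 0 0
  rw [add_zero] at h
  exact mul_eq_left.mp h.symm

/-- the element `c(u) y(v) z(w)` of `A` -/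
def el (p : K × F × F) : G := R.c p.1 * R.y p.2.1 * R.z p.2.2

theorem el_add (p p' : K × F × F) : R.el (p + p') = R.el p * R.el p' := by
  obtain ⟨u, v, w⟩ := p
  obtain ⟨u', v', w'⟩ := p'
  show R.c (u + u') * R.y (v + v') * R.z (w + w') = R.c u * R.y v * R.z w * (R.c u' * R.y v' * R.z w')
  rw [R.c_add, R.y_add, R.z_add]
  have h1 : R.z w * (R.c u' * R.y v' * R.z w') = R.c u' * R.y v' * R.z w * R.z w' := by
    rw [← mul_assoc, ← mul_assoc, ← R.cz, mul_assoc (R.c u'), ← R.yz, ← mul_assoc]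
  have h2 : R.y v * (R.c u' * R.y v' * R.z w * R.z w') = R.c u' * R.y v * R.y v' * R.z w * R.z w' := by
    rw [← mul_assoc, ← mul_assoc, ← mul_assoc, ← R.cy]
  calc R.c u * R.c u' * (R.y v * R.y v') * (R.z w * R.z w')
      = R.c u * (R.c u' * R.y v * R.y v' * R.z w * R.z w') := by simp only [mul_assoc]
    _ = R.c u * (R.y v * (R.c u' * R.y v' * R.z w * R.z w')) := by rw [h2]
    _ = R.c u * (R.y v * (R.z w * (R.c u' * R.y v' * R.z w'))) := by rw [h1]
    _ = _ := by simp only [mul_assoc]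

/-- `A` as a homomorphism -/
def UA : Multiplicative (K × F × F) →* G where
  toFun x := R.el (Multiplicative.toAdd x)
  map_one' := by
    show R.c 0 * R.y 0 * R.z 0 = 1
    rw [R.c_zero, R.y_zero, R.z_zero, one_mul, one_mul]
  map_mul' x x' := R.el_add _ _

theorem UA_apply (p : K × F × F) : R.UA (Multiplicative.ofAdd p) = R.c p.1 * R.y p.2.1 * R.z p.2.2 :=
  rfl

end Rel

/-- the character `(u, v, w) ↦ ψ(tr(ξ u) + η v + ζ w)` of `A` -/
def lam (R : Rel G F K) (ψ : AddChar F ℂ) (i : K × F × F) : Multiplicative (K × F × F) →* ℂ where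
  toFun x := ψ (R.tr (i.1 * (Multiplicative.toAdd x).1) + i.2.1 * (Multiplicative.toAdd x).2.1 +
    i.2.2 * (Multiplicative.toAdd x).2.2)
  map_one' := by
    show ψ (R.tr (i.1 * 0) + i.2.1 * 0 + i.2.2 * 0) = 1
    simp
  map_mul' x x' := by
    obtain ⟨u, v, w⟩ := x
    obtain ⟨u', v', w'⟩ := x'
    show ψ (R.tr (i.1 * (u + u')) + i.2.1 * (v + v') + i.2.2 * (w + w')) =
      ψ (R.tr (i.1 * u) + i.2.1 * v + i.2.2 * w) * ψ (R.tr (i.1 * u') + i.2.1 * v' + i.2.2 * w')
    rw [← AddChar.map_add_eq_mul]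
    congr 1
    rw [mul_add, map_add]
    ring

theorem lam_apply (ψ : AddChar F ℂ) (i p : K × F × F) :
    lam R ψ i (Multiplicative.ofAdd p) = ψ (R.tr (i.1 * p.1) + i.2.1 * p.2.1 + i.2.2 * p.2.2) := rfl

section orth

variable [Fintype F] [Fintype K]

theorem sum_tr_eq_zero {ψ : AddChar F ℂ} (hψ : ψ.IsPrimitive) {u : K} (hu : u ≠ 0) :
    ∑ ξ : K, ψ (R.tr (ξ * u)) = 0 := by
  let g : K →+ F :=
    { toFun := fun ξ => R.tr (ξ * u)
      map_zero' := by simp
      map_add' := by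
        intro a b
        rw [add_mul, map_add] }
  have hne : ψ.compAddMonoidHom g ≠ 1 := by
    intro h
    obtain ⟨s, hs⟩ := exists_ne_one hψ (one_ne_zero (α := F))
    obtain ⟨x, hx⟩ := R.tr_surj s
    apply hs
    have := DFunLike.congr_fun h (x * u⁻¹)
    rw [AddChar.compAddMonoidHom_apply] at this
    show ψ (1 * s) = 1
    rw [one_mul, ← hx]
    have e : g (x * u⁻¹) = R.tr x := by
      show R.tr (x * u⁻¹ * u) = R.tr x
      rw [mul_assoc, inv_mul_cancel₀ hu, mul_one]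
    rw [e] at this
    exact this
  exact AddChar.sum_eq_zero_of_ne_one hne

theorem lam_orth {ψ : AddChar F ℂ} (hψ : ψ.IsPrimitive) (x : Multiplicative (K × F × F))
    (hx : x ≠ 1) : ∑ i, lam R ψ i x = 0 := by
  obtain ⟨u, v, w⟩ := x
  have hsplit : ∀ i : K × F × F, lam R ψ i (Multiplicative.ofAdd (u, v, w)) =
      ψ (R.tr (i.1 * u)) * (ψ (i.2.1 * v) * ψ (i.2.2 * w)) := by
    intro i
    rw [lam_apply, AddChar.map_add_eq_mul, AddChar.map_add_eq_mul, mul_assoc]
  show ∑ i, lam R ψ i (Multiplicative.ofAdd (u, v, w)) = 0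
  rw [Finset.sum_congr rfl (fun i _ => hsplit i), Fintype.sum_prod_type]
  simp only [Fintype.sum_prod_type, ← Finset.mul_sum, ← Finset.sum_mul]
  by_cases hu : u = 0
  · by_cases hv : v = 0
    · have hw : w ≠ 0 := by
        intro hw
        apply hx
        rw [hu, hv, hw]
        rfl
      rw [sum_mul_eq_zero hψ hw]
      simp
    · rw [sum_mul_eq_zero hψ hv]
      simp
  · rw [sum_tr_eq_zero R hψ hu]
    simp

theorem lam_card : Fintype.card (K × F × F) = Fintype.card (Multiplicative (K × F × F)) :=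
  Fintype.card_congr Multiplicative.ofAdd

theorem lam_injective {ψ : AddChar F ℂ} (hψ : ψ.IsPrimitive) : Function.Injective (lam R ψ) := by
  rintro ⟨ξ, η, ζ⟩ ⟨ξ', η', ζ'⟩ h
  have h1 : ∀ p : K × F × F, ψ (R.tr (ξ * p.1) + η * p.2.1 + ζ * p.2.2) =
      ψ (R.tr (ξ' * p.1) + η' * p.2.1 + ζ' * p.2.2) := fun p =>
    DFunLike.congr_fun h (Multiplicative.ofAdd p)
  have key : ∀ b b' : F, (∀ s, ψ (b * s) = ψ (b' * s)) → b = b' := by
    intro b b' hb
    by_contra hne
    obtain ⟨s, hs⟩ := exists_ne_one hψ (sub_ne_zero.mpr hne)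
    apply hs
    rw [sub_mul, sub_eq_add_neg, AddChar.map_add_eq_mul, AddChar.map_neg_eq_inv, hb s,
      mul_inv_cancel₀ (AddChar.val_isUnit ψ _).ne_zero]
  have hη : η = η' := by
    apply key
    intro s
    have := h1 (0, s, 0)
    simpa using this
  have hζ : ζ = ζ' := by
    apply key
    intro s
    have := h1 (0, 0, s)
    simpa using this
  have hξ : ξ = ξ' := by
    by_contra hne
    obtain ⟨s, hs⟩ := exists_ne_one hψ (one_ne_zero (α := F))
    obtain ⟨x, hx⟩ := R.tr_surj s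
    apply hs
    have := h1 ((ξ - ξ')⁻¹ * x, 0, 0)
    simp only [mul_zero, add_zero] at this
    rw [one_mul, ← hx]
    have e : x = ξ * ((ξ - ξ')⁻¹ * x) - ξ' * ((ξ - ξ')⁻¹ * x) := by
      rw [← sub_mul, ← mul_assoc, mul_inv_cancel₀ (sub_ne_zero.mpr hne), one_mul]
    rw [e, map_sub, sub_eq_add_neg, AddChar.map_add_eq_mul, AddChar.map_neg_eq_inv, this,
      mul_inv_cancel₀ (AddChar.val_isUnit ψ _).ne_zero]
  rw [hξ, hη, hζ]

end orth

end Cfsg.Agent.Helper12.D4Deg
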