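import Mathlib
import Cfsg.Agent.Helper12.D4DegB

set_option autoImplicit false
set_option linter.unusedSectionVars false
set_option linter.unusedVariables false

/-! Minimal degree of `³D₄(q)`, part C: multiplicities of the characters of `A` and their
invariance under the parabolic subgroup normalising `A`. -/

namespace Cfsg.Agent.Helper12.D4Deg

open Cfsg Cfsg.Agent.Helper12.LSL Cfsg.Agent.Helper12.LOP

variable {G F K : Type*} [Group G] [Field F] [Field K] [Algebra F K] (R : Rel G F K)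

/-- the linear form `tr(ξ u) + η v + ζ w` -/
def form (i p : K × F × F) : F := R.tr (i.1 * p.1) + i.2.1 * p.2.1 + i.2.2 * p.2.2

theorem lam_apply' (ψ : AddChar F ℂ) (i p : K × F × F) :
    lam R ψ i (Multiplicative.ofAdd p) = ψ (form R i p) := rfl

namespace Rel

theorem conj_e (s : F) (p : K × F × F) :
    R.e s * R.el p = R.el (p.1, p.2.1, R.k1 * s * p.2.1 + p.2.2) * R.e s := by
  obtain ⟨u, v, w⟩ := p
  show R.e s * (R.c u * R.y v * R.z w) = R.c u * R.y v * R.z (R.k1 * s * v + w) * R.e s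
  calc R.e s * (R.c u * R.y v * R.z w) = (R.e s * R.c u) * R.y v * R.z w := by
        simp only [mul_assoc]
    _ = R.c u * (R.e s * R.y v) * R.z w := by rw [R.ec]; simp only [mul_assoc]
    _ = R.c u * R.y v * R.z (R.k1 * s * v) * (R.e s * R.z w) := by
        rw [R.ey]; simp only [mul_assoc]
    _ = R.c u * R.y v * (R.z (R.k1 * s * v) * R.z w) * R.e s := by
        rw [R.ez]; simp only [mul_assoc]
    _ = _ := by rw [← R.z_add]

theorem conj_f (s : F) (p : K × F × F) :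
    R.f s * R.el p = R.el (p.1, p.2.1 + R.k2 * s * p.2.2, p.2.2) * R.f s := by
  obtain ⟨u, v, w⟩ := p
  show R.f s * (R.c u * R.y v * R.z w) = R.c u * R.y (v + R.k2 * s * w) * R.z w * R.f s
  calc R.f s * (R.c u * R.y v * R.z w) = (R.f s * R.c u) * R.y v * R.z w := by
        simp only [mul_assoc]
    _ = R.c u * (R.f s * R.y v) * R.z w := by rw [R.fc]; simp only [mul_assoc]
    _ = R.c u * R.y v * (R.f s * R.z w) := by rw [R.fy]; simp only [mul_assoc]
    _ = R.c u * R.y v * (R.z w * R.y (R.k2 * s * w)) * R.f s := by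
        rw [R.fz]; simp only [mul_assoc]
    _ = R.c u * (R.y v * R.y (R.k2 * s * w)) * R.z w * R.f s := by
        rw [← R.yz]; simp only [mul_assoc]
    _ = _ := by rw [← R.y_add]

theorem conj_a (t : K) (p : K × F × F) :
    R.a t * R.el p = R.el (p.1, R.k3 * R.tr (t * p.1) + p.2.1, p.2.2) * R.a t := by
  obtain ⟨u, v, w⟩ := p
  show R.a t * (R.c u * R.y v * R.z w) = R.c u * R.y (R.k3 * R.tr (t * u) + v) * R.z w * R.a t
  calc R.a t * (R.c u * R.y v * R.z w) = (R.a t * R.c u) * R.y v * R.z w := by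
        simp only [mul_assoc]
    _ = R.c u * R.y (R.k3 * R.tr (t * u)) * (R.a t * R.y v) * R.z w := by
        rw [R.ac]; simp only [mul_assoc]
    _ = R.c u * R.y (R.k3 * R.tr (t * u)) * R.y v * (R.a t * R.z w) := by
        rw [R.ay]; simp only [mul_assoc]
    _ = R.c u * (R.y (R.k3 * R.tr (t * u)) * R.y v) * R.z w * R.a t := by
        rw [R.az]; simp only [mul_assoc]
    _ = _ := by rw [← R.y_add]

theorem conj_d (t : K) (p : K × F × F) :
    R.d t * R.el p = R.el (p.1, p.2.1, R.k4 * R.tr (t * p.1) + p.2.2) * R.d t := by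
  obtain ⟨u, v, w⟩ := p
  show R.d t * (R.c u * R.y v * R.z w) = R.c u * R.y v * R.z (R.k4 * R.tr (t * u) + w) * R.d t
  calc R.d t * (R.c u * R.y v * R.z w) = (R.d t * R.c u) * R.y v * R.z w := by
        simp only [mul_assoc]
    _ = R.c u * R.z (R.k4 * R.tr (t * u)) * (R.d t * R.y v) * R.z w := by
        rw [R.dc]; simp only [mul_assoc]
    _ = R.c u * R.z (R.k4 * R.tr (t * u)) * R.y v * (R.d t * R.z w) := by
        rw [R.dy]; simp only [mul_assoc]
    _ = R.c u * (R.z (R.k4 * R.tr (t * u)) * R.y v) * R.z w * R.d t := by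
        rw [R.dz]; simp only [mul_assoc]
    _ = R.c u * R.y v * (R.z (R.k4 * R.tr (t * u)) * R.z w) * R.d t := by
        rw [← R.yz]; simp only [mul_assoc]
    _ = _ := by rw [← R.z_add]

end Rel

section mult

variable [Fintype F] [Fintype K] {k : ℕ} (ρ : Representation ℂ G (Fin k → ℂ)) (ψ : AddChar F ℂ)

/-- the multiplicity of the character `lam i` of `A` -/
noncomputable def mu (i : K × F × F) : ℕ :=
  Module.finrank ℂ (LinearMap.range (projOp ρ R.UA (lam R ψ i)))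

theorem mu_cast (i : K × F × F) :
    (mu R ρ ψ i : ℂ) = LinearMap.trace ℂ (Fin k → ℂ) (projOp ρ R.UA (lam R ψ i)) :=
  finrank_range_projOp ρ R.UA (lam R ψ i)

/-- the equivalence of `A` induced by a bijection of `K × F × F` -/
def mEquiv (φ : (K × F × F) ≃ (K × F × F)) :
    Multiplicative (K × F × F) ≃ Multiplicative (K × F × F) :=
  Multiplicative.toAdd.trans (φ.trans Multiplicative.ofAdd)

theorem conj_projOp (g : G) (φ : (K × F × F) ≃ (K × F × F))
    (hg : ∀ p, g * R.el p = R.el (φ p) * g) (i j : K × F × F)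
    (hl : ∀ p, form R j (φ p) = form R i p) :
    ρ g ∘ₗ projOp ρ R.UA (lam R ψ i) = projOp ρ R.UA (lam R ψ j) ∘ₗ ρ g := by
  apply rho_conj_projOp ρ R.UA (lam R ψ i) (lam R ψ j) g (mEquiv φ)
  · intro x
    show R.el (φ (Multiplicative.toAdd x)) = g * R.el (Multiplicative.toAdd x) * g⁻¹
    rw [hg]
    group
  · intro x
    show lam R ψ j (Multiplicative.ofAdd (φ (Multiplicative.toAdd x))) =
      lam R ψ i (Multiplicative.ofAdd (Multiplicative.toAdd x))
    rw [lam_apply', lam_apply', hl]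

theorem mu_eq_of_conj (g : G) (φ : (K × F × F) ≃ (K × F × F))
    (hg : ∀ p, g * R.el p = R.el (φ p) * g) (i j : K × F × F)
    (hl : ∀ p, form R j (φ p) = form R i p) : mu R ρ ψ i = mu R ρ ψ j := by
  have h1 := conj_projOp R ρ ψ g φ hg i j hl
  have h2 := trace_eq_of_conj ρ g _ _ h1
  rw [← mu_cast, ← mu_cast] at h2
  exact_mod_cast h2

/-- shear `w ↦ c v + w` -/
def shearW (c : F) : (K × F × F) ≃ (K × F × F) where
  toFun p := (p.1, p.2.1, c * p.2.1 + p.2.2)
  invFun p := (p.1, p.2.1, -c * p.2.1 + p.2.2)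
  left_inv p := by
    obtain ⟨u, v, w⟩ := p
    simp
  right_inv p := by
    obtain ⟨u, v, w⟩ := p
    simp

/-- shear `v ↦ v + c w` -/
def shearV (c : F) : (K × F × F) ≃ (K × F × F) where
  toFun p := (p.1, p.2.1 + c * p.2.2, p.2.2)
  invFun p := (p.1, p.2.1 + -c * p.2.2, p.2.2)
  left_inv p := by
    obtain ⟨u, v, w⟩ := p
    simp [add_assoc]
  right_inv p := by
    obtain ⟨u, v, w⟩ := p
    simp [add_assoc]

/-- shear `v ↦ g u + v` -/
def shearUV (g : K →+ F) : (K × F × F) ≃ (K × F × F) where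
  toFun p := (p.1, g p.1 + p.2.1, p.2.2)
  invFun p := (p.1, -g p.1 + p.2.1, p.2.2)
  left_inv p := by
    obtain ⟨u, v, w⟩ := p
    simp
  right_inv p := by
    obtain ⟨u, v, w⟩ := p
    simp

/-- shear `w ↦ g u + w` -/
def shearUW (g : K →+ F) : (K × F × F) ≃ (K × F × F) where
  toFun p := (p.1, p.2.1, g p.1 + p.2.2)
  invFun p := (p.1, p.2.1, -g p.1 + p.2.2)
  left_inv p := by
    obtain ⟨u, v, w⟩ := p
    simp
  right_inv p := by
    obtain ⟨u, v, w⟩ := p
    simp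

/-- the additive map `u ↦ c * tr(t u)` -/
def trMap (c : F) (t : K) : K →+ F where
  toFun u := c * R.tr (t * u)
  map_zero' := by simp
  map_add' u u' := by rw [mul_add, map_add, mul_add]

theorem mu_e (ξ : K) (η ζ s : F) :
    mu R ρ ψ (ξ, η, ζ) = mu R ρ ψ (ξ, η - ζ * (R.k1 * s), ζ) := by
  apply mu_eq_of_conj R ρ ψ (R.e s) (shearW (R.k1 * s)) (fun p => R.conj_e s p)
  rintro ⟨u, v, w⟩
  show R.tr (ξ * u) + (η - ζ * (R.k1 * s)) * v + ζ * (R.k1 * s * v + w) =
    R.tr (ξ * u) + η * v + ζ * w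
  ring

theorem mu_f (ξ : K) (η ζ s : F) :
    mu R ρ ψ (ξ, η, ζ) = mu R ρ ψ (ξ, η, ζ - η * (R.k2 * s)) := by
  apply mu_eq_of_conj R ρ ψ (R.f s) (shearV (R.k2 * s)) (fun p => R.conj_f s p)
  rintro ⟨u, v, w⟩
  show R.tr (ξ * u) + η * (v + R.k2 * s * w) + (ζ - η * (R.k2 * s)) * w =
    R.tr (ξ * u) + η * v + ζ * w
  ring

theorem mu_a (ξ : K) (η ζ : F) (t : K) :
    mu R ρ ψ (ξ, η, ζ) = mu R ρ ψ (ξ - (η * R.k3) • t, η, ζ) := by
  apply mu_eq_of_conj R ρ ψ (R.a t) (shearUV (trMap R R.k3 t)) (fun p => R.conj_a t p)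
  rintro ⟨u, v, w⟩
  show R.tr ((ξ - (η * R.k3) • t) * u) + η * (R.k3 * R.tr (t * u) + v) + ζ * w =
    R.tr (ξ * u) + η * v + ζ * w
  rw [sub_mul, map_sub, smul_mul_assoc, map_smul, smul_eq_mul]
  ring

theorem mu_d (ξ : K) (η ζ : F) (t : K) :
    mu R ρ ψ (ξ, η, ζ) = mu R ρ ψ (ξ - (ζ * R.k4) • t, η, ζ) := by
  apply mu_eq_of_conj R ρ ψ (R.d t) (shearUW (trMap R R.k4 t)) (fun p => R.conj_d t p)
  rintro ⟨u, v, w⟩
  show R.tr ((ξ - (ζ * R.k4) • t) * u) + η * v + ζ * (R.k4 * R.tr (t * u) + w) =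
    R.tr (ξ * u) + η * v + ζ * w
  rw [sub_mul, map_sub, smul_mul_assoc, map_smul, smul_eq_mul]
  ring

/-- all characters non-trivial on `Y Z` have the same multiplicity -/
theorem mu_const (ξ : K) (η ζ : F) (h : η ≠ 0 ∨ ζ ≠ 0) :
    mu R ρ ψ (ξ, η, ζ) = mu R ρ ψ (0, 1, 0) := by
  -- first the case `η ≠ 0`
  have key : ∀ (ξ : K) (η ζ : F), η ≠ 0 → mu R ρ ψ (ξ, η, ζ) = mu R ρ ψ (0, 1, 0) := by
    intro ξ η ζ hη
    have h1 : mu R ρ ψ (ξ, η, ζ) = mu R ρ ψ (0, η, ζ) := by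
      rw [mu_a R ρ ψ ξ η ζ ((η * R.k3)⁻¹ • ξ), smul_smul,
        mul_inv_cancel₀ (mul_ne_zero hη R.hk3), one_smul, sub_self]
    have h2 : mu R ρ ψ (0, η, ζ) = mu R ρ ψ (0, η, 1) := by
      rw [mu_f R ρ ψ 0 η ζ ((ζ - 1) * (η * R.k2)⁻¹)]
      congr 3
      field_simp [hη, R.hk2]
      ring
    have h3 : mu R ρ ψ (0, η, 1) = mu R ρ ψ (0, 1, 1) := by
      rw [mu_e R ρ ψ 0 η 1 ((η - 1) * R.k1⁻¹)]
      have e1 : η - 1 * (R.k1 * ((η - 1) * R.k1⁻¹)) = 1 := by
        rw [one_mul, mul_comm (η - 1), ← mul_assoc, mul_inv_cancel₀ R.hk1, one_mul]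
        ring
      rw [e1]
    have h4 : mu R ρ ψ (0, 1, 1) = mu R ρ ψ (0, 1, 0) := by
      rw [mu_f R ρ ψ 0 1 1 (R.k2⁻¹)]
      congr 3
      field_simp [R.hk2]
      ring
    rw [h1, h2, h3, h4]
  by_cases hη : η = 0
  · have hζ : ζ ≠ 0 := by
      rcases h with h | h
      · exact absurd hη h
      · exact h
    subst hη
    rw [mu_e R ρ ψ ξ 0 ζ (-(ζ * R.k1)⁻¹)]
    apply key
    rw [zero_sub]
    have : ζ * (R.k1 * -(ζ * R.k1)⁻¹) = -1 := by
      field_simp [hζ, R.hk1]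
    rw [this, neg_neg]
    exact one_ne_zero
  · exact key ξ η ζ hη

end mult

end Cfsg.Agent.Helper12.D4Deg
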