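import Mathlib
import Cfsg.Agent.Helper12.D4DegC

set_option autoImplicit false
set_option linter.unusedSectionVars false
set_option linter.unusedVariables false

/-! Minimal degree of `³D₄(q)`, part D: the dimension and the character value on `Z` in terms of
the multiplicities. -/

namespace Cfsg.Agent.Helper12.D4Deg

open Cfsg Cfsg.Agent.Helper12.LSL Cfsg.Agent.Helper12.LOP

variable {G F K : Type*} [Group G] [Field F] [Field K] [Algebra F K] (R : Rel G F K)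
variable [Fintype F] [Fintype K] {k : ℕ} (ρ : Representation ℂ G (Fin k → ℂ)) (ψ : AddChar F ℂ)

/-- the dimension of the fixed space of `Y Z` -/
noncomputable def fixDim : ℕ := ∑ ξ : K, mu R ρ ψ (ξ, 0, 0)

theorem el_z (w : F) : R.UA (Multiplicative.ofAdd ((0 : K), (0 : F), w)) = R.z w := by
  rw [Rel.UA_apply]
  show R.c 0 * R.y 0 * R.z w = R.z w
  rw [R.c_zero, R.y_zero, one_mul, one_mul]

variable {ψ}

theorem sum_projOp_eq (hψ : ψ.IsPrimitive) :
    ∑ i, projOp ρ R.UA (lam R ψ i) = LinearMap.id :=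
  sum_projOp ρ R.UA (lam R ψ) (fun x hx => lam_orth R hψ x hx) lam_card

theorem sum_mu (hψ : ψ.IsPrimitive) : ∑ i, mu R ρ ψ i = k := by
  have h1 : (∑ i, (mu R ρ ψ i : ℂ)) = (k : ℂ) := by
    rw [Finset.sum_congr rfl (fun i _ => mu_cast R ρ ψ i), ← map_sum, sum_projOp_eq R ρ hψ,
      LinearMap.trace_id, Module.finrank_fin_fun]
  exact_mod_cast h1

/-- the multiplicity as a constant plus a correction at `(η, ζ) = 0` -/
theorem mu_decomp (ξ : K) (p : F × F) [DecidableEq (F × F)] :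
    (mu R ρ ψ (ξ, p) : ℂ) = (mu R ρ ψ (0, 1, 0) : ℂ) +
      if p = 0 then ((mu R ρ ψ (ξ, 0, 0) : ℂ) - (mu R ρ ψ (0, 1, 0) : ℂ)) else 0 := by
  obtain ⟨η, ζ⟩ := p
  split_ifs with h
  · rw [Prod.mk_eq_zero] at h
    rw [h.1, h.2]
    ring
  · rw [add_zero]
    congr 1
    apply mu_const
    by_contra hcon
    push Not at hcon
    apply h
    rw [hcon.1, hcon.2]
    rfl

/-- `dim V + |K| m = dim V^{YZ} + |K| |F|² m` -/
theorem dim_formula (hψ : ψ.IsPrimitive) :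
    k + Fintype.card K * mu R ρ ψ (0, 1, 0) =
      fixDim R ρ ψ + Fintype.card K * (Fintype.card F * Fintype.card F) * mu R ρ ψ (0, 1, 0) := by
  classical
  have h1 : ((∑ i, mu R ρ ψ i : ℕ) : ℂ) = (k : ℂ) := by rw [sum_mu R ρ hψ]
  rw [Nat.cast_sum, Fintype.sum_prod_type] at h1
  have h2 : ∀ ξ : K, ∑ p : F × F, (mu R ρ ψ (ξ, p) : ℂ) =
      (Fintype.card F * Fintype.card F : ℂ) * (mu R ρ ψ (0, 1, 0) : ℂ) +
        ((mu R ρ ψ (ξ, 0, 0) : ℂ) - (mu R ρ ψ (0, 1, 0) : ℂ)) := by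
    intro ξ
    rw [Finset.sum_congr rfl (fun p _ => mu_decomp R ρ ξ p), Finset.sum_add_distrib,
      Finset.sum_const, Finset.card_univ, Fintype.card_prod, Finset.sum_ite_eq' Finset.univ (0 : F × F),
      if_pos (Finset.mem_univ _), nsmul_eq_mul]
    push_cast
    ring
  rw [Finset.sum_congr rfl (fun ξ _ => h2 ξ), Finset.sum_add_distrib, Finset.sum_sub_distrib,
    Finset.sum_const, Finset.sum_const, Finset.card_univ, nsmul_eq_mul, nsmul_eq_mul] at h1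
  have h3 : ((k + Fintype.card K * mu R ρ ψ (0, 1, 0) : ℕ) : ℂ) =
      ((fixDim R ρ ψ + Fintype.card K * (Fintype.card F * Fintype.card F) * mu R ρ ψ (0, 1, 0) : ℕ) : ℂ) := by
    unfold fixDim
    push_cast
    linear_combination -h1
  exact_mod_cast h3

/-- the character value on a non-trivial element of `Z` -/
theorem char_z (hψ : ψ.IsPrimitive) {w : F} (hw : w ≠ 0) :
    ρ.character (R.z w) = (fixDim R ρ ψ : ℂ) - (Fintype.card K : ℂ) * (mu R ρ ψ (0, 1, 0) : ℂ) := by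
  classical
  rw [← el_z R w, char_eq_sum_projOp ρ R.UA (lam R ψ) (fun x hx => lam_orth R hψ x hx) lam_card]
  have h0 : ∀ i : K × F × F, lam R ψ i (Multiplicative.ofAdd ((0 : K), (0 : F), w)) *
      LinearMap.trace ℂ (Fin k → ℂ) (projOp ρ R.UA (lam R ψ i)) =
        ψ (i.2.2 * w) * (mu R ρ ψ i : ℂ) := by
    intro i
    rw [← mu_cast, lam_apply]
    simp
  rw [Finset.sum_congr rfl (fun i _ => h0 i), Fintype.sum_prod_type]
  have hsum : ∑ p : F × F, ψ (p.2 * w) = 0 := by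
    rw [Fintype.sum_prod_type]
    simp only [sum_mul_eq_zero hψ hw, Finset.sum_const_zero]
  have h2 : ∀ ξ : K, ∑ p : F × F, ψ ((ξ, p).2.2 * w) * (mu R ρ ψ (ξ, p) : ℂ) =
      ((mu R ρ ψ (ξ, 0, 0) : ℂ) - (mu R ρ ψ (0, 1, 0) : ℂ)) := by
    intro ξ
    have h3 : ∀ p : F × F, ψ ((ξ, p).2.2 * w) * (mu R ρ ψ (ξ, p) : ℂ) =
        ψ (p.2 * w) * (mu R ρ ψ (0, 1, 0) : ℂ) +
          if p = 0 then ((mu R ρ ψ (ξ, 0, 0) : ℂ) - (mu R ρ ψ (0, 1, 0) : ℂ)) else 0 := by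
      intro p
      rw [mu_decomp R ρ ξ p, mul_add]
      congr 1
      split_ifs with h
      · rw [h]
        simp
      · simp
    rw [Finset.sum_congr rfl (fun p _ => h3 p), Finset.sum_add_distrib, ← Finset.sum_mul, hsum,
      zero_mul, zero_add, Finset.sum_ite_eq' Finset.univ (0 : F × F), if_pos (Finset.mem_univ _)]
  rw [Finset.sum_congr rfl (fun ξ _ => h2 ξ), Finset.sum_sub_distrib, Finset.sum_const,
    Finset.card_univ, nsmul_eq_mul]
  unfold fixDim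
  push_cast
  ring

/-- if `Z` acts non-trivially, the generic multiplicity is positive -/
theorem mu_pos (hψ : ψ.IsPrimitive) {w₀ : F} (hw₀ : ρ (R.z w₀) ≠ 1) :
    1 ≤ mu R ρ ψ (0, 1, 0) := by
  classical
  by_contra hcon
  have hm : mu R ρ ψ (0, 1, 0) = 0 := by omega
  apply hw₀
  have hzero : ∀ i : K × F × F, (i.2.1 ≠ 0 ∨ i.2.2 ≠ 0) → projOp ρ R.UA (lam R ψ i) = 0 := by
    rintro ⟨ξ, η, ζ⟩ h
    have h1 : mu R ρ ψ (ξ, η, ζ) = 0 := by rw [mu_const R ρ ψ ξ η ζ h, hm]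
    unfold mu at h1
    rw [Submodule.finrank_eq_zero] at h1
    exact LinearMap.range_eq_bot.mp h1
  have h1 : ρ (R.z w₀) = ρ (R.z w₀) ∘ₗ ∑ i, projOp ρ R.UA (lam R ψ i) := by
    rw [sum_projOp_eq R ρ hψ]
    rfl
  have h2 : ∀ i : K × F × F, ρ (R.z w₀) ∘ₗ projOp ρ R.UA (lam R ψ i) = projOp ρ R.UA (lam R ψ i) := by
    rintro ⟨ξ, η, ζ⟩
    by_cases h : η ≠ 0 ∨ ζ ≠ 0
    · rw [hzero _ h, LinearMap.comp_zero]
    · push Not at h
      rw [← el_z R w₀, rho_comp_projOp, lam_apply, h.1, h.2]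
      simp
  rw [h1]
  show ρ (R.z w₀) * ∑ i, projOp ρ R.UA (lam R ψ i) = 1
  rw [Finset.mul_sum]
  have h3 : ∀ i : K × F × F, ρ (R.z w₀) * projOp ρ R.UA (lam R ψ i) = projOp ρ R.UA (lam R ψ i) :=
    fun i => h2 i
  rw [Finset.sum_congr rfl (fun i _ => h3 i), sum_projOp_eq R ρ hψ]
  rfl

end Cfsg.Agent.Helper12.D4Deg
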