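import Mathlib
import Cfsg.Agent.Helper12.D4DegD

set_option autoImplicit false
set_option linter.unusedSectionVars false
set_option linter.unusedVariables false

/-! Minimal degree of `³D₄(q)`, part E: when the generic multiplicity is `1`, each character
`(0, s, 0)` of `A` produces a vector fixed by `Y Z` on which `X_b` acts by a non-trivial character. -/

namespace Cfsg.Agent.Helper12.D4Deg

open Cfsg Cfsg.Agent.Helper12.LSL Cfsg.Agent.Helper12.LOP

variable {G F K : Type*} [Group G] [Field F] [Field K] [Algebra F K] (R : Rel G F K)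
variable [Fintype F] [Fintype K] {k : ℕ} (ρ : Representation ℂ G (Fin k → ℂ)) {ψ : AddChar F ℂ}

theorem rho_mul_apply (g h : G) (x : Fin k → ℂ) : ρ (g * h) x = ρ g (ρ h x) := by
  rw [map_mul]
  rfl

theorem rho_ne_zero (g : G) {x : Fin k → ℂ} (hx : x ≠ 0) : ρ g x ≠ 0 := by
  intro h
  apply hx
  have : ρ g⁻¹ (ρ g x) = x := by
    rw [← rho_mul_apply, inv_mul_cancel, map_one]
    rfl
  rw [← this, h, map_zero]

theorem eigen_of_mem_range {i : K × F × F} {x : Fin k → ℂ}
    (hx : x ∈ LinearMap.range (projOp ρ R.UA (lam R ψ i))) (p : K × F × F) :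
    ρ (R.el p) x = ψ (form R i p) • x := by
  obtain ⟨v, rfl⟩ := hx
  have h := LinearMap.congr_fun (rho_comp_projOp ρ R.UA (lam R ψ i) (Multiplicative.ofAdd p)) v
  rw [LinearMap.comp_apply, LinearMap.smul_apply, lam_apply'] at h
  exact h

theorem mem_range_of_eigen {i : K × F × F} {x : Fin k → ℂ}
    (h : ∀ p, ρ (R.el p) x = ψ (form R i p) • x) :
    x ∈ LinearMap.range (projOp ρ R.UA (lam R ψ i)) := by
  refine ⟨x, ?_⟩
  apply projOp_apply_of_eigen
  intro a
  exact h (Multiplicative.toAdd a)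

/-- a one-dimensional isotypic component is stable under every element fixing its character -/
theorem line_stable {i : K × F × F} (h1 : mu R ρ ψ i = 1) {x : Fin k → ℂ} (hx0 : x ≠ 0)
    (hx : x ∈ LinearMap.range (projOp ρ R.UA (lam R ψ i))) {x' : Fin k → ℂ}
    (hx' : x' ∈ LinearMap.range (projOp ρ R.UA (lam R ψ i))) : ∃ c : ℂ, x' = c • x := by
  unfold mu at h1
  have hne : (⟨x, hx⟩ : LinearMap.range (projOp ρ R.UA (lam R ψ i))) ≠ 0 := by
    intro h
    exact hx0 (congrArg Subtype.val h)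
  obtain ⟨c, hc⟩ := (finrank_eq_one_iff_of_nonzero' _ hne).mp h1 ⟨x', hx'⟩
  exact ⟨c, (congrArg Subtype.val hc).symm⟩

theorem conj_mem_range (g : G) (φ : (K × F × F) ≃ (K × F × F))
    (hg : ∀ p, g * R.el p = R.el (φ p) * g) (i : K × F × F)
    (hl : ∀ p, form R i (φ p) = form R i p) {x : Fin k → ℂ}
    (hx : x ∈ LinearMap.range (projOp ρ R.UA (lam R ψ i))) :
    ρ g x ∈ LinearMap.range (projOp ρ R.UA (lam R ψ i)) := by
  obtain ⟨v, rfl⟩ := hx
  have h := LinearMap.congr_fun (conj_projOp R ρ ψ g φ hg i i hl) v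
  rw [LinearMap.comp_apply, LinearMap.comp_apply] at h
  rw [h]
  exact ⟨_, rfl⟩

/-- the action of `X_b` on an invariant line is through `ψ(x₀ ·)` -/
theorem e_char (hψ : ψ.IsPrimitive) {x : Fin k → ℂ} (hx0 : x ≠ 0)
    (h : ∀ s, ∃ c : ℂ, ρ (R.e s) x = c • x) :
    ∃ x₀ : F, ∀ s, ρ (R.e s) x = ψ (x₀ * s) • x := by
  choose eps heps using h
  have h0 : eps 0 = 1 := by
    have h1 := heps 0
    rw [R.e_zero, map_one] at h1
    have h2 : ((1 : ℂ) - eps 0) • x = 0 := by
      rw [sub_smul, one_smul, ← h1]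
      exact sub_self x
    rcases smul_eq_zero.mp h2 with h3 | h3
    · linear_combination -h3
    · exact absurd h3 hx0
  have hadd : ∀ s s', eps (s + s') = eps s * eps s' := by
    intro s s'
    have h1 := heps (s + s')
    rw [R.e_add, rho_mul_apply, heps s', map_smul, heps s, smul_smul] at h1
    have h2 : (eps s' * eps s - eps (s + s')) • x = 0 := by
      rw [sub_smul, h1]
      exact sub_self _
    rcases smul_eq_zero.mp h2 with h3 | h3
    · linear_combination -h3
    · exact absurd h3 hx0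
  let ε : AddChar F ℂ :=
    { toFun := eps
      map_zero_eq_one' := h0
      map_add_eq_mul' := hadd }
  obtain ⟨x₀, hx₀⟩ := exists_mulShift_eq hψ ε
  refine ⟨x₀, fun s => ?_⟩
  rw [heps s, ← hx₀ s]
  rfl

/-- `X_{a+b}` acts trivially on a line stable under the torus element `h₀` -/
theorem d_triv {x : Fin k → ℂ} (hx0 : x ≠ 0) (h : ∀ t, ∃ c : ℂ, ρ (R.d t) x = c • x)
    (hh : ∃ θ : ℂ, ρ R.h0 x = θ • x) (t : K) : ρ (R.d t) x = x := by
  obtain ⟨θ, hθ⟩ := hh
  have hθ0 : θ ≠ 0 := by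
    intro h0
    apply rho_ne_zero ρ R.h0 hx0
    rw [hθ, h0, zero_smul]
  have hk : R.kap - 1 ≠ 0 := sub_ne_zero.mpr R.hkap
  set t₁ := (R.kap - 1)⁻¹ * t with ht₁
  have e1 : R.kap * t₁ = t₁ + t := by
    rw [ht₁]
    field_simp
    ring
  obtain ⟨c₁, hc₁⟩ := h t₁
  obtain ⟨c, hc⟩ := h t
  have hc₁0 : c₁ ≠ 0 := by
    intro h0
    apply rho_ne_zero ρ (R.d t₁) hx0
    rw [hc₁, h0, zero_smul]
  have h1 : ρ (R.d t₁ * R.h0) x = ρ (R.h0 * R.d (R.kap * t₁)) x := by rw [R.h0_d]
  have hL : ρ (R.d t₁ * R.h0) x = (θ * c₁) • x := by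
    rw [rho_mul_apply, hθ, map_smul, hc₁, smul_smul]
  have hR : ρ (R.h0 * R.d (R.kap * t₁)) x = (c * c₁ * θ) • x := by
    rw [rho_mul_apply, e1, R.d_add, rho_mul_apply, hc, map_smul, hc₁, map_smul, map_smul, hθ,
      smul_smul, smul_smul]
  rw [hL, hR] at h1
  have h2 : (θ * c₁ - c * c₁ * θ) • x = 0 := by
    rw [sub_smul, h1]
    exact sub_self _
  rcases smul_eq_zero.mp h2 with h3 | h3
  · have h4 : θ * c₁ * (1 - c) = 0 := by linear_combination h3
    have h5 : 1 - c = 0 := by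
      rcases mul_eq_zero.mp h4 with h6 | h6
      · exact absurd h6 (mul_ne_zero hθ0 hc₁0)
      · exact h6
    have h6 : c = 1 := by linear_combination -h5
    rw [hc, h6, one_smul]
  · exact absurd h3 hx0

end Cfsg.Agent.Helper12.D4Deg
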