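import Mathlib
import Cfsg.Agent.Helper12.D4DegE

set_option autoImplicit false
set_option linter.unusedSectionVars false
set_option linter.unusedVariables false

/-! Minimal degree of `³D₄(q)`, part F: construction of the vectors fixed by `Y Z`. -/

namespace Cfsg.Agent.Helper12.D4Deg

open Cfsg Cfsg.Agent.Helper12.LSL Cfsg.Agent.Helper12.LOP

variable {G F K : Type*} [Group G] [Field F] [Field K] [Algebra F K] (R : Rel G F K)
variable [Fintype F] [Fintype K] {k : ℕ} (ρ : Representation ℂ G (Fin k → ℂ)) {ψ : AddChar F ℂ}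

theorem form_line (s : F) (p : K × F × F) : form R ((0 : K), s, (0 : F)) p = s * p.2.1 := by
  unfold form
  simp

/-- the generator of the line of the character `(0, s, 0)` and its properties -/
theorem exists_line (hψ : ψ.IsPrimitive) (hm : mu R ρ ψ (0, 1, 0) = 1) {s : F} (hs : s ≠ 0) :
    ∃ x : Fin k → ℂ, x ≠ 0 ∧ (∀ u, ρ (R.c u) x = x) ∧ (∀ v, ρ (R.y v) x = ψ (s * v) • x) ∧
      (∀ w, ρ (R.z w) x = x) ∧ (∀ t, ρ (R.d t) x = x) ∧
      ∃ x₀ : F, ∀ s', ρ (R.e s') x = ψ (x₀ * s') • x := by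
  have h1 : mu R ρ ψ ((0 : K), s, (0 : F)) = 1 := by
    rw [mu_const R ρ ψ 0 s 0 (Or.inl hs), hm]
  have hpos : 0 < Module.finrank ℂ (LinearMap.range (projOp ρ R.UA (lam R ψ ((0 : K), s, (0 : F))))) := by
    have := h1
    unfold mu at this
    rw [this]
    exact one_pos
  obtain ⟨⟨x, hx⟩, hxne⟩ := Module.finrank_pos_iff_exists_ne_zero.mp hpos
  have hx0 : x ≠ 0 := by
    intro h
    apply hxne
    exact Subtype.ext h
  have heig := eigen_of_mem_range R ρ hx
  have hc : ∀ u, ρ (R.c u) x = x := by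
    intro u
    have := heig (u, 0, 0)
    rw [form_line] at this
    have e : R.el (u, (0 : F), (0 : F)) = R.c u := by
      show R.c u * R.y 0 * R.z 0 = R.c u
      rw [R.y_zero, R.z_zero, mul_one, mul_one]
    rw [e] at this
    rw [this]
    simp
  have hy : ∀ v, ρ (R.y v) x = ψ (s * v) • x := by
    intro v
    have := heig (0, v, 0)
    rw [form_line] at this
    have e : R.el ((0 : K), v, (0 : F)) = R.y v := by
      show R.c 0 * R.y v * R.z 0 = R.y v
      rw [R.c_zero, R.z_zero, mul_one, one_mul]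
    rw [e] at this
    exact this
  have hz : ∀ w, ρ (R.z w) x = x := by
    intro w
    have := heig (0, 0, w)
    rw [form_line] at this
    have e : R.el ((0 : K), (0 : F), w) = R.z w := by
      show R.c 0 * R.y 0 * R.z w = R.z w
      rw [R.c_zero, R.y_zero, one_mul, one_mul]
    rw [e] at this
    rw [this]
    simp
  -- stability under `e`, `d`, `h0`
  have hste : ∀ s', ∃ c : ℂ, ρ (R.e s') x = c • x := by
    intro s'
    apply line_stable R ρ h1 hx0 hx
    apply conj_mem_range R ρ (R.e s') (shearW (R.k1 * s')) (fun p => R.conj_e s' p) _ _ hx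
    rintro ⟨u, v, w⟩
    rw [form_line, form_line]
    rfl
  have hstd : ∀ t, ∃ c : ℂ, ρ (R.d t) x = c • x := by
    intro t
    apply line_stable R ρ h1 hx0 hx
    apply conj_mem_range R ρ (R.d t) (shearUW (trMap R R.k4 t)) (fun p => R.conj_d t p) _ _ hx
    rintro ⟨u, v, w⟩
    rw [form_line, form_line]
    rfl
  have hsth : ∃ θ : ℂ, ρ R.h0 x = θ • x := by
    apply line_stable R ρ h1 hx0 hx
    apply mem_range_of_eigen
    rintro ⟨u, v, w⟩
    rw [form_line]
    show ρ (R.c u * R.y v * R.z w) (ρ R.h0 x) = ψ (s * v) • ρ R.h0 x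
    obtain ⟨u', hu'⟩ := R.h0_c u
    obtain ⟨w', hw'⟩ := R.h0_z w
    have e : R.c u * R.y v * R.z w * R.h0 = R.h0 * (R.c u' * R.y v * R.z w') := by
      calc R.c u * R.y v * R.z w * R.h0 = R.c u * R.y v * (R.z w * R.h0) := by
            simp only [mul_assoc]
        _ = R.c u * (R.y v * R.h0) * R.z w' := by rw [hw']; simp only [mul_assoc]
        _ = (R.c u * R.h0) * R.y v * R.z w' := by rw [R.h0_y]; simp only [mul_assoc]
        _ = _ := by rw [hu']; simp only [mul_assoc]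
    rw [← rho_mul_apply, e, rho_mul_apply, rho_mul_apply, rho_mul_apply, hz, hy, map_smul, hc,
      map_smul]
  exact ⟨x, hx0, hc, hy, hz, d_triv R ρ hx0 hstd hsth, e_char R ρ hψ hx0 hste⟩

/-- the vector fixed by `Y Z` on which `X_b` acts through `ψ(s k₆ ·)` -/
theorem exists_vec (hψ : ψ.IsPrimitive) (hm : mu R ρ ψ (0, 1, 0) = 1) {s : F} (hs : s ≠ 0) :
    ∃ x : Fin k → ℂ, x ≠ 0 ∧ (∀ v, ρ (R.y v) x = x) ∧ (∀ w, ρ (R.z w) x = x) ∧
      ∀ s', ρ (R.e s') x = ψ (s * (R.k6 * s')) • x := by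
  obtain ⟨x, hx0, hc, hy, hz, hd, x₀, he⟩ := exists_line R ρ hψ hm hs
  obtain ⟨t₀, ht₀⟩ := R.nu_surj (-x₀ * (s * R.k5)⁻¹)
  -- the vector `x' = a(t₀) x`
  have hz' : ∀ w, ρ (R.z w) (ρ (R.a t₀) x) = ρ (R.a t₀) x := by
    intro w
    rw [← rho_mul_apply, ← R.az, rho_mul_apply, hz]
  have hy' : ∀ v, ρ (R.y v) (ρ (R.a t₀) x) = ψ (s * v) • ρ (R.a t₀) x := by
    intro v
    rw [← rho_mul_apply, ← R.ay, rho_mul_apply, hy, map_smul]
  have he' : ∀ s', ρ (R.e s') (ρ (R.a t₀) x) = ρ (R.a t₀) x := by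
    intro s'
    obtain ⟨t', u', w', h⟩ := R.ae t₀ s'
    rw [← rho_mul_apply, h, rho_mul_apply, rho_mul_apply, rho_mul_apply, rho_mul_apply,
      rho_mul_apply, hz, hy, map_smul, hc, map_smul, hd, map_smul, he, smul_smul,
      ← AddChar.map_add_eq_mul]
    have e0 : s * (R.k5 * R.nu t₀ * s') + x₀ * s' = 0 := by
      rw [ht₀]
      have h5 : s * R.k5 ≠ 0 := mul_ne_zero hs R.hk5
      have e1 : s * (R.k5 * (-x₀ * (s * R.k5)⁻¹) * s') = -x₀ * s' * ((s * R.k5) * (s * R.k5)⁻¹) := by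
        ring
      rw [e1, mul_inv_cancel₀ h5]
      ring
    rw [e0, AddChar.map_zero_eq_one, one_smul]
  -- the vector `x'' = n_a x'`
  refine ⟨ρ R.na (ρ (R.a t₀) x), rho_ne_zero ρ _ (rho_ne_zero ρ _ hx0), ?_, ?_, ?_⟩
  · intro v
    obtain ⟨s'', h⟩ := R.na_y v
    rw [← rho_mul_apply, h, rho_mul_apply, he']
  · intro w
    obtain ⟨w', h⟩ := R.na_z w
    rw [← rho_mul_apply, h, rho_mul_apply, hz']
  · intro s'
    rw [← rho_mul_apply, R.na_e, rho_mul_apply, hy', map_smul]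

end Cfsg.Agent.Helper12.D4Deg
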