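import Mathlib
import Cfsg.Agent.Helper12.D4DegF
import Cfsg.Agent.Helper4.LSWeights

set_option autoImplicit false
set_option linter.unusedSectionVars false
set_option linter.unusedVariables false

/-! Minimal degree of `³D₄(q)`, part G: the fixed space of `Y Z` has dimension at least `q - 1` when
the generic multiplicity is `1`. -/

namespace Cfsg.Agent.Helper12.D4Deg

open Cfsg Cfsg.Agent.Helper12.LSL Cfsg.Agent.Helper12.LOP Cfsg.Agent.Helper4.LSW

variable {G F K : Type*} [Group G] [Field F] [Field K] [Algebra F K] (R : Rel G F K)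
variable [Fintype F] [Fintype K] {k : ℕ} (ρ : Representation ℂ G (Fin k → ℂ)) {ψ : AddChar F ℂ}

/-- the fixed space of `Y Z` -/
def fixYZ : Submodule ℂ (Fin k → ℂ) where
  carrier := {x | (∀ v, ρ (R.y v) x = x) ∧ ∀ w, ρ (R.z w) x = x}
  add_mem' := by
    rintro x x' ⟨h1, h2⟩ ⟨h1', h2'⟩
    exact ⟨fun v => by rw [map_add, h1 v, h1' v], fun w => by rw [map_add, h2 w, h2' w]⟩
  zero_mem' := ⟨fun v => map_zero _, fun w => map_zero _⟩
  smul_mem' := by
    rintro c x ⟨h1, h2⟩
    exact ⟨fun v => by rw [map_smul, h1 v], fun w => by rw [map_smul, h2 w]⟩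

theorem mem_fixYZ (x : Fin k → ℂ) :
    x ∈ fixYZ R ρ ↔ (∀ v, ρ (R.y v) x = x) ∧ ∀ w, ρ (R.z w) x = x := Iff.rfl

theorem finrank_finset_sup_le {ι : Type*} [DecidableEq ι] (s : Finset ι)
    (p : ι → Submodule ℂ (Fin k → ℂ)) :
    Module.finrank ℂ ↥(s.sup p) ≤ ∑ i ∈ s, Module.finrank ℂ ↥(p i) := by
  induction s using Finset.induction_on with
  | empty => simp
  | insert a s ha ih =>
    rw [Finset.sup_insert, Finset.sum_insert ha]
    exact (Submodule.finrank_add_le_finrank_add_finrank _ _).trans (Nat.add_le_add_left ih _)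

/-- a projection onto a character non-trivial on `Y Z` kills the fixed space of `Y Z` -/
theorem projOp_fix_eq_zero (hψ : ψ.IsPrimitive) {x : Fin k → ℂ} (hx : x ∈ fixYZ R ρ)
    (ξ : K) (η ζ : F) (h : η ≠ 0 ∨ ζ ≠ 0) : projOp ρ R.UA (lam R ψ (ξ, η, ζ)) x = 0 := by
  obtain ⟨hy, hz⟩ := hx
  -- an element of `Y Z` on which the character is non-trivial
  obtain ⟨v₀, w₀, hne⟩ : ∃ v₀ w₀ : F, ψ (η * v₀ + ζ * w₀) ≠ 1 := by
    rcases h with h | h
    · obtain ⟨s, hs⟩ := exists_ne_one hψ h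
      exact ⟨s, 0, by rwa [mul_zero, add_zero]⟩
    · obtain ⟨s, hs⟩ := exists_ne_one hψ h
      exact ⟨0, s, by rwa [mul_zero, zero_add]⟩
  have hfix : ρ (R.el ((0 : K), v₀, w₀)) x = x := by
    show ρ (R.c 0 * R.y v₀ * R.z w₀) x = x
    rw [R.c_zero, one_mul, rho_mul_apply, hz, hy]
  have hcomm : ρ (R.el ((0 : K), v₀, w₀)) ∘ₗ projOp ρ R.UA (lam R ψ (ξ, η, ζ)) =
      projOp ρ R.UA (lam R ψ (ξ, η, ζ)) ∘ₗ ρ (R.el ((0 : K), v₀, w₀)) := by
    apply rho_conj_projOp ρ R.UA (lam R ψ (ξ, η, ζ)) (lam R ψ (ξ, η, ζ)) _ (Equiv.refl _)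
    · intro a
      show R.UA a = R.UA (Multiplicative.ofAdd ((0 : K), v₀, w₀)) * R.UA a *
        (R.UA (Multiplicative.ofAdd ((0 : K), v₀, w₀)))⁻¹
      rw [← map_mul, mul_comm, map_mul, mul_inv_cancel_right]
    · intro a
      rfl
  have h1 := LinearMap.congr_fun hcomm x
  rw [LinearMap.comp_apply, LinearMap.comp_apply, hfix] at h1
  have h2 := LinearMap.congr_fun
    (rho_comp_projOp ρ R.UA (lam R ψ (ξ, η, ζ)) (Multiplicative.ofAdd ((0 : K), v₀, w₀))) x
  rw [LinearMap.comp_apply, LinearMap.smul_apply, lam_apply] at h2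
  have h3 : R.UA (Multiplicative.ofAdd ((0 : K), v₀, w₀)) = R.el ((0 : K), v₀, w₀) := rfl
  rw [h3, h1] at h2
  simp only [mul_zero, map_zero, zero_add] at h2
  have h4 : ((1 : ℂ) - ψ (η * v₀ + ζ * w₀)) • projOp ρ R.UA (lam R ψ (ξ, η, ζ)) x = 0 := by
    rw [sub_smul, one_smul, ← h2]
    exact sub_self _
  rcases smul_eq_zero.mp h4 with h5 | h5
  · exfalso
    apply hne
    linear_combination -h5
  · exact h5

/-- the fixed space of `Y Z` has dimension at most the sum of the multiplicities of the characters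
trivial on `Y Z` -/
theorem finrank_fixYZ_le (hψ : ψ.IsPrimitive) : Module.finrank ℂ ↥(fixYZ R ρ) ≤ fixDim R ρ ψ := by
  classical
  have hle : fixYZ R ρ ≤ (Finset.univ : Finset K).sup
      (fun ξ => LinearMap.range (projOp ρ R.UA (lam R ψ (ξ, (0 : F), (0 : F))))) := by
    intro x hx
    have h1 : x = ∑ i, projOp ρ R.UA (lam R ψ i) x := by
      rw [← LinearMap.sum_apply, sum_projOp_eq R ρ hψ]
      rfl
    rw [Fintype.sum_prod_type] at h1
    have h2 : ∀ ξ : K, ∑ p : F × F, projOp ρ R.UA (lam R ψ (ξ, p)) x =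
        projOp ρ R.UA (lam R ψ (ξ, (0 : F), (0 : F))) x := by
      intro ξ
      rw [Finset.sum_eq_single (0 : F × F)]
      · rfl
      · rintro ⟨η, ζ⟩ _ hne
        apply projOp_fix_eq_zero R ρ hψ hx
        by_contra hcon
        push Not at hcon
        apply hne
        rw [hcon.1, hcon.2]
        rfl
      · intro h
        exact absurd (Finset.mem_univ _) h
    rw [Finset.sum_congr rfl (fun ξ _ => h2 ξ)] at h1
    rw [h1]
    apply Submodule.sum_mem
    intro ξ _
    have : LinearMap.range (projOp ρ R.UA (lam R ψ (ξ, (0 : F), (0 : F)))) ≤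
        (Finset.univ : Finset K).sup
          (fun ξ => LinearMap.range (projOp ρ R.UA (lam R ψ (ξ, (0 : F), (0 : F))))) :=
      Finset.le_sup (f := fun ξ => LinearMap.range (projOp ρ R.UA (lam R ψ (ξ, (0 : F), (0 : F)))))
        (Finset.mem_univ ξ)
    exact this ⟨x, rfl⟩
  exact (Submodule.finrank_mono hle).trans (finrank_finset_sup_le _ _)

/-- the representation of `X_b` -/
def eHom : Multiplicative F →* Module.End ℂ (Fin k → ℂ) where
  toFun s := ρ (R.e (Multiplicative.toAdd s))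
  map_one' := by
    show ρ (R.e 0) = 1
    rw [R.e_zero, map_one]
  map_mul' s s' := by
    show ρ (R.e (Multiplicative.toAdd s + Multiplicative.toAdd s')) = _
    rw [R.e_add, map_mul]

theorem card_sub_one_le (hψ : ψ.IsPrimitive) (hm : mu R ρ ψ (0, 1, 0) = 1) :
    Fintype.card F - 1 ≤ fixDim R ρ ψ := by
  classical
  refine le_trans ?_ (finrank_fixYZ_le R ρ hψ)
  have hex : ∀ s : Fˣ, ∃ x : Fin k → ℂ, x ≠ 0 ∧ (∀ v, ρ (R.y v) x = x) ∧ (∀ w, ρ (R.z w) x = x) ∧
      ∀ s', ρ (R.e s') x = ψ ((s : F) * (R.k6 * s')) • x :=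
    fun s => exists_vec R ρ hψ hm s.ne_zero
  choose vec hv0 hvy hvz hve using hex
  let χ : Fˣ → Multiplicative F → ℂ := fun s s' => ψ ((s : F) * (R.k6 * Multiplicative.toAdd s'))
  have hχinj : Function.Injective χ := by
    intro s s₁ h
    by_contra hne
    have hne' : ((s : F) - (s₁ : F)) * R.k6 ≠ 0 :=
      mul_ne_zero (sub_ne_zero.mpr (fun h' => hne (Units.ext h'))) R.hk6
    obtain ⟨s', hs'⟩ := exists_ne_one hψ hne'
    apply hs'
    have h1 := congrFun h (Multiplicative.ofAdd s')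
    have h2 : ψ ((s : F) * (R.k6 * s')) = ψ ((s₁ : F) * (R.k6 * s')) := h1
    have e : ((s : F) - (s₁ : F)) * R.k6 * s' = (s : F) * (R.k6 * s') + -((s₁ : F) * (R.k6 * s')) := by
      ring
    rw [e, AddChar.map_add_eq_mul, AddChar.map_neg_eq_inv, h2,
      mul_inv_cancel₀ (AddChar.val_isUnit ψ _).ne_zero]
  haveI : Finite (Multiplicative F) := inferInstanceAs (Finite F)
  have hind := (wt_indep (eHom R ρ)).comp hχinj
  have hmem : ∀ s : Fˣ, vec s ∈ (fun χ' : Multiplicative F → ℂ => wt (eHom R ρ) χ') (χ s) := by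
    intro s
    show vec s ∈ wt (eHom R ρ) (χ s)
    rw [mem_wt]
    intro s'
    exact hve s (Multiplicative.toAdd s')
  have hli : LinearIndependent ℂ vec :=
    iSupIndep.linearIndependent _ hind hmem hv0
  let vecW : Fˣ → ↥(fixYZ R ρ) := fun s => ⟨vec s, hvy s, hvz s⟩
  have hliW : LinearIndependent ℂ vecW := by
    apply LinearIndependent.of_comp (fixYZ R ρ).subtype
    exact hli
  have := hliW.fintype_card_le_finrank
  rw [Fintype.card_units] at this
  exact this

end Cfsg.Agent.Helper12.D4Deg
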