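import Mathlib
import Cfsg.Agent.Helper12.D4DegG

set_option autoImplicit false
set_option linter.unusedSectionVars false
set_option linter.unusedVariables false

/-! Minimal degree of `³D₄(q)`, part H: arithmetic, integrality and the abstract bound. -/

namespace Cfsg.Agent.Helper12.D4Deg

open Cfsg Cfsg.Agent.Helper12.LSL Cfsg.Agent.Helper12.LOP

/-- `q⁵ - q³ + q - 1` does not divide `|³D₄(q)| (q - 1 - q³)` -/
theorem arith_not_dvd (q : ℤ) (hq : 2 ≤ q) :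
    ¬ ((q ^ 5 - q ^ 3 + q - 1) ∣
      (q ^ 12 * (q ^ 2 - 1) * (q ^ 6 - 1) * (q ^ 8 + q ^ 4 + 1)) * (q - 1 - q ^ 3)) := by
  intro h
  have hk : q ^ 5 - q ^ 3 + q - 1 = (q - 1) * (q ^ 4 + q ^ 3 + 1) := by ring
  rw [hk] at h
  have h1 : (q - 1) * (q ^ 4 + q ^ 3 + 1) ∣
      (q - 1) * (q ^ 17 * ((q + 1) * (q ^ 6 - 1) * (q ^ 8 + q ^ 4 + 1))) := by
    have e : (q - 1) * (q ^ 17 * ((q + 1) * (q ^ 6 - 1) * (q ^ 8 + q ^ 4 + 1))) =
        (q ^ 12 * (q ^ 2 - 1) * (q ^ 6 - 1) * (q ^ 8 + q ^ 4 + 1)) *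
          ((q - 1) * (q ^ 4 + q ^ 3 + 1)) -
        (q ^ 12 * (q ^ 2 - 1) * (q ^ 6 - 1) * (q ^ 8 + q ^ 4 + 1)) * (q - 1 - q ^ 3) := by ring
    rw [e]
    exact dvd_sub (Dvd.intro_left _ rfl) h
  have hq1 : q - 1 ≠ 0 := by omega
  have h2 : (q ^ 4 + q ^ 3 + 1) ∣ q ^ 17 * ((q + 1) * (q ^ 6 - 1) * (q ^ 8 + q ^ 4 + 1)) :=
    Int.dvd_of_mul_dvd_mul_left hq1 h1
  have hcop : IsCoprime (q ^ 4 + q ^ 3 + 1) (q ^ 17) := by
    apply IsCoprime.pow_right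
    exact ⟨1, -(q ^ 2 * (q + 1)), by ring⟩
  have h3 : (q ^ 4 + q ^ 3 + 1) ∣ (q + 1) * (q ^ 6 - 1) * (q ^ 8 + q ^ 4 + 1) :=
    hcop.dvd_of_dvd_mul_left h2
  have e3 : (q + 1) * (q ^ 6 - 1) * (q ^ 8 + q ^ 4 + 1) =
      (q ^ 4 + q ^ 3 + 1) * (q ^ 11 + q ^ 6 - 2 * q ^ 5 + q ^ 4 + q - 3) +
        (3 * q ^ 3 - 2 * q + 2) := by ring
  rw [e3] at h3
  have h4 : (q ^ 4 + q ^ 3 + 1) ∣ 3 * q ^ 3 - 2 * q + 2 :=
    (Int.dvd_add_right (Dvd.intro _ rfl)).mp h3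
  have hq0 : (0 : ℤ) ≤ q := by omega
  have hq3 : (0 : ℤ) ≤ q ^ 3 := pow_nonneg hq0 3
  have hpos : 0 < 3 * q ^ 3 - 2 * q + 2 := by nlinarith [mul_nonneg hq0 hq0]
  have hle := Int.le_of_dvd hpos h4
  nlinarith [mul_nonneg hq3 (by omega : (0 : ℤ) ≤ q - 2)]

variable {G F K : Type*} [Group G] [Fintype G] [Field F] [Field K] [Algebra F K] (R : Rel G F K)
variable [Fintype F] [Fintype K]

/-- the abstract degree bound -/
theorem degree_bound (q : ℕ) (hq : 2 ≤ q) (hF : Fintype.card F = q) (hK : Fintype.card K = q ^ 3)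
    (hG : Fintype.card G = q ^ 12 * (q ^ 2 - 1) * (q ^ 6 - 1) * (q ^ 8 + q ^ 4 + 1))
    (k : ℕ) (ρ : Representation ℂ G (Fin k → ℂ)) (hirr : ρ.IsIrreducible)
    {w₀ : F} (hw₀ : ρ (R.z w₀) ≠ 1) : q * (q ^ 4 - q ^ 2 + 1) ≤ k := by
  classical
  obtain ⟨ψ, hψ⟩ := exists_primitive (F := F)
  have hm := mu_pos R ρ hψ hw₀
  have hdim := dim_formula R ρ hψ
  rw [hF, hK] at hdim
  set m := mu R ρ ψ (0, 1, 0) with hm_def
  set r := fixDim R ρ ψ with hr_def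
  have h24 : q ^ 2 ≤ q ^ 4 := Nat.pow_le_pow_right (by omega) (by norm_num)
  have hT : q * (q ^ 4 - q ^ 2 + 1) + q ^ 3 = q ^ 5 + q := by
    zify [h24]
    ring
  have h53 : q ^ 3 + q ≤ q ^ 5 := by
    have h4 : 4 ≤ q ^ 2 := by nlinarith
    have : q ^ 5 = q ^ 2 * q ^ 3 := by ring
    have h3 : q ≤ q ^ 3 := by
      calc q = q ^ 1 := (pow_one q).symm
        _ ≤ q ^ 3 := Nat.pow_le_pow_right (by omega) (by norm_num)
    nlinarith
  have hdim' : k + q ^ 3 * m = r + q ^ 5 * m := by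
    rw [hdim]
    ring
  by_cases hm2 : 2 ≤ m
  · -- `m ≥ 2`
    have h1 : q ^ 3 * m ≤ q ^ 5 * m := Nat.mul_le_mul_right m (by nlinarith)
    have h2 : q ^ 5 * m + q ^ 3 * 2 ≥ q ^ 5 * 2 + q ^ 3 * m := by
      have hd : q ^ 3 ≤ q ^ 5 := by omega
      obtain ⟨d, hd'⟩ := Nat.exists_eq_add_of_le hd
      obtain ⟨m', hm'⟩ := Nat.exists_eq_add_of_le hm2
      rw [hd', hm']
      nlinarith
    nlinarith
  · have hm1 : m = 1 := by omega
    rw [hm1, mul_one, mul_one] at hdim'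
    have hr := card_sub_one_le R ρ hψ hm1
    rw [hF] at hr
    by_cases hrq : q ≤ r
    · omega
    · exfalso
      have hr1 : r = q - 1 := by omega
      have hw₀0 : w₀ ≠ 0 := by
        intro h0
        apply hw₀
        rw [h0, R.z_zero, map_one]
      have hchar := char_z R ρ hψ hw₀0
      rw [← hm_def, ← hr_def, hm1, hr1, hK] at hchar
      have hkz : (k : ℤ) = (q : ℤ) ^ 5 - (q : ℤ) ^ 3 + (q : ℤ) - 1 := by
        have : (k : ℤ) + (q : ℤ) ^ 3 = ((q - 1 : ℕ) : ℤ) + (q : ℤ) ^ 5 := by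
          rw [hr1] at hdim'
          exact_mod_cast hdim'
        rw [Nat.cast_sub (by omega : 1 ≤ q)] at this
        push_cast at this
        linarith
      have hdvd := dvd_of_conj_invariant_family k ρ hirr (fun g : G => g * R.z w₀ * g⁻¹)
        (fun h => Equiv.mulLeft h) (fun h i => by simp [mul_assoc])
        ((q : ℤ) - 1 - (q : ℤ) ^ 3) (fun g => by
          rw [Representation.char_conj, hchar]
          rw [Nat.cast_sub (by omega : 1 ≤ q)]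
          push_cast
          ring)
      rw [hG, hkz] at hdvd
      have h26 : 1 ≤ q ^ 2 := Nat.one_le_pow _ _ (by omega)
      have h66 : 1 ≤ q ^ 6 := Nat.one_le_pow _ _ (by omega)
      rw [Nat.cast_mul, Nat.cast_mul, Nat.cast_mul, Nat.cast_sub h26, Nat.cast_sub h66] at hdvd
      push_cast at hdvd
      exact arith_not_dvd (q : ℤ) (by exact_mod_cast hq) hdvd

end Cfsg.Agent.Helper12.D4Deg
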