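import Mathlib
import Cfsg.Agent.Helper11.ChevCommDE
import Cfsg.Agent.Helper6.Chev.UProd
import Cfsg.Agent.Helper11.TwFix

set_option autoImplicit false
set_option linter.unusedSectionVars false
set_option linter.unusedVariables false

/-! Relations of `³D₄(q)`, part A: the commutation rules between the root elements of `D₄` used in
the degree bound, in sorted form (normal order `23, 22, 21, 20, 17, 19, 16, 15, 14, 18, 13, 12, 9`). -/

namespace Cfsg.Agent.Helper12.D4R

open Cfsg.Lie Cfsg.Agent.Helper6 Cfsg.Agent.Helper11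

variable {K : Type*} [Field K]

theorem hB4 : BasicOK chevD4 := basicOK_of_tabulated (by simp [IsTabulated])

/-- the root element -/
noncomputable def X (r : ℕ) (t : K) : GL chevD4.Idx K := xU hB4 r t

theorem X_add (r : ℕ) (t u : K) : X r t * X r u = X r (t + u) := xU_mul hB4 r t u

theorem X_add' (r : ℕ) (t u : K) (g : GL chevD4.Idx K) : X r t * (X r u * g) = X r (t + u) * g := by
  rw [← mul_assoc, X_add]

theorem X_zero (r : ℕ) : X r (0 : K) = 1 := xU_zero hB4 r

theorem X_inv (r : ℕ) (t : K) : (X r t)⁻¹ = X r (-t) := xU_inv hB4 r t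

theorem comm_nil {r s : ℕ} (hr : r < chevD4.nroots) (hs : s < chevD4.nroots) (h1 : s ≠ r)
    (h2 : s ≠ chevD4.neg r) (h : chevD4.commTerms r s = []) (t u : K) :
    X s u * X r t = X r t * X s u :=
  TwFix.xU_comm_of_nil hB4 (ChevCommDE.commF_DE (by simp) hr hs h1 h2) h t u

theorem comm_one {r s k : ℕ} {N : ℤ} (hr : r < chevD4.nroots) (hs : s < chevD4.nroots)
    (hk : k < chevD4.nroots) (h1 : s ≠ r) (h2 : s ≠ chevD4.neg r)
    (h3 : s ≠ k) (h4 : s ≠ chevD4.neg k) (h5 : r ≠ k) (h6 : r ≠ chevD4.neg k)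
    (h : chevD4.commTerms r s = [(k, N, 1, 1)]) (hks : chevD4.commTerms k s = [])
    (hkr : chevD4.commTerms k r = []) (t u : K) :
    X s u * X r t = X k ((N : K) * (-t) * u) * (X r t * X s u) := by
  have hC := ChevCommDE.commF_DE (F := K) (by simp) hr hs h1 h2
  have key : (X s u * X r t : GL chevD4.Idx K) =
      X r t * X s u * X k ((N : K) * (-t) * u) := by
    apply Units.ext
    simp only [Units.val_mul, X, xU_val]
    rw [hC t u]
    unfold ChevalleyDatum.commWord ChevalleyDatum.wordMat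
    rw [h]
    simp
  rw [key, mul_assoc, comm_nil hk hs h3 h4 hks, ← mul_assoc, comm_nil hk hr h5 h6 hkr, mul_assoc]

theorem c_22_23 (t u : K) : X 22 u * X 23 t = X 23 t * X 22 u :=
  comm_nil (by decide) (by decide) (by decide) (by decide) (by decide) t u

theorem c_22_23' (t u : K) (g : GL chevD4.Idx K) : X 22 u * (X 23 t * g) = X 23 t * (X 22 u * g) := by
  rw [← mul_assoc, c_22_23, mul_assoc]

theorem c_21_23 (t u : K) : X 21 u * X 23 t = X 23 t * X 21 u :=
  comm_nil (by decide) (by decide) (by decide) (by decide) (by decide) t u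

theorem c_21_23' (t u : K) (g : GL chevD4.Idx K) : X 21 u * (X 23 t * g) = X 23 t * (X 21 u * g) := by
  rw [← mul_assoc, c_21_23, mul_assoc]

theorem c_20_23 (t u : K) : X 20 u * X 23 t = X 23 t * X 20 u :=
  comm_nil (by decide) (by decide) (by decide) (by decide) (by decide) t u

theorem c_20_23' (t u : K) (g : GL chevD4.Idx K) : X 20 u * (X 23 t * g) = X 23 t * (X 20 u * g) := by
  rw [← mul_assoc, c_20_23, mul_assoc]

theorem c_17_23 (t u : K) : X 17 u * X 23 t = X 23 t * X 17 u :=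
  comm_nil (by decide) (by decide) (by decide) (by decide) (by decide) t u

theorem c_17_23' (t u : K) (g : GL chevD4.Idx K) : X 17 u * (X 23 t * g) = X 23 t * (X 17 u * g) := by
  rw [← mul_assoc, c_17_23, mul_assoc]

theorem c_19_23 (t u : K) : X 19 u * X 23 t = X 23 t * X 19 u :=
  comm_nil (by decide) (by decide) (by decide) (by decide) (by decide) t u

theorem c_19_23' (t u : K) (g : GL chevD4.Idx K) : X 19 u * (X 23 t * g) = X 23 t * (X 19 u * g) := by
  rw [← mul_assoc, c_19_23, mul_assoc]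

theorem c_16_23 (t u : K) : X 16 u * X 23 t = X 23 t * X 16 u :=
  comm_nil (by decide) (by decide) (by decide) (by decide) (by decide) t u

theorem c_16_23' (t u : K) (g : GL chevD4.Idx K) : X 16 u * (X 23 t * g) = X 23 t * (X 16 u * g) := by
  rw [← mul_assoc, c_16_23, mul_assoc]

theorem c_15_23 (t u : K) : X 15 u * X 23 t = X 23 t * X 15 u :=
  comm_nil (by decide) (by decide) (by decide) (by decide) (by decide) t u

theorem c_15_23' (t u : K) (g : GL chevD4.Idx K) : X 15 u * (X 23 t * g) = X 23 t * (X 15 u * g) := by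
  rw [← mul_assoc, c_15_23, mul_assoc]

theorem c_14_23 (t u : K) : X 14 u * X 23 t = X 23 t * X 14 u :=
  comm_nil (by decide) (by decide) (by decide) (by decide) (by decide) t u

theorem c_14_23' (t u : K) (g : GL chevD4.Idx K) : X 14 u * (X 23 t * g) = X 23 t * (X 14 u * g) := by
  rw [← mul_assoc, c_14_23, mul_assoc]

theorem c_18_23 (t u : K) : X 18 u * X 23 t = X 23 t * X 18 u :=
  comm_nil (by decide) (by decide) (by decide) (by decide) (by decide) t u

theorem c_18_23' (t u : K) (g : GL chevD4.Idx K) : X 18 u * (X 23 t * g) = X 23 t * (X 18 u * g) := by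
  rw [← mul_assoc, c_18_23, mul_assoc]

theorem c_13_23 (t u : K) : X 13 u * X 23 t = X 23 t * X 13 u :=
  comm_nil (by decide) (by decide) (by decide) (by decide) (by decide) t u

theorem c_13_23' (t u : K) (g : GL chevD4.Idx K) : X 13 u * (X 23 t * g) = X 23 t * (X 13 u * g) := by
  rw [← mul_assoc, c_13_23, mul_assoc]

theorem c_12_23 (t u : K) : X 12 u * X 23 t = X 23 t * X 12 u :=
  comm_nil (by decide) (by decide) (by decide) (by decide) (by decide) t u

theorem c_12_23' (t u : K) (g : GL chevD4.Idx K) : X 12 u * (X 23 t * g) = X 23 t * (X 12 u * g) := by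
  rw [← mul_assoc, c_12_23, mul_assoc]

theorem c_9_23 (t u : K) : X 9 u * X 23 t = X 22 (t * u) * (X 23 t * X 9 u) := by
  rw [comm_one (k := 22) (N := -1) (by decide) (by decide) (by decide) (by decide) (by decide) (by decide) (by decide) (by decide) (by decide) (by decide) (by decide) (by decide) t u]
  congr 2
  push_cast
  ring

theorem c_9_23' (t u : K) (g : GL chevD4.Idx K) : X 9 u * (X 23 t * g) = X 22 (t * u) * (X 23 t * (X 9 u * g)) := by
  rw [← mul_assoc, c_9_23, mul_assoc, mul_assoc]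

theorem c_21_22 (t u : K) : X 21 u * X 22 t = X 22 t * X 21 u :=
  comm_nil (by decide) (by decide) (by decide) (by decide) (by decide) t u

theorem c_21_22' (t u : K) (g : GL chevD4.Idx K) : X 21 u * (X 22 t * g) = X 22 t * (X 21 u * g) := by
  rw [← mul_assoc, c_21_22, mul_assoc]

theorem c_20_22 (t u : K) : X 20 u * X 22 t = X 22 t * X 20 u :=
  comm_nil (by decide) (by decide) (by decide) (by decide) (by decide) t u

theorem c_20_22' (t u : K) (g : GL chevD4.Idx K) : X 20 u * (X 22 t * g) = X 22 t * (X 20 u * g) := by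
  rw [← mul_assoc, c_20_22, mul_assoc]

theorem c_17_22 (t u : K) : X 17 u * X 22 t = X 22 t * X 17 u :=
  comm_nil (by decide) (by decide) (by decide) (by decide) (by decide) t u

theorem c_17_22' (t u : K) (g : GL chevD4.Idx K) : X 17 u * (X 22 t * g) = X 22 t * (X 17 u * g) := by
  rw [← mul_assoc, c_17_22, mul_assoc]

theorem c_19_22 (t u : K) : X 19 u * X 22 t = X 22 t * X 19 u :=
  comm_nil (by decide) (by decide) (by decide) (by decide) (by decide) t u

theorem c_19_22' (t u : K) (g : GL chevD4.Idx K) : X 19 u * (X 22 t * g) = X 22 t * (X 19 u * g) := by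
  rw [← mul_assoc, c_19_22, mul_assoc]

theorem c_16_22 (t u : K) : X 16 u * X 22 t = X 22 t * X 16 u :=
  comm_nil (by decide) (by decide) (by decide) (by decide) (by decide) t u

theorem c_16_22' (t u : K) (g : GL chevD4.Idx K) : X 16 u * (X 22 t * g) = X 22 t * (X 16 u * g) := by
  rw [← mul_assoc, c_16_22, mul_assoc]

theorem c_15_22 (t u : K) : X 15 u * X 22 t = X 22 t * X 15 u :=
  comm_nil (by decide) (by decide) (by decide) (by decide) (by decide) t u

theorem c_15_22' (t u : K) (g : GL chevD4.Idx K) : X 15 u * (X 22 t * g) = X 22 t * (X 15 u * g) := by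
  rw [← mul_assoc, c_15_22, mul_assoc]

theorem c_14_22 (t u : K) : X 14 u * X 22 t = X 23 (t * u) * (X 22 t * X 14 u) := by
  rw [comm_one (k := 23) (N := -1) (by decide) (by decide) (by decide) (by decide) (by decide) (by decide) (by decide) (by decide) (by decide) (by decide) (by decide) (by decide) t u]
  congr 2
  push_cast
  ring

theorem c_14_22' (t u : K) (g : GL chevD4.Idx K) : X 14 u * (X 22 t * g) = X 23 (t * u) * (X 22 t * (X 14 u * g)) := by
  rw [← mul_assoc, c_14_22, mul_assoc, mul_assoc]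

theorem c_18_22 (t u : K) : X 18 u * X 22 t = X 22 t * X 18 u :=
  comm_nil (by decide) (by decide) (by decide) (by decide) (by decide) t u

theorem c_18_22' (t u : K) (g : GL chevD4.Idx K) : X 18 u * (X 22 t * g) = X 22 t * (X 18 u * g) := by
  rw [← mul_assoc, c_18_22, mul_assoc]

theorem c_13_22 (t u : K) : X 13 u * X 22 t = X 22 t * X 13 u :=
  comm_nil (by decide) (by decide) (by decide) (by decide) (by decide) t u

theorem c_13_22' (t u : K) (g : GL chevD4.Idx K) : X 13 u * (X 22 t * g) = X 22 t * (X 13 u * g) := by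
  rw [← mul_assoc, c_13_22, mul_assoc]

theorem c_12_22 (t u : K) : X 12 u * X 22 t = X 22 t * X 12 u :=
  comm_nil (by decide) (by decide) (by decide) (by decide) (by decide) t u

theorem c_12_22' (t u : K) (g : GL chevD4.Idx K) : X 12 u * (X 22 t * g) = X 22 t * (X 12 u * g) := by
  rw [← mul_assoc, c_12_22, mul_assoc]

theorem c_9_22 (t u : K) : X 9 u * X 22 t = X 22 t * X 9 u :=
  comm_nil (by decide) (by decide) (by decide) (by decide) (by decide) t u

theorem c_9_22' (t u : K) (g : GL chevD4.Idx K) : X 9 u * (X 22 t * g) = X 22 t * (X 9 u * g) := by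
  rw [← mul_assoc, c_9_22, mul_assoc]

theorem c_20_21 (t u : K) : X 20 u * X 21 t = X 21 t * X 20 u :=
  comm_nil (by decide) (by decide) (by decide) (by decide) (by decide) t u

theorem c_20_21' (t u : K) (g : GL chevD4.Idx K) : X 20 u * (X 21 t * g) = X 21 t * (X 20 u * g) := by
  rw [← mul_assoc, c_20_21, mul_assoc]

theorem c_17_21 (t u : K) : X 17 u * X 21 t = X 21 t * X 17 u :=
  comm_nil (by decide) (by decide) (by decide) (by decide) (by decide) t u

theorem c_17_21' (t u : K) (g : GL chevD4.Idx K) : X 17 u * (X 21 t * g) = X 21 t * (X 17 u * g) := by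
  rw [← mul_assoc, c_17_21, mul_assoc]

theorem c_19_21 (t u : K) : X 19 u * X 21 t = X 21 t * X 19 u :=
  comm_nil (by decide) (by decide) (by decide) (by decide) (by decide) t u

theorem c_19_21' (t u : K) (g : GL chevD4.Idx K) : X 19 u * (X 21 t * g) = X 21 t * (X 19 u * g) := by
  rw [← mul_assoc, c_19_21, mul_assoc]

theorem c_16_21 (t u : K) : X 16 u * X 21 t = X 21 t * X 16 u :=
  comm_nil (by decide) (by decide) (by decide) (by decide) (by decide) t u

theorem c_16_21' (t u : K) (g : GL chevD4.Idx K) : X 16 u * (X 21 t * g) = X 21 t * (X 16 u * g) := by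
  rw [← mul_assoc, c_16_21, mul_assoc]

theorem c_15_21 (t u : K) : X 15 u * X 21 t = X 23 (-(t * u)) * (X 21 t * X 15 u) := by
  rw [comm_one (k := 23) (N := 1) (by decide) (by decide) (by decide) (by decide) (by decide) (by decide) (by decide) (by decide) (by decide) (by decide) (by decide) (by decide) t u]
  congr 2
  push_cast
  ring

theorem c_15_21' (t u : K) (g : GL chevD4.Idx K) : X 15 u * (X 21 t * g) = X 23 (-(t * u)) * (X 21 t * (X 15 u * g)) := by
  rw [← mul_assoc, c_15_21, mul_assoc, mul_assoc]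

theorem c_14_21 (t u : K) : X 14 u * X 21 t = X 21 t * X 14 u :=
  comm_nil (by decide) (by decide) (by decide) (by decide) (by decide) t u

theorem c_14_21' (t u : K) (g : GL chevD4.Idx K) : X 14 u * (X 21 t * g) = X 21 t * (X 14 u * g) := by
  rw [← mul_assoc, c_14_21, mul_assoc]

theorem c_18_21 (t u : K) : X 18 u * X 21 t = X 21 t * X 18 u :=
  comm_nil (by decide) (by decide) (by decide) (by decide) (by decide) t u

theorem c_18_21' (t u : K) (g : GL chevD4.Idx K) : X 18 u * (X 21 t * g) = X 21 t * (X 18 u * g) := by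
  rw [← mul_assoc, c_18_21, mul_assoc]

theorem c_13_21 (t u : K) : X 13 u * X 21 t = X 21 t * X 13 u :=
  comm_nil (by decide) (by decide) (by decide) (by decide) (by decide) t u

theorem c_13_21' (t u : K) (g : GL chevD4.Idx K) : X 13 u * (X 21 t * g) = X 21 t * (X 13 u * g) := by
  rw [← mul_assoc, c_13_21, mul_assoc]

theorem c_12_21 (t u : K) : X 12 u * X 21 t = X 22 (t * u) * (X 21 t * X 12 u) := by
  rw [comm_one (k := 22) (N := -1) (by decide) (by decide) (by decide) (by decide) (by decide) (by decide) (by decide) (by decide) (by decide) (by decide) (by decide) (by decide) t u]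
  congr 2
  push_cast
  ring

theorem c_12_21' (t u : K) (g : GL chevD4.Idx K) : X 12 u * (X 21 t * g) = X 22 (t * u) * (X 21 t * (X 12 u * g)) := by
  rw [← mul_assoc, c_12_21, mul_assoc, mul_assoc]

theorem c_9_21 (t u : K) : X 9 u * X 21 t = X 21 t * X 9 u :=
  comm_nil (by decide) (by decide) (by decide) (by decide) (by decide) t u

theorem c_9_21' (t u : K) (g : GL chevD4.Idx K) : X 9 u * (X 21 t * g) = X 21 t * (X 9 u * g) := by
  rw [← mul_assoc, c_9_21, mul_assoc]

theorem c_17_20 (t u : K) : X 17 u * X 20 t = X 20 t * X 17 u :=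
  comm_nil (by decide) (by decide) (by decide) (by decide) (by decide) t u

theorem c_17_20' (t u : K) (g : GL chevD4.Idx K) : X 17 u * (X 20 t * g) = X 20 t * (X 17 u * g) := by
  rw [← mul_assoc, c_17_20, mul_assoc]

theorem c_19_20 (t u : K) : X 19 u * X 20 t = X 20 t * X 19 u :=
  comm_nil (by decide) (by decide) (by decide) (by decide) (by decide) t u

theorem c_19_20' (t u : K) (g : GL chevD4.Idx K) : X 19 u * (X 20 t * g) = X 20 t * (X 19 u * g) := by
  rw [← mul_assoc, c_19_20, mul_assoc]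

theorem c_16_20 (t u : K) : X 16 u * X 20 t = X 23 (-(t * u)) * (X 20 t * X 16 u) := by
  rw [comm_one (k := 23) (N := 1) (by decide) (by decide) (by decide) (by decide) (by decide) (by decide) (by decide) (by decide) (by decide) (by decide) (by decide) (by decide) t u]
  congr 2
  push_cast
  ring

theorem c_16_20' (t u : K) (g : GL chevD4.Idx K) : X 16 u * (X 20 t * g) = X 23 (-(t * u)) * (X 20 t * (X 16 u * g)) := by
  rw [← mul_assoc, c_16_20, mul_assoc, mul_assoc]

theorem c_15_20 (t u : K) : X 15 u * X 20 t = X 20 t * X 15 u :=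
  comm_nil (by decide) (by decide) (by decide) (by decide) (by decide) t u

theorem c_15_20' (t u : K) (g : GL chevD4.Idx K) : X 15 u * (X 20 t * g) = X 20 t * (X 15 u * g) := by
  rw [← mul_assoc, c_15_20, mul_assoc]

theorem c_14_20 (t u : K) : X 14 u * X 20 t = X 20 t * X 14 u :=
  comm_nil (by decide) (by decide) (by decide) (by decide) (by decide) t u

theorem c_14_20' (t u : K) (g : GL chevD4.Idx K) : X 14 u * (X 20 t * g) = X 20 t * (X 14 u * g) := by
  rw [← mul_assoc, c_14_20, mul_assoc]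

theorem c_18_20 (t u : K) : X 18 u * X 20 t = X 20 t * X 18 u :=
  comm_nil (by decide) (by decide) (by decide) (by decide) (by decide) t u

theorem c_18_20' (t u : K) (g : GL chevD4.Idx K) : X 18 u * (X 20 t * g) = X 20 t * (X 18 u * g) := by
  rw [← mul_assoc, c_18_20, mul_assoc]

theorem c_13_20 (t u : K) : X 13 u * X 20 t = X 22 (t * u) * (X 20 t * X 13 u) := by
  rw [comm_one (k := 22) (N := -1) (by decide) (by decide) (by decide) (by decide) (by decide) (by decide) (by decide) (by decide) (by decide) (by decide) (by decide) (by decide) t u]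
  congr 2
  push_cast
  ring

theorem c_13_20' (t u : K) (g : GL chevD4.Idx K) : X 13 u * (X 20 t * g) = X 22 (t * u) * (X 20 t * (X 13 u * g)) := by
  rw [← mul_assoc, c_13_20, mul_assoc, mul_assoc]

theorem c_12_20 (t u : K) : X 12 u * X 20 t = X 20 t * X 12 u :=
  comm_nil (by decide) (by decide) (by decide) (by decide) (by decide) t u

theorem c_12_20' (t u : K) (g : GL chevD4.Idx K) : X 12 u * (X 20 t * g) = X 20 t * (X 12 u * g) := by
  rw [← mul_assoc, c_12_20, mul_assoc]

theorem c_9_20 (t u : K) : X 9 u * X 20 t = X 20 t * X 9 u :=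
  comm_nil (by decide) (by decide) (by decide) (by decide) (by decide) t u

theorem c_9_20' (t u : K) (g : GL chevD4.Idx K) : X 9 u * (X 20 t * g) = X 20 t * (X 9 u * g) := by
  rw [← mul_assoc, c_9_20, mul_assoc]

theorem c_19_17 (t u : K) : X 19 u * X 17 t = X 23 (-(t * u)) * (X 17 t * X 19 u) := by
  rw [comm_one (k := 23) (N := 1) (by decide) (by decide) (by decide) (by decide) (by decide) (by decide) (by decide) (by decide) (by decide) (by decide) (by decide) (by decide) t u]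
  congr 2
  push_cast
  ring

theorem c_19_17' (t u : K) (g : GL chevD4.Idx K) : X 19 u * (X 17 t * g) = X 23 (-(t * u)) * (X 17 t * (X 19 u * g)) := by
  rw [← mul_assoc, c_19_17, mul_assoc, mul_assoc]

theorem c_16_17 (t u : K) : X 16 u * X 17 t = X 17 t * X 16 u :=
  comm_nil (by decide) (by decide) (by decide) (by decide) (by decide) t u

theorem c_16_17' (t u : K) (g : GL chevD4.Idx K) : X 16 u * (X 17 t * g) = X 17 t * (X 16 u * g) := by
  rw [← mul_assoc, c_16_17, mul_assoc]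

theorem c_15_17 (t u : K) : X 15 u * X 17 t = X 17 t * X 15 u :=
  comm_nil (by decide) (by decide) (by decide) (by decide) (by decide) t u

theorem c_15_17' (t u : K) (g : GL chevD4.Idx K) : X 15 u * (X 17 t * g) = X 17 t * (X 15 u * g) := by
  rw [← mul_assoc, c_15_17, mul_assoc]

theorem c_14_17 (t u : K) : X 14 u * X 17 t = X 17 t * X 14 u :=
  comm_nil (by decide) (by decide) (by decide) (by decide) (by decide) t u

theorem c_14_17' (t u : K) (g : GL chevD4.Idx K) : X 14 u * (X 17 t * g) = X 17 t * (X 14 u * g) := by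
  rw [← mul_assoc, c_14_17, mul_assoc]

theorem c_18_17 (t u : K) : X 18 u * X 17 t = X 22 (-(t * u)) * (X 17 t * X 18 u) := by
  rw [comm_one (k := 22) (N := 1) (by decide) (by decide) (by decide) (by decide) (by decide) (by decide) (by decide) (by decide) (by decide) (by decide) (by decide) (by decide) t u]
  congr 2
  push_cast
  ring

theorem c_18_17' (t u : K) (g : GL chevD4.Idx K) : X 18 u * (X 17 t * g) = X 22 (-(t * u)) * (X 17 t * (X 18 u * g)) := by
  rw [← mul_assoc, c_18_17, mul_assoc, mul_assoc]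

theorem c_13_17 (t u : K) : X 13 u * X 17 t = X 17 t * X 13 u :=
  comm_nil (by decide) (by decide) (by decide) (by decide) (by decide) t u

theorem c_13_17' (t u : K) (g : GL chevD4.Idx K) : X 13 u * (X 17 t * g) = X 17 t * (X 13 u * g) := by
  rw [← mul_assoc, c_13_17, mul_assoc]

theorem c_12_17 (t u : K) : X 12 u * X 17 t = X 17 t * X 12 u :=
  comm_nil (by decide) (by decide) (by decide) (by decide) (by decide) t u

theorem c_12_17' (t u : K) (g : GL chevD4.Idx K) : X 12 u * (X 17 t * g) = X 17 t * (X 12 u * g) := by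
  rw [← mul_assoc, c_12_17, mul_assoc]

theorem c_9_17 (t u : K) : X 9 u * X 17 t = X 17 t * X 9 u :=
  comm_nil (by decide) (by decide) (by decide) (by decide) (by decide) t u

theorem c_9_17' (t u : K) (g : GL chevD4.Idx K) : X 9 u * (X 17 t * g) = X 17 t * (X 9 u * g) := by
  rw [← mul_assoc, c_9_17, mul_assoc]

theorem c_16_19 (t u : K) : X 16 u * X 19 t = X 19 t * X 16 u :=
  comm_nil (by decide) (by decide) (by decide) (by decide) (by decide) t u

theorem c_16_19' (t u : K) (g : GL chevD4.Idx K) : X 16 u * (X 19 t * g) = X 19 t * (X 16 u * g) := by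
  rw [← mul_assoc, c_16_19, mul_assoc]

theorem c_15_19 (t u : K) : X 15 u * X 19 t = X 19 t * X 15 u :=
  comm_nil (by decide) (by decide) (by decide) (by decide) (by decide) t u

theorem c_15_19' (t u : K) (g : GL chevD4.Idx K) : X 15 u * (X 19 t * g) = X 19 t * (X 15 u * g) := by
  rw [← mul_assoc, c_15_19, mul_assoc]

theorem c_14_19 (t u : K) : X 14 u * X 19 t = X 19 t * X 14 u :=
  comm_nil (by decide) (by decide) (by decide) (by decide) (by decide) t u

theorem c_14_19' (t u : K) (g : GL chevD4.Idx K) : X 14 u * (X 19 t * g) = X 19 t * (X 14 u * g) := by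
  rw [← mul_assoc, c_14_19, mul_assoc]

theorem c_18_19 (t u : K) : X 18 u * X 19 t = X 19 t * X 18 u :=
  comm_nil (by decide) (by decide) (by decide) (by decide) (by decide) t u

theorem c_18_19' (t u : K) (g : GL chevD4.Idx K) : X 18 u * (X 19 t * g) = X 19 t * (X 18 u * g) := by
  rw [← mul_assoc, c_18_19, mul_assoc]

theorem c_13_19 (t u : K) : X 13 u * X 19 t = X 21 (t * u) * (X 19 t * X 13 u) := by
  rw [comm_one (k := 21) (N := -1) (by decide) (by decide) (by decide) (by decide) (by decide) (by decide) (by decide) (by decide) (by decide) (by decide) (by decide) (by decide) t u]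
  congr 2
  push_cast
  ring

theorem c_13_19' (t u : K) (g : GL chevD4.Idx K) : X 13 u * (X 19 t * g) = X 21 (t * u) * (X 19 t * (X 13 u * g)) := by
  rw [← mul_assoc, c_13_19, mul_assoc, mul_assoc]

theorem c_12_19 (t u : K) : X 12 u * X 19 t = X 20 (t * u) * (X 19 t * X 12 u) := by
  rw [comm_one (k := 20) (N := -1) (by decide) (by decide) (by decide) (by decide) (by decide) (by decide) (by decide) (by decide) (by decide) (by decide) (by decide) (by decide) t u]
  congr 2
  push_cast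
  ring

theorem c_12_19' (t u : K) (g : GL chevD4.Idx K) : X 12 u * (X 19 t * g) = X 20 (t * u) * (X 19 t * (X 12 u * g)) := by
  rw [← mul_assoc, c_12_19, mul_assoc, mul_assoc]

theorem c_15_16 (t u : K) : X 15 u * X 16 t = X 16 t * X 15 u :=
  comm_nil (by decide) (by decide) (by decide) (by decide) (by decide) t u

theorem c_15_16' (t u : K) (g : GL chevD4.Idx K) : X 15 u * (X 16 t * g) = X 16 t * (X 15 u * g) := by
  rw [← mul_assoc, c_15_16, mul_assoc]

theorem c_14_16 (t u : K) : X 14 u * X 16 t = X 16 t * X 14 u :=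
  comm_nil (by decide) (by decide) (by decide) (by decide) (by decide) t u

theorem c_14_16' (t u : K) (g : GL chevD4.Idx K) : X 14 u * (X 16 t * g) = X 16 t * (X 14 u * g) := by
  rw [← mul_assoc, c_14_16, mul_assoc]

theorem c_18_16 (t u : K) : X 18 u * X 16 t = X 21 (-(t * u)) * (X 16 t * X 18 u) := by
  rw [comm_one (k := 21) (N := 1) (by decide) (by decide) (by decide) (by decide) (by decide) (by decide) (by decide) (by decide) (by decide) (by decide) (by decide) (by decide) t u]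
  congr 2
  push_cast
  ring

theorem c_18_16' (t u : K) (g : GL chevD4.Idx K) : X 18 u * (X 16 t * g) = X 21 (-(t * u)) * (X 16 t * (X 18 u * g)) := by
  rw [← mul_assoc, c_18_16, mul_assoc, mul_assoc]

theorem c_13_16 (t u : K) : X 13 u * X 16 t = X 16 t * X 13 u :=
  comm_nil (by decide) (by decide) (by decide) (by decide) (by decide) t u

theorem c_13_16' (t u : K) (g : GL chevD4.Idx K) : X 13 u * (X 16 t * g) = X 16 t * (X 13 u * g) := by
  rw [← mul_assoc, c_13_16, mul_assoc]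

theorem c_12_16 (t u : K) : X 12 u * X 16 t = X 17 (t * u) * (X 16 t * X 12 u) := by
  rw [comm_one (k := 17) (N := -1) (by decide) (by decide) (by decide) (by decide) (by decide) (by decide) (by decide) (by decide) (by decide) (by decide) (by decide) (by decide) t u]
  congr 2
  push_cast
  ring

theorem c_12_16' (t u : K) (g : GL chevD4.Idx K) : X 12 u * (X 16 t * g) = X 17 (t * u) * (X 16 t * (X 12 u * g)) := by
  rw [← mul_assoc, c_12_16, mul_assoc, mul_assoc]

theorem c_14_15 (t u : K) : X 14 u * X 15 t = X 15 t * X 14 u :=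
  comm_nil (by decide) (by decide) (by decide) (by decide) (by decide) t u

theorem c_14_15' (t u : K) (g : GL chevD4.Idx K) : X 14 u * (X 15 t * g) = X 15 t * (X 14 u * g) := by
  rw [← mul_assoc, c_14_15, mul_assoc]

theorem c_18_15 (t u : K) : X 18 u * X 15 t = X 20 (-(t * u)) * (X 15 t * X 18 u) := by
  rw [comm_one (k := 20) (N := 1) (by decide) (by decide) (by decide) (by decide) (by decide) (by decide) (by decide) (by decide) (by decide) (by decide) (by decide) (by decide) t u]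
  congr 2
  push_cast
  ring

theorem c_18_15' (t u : K) (g : GL chevD4.Idx K) : X 18 u * (X 15 t * g) = X 20 (-(t * u)) * (X 15 t * (X 18 u * g)) := by
  rw [← mul_assoc, c_18_15, mul_assoc, mul_assoc]

theorem c_13_15 (t u : K) : X 13 u * X 15 t = X 17 (t * u) * (X 15 t * X 13 u) := by
  rw [comm_one (k := 17) (N := -1) (by decide) (by decide) (by decide) (by decide) (by decide) (by decide) (by decide) (by decide) (by decide) (by decide) (by decide) (by decide) t u]
  congr 2
  push_cast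
  ring

theorem c_13_15' (t u : K) (g : GL chevD4.Idx K) : X 13 u * (X 15 t * g) = X 17 (t * u) * (X 15 t * (X 13 u * g)) := by
  rw [← mul_assoc, c_13_15, mul_assoc, mul_assoc]

theorem c_12_15 (t u : K) : X 12 u * X 15 t = X 15 t * X 12 u :=
  comm_nil (by decide) (by decide) (by decide) (by decide) (by decide) t u

theorem c_12_15' (t u : K) (g : GL chevD4.Idx K) : X 12 u * (X 15 t * g) = X 15 t * (X 12 u * g) := by
  rw [← mul_assoc, c_12_15, mul_assoc]

theorem c_18_14 (t u : K) : X 18 u * X 14 t = X 19 (-(t * u)) * (X 14 t * X 18 u) := by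
  rw [comm_one (k := 19) (N := 1) (by decide) (by decide) (by decide) (by decide) (by decide) (by decide) (by decide) (by decide) (by decide) (by decide) (by decide) (by decide) t u]
  congr 2
  push_cast
  ring

theorem c_18_14' (t u : K) (g : GL chevD4.Idx K) : X 18 u * (X 14 t * g) = X 19 (-(t * u)) * (X 14 t * (X 18 u * g)) := by
  rw [← mul_assoc, c_18_14, mul_assoc, mul_assoc]

theorem c_13_14 (t u : K) : X 13 u * X 14 t = X 16 (t * u) * (X 14 t * X 13 u) := by
  rw [comm_one (k := 16) (N := -1) (by decide) (by decide) (by decide) (by decide) (by decide) (by decide) (by decide) (by decide) (by decide) (by decide) (by decide) (by decide) t u]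
  congr 2
  push_cast
  ring

theorem c_13_14' (t u : K) (g : GL chevD4.Idx K) : X 13 u * (X 14 t * g) = X 16 (t * u) * (X 14 t * (X 13 u * g)) := by
  rw [← mul_assoc, c_13_14, mul_assoc, mul_assoc]

theorem c_12_14 (t u : K) : X 12 u * X 14 t = X 15 (t * u) * (X 14 t * X 12 u) := by
  rw [comm_one (k := 15) (N := -1) (by decide) (by decide) (by decide) (by decide) (by decide) (by decide) (by decide) (by decide) (by decide) (by decide) (by decide) (by decide) t u]
  congr 2
  push_cast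
  ring

theorem c_12_14' (t u : K) (g : GL chevD4.Idx K) : X 12 u * (X 14 t * g) = X 15 (t * u) * (X 14 t * (X 12 u * g)) := by
  rw [← mul_assoc, c_12_14, mul_assoc, mul_assoc]

theorem c_13_18 (t u : K) : X 13 u * X 18 t = X 18 t * X 13 u :=
  comm_nil (by decide) (by decide) (by decide) (by decide) (by decide) t u

theorem c_13_18' (t u : K) (g : GL chevD4.Idx K) : X 13 u * (X 18 t * g) = X 18 t * (X 13 u * g) := by
  rw [← mul_assoc, c_13_18, mul_assoc]

theorem c_12_18 (t u : K) : X 12 u * X 18 t = X 18 t * X 12 u :=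
  comm_nil (by decide) (by decide) (by decide) (by decide) (by decide) t u

theorem c_12_18' (t u : K) (g : GL chevD4.Idx K) : X 12 u * (X 18 t * g) = X 18 t * (X 12 u * g) := by
  rw [← mul_assoc, c_12_18, mul_assoc]

theorem c_12_13 (t u : K) : X 12 u * X 13 t = X 13 t * X 12 u :=
  comm_nil (by decide) (by decide) (by decide) (by decide) (by decide) t u

theorem c_12_13' (t u : K) (g : GL chevD4.Idx K) : X 12 u * (X 13 t * g) = X 13 t * (X 12 u * g) := by
  rw [← mul_assoc, c_12_13, mul_assoc]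

/-- all the commutation rules, as one simp lemma -/
theorem rules :
    (∀ (t u : K), X 22 u * X 23 t = X 23 t * X 22 u) ∧
    (∀ (t u : K) (g : GL chevD4.Idx K), X 22 u * (X 23 t * g) = X 23 t * (X 22 u * g)) ∧
    (∀ (t u : K), X 21 u * X 23 t = X 23 t * X 21 u) ∧
    (∀ (t u : K) (g : GL chevD4.Idx K), X 21 u * (X 23 t * g) = X 23 t * (X 21 u * g)) ∧
    (∀ (t u : K), X 20 u * X 23 t = X 23 t * X 20 u) ∧
    (∀ (t u : K) (g : GL chevD4.Idx K), X 20 u * (X 23 t * g) = X 23 t * (X 20 u * g)) ∧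
    (∀ (t u : K), X 17 u * X 23 t = X 23 t * X 17 u) ∧
    (∀ (t u : K) (g : GL chevD4.Idx K), X 17 u * (X 23 t * g) = X 23 t * (X 17 u * g)) ∧
    (∀ (t u : K), X 19 u * X 23 t = X 23 t * X 19 u) ∧
    (∀ (t u : K) (g : GL chevD4.Idx K), X 19 u * (X 23 t * g) = X 23 t * (X 19 u * g)) ∧
    (∀ (t u : K), X 16 u * X 23 t = X 23 t * X 16 u) ∧
    (∀ (t u : K) (g : GL chevD4.Idx K), X 16 u * (X 23 t * g) = X 23 t * (X 16 u * g)) ∧
    (∀ (t u : K), X 15 u * X 23 t = X 23 t * X 15 u) ∧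
    (∀ (t u : K) (g : GL chevD4.Idx K), X 15 u * (X 23 t * g) = X 23 t * (X 15 u * g)) ∧
    (∀ (t u : K), X 14 u * X 23 t = X 23 t * X 14 u) ∧
    (∀ (t u : K) (g : GL chevD4.Idx K), X 14 u * (X 23 t * g) = X 23 t * (X 14 u * g)) ∧
    (∀ (t u : K), X 18 u * X 23 t = X 23 t * X 18 u) ∧
    (∀ (t u : K) (g : GL chevD4.Idx K), X 18 u * (X 23 t * g) = X 23 t * (X 18 u * g)) ∧
    (∀ (t u : K), X 13 u * X 23 t = X 23 t * X 13 u) ∧
    (∀ (t u : K) (g : GL chevD4.Idx K), X 13 u * (X 23 t * g) = X 23 t * (X 13 u * g)) ∧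
    (∀ (t u : K), X 12 u * X 23 t = X 23 t * X 12 u) ∧
    (∀ (t u : K) (g : GL chevD4.Idx K), X 12 u * (X 23 t * g) = X 23 t * (X 12 u * g)) ∧
    (∀ (t u : K), X 9 u * X 23 t = X 22 (t * u) * (X 23 t * X 9 u)) ∧
    (∀ (t u : K) (g : GL chevD4.Idx K), X 9 u * (X 23 t * g) = X 22 (t * u) * (X 23 t * (X 9 u * g))) ∧
    (∀ (t u : K), X 21 u * X 22 t = X 22 t * X 21 u) ∧
    (∀ (t u : K) (g : GL chevD4.Idx K), X 21 u * (X 22 t * g) = X 22 t * (X 21 u * g)) ∧
    (∀ (t u : K), X 20 u * X 22 t = X 22 t * X 20 u) ∧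
    (∀ (t u : K) (g : GL chevD4.Idx K), X 20 u * (X 22 t * g) = X 22 t * (X 20 u * g)) ∧
    (∀ (t u : K), X 17 u * X 22 t = X 22 t * X 17 u) ∧
    (∀ (t u : K) (g : GL chevD4.Idx K), X 17 u * (X 22 t * g) = X 22 t * (X 17 u * g)) ∧
    (∀ (t u : K), X 19 u * X 22 t = X 22 t * X 19 u) ∧
    (∀ (t u : K) (g : GL chevD4.Idx K), X 19 u * (X 22 t * g) = X 22 t * (X 19 u * g)) ∧
    (∀ (t u : K), X 16 u * X 22 t = X 22 t * X 16 u) ∧
    (∀ (t u : K) (g : GL chevD4.Idx K), X 16 u * (X 22 t * g) = X 22 t * (X 16 u * g)) ∧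
    (∀ (t u : K), X 15 u * X 22 t = X 22 t * X 15 u) ∧
    (∀ (t u : K) (g : GL chevD4.Idx K), X 15 u * (X 22 t * g) = X 22 t * (X 15 u * g)) ∧
    (∀ (t u : K), X 14 u * X 22 t = X 23 (t * u) * (X 22 t * X 14 u)) ∧
    (∀ (t u : K) (g : GL chevD4.Idx K), X 14 u * (X 22 t * g) = X 23 (t * u) * (X 22 t * (X 14 u * g))) ∧
    (∀ (t u : K), X 18 u * X 22 t = X 22 t * X 18 u) ∧
    (∀ (t u : K) (g : GL chevD4.Idx K), X 18 u * (X 22 t * g) = X 22 t * (X 18 u * g)) ∧
    (∀ (t u : K), X 13 u * X 22 t = X 22 t * X 13 u) ∧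
    (∀ (t u : K) (g : GL chevD4.Idx K), X 13 u * (X 22 t * g) = X 22 t * (X 13 u * g)) ∧
    (∀ (t u : K), X 12 u * X 22 t = X 22 t * X 12 u) ∧
    (∀ (t u : K) (g : GL chevD4.Idx K), X 12 u * (X 22 t * g) = X 22 t * (X 12 u * g)) ∧
    (∀ (t u : K), X 9 u * X 22 t = X 22 t * X 9 u) ∧
    (∀ (t u : K) (g : GL chevD4.Idx K), X 9 u * (X 22 t * g) = X 22 t * (X 9 u * g)) ∧
    (∀ (t u : K), X 20 u * X 21 t = X 21 t * X 20 u) ∧
    (∀ (t u : K) (g : GL chevD4.Idx K), X 20 u * (X 21 t * g) = X 21 t * (X 20 u * g)) ∧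
    (∀ (t u : K), X 17 u * X 21 t = X 21 t * X 17 u) ∧
    (∀ (t u : K) (g : GL chevD4.Idx K), X 17 u * (X 21 t * g) = X 21 t * (X 17 u * g)) ∧
    (∀ (t u : K), X 19 u * X 21 t = X 21 t * X 19 u) ∧
    (∀ (t u : K) (g : GL chevD4.Idx K), X 19 u * (X 21 t * g) = X 21 t * (X 19 u * g)) ∧
    (∀ (t u : K), X 16 u * X 21 t = X 21 t * X 16 u) ∧
    (∀ (t u : K) (g : GL chevD4.Idx K), X 16 u * (X 21 t * g) = X 21 t * (X 16 u * g)) ∧
    (∀ (t u : K), X 15 u * X 21 t = X 23 (-(t * u)) * (X 21 t * X 15 u)) ∧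
    (∀ (t u : K) (g : GL chevD4.Idx K), X 15 u * (X 21 t * g) = X 23 (-(t * u)) * (X 21 t * (X 15 u * g))) ∧
    (∀ (t u : K), X 14 u * X 21 t = X 21 t * X 14 u) ∧
    (∀ (t u : K) (g : GL chevD4.Idx K), X 14 u * (X 21 t * g) = X 21 t * (X 14 u * g)) ∧
    (∀ (t u : K), X 18 u * X 21 t = X 21 t * X 18 u) ∧
    (∀ (t u : K) (g : GL chevD4.Idx K), X 18 u * (X 21 t * g) = X 21 t * (X 18 u * g)) ∧
    (∀ (t u : K), X 13 u * X 21 t = X 21 t * X 13 u) ∧
    (∀ (t u : K) (g : GL chevD4.Idx K), X 13 u * (X 21 t * g) = X 21 t * (X 13 u * g)) ∧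
    (∀ (t u : K), X 12 u * X 21 t = X 22 (t * u) * (X 21 t * X 12 u)) ∧
    (∀ (t u : K) (g : GL chevD4.Idx K), X 12 u * (X 21 t * g) = X 22 (t * u) * (X 21 t * (X 12 u * g))) ∧
    (∀ (t u : K), X 9 u * X 21 t = X 21 t * X 9 u) ∧
    (∀ (t u : K) (g : GL chevD4.Idx K), X 9 u * (X 21 t * g) = X 21 t * (X 9 u * g)) ∧
    (∀ (t u : K), X 17 u * X 20 t = X 20 t * X 17 u) ∧
    (∀ (t u : K) (g : GL chevD4.Idx K), X 17 u * (X 20 t * g) = X 20 t * (X 17 u * g)) ∧
    (∀ (t u : K), X 19 u * X 20 t = X 20 t * X 19 u) ∧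
    (∀ (t u : K) (g : GL chevD4.Idx K), X 19 u * (X 20 t * g) = X 20 t * (X 19 u * g)) ∧
    (∀ (t u : K), X 16 u * X 20 t = X 23 (-(t * u)) * (X 20 t * X 16 u)) ∧
    (∀ (t u : K) (g : GL chevD4.Idx K), X 16 u * (X 20 t * g) = X 23 (-(t * u)) * (X 20 t * (X 16 u * g))) ∧
    (∀ (t u : K), X 15 u * X 20 t = X 20 t * X 15 u) ∧
    (∀ (t u : K) (g : GL chevD4.Idx K), X 15 u * (X 20 t * g) = X 20 t * (X 15 u * g)) ∧
    (∀ (t u : K), X 14 u * X 20 t = X 20 t * X 14 u) ∧
    (∀ (t u : K) (g : GL chevD4.Idx K), X 14 u * (X 20 t * g) = X 20 t * (X 14 u * g)) ∧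
    (∀ (t u : K), X 18 u * X 20 t = X 20 t * X 18 u) ∧
    (∀ (t u : K) (g : GL chevD4.Idx K), X 18 u * (X 20 t * g) = X 20 t * (X 18 u * g)) ∧
    (∀ (t u : K), X 13 u * X 20 t = X 22 (t * u) * (X 20 t * X 13 u)) ∧
    (∀ (t u : K) (g : GL chevD4.Idx K), X 13 u * (X 20 t * g) = X 22 (t * u) * (X 20 t * (X 13 u * g))) ∧
    (∀ (t u : K), X 12 u * X 20 t = X 20 t * X 12 u) ∧
    (∀ (t u : K) (g : GL chevD4.Idx K), X 12 u * (X 20 t * g) = X 20 t * (X 12 u * g)) ∧
    (∀ (t u : K), X 9 u * X 20 t = X 20 t * X 9 u) ∧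
    (∀ (t u : K) (g : GL chevD4.Idx K), X 9 u * (X 20 t * g) = X 20 t * (X 9 u * g)) ∧
    (∀ (t u : K), X 19 u * X 17 t = X 23 (-(t * u)) * (X 17 t * X 19 u)) ∧
    (∀ (t u : K) (g : GL chevD4.Idx K), X 19 u * (X 17 t * g) = X 23 (-(t * u)) * (X 17 t * (X 19 u * g))) ∧
    (∀ (t u : K), X 16 u * X 17 t = X 17 t * X 16 u) ∧
    (∀ (t u : K) (g : GL chevD4.Idx K), X 16 u * (X 17 t * g) = X 17 t * (X 16 u * g)) ∧
    (∀ (t u : K), X 15 u * X 17 t = X 17 t * X 15 u) ∧
    (∀ (t u : K) (g : GL chevD4.Idx K), X 15 u * (X 17 t * g) = X 17 t * (X 15 u * g)) ∧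
    (∀ (t u : K), X 14 u * X 17 t = X 17 t * X 14 u) ∧
    (∀ (t u : K) (g : GL chevD4.Idx K), X 14 u * (X 17 t * g) = X 17 t * (X 14 u * g)) ∧
    (∀ (t u : K), X 18 u * X 17 t = X 22 (-(t * u)) * (X 17 t * X 18 u)) ∧
    (∀ (t u : K) (g : GL chevD4.Idx K), X 18 u * (X 17 t * g) = X 22 (-(t * u)) * (X 17 t * (X 18 u * g))) ∧
    (∀ (t u : K), X 13 u * X 17 t = X 17 t * X 13 u) ∧
    (∀ (t u : K) (g : GL chevD4.Idx K), X 13 u * (X 17 t * g) = X 17 t * (X 13 u * g)) ∧
    (∀ (t u : K), X 12 u * X 17 t = X 17 t * X 12 u) ∧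
    (∀ (t u : K) (g : GL chevD4.Idx K), X 12 u * (X 17 t * g) = X 17 t * (X 12 u * g)) ∧
    (∀ (t u : K), X 9 u * X 17 t = X 17 t * X 9 u) ∧
    (∀ (t u : K) (g : GL chevD4.Idx K), X 9 u * (X 17 t * g) = X 17 t * (X 9 u * g)) ∧
    (∀ (t u : K), X 16 u * X 19 t = X 19 t * X 16 u) ∧
    (∀ (t u : K) (g : GL chevD4.Idx K), X 16 u * (X 19 t * g) = X 19 t * (X 16 u * g)) ∧
    (∀ (t u : K), X 15 u * X 19 t = X 19 t * X 15 u) ∧
    (∀ (t u : K) (g : GL chevD4.Idx K), X 15 u * (X 19 t * g) = X 19 t * (X 15 u * g)) ∧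
    (∀ (t u : K), X 14 u * X 19 t = X 19 t * X 14 u) ∧
    (∀ (t u : K) (g : GL chevD4.Idx K), X 14 u * (X 19 t * g) = X 19 t * (X 14 u * g)) ∧
    (∀ (t u : K), X 18 u * X 19 t = X 19 t * X 18 u) ∧
    (∀ (t u : K) (g : GL chevD4.Idx K), X 18 u * (X 19 t * g) = X 19 t * (X 18 u * g)) ∧
    (∀ (t u : K), X 13 u * X 19 t = X 21 (t * u) * (X 19 t * X 13 u)) ∧
    (∀ (t u : K) (g : GL chevD4.Idx K), X 13 u * (X 19 t * g) = X 21 (t * u) * (X 19 t * (X 13 u * g))) ∧
    (∀ (t u : K), X 12 u * X 19 t = X 20 (t * u) * (X 19 t * X 12 u)) ∧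
    (∀ (t u : K) (g : GL chevD4.Idx K), X 12 u * (X 19 t * g) = X 20 (t * u) * (X 19 t * (X 12 u * g))) ∧
    (∀ (t u : K), X 15 u * X 16 t = X 16 t * X 15 u) ∧
    (∀ (t u : K) (g : GL chevD4.Idx K), X 15 u * (X 16 t * g) = X 16 t * (X 15 u * g)) ∧
    (∀ (t u : K), X 14 u * X 16 t = X 16 t * X 14 u) ∧
    (∀ (t u : K) (g : GL chevD4.Idx K), X 14 u * (X 16 t * g) = X 16 t * (X 14 u * g)) ∧
    (∀ (t u : K), X 18 u * X 16 t = X 21 (-(t * u)) * (X 16 t * X 18 u)) ∧
    (∀ (t u : K) (g : GL chevD4.Idx K), X 18 u * (X 16 t * g) = X 21 (-(t * u)) * (X 16 t * (X 18 u * g))) ∧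
    (∀ (t u : K), X 13 u * X 16 t = X 16 t * X 13 u) ∧
    (∀ (t u : K) (g : GL chevD4.Idx K), X 13 u * (X 16 t * g) = X 16 t * (X 13 u * g)) ∧
    (∀ (t u : K), X 12 u * X 16 t = X 17 (t * u) * (X 16 t * X 12 u)) ∧
    (∀ (t u : K) (g : GL chevD4.Idx K), X 12 u * (X 16 t * g) = X 17 (t * u) * (X 16 t * (X 12 u * g))) ∧
    (∀ (t u : K), X 14 u * X 15 t = X 15 t * X 14 u) ∧
    (∀ (t u : K) (g : GL chevD4.Idx K), X 14 u * (X 15 t * g) = X 15 t * (X 14 u * g)) ∧
    (∀ (t u : K), X 18 u * X 15 t = X 20 (-(t * u)) * (X 15 t * X 18 u)) ∧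
    (∀ (t u : K) (g : GL chevD4.Idx K), X 18 u * (X 15 t * g) = X 20 (-(t * u)) * (X 15 t * (X 18 u * g))) ∧
    (∀ (t u : K), X 13 u * X 15 t = X 17 (t * u) * (X 15 t * X 13 u)) ∧
    (∀ (t u : K) (g : GL chevD4.Idx K), X 13 u * (X 15 t * g) = X 17 (t * u) * (X 15 t * (X 13 u * g))) ∧
    (∀ (t u : K), X 12 u * X 15 t = X 15 t * X 12 u) ∧
    (∀ (t u : K) (g : GL chevD4.Idx K), X 12 u * (X 15 t * g) = X 15 t * (X 12 u * g)) ∧
    (∀ (t u : K), X 18 u * X 14 t = X 19 (-(t * u)) * (X 14 t * X 18 u)) ∧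
    (∀ (t u : K) (g : GL chevD4.Idx K), X 18 u * (X 14 t * g) = X 19 (-(t * u)) * (X 14 t * (X 18 u * g))) ∧
    (∀ (t u : K), X 13 u * X 14 t = X 16 (t * u) * (X 14 t * X 13 u)) ∧
    (∀ (t u : K) (g : GL chevD4.Idx K), X 13 u * (X 14 t * g) = X 16 (t * u) * (X 14 t * (X 13 u * g))) ∧
    (∀ (t u : K), X 12 u * X 14 t = X 15 (t * u) * (X 14 t * X 12 u)) ∧
    (∀ (t u : K) (g : GL chevD4.Idx K), X 12 u * (X 14 t * g) = X 15 (t * u) * (X 14 t * (X 12 u * g))) ∧
    (∀ (t u : K), X 13 u * X 18 t = X 18 t * X 13 u) ∧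
    (∀ (t u : K) (g : GL chevD4.Idx K), X 13 u * (X 18 t * g) = X 18 t * (X 13 u * g)) ∧
    (∀ (t u : K), X 12 u * X 18 t = X 18 t * X 12 u) ∧
    (∀ (t u : K) (g : GL chevD4.Idx K), X 12 u * (X 18 t * g) = X 18 t * (X 12 u * g)) ∧
    (∀ (t u : K), X 12 u * X 13 t = X 13 t * X 12 u) ∧
    (∀ (t u : K) (g : GL chevD4.Idx K), X 12 u * (X 13 t * g) = X 13 t * (X 12 u * g)) :=
  ⟨c_22_23, c_22_23', c_21_23, c_21_23', c_20_23, c_20_23', c_17_23, c_17_23', c_19_23, c_19_23', c_16_23, c_16_23', c_15_23, c_15_23', c_14_23, c_14_23', c_18_23, c_18_23', c_13_23, c_13_23', c_12_23, c_12_23', c_9_23, c_9_23', c_21_22, c_21_22', c_20_22, c_20_22', c_17_22, c_17_22', c_19_22, c_19_22', c_16_22, c_16_22', c_15_22, c_15_22', c_14_22, c_14_22', c_18_22, c_18_22', c_13_22, c_13_22', c_12_22, c_12_22', c_9_22, c_9_22', c_20_21, c_20_21', c_17_21, c_17_21', c_19_21, c_19_21', c_16_21, c_16_21', c_15_21, c_15_21', c_14_21, c_14_21', c_18_21, c_18_21', c_13_21, c_13_21', c_12_21,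 c_12_21', c_9_21, c_9_21', c_17_20, c_17_20', c_19_20, c_19_20', c_16_20, c_16_20', c_15_20, c_15_20', c_14_20, c_14_20', c_18_20, c_18_20', c_13_20, c_13_20', c_12_20, c_12_20', c_9_20, c_9_20', c_19_17, c_19_17', c_16_17, c_16_17', c_15_17, c_15_17', c_14_17, c_14_17', c_18_17, c_18_17', c_13_17, c_13_17', c_12_17, c_12_17', c_9_17, c_9_17', c_16_19, c_16_19', c_15_19, c_15_19', c_14_19, c_14_19', c_18_19, c_18_19', c_13_19, c_13_19', c_12_19, c_12_19', c_15_16, c_15_16', c_14_16, c_14_16', c_18_16, c_18_16', c_13_16, c_13_16', c_12_16, c_12_16', c_14_15, c_14_15', c_18_15, c_18_15', c_13_15, c_13_15', c_12_15, c_12_15', c_18_14, c_18_14', c_13_14, c_13_14', c_12_14, c_12_14', c_13_18, c_13_18', c_12_18, c_12_18', c_12_13, c_12_13'⟩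

end Cfsg.Agent.Helper12.D4R
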