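import Mathlib
import Cfsg.Agent.Helper12.D4RelA

set_option autoImplicit false
set_option linter.unusedSectionVars false
set_option linter.unusedVariables false
set_option linter.unusedSimpArgs false

/-! Relations of `³D₄(q)`, part B: the root elements of the twisted group and their relations,
inside `GL`. -/

namespace Cfsg.Agent.Helper12.D4R

open Cfsg.Lie Cfsg.Agent.Helper6 Cfsg.Agent.Helper11

variable {K : Type*} [Field K] (f : K ≃+* K)

noncomputable def zG (w : K) : GL chevD4.Idx K := X 23 w
noncomputable def yG (v : K) : GL chevD4.Idx K := X 22 v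
noncomputable def eG (s : K) : GL chevD4.Idx K := X 14 s
noncomputable def fG (s : K) : GL chevD4.Idx K := X 9 s
noncomputable def cG (u : K) : GL chevD4.Idx K := X 21 (-f (f u)) * (X 20 (-f u) * X 17 u)
noncomputable def dG (t : K) : GL chevD4.Idx K := X 19 t * (X 16 (-f t) * X 15 (-f (f t)))
noncomputable def aG (t : K) : GL chevD4.Idx K := X 18 t * (X 13 (f t) * X 12 (f (f t)))

/-- the trace form -/
def trK (x : K) : K := x + f x + f (f x)

theorem rel_z_add (w w' : K) : zG (w + w') = zG w * zG w' := (X_add 23 w w').symm
theorem rel_y_add (v v' : K) : yG (v + v') = yG v * yG v' := (X_add 22 v v').symm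
theorem rel_e_add (s s' : K) : eG (s + s') = eG s * eG s' := (X_add 14 s s').symm

theorem rel_c_add (u u' : K) : cG f (u + u') = cG f u * cG f u' := by
  unfold cG
  simp only [mul_assoc, X_add, X_add', rules, map_add, neg_add]

theorem rel_d_add (t t' : K) : dG f (t + t') = dG f t * dG f t' := by
  unfold dG
  simp only [mul_assoc, X_add, X_add', rules, map_add, neg_add]

theorem rel_yz (v w : K) : yG v * zG w = zG w * yG v := by
  unfold yG zG
  simp only [mul_assoc, X_add, X_add', rules]

theorem rel_cy (u v : K) : cG f u * yG v = yG v * cG f u := by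
  unfold cG yG
  simp only [mul_assoc, X_add, X_add', rules]

theorem rel_cz (u w : K) : cG f u * zG w = zG w * cG f u := by
  unfold cG zG
  simp only [mul_assoc, X_add, X_add', rules]

theorem rel_ey (s v : K) : eG s * yG v = yG v * zG (s * v) * eG s := by
  unfold eG yG zG
  simp only [mul_assoc, X_add, X_add', rules]
  ring_nf

theorem rel_ec (s u : K) : eG s * cG f u = cG f u * eG s := by
  unfold eG cG
  simp only [mul_assoc, X_add, X_add', rules]

theorem rel_ez (s w : K) : eG s * zG w = zG w * eG s := by
  unfold eG zG
  simp only [mul_assoc, X_add, X_add', rules]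

theorem rel_fz (s w : K) : fG s * zG w = zG w * yG (s * w) * fG s := by
  unfold fG yG zG
  simp only [mul_assoc, X_add, X_add', rules]
  ring_nf

theorem rel_fy (s v : K) : fG s * yG v = yG v * fG s := by
  unfold fG yG
  simp only [mul_assoc, X_add, X_add', rules]

theorem rel_fc (s u : K) : fG s * cG f u = cG f u * fG s := by
  unfold fG cG
  simp only [mul_assoc, X_add, X_add', rules]

theorem rel_ac (t u : K) :
    aG f t * cG f u = cG f u * yG (-trK f (t * u)) * aG f t := by
  unfold aG cG yG trK
  simp only [mul_assoc, X_add, X_add', rules, map_mul]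
  ring_nf

theorem rel_ay (t v : K) : aG f t * yG v = yG v * aG f t := by
  unfold aG yG
  simp only [mul_assoc, X_add, X_add', rules]

theorem rel_az (t w : K) : aG f t * zG w = zG w * aG f t := by
  unfold aG zG
  simp only [mul_assoc, X_add, X_add', rules]

theorem rel_dc (t u : K) :
    dG f t * cG f u = cG f u * zG (-trK f (t * u)) * dG f t := by
  unfold dG cG zG trK
  simp only [mul_assoc, X_add, X_add', rules, map_mul]
  ring_nf

theorem rel_dy (t v : K) : dG f t * yG v = yG v * dG f t := by
  unfold dG yG
  simp only [mul_assoc, X_add, X_add', rules]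

theorem rel_dz (t w : K) : dG f t * zG w = zG w * dG f t := by
  unfold dG zG
  simp only [mul_assoc, X_add, X_add', rules]

theorem rel_ae (hf : ∀ x, f (f (f x)) = x) (t s : K) (hs : f s = s) :
    eG s * aG f t = aG f t * (eG s * dG f (t * s) * cG f (f t * f (f t) * s) *
      yG (t * f t * f (f t) * s) * zG (t * f t * f (f t) * s * s)) := by
  unfold eG aG dG cG yG zG
  simp only [mul_assoc, X_add, X_add', rules, map_mul, hs, hf]
  ring_nf
  simp only [X_zero, one_mul]

end Cfsg.Agent.Helper12.D4R
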