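import Mathlib
import Cfsg.Agent.Helper6.Chev.UProd

set_option autoImplicit false
set_option linter.unusedSectionVars false
set_option linter.unusedSimpArgs false
set_option linter.unusedVariables false

/-!
# Conjugation in `U` modulo the higher root subgroups

For the tabulated ordering of the positive roots, the commutator terms of two positive roots lie
above both of them.  Hence `U_m = ⟨X_r : m ≤ r⟩` is normal in `U` for every `m`, and
`u x_r(t) u⁻¹ ∈ x_r(t) U_{r+1}` for `u ∈ U`.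
-/

namespace Cfsg.Agent.Helper12.ParCent

open Cfsg.Lie Cfsg.Agent.Helper6

variable {D : ChevalleyDatum} {F : Type*} [Field F]

/-- all commutator terms of two roots in the upper half lie above both of them -/
def posOrdChk2 (D : ChevalleyDatum) (N : ℕ) : Bool :=
  allLt D.nroots fun k => Nat.blt k N || allLt D.nroots fun s => Nat.blt s N || Nat.beq s k ||
    allL (commTermsG (ceF D) k s) fun c => Nat.blt k c.1 && Nat.blt s c.1 && Nat.blt c.1 D.nroots

section main

variable (hB : BasicOK D) (hF : FastOK D) {N : ℕ} (hP : posOrdChk2 D N = true)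
  (hC : ∀ r < D.nroots, ∀ s < D.nroots, s ≠ r → s ≠ D.neg r → CommF D F r s)
  (hneg : ∀ r < D.nroots, N ≤ r → D.neg r < N)
include hB hF hP hC hneg

/-- conjugation of a root element by another one: the correction lies above both roots -/
theorem conj_xU_xU {k s : ℕ} (hk : N ≤ k) (hk' : k < D.nroots) (hs : N ≤ s) (hs' : s < D.nroots)
    (hks : s ≠ k) (t u : F) :
    ∃ g ∈ Uge D F (max k s + 1), xU hB k t * xU hB s u * (xU hB k t)⁻¹ = xU hB s u * g := by
  have hterms : ∀ c ∈ D.commTerms k s, k < c.1 ∧ s < c.1 ∧ c.1 < D.nroots := by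
    simp only [posOrdChk2, allLt_iff, Bool.or_eq_true, Nat.blt_eq, allL_iff,
      Bool.and_eq_true] at hP
    rcases hP k hk' with h1 | h1
    · omega
    · rcases h1 s hs' with (h2 | h2) | h2
      · omega
      · exact absurd (Nat.eq_of_beq_eq_true h2) hks
      · rw [ceF_eq hF.keys hF.chk, commTermsG_eq] at h2
        intro c hc
        have := h2 c hc
        exact ⟨this.1.1, this.1.2, this.2⟩
  have hne2 : s ≠ D.neg k := by have := hneg k hk' hk; omega
  have hcomm := hC k hk' s hs' hks hne2 (-t) u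
  refine ⟨wordU hB (D.commWord F k s (-t) u), ?_, ?_⟩
  · apply wordU_mem_Uge hB
    intro p hp
    unfold ChevalleyDatum.commWord at hp
    rw [List.mem_map] at hp
    obtain ⟨c, hc, rfl⟩ := hp
    have := hterms c hc
    refine ⟨?_, this.2.2⟩
    simp only
    omega
  · rw [xU_inv]
    apply Units.ext
    simp only [Units.val_mul, xU_val, wordU_val]
    rw [mul_assoc, hcomm, ← mul_assoc, ← mul_assoc, x_mul_neg hB, one_mul]

/-- a root element of `U` normalises `U_m` -/
theorem xU_conj_mem_Uge {k m : ℕ} (hk : N ≤ k) (hk' : k < D.nroots) (hm : N ≤ m) (t : F)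
    {g : GL D.Idx F} (hg : g ∈ Uge D F m) : xU hB k t * g * (xU hB k t)⁻¹ ∈ Uge D F m := by
  unfold Uge at hg
  induction hg using Subgroup.closure_induction with
  | mem g hg =>
    obtain ⟨s, u, h1, h2, h3⟩ := hg
    have hgs : g = xU hB s u := Units.ext (by rw [h3, xU_val])
    rw [hgs]
    by_cases hsk : s = k
    · subst hsk
      have e : xU hB s t * xU hB s u * (xU hB s t)⁻¹ = xU hB s u := by
        rw [xU_mul, xU_inv, xU_mul]
        congr 1; ring
      rw [e]
      exact xU_mem_Uge hB h1 h2 u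
    · obtain ⟨c, hc, e⟩ := conj_xU_xU hB hF hP hC hneg hk hk' (by omega) h2 hsk t u
      rw [e]
      refine Subgroup.mul_mem _ (xU_mem_Uge hB h1 h2 u) (Uge_mono ?_ hc)
      have := le_max_right k s
      omega
  | one => simp
  | mul g₁ g₂ _ _ ih₁ ih₂ =>
    have : xU hB k t * (g₁ * g₂) * (xU hB k t)⁻¹ =
        (xU hB k t * g₁ * (xU hB k t)⁻¹) * (xU hB k t * g₂ * (xU hB k t)⁻¹) := by group
    rw [this]
    exact Subgroup.mul_mem _ ih₁ ih₂
  | inv g _ ih =>
    have : xU hB k t * g⁻¹ * (xU hB k t)⁻¹ = (xU hB k t * g * (xU hB k t)⁻¹)⁻¹ := by group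
    rw [this]
    exact Subgroup.inv_mem _ ih

/-- `U_m` is normalised by `U = U_N`, both ways -/
theorem Uge_conj_mem {m : ℕ} (hm : N ≤ m) {u : GL D.Idx F} (hu : u ∈ Uge D F N) :
    ∀ g ∈ Uge D F m, u * g * u⁻¹ ∈ Uge D F m ∧ u⁻¹ * g * u ∈ Uge D F m := by
  unfold Uge at hu
  induction hu using Subgroup.closure_induction with
  | mem u hu =>
    obtain ⟨k, t, h1, h2, h3⟩ := hu
    have hus : u = xU hB k t := Units.ext (by rw [h3, xU_val])
    intro g hg
    rw [hus]
    refine ⟨xU_conj_mem_Uge hB hF hP hC hneg h1 h2 hm t hg, ?_⟩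
    have := xU_conj_mem_Uge hB hF hP hC hneg h1 h2 hm (-t) hg
    rw [← xU_inv, inv_inv] at this
    exact this
  | one => intro g hg; simpa using hg
  | mul u₁ u₂ _ _ ih₁ ih₂ =>
    intro g hg
    constructor
    · have e : u₁ * u₂ * g * (u₁ * u₂)⁻¹ = u₁ * (u₂ * g * u₂⁻¹) * u₁⁻¹ := by group
      rw [e]
      exact (ih₁ _ (ih₂ g hg).1).1
    · have e : (u₁ * u₂)⁻¹ * g * (u₁ * u₂) = u₂⁻¹ * (u₁⁻¹ * g * u₁) * u₂ := by group
      rw [e]
      exact (ih₂ _ (ih₁ g hg).2).2
  | inv u _ ih =>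
    intro g hg
    rw [inv_inv]
    exact ⟨(ih g hg).2, (ih g hg).1⟩

/-- `u x_r(t) u⁻¹ ∈ x_r(t) U_{r+1}` for `u ∈ U` -/
theorem conj_xU_mod {r : ℕ} (hr : N ≤ r) (hr' : r < D.nroots) {u : GL D.Idx F}
    (hu : u ∈ Uge D F N) (t : F) :
    (xU hB r t)⁻¹ * (u * xU hB r t * u⁻¹) ∈ Uge D F (r + 1) := by
  have hnorm := fun {v : GL D.Idx F} (hv : v ∈ Uge D F N) =>
    Uge_conj_mem hB hF hP hC hneg (m := r + 1) (by omega) hv
  suffices h : ∀ t : F, (xU hB r t)⁻¹ * (u * xU hB r t * u⁻¹) ∈ Uge D F (r + 1) from h t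
  have hu' := hu
  unfold Uge at hu
  induction hu using Subgroup.closure_induction with
  | mem u hu =>
    obtain ⟨k, a, h1, h2, h3⟩ := hu
    have hus : u = xU hB k a := Units.ext (by rw [h3, xU_val])
    intro t
    rw [hus]
    by_cases hrk : r = k
    · subst hrk
      have e : (xU hB r t)⁻¹ * (xU hB r a * xU hB r t * (xU hB r a)⁻¹) = 1 := by
        rw [xU_inv, xU_inv, xU_mul, xU_mul, xU_mul]
        rw [show -t + (a + t + -a) = 0 by ring, xU_zero]
      rw [e]
      exact Subgroup.one_mem _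
    · obtain ⟨c, hc, e⟩ := conj_xU_xU hB hF hP hC hneg h1 h2 hr hr' hrk a t
      rw [e, ← mul_assoc, inv_mul_cancel, one_mul]
      refine Uge_mono ?_ hc
      have := le_max_right k r
      omega
  | one =>
    intro t
    simp
  | mul u₁ u₂ hu₁ hu₂ ih₁ ih₂ =>
    intro t
    have h1 : u₁ ∈ Uge D F N := by unfold Uge; exact hu₁
    have h2 : u₂ ∈ Uge D F N := by unfold Uge; exact hu₂
    have e : (xU hB r t)⁻¹ * (u₁ * u₂ * xU hB r t * (u₁ * u₂)⁻¹) =
        ((xU hB r t)⁻¹ * (u₁ * xU hB r t * u₁⁻¹)) *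
          (u₁ * ((xU hB r t)⁻¹ * (u₂ * xU hB r t * u₂⁻¹)) * u₁⁻¹) := by group
    rw [e]
    exact Subgroup.mul_mem _ (ih₁ h1 t) ((hnorm h1 _ (ih₂ h2 t)).1)
  | inv u hu₁ ih =>
    intro t
    have h1 : u ∈ Uge D F N := by unfold Uge; exact hu₁
    have e : (xU hB r t)⁻¹ * (u⁻¹ * xU hB r t * u⁻¹⁻¹) =
        u⁻¹ * ((xU hB r t)⁻¹ * (u * xU hB r t * u⁻¹))⁻¹ * u := by group
    rw [e]
    exact (hnorm h1 _ (Subgroup.inv_mem _ (ih h1 t))).2

end main

end Cfsg.Agent.Helper12.ParCent
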