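import Mathlib
import Cfsg.Agent.Helper6.Chev.UProdMain
import Cfsg.Agent.Helper6.Chev.TorusCard
import Cfsg.Agent.Helper2.Levi.E
import Cfsg.Agent.Helper2.Tw.Core
import Cfsg.Agent.Helper12.ParCentA

set_option autoImplicit false
set_option linter.unusedSectionVars false
set_option linter.unusedSimpArgs false
set_option linter.unusedVariables false

/-!
# Elements of `B` centralising `U_J`

`CData` packages the table facts; the main result of this file is `CData.mem_posUnipotent`: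
an element of `B = UH` centralising the unipotent radical `U_J` of a proper standard parabolic
subgroup lies in `U`.
-/

namespace Cfsg.Agent.Helper12.ParCent

open Cfsg.Lie Cfsg.Agent.Helper6 Cfsg.Agent.Helper2.Levi

variable {D : ChevalleyDatum} {F : Type*} [Field F]

/-- for fundamental roots `p_i ≠ p_j` there are positive roots `r`, `s = r + p_j` involving `p_i`
with `w_j r ≠ r` -/
def exChk (D : ChevalleyDatum) : Bool :=
  allLt D.rank fun i => allLt D.rank fun j => Nat.beq i j ||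
    anyLt D.nroots fun r => anyLt D.nroots fun s =>
      Nat.ble (D.nroots / 2) r && Nat.ble (D.nroots / 2) s &&
      !(decide (corootC D r i = 0)) && !(decide (corootC D s i = 0)) &&
      !(Nat.beq (wR D (D.simple j) r) r) &&
      allLt D.rank fun k => decide (D.cartan k s = D.cartan k r + D.cartan k (D.simple j))

theorem exChk_spec (h : exChk D = true) {i j : ℕ} (hi : i < D.rank) (hj : j < D.rank)
    (hij : i ≠ j) :
    ∃ r s : ℕ, D.nroots / 2 ≤ r ∧ r < D.nroots ∧ D.nroots / 2 ≤ s ∧ s < D.nroots ∧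
      corootC D r i ≠ 0 ∧ corootC D s i ≠ 0 ∧ wR D (D.simple j) r ≠ r ∧
      ∀ k < D.rank, D.cartan k s = D.cartan k r + D.cartan k (D.simple j) := by
  simp only [exChk, allLt_iff, anyLt_iff, Bool.or_eq_true, Bool.and_eq_true, Nat.ble_eq,
    Bool.not_eq_true', decide_eq_false_iff_not, decide_eq_true_eq] at h
  rcases h i hi j hj with h1 | ⟨r, hr, s, hs, ⟨⟨⟨⟨⟨h1, h2⟩, h3⟩, h4⟩, h5⟩, h6⟩⟩
  · exact absurd (Nat.eq_of_beq_eq_true h1) hij
  · refine ⟨r, s, h1, hr, h2, hs, h3, h4, ?_, h6⟩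
    intro e
    rw [e] at h5
    simp at h5

/-- the package of table facts -/
structure CData (D : ChevalleyDatum) (F : Type*) [Field F] (C : List (List ℤ)) : Prop where
  L : LData D F C
  ord2 : posOrdChk2 D (D.nroots / 2) = true
  ex : exChk D = true
  ord : OrdOK D

namespace CData

variable {C : List (List ℤ)} (X : CData D F C)
include X

theorem hneg : ∀ r < D.nroots, D.nroots / 2 ≤ r → D.neg r < D.nroots / 2 := by
  intro r hr hN
  rw [X.L.Δ.neg_eq hr]
  have := X.L.Δ.even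
  omega

theorem U_eq : D.posUnipotent F = Uge D F (D.nroots / 2) := by
  have hsign := X.L.Δ.hsign
  unfold ChevalleyDatum.posUnipotent Uge
  congr 1
  ext g
  constructor
  · rintro ⟨r, t, hr, hg⟩
    exact ⟨r, t, ((hsign r hr.1).1).1 hr, hr.1, hg⟩
  · rintro ⟨r, t, h1, h2, hg⟩
    exact ⟨r, t, ((hsign r h2).1).2 h1, hg⟩

/-- `u x_r(t) u⁻¹ ∈ x_r(t) U_{r+1}` for `u ∈ U` -/
theorem conj_mod {r : ℕ} (hr : D.nroots / 2 ≤ r) (hr' : r < D.nroots) {u : GL D.Idx F}
    (hu : u ∈ D.posUnipotent F) (t : F) :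
    (xU X.L.Δ.hB r t)⁻¹ * (u * xU X.L.Δ.hB r t * u⁻¹) ∈ Uge D F (r + 1) := by
  rw [X.U_eq] at hu
  exact conj_xU_mod X.L.Δ.hB X.L.Δ.hF X.ord2 X.L.Δ.hC X.hneg hr hr' hu t

/-- `x_k(c) ∈ U_{k+1}` only for `c = 0` -/
theorem eq_zero_of_mem {k : ℕ} (hk : D.nroots / 2 ≤ k) (hk' : k < D.nroots) {c : F}
    (h : xU X.L.Δ.hB k c ∈ Uge D F (k + 1)) : c = 0 := by
  obtain ⟨lam, Λ, M, h1, h2, h3, h4, h5⟩ := X.ord.ex
  exact eq_zero_of_xU_mem_Uge X.L.Δ.hB X.L.Δ.hF h1 h2 h3 h4 hk hk' h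

theorem not_inRootSub {J : Set ℕ} {i : ℕ} (hi : i < D.rank) (hiJ : i ∉ J) {r : ℕ}
    (hc : corootC D r i ≠ 0) : ¬ D.InRootSub J r := fun h => hc (h.2 i hi hiJ)

theorem xU_mem_radical {J : Set ℕ} {r : ℕ} (hr : D.nroots / 2 ≤ r) (hr' : r < D.nroots)
    (hnin : ¬ D.InRootSub J r) (t : F) : xU X.L.Δ.hB r t ∈ D.unipotentRadical F J :=
  Subgroup.subset_closure ⟨r, t, ((X.L.Δ.hsign r hr').1).2 hr, hnin, rfl⟩

/-- an element of `B` is a product `u h` -/
theorem exists_mul_of_mem_borel {b : GL D.Idx F} (hb : b ∈ D.borelSubgroup F) :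
    ∃ u ∈ D.posUnipotent F, ∃ h ∈ D.diagonalSubgroup F, b = u * h := by
  have Δ := X.L.Δ
  have hnorm : D.diagonalSubgroup F ≤
      Subgroup.normalizer (D.posUnipotent F : Set (GL D.Idx F)) :=
    diagonal_le_normalizer_posUnipotent Δ.hB Δ.hAll Δ.hAdd Δ.hH
  have h1 : b ∈ ((D.posUnipotent F ⊔ D.diagonalSubgroup F : Subgroup (GL D.Idx F)) :
      Set (GL D.Idx F)) := hb
  rw [Subgroup.coe_mul_of_right_le_normalizer_left _ _ hnorm, Set.mem_mul] at h1
  obtain ⟨u, hu, h, hh, rfl⟩ := h1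
  exact ⟨u, hu, h, hh, rfl⟩

/-- if `u h` (`u ∈ U`, `h = h(c)`) commutes with `x_r(1)`, `r` positive, then `χ_r(h) = 1` -/
theorem torChar_eq_one_of_commute {u h : GL D.Idx F} (hu : u ∈ D.posUnipotent F) {c : ℕ → F}
    (hc : ∀ i, c i ≠ 0) (hh : (h : Matrix D.Idx D.Idx F) = torMat D F c) {r : ℕ}
    (hr : D.nroots / 2 ≤ r) (hr' : r < D.nroots)
    (hcomm : (u * h) * xU X.L.Δ.hB r 1 = xU X.L.Δ.hB r 1 * (u * h)) : torChar D c r = 1 := by
  have Δ := X.L.Δ
  have h1 := Helper2.Tw.conj_tor X.L.Δ hc hh hr' (1 : F)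
  rw [mul_one] at h1
  have h2 : u * xU X.L.Δ.hB r (torChar D c r) * u⁻¹ = xU X.L.Δ.hB r 1 := by
    rw [← h1]
    have e : u * (h * xU X.L.Δ.hB r 1 * h⁻¹) * u⁻¹ = (u * h) * xU X.L.Δ.hB r 1 * (u * h)⁻¹ := by
      group
    rw [e, hcomm]
    group
  have h3 := X.conj_mod hr hr' hu (torChar D c r)
  rw [h2, xU_inv, xU_mul] at h3
  have h4 := X.eq_zero_of_mem hr hr' h3
  have : torChar D c r = 1 := by
    have : (1 : F) - torChar D c r = 0 := by rw [← h4]; ring
    exact (sub_eq_zero.1 this).symm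
  exact this

/-- an element of `B` centralising `U_J` (`J` proper) lies in `U` -/
theorem mem_posUnipotent (J : Set ℕ) (hJ : ∃ i, i < D.rank ∧ i ∉ J) {b : GL D.Idx F}
    (hb : b ∈ D.borelSubgroup F)
    (hcent : ∀ y ∈ D.unipotentRadical F J, b * y = y * b) : b ∈ D.posUnipotent F := by
  have Δ := X.L.Δ
  obtain ⟨i0, hi0, hi0J⟩ := hJ
  obtain ⟨u, hu, h, hh, rfl⟩ := X.exists_mul_of_mem_borel hb
  obtain ⟨c, hc, hv⟩ := exists_torMat_of_mem_diagonal X.L.Δ.hB X.L.Δ.hH hh
  -- the character of `h` is trivial on the positive roots outside `Φ_J`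
  have key : ∀ r, D.nroots / 2 ≤ r → r < D.nroots → ¬ D.InRootSub J r → torChar D c r = 1 := by
    intro r hr hr' hnin
    exact X.torChar_eq_one_of_commute hu hc hv hr hr'
      (hcent _ (X.xU_mem_radical hr hr' hnin 1))
  -- hence on the fundamental roots
  have hsimple : ∀ k < D.rank, torChar D c (D.simple k) = 1 := by
    intro k hk
    by_cases hkJ : k ∈ J
    · have hne : i0 ≠ k := fun e => hi0J (e ▸ hkJ)
      obtain ⟨r, s, hr, hr', hs, hs', hcr, hcs, -, hadd⟩ := exChk_spec X.ex hi0 hk hne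
      have e1 := key r hr hr' (X.not_inRootSub hi0 hi0J hcr)
      have e2 := key s hs hs' (X.not_inRootSub hi0 hi0J hcs)
      have e3 : torChar D c s = torChar D c r * torChar D c (D.simple k) := by
        unfold torChar
        rw [← Finset.prod_mul_distrib]
        apply Finset.prod_congr rfl
        intro m hm
        rw [hadd m (Finset.mem_range.1 hm), zpow_add₀ (hc m)]
      rw [e1, e2, one_mul] at e3
      exact e3.symm
    · have hA := X.L.Δ.hAll k hk
      apply key _ (X.L.Δ.hpN k hk) hA.hS.1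
      apply X.not_inRootSub hk hkJ
      rw [hA.hE.1 k hk, if_pos rfl]
      exact one_ne_zero
  have hall := Helper2.Tw.torChar_eq_one_of_simple X.L.Δ hc hsimple
  have h1 : h = 1 := by
    apply Units.ext
    rw [hv, Units.val_one]
    exact torMat_eq_one_iff.2 hall
  rw [h1, mul_one]
  exact hu

end CData

end Cfsg.Agent.Helper12.ParCent
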