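import Mathlib
import Cfsg.Agent.Helper6.Chev.Normal
import Cfsg.Agent.Helper6.Chev.Perfect
import Cfsg.Agent.Helper12.ParCentB

set_option autoImplicit false
set_option linter.unusedSectionVars false
set_option linter.unusedSimpArgs false
set_option linter.unusedVariables false

/-!
# Subgroups of `U` normalised by `B`: peeling off the leading root element

Let `Y ≤ U` be normalised by `H` and by `U`.  If the root `r` can be separated from every later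
root `k` (`Peel`), then from `x_r(t) y ∈ Y` with `t ≠ 0`, `y ∈ U_{r+1}` we get a non-trivial
element of `X_r` in `Y`.  Separation by a torus element is `peel_of_tor`.
-/

namespace Cfsg.Agent.Helper12.WCl

open Cfsg.Lie Cfsg.Agent.Helper6 Cfsg.Agent.Helper2.Levi Cfsg.Agent.Helper12.ParCent

variable {D : ChevalleyDatum} {F : Type*} [Field F]

/-- a subgroup of `U` normalised by `H` and `U` -/
structure Inv (D : ChevalleyDatum) (F : Type*) [Field F] (Y : Subgroup (GL D.Idx F)) : Prop where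
  le : Y ≤ D.posUnipotent F
  tor : ∀ h ∈ D.diagonalSubgroup F, ∀ y ∈ Y, h * y * h⁻¹ ∈ Y
  uni : ∀ u ∈ D.posUnipotent F, ∀ y ∈ Y, u * y * u⁻¹ ∈ Y

/-- the root `r` can be separated from the later root `k` inside `Y` -/
def Peel (hB : BasicOK D) (Y : Subgroup (GL D.Idx F)) (r k : ℕ) : Prop :=
  ∀ t : F, t ≠ 0 → ∀ y ∈ Uge D F k, xU hB r t * y ∈ Y →
    ∃ t' : F, t' ≠ 0 ∧ ∃ y' ∈ Uge D F (k + 1), xU hB r t' * y' ∈ Y

/-- all the root elements `x_r(v)` lie in `Y` -/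
def RootIn (hB : BasicOK D) (Y : Subgroup (GL D.Idx F)) (r : ℕ) : Prop :=
  ∀ v : F, xU hB r v ∈ Y

theorem Uge_nroots : Uge D F D.nroots = ⊥ := by
  unfold Uge
  rw [Subgroup.closure_eq_bot_iff]
  rintro g ⟨r, t, h1, h2, -⟩
  omega

end Cfsg.Agent.Helper12.WCl

namespace Cfsg.Agent.Helper12.ParCent.CData

open Cfsg.Lie Cfsg.Agent.Helper6 Cfsg.Agent.Helper2.Levi Cfsg.Agent.Helper12.ParCent
  Cfsg.Agent.Helper12.WCl

variable {D : ChevalleyDatum} {F : Type*} [Field F]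

variable {C : List (List ℤ)} (X : CData D F C)
include X

theorem xU_pos_mem' {r : ℕ} (hr : D.nroots / 2 ≤ r) (hr' : r < D.nroots) (t : F) :
    xU X.L.Δ.hB r t ∈ D.posUnipotent F := by
  rw [X.U_eq]
  exact xU_mem_Uge X.L.Δ.hB hr hr' t

/-- `U_m` is normalised by `U` -/
theorem Uge_conj {m : ℕ} (hm : D.nroots / 2 ≤ m) {u : GL D.Idx F} (hu : u ∈ D.posUnipotent F)
    {g : GL D.Idx F} (hg : g ∈ Uge D F m) : u * g * u⁻¹ ∈ Uge D F m := by
  rw [X.U_eq] at hu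
  exact (Uge_conj_mem X.L.Δ.hB X.L.Δ.hF X.ord2 X.L.Δ.hC X.hneg hm hu g hg).1

theorem Uge_conj' {m : ℕ} (hm : D.nroots / 2 ≤ m) {u : GL D.Idx F} (hu : u ∈ D.posUnipotent F)
    {g : GL D.Idx F} (hg : g ∈ Uge D F m) : u⁻¹ * g * u ∈ Uge D F m := by
  rw [X.U_eq] at hu
  exact (Uge_conj_mem X.L.Δ.hB X.L.Δ.hF X.ord2 X.L.Δ.hC X.hneg hm hu g hg).2

theorem Uge_le_pos {m : ℕ} (hm : D.nroots / 2 ≤ m) : Uge D F m ≤ D.posUnipotent F := by
  rw [X.U_eq]
  exact Uge_mono hm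

/-- `U_k = X_k U_{k+1}` -/
theorem exists_mul {k : ℕ} (hk : D.nroots / 2 ≤ k) {g : GL D.Idx F} (hg : g ∈ Uge D F k) :
    ∃ a : F, ∃ g' ∈ Uge D F (k + 1), g = xU X.L.Δ.hB k a * g' := by
  obtain ⟨lam, Λ, M, h1, h2, h3, h4, h5⟩ := X.ord.ex
  exact exists_mul_of_mem_Uge X.L.Δ.hB X.L.Δ.hF h5 X.L.Δ.hC X.hneg hk hg

/-- `H` normalises `U_m` -/
theorem tor_conj_mem_Uge {h : GL D.Idx F} (hh : h ∈ D.diagonalSubgroup F) {m : ℕ}
    {g : GL D.Idx F} (hg : g ∈ Uge D F m) : h * g * h⁻¹ ∈ Uge D F m := by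
  obtain ⟨c, hc, hv⟩ := exists_torMat_of_mem_diagonal X.L.Δ.hB X.L.Δ.hH hh
  unfold Uge at hg
  induction hg using Subgroup.closure_induction with
  | mem g hg =>
    obtain ⟨s, u, h1, h2, h3⟩ := hg
    have hgs : g = xU X.L.Δ.hB s u := Units.ext (by rw [h3, xU_val])
    rw [hgs, Helper2.Tw.conj_tor X.L.Δ hc hv h2 u]
    exact xU_mem_Uge X.L.Δ.hB h1 h2 _
  | one => simp
  | mul g₁ g₂ _ _ ih₁ ih₂ =>
    have : h * (g₁ * g₂) * h⁻¹ = (h * g₁ * h⁻¹) * (h * g₂ * h⁻¹) := by group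
    rw [this]
    exact Subgroup.mul_mem _ ih₁ ih₂
  | inv g _ ih =>
    have : h * g⁻¹ * h⁻¹ = (h * g * h⁻¹)⁻¹ := by group
    rw [this]
    exact Subgroup.inv_mem _ ih

variable {Y : Subgroup (GL D.Idx F)} (hY : Inv D F Y)
include hY

/-- separation by a torus element -/
theorem peel_of_tor {r k : ℕ} (hr : D.nroots / 2 ≤ r) (hrk : r < k) (hk : k < D.nroots)
    {h : GL D.Idx F} (hh : h ∈ D.diagonalSubgroup F) {c : ℕ → F} (hc : ∀ i, c i ≠ 0)
    (hv : (h : Matrix D.Idx D.Idx F) = torMat D F c) (h1 : torChar D c k = 1)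
    (h2 : torChar D c r ≠ 1) : Peel X.L.Δ.hB Y r k := by
  intro t ht y hy hxY
  have hkN : D.nroots / 2 ≤ k := by omega
  have hr' : r < D.nroots := by omega
  obtain ⟨u, y', hy', rfl⟩ := X.exists_mul hkN hy
  set x := xU X.L.Δ.hB r t * (xU X.L.Δ.hB k u * y') with hx
  have hg : h * x * h⁻¹ * x⁻¹ ∈ Y := Subgroup.mul_mem _ (hY.tor h hh x hxY) (Subgroup.inv_mem _ hxY)
  have e1 := Helper2.Tw.conj_tor X.L.Δ hc hv hr' t
  have e2 := Helper2.Tw.conj_tor X.L.Δ hc hv hk u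
  rw [h1, one_mul] at e2
  set y'' := h * y' * h⁻¹ with hy''
  have hy''m : y'' ∈ Uge D F (k + 1) := X.tor_conj_mem_Uge hh hy'
  have e3 : h * x * h⁻¹ = xU X.L.Δ.hB r (torChar D c r * t) * (xU X.L.Δ.hB k u * y'') := by
    rw [← e1, ← e2, hy'', hx]
    group
  set z := xU X.L.Δ.hB k u * (y'' * y'⁻¹) * (xU X.L.Δ.hB k u)⁻¹ with hz
  have hzm : z ∈ Uge D F (k + 1) :=
    X.Uge_conj (by omega) (X.xU_pos_mem' hkN hk u)
      (Subgroup.mul_mem _ hy''m (Subgroup.inv_mem _ hy'))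
  set z' := xU X.L.Δ.hB r t * z * (xU X.L.Δ.hB r t)⁻¹ with hz'
  have hz'm : z' ∈ Uge D F (k + 1) := X.Uge_conj (by omega) (X.xU_pos_mem' hr hr' t) hzm
  refine ⟨(torChar D c r - 1) * t, mul_ne_zero (sub_ne_zero.2 h2) ht, z', hz'm, ?_⟩
  have e4 : xU X.L.Δ.hB r ((torChar D c r - 1) * t) * z' = h * x * h⁻¹ * x⁻¹ := by
    rw [e3, hx, hz', hz]
    have e5 : xU X.L.Δ.hB r ((torChar D c r - 1) * t) =
        xU X.L.Δ.hB r (torChar D c r * t) * (xU X.L.Δ.hB r t)⁻¹ := by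
      rw [xU_inv, xU_mul]
      congr 1
      ring
    rw [e5]
    group
  rw [e4]
  exact hg

/-- if `r` can be separated from all later roots, a non-trivial element of `X_r` lies in `Y` -/
theorem exists_of_peel {r : ℕ} (hr : D.nroots / 2 ≤ r) (hr' : r < D.nroots)
    (hpeel : ∀ k, r < k → k < D.nroots → Peel X.L.Δ.hB Y r k) :
    ∀ m k : ℕ, k + m = D.nroots → r < k → ∀ t : F, t ≠ 0 → ∀ y ∈ Uge D F k,
      xU X.L.Δ.hB r t * y ∈ Y → ∃ t' : F, t' ≠ 0 ∧ xU X.L.Δ.hB r t' ∈ Y := by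
  intro m
  induction m with
  | zero =>
    intro k hk hrk t ht y hy hxY
    have hk' : k = D.nroots := by omega
    rw [hk', Uge_nroots, Subgroup.mem_bot] at hy
    rw [hy, mul_one] at hxY
    exact ⟨t, ht, hxY⟩
  | succ m ih =>
    intro k hk hrk t ht y hy hxY
    obtain ⟨t', ht', y', hy', hxY'⟩ := hpeel k hrk (by omega) t ht y hy hxY
    exact ih (k + 1) (by omega) (by omega) t' ht' y' hy' hxY'

end Cfsg.Agent.Helper12.ParCent.CData
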