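import Mathlib
import Cfsg.Agent.Helper12.WClA

set_option autoImplicit false
set_option linter.unusedSectionVars false
set_option linter.unusedSimpArgs false
set_option linter.unusedVariables false

/-!
# Torus separators, irreducibility of the root subgroups, and the leading term
-/

namespace Cfsg.Agent.Helper12.WCl

open Cfsg.Lie Cfsg.Agent.Helper6 Cfsg.Agent.Helper2.Levi Cfsg.Agent.Helper12.ParCent

variable {D : ChevalleyDatum} {F : Type*} [Field F]

/-- the character of `h_c(τ)` -/
theorem torChar_hWord (c : ℕ) {τ : F} (hτ : τ ≠ 0) (r : ℕ) :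
    torChar D (fun k => τ ^ corootC D c k) r = τ ^ aOf D c r := by
  unfold aOf torChar
  rw [zpow_sum_range τ hτ]
  exact Finset.prod_congr rfl (fun k _ => by rw [zpow_mul])

/-- in a finite field there is `τ ≠ 0` with `τ ^ a ≠ 1` when `0 < |a| < q - 1` -/
theorem exists_zpow_ne_one [Fintype F] {a : ℤ} (ha0 : a ≠ 0)
    (hlt : a.natAbs + 1 < Fintype.card F) : ∃ τ : F, τ ≠ 0 ∧ τ ^ a ≠ 1 := by
  classical
  obtain ⟨g, hg⟩ := IsCyclic.exists_generator (α := Fˣ)
  have hord : orderOf g = Fintype.card F - 1 := by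
    rw [orderOf_eq_card_of_forall_mem_zpowers hg, Nat.card_eq_fintype_card, Fintype.card_units]
  refine ⟨(g : F), g.ne_zero, ?_⟩
  intro h1
  have h2 : g ^ a = 1 := by
    apply Units.ext
    rw [Units.val_zpow_eq_zpow_val, h1, Units.val_one]
  have h3 := orderOf_dvd_iff_zpow_eq_one.2 h2
  rw [hord] at h3
  have h4 : (Fintype.card F - 1) ∣ a.natAbs := by
    have := Int.natAbs_dvd_natAbs.2 h3
    simpa using this
  have h5 := Nat.le_of_dvd (Int.natAbs_pos.2 ha0) h4
  omega

end Cfsg.Agent.Helper12.WCl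

namespace Cfsg.Agent.Helper12.ParCent.CData

open Cfsg.Lie Cfsg.Agent.Helper6 Cfsg.Agent.Helper2.Levi Cfsg.Agent.Helper12.ParCent
  Cfsg.Agent.Helper12.WCl

variable {D : ChevalleyDatum} {F : Type*} [Field F]

variable {C : List (List ℤ)} (X : CData D F C)
include X

/-- the torus element `h_c(τ)` -/
theorem exists_tor {c : ℕ} (hc : c < D.nroots) {τ : F} (hτ : τ ≠ 0) :
    ∃ h ∈ D.diagonalSubgroup F, ∀ r < D.nroots, ∀ t : F,
      h * xU X.L.Δ.hB r t * h⁻¹ = xU X.L.Δ.hB r (τ ^ aOf D c r * t) := by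
  refine ⟨wordU X.L.Δ.hB (D.hWord c τ), hWordU_mem_diagonal X.L.Δ.hB hc hτ, ?_⟩
  intro r hr t
  have hv : ((wordU X.L.Δ.hB (D.hWord c τ) : GL D.Idx F) : Matrix D.Idx D.Idx F) =
      torMat D F (fun k => τ ^ corootC D c k) := by
    rw [wordU_val]
    exact hMat_eq_torMat (X.L.Δ.hH c hc) hτ
  rw [Helper2.Tw.conj_tor X.L.Δ (fun k => zpow_ne_zero _ hτ) hv hr t, torChar_hWord c hτ r]

variable {Y : Subgroup (GL D.Idx F)} (hY : Inv D F Y)
include hY

/-- separation by `h_c(τ)` -/
theorem peel_of_wit {r k c : ℕ} (hr : D.nroots / 2 ≤ r) (hrk : r < k) (hk : k < D.nroots)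
    (hc : c < D.nroots) (h0 : aOf D c k = 0) {τ : F} (hτ : τ ≠ 0) (hτa : τ ^ aOf D c r ≠ 1) :
    Peel X.L.Δ.hB Y r k := by
  have hv : ((wordU X.L.Δ.hB (D.hWord c τ) : GL D.Idx F) : Matrix D.Idx D.Idx F) =
      torMat D F (fun k => τ ^ corootC D c k) := by
    rw [wordU_val]
    exact hMat_eq_torMat (X.L.Δ.hH c hc) hτ
  apply X.peel_of_tor hY hr hrk hk (hWordU_mem_diagonal X.L.Δ.hB hc hτ)
    (fun k => zpow_ne_zero _ hτ) hv
  · rw [torChar_hWord c hτ k, h0, zpow_zero]
  · rw [torChar_hWord c hτ r]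
    exact hτa

/-- `X_r ∩ Y ≠ 1` gives `X_r ≤ Y` when some coroot pairs to `±1` with `r` -/
theorem rootIn_of_unit {r c : ℕ} (hr' : r < D.nroots) (hc : c < D.nroots)
    (ha : aOf D c r = 1 ∨ aOf D c r = -1) {t' : F} (ht' : t' ≠ 0)
    (h : xU X.L.Δ.hB r t' ∈ Y) : RootIn X.L.Δ.hB Y r := by
  intro v
  by_cases hv : v = 0
  · rw [hv, xU_zero]
    exact Subgroup.one_mem _
  rcases ha with ha | ha
  · obtain ⟨h0, hh0, hact⟩ := X.exists_tor hc (τ := v / t') (div_ne_zero hv ht')
    have := hY.tor h0 hh0 _ h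
    rw [hact r hr' t', ha, zpow_one, div_mul_cancel₀ v ht'] at this
    exact this
  · obtain ⟨h0, hh0, hact⟩ := X.exists_tor hc (τ := t' / v) (div_ne_zero ht' hv)
    have := hY.tor h0 hh0 _ h
    rw [hact r hr' t', ha, zpow_neg, zpow_one, inv_div, div_mul_cancel₀ v ht'] at this
    exact this

/-- the same when some coroot pairs to `±2` with `r`, over a finite field -/
theorem rootIn_of_sq [Fintype F] {r c : ℕ} (hr' : r < D.nroots) (hc : c < D.nroots)
    (ha : aOf D c r = 2 ∨ aOf D c r = -2) {t' : F} (ht' : t' ≠ 0)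
    (h : xU X.L.Δ.hB r t' ∈ Y) : RootIn X.L.Δ.hB Y r := by
  -- closed under multiplication by squares
  have hsq : ∀ s : F, xU X.L.Δ.hB r (s ^ 2 * t') ∈ Y := by
    intro s
    by_cases hs : s = 0
    · rw [hs, zero_pow (by norm_num), zero_mul, xU_zero]
      exact Subgroup.one_mem _
    rcases ha with ha | ha
    · obtain ⟨h0, hh0, hact⟩ := X.exists_tor hc (τ := s) hs
      have := hY.tor h0 hh0 _ h
      rw [hact r hr' t', ha] at this
      rw [← zpow_natCast]
      exact this
    · obtain ⟨h0, hh0, hact⟩ := X.exists_tor hc (τ := s⁻¹) (inv_ne_zero hs)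
      have := hY.tor h0 hh0 _ h
      rw [hact r hr' t', ha, zpow_neg, inv_zpow, inv_inv] at this
      rw [← zpow_natCast]
      exact this
  -- every element is a sum of two squares
  have h2sq : ∀ x : F, ∃ a b : F, a ^ 2 + b ^ 2 = x := by
    intro x
    by_cases hodd : Fintype.card F % 2 = 1
    · have hf : (Polynomial.X ^ 2 : Polynomial F).degree = 2 := Polynomial.degree_X_pow 2
      have hg : (Polynomial.X ^ 2 - Polynomial.C x : Polynomial F).degree = 2 :=
        Polynomial.degree_X_pow_sub_C (by norm_num) x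
      obtain ⟨a, b, hab⟩ := FiniteField.exists_root_sum_quadratic hf hg hodd
      refine ⟨a, b, ?_⟩
      simp only [Polynomial.eval_pow, Polynomial.eval_X, Polynomial.eval_sub,
        Polynomial.eval_C] at hab
      linear_combination hab
    · have h2 : ringChar F = 2 := by
        obtain ⟨p, hp⟩ := CharP.exists F
        have := hp
        obtain ⟨n, hn, hcard⟩ := FiniteField.card F p
        have hpn : p ∣ Fintype.card F := by
          rw [hcard]
          exact dvd_pow_self p n.ne_zero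
        have hp2 : p = 2 := by
          rcases hn.eq_two_or_odd with h | h
          · exact h
          · exfalso
            apply hodd
            rw [hcard, Nat.pow_mod, h]
            simp
        rw [← hp2]
        exact ringChar.eq F p
      have : CharP F 2 := by
        rw [← h2]; exact ringChar.charP F
      obtain ⟨a, ha⟩ := FiniteField.isSquare_of_char_two h2 x
      exact ⟨a, 0, by rw [ha]; ring⟩
  intro v
  obtain ⟨a, b, hab⟩ := h2sq (v / t')
  have e : v = a ^ 2 * t' + b ^ 2 * t' := by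
    rw [← add_mul, hab, div_mul_cancel₀ v ht']
  rw [e, ← xU_mul]
  exact Subgroup.mul_mem _ (hsq a) (hsq b)

end Cfsg.Agent.Helper12.ParCent.CData
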