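import Mathlib
import Cfsg.Agent.Helper12.WClB

set_option autoImplicit false
set_option linter.unusedSectionVars false
set_option linter.unusedSimpArgs false
set_option linter.unusedVariables false

/-!
# Words in `Y`, separation by a root element, and generation of `U_J`
-/

namespace Cfsg.Agent.Helper12.WCl

open Cfsg.Lie Cfsg.Agent.Helper6 Cfsg.Agent.Helper2.Levi Cfsg.Agent.Helper12.ParCent

variable {D : ChevalleyDatum} {F : Type*} [Field F]

/-- the leading root element of an element of `Y` with leading root `r` lies in `Y` -/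
def Lead (hB : BasicOK D) (Y : Subgroup (GL D.Idx F)) (r : ℕ) : Prop :=
  ∀ t : F, t ≠ 0 → ∀ y ∈ Uge D F (r + 1), xU hB r t * y ∈ Y → RootIn hB Y r

theorem exists_min_fst : ∀ w : List (ℕ × F), w ≠ [] → ∃ p ∈ w, ∀ q ∈ w, p.1 ≤ q.1 := by
  intro w
  induction w with
  | nil => intro h; exact absurd rfl h
  | cons a w ih =>
    intro _
    by_cases hw : w = []
    · subst hw
      exact ⟨a, List.mem_cons_self, fun q hq => by
        rw [List.mem_singleton] at hq; rw [hq]⟩
    · obtain ⟨p, hp, hmin⟩ := ih hw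
      by_cases hap : a.1 ≤ p.1
      · refine ⟨a, List.mem_cons_self, fun q hq => ?_⟩
        rcases List.mem_cons.1 hq with rfl | hq
        · exact le_refl _
        · exact le_trans hap (hmin q hq)
      · refine ⟨p, List.mem_cons_of_mem _ hp, fun q hq => ?_⟩
        rcases List.mem_cons.1 hq with rfl | hq
        · omega
        · exact hmin q hq

/-- the generation table check: every non-fundamental positive root `r` is a term with coefficient
`±1` of the commutator of two smaller positive roots, and its coroot is supported where theirs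
are -/
def genChk (D : ChevalleyDatum) (W : List (ℕ × ℕ)) : Bool :=
  allLt D.nroots fun r => Nat.blt r (D.nroots / 2) ||
    (anyLt D.rank fun i => Nat.beq (D.simple i) r) ||
    (Nat.ble (D.nroots / 2) (W.getD (r - D.nroots / 2) (0, 0)).1 &&
      Nat.blt (W.getD (r - D.nroots / 2) (0, 0)).1 r &&
      Nat.ble (D.nroots / 2) (W.getD (r - D.nroots / 2) (0, 0)).2 &&
      Nat.blt (W.getD (r - D.nroots / 2) (0, 0)).2 r &&
      !(Nat.beq (W.getD (r - D.nroots / 2) (0, 0)).2 (W.getD (r - D.nroots / 2) (0, 0)).1) &&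
      decide (((commTermsG (ceF D) (W.getD (r - D.nroots / 2) (0, 0)).1
        (W.getD (r - D.nroots / 2) (0, 0)).2).map fun c => c.1).Nodup) &&
      (allL (commTermsG (ceF D) (W.getD (r - D.nroots / 2) (0, 0)).1
        (W.getD (r - D.nroots / 2) (0, 0)).2) fun c =>
          Nat.ble (D.nroots / 2) c.1 && Nat.blt c.1 D.nroots) &&
      ((commTermsG (ceF D) (W.getD (r - D.nroots / 2) (0, 0)).1
        (W.getD (r - D.nroots / 2) (0, 0)).2).any fun c =>
          Nat.beq c.1 r && (decide (c.2.1 = 1) || decide (c.2.1 = -1))) &&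
      allLt D.rank fun k => decide (corootC D r k = 0) ||
        !(decide (corootC D (W.getD (r - D.nroots / 2) (0, 0)).1 k = 0)) ||
        !(decide (corootC D (W.getD (r - D.nroots / 2) (0, 0)).2 k = 0)))

theorem genChk_spec (hF : FastOK D) {W : List (ℕ × ℕ)} (h : genChk D W = true) {r : ℕ}
    (hr : D.nroots / 2 ≤ r) (hr' : r < D.nroots) :
    (∃ i < D.rank, D.simple i = r) ∨
    ∃ r1 b : ℕ, D.nroots / 2 ≤ r1 ∧ r1 < r ∧ D.nroots / 2 ≤ b ∧ b < r ∧ b ≠ r1 ∧
      ((D.commTerms r1 b).map fun c => c.1).Nodup ∧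
      (∀ c ∈ D.commTerms r1 b, D.nroots / 2 ≤ c.1 ∧ c.1 < D.nroots) ∧
      (∃ c ∈ D.commTerms r1 b, c.1 = r ∧ (c.2.1 = 1 ∨ c.2.1 = -1)) ∧
      ∀ k < D.rank, corootC D r1 k = 0 → corootC D b k = 0 → corootC D r k = 0 := by
  simp only [genChk, allLt_iff, anyLt_iff, Bool.or_eq_true, Bool.and_eq_true, Nat.blt_eq,
    Nat.ble_eq, allL_iff, Bool.not_eq_true', decide_eq_true_eq, decide_eq_false_iff_not,
    List.any_eq_true] at h
  rcases h r hr' with (h1 | ⟨i, hi, h1⟩) | h1
  · omega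
  · exact Or.inl ⟨i, hi, Nat.eq_of_beq_eq_true h1⟩
  · right
    obtain ⟨⟨⟨⟨⟨⟨⟨⟨h1, h2⟩, h3⟩, h4⟩, h5⟩, h6⟩, h7⟩, h8⟩, h9⟩ := h1
    rw [ceF_eq hF.keys hF.chk, commTermsG_eq] at h6 h7 h8
    obtain ⟨c, hc, hc1, hc2⟩ := h8
    refine ⟨_, _, h1, h2, h3, h4, ?_, h6, h7, ⟨c, hc, Nat.eq_of_beq_eq_true hc1, hc2⟩, ?_⟩
    · intro e
      rw [e] at h5
      simp at h5
    · intro k hk e1 e2
      rcases h9 k hk with (h | h) | h
      · exact h
      · exact absurd e1 h
      · exact absurd e2 h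

end Cfsg.Agent.Helper12.WCl

namespace Cfsg.Agent.Helper12.ParCent.CData

open Cfsg.Lie Cfsg.Agent.Helper6 Cfsg.Agent.Helper2.Levi Cfsg.Agent.Helper12.ParCent
  Cfsg.Agent.Helper12.WCl

variable {D : ChevalleyDatum} {F : Type*} [Field F]

variable {C : List (List ℤ)} (X : CData D F C)
  {Y : Subgroup (GL D.Idx F)} (hY : Inv D F Y)
include X hY

/-- the leading root element of an element of `Y` lies in `Y` -/
theorem lead_of_peel {r : ℕ} (hr : D.nroots / 2 ≤ r) (hr' : r < D.nroots)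
    (hP : ∀ k, r < k → k < D.nroots → Peel X.L.Δ.hB Y r k)
    (hI : ∀ t' : F, t' ≠ 0 → xU X.L.Δ.hB r t' ∈ Y → RootIn X.L.Δ.hB Y r) :
    Lead X.L.Δ.hB Y r := by
  intro t ht y hy h
  obtain ⟨t', ht', h'⟩ := X.exists_of_peel hY hr hr' hP (D.nroots - (r + 1)) (r + 1)
    (by omega) (by omega) t ht y hy h
  exact hI t' ht' h'

/-- all the non-trivial letters of a word in `Y` with distinct roots lie in `Y` -/
theorem rootIn_of_word :
    ∀ (n : ℕ) (w : List (ℕ × F)), w.length = n → (w.map Prod.fst).Nodup →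
      (∀ p ∈ w, D.nroots / 2 ≤ p.1 ∧ p.1 < D.nroots) → (∀ p ∈ w, Lead X.L.Δ.hB Y p.1) →
      wordU X.L.Δ.hB w ∈ Y → ∀ p ∈ w, p.2 ≠ 0 → RootIn X.L.Δ.hB Y p.1 := by
  intro n
  induction n with
  | zero =>
    intro w hw _ _ _ _ p hp
    rw [List.length_eq_zero_iff] at hw
    rw [hw] at hp
    exact absurd hp List.not_mem_nil
  | succ n ih =>
    intro w hlen hnd hbd hL hwY
    have hne : w ≠ [] := by
      intro e; rw [e] at hlen; simp at hlen
    obtain ⟨p, hp, hmin⟩ := exists_min_fst w hne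
    obtain ⟨w1, w2, hw⟩ := List.append_of_mem hp
    subst hw
    have hnd' : (w1.map Prod.fst ++ p.1 :: w2.map Prod.fst).Nodup := by
      simpa [List.map_append] using hnd
    have hnot1 : p.1 ∉ w1.map Prod.fst := by
      intro hmem
      have := (List.nodup_append.1 hnd').2.2 p.1 hmem p.1 List.mem_cons_self
      exact this rfl
    have hnot2 : p.1 ∉ w2.map Prod.fst := by
      have := (List.nodup_append.1 hnd').2.1
      exact (List.nodup_cons.1 this).1
    have hlt1 : ∀ q ∈ w1, p.1 + 1 ≤ q.1 ∧ q.1 < D.nroots := by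
      intro q hq
      have h1 := hmin q (List.mem_append_left _ hq)
      have h2 : q.1 ≠ p.1 := fun e => hnot1 (e ▸ List.mem_map_of_mem hq)
      exact ⟨by omega, (hbd q (List.mem_append_left _ hq)).2⟩
    have hlt2 : ∀ q ∈ w2, p.1 + 1 ≤ q.1 ∧ q.1 < D.nroots := by
      intro q hq
      have hq' : q ∈ w1 ++ p :: w2 := List.mem_append_right _ (List.mem_cons_of_mem _ hq)
      have h1 := hmin q hq'
      have h2 : q.1 ≠ p.1 := fun e => hnot2 (e ▸ List.mem_map_of_mem hq)
      exact ⟨by omega, (hbd q hq').2⟩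
    have hpb := hbd p hp
    set A := wordU X.L.Δ.hB w1 with hA
    set B := wordU X.L.Δ.hB w2 with hBdef
    set x := xU X.L.Δ.hB p.1 p.2 with hx
    have hAm : A ∈ Uge D F (p.1 + 1) := wordU_mem_Uge X.L.Δ.hB w1 hlt1
    have hBm : B ∈ Uge D F (p.1 + 1) := wordU_mem_Uge X.L.Δ.hB w2 hlt2
    have hxU : x ∈ D.posUnipotent F := X.xU_pos_mem' hpb.1 hpb.2 p.2
    have hg : wordU X.L.Δ.hB (w1 ++ p :: w2) = A * x * B := by
      rw [wordU_append, wordU_cons, mul_assoc]
    rw [hg] at hwY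
    -- the leading letter
    have hlead : p.2 ≠ 0 → RootIn X.L.Δ.hB Y p.1 := by
      intro hp2
      have e : A * x * B = x * ((x⁻¹ * A * x) * B) := by group
      rw [e] at hwY
      exact hL p hp p.2 hp2 _
        (Subgroup.mul_mem _ (X.Uge_conj' (by omega) hxU hAm) hBm) hwY
    -- the remaining word
    have hAB : wordU X.L.Δ.hB (w1 ++ w2) ∈ Y := by
      rw [wordU_append]
      by_cases hp2 : p.2 = 0
      · have : x = 1 := by rw [hx, hp2, xU_zero]
        rw [this, mul_one] at hwY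
        exact hwY
      · have hxY : x ∈ Y := hlead hp2 p.2
        have hBU : B⁻¹ ∈ D.posUnipotent F :=
          Subgroup.inv_mem _ (X.Uge_le_pos (by omega) hBm)
        have h1 := hY.uni B⁻¹ hBU x⁻¹ (Subgroup.inv_mem _ hxY)
        have e : A * B = (A * x * B) * (B⁻¹ * x⁻¹ * B⁻¹⁻¹) := by group
        rw [e]
        exact Subgroup.mul_mem _ hwY h1
    have hlen' : (w1 ++ w2).length = n := by
      simp only [List.length_append, List.length_cons] at hlen ⊢
      omega
    have hnd2 : ((w1 ++ w2).map Prod.fst).Nodup := by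
      rw [List.map_append]
      have h1 := List.nodup_append.1 hnd'
      refine List.nodup_append.2 ⟨h1.1, (List.nodup_cons.1 h1.2.1).2, ?_⟩
      intro a ha b hb
      exact h1.2.2 a ha b (List.mem_cons_of_mem _ hb)
    have hbd2 : ∀ q ∈ w1 ++ w2, D.nroots / 2 ≤ q.1 ∧ q.1 < D.nroots := by
      intro q hq
      rcases List.mem_append.1 hq with hq | hq
      · exact hbd q (List.mem_append_left _ hq)
      · exact hbd q (List.mem_append_right _ (List.mem_cons_of_mem _ hq))
    have hL2 : ∀ q ∈ w1 ++ w2, Lead X.L.Δ.hB Y q.1 := by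
      intro q hq
      rcases List.mem_append.1 hq with hq | hq
      · exact hL q (List.mem_append_left _ hq)
      · exact hL q (List.mem_append_right _ (List.mem_cons_of_mem _ hq))
    have hrest := ih (w1 ++ w2) hlen' hnd2 hbd2 hL2 hAB
    intro q hq hq2
    rcases List.mem_append.1 hq with hq1 | hq1
    · exact hrest q (List.mem_append_left _ hq1) hq2
    · rcases List.mem_cons.1 hq1 with rfl | hq1
      · exact hlead hq2
      · exact hrest q (List.mem_append_right _ hq1) hq2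

/-- separation by a root element of `U` when the commutator has a single term -/
theorem peel_of_comm {r k b : ℕ} (hr : D.nroots / 2 ≤ r) (hr' : r < D.nroots)
    (hb : D.nroots / 2 ≤ b) (hb' : b < D.nroots) (hbr : b ≠ r) (hrk : r < k) (hk : k < D.nroots)
    {κ : F} (hκ : κ ≠ 0) (hW : ∀ t w : F, D.commWord F r b t w = [(k, κ * t * w)]) :
    Peel X.L.Δ.hB Y r k := by
  intro t ht y hy hxY
  have hkN : D.nroots / 2 ≤ k := by omega
  obtain ⟨u, y', hy', rfl⟩ := X.exists_mul hkN hy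
  set w : F := -u / (κ * t) with hw
  have hκt : κ * t ≠ 0 := mul_ne_zero hκ ht
  set v := xU X.L.Δ.hB b w with hv
  have hvU : v ∈ D.posUnipotent F := X.xU_pos_mem' hb hb' w
  have hne2 : b ≠ D.neg r := by have := X.hneg r hr' hr; omega
  have hcomm := X.L.Δ.hC r hr' b hb' hbr hne2 t w
  rw [hW] at hcomm
  -- `v x_r(t) v⁻¹ = x_r(t) x_k(κ t w) z₁`
  have e1 : v * xU X.L.Δ.hB r t = xU X.L.Δ.hB r t * v * xU X.L.Δ.hB k (κ * t * w) := by
    apply Units.ext
    simp only [Units.val_mul, xU_val, hv]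
    rw [hcomm]
    simp [ChevalleyDatum.wordMat]
  have hz1 := X.conj_mod hkN hk hvU (κ * t * w)
  have hz2 := X.conj_mod hkN hk hvU u
  set z1 := (xU X.L.Δ.hB k (κ * t * w))⁻¹ * (v * xU X.L.Δ.hB k (κ * t * w) * v⁻¹) with hz1d
  set z2 := (xU X.L.Δ.hB k u)⁻¹ * (v * xU X.L.Δ.hB k u * v⁻¹) with hz2d
  set y'' := v * y' * v⁻¹ with hy''
  have hy''m : y'' ∈ Uge D F (k + 1) := X.Uge_conj (by omega) hvU hy'
  have hxk : xU X.L.Δ.hB k u ∈ D.posUnipotent F := X.xU_pos_mem' hkN hk u
  set z := ((xU X.L.Δ.hB k u)⁻¹ * z1 * xU X.L.Δ.hB k u) * z2 * y'' with hz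
  have hzm : z ∈ Uge D F (k + 1) :=
    Subgroup.mul_mem _ (Subgroup.mul_mem _ (X.Uge_conj' (by omega) hxk hz1) hz2) hy''m
  refine ⟨t, ht, z, hzm, ?_⟩
  have hsum : κ * t * w + u = 0 := by
    rw [hw]
    field_simp
    ring
  have e2 : xU X.L.Δ.hB k (κ * t * w) * xU X.L.Δ.hB k u = 1 := by
    rw [xU_mul, hsum, xU_zero]
  have e3 : xU X.L.Δ.hB r t * z =
      v * (xU X.L.Δ.hB r t * (xU X.L.Δ.hB k u * y')) * v⁻¹ := by
    have e4 : v * (xU X.L.Δ.hB r t * (xU X.L.Δ.hB k u * y')) * v⁻¹ =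
        (v * xU X.L.Δ.hB r t) * v⁻¹ * (v * xU X.L.Δ.hB k u * v⁻¹) * (v * y' * v⁻¹) := by group
    rw [e4, e1, hz, hz1d, hz2d, hy'']
    have e5 : xU X.L.Δ.hB r t * v * xU X.L.Δ.hB k (κ * t * w) * v⁻¹ *
        (v * xU X.L.Δ.hB k u * v⁻¹) * (v * y' * v⁻¹) =
        xU X.L.Δ.hB r t * (xU X.L.Δ.hB k (κ * t * w) * xU X.L.Δ.hB k u) *
        ((xU X.L.Δ.hB k u)⁻¹ * ((xU X.L.Δ.hB k (κ * t * w))⁻¹ *
          (v * xU X.L.Δ.hB k (κ * t * w) * v⁻¹)) * xU X.L.Δ.hB k u *
          ((xU X.L.Δ.hB k u)⁻¹ * (v * xU X.L.Δ.hB k u * v⁻¹)) * (v * y' * v⁻¹)) := by group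
    rw [e5, e2, mul_one]
  rw [e3]
  exact hY.uni v hvU _ hxY

/-- generation: the root subgroups of the positive roots outside `Φ_J` lie in `Y` as soon as
those of the fundamental roots outside `J` do -/
theorem rootIn_of_gen (hL : ∀ r, D.nroots / 2 ≤ r → r < D.nroots → Lead X.L.Δ.hB Y r)
    {W : List (ℕ × ℕ)}
    (hG : genChk D W = true) (J : Set ℕ)
    (hsimple : ∀ i < D.rank, i ∉ J → RootIn X.L.Δ.hB Y (D.simple i)) :
    ∀ r, D.nroots / 2 ≤ r → r < D.nroots → ¬ D.InRootSub J r → RootIn X.L.Δ.hB Y r := by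
  intro r
  induction r using Nat.strong_induction_on with
  | _ r ih =>
    intro hr hr' hnin
    rcases genChk_spec X.L.Δ.hF hG hr hr' with ⟨i, hi, rfl⟩ | ⟨r1, b, h1, h2, h3, h4, h5, hnd, hbd,
      ⟨c, hc, hcr, hcu⟩, hsupp⟩
    · apply hsimple i hi
      intro hiJ
      apply hnin
      refine ⟨hr', fun k hk hkJ => ?_⟩
      have := (X.L.Δ.hAll i hi).hE.1 k hk
      unfold corootC at this
      rw [this, if_neg]
      intro e
      exact hkJ (e ▸ hiJ)
    · -- a coordinate outside `J`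
      have hex : ∃ k, k < D.rank ∧ k ∉ J ∧ corootC D r k ≠ 0 := by
        by_contra hcon
        push Not at hcon
        exact hnin ⟨hr', fun k hk hkJ => hcon k hk hkJ⟩
      obtain ⟨k, hk, hkJ, hne⟩ := hex
      have hr1' : r1 < D.nroots := by omega
      have hb' : b < D.nroots := by omega
      have hne2 : b ≠ D.neg r1 := by have := X.hneg r1 hr1' h1; omega
      have hcomm := X.L.Δ.hC r1 hr1' b hb' h5 hne2 (-1) 1
      -- the commutator word as a group element
      have hword : wordU X.L.Δ.hB (D.commWord F r1 b (-1) 1) =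
          (xU X.L.Δ.hB b 1)⁻¹ * (xU X.L.Δ.hB r1 (-1))⁻¹ * xU X.L.Δ.hB b 1 *
            xU X.L.Δ.hB r1 (-1) := by
        have e : xU X.L.Δ.hB b 1 * xU X.L.Δ.hB r1 (-1) =
            xU X.L.Δ.hB r1 (-1) * xU X.L.Δ.hB b 1 *
              wordU X.L.Δ.hB (D.commWord F r1 b (-1) 1) := by
          apply Units.ext
          simp only [Units.val_mul, xU_val, wordU_val]
          exact hcomm
        have e' : wordU X.L.Δ.hB (D.commWord F r1 b (-1) 1) =
            (xU X.L.Δ.hB r1 (-1) * xU X.L.Δ.hB b 1)⁻¹ *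
              (xU X.L.Δ.hB b 1 * xU X.L.Δ.hB r1 (-1)) := by
          rw [e]; group
        rw [e']; group
      have hbU : xU X.L.Δ.hB b (1 : F) ∈ D.posUnipotent F := X.xU_pos_mem' h3 hb' 1
      have hr1U : xU X.L.Δ.hB r1 (-1 : F) ∈ D.posUnipotent F := X.xU_pos_mem' h1 hr1' (-1)
      have hwY : wordU X.L.Δ.hB (D.commWord F r1 b (-1) 1) ∈ Y := by
        rw [hword]
        by_cases e1 : corootC D r1 k = 0
        · have e2 : corootC D b k ≠ 0 := fun e2 => hne (hsupp k hk e1 e2)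
          have hbin : RootIn X.L.Δ.hB Y b :=
            ih b h4 h3 hb' (X.not_inRootSub hk hkJ e2)
          have hm := hY.uni _ (Subgroup.inv_mem _ hr1U) _ (hbin 1)
          rw [inv_inv] at hm
          have e3 : (xU X.L.Δ.hB b (1 : F))⁻¹ * (xU X.L.Δ.hB r1 (-1 : F))⁻¹ *
              xU X.L.Δ.hB b (1 : F) * xU X.L.Δ.hB r1 (-1 : F) = (xU X.L.Δ.hB b (1 : F))⁻¹ *
              ((xU X.L.Δ.hB r1 (-1 : F))⁻¹ * xU X.L.Δ.hB b (1 : F) *
                xU X.L.Δ.hB r1 (-1 : F)) := by group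
          rw [e3]
          exact Subgroup.mul_mem _ (Subgroup.inv_mem _ (hbin 1)) hm
        · have hrin : RootIn X.L.Δ.hB Y r1 :=
            ih r1 h2 h1 hr1' (X.not_inRootSub hk hkJ e1)
          have hm := hY.uni _ (Subgroup.inv_mem _ hbU) _ (Subgroup.inv_mem _ (hrin (-1)))
          rw [inv_inv] at hm
          exact Subgroup.mul_mem _ hm (hrin (-1))
      -- apply the word lemma
      have hmapfst : (D.commWord F r1 b (-1) 1).map Prod.fst =
          (D.commTerms r1 b).map fun c => c.1 := by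
        unfold ChevalleyDatum.commWord
        rw [List.map_map]
        rfl
      have hbd' : ∀ p ∈ D.commWord F r1 b (-1) 1, D.nroots / 2 ≤ p.1 ∧ p.1 < D.nroots := by
        intro p hp
        unfold ChevalleyDatum.commWord at hp
        rw [List.mem_map] at hp
        obtain ⟨c', hc', rfl⟩ := hp
        exact hbd c' hc'
      have hQ := X.rootIn_of_word hY _ (D.commWord F r1 b (-1) 1) rfl
        (by rw [hmapfst]; exact hnd) hbd'
        (fun p hp => hL p.1 (hbd' p hp).1 (hbd' p hp).2) hwY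
      have hmem : ((c.1, (c.2.1 : F) * (-(-1 : F)) ^ c.2.2.1 * (1 : F) ^ c.2.2.2) : ℕ × F) ∈
          D.commWord F r1 b (-1) 1 := by
        unfold ChevalleyDatum.commWord
        exact List.mem_map_of_mem hc
      have hcoef : (c.2.1 : F) * (-(-1 : F)) ^ c.2.2.1 * (1 : F) ^ c.2.2.2 ≠ 0 := by
        rw [neg_neg, one_pow, one_pow, mul_one, mul_one]
        rcases hcu with h | h
        · rw [h]; simp
        · rw [h]; simp
      have := hQ _ hmem hcoef
      rw [hcr] at this
      exact this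

end Cfsg.Agent.Helper12.ParCent.CData
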