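import Mathlib
import Cfsg.Agent.Helper11.TwFix
import Cfsg.Agent.Helper12.WClC

set_option autoImplicit false
set_option linter.unusedSectionVars false
set_option linter.unusedSimpArgs false
set_option linter.unusedVariables false

/-!
# The separation and irreducibility table checks
-/

namespace Cfsg.Agent.Helper12.WCl

open Cfsg.Lie Cfsg.Agent.Helper6 Cfsg.Agent.Helper2.Levi Cfsg.Agent.Helper12.ParCent

variable {D : ChevalleyDatum} {F : Type*} [Field F]

/-- fast version of `aOf` -/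
def aF (D : ChevalleyDatum) (c u : ℕ) : ℤ := sumLt D.rank fun j => corootC D c j * cartanF D j u

theorem aF_eq (hF : FastOK D) (c u : ℕ) : aF D c u = aOf D c u := by
  unfold aF aOf
  rw [sumLt_eq, cartanF_eq hF.chk]

/-- the witness of the pair `(r, k)` -/
def sepWit (D : ChevalleyDatum) (W : List (List ℕ)) (r k : ℕ) : ℕ :=
  (W.getD (r - D.nroots / 2) []).getD (k - r - 1) 0

/-- separation table check: for positive roots `r < k` outside the exception list the witness
coroot `c` has `⟨k, c⟩ = 0` and `0 < |⟨r, c⟩| ≤ bound` -/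
def sepChk (D : ChevalleyDatum) (bound : ℕ) (W : List (List ℕ)) (E : List (ℕ × ℕ)) : Bool :=
  allLt D.nroots fun r => Nat.blt r (D.nroots / 2) || allLt D.nroots fun k => Nat.ble k r ||
    decide ((r, k) ∈ E) ||
    (Nat.blt (sepWit D W r k) D.nroots && decide (aF D (sepWit D W r k) k = 0) &&
      !(decide (aF D (sepWit D W r k) r = 0)) &&
      Nat.ble (aF D (sepWit D W r k) r).natAbs bound)

theorem sepChk_spec (hF : FastOK D) {bound : ℕ} {W : List (List ℕ)} {E : List (ℕ × ℕ)}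
    (h : sepChk D bound W E = true) {r k : ℕ} (hr : D.nroots / 2 ≤ r) (hrk : r < k)
    (hk : k < D.nroots) (hE : (r, k) ∉ E) :
    ∃ c < D.nroots, aOf D c k = 0 ∧ aOf D c r ≠ 0 ∧ (aOf D c r).natAbs ≤ bound := by
  simp only [sepChk, allLt_iff, Bool.or_eq_true, Bool.and_eq_true, Nat.blt_eq, Nat.ble_eq,
    Bool.not_eq_true', decide_eq_true_eq, decide_eq_false_iff_not] at h
  rcases h r (by omega) with h1 | h1
  · omega
  · rcases h1 k hk with (h2 | h2) | h2
    · omega
    · exact absurd h2 hE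
    · obtain ⟨⟨⟨h3, h4⟩, h5⟩, h6⟩ := h2
      rw [aF_eq hF] at h4 h5 h6
      exact ⟨_, h3, h4, h5, h6⟩

/-- irreducibility table check: the witness coroot pairs to `±1` (or `±2` if `sq`) with `r` -/
def irrChk (D : ChevalleyDatum) (sq : Bool) (W : List ℕ) : Bool :=
  allLt D.nroots fun r => Nat.blt r (D.nroots / 2) ||
    (Nat.blt (W.getD (r - D.nroots / 2) 0) D.nroots &&
      (decide ((aF D (W.getD (r - D.nroots / 2) 0) r).natAbs = 1) ||
        (sq && decide ((aF D (W.getD (r - D.nroots / 2) 0) r).natAbs = 2))))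

theorem irrChk_spec (hF : FastOK D) {sq : Bool} {W : List ℕ} (h : irrChk D sq W = true) {r : ℕ}
    (hr : D.nroots / 2 ≤ r) (hr' : r < D.nroots) :
    ∃ c < D.nroots, (aOf D c r = 1 ∨ aOf D c r = -1) ∨ (aOf D c r = 2 ∨ aOf D c r = -2) := by
  simp only [irrChk, allLt_iff, Bool.or_eq_true, Bool.and_eq_true, Nat.blt_eq,
    decide_eq_true_eq] at h
  rcases h r hr' with h1 | ⟨h1, h2⟩
  · omega
  · rw [aF_eq hF] at h2
    refine ⟨_, h1, ?_⟩
    rcases h2 with h2 | ⟨-, h2⟩
    · left
      rcases Int.natAbs_eq (aOf D (W.getD (r - D.nroots / 2) 0) r) with h3 | h3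
      · left; rw [h3, h2]; rfl
      · right; rw [h3, h2]; rfl
    · right
      rcases Int.natAbs_eq (aOf D (W.getD (r - D.nroots / 2) 0) r) with h3 | h3
      · left; rw [h3, h2]; rfl
      · right; rw [h3, h2]; rfl

end Cfsg.Agent.Helper12.WCl

namespace Cfsg.Agent.Helper12.ParCent.CData

open Cfsg.Lie Cfsg.Agent.Helper6 Cfsg.Agent.Helper2.Levi Cfsg.Agent.Helper12.ParCent
  Cfsg.Agent.Helper12.WCl

variable {D : ChevalleyDatum} {F : Type*} [Field F] [Fintype F]

variable {C : List (List ℤ)} (X : CData D F C)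
  {Y : Subgroup (GL D.Idx F)} (hY : Inv D F Y)
include X hY

/-- torus separation from the table check -/
theorem peel_of_chk {bound : ℕ} {W : List (List ℕ)} {E : List (ℕ × ℕ)}
    (h : sepChk D bound W E = true) (hq : bound + 1 < Fintype.card F) {r k : ℕ}
    (hr : D.nroots / 2 ≤ r) (hrk : r < k) (hk : k < D.nroots) (hE : (r, k) ∉ E) :
    Peel X.L.Δ.hB Y r k := by
  obtain ⟨c, hc, h0, h1, h2⟩ := sepChk_spec X.L.Δ.hF h hr hrk hk hE
  obtain ⟨τ, hτ, hτa⟩ := exists_zpow_ne_one (F := F) h1 (by omega)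
  exact X.peel_of_wit hY hr hrk hk hc h0 hτ hτa

/-- irreducibility from the table check -/
theorem irr_of_chk {sq : Bool} {W : List ℕ} (h : irrChk D sq W = true) {r : ℕ}
    (hr : D.nroots / 2 ≤ r) (hr' : r < D.nroots) {t' : F} (ht' : t' ≠ 0)
    (hx : xU X.L.Δ.hB r t' ∈ Y) : RootIn X.L.Δ.hB Y r := by
  obtain ⟨c, hc, ha | ha⟩ := irrChk_spec X.L.Δ.hF h hr hr'
  · exact X.rootIn_of_unit hY hr' hc ha ht' hx
  · exact X.rootIn_of_sq hY hr' hc ha ht' hx

/-- the leading root element, from the table checks without exceptions -/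
theorem lead_of_chk {bound : ℕ} {W : List (List ℕ)} {E : List (ℕ × ℕ)}
    (h : sepChk D bound W E = true) (hq : bound + 1 < Fintype.card F) {sq : Bool} {W' : List ℕ}
    (h' : irrChk D sq W' = true) {r : ℕ} (hr : D.nroots / 2 ≤ r) (hr' : r < D.nroots)
    (hE : ∀ k, (r, k) ∉ E) : Lead X.L.Δ.hB Y r :=
  X.lead_of_peel hY hr hr' (fun k hrk hk => X.peel_of_chk hY h hq hr hrk hk (hE k))
    (fun t' ht' hx => X.irr_of_chk hY h' hr hr' ht' hx)

end Cfsg.Agent.Helper12.ParCent.CData
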