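import Mathlib
import Cfsg.Agent.Helper11.ChevOrbit
import Cfsg.Agent.Helper12.WClD

set_option autoImplicit false
set_option linter.unusedSectionVars false
set_option linter.unusedSimpArgs false
set_option linter.unusedVariables false

/-!
# Two-generation of the tabulated Chevalley groups: products of fundamental `n`'s and root closure

`nL hB L` is the product of the elements `n_{p_i}(1)`, `i ∈ L`; it acts on the root subgroups by the
product `wL D L` of the fundamental reflections.  `runC` is a checker for root-closure certificates: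
starting from a set of roots `K` closed under `wL D L`, a step `(r, s, x, c)` adds the orbit of `x`
when `r, s ∈ K` and `[x_r, x_s] = x_x(± c t u)` with `c` invertible in the field.
-/

namespace Cfsg.Agent.Helper12.TwoGen

open Cfsg Cfsg.Lie Cfsg.Agent.Helper6 Cfsg.Agent.Helper12.WCl Cfsg.Agent.Helper11.ChevOrbit

variable {D : ChevalleyDatum} {F : Type*} [Field F]

/-- the product of the `n_{p_i}(1)`, `i ∈ L` -/
noncomputable def nL (hB : BasicOK D) (L : List ℕ) : GL D.Idx F :=
  (L.map fun i => nU hB (D.simple i) (one_ne_zero (α := F))).prod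

/-- the product of the fundamental reflections `w_{p_i}`, `i ∈ L`, on root indices -/
def wL (D : ChevalleyDatum) (L : List ℕ) (r : ℕ) : ℕ := L.foldr (fun i s => wR D (D.simple i) s) r

/-- fast version of `wL` -/
def wLF (D : ChevalleyDatum) (L : List ℕ) (r : ℕ) : ℕ := L.foldr (fun i s => wD D i s) r

theorem nL_nil (hB : BasicOK D) : nL (F := F) hB [] = 1 := rfl

theorem nL_cons (hB : BasicOK D) (i : ℕ) (L : List ℕ) :
    nL (F := F) hB (i :: L) = nU hB (D.simple i) (one_ne_zero (α := F)) * nL hB L := by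
  unfold nL
  rw [List.map_cons, List.prod_cons]

theorem wL_cons (i : ℕ) (L : List ℕ) (r : ℕ) : wL D (i :: L) r = wR D (D.simple i) (wL D L r) := rfl

theorem wLF_cons (i : ℕ) (L : List ℕ) (r : ℕ) : wLF D (i :: L) r = wD D i (wLF D L r) := rfl

section delta

variable (Δ : BNData D F)
include Δ

theorem wL_lt : ∀ (L : List ℕ), (∀ i ∈ L, i < D.rank) → ∀ {r : ℕ}, r < D.nroots →
    wL D L r < D.nroots := by
  intro L
  induction L with
  | nil => intro _ r hr; exact hr
  | cons i L ih =>
    intro hL r hr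
    rw [wL_cons]
    have hi := hL i List.mem_cons_self
    exact wR_lt Δ.hB (Δ.hAll i hi).hS.1 (Δ.hAll i hi).hR
      (ih (fun j hj => hL j (List.mem_cons_of_mem _ hj)) hr)

theorem wLF_eq : ∀ (L : List ℕ), (∀ i ∈ L, i < D.rank) → ∀ {r : ℕ}, r < D.nroots →
    wLF D L r = wL D L r := by
  intro L
  induction L with
  | nil => intro _ r _; rfl
  | cons i L ih =>
    intro hL r hr
    have hi := hL i List.mem_cons_self
    have hL' : ∀ j ∈ L, j < D.rank := fun j hj => hL j (List.mem_cons_of_mem _ hj)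
    rw [wLF_cons, wL_cons, ih hL' hr]
    exact wD_eq Δ.hF Δ.hn (fun s hs => wR_lt Δ.hB (Δ.hAll i hi).hS.1 (Δ.hAll i hi).hR hs)
      (wL_lt Δ L hL' hr)

theorem nL_mem_monomial : ∀ (L : List ℕ), (∀ i ∈ L, i < D.rank) →
    nL (F := F) Δ.hB L ∈ D.monomialSubgroup F := by
  intro L
  induction L with
  | nil => intro _; rw [nL_nil]; exact Subgroup.one_mem _
  | cons i L ih =>
    intro hL
    rw [nL_cons]
    have hi := hL i List.mem_cons_self
    exact Subgroup.mul_mem _ (nU_one_mem_monomial Δ.hB (Δ.hAll i hi).hS.1)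
      (ih (fun j hj => hL j (List.mem_cons_of_mem _ hj)))

theorem nL_mem_group (L : List ℕ) (hL : ∀ i ∈ L, i < D.rank) :
    nL (F := F) Δ.hB L ∈ D.group F :=
  monomialSubgroup_le_group Δ.hB (nL_mem_monomial Δ L hL)

theorem nL_mem_normalizer (L : List ℕ) (hL : ∀ i ∈ L, i < D.rank) :
    nL (F := F) Δ.hB L ∈ Subgroup.normalizer (D.diagonalSubgroup F : Set (GL D.Idx F)) :=
  monomial_le_normalizer Δ.hB Δ.hAll Δ.hH Δ.hReach (nL_mem_monomial Δ L hL)

/-- conjugation of a root element by `nL` -/
theorem nL_conj : ∀ (L : List ℕ), (∀ i ∈ L, i < D.rank) → ∀ {r : ℕ}, r < D.nroots →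
    ∃ η : F, η * η = 1 ∧ ∀ t : F,
      nL Δ.hB L * xU Δ.hB r t * (nL Δ.hB L)⁻¹ = xU Δ.hB (wL D L r) (η * t) := by
  intro L
  induction L with
  | nil =>
    intro _ r _
    refine ⟨1, one_mul 1, fun t => ?_⟩
    rw [nL_nil, one_mul, inv_one, mul_one, one_mul]
    rfl
  | cons i L ih =>
    intro hL r hr
    have hi := hL i List.mem_cons_self
    have hL' : ∀ j ∈ L, j < D.rank := fun j hj => hL j (List.mem_cons_of_mem _ hj)
    obtain ⟨η, hη, hc⟩ := ih hL' hr
    have hw := wL_lt Δ L hL' hr
    have hA := Δ.hAll i hi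
    have hε := (hA.hE.2 (wL D L r) hw).1
    refine ⟨((etaR D (D.simple i) (wL D L r) : ℤ) : F) * η, ?_, fun t => ?_⟩
    · have : ((etaR D (D.simple i) (wL D L r) : ℤ) : F) * ((etaR D (D.simple i) (wL D L r) : ℤ) : F)
          = 1 := by
        rcases hε with h1 | h1 <;> rw [h1] <;> simp
      calc ((etaR D (D.simple i) (wL D L r) : ℤ) : F) * η *
            (((etaR D (D.simple i) (wL D L r) : ℤ) : F) * η)
          = (((etaR D (D.simple i) (wL D L r) : ℤ) : F) *
              ((etaR D (D.simple i) (wL D L r) : ℤ) : F)) * (η * η) := by ring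
        _ = 1 := by rw [this, hη, one_mul]
    · rw [nL_cons, wL_cons, mul_inv_rev]
      have e : nU Δ.hB (D.simple i) (one_ne_zero (α := F)) * nL Δ.hB L * xU Δ.hB r t *
          ((nL Δ.hB L)⁻¹ * (nU Δ.hB (D.simple i) (one_ne_zero (α := F)))⁻¹) =
          nU Δ.hB (D.simple i) (one_ne_zero (α := F)) *
            (nL Δ.hB L * xU Δ.hB r t * (nL Δ.hB L)⁻¹) *
            (nU Δ.hB (D.simple i) (one_ne_zero (α := F)))⁻¹ := by group
      rw [e, hc t, nU_conj_xU Δ.hB hA hw, mul_assoc]

end delta

end Cfsg.Agent.Helper12.TwoGen
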