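import Mathlib
import Cfsg.Agent.Helper12.TwoGenA

set_option autoImplicit false
set_option linter.unusedSectionVars false
set_option linter.unusedSimpArgs false
set_option linter.unusedVariables false

/-!
# Root-closure certificates
-/

namespace Cfsg.Agent.Helper12.TwoGen

open Cfsg Cfsg.Lie Cfsg.Agent.Helper6 Cfsg.Agent.Helper12.WCl Cfsg.Agent.Helper11.ChevOrbit

variable {D : ChevalleyDatum} {F : Type*} [Field F]

/-- membership test -/
def memL (x : ℕ) : List ℕ → Bool
  | [] => false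
  | y :: K => Nat.beq x y || memL x K

theorem memL_iff {x : ℕ} {K : List ℕ} : memL x K = true ↔ x ∈ K := by
  induction K with
  | nil => simp [memL]
  | cons y K ih => simp [memL, ih]

/-- the list `[x, w x, …, w^{k-1} x]` -/
def orbL (D : ChevalleyDatum) (L : List ℕ) : ℕ → ℕ → List ℕ
  | 0, _ => []
  | k + 1, x => x :: orbL D L k (wLF D L x)

/-- `w^k x` -/
def iterW (D : ChevalleyDatum) (L : List ℕ) : ℕ → ℕ → ℕ
  | 0, x => x
  | k + 1, x => iterW D L k (wLF D L x)

/-- admissible coefficients -/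
def okC (ok2 ok3 : Bool) (c : ℤ) : Bool :=
  decide (c = 1) || decide (c = -1) || (ok2 && (decide (c = 2) || decide (c = -2))) ||
    (ok3 && (decide (c = 3) || decide (c = -3)))

/-- the test of one commutator step -/
def stepOK (D : ChevalleyDatum) (ok2 ok3 : Bool) (K : List ℕ) (r s x : ℕ) (c : ℤ) : Bool :=
  memL r K && memL s K && Nat.blt r D.nroots && Nat.blt s D.nroots && Nat.blt x D.nroots &&
    okC ok2 ok3 c && !(Nat.beq s r) && !(Nat.beq s (negF D r)) &&
    decide (commTermsG (ceF D) r s = [(x, c, 1, 1)])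

/-- run a closure certificate -/
def runC (D : ChevalleyDatum) (L : List ℕ) (cox : ℕ) (ok2 ok3 : Bool) :
    List (ℕ × ℕ × ℕ × ℤ) → List ℕ → List ℕ
  | [], K => K
  | p :: rest, K =>
    bif stepOK D ok2 ok3 K p.1 p.2.1 p.2.2.1 p.2.2.2 then
      runC D L cox ok2 ok3 rest (orbL D L cox p.2.2.1 ++ K)
    else runC D L cox ok2 ok3 rest K

/-- every root is in the list -/
def coverChk (D : ChevalleyDatum) (K : List ℕ) : Bool := allLt D.nroots fun r => memL r K

section delta

variable (Δ : BNData D F) {Y : Subgroup (GL D.Idx F)}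
include Δ

/-- the set of roots whose root subgroups lie in `Y` is stable under `wL` when `nL ∈ Y` -/
theorem rootIn_wL {L : List ℕ} (hL : ∀ i ∈ L, i < D.rank) (hn : nL Δ.hB L ∈ Y) {r : ℕ}
    (hr : r < D.nroots) (h : RootIn Δ.hB Y r) : RootIn Δ.hB Y (wL D L r) := by
  obtain ⟨η, hη, hc⟩ := nL_conj Δ L hL hr
  intro v
  have := hc (η * v)
  rw [← mul_assoc, hη, one_mul] at this
  rw [← this]
  exact Subgroup.mul_mem _ (Subgroup.mul_mem _ hn (h _)) (Subgroup.inv_mem _ hn)

theorem rootIn_orbL {L : List ℕ} (hL : ∀ i ∈ L, i < D.rank) (hn : nL Δ.hB L ∈ Y) :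
    ∀ (k : ℕ) {x : ℕ}, x < D.nroots → RootIn Δ.hB Y x →
      ∀ r ∈ orbL D L k x, r < D.nroots ∧ RootIn Δ.hB Y r := by
  intro k
  induction k with
  | zero => intro x _ _ r hr; simp [orbL] at hr
  | succ k ih =>
    intro x hx h r hr
    simp only [orbL, List.mem_cons] at hr
    rcases hr with rfl | hr
    · exact ⟨hx, h⟩
    · rw [wLF_eq Δ L hL hx] at hr
      exact ih (wL_lt Δ L hL hx) (rootIn_wL Δ hL hn hx h) r hr

theorem okC_ne_zero {ok2 ok3 : Bool} (h2 : ok2 = true → (2 : F) ≠ 0) (h3 : ok3 = true → (3 : F) ≠ 0)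
    {c : ℤ} (hc : okC ok2 ok3 c = true) : ((c : ℤ) : F) ≠ 0 := by
  simp only [okC, Bool.or_eq_true, Bool.and_eq_true, decide_eq_true_eq] at hc
  rcases hc with ((rfl | rfl) | ⟨h, rfl | rfl⟩) | ⟨h, rfl | rfl⟩
  · simp
  · simp
  · simpa using h2 h
  · simpa using h2 h
  · simpa using h3 h
  · simpa using h3 h

theorem rootIn_runC {L : List ℕ} (hL : ∀ i ∈ L, i < D.rank) (hn : nL Δ.hB L ∈ Y) (cox : ℕ)
    {ok2 ok3 : Bool} (h2 : ok2 = true → (2 : F) ≠ 0) (h3 : ok3 = true → (3 : F) ≠ 0) :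
    ∀ (steps : List (ℕ × ℕ × ℕ × ℤ)) (K : List ℕ),
      (∀ r ∈ K, r < D.nroots ∧ RootIn Δ.hB Y r) →
      ∀ r ∈ runC D L cox ok2 ok3 steps K, r < D.nroots ∧ RootIn Δ.hB Y r := by
  intro steps
  induction steps with
  | nil => intro K hK r hr; exact hK r hr
  | cons p rest ih =>
    intro K hK
    unfold runC
    cases hs : stepOK D ok2 ok3 K p.1 p.2.1 p.2.2.1 p.2.2.2 with
    | false => rw [cond_false]; exact ih K hK
    | true =>
      rw [cond_true]
      apply ih
      simp only [stepOK, Bool.and_eq_true, memL_iff, Nat.blt_eq, Bool.not_eq_true',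
        decide_eq_true_eq] at hs
      obtain ⟨⟨⟨⟨⟨⟨⟨⟨h1, h2'⟩, h3'⟩, h4⟩, h5⟩, h6⟩, h7⟩, h8⟩, h9⟩ := hs
      have h7' : p.2.1 ≠ p.1 := fun e => by rw [e] at h7; simp at h7
      have h8' : p.2.1 ≠ D.neg p.1 := fun e => by
        rw [← negF_eq Δ.hF.chk] at e
        rw [e] at h8; simp at h8
      rw [ceF_eq Δ.hF.keys Δ.hF.chk, commTermsG_eq] at h9
      have hx : RootIn Δ.hB Y p.2.2.1 :=
        xU_mem_of_commF Δ.hB (okC_ne_zero Δ h2 h3 h6) (Δ.hC p.1 h3' p.2.1 h4 h7' h8') h9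
          (hK p.1 h1).2 (hK p.2.1 h2').2
      intro r hr
      rcases List.mem_append.1 hr with hr | hr
      · exact rootIn_orbL Δ hL hn cox h5 hx r hr
      · exact hK r hr

/-- a covering list gives the whole group -/
theorem group_le_of_coverChk {K : List ℕ} (hK : ∀ r ∈ K, r < D.nroots ∧ RootIn Δ.hB Y r)
    (h : coverChk D K = true) : D.group F ≤ Y := by
  simp only [coverChk, allLt_iff, memL_iff] at h
  exact group_le_of_cover Δ.hB (fun r hr t => (hK r (h r hr)).2 t)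

end delta

end Cfsg.Agent.Helper12.TwoGen
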