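import Mathlib
import Cfsg.Agent.Helper11.ChevSylow
import Cfsg.Agent.Helper12.TwoGenB

set_option autoImplicit false
set_option linter.unusedSectionVars false
set_option linter.unusedSimpArgs false
set_option linter.unusedVariables false

/-!
# Two generators over a field with more than two elements

`A = h_c(ζ) x_a(1)` (or `h_c(ζ)`), `B = x_b(1) n_w`: Steinberg's double commutator
`[h, [h, B]]` is a non-trivial element of `X_b`.
-/

namespace Cfsg.Agent.Helper12.TwoGen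

open Cfsg Cfsg.Lie Cfsg.Agent.Helper6 Cfsg.Agent.Helper12.WCl Cfsg.Agent.Helper11.ChevOrbit

section abstract

variable {G : Type*} [Group G] {K : Type*} [Field K]

/-- Steinberg's double commutator -/
theorem double_comm (X : K → G) (hX : ∀ t u, X t * X u = X (t + u)) (h n : G) (β γ : K)
    (hh : ∀ t, h * X t * h⁻¹ = X (β * t))
    (hg : ∀ t, (h * n * h⁻¹ * n⁻¹) * X t * (h * n * h⁻¹ * n⁻¹)⁻¹ = X (γ * t))
    (hc : h * (h * n * h⁻¹ * n⁻¹) = (h * n * h⁻¹ * n⁻¹) * h) :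
    h * (h * (X 1 * n) * h⁻¹ * (X 1 * n)⁻¹) * h⁻¹ * (h * (X 1 * n) * h⁻¹ * (X 1 * n)⁻¹)⁻¹ =
      X ((β - 1) * (β - γ)) := by
  have hX0 : X 0 = 1 := by
    have := hX 0 0
    rw [add_zero] at this
    exact mul_eq_left.1 this
  have hXinv : ∀ t, (X t)⁻¹ = X (-t) := by
    intro t
    rw [inv_eq_iff_mul_eq_one, hX, add_neg_cancel, hX0]
  set g := h * n * h⁻¹ * n⁻¹ with hgdef
  have e1 : h * (X 1 * n) * h⁻¹ * (X 1 * n)⁻¹ = (h * X 1 * h⁻¹) * g * (X 1)⁻¹ := by
    rw [hgdef]; group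
  have e2 : g * X (-1) = X (γ * -1) * g := by
    rw [← hg (-1)]; group
  have hz : h * (X 1 * n) * h⁻¹ * (X 1 * n)⁻¹ = X (β - γ) * g := by
    rw [e1, hh 1, hXinv, mul_assoc, e2, ← mul_assoc, hX]
    congr 2
    ring
  rw [hz]
  have e3 : h * (X (β - γ) * g) * h⁻¹ * (X (β - γ) * g)⁻¹ =
      (h * X (β - γ) * h⁻¹) * (h * g * h⁻¹ * g⁻¹) * (X (β - γ))⁻¹ := by group
  have e4 : h * g * h⁻¹ * g⁻¹ = 1 := by
    rw [hc]; group
  rw [e3, e4, mul_one, hh, hXinv, hX]
  congr 1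
  ring

end abstract

variable {D : ChevalleyDatum} {F : Type*} [Field F]

/-- `g` generates the multiplicative group of the field -/
def IsGen (g : F) : Prop := ∀ t : F, t ≠ 0 → ∃ j : ℕ, g ^ j = t

/-- generators of the multiplicative group from a generator of the unit group -/
theorem isGen_of_generator [Fintype F] {ζ : Fˣ} (hζ : ∀ x : Fˣ, x ∈ Subgroup.zpowers ζ) :
    IsGen (ζ : F) := by
  intro t ht
  obtain ⟨j, hj⟩ := (mem_powers_iff_mem_zpowers (x := ζ) (y := Units.mk0 t ht)).2 (hζ _)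
  refine ⟨j, ?_⟩
  have := congrArg (fun u : Fˣ => (u : F)) hj
  simpa using this

theorem IsGen.inv {g : F} (hg0 : g ≠ 0) (h : IsGen g) : IsGen g⁻¹ := by
  intro t ht
  obtain ⟨j, hj⟩ := h t⁻¹ (inv_ne_zero ht)
  exact ⟨j, by rw [inv_pow, hj, inv_inv]⟩

/-- a power of a generator with exponent prime to `q - 1` is a generator -/
theorem IsGen.pow_coprime [Fintype F] {g : F} (hg0 : g ≠ 0) (h : IsGen g) {m : ℕ}
    (hm : Nat.Coprime m (Fintype.card F - 1)) : IsGen (g ^ m) := by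
  intro t ht
  -- t = s ^ m for some s
  have hcard : Nat.card Fˣ = Fintype.card F - 1 := by
    rw [Nat.card_units, Nat.card_eq_fintype_card]
  have hbij := (powCoprime (G := Fˣ) (n := m) (by rw [hcard]; exact hm.symm)).surjective
  obtain ⟨s, hs⟩ := hbij (Units.mk0 t ht)
  obtain ⟨j, hj⟩ := h (s : F) s.ne_zero
  refine ⟨j, ?_⟩
  have e : ((s ^ m : Fˣ) : F) = t := by
    have := congrArg (fun u : Fˣ => (u : F)) hs
    simpa [powCoprime] using this
  rw [← e, Units.val_pow_eq_pow_val, ← hj, ← pow_mul, ← pow_mul, mul_comm]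

theorem isGen_zpow_of_natAbs [Fintype F] {g : F} (hg0 : g ≠ 0) (h : IsGen g) {k : ℤ} {m : ℕ}
    (hk : k.natAbs = m) (hm : Nat.Coprime m (Fintype.card F - 1)) : IsGen (g ^ k) := by
  rcases Int.natAbs_eq k with e | e
  · rw [e, hk, zpow_natCast]
    exact h.pow_coprime hg0 hm
  · rw [e, hk, zpow_neg, zpow_natCast]
    exact (h.pow_coprime hg0 hm).inv (pow_ne_zero _ hg0)

section delta

variable (Δ : BNData D F) {Y : Subgroup (GL D.Idx F)}
include Δ

/-- the torus element `h_c(τ)` -/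
theorem exists_torD {c : ℕ} (hc : c < D.nroots) {τ : F} (hτ : τ ≠ 0) :
    ∃ h ∈ D.diagonalSubgroup F, ∀ r < D.nroots, ∀ t : F,
      h * xU Δ.hB r t * h⁻¹ = xU Δ.hB r (τ ^ aOf D c r * t) := by
  refine ⟨wordU Δ.hB (D.hWord c τ), hWordU_mem_diagonal Δ.hB hc hτ, ?_⟩
  intro r hr t
  have hv : ((wordU Δ.hB (D.hWord c τ) : GL D.Idx F) : Matrix D.Idx D.Idx F) =
      torMat D F (fun k => τ ^ corootC D c k) := by
    rw [wordU_val]
    exact hMat_eq_torMat (Δ.hH c hc) hτ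
  rw [Helper2.Tw.conj_tor Δ (fun k => zpow_ne_zero _ hτ) hv hr t, torChar_hWord c hτ r]

/-- `H` is commutative -/
theorem diagonal_comm {h k : GL D.Idx F} (hh : h ∈ D.diagonalSubgroup F)
    (hk : k ∈ D.diagonalSubgroup F) : h * k = k * h := by
  obtain ⟨c, _, hv⟩ := exists_torMat_of_mem_diagonal Δ.hB Δ.hH hh
  obtain ⟨d, _, hw⟩ := exists_torMat_of_mem_diagonal Δ.hB Δ.hH hk
  apply Units.ext
  rw [Units.val_mul, Units.val_mul, hv, hw, torMat_mul, torMat_mul]
  congr 1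
  funext i
  exact mul_comm _ _

/-- spreading a root element by a torus element with a generating character value -/
theorem rootIn_of_isGen {h : GL D.Idx F} (hhY : h ∈ Y) {r : ℕ} {β : F}
    (hact : ∀ t : F, h * xU Δ.hB r t * h⁻¹ = xU Δ.hB r (β * t)) (hβ : IsGen β)
    {s : F} (hs : s ≠ 0) (hsY : xU Δ.hB r s ∈ Y) : RootIn Δ.hB Y r := by
  have hpow : ∀ (j : ℕ) (t : F), h ^ j * xU Δ.hB r t * (h ^ j)⁻¹ = xU Δ.hB r (β ^ j * t) := by
    intro j
    induction j with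
    | zero => intro t; simp
    | succ j ih =>
      intro t
      have e : h ^ (j + 1) * xU Δ.hB r t * (h ^ (j + 1))⁻¹ =
          h * (h ^ j * xU Δ.hB r t * (h ^ j)⁻¹) * h⁻¹ := by
        rw [pow_succ']; group
      rw [e, ih, hact, pow_succ', mul_assoc]
  intro v
  by_cases hv : v = 0
  · rw [hv, xU_zero]; exact Subgroup.one_mem _
  obtain ⟨j, hj⟩ := hβ (v / s) (div_ne_zero hv hs)
  have := hpow j s
  rw [hj, div_mul_cancel₀ v hs] at this
  rw [← this]
  exact Subgroup.mul_mem _ (Subgroup.mul_mem _ (Subgroup.pow_mem _ hhY j) hsY)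
    (Subgroup.inv_mem _ (Subgroup.pow_mem _ hhY j))

end delta

end Cfsg.Agent.Helper12.TwoGen
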