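import Mathlib
import Cfsg.Agent.Helper12.TwoGenC

set_option autoImplicit false
set_option linter.unusedSectionVars false
set_option linter.unusedSimpArgs false
set_option linter.unusedVariables false

/-!
# Two generators over a field with more than two elements: the main argument
-/

namespace Cfsg.Agent.Helper12.TwoGen

open Cfsg Cfsg.Lie Cfsg.Agent.Helper6 Cfsg.Agent.Helper12.WCl Cfsg.Agent.Helper11.ChevOrbit

variable {D : ChevalleyDatum} {F : Type*} [Field F]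

/-- the table check for the generators `h_c(ζ) x_a(1)` (or `h_c(ζ)`) and `x_b(1) n_w` -/
def formIIChk (D : ChevalleyDatum) (L : List ℕ) (cox : ℕ) (ok2 ok3 two : Bool)
    (a a' i m b b' c : ℕ) (steps : List (ℕ × ℕ × ℕ × ℤ)) : Bool :=
  allL L (fun j => Nat.blt j D.rank) &&
  Nat.blt a D.nroots && Nat.blt a' D.nroots && Nat.blt b D.nroots && Nat.blt b' D.nroots &&
  Nat.blt c D.nroots &&
  Nat.beq (wLF D L b') b && Nat.beq (aF D c b).natAbs 1 && Nat.beq (aF D c b').natAbs 1 &&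
  (!two || (decide (aF D c a = 0) && Nat.beq (iterW D L i a') a &&
    Nat.beq (aF D c a').natAbs m)) &&
  coverChk D (runC D L cox ok2 ok3 steps
    (bif two then orbL D L cox a ++ orbL D L cox b else orbL D L cox b))

theorem exists_ne_zero_ne_one [Fintype F] (hq : 2 < Fintype.card F) : ∃ t : F, t ≠ 0 ∧ t ≠ 1 := by
  classical
  have h : ({0, 1} : Finset F).card < (Finset.univ : Finset F).card := by
    rw [Finset.card_univ]
    exact lt_of_le_of_lt Finset.card_le_two hq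
  obtain ⟨t, _, ht⟩ := Finset.exists_mem_notMem_of_card_lt_card h
  simp only [Finset.mem_insert, Finset.mem_singleton, not_or] at ht
  exact ⟨t, ht.1, ht.2⟩

theorem IsGen.ne_one {g : F} (h : IsGen g) (hex : ∃ t : F, t ≠ 0 ∧ t ≠ 1) : g ≠ 1 := by
  obtain ⟨t, ht0, ht1⟩ := hex
  obtain ⟨j, hj⟩ := h t ht0
  intro e
  rw [e, one_pow] at hj
  exact ht1 hj.symm

section delta

variable (Δ : BNData D F) {Y : Subgroup (GL D.Idx F)}
include Δ

/-- transport of a torus action along a monomial element -/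
theorem conj_transport {N h : GL D.Idx F} {r r' : ℕ} {η β : F} (hη : η * η = 1)
    (hN : ∀ t : F, N * xU Δ.hB r' t * N⁻¹ = xU Δ.hB r (η * t))
    (hh : ∀ t : F, h * xU Δ.hB r' t * h⁻¹ = xU Δ.hB r' (β * t)) (t : F) :
    (N * h * N⁻¹) * xU Δ.hB r t * (N * h * N⁻¹)⁻¹ = xU Δ.hB r (β * t) := by
  have e1 : N⁻¹ * xU Δ.hB r t * N = xU Δ.hB r' (η * t) := by
    have := hN (η * t)
    rw [← mul_assoc, hη, one_mul] at this
    rw [← this]; group
  have e2 : (N * h * N⁻¹) * xU Δ.hB r t * (N * h * N⁻¹)⁻¹ =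
      N * (h * (N⁻¹ * xU Δ.hB r t * N) * h⁻¹) * N⁻¹ := by group
  rw [e2, e1, hh, hN]
  congr 1
  calc η * (β * (η * t)) = (η * η) * (β * t) := by ring
    _ = β * t := by rw [hη, one_mul]

/-- powers of `nL` act through the iterates of `wLF` -/
theorem nL_pow_conj {L : List ℕ} (hL : ∀ i ∈ L, i < D.rank) :
    ∀ (i : ℕ) {x : ℕ}, x < D.nroots → iterW D L i x < D.nroots ∧
      ∃ η : F, η * η = 1 ∧ ∀ t : F, (nL Δ.hB L) ^ i * xU Δ.hB x t * ((nL Δ.hB L) ^ i)⁻¹ =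
        xU Δ.hB (iterW D L i x) (η * t) := by
  intro i
  induction i with
  | zero =>
    intro x hx
    refine ⟨hx, 1, one_mul 1, fun t => ?_⟩
    simp [iterW]
  | succ i ih =>
    intro x hx
    have hwx := wL_lt Δ L hL hx
    obtain ⟨η, hη, hc⟩ := nL_conj Δ L hL hx
    obtain ⟨hlt, η', hη', hc'⟩ := ih hwx
    have hiter : iterW D L (i + 1) x = iterW D L i (wL D L x) := by
      rw [iterW, wLF_eq Δ L hL hx]
    rw [hiter]
    refine ⟨hlt, η' * η, ?_, fun t => ?_⟩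
    · calc η' * η * (η' * η) = (η' * η') * (η * η) := by ring
        _ = 1 := by rw [hη, hη', one_mul]
    · have e : (nL Δ.hB L) ^ (i + 1) * xU Δ.hB x t * ((nL Δ.hB L) ^ (i + 1))⁻¹ =
          (nL Δ.hB L) ^ i * (nL Δ.hB L * xU Δ.hB x t * (nL Δ.hB L)⁻¹) * ((nL Δ.hB L) ^ i)⁻¹ := by
        rw [pow_succ]; group
      rw [e, hc, hc', mul_assoc]

theorem xU_one_pow {r : ℕ} (k : ℕ) : (xU Δ.hB r (1 : F)) ^ k = xU Δ.hB r (k : F) := by
  induction k with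
  | zero => rw [pow_zero, Nat.cast_zero, xU_zero]
  | succ k ih => rw [pow_succ, ih, xU_mul, Nat.cast_succ]

/-- the core of the argument: from `h = h_c(ζ)` and `B = x_b(1) n` in `Y` we get `X_b ≤ Y` and
`n ∈ Y` -/
theorem rootIn_of_double_comm {L : List ℕ} (hL : ∀ i ∈ L, i < D.rank) {b b' : ℕ}
    (hb : b < D.nroots) (hb' : b' < D.nroots) (hwb : wL D L b' = b)
    {h : GL D.Idx F} (hhH : h ∈ D.diagonalSubgroup F) {β β' : F}
    (hactb : ∀ t : F, h * xU Δ.hB b t * h⁻¹ = xU Δ.hB b (β * t))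
    (hactb' : ∀ t : F, h * xU Δ.hB b' t * h⁻¹ = xU Δ.hB b' (β' * t))
    (hβgen : IsGen β) (hβ0 : β ≠ 0) (hβ1 : β ≠ 1) (hβ'0 : β' ≠ 0) (hβ'1 : β' ≠ 1)
    (hhY : h ∈ Y) (hBY : xU Δ.hB b 1 * nL Δ.hB L ∈ Y) :
    RootIn Δ.hB Y b ∧ nL Δ.hB L ∈ Y := by
  set n : GL D.Idx F := nL Δ.hB L with hn
  obtain ⟨η, hη, hconj⟩ := nL_conj Δ L hL hb'
  rw [hwb] at hconj
  -- k = n h⁻¹ n⁻¹ ∈ H
  have hkH : n * h⁻¹ * n⁻¹ ∈ D.diagonalSubgroup F :=
    (Subgroup.mem_normalizer_iff.1 (nL_mem_normalizer Δ L hL) h⁻¹).1 (Subgroup.inv_mem _ hhH)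
  have hinv : ∀ t : F, h⁻¹ * xU Δ.hB b' t * (h⁻¹)⁻¹ = xU Δ.hB b' (β'⁻¹ * t) := by
    intro t
    have := hactb' (β'⁻¹ * t)
    rw [← mul_assoc, mul_inv_cancel₀ hβ'0, one_mul] at this
    rw [← this]; group
  have hk : ∀ t : F, (n * h⁻¹ * n⁻¹) * xU Δ.hB b t * (n * h⁻¹ * n⁻¹)⁻¹ =
      xU Δ.hB b (β'⁻¹ * t) := conj_transport Δ hη hconj hinv
  have hg : ∀ t : F, (h * n * h⁻¹ * n⁻¹) * xU Δ.hB b t * (h * n * h⁻¹ * n⁻¹)⁻¹ =
      xU Δ.hB b (β * β'⁻¹ * t) := by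
    intro t
    have e : (h * n * h⁻¹ * n⁻¹) * xU Δ.hB b t * (h * n * h⁻¹ * n⁻¹)⁻¹ =
        h * ((n * h⁻¹ * n⁻¹) * xU Δ.hB b t * (n * h⁻¹ * n⁻¹)⁻¹) * h⁻¹ := by group
    rw [e, hk, hactb, mul_assoc]
  have hc : h * (h * n * h⁻¹ * n⁻¹) = (h * n * h⁻¹ * n⁻¹) * h := by
    have e1 : h * n * h⁻¹ * n⁻¹ = h * (n * h⁻¹ * n⁻¹) := by group
    rw [e1, mul_assoc h (n * h⁻¹ * n⁻¹) h, ← diagonal_comm Δ hhH hkH]
  have hdc := double_comm (fun t => xU Δ.hB b t) (fun t u => xU_mul Δ.hB b t u) h n β (β * β'⁻¹)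
    hactb hg hc
  have hvY : xU Δ.hB b ((β - 1) * (β - β * β'⁻¹)) ∈ Y := by
    rw [← hdc]
    have hz : h * (xU Δ.hB b 1 * n) * h⁻¹ * (xU Δ.hB b 1 * n)⁻¹ ∈ Y :=
      Subgroup.mul_mem _ (Subgroup.mul_mem _ (Subgroup.mul_mem _ hhY hBY) (Subgroup.inv_mem _ hhY))
        (Subgroup.inv_mem _ hBY)
    exact Subgroup.mul_mem _ (Subgroup.mul_mem _ (Subgroup.mul_mem _ hhY hz)
      (Subgroup.inv_mem _ hhY)) (Subgroup.inv_mem _ hz)
  have hs : (β - 1) * (β - β * β'⁻¹) ≠ 0 := by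
    apply mul_ne_zero (sub_ne_zero.2 hβ1)
    have : β - β * β'⁻¹ = β * (1 - β'⁻¹) := by ring
    rw [this]
    apply mul_ne_zero hβ0
    rw [sub_ne_zero]
    intro e
    apply hβ'1
    have := congrArg (fun x => x⁻¹) e
    simpa using this.symm
  have hR : RootIn Δ.hB Y b := rootIn_of_isGen Δ hhY hactb hβgen hs hvY
  refine ⟨hR, ?_⟩
  have : n = (xU Δ.hB b 1)⁻¹ * (xU Δ.hB b 1 * n) := by group
  rw [this]
  exact Subgroup.mul_mem _ (Subgroup.inv_mem _ (hR 1)) hBY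

/-- **two generators**, field with more than two elements -/
theorem formII [Fintype F] (hD : IsTabulated D) (hq : 2 < Fintype.card F)
    {L : List ℕ} {cox : ℕ} {ok2 ok3 two : Bool} (h2 : ok2 = true → (2 : F) ≠ 0)
    (h3 : ok3 = true → (3 : F) ≠ 0) {a a' i m b b' c : ℕ} {steps : List (ℕ × ℕ × ℕ × ℤ)}
    (hm : two = true → Nat.Coprime m (Fintype.card F - 1))
    (hchk : formIIChk D L cox ok2 ok3 two a a' i m b b' c steps = true) :
    ∃ A B : GL D.Idx F, A ∈ D.group F ∧ B ∈ D.group F ∧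
      D.group F ≤ Subgroup.closure ({A, B} : Set (GL D.Idx F)) := by
  simp only [formIIChk, Bool.and_eq_true, allL_iff, Nat.blt_eq, Nat.beq_eq_true_eq,
    Bool.or_eq_true, Bool.not_eq_true', decide_eq_true_eq] at hchk
  obtain ⟨⟨⟨⟨⟨⟨⟨⟨⟨⟨hL, ha⟩, ha'⟩, hb⟩, hb'⟩, hc⟩, hwb⟩, hcb⟩, hcb'⟩, htwo⟩, hcov⟩ := hchk
  have hwb := Nat.eq_of_beq_eq_true hwb
  have hcb := Nat.eq_of_beq_eq_true hcb
  have hcb' := Nat.eq_of_beq_eq_true hcb'
  have hex := exists_ne_zero_ne_one hq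
  obtain ⟨ζ, hζ⟩ := IsCyclic.exists_generator (α := Fˣ)
  have hgen : IsGen (ζ : F) := isGen_of_generator hζ
  have hζ0 : (ζ : F) ≠ 0 := ζ.ne_zero
  obtain ⟨h, hhH, hact⟩ := exists_torD Δ hc hζ0
  rw [wLF_eq Δ L hL hb'] at hwb
  rw [aF_eq Δ.hF] at hcb hcb'
  have hcop1 : Nat.Coprime 1 (Fintype.card F - 1) := Nat.coprime_one_left _
  have hβgen : IsGen ((ζ : F) ^ aOf D c b) := isGen_zpow_of_natAbs hζ0 hgen hcb hcop1
  have hβ'gen : IsGen ((ζ : F) ^ aOf D c b') := isGen_zpow_of_natAbs hζ0 hgen hcb' hcop1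
  have hhG : h ∈ D.group F := diagonalSubgroup_le_group Δ.hB hhH
  have hnG : nL (F := F) Δ.hB L ∈ D.group F := nL_mem_group Δ L hL
  have hBG : xU Δ.hB b 1 * nL (F := F) Δ.hB L ∈ D.group F :=
    Subgroup.mul_mem _ (xU_mem_group Δ.hB hb 1) hnG
  -- the common part
  have main : ∀ Y : Subgroup (GL D.Idx F), h ∈ Y → xU Δ.hB b 1 * nL (F := F) Δ.hB L ∈ Y →
      RootIn Δ.hB Y b ∧ nL (F := F) Δ.hB L ∈ Y := fun Y hhY hBY =>
    rootIn_of_double_comm Δ hL hb hb' hwb hhH (hact b hb) (hact b' hb') hβgen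
      (zpow_ne_zero _ hζ0) (hβgen.ne_one hex) (zpow_ne_zero _ hζ0) (hβ'gen.ne_one hex) hhY hBY
  cases two with
  | false =>
    refine ⟨h, xU Δ.hB b 1 * nL Δ.hB L, hhG, hBG, ?_⟩
    set Y := Subgroup.closure ({h, xU Δ.hB b 1 * nL (F := F) Δ.hB L} : Set (GL D.Idx F)) with hY
    have hhY : h ∈ Y := Subgroup.subset_closure (by simp)
    have hBY : xU Δ.hB b 1 * nL (F := F) Δ.hB L ∈ Y := Subgroup.subset_closure (by simp)
    obtain ⟨hRb, hnY⟩ := main Y hhY hBY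
    rw [cond_false] at hcov
    exact group_le_of_coverChk Δ
      (rootIn_runC Δ hL hnY cox h2 h3 steps _ (rootIn_orbL Δ hL hnY cox hb hRb)) hcov
  | true =>
    rcases htwo with htwo | ⟨⟨hca, hit⟩, hcm⟩
    · exact absurd htwo (by simp)
    have hit := Nat.eq_of_beq_eq_true hit
    have hcm := Nat.eq_of_beq_eq_true hcm
    rw [aF_eq Δ.hF] at hca hcm
    have hxaG : xU Δ.hB a (1 : F) ∈ D.group F := xU_mem_group Δ.hB ha 1
    refine ⟨h * xU Δ.hB a 1, xU Δ.hB b 1 * nL Δ.hB L, Subgroup.mul_mem _ hhG hxaG, hBG, ?_⟩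
    set Y := Subgroup.closure ({h * xU Δ.hB a 1, xU Δ.hB b 1 * nL (F := F) Δ.hB L} :
      Set (GL D.Idx F)) with hY
    have hAY : h * xU Δ.hB a 1 ∈ Y := Subgroup.subset_closure (by simp)
    have hBY : xU Δ.hB b 1 * nL (F := F) Δ.hB L ∈ Y := Subgroup.subset_closure (by simp)
    -- `h` and `x_a(1)` commute
    have hcomm : Commute h (xU Δ.hB a (1 : F)) := by
      have := hact a ha 1
      rw [hca, zpow_zero, one_mul] at this
      have e : h * xU Δ.hB a (1 : F) = (h * xU Δ.hB a 1 * h⁻¹) * h := by group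
      unfold Commute SemiconjBy
      rw [e, this]
    -- `(h x_a(1))^(q-1) = x_a(-1)`
    have hpow : (h * xU Δ.hB a (1 : F)) ^ (Fintype.card F - 1) = xU Δ.hB a (-1) := by
      rw [hcomm.mul_pow, Helper11.ChevSylow.pow_card_sub_one_eq_one hD hhH, one_mul, xU_one_pow Δ]
      congr 1
      have h1 : 1 ≤ Fintype.card F := by omega
      rw [Nat.cast_sub h1, Nat.cast_card_eq_zero, Nat.cast_one, zero_sub]
    have hxam : xU Δ.hB a (-1 : F) ∈ Y := by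
      rw [← hpow]; exact Subgroup.pow_mem _ hAY _
    have hxa : xU Δ.hB a (1 : F) ∈ Y := by
      have := Subgroup.inv_mem _ hxam
      rwa [xU_inv, neg_neg] at this
    have hhY : h ∈ Y := by
      have := Subgroup.mul_mem _ hAY hxam
      rwa [mul_assoc, xU_mul, add_neg_cancel, xU_zero, mul_one] at this
    obtain ⟨hRb, hnY⟩ := main Y hhY hBY
    -- the torus element `n^i h n^{-i}`
    obtain ⟨hlt, η, hη, hconj⟩ := nL_pow_conj Δ hL i ha'
    rw [hit] at hconj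
    have hact' := fun t => conj_transport Δ hη hconj (hact a' ha') t
    have hhiY : (nL (F := F) Δ.hB L) ^ i * h * ((nL (F := F) Δ.hB L) ^ i)⁻¹ ∈ Y :=
      Subgroup.mul_mem _ (Subgroup.mul_mem _ (Subgroup.pow_mem _ hnY i) hhY)
        (Subgroup.inv_mem _ (Subgroup.pow_mem _ hnY i))
    have hRa : RootIn Δ.hB Y a :=
      rootIn_of_isGen Δ hhiY hact' (isGen_zpow_of_natAbs hζ0 hgen hcm (hm rfl)) one_ne_zero hxa
    rw [cond_true] at hcov
    refine group_le_of_coverChk Δ (rootIn_runC Δ hL hnY cox h2 h3 steps _ ?_) hcov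
    intro r hr
    rcases List.mem_append.1 hr with hr | hr
    · exact rootIn_orbL Δ hL hnY cox ha hRa r hr
    · exact rootIn_orbL Δ hL hnY cox hb hRb r hr

end delta

end Cfsg.Agent.Helper12.TwoGen
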