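import Mathlib
import Cfsg.Agent.Helper11.TwBNMain
import Cfsg.Agent.Helper11.TwTorA
import Cfsg.Agent.Helper12.TwoGenD

set_option autoImplicit false
set_option linter.unusedSectionVars false
set_option linter.unusedSimpArgs false
set_option linter.unusedVariables false

/-!
# Two generators of `³D₄(q)`: general lemmas

The torus elements `h_J(a)` of helper11's twisted `(B, N)`-pair library act on the root elements
through explicit characters.
-/

namespace Cfsg.Agent.Helper12.TwGenD4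

open Cfsg Cfsg.Lie Cfsg.Agent.Helper6 Cfsg.Agent.Helper12.WCl Cfsg.Agent.Helper11.ChevOrbit
  Cfsg.Agent.Helper11.TwReach Cfsg.Agent.Helper11.TwBNA Cfsg.Agent.Helper12.TwoGen

variable {D : ChevalleyDatum} {F : Type*} [Field F]

/-- the element of `↥H` generated in `↥H` from generation in the ambient group -/
theorem closure_subtype_eq_top {G : Type*} [Group G] (H : Subgroup G) {A B : G} (hA : A ∈ H)
    (hB : B ∈ H) (h : H ≤ Subgroup.closure ({A, B} : Set G)) :
    Subgroup.closure ({⟨A, hA⟩, ⟨B, hB⟩} : Set ↥H) = ⊤ := by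
  rw [eq_top_iff]
  intro x _
  have hx : (x : G) ∈ Subgroup.closure ({A, B} : Set G) := h x.2
  have key : ∀ g : G, g ∈ Subgroup.closure ({A, B} : Set G) → ∀ hg : g ∈ H,
      (⟨g, hg⟩ : ↥H) ∈ Subgroup.closure ({⟨A, hA⟩, ⟨B, hB⟩} : Set ↥H) := by
    intro g hg
    induction hg using Subgroup.closure_induction with
    | mem y hy =>
      intro hyH
      apply Subgroup.subset_closure
      rcases hy with rfl | rfl
      · exact Or.inl rfl
      · exact Or.inr rfl
    | one => intro _; exact Subgroup.one_mem _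
    | mul y z hy hz ihy ihz =>
      intro hyz
      have hyH : y ∈ H := (Subgroup.closure_le H).2 (by
        rintro w (rfl | rfl)
        · exact hA
        · exact hB) hy
      have hzH : z ∈ H := (Subgroup.closure_le H).2 (by
        rintro w (rfl | rfl)
        · exact hA
        · exact hB) hz
      have : (⟨y * z, hyz⟩ : ↥H) = ⟨y, hyH⟩ * ⟨z, hzH⟩ := rfl
      rw [this]
      exact Subgroup.mul_mem _ (ihy hyH) (ihz hzH)
    | inv y hy ih =>
      intro hyi
      have hyH : y ∈ H := (Subgroup.closure_le H).2 (by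
        rintro w (rfl | rfl)
        · exact hA
        · exact hB) hy
      have : (⟨y⁻¹, hyi⟩ : ↥H) = (⟨y, hyH⟩ : ↥H)⁻¹ := rfl
      rw [this]
      exact Subgroup.inv_mem _ (ih hyH)
  exact key x hx x.2

section delta

variable (Δ : BNData D F)
include Δ

/-- the torus element `h_c(τ)` acts on the root elements through the character `τ ^ ⟨r, c∨⟩` -/
theorem hWord_conj {c : ℕ} (hc : c < D.nroots) {τ : F} (hτ : τ ≠ 0) {r : ℕ} (hr : r < D.nroots)
    (t : F) :
    wordU Δ.hB (D.hWord c τ) * xU Δ.hB r t * (wordU Δ.hB (D.hWord c τ))⁻¹ =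
      xU Δ.hB r (τ ^ aOf D c r * t) := by
  have hv : ((wordU Δ.hB (D.hWord c τ) : GL D.Idx F) : Matrix D.Idx D.Idx F) =
      torMat D F (fun k => τ ^ corootC D c k) := by
    rw [wordU_val]
    exact hMat_eq_torMat (Δ.hH c hc) hτ
  rw [Helper2.Tw.conj_tor Δ (fun k => zpow_ne_zero _ hτ) hv hr t, torChar_hWord c hτ r]

/-- the character through which `h_J(a)` acts on `X_r` -/
def chiJ (D : ChevalleyDatum) (J : List ℕ) (a : ℕ → F) (r : ℕ) : F :=
  (J.map fun i => (-(a (D.simple i))⁻¹) ^ aOf D (D.simple i) r).prod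

omit Δ in
theorem chiJ_nil (a : ℕ → F) (r : ℕ) : chiJ D [] a r = 1 := rfl

omit Δ in
theorem chiJ_cons (i : ℕ) (J : List ℕ) (a : ℕ → F) (r : ℕ) :
    chiJ D (i :: J) a r = (-(a (D.simple i))⁻¹) ^ aOf D (D.simple i) r * chiJ D J a r := by
  unfold chiJ
  rw [List.map_cons, List.prod_cons]

/-- `h_J(a)` acts on the root elements through `chiJ` -/
theorem hJ_conj : ∀ (J : List ℕ), (∀ i ∈ J, D.simple i < D.nroots) → ∀ (a : ℕ → F),
    (∀ i ∈ J, a (D.simple i) ≠ 0) → ∀ {r : ℕ}, r < D.nroots → ∀ t : F,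
    hJ Δ.hB J a * xU Δ.hB r t * (hJ Δ.hB J a)⁻¹ = xU Δ.hB r (chiJ D J a r * t) := by
  intro J
  induction J with
  | nil =>
    intro _ a _ r hr t
    rw [chiJ_nil, one_mul]
    simp [hJ]
  | cons i J ih =>
    intro hlt a ha r hr t
    have hi := hlt i List.mem_cons_self
    have hai := ha i List.mem_cons_self
    have hlt' : ∀ j ∈ J, D.simple j < D.nroots := fun j hj => hlt j (List.mem_cons_of_mem _ hj)
    have ha' : ∀ j ∈ J, a (D.simple j) ≠ 0 := fun j hj => ha j (List.mem_cons_of_mem _ hj)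
    rw [hJ_cons, chiJ_cons]
    have e : wordU Δ.hB (D.hWord (D.simple i) (-(a (D.simple i))⁻¹)) * hJ Δ.hB J a * xU Δ.hB r t *
        (wordU Δ.hB (D.hWord (D.simple i) (-(a (D.simple i))⁻¹)) * hJ Δ.hB J a)⁻¹ =
        wordU Δ.hB (D.hWord (D.simple i) (-(a (D.simple i))⁻¹)) *
          (hJ Δ.hB J a * xU Δ.hB r t * (hJ Δ.hB J a)⁻¹) *
          (wordU Δ.hB (D.hWord (D.simple i) (-(a (D.simple i))⁻¹)))⁻¹ := by group
    rw [e, ih hlt' a ha' hr, hWord_conj Δ hi (neg_ne_zero.2 (inv_ne_zero hai)) hr, mul_assoc]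

end delta

end Cfsg.Agent.Helper12.TwGenD4
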