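import Mathlib
import Cfsg.Agent.Helper12.TwGenD4A

set_option autoImplicit false
set_option linter.unusedSectionVars false
set_option linter.unusedSimpArgs false
set_option linter.unusedVariables false

/-!
# Two generators of `³D₄(q)`: the torus element and the short root subgroup
-/

namespace Cfsg.Agent.Helper12.TwGenD4

open Cfsg Cfsg.Lie Cfsg.Agent.Helper6 Cfsg.Agent.Helper12.WCl Cfsg.Agent.Helper11.ChevOrbit
  Cfsg.Agent.Helper11.TwReach Cfsg.Agent.Helper11.TwBNA Cfsg.Agent.Helper12.TwoGen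
  Cfsg.Agent.Helper11.TwMain Cfsg.Agent.Helper11.TwBNMain Cfsg.Agent.Helper11.TwBND
  Cfsg.Agent.Helper11.TwCtx Cfsg.Agent.Helper11.TwTorA Cfsg.Agent.Helper11.TwBNC

variable {K : Type*} [Field K] {q : ℕ} (f : K ≃+* K) (hf : ∀ x, f (f (f x)) = x)

/-- the short root element `x_{p₁}(t) x_{p₃}(t^q) x_{p₄}(t^{q²})` -/
noncomputable def XA (t : K) : GL chevD4.Idx K :=
  wp (ctxD4 f hf).hB [0, 2, 3] (orbFun chevD4 f [0, 2, 3] t)

theorem orbFun_val (t : K) :
    orbFun chevD4 f [0, 2, 3] t (chevD4.simple 0) = t ∧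
    orbFun chevD4 f [0, 2, 3] t (chevD4.simple 2) = f t ∧
    orbFun chevD4 f [0, 2, 3] t (chevD4.simple 3) = f (f t) := by
  have h1 : chevD4.simple 2 ≠ chevD4.simple 0 := by decide
  have h2 : chevD4.simple 3 ≠ chevD4.simple 0 := by decide
  have h3 : chevD4.simple 3 ≠ chevD4.simple 2 := by decide
  refine ⟨?_, ?_, ?_⟩ <;> simp [orbFun, h1, h2, h3]

theorem XA_eq (t : K) :
    XA f hf t = xU (ctxD4 f hf).hB (chevD4.simple 0) t *
      (xU (ctxD4 f hf).hB (chevD4.simple 2) (f t) *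
        (xU (ctxD4 f hf).hB (chevD4.simple 3) (f (f t)) * 1)) := by
  obtain ⟨e1, e2, e3⟩ := orbFun_val f t
  unfold XA
  rw [wp_cons, wp_cons, wp_cons, wp_nil, e1, e2, e3]

theorem orbOK_J2 : OrbOK chevD4 (ctxD4 f hf).ρ [0, 2, 3] := orbOK_D4 _ (by simp [orbs_D4])

theorem orbOK_J1 : OrbOK chevD4 (ctxD4 f hf).ρ [1] := orbOK_D4 _ (by simp [orbs_D4])

theorem XA_mul (t u : K) : XA f hf t * XA f hf u = XA f hf (t + u) := by
  unfold XA
  have hO := orbOK_J2 f hf
  rw [wp_mul (ctxD4 f hf) (Helper11.TwBNData.bnData_DE K (by simp)) hsp_D4 _ hO.lt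
    (OrbOK.pairwise hO)]
  congr 1
  funext r
  simp only [orbFun]
  split_ifs <;> simp [map_add]

theorem XA_zero : XA f hf 0 = 1 := by
  have := XA_mul f hf 0 0
  rw [add_zero] at this
  exact mul_eq_left.1 this

theorem XA_inv (t : K) : (XA f hf t)⁻¹ = XA f hf (-t) := by
  rw [inv_eq_iff_mul_eq_one, XA_mul, add_neg_cancel, XA_zero]

/-- the torus element `h_{J₂}(λ) h_{p₂}(μ)` -/
noncomputable def torA (lam mu : K) : GL chevD4.Idx K :=
  hJ (ctxD4 f hf).hB [0, 2, 3] (orbFun chevD4 f [0, 2, 3] (-lam⁻¹)) *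
    hJ (ctxD4 f hf).hB [1] (orbFun chevD4 f [1] (-mu⁻¹))

/-- the character of `torA` -/
def chiA (lam mu : K) (r : ℕ) : K :=
  lam ^ aOf chevD4 (chevD4.simple 0) r * (f lam) ^ aOf chevD4 (chevD4.simple 2) r *
    (f (f lam)) ^ aOf chevD4 (chevD4.simple 3) r * mu ^ aOf chevD4 (chevD4.simple 1) r

theorem simple_lt_D4 : ∀ i < chevD4.rank, chevD4.simple i < chevD4.nroots := by decide

theorem torA_mem_diagonal {lam mu : K} (hl : lam ≠ 0) (hm : mu ≠ 0) :
    torA f hf lam mu ∈ chevD4.diagonalSubgroup K := by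
  obtain ⟨e1, e2, e3⟩ := orbFun_val f (-lam⁻¹)
  have hl' : -lam⁻¹ ≠ 0 := neg_ne_zero.2 (inv_ne_zero hl)
  unfold torA
  apply Subgroup.mul_mem
  · apply hJ_mem_diagonal
    · intro i hi
      apply simple_lt_D4
      simp only [List.mem_cons, List.not_mem_nil, or_false] at hi
      rcases hi with rfl | rfl | rfl <;> decide
    · intro i hi
      simp only [List.mem_cons, List.not_mem_nil, or_false] at hi
      rcases hi with rfl | rfl | rfl
      · rw [e1]; exact hl'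
      · rw [e2]; exact (map_ne_zero f).2 hl'
      · rw [e3]; exact (map_ne_zero f).2 ((map_ne_zero f).2 hl')
  · apply hJ_mem_diagonal
    · intro i hi
      apply simple_lt_D4
      simp only [List.mem_cons, List.not_mem_nil, or_false] at hi
      rcases hi with rfl
      decide
    · intro i hi
      simp only [orbFun]
      exact neg_ne_zero.2 (inv_ne_zero hm)

theorem torA_conj {lam mu : K} (hl : lam ≠ 0) (hm : mu ≠ 0) {r : ℕ} (hr : r < chevD4.nroots)
    (t : K) :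
    torA f hf lam mu * xU (ctxD4 f hf).hB r t * (torA f hf lam mu)⁻¹ =
      xU (ctxD4 f hf).hB r (chiA f lam mu r * t) := by
  obtain ⟨e1, e2, e3⟩ := orbFun_val f (-lam⁻¹)
  have hl' : -lam⁻¹ ≠ 0 := neg_ne_zero.2 (inv_ne_zero hl)
  have Δ : BNData chevD4 K := Helper11.TwBNData.bnData_DE K (by simp)
  have h2 := hJ_conj Δ [0, 2, 3] (by
      intro i hi
      apply simple_lt_D4
      simp only [List.mem_cons, List.not_mem_nil, or_false] at hi
      rcases hi with rfl | rfl | rfl <;> decide) (orbFun chevD4 f [0, 2, 3] (-lam⁻¹)) (by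
      intro i hi
      simp only [List.mem_cons, List.not_mem_nil, or_false] at hi
      rcases hi with rfl | rfl | rfl
      · rw [e1]; exact hl'
      · rw [e2]; exact (map_ne_zero f).2 hl'
      · rw [e3]; exact (map_ne_zero f).2 ((map_ne_zero f).2 hl')) hr
  have h1 := hJ_conj Δ [1] (by
      intro i hi
      apply simple_lt_D4
      simp only [List.mem_cons, List.not_mem_nil, or_false] at hi
      rcases hi with rfl
      decide) (orbFun chevD4 f [1] (-mu⁻¹)) (by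
      intro i hi
      simp only [orbFun]
      exact neg_ne_zero.2 (inv_ne_zero hm)) hr
  unfold torA
  have e : hJ (ctxD4 f hf).hB [0, 2, 3] (orbFun chevD4 f [0, 2, 3] (-lam⁻¹)) *
      hJ (ctxD4 f hf).hB [1] (orbFun chevD4 f [1] (-mu⁻¹)) * xU (ctxD4 f hf).hB r t *
      (hJ (ctxD4 f hf).hB [0, 2, 3] (orbFun chevD4 f [0, 2, 3] (-lam⁻¹)) *
      hJ (ctxD4 f hf).hB [1] (orbFun chevD4 f [1] (-mu⁻¹)))⁻¹ =
      hJ (ctxD4 f hf).hB [0, 2, 3] (orbFun chevD4 f [0, 2, 3] (-lam⁻¹)) *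
      (hJ (ctxD4 f hf).hB [1] (orbFun chevD4 f [1] (-mu⁻¹)) * xU (ctxD4 f hf).hB r t *
        (hJ (ctxD4 f hf).hB [1] (orbFun chevD4 f [1] (-mu⁻¹)))⁻¹) *
      (hJ (ctxD4 f hf).hB [0, 2, 3] (orbFun chevD4 f [0, 2, 3] (-lam⁻¹)))⁻¹ := by group
  rw [e]
  erw [h1 t, h2]
  congr 1
  rw [← mul_assoc]
  congr 1
  rw [chiJ_cons, chiJ_cons, chiJ_cons, chiJ_nil, chiJ_cons, chiJ_nil, e1, e2, e3]
  simp only [orbFun, chiA, map_neg, map_inv₀, inv_neg, neg_neg, inv_inv, mul_one]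
  ring

theorem chiA_p1 (lam mu : K) : chiA f lam mu (chevD4.simple 0) = lam ^ 2 * mu⁻¹ := by
  have a1 : aOf chevD4 (chevD4.simple 0) (chevD4.simple 0) = 2 := by decide
  have a2 : aOf chevD4 (chevD4.simple 2) (chevD4.simple 0) = 0 := by decide
  have a3 : aOf chevD4 (chevD4.simple 3) (chevD4.simple 0) = 0 := by decide
  have a4 : aOf chevD4 (chevD4.simple 1) (chevD4.simple 0) = -1 := by decide
  unfold chiA
  rw [a1, a2, a3, a4]
  simp [zpow_ofNat]

theorem chiA_p3 (lam mu : K) : chiA f lam mu (chevD4.simple 2) = (f lam) ^ 2 * mu⁻¹ := by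
  have a1 : aOf chevD4 (chevD4.simple 0) (chevD4.simple 2) = 0 := by decide
  have a2 : aOf chevD4 (chevD4.simple 2) (chevD4.simple 2) = 2 := by decide
  have a3 : aOf chevD4 (chevD4.simple 3) (chevD4.simple 2) = 0 := by decide
  have a4 : aOf chevD4 (chevD4.simple 1) (chevD4.simple 2) = -1 := by decide
  unfold chiA
  rw [a1, a2, a3, a4]
  simp [zpow_ofNat]

theorem chiA_p4 (lam mu : K) : chiA f lam mu (chevD4.simple 3) = (f (f lam)) ^ 2 * mu⁻¹ := by
  have a1 : aOf chevD4 (chevD4.simple 0) (chevD4.simple 3) = 0 := by decide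
  have a2 : aOf chevD4 (chevD4.simple 2) (chevD4.simple 3) = 0 := by decide
  have a3 : aOf chevD4 (chevD4.simple 3) (chevD4.simple 3) = 2 := by decide
  have a4 : aOf chevD4 (chevD4.simple 1) (chevD4.simple 3) = -1 := by decide
  unfold chiA
  rw [a1, a2, a3, a4]
  simp [zpow_ofNat]

theorem chiA_p2 (lam mu : K) :
    chiA f lam mu (chevD4.simple 1) = lam⁻¹ * (f lam)⁻¹ * (f (f lam))⁻¹ * mu ^ 2 := by
  have a1 : aOf chevD4 (chevD4.simple 0) (chevD4.simple 1) = -1 := by decide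
  have a2 : aOf chevD4 (chevD4.simple 2) (chevD4.simple 1) = -1 := by decide
  have a3 : aOf chevD4 (chevD4.simple 3) (chevD4.simple 1) = -1 := by decide
  have a4 : aOf chevD4 (chevD4.simple 1) (chevD4.simple 1) = 2 := by decide
  unfold chiA
  rw [a1, a2, a3, a4]
  simp [zpow_ofNat]

/-- the roots `-(p₁+p₂)`, `-(p₃+p₂)`, `-(p₄+p₂)` -/
theorem chiA_4 (lam mu : K) : chiA f lam mu 4 = lam⁻¹ * f lam * f (f lam) * mu⁻¹ := by
  have a1 : aOf chevD4 (chevD4.simple 0) 4 = -1 := by decide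
  have a2 : aOf chevD4 (chevD4.simple 2) 4 = 1 := by decide
  have a3 : aOf chevD4 (chevD4.simple 3) 4 = 1 := by decide
  have a4 : aOf chevD4 (chevD4.simple 1) 4 = -1 := by decide
  unfold chiA
  rw [a1, a2, a3, a4]
  simp

theorem chiA_7 (lam mu : K) : chiA f lam mu 7 = lam * (f lam)⁻¹ * f (f lam) * mu⁻¹ := by
  have a1 : aOf chevD4 (chevD4.simple 0) 7 = 1 := by decide
  have a2 : aOf chevD4 (chevD4.simple 2) 7 = -1 := by decide
  have a3 : aOf chevD4 (chevD4.simple 3) 7 = 1 := by decide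
  have a4 : aOf chevD4 (chevD4.simple 1) 7 = -1 := by decide
  unfold chiA
  rw [a1, a2, a3, a4]
  simp

theorem chiA_8 (lam mu : K) : chiA f lam mu 8 = lam * f lam * (f (f lam))⁻¹ * mu⁻¹ := by
  have a1 : aOf chevD4 (chevD4.simple 0) 8 = 1 := by decide
  have a2 : aOf chevD4 (chevD4.simple 2) 8 = 1 := by decide
  have a3 : aOf chevD4 (chevD4.simple 3) 8 = -1 := by decide
  have a4 : aOf chevD4 (chevD4.simple 1) 8 = -1 := by decide
  unfold chiA
  rw [a1, a2, a3, a4]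
  simp

/-- conjugation of a short root element by an element acting through `f`-conjugate scalars -/
theorem conj_XA {g : GL chevD4.Idx K} {c : K}
    (h1 : ∀ t, g * xU (ctxD4 f hf).hB (chevD4.simple 0) t * g⁻¹ =
      xU (ctxD4 f hf).hB (chevD4.simple 0) (c * t))
    (h3 : ∀ t, g * xU (ctxD4 f hf).hB (chevD4.simple 2) t * g⁻¹ =
      xU (ctxD4 f hf).hB (chevD4.simple 2) (f c * t))
    (h4 : ∀ t, g * xU (ctxD4 f hf).hB (chevD4.simple 3) t * g⁻¹ =
      xU (ctxD4 f hf).hB (chevD4.simple 3) (f (f c) * t)) (t : K) :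
    g * XA f hf t * g⁻¹ = XA f hf (c * t) := by
  rw [XA_eq, XA_eq, mul_one, mul_one, map_mul, map_mul, ← h1, ← h3, ← h4]
  group

theorem torA_conj_XA {lam mu : K} (hl : lam ≠ 0) (hm : mu ≠ 0) (hmu : f mu = mu) (t : K) :
    torA f hf lam mu * XA f hf t * (torA f hf lam mu)⁻¹ = XA f hf (lam ^ 2 * mu⁻¹ * t) := by
  apply conj_XA
  · intro t
    rw [torA_conj f hf hl hm (by decide), chiA_p1]
  · intro t
    rw [torA_conj f hf hl hm (by decide), chiA_p3, map_mul, map_pow, map_inv₀, hmu]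
  · intro t
    rw [torA_conj f hf hl hm (by decide), chiA_p4, map_mul, map_mul, map_pow, map_pow, map_inv₀,
      map_inv₀, hmu, hmu]

end Cfsg.Agent.Helper12.TwGenD4
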