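import Mathlib
import Cfsg.Agent.Helper12.TwGenD4B

set_option autoImplicit false
set_option linter.unusedSectionVars false
set_option linter.unusedSimpArgs false
set_option linter.unusedVariables false

/-!
# Two generators of `³D₄(q)`: the double commutator
-/

namespace Cfsg.Agent.Helper12.TwGenD4

open Cfsg Cfsg.Lie Cfsg.Agent.Helper6 Cfsg.Agent.Helper12.WCl Cfsg.Agent.Helper11.ChevOrbit
  Cfsg.Agent.Helper11.TwReach Cfsg.Agent.Helper11.TwBNA Cfsg.Agent.Helper12.TwoGen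
  Cfsg.Agent.Helper11.TwMain Cfsg.Agent.Helper11.TwBNMain Cfsg.Agent.Helper11.TwBND
  Cfsg.Agent.Helper11.TwCtx Cfsg.Agent.Helper11.TwTorA Cfsg.Agent.Helper11.TwBNC

variable {K : Type*} [Field K] {q : ℕ} (f : K ≃+* K) (hf : ∀ x, f (f (f x)) = x)

/-- the representative `n_{J₂} n_{J₁}` of the twisted Coxeter element -/
noncomputable def nC : GL chevD4.Idx K := nJ (ctxD4 f hf).hB [0, 2, 3, 1]

theorem nJ_append (hB : BasicOK chevD4) (J₁ J₂ : List ℕ) :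
    nJ (F := K) hB (J₁ ++ J₂) = nJ hB J₁ * nJ hB J₂ := by
  unfold nJ
  rw [List.map_append, List.prod_append]

theorem nC_eq : nC f hf = nJ (ctxD4 f hf).hB [0, 2, 3] * nJ (ctxD4 f hf).hB [1] :=
  nJ_append (ctxD4 f hf).hB [0, 2, 3] [1]

theorem nC_lt : ∀ i ∈ [0, 2, 3, 1], i < chevD4.rank := by decide

theorem nC_mem_normalizer :
    nC f hf ∈ Subgroup.normalizer (chevD4.diagonalSubgroup K : Set (GL chevD4.Idx K)) :=
  nL_mem_normalizer (Helper11.TwBNData.bnData_DE K (by simp)) [0, 2, 3, 1] nC_lt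

theorem nC_conj {s : ℕ} (hs : s < chevD4.nroots) (t : K) :
    nC f hf * xU (ctxD4 f hf).hB s t * (nC f hf)⁻¹ =
      xU (ctxD4 f hf).hB (wJ chevD4 [0, 2, 3, 1] s) (((etaJ chevD4 [0, 2, 3, 1] s : ℤ) : K) * t) :=
  nJ_conj_xU (ctxD4 f hf).hB (ctxD4 f hf).hAll nC_lt hs t

theorem etaJ_sq (s : ℕ) (hs : s < chevD4.nroots) :
    ((etaJ chevD4 [0, 2, 3, 1] s : ℤ) : K) * ((etaJ chevD4 [0, 2, 3, 1] s : ℤ) : K) = 1 := by
  have : ∀ s < chevD4.nroots, etaJ chevD4 [0, 2, 3, 1] s * etaJ chevD4 [0, 2, 3, 1] s = 1 := by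
    decide +kernel
  rw [← Int.cast_mul, this s hs, Int.cast_one]

/-- the double commutator lies in `X_a`, for an abstract torus element -/
theorem double_XA' {h : GL chevD4.Idx K} (hhH : h ∈ chevD4.diagonalSubgroup K) (χ : ℕ → K)
    (hχ0 : ∀ r, χ r ≠ 0)
    (hact : ∀ {r : ℕ}, r < chevD4.nroots → ∀ t : K,
      h * xU (ctxD4 f hf).hB r t * h⁻¹ = xU (ctxD4 f hf).hB r (χ r * t)) (β : K)
    (e1 : χ (chevD4.simple 0) = β) (e3 : χ (chevD4.simple 2) = f β)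
    (e4' : χ (chevD4.simple 3) = f (f β)) (e4 : (χ 4)⁻¹ = β) (e7 : (χ 7)⁻¹ = f β)
    (e8 : (χ 8)⁻¹ = f (f β)) :
    h * (h * (XA f hf 1 * nC f hf) * h⁻¹ * (XA f hf 1 * nC f hf)⁻¹) * h⁻¹ *
      (h * (XA f hf 1 * nC f hf) * h⁻¹ * (XA f hf 1 * nC f hf)⁻¹)⁻¹ =
      XA f hf ((β - 1) * (β - β * β)) := by
  have Δ : BNData chevD4 K := Helper11.TwBNData.bnData_DE K (by simp)
  have hkH : nC f hf * h⁻¹ * (nC f hf)⁻¹ ∈ chevD4.diagonalSubgroup K :=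
    (Subgroup.mem_normalizer_iff.1 (nC_mem_normalizer f hf) h⁻¹).1 (Subgroup.inv_mem _ hhH)
  -- the action of `h⁻¹`
  have hinv : ∀ {r : ℕ}, r < chevD4.nroots → ∀ t : K,
      h⁻¹ * xU (ctxD4 f hf).hB r t * (h⁻¹)⁻¹ = xU (ctxD4 f hf).hB r ((χ r)⁻¹ * t) := by
    intro r hr t
    have := hact hr ((χ r)⁻¹ * t)
    rw [← mul_assoc, mul_inv_cancel₀ (hχ0 r), one_mul] at this
    rw [← this]; group
  have w4 : wJ chevD4 [0, 2, 3, 1] 4 = chevD4.simple 0 := by decide +kernel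
  have w7 : wJ chevD4 [0, 2, 3, 1] 7 = chevD4.simple 2 := by decide +kernel
  have w8 : wJ chevD4 [0, 2, 3, 1] 8 = chevD4.simple 3 := by decide +kernel
  have c4 := fun t => nC_conj f hf (s := 4) (by decide) t
  have c7 := fun t => nC_conj f hf (s := 7) (by decide) t
  have c8 := fun t => nC_conj f hf (s := 8) (by decide) t
  rw [w4] at c4
  rw [w7] at c7
  rw [w8] at c8
  have k4 := conj_transport Δ (etaJ_sq 4 (by decide)) c4 (hinv (by decide))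
  have k7 := conj_transport Δ (etaJ_sq 7 (by decide)) c7 (hinv (by decide))
  have k8 := conj_transport Δ (etaJ_sq 8 (by decide)) c8 (hinv (by decide))
  rw [e4] at k4
  rw [e7] at k7
  rw [e8] at k8
  have hk : ∀ t, (nC f hf * h⁻¹ * (nC f hf)⁻¹) * XA f hf t * (nC f hf * h⁻¹ * (nC f hf)⁻¹)⁻¹ =
      XA f hf (β * t) := conj_XA f hf k4 k7 k8
  have hactX : ∀ t, h * XA f hf t * h⁻¹ = XA f hf (β * t) := by
    apply conj_XA
    · intro t; rw [hact (by decide), e1]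
    · intro t; rw [hact (by decide), e3]
    · intro t; rw [hact (by decide), e4']
  have hg : ∀ t, (h * nC f hf * h⁻¹ * (nC f hf)⁻¹) * XA f hf t *
      (h * nC f hf * h⁻¹ * (nC f hf)⁻¹)⁻¹ = XA f hf (β * β * t) := by
    intro t
    have e : (h * nC f hf * h⁻¹ * (nC f hf)⁻¹) * XA f hf t * (h * nC f hf * h⁻¹ * (nC f hf)⁻¹)⁻¹ =
        h * ((nC f hf * h⁻¹ * (nC f hf)⁻¹) * XA f hf t * (nC f hf * h⁻¹ * (nC f hf)⁻¹)⁻¹) * h⁻¹ := by
      group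
    rw [e, hk, hactX, mul_assoc]
  have hc : h * (h * nC f hf * h⁻¹ * (nC f hf)⁻¹) = (h * nC f hf * h⁻¹ * (nC f hf)⁻¹) * h := by
    have e1 : h * nC f hf * h⁻¹ * (nC f hf)⁻¹ = h * (nC f hf * h⁻¹ * (nC f hf)⁻¹) := by group
    rw [e1, mul_assoc h (nC f hf * h⁻¹ * (nC f hf)⁻¹) h, ← diagonal_comm Δ hhH hkH]
  exact double_comm (XA f hf) (XA_mul f hf) h (nC f hf) β (β * β) hactX hg hc

theorem chiA_ne_zero {lam mu : K} (hl : lam ≠ 0) (hm : mu ≠ 0) (r : ℕ) : chiA f lam mu r ≠ 0 := by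
  unfold chiA
  exact mul_ne_zero (mul_ne_zero (mul_ne_zero (zpow_ne_zero _ hl)
    (zpow_ne_zero _ ((map_ne_zero f).2 hl)))
    (zpow_ne_zero _ ((map_ne_zero f).2 ((map_ne_zero f).2 hl)))) (zpow_ne_zero _ hm)

/-- the double commutator lies in `X_a` -/
theorem double_XA {lam mu : K} (hl : lam ≠ 0) (hm : mu ≠ 0) (hmu : f mu = mu)
    (hb : lam * f lam * f (f lam) = mu ^ 2) :
    torA f hf lam mu * (torA f hf lam mu * (XA f hf 1 * nC f hf) * (torA f hf lam mu)⁻¹ *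
        (XA f hf 1 * nC f hf)⁻¹) * (torA f hf lam mu)⁻¹ *
      (torA f hf lam mu * (XA f hf 1 * nC f hf) * (torA f hf lam mu)⁻¹ *
        (XA f hf 1 * nC f hf)⁻¹)⁻¹ =
      XA f hf ((lam ^ 2 * mu⁻¹ - 1) * (lam ^ 2 * mu⁻¹ - lam ^ 2 * mu⁻¹ * (lam ^ 2 * mu⁻¹))) := by
  have e4 : (chiA f lam mu 4)⁻¹ = lam ^ 2 * mu⁻¹ := by
    rw [chiA_4]
    have : lam⁻¹ * f lam * f (f lam) * mu⁻¹ = lam⁻¹ * lam⁻¹ * (lam * f lam * f (f lam)) * mu⁻¹ := by
      field_simp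
    rw [this, hb]
    field_simp
  have e7 : (chiA f lam mu 7)⁻¹ = f (lam ^ 2 * mu⁻¹) := by
    rw [← e4, chiA_4, chiA_7, map_inv₀, map_mul, map_mul, map_mul, map_inv₀, map_inv₀, hf, hmu]
    congr 1
    ring
  have e8 : (chiA f lam mu 8)⁻¹ = f (f (lam ^ 2 * mu⁻¹)) := by
    rw [← e7, chiA_7, chiA_8, map_inv₀, map_mul, map_mul, map_mul, map_inv₀, map_inv₀, hf, hmu]
    congr 1
    ring
  refine double_XA' f hf (torA_mem_diagonal f hf hl hm) (chiA f lam mu) (chiA_ne_zero f hl hm)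
    (fun hr t => torA_conj f hf hl hm hr t) (lam ^ 2 * mu⁻¹) (chiA_p1 f lam mu) ?_ ?_ e4 e7 e8
  · rw [chiA_p3, map_mul, map_pow, map_inv₀, hmu]
  · rw [chiA_p4, map_mul, map_mul, map_pow, map_pow, map_inv₀, map_inv₀, hmu, hmu]

end Cfsg.Agent.Helper12.TwGenD4
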