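import Mathlib
import Cfsg.Agent.Helper12.TwGenD4C

set_option autoImplicit false
set_option linter.unusedSectionVars false
set_option linter.unusedSimpArgs false
set_option linter.unusedVariables false

/-!
# Two generators of `³D₄(q)`: a subgroup containing the two generators is everything
-/

namespace Cfsg.Agent.Helper12.TwGenD4

open Cfsg Cfsg.Lie Cfsg.Agent.Helper6 Cfsg.Agent.Helper12.WCl Cfsg.Agent.Helper11.ChevOrbit
  Cfsg.Agent.Helper11.TwReach Cfsg.Agent.Helper11.TwBNA Cfsg.Agent.Helper12.TwoGen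
  Cfsg.Agent.Helper11.TwMain Cfsg.Agent.Helper11.TwBNMain Cfsg.Agent.Helper11.TwBND
  Cfsg.Agent.Helper11.TwCtx Cfsg.Agent.Helper11.TwTorA Cfsg.Agent.Helper11.TwBNC

variable {K : Type*} [Field K] {q : ℕ} (f : K ≃+* K) (hf : ∀ x, f (f (f x)) = x)

/-- the negative short root element -/
noncomputable def XAn (t : K) : GL chevD4.Idx K :=
  wn (ctxD4 f hf).hB [0, 2, 3] (orbFun chevD4 f [0, 2, 3] t)

theorem XAn_eq (t : K) :
    XAn f hf t = xU (ctxD4 f hf).hB (chevD4.neg (chevD4.simple 0)) t *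
      (xU (ctxD4 f hf).hB (chevD4.neg (chevD4.simple 2)) (f t) *
        (xU (ctxD4 f hf).hB (chevD4.neg (chevD4.simple 3)) (f (f t)) * 1)) := by
  obtain ⟨e1, e2, e3⟩ := orbFun_val f t
  unfold XAn
  rw [wn_cons, wn_cons, wn_cons, wn_nil, e1, e2, e3]

theorem nC_cube : nC f hf * nC f hf * nC f hf =
    nJ (ctxD4 f hf).hB [0, 2, 3, 1, 0, 2, 3, 1, 0, 2, 3, 1] := by
  have h1 := nJ_append (K := K) (ctxD4 f hf).hB [0, 2, 3, 1] ([0, 2, 3, 1] ++ [0, 2, 3, 1])
  have h2 := nJ_append (K := K) (ctxD4 f hf).hB [0, 2, 3, 1] [0, 2, 3, 1]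
  unfold nC
  rw [mul_assoc, ← h2, ← h1]
  rfl

/-- `n³` maps `X_a` to `X_{-a}` -/
theorem nC_cube_conj (t : K) :
    (nC f hf * nC f hf * nC f hf) * XA f hf t * (nC f hf * nC f hf * nC f hf)⁻¹ =
      XAn f hf (-t) := by
  have hlt : ∀ i ∈ [0, 2, 3, 1, 0, 2, 3, 1, 0, 2, 3, 1], i < chevD4.rank := by decide
  have c := fun (s : ℕ) (hs : s < chevD4.nroots) (t : K) =>
    nJ_conj_xU (ctxD4 f hf).hB (ctxD4 f hf).hAll hlt hs t
  have w1 : wJ chevD4 [0, 2, 3, 1, 0, 2, 3, 1, 0, 2, 3, 1] (chevD4.simple 0) =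
    chevD4.neg (chevD4.simple 0) := by decide +kernel
  have w3 : wJ chevD4 [0, 2, 3, 1, 0, 2, 3, 1, 0, 2, 3, 1] (chevD4.simple 2) =
    chevD4.neg (chevD4.simple 2) := by decide +kernel
  have w4 : wJ chevD4 [0, 2, 3, 1, 0, 2, 3, 1, 0, 2, 3, 1] (chevD4.simple 3) =
    chevD4.neg (chevD4.simple 3) := by decide +kernel
  have s1 : etaJ chevD4 [0, 2, 3, 1, 0, 2, 3, 1, 0, 2, 3, 1] (chevD4.simple 0) = -1 := by
    decide +kernel
  have s3 : etaJ chevD4 [0, 2, 3, 1, 0, 2, 3, 1, 0, 2, 3, 1] (chevD4.simple 2) = -1 := by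
    decide +kernel
  have s4 : etaJ chevD4 [0, 2, 3, 1, 0, 2, 3, 1, 0, 2, 3, 1] (chevD4.simple 3) = -1 := by
    decide +kernel
  have c1 := c (chevD4.simple 0) (by decide)
  have c3 := c (chevD4.simple 2) (by decide)
  have c4 := c (chevD4.simple 3) (by decide)
  rw [w1, s1] at c1
  rw [w3, s3] at c3
  rw [w4, s4] at c4
  rw [nC_cube, XA_eq, XAn_eq, mul_one, mul_one, map_neg, map_neg]
  have e : ∀ x : K, -x = ((-1 : ℤ) : K) * x := by intro x; simp
  rw [e t, e (f t), e (f (f t)), ← c1, ← c3, ← c4]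
  group

theorem pow_conj_XA {h : GL chevD4.Idx K} {β : K}
    (hact : ∀ t, h * XA f hf t * h⁻¹ = XA f hf (β * t)) (j : ℕ) (t : K) :
    h ^ j * XA f hf t * (h ^ j)⁻¹ = XA f hf (β ^ j * t) := by
  induction j generalizing t with
  | zero => simp
  | succ j ih =>
    have e : h ^ (j + 1) * XA f hf t * (h ^ (j + 1))⁻¹ =
        h ^ j * (h * XA f hf t * h⁻¹) * (h ^ j)⁻¹ := by
      rw [pow_succ]; group
    rw [e, hact, ih, pow_succ, mul_assoc]

theorem XA_eq_word (t : K) :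
    wordU (ctxD4 f hf).hB (orbWord chevD4 f true [0, 2, 3] t) = XA f hf t :=
  (orbWord_eq' (ctxD4 f hf).hB f (orbOK_J2 f hf) t).1

theorem XAn_eq_word (t : K) :
    wordU (ctxD4 f hf).hB (orbWord chevD4 f false [0, 2, 3] t) = XAn f hf t :=
  (orbWord_eq' (ctxD4 f hf).hB f (orbOK_J2 f hf) t).2

/-- a subgroup containing `X_a`, `X_{-a}` contains the torus elements `h_{J₂}(a)` -/
theorem hJ_mem_of_XA (S : Subgroup (GL chevD4.Idx K)) (hp : ∀ t, XA f hf t ∈ S)
    (hn : ∀ t, XAn f hf t ∈ S) {a : K} (ha : a ≠ 0) :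
    hJ (ctxD4 f hf).hB [0, 2, 3] (orbFun chevD4 f [0, 2, 3] a) ∈ S := by
  have hO := orbOK_J2 f hf
  obtain ⟨e1, e2, e3⟩ := orbFun_val f a
  have ht : ∀ i ∈ [0, 2, 3], orbFun chevD4 f [0, 2, 3] a (chevD4.simple i) ≠ 0 := by
    intro i hi
    simp only [List.mem_cons, List.not_mem_nil, or_false] at hi
    rcases hi with rfl | rfl | rfl
    · rw [e1]; exact ha
    · rw [e2]; exact (map_ne_zero f).2 ha
    · rw [e3]; exact (map_ne_zero f).2 ((map_ne_zero f).2 ha)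
  have h1 := wn_eq (ctxD4 f hf) hsp_D4 [0, 2, 3] hO.lt (OrbOK.pairwise hO)
    (orbFun chevD4 f [0, 2, 3] a) ht
  rw [orbFun_inv] at h1
  have m4 : nJ (ctxD4 f hf).hB [0, 2, 3] ∈ S := by
    have := nJ_eq (ctxD4 f hf) hsp_D4 hO
    change nJ (ctxD4 f hf).hB [0, 2, 3] =
      wordU (ctxD4 f hf).hB (orbWord chevD4 f true [0, 2, 3] 1) *
        wordU (ctxD4 f hf).hB (orbWord chevD4 f false [0, 2, 3] (-1)) *
        wordU (ctxD4 f hf).hB (orbWord chevD4 f true [0, 2, 3] 1) at this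
    rw [XA_eq_word f hf, XAn_eq_word f hf] at this
    rw [this]
    exact S.mul_mem (S.mul_mem (hp 1) (hn (-1))) (hp 1)
  have : hJ (ctxD4 f hf).hB [0, 2, 3] (orbFun chevD4 f [0, 2, 3] a) =
      (XA f hf a⁻¹)⁻¹ * XAn f hf a * (XA f hf a⁻¹)⁻¹ *
      (nJ (F := K) (ctxD4 f hf).hB [0, 2, 3])⁻¹ := by
    unfold XA XAn
    rw [h1]; group
  rw [this]
  exact S.mul_mem (S.mul_mem (S.mul_mem (S.inv_mem (hp _)) (hn _)) (S.inv_mem (hp _)))
    (S.inv_mem m4)

/-- the character of `h_{J₂}(ν)` on `p₂` -/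
theorem chiJ_p2 (ν : K) :
    chiJ chevD4 [0, 2, 3] (orbFun chevD4 f [0, 2, 3] (-ν⁻¹)) (chevD4.simple 1) =
      ν⁻¹ * (f ν)⁻¹ * (f (f ν))⁻¹ := by
  obtain ⟨e1, e2, e3⟩ := orbFun_val f (-ν⁻¹)
  have a1 : aOf chevD4 (chevD4.simple 0) (chevD4.simple 1) = -1 := by decide
  have a2 : aOf chevD4 (chevD4.simple 2) (chevD4.simple 1) = -1 := by decide
  have a3 : aOf chevD4 (chevD4.simple 3) (chevD4.simple 1) = -1 := by decide
  rw [chiJ_cons, chiJ_cons, chiJ_cons, chiJ_nil, e1, e2, e3, a1, a2, a3]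
  simp only [map_neg, map_inv₀, inv_neg, neg_neg, inv_inv, mul_one, zpow_neg, zpow_one]
  ring

section assembly

variable [Fintype K] (hfq : ∀ x, f x = x ^ q)
include hfq

/-- a subgroup containing the two generators contains `³D₄(q)` -/
theorem le_of_mem (S : Subgroup (GL chevD4.Idx K)) {lam mu : K} (hl : lam ≠ 0) (hm : mu ≠ 0)
    (hmu : f mu = mu) (hb : lam * f lam * f (f lam) = mu ^ 2) (hgen : IsGen (lam ^ 2 * mu⁻¹))
    (hex : ∃ t : K, t ≠ 0 ∧ t ≠ 1)
    (hnorm : ∀ t : K, t ≠ 0 → f t = t → ∃ ν : K, ν ≠ 0 ∧ ν⁻¹ * (f ν)⁻¹ * (f (f ν))⁻¹ = t)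
    (hA : torA f hf lam mu * xU (ctxD4 f hf).hB (chevD4.simple 1) 1 ∈ S)
    (hBm : XA f hf 1 * nC f hf ∈ S) : twistedD4 K q ≤ S := by
  have T := twData_D4 f hfq hf
  have Δ : BNData chevD4 K := Helper11.TwBNData.bnData_DE K (by simp)
  have hhH : torA f hf lam mu ∈ chevD4.diagonalSubgroup K := torA_mem_diagonal f hf hl hm
  -- (a) `h` and `x_{p₂}(1)` lie in `S`
  have hcomm : Commute (torA f hf lam mu) (xU (ctxD4 f hf).hB (chevD4.simple 1) (1 : K)) := by
    have := torA_conj f hf hl hm (r := chevD4.simple 1) (by decide) 1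
    have e2 : chiA f lam mu (chevD4.simple 1) = 1 := by
      rw [chiA_p2, ← hb]
      have h1 := (map_ne_zero f).2 hl
      have h2 := (map_ne_zero f).2 h1
      field_simp
    rw [e2, one_mul] at this
    have e : torA f hf lam mu * xU (ctxD4 f hf).hB (chevD4.simple 1) (1 : K) =
        (torA f hf lam mu * xU (ctxD4 f hf).hB (chevD4.simple 1) 1 * (torA f hf lam mu)⁻¹) *
          torA f hf lam mu := by group
    unfold Commute SemiconjBy
    rw [e, this]
  have hpow : (torA f hf lam mu * xU (ctxD4 f hf).hB (chevD4.simple 1) (1 : K)) ^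
      (Fintype.card K - 1) = xU (ctxD4 f hf).hB (chevD4.simple 1) (-1) := by
    rw [hcomm.mul_pow, Helper11.ChevSylow.pow_card_sub_one_eq_one (ctxD4 f hf).tab hhH, one_mul,
      xU_one_pow Δ]
    congr 1
    have h1 : 1 ≤ Fintype.card K := Fintype.card_pos
    rw [Nat.cast_sub h1, Nat.cast_card_eq_zero, Nat.cast_one, zero_sub]
  have hxm : xU (ctxD4 f hf).hB (chevD4.simple 1) (-1 : K) ∈ S := by
    rw [← hpow]; exact Subgroup.pow_mem _ hA _
  have hx1 : xU (ctxD4 f hf).hB (chevD4.simple 1) (1 : K) ∈ S := by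
    have := Subgroup.inv_mem _ hxm
    rwa [xU_inv, neg_neg] at this
  have hhS : torA f hf lam mu ∈ S := by
    have := Subgroup.mul_mem _ hA hxm
    rwa [mul_assoc, xU_mul, add_neg_cancel, xU_zero, mul_one] at this
  -- (b) a non-trivial element of `X_a`
  have hdc := double_XA f hf hl hm hmu hb
  set β := lam ^ 2 * mu⁻¹ with hβ
  have hβ0 : β ≠ 0 := mul_ne_zero (pow_ne_zero _ hl) (inv_ne_zero hm)
  have hβ1 : β ≠ 1 := hgen.ne_one hex
  have hs : (β - 1) * (β - β * β) ≠ 0 := by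
    apply mul_ne_zero (sub_ne_zero.2 hβ1)
    have : β - β * β = β * (1 - β) := by ring
    rw [this]
    exact mul_ne_zero hβ0 (sub_ne_zero.2 (Ne.symm hβ1))
  have hsS : XA f hf ((β - 1) * (β - β * β)) ∈ S := by
    rw [← hdc]
    have hz : torA f hf lam mu * (XA f hf 1 * nC f hf) * (torA f hf lam mu)⁻¹ *
        (XA f hf 1 * nC f hf)⁻¹ ∈ S :=
      S.mul_mem (S.mul_mem (S.mul_mem hhS hBm) (S.inv_mem hhS)) (S.inv_mem hBm)
    exact S.mul_mem (S.mul_mem (S.mul_mem hhS hz) (S.inv_mem hhS)) (S.inv_mem hz)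
  -- (c) all of `X_a`
  have hact := torA_conj_XA f hf hl hm hmu
  have hp : ∀ t, XA f hf t ∈ S := by
    intro t
    by_cases ht : t = 0
    · rw [ht, XA_zero]; exact S.one_mem
    obtain ⟨j, hj⟩ := hgen (t / ((β - 1) * (β - β * β))) (div_ne_zero ht hs)
    have := pow_conj_XA f hf hact j ((β - 1) * (β - β * β))
    rw [hj, div_mul_cancel₀ _ hs] at this
    rw [← this]
    exact S.mul_mem (S.mul_mem (S.pow_mem hhS j) hsS) (S.inv_mem (S.pow_mem hhS j))
  -- (d) `n ∈ S`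
  have hnS : nC f hf ∈ S := by
    have : nC f hf = (XA f hf 1)⁻¹ * (XA f hf 1 * nC f hf) := by group
    rw [this]
    exact S.mul_mem (S.inv_mem (hp 1)) hBm
  -- (e) all of `X_{-a}`
  have hn : ∀ t, XAn f hf t ∈ S := by
    intro t
    have := nC_cube_conj f hf (-t)
    rw [neg_neg] at this
    rw [← this]
    have h3 : nC f hf * nC f hf * nC f hf ∈ S := S.mul_mem (S.mul_mem hnS hnS) hnS
    exact S.mul_mem (S.mul_mem h3 (hp _)) (S.inv_mem h3)
  -- (f), (g) `n_{J₂}`, `n_{J₁}`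
  have hO2 := orbOK_J2 f hf
  have hO1 := orbOK_J1 f hf
  have hn2 : nJ (ctxD4 f hf).hB [0, 2, 3] ∈ S := by
    have := nJ_eq (ctxD4 f hf) hsp_D4 hO2
    change nJ (ctxD4 f hf).hB [0, 2, 3] =
      wordU (ctxD4 f hf).hB (orbWord chevD4 f true [0, 2, 3] 1) *
        wordU (ctxD4 f hf).hB (orbWord chevD4 f false [0, 2, 3] (-1)) *
        wordU (ctxD4 f hf).hB (orbWord chevD4 f true [0, 2, 3] 1) at this
    rw [XA_eq_word f hf, XAn_eq_word f hf] at this
    rw [this]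
    exact S.mul_mem (S.mul_mem (hp 1) (hn (-1))) (hp 1)
  have hn1 : nJ (ctxD4 f hf).hB [1] ∈ S := by
    have : nJ (F := K) (ctxD4 f hf).hB [1] = (nJ (ctxD4 f hf).hB [0, 2, 3])⁻¹ * nC f hf := by
      rw [nC_eq]; group
    rw [this]
    exact S.mul_mem (S.inv_mem hn2) hnS
  -- (i) the long root subgroup
  have hlong : ∀ t : K, f t = t → xU (ctxD4 f hf).hB (chevD4.simple 1) t ∈ S := by
    intro t hft
    by_cases ht : t = 0
    · rw [ht, xU_zero]; exact S.one_mem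
    obtain ⟨ν, hν0, hν⟩ := hnorm t ht hft
    have hν' : -ν⁻¹ ≠ 0 := neg_ne_zero.2 (inv_ne_zero hν0)
    have hmem := hJ_mem_of_XA f hf S hp hn hν'
    obtain ⟨e1, e2, e3⟩ := orbFun_val f (-ν⁻¹)
    have hc := hJ_conj Δ [0, 2, 3] (by
      intro i hi
      apply simple_lt_D4
      simp only [List.mem_cons, List.not_mem_nil, or_false] at hi
      rcases hi with rfl | rfl | rfl <;> decide) (orbFun chevD4 f [0, 2, 3] (-ν⁻¹)) (by
      intro i hi
      simp only [List.mem_cons, List.not_mem_nil, or_false] at hi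
      rcases hi with rfl | rfl | rfl
      · rw [e1]; exact hν'
      · rw [e2]; exact (map_ne_zero f).2 hν'
      · rw [e3]; exact (map_ne_zero f).2 ((map_ne_zero f).2 hν')) (r := chevD4.simple 1)
      (by decide) 1
    rw [chiJ_p2, hν, mul_one] at hc
    have hc' : hJ (ctxD4 f hf).hB [0, 2, 3] (orbFun chevD4 f [0, 2, 3] (-ν⁻¹)) *
        xU (ctxD4 f hf).hB (chevD4.simple 1) 1 *
        (hJ (ctxD4 f hf).hB [0, 2, 3] (orbFun chevD4 f [0, 2, 3] (-ν⁻¹)))⁻¹ =
        xU (ctxD4 f hf).hB (chevD4.simple 1) t := hc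
    rw [← hc']
    exact S.mul_mem (S.mul_mem hmem hx1) (S.inv_mem hmem)
  -- (j) the negative long root subgroup
  have hlongn : ∀ t : K, f t = t → xU (ctxD4 f hf).hB (chevD4.neg (chevD4.simple 1)) t ∈ S := by
    intro t hft
    have := nJ_conj_wp (ctxD4 f hf) Δ hsp_D4 [1] hO1.lt (OrbOK.pairwise hO1) (fun _ => -t)
    rw [wp_cons, wp_nil, wn_cons, wn_nil, mul_one, mul_one, neg_neg] at this
    rw [← this]
    exact S.mul_mem (S.mul_mem hn1 (hlong (-t) (by rw [map_neg, hft]))) (S.inv_mem hn1)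
  -- (k) everything
  apply T.hgen_le S
  intro J hJ b a ha
  simp only [orbs_D4, List.mem_cons, List.not_mem_nil, or_false] at hJ
  rcases hJ with rfl | rfl
  · have hfa : f a = a := ha rfl
    cases b with
    | true =>
      have : wordU (ctxD4 f hf).hB (orbWord chevD4 (ctxD4 f hf).f true [1] a) =
          xU (ctxD4 f hf).hB (chevD4.simple 1) a := by
        simp [orbWord, Helper11.TwFix.wordU_cons', Helper11.TwFix.wordU_nil']
      rw [this]
      exact hlong a hfa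
    | false =>
      have : wordU (ctxD4 f hf).hB (orbWord chevD4 (ctxD4 f hf).f false [1] a) =
          xU (ctxD4 f hf).hB (chevD4.neg (chevD4.simple 1)) a := by
        simp [orbWord, Helper11.TwFix.wordU_cons', Helper11.TwFix.wordU_nil']
      rw [this]
      exact hlongn a hfa
  · cases b with
    | true =>
      have := XA_eq_word f hf a
      change wordU (ctxD4 f hf).hB (orbWord chevD4 (ctxD4 f hf).f true [0, 2, 3] a) = _ at this
      rw [this]
      exact hp a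
    | false =>
      have := XAn_eq_word f hf a
      change wordU (ctxD4 f hf).hB (orbWord chevD4 (ctxD4 f hf).f false [0, 2, 3] a) = _ at this
      rw [this]
      exact hn a

end assembly

end Cfsg.Agent.Helper12.TwGenD4
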