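import Mathlib
import Cfsg.Agent.Helper12.D4RelB
import Cfsg.Agent.Helper12.TwGenD4D

set_option autoImplicit false
set_option linter.unusedSectionVars false
set_option linter.unusedVariables false
set_option linter.unusedSimpArgs false

/-! Relations of `³D₄(q)`, part C: the Weyl element `n_a` and the torus element `h₀`, inside `GL`. -/

namespace Cfsg.Agent.Helper12.D4R

open Cfsg Cfsg.Lie Cfsg.Agent.Helper6 Cfsg.Agent.Helper11 Cfsg.Agent.Helper11.TwReach
  Cfsg.Agent.Helper11.TwMain Cfsg.Agent.Helper11.TwCtx Cfsg.Agent.Helper12.TwGenD4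

variable {K : Type*} [Field K] (f : K ≃+* K) (hf : ∀ x, f (f (f x)) = x)

/-- the inverse of `n_{p₁} n_{p₃} n_{p₄}` -/
noncomputable def naG : GL chevD4.Idx K := (nJ hB4 [0, 2, 3])⁻¹

theorem hAll4 : ∀ i < chevD4.rank, SimpleAll chevD4 i :=
  fun i hi => simpleAll_of_tabulated (by simp [IsTabulated]) hi

theorem X_mul_naG {s : ℕ} (hs : s < chevD4.nroots) (t : K) :
    X s t * naG = naG * X (wJ chevD4 [0, 2, 3] s) (((etaJ chevD4 [0, 2, 3] s : ℤ) : K) * t) := by
  have h := nJ_conj_xU (F := K) hB4 hAll4 (J := [0, 2, 3]) (by decide) hs t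
  unfold naG X
  rw [← h]
  group

theorem rel_na_z (w : K) : zG w * (naG : GL chevD4.Idx K) = naG * zG w := by
  unfold zG
  rw [X_mul_naG (by decide)]
  have h1 : wJ chevD4 [0, 2, 3] 23 = 23 := by decide
  have h2 : etaJ chevD4 [0, 2, 3] 23 = 1 := by decide
  rw [h1, h2]
  simp

theorem rel_na_y (v : K) : yG v * (naG : GL chevD4.Idx K) = naG * eG v := by
  unfold yG eG
  rw [X_mul_naG (by decide)]
  have h1 : wJ chevD4 [0, 2, 3] 22 = 14 := by decide
  have h2 : etaJ chevD4 [0, 2, 3] 22 = 1 := by decide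
  rw [h1, h2]
  simp

theorem rel_na_e (s : K) : eG s * (naG : GL chevD4.Idx K) = naG * yG (-s) := by
  unfold yG eG
  rw [X_mul_naG (by decide)]
  have h1 : wJ chevD4 [0, 2, 3] 14 = 22 := by decide
  have h2 : etaJ chevD4 [0, 2, 3] 14 = -1 := by decide
  rw [h1, h2]
  simp

/-- the torus element -/
noncomputable def h0G (lam : K) : GL chevD4.Idx K :=
  (torA f hf lam (lam * f lam * f (f lam)))⁻¹

theorem X_mul_h0G {lam : K} (hl : lam ≠ 0) {r : ℕ} (hr : r < chevD4.nroots) (t : K) :
    X r t * h0G f hf lam = h0G f hf lam * X r (chiA f lam (lam * f lam * f (f lam)) r * t) := by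
  have hm : lam * f lam * f (f lam) ≠ 0 :=
    mul_ne_zero (mul_ne_zero hl ((map_ne_zero f).2 hl)) ((map_ne_zero f).2 ((map_ne_zero f).2 hl))
  have h := torA_conj f hf hl hm hr t
  unfold h0G
  have e : X r (chiA f lam (lam * f lam * f (f lam)) r * t) =
      xU (ctxD4 f hf).hB r (chiA f lam (lam * f lam * f (f lam)) r * t) := rfl
  rw [e, ← h]
  have e2 : xU (ctxD4 f hf).hB r t = X r t := rfl
  rw [e2]
  group

theorem chiA_val (lam mu : K) (r : ℕ) (a0 a1 a2 a3 : ℤ)
    (h0 : aOf chevD4 (chevD4.simple 0) r = a0) (h1 : aOf chevD4 (chevD4.simple 1) r = a1)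
    (h2 : aOf chevD4 (chevD4.simple 2) r = a2) (h3 : aOf chevD4 (chevD4.simple 3) r = a3) :
    chiA f lam mu r = lam ^ a0 * (f lam) ^ a2 * (f (f lam)) ^ a3 * mu ^ a1 := by
  unfold chiA
  rw [h0, h1, h2, h3]

section values

variable {lam : K} (hl : lam ≠ 0)
include hl hf

theorem chiA_22 : chiA f lam (lam * f lam * f (f lam)) 22 = 1 := by
  have h1 := (map_ne_zero f).2 hl
  have h2 := (map_ne_zero f).2 h1
  rw [chiA_val f lam _ 22 1 (-1) 1 1 (by decide) (by decide) (by decide) (by decide)]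
  simp only [zpow_one, zpow_neg]
  field_simp

theorem chiA_23 : chiA f lam (lam * f lam * f (f lam)) 23 = lam * f lam * f (f lam) := by
  rw [chiA_val f lam _ 23 0 1 0 0 (by decide) (by decide) (by decide) (by decide)]
  simp

theorem chiA_19 : chiA f lam (lam * f lam * f (f lam)) 19 = lam ^ 2 := by
  have h1 := (map_ne_zero f).2 hl
  have h2 := (map_ne_zero f).2 h1
  rw [chiA_val f lam _ 19 1 1 (-1) (-1) (by decide) (by decide) (by decide) (by decide)]
  simp only [zpow_one, zpow_neg]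
  field_simp

theorem chiA_16 : chiA f lam (lam * f lam * f (f lam)) 16 = (f lam) ^ 2 := by
  have h1 := (map_ne_zero f).2 hl
  have h2 := (map_ne_zero f).2 h1
  rw [chiA_val f lam _ 16 (-1) 1 1 (-1) (by decide) (by decide) (by decide) (by decide)]
  simp only [zpow_one, zpow_neg]
  field_simp

theorem chiA_15 : chiA f lam (lam * f lam * f (f lam)) 15 = (f (f lam)) ^ 2 := by
  have h1 := (map_ne_zero f).2 hl
  have h2 := (map_ne_zero f).2 h1
  rw [chiA_val f lam _ 15 (-1) 1 (-1) 1 (by decide) (by decide) (by decide) (by decide)]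
  simp only [zpow_one, zpow_neg]
  field_simp

theorem chiA_17 : chiA f lam (lam * f lam * f (f lam)) 17 = lam⁻¹ * f lam * f (f lam) := by
  rw [chiA_val f lam _ 17 (-1) 0 1 1 (by decide) (by decide) (by decide) (by decide)]
  simp

theorem chiA_20 : chiA f lam (lam * f lam * f (f lam)) 20 = lam * (f lam)⁻¹ * f (f lam) := by
  rw [chiA_val f lam _ 20 1 0 (-1) 1 (by decide) (by decide) (by decide) (by decide)]
  simp

theorem chiA_21 : chiA f lam (lam * f lam * f (f lam)) 21 = lam * f lam * (f (f lam))⁻¹ := by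
  rw [chiA_val f lam _ 21 1 0 1 (-1) (by decide) (by decide) (by decide) (by decide)]
  simp

theorem rel_h0_y (v : K) : yG v * h0G f hf lam = h0G f hf lam * yG v := by
  unfold yG
  rw [X_mul_h0G f hf hl (by decide), chiA_22 f hf hl, one_mul]

theorem rel_h0_z (w : K) :
    zG w * h0G f hf lam = h0G f hf lam * zG (lam * f lam * f (f lam) * w) := by
  unfold zG
  rw [X_mul_h0G f hf hl (by decide), chiA_23 f hf hl]

theorem rel_h0_d (t : K) : dG f t * h0G f hf lam = h0G f hf lam * dG f (lam ^ 2 * t) := by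
  unfold dG
  rw [mul_assoc, mul_assoc, X_mul_h0G f hf hl (by decide), ← mul_assoc (X 16 _),
    X_mul_h0G f hf hl (by decide), ← mul_assoc (X 19 _), ← mul_assoc (X 19 _),
    X_mul_h0G f hf hl (by decide), chiA_19 f hf hl, chiA_16 f hf hl, chiA_15 f hf hl]
  simp only [mul_assoc, map_mul, map_pow]
  ring_nf

theorem rel_h0_c (u : K) :
    cG f u * h0G f hf lam = h0G f hf lam * cG f (lam⁻¹ * f lam * f (f lam) * u) := by
  unfold cG
  rw [mul_assoc, mul_assoc, X_mul_h0G f hf hl (by decide), ← mul_assoc (X 20 _),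
    X_mul_h0G f hf hl (by decide), ← mul_assoc (X 21 _), ← mul_assoc (X 21 _),
    X_mul_h0G f hf hl (by decide), chiA_21 f hf hl, chiA_20 f hf hl, chiA_17 f hf hl]
  simp only [mul_assoc, map_mul, map_inv₀, hf]
  ring_nf

end values

end Cfsg.Agent.Helper12.D4R
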