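import Mathlib
import Cfsg.Agent.Helper12.D4RelC

set_option autoImplicit false
set_option linter.unusedSectionVars false
set_option linter.unusedVariables false
set_option linter.unusedSimpArgs false

/-! Relations of `³D₄(q)`, part D: membership of the elements in the twisted group. -/

namespace Cfsg.Agent.Helper12.D4R

open Cfsg Cfsg.Lie Cfsg.Agent.Helper6 Cfsg.Agent.Helper11 Cfsg.Agent.Helper11.TwReach
  Cfsg.Agent.Helper11.TwMain Cfsg.Agent.Helper11.TwCtx Cfsg.Agent.Helper12.TwGenD4
  Cfsg.Agent.Helper11.TwBNMain Cfsg.Agent.Helper11.TwBND Cfsg.Agent.Helper11.TwBNA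
  Cfsg.Agent.Helper11.ChevGraphAut Cfsg.Agent.Helper11.ChevOrbit Cfsg.Agent.Helper11.TwTorA
  Cfsg.Agent.Helper11.TwTables

variable {K : Type*} [Field K] {q : ℕ} (f : K ≃+* K) (hfq : ∀ x, f x = x ^ q)
  (hf : ∀ x, f (f (f x)) = x)
include hfq hf

/-- a `σ`-fixed class element lies in `³D₄(q)` -/
theorem mem_of_cls {C : List ℕ} (hC : C ∈ (ctxD4 f hf).cls) (t : ℕ → K)
    (h : ∀ r ∈ C, (ctxD4 f hf).tw t r = t r) :
    wordU (ctxD4 f hf).hB (C.map fun r => (r, t r)) ∈ twistedD4 K q := by
  have T := twData_D4 f hfq hf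
  apply T.hUfix
  refine ⟨(ctxD4 f hf).cls_fix hC t h, ?_⟩
  apply wordU_mem_posUnipotent (ctxD4 f hf) T.bn T.hsp
  intro p hp
  rw [List.mem_map] at hp
  obtain ⟨r, hr, rfl⟩ := hp
  exact ((ctxD4 f hf).hcls C hC).1.pos r hr

theorem zG_mem {w : K} (hw : f w = w) : zG w ∈ twistedD4 K q := by
  have h := mem_of_cls f hfq hf (C := [23]) (show [23] ∈ cls_D4 by decide) (fun _ => w) (by
    intro r hr
    rw [List.mem_singleton] at hr
    subst hr
    rw [Ctx.tw_apply]
    show ((eps_D4a (sig_D4b 23) : ℤ) : K) * f w = w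
    have e1 : sig_D4b 23 = 23 := by decide
    have e2 : eps_D4a 23 = 1 := by decide
    rw [e1, e2, hw]
    simp)
  have e : wordU (ctxD4 f hf).hB ([23].map fun r => (r, (fun _ => w) r)) = zG w := by
    simp [wordU, zG, X]
  rwa [e] at h

theorem yG_mem {v : K} (hv : f v = v) : yG v ∈ twistedD4 K q := by
  have h := mem_of_cls f hfq hf (C := [22]) (show [22] ∈ cls_D4 by decide) (fun _ => v) (by
    intro r hr
    rw [List.mem_singleton] at hr
    subst hr
    rw [Ctx.tw_apply]
    show ((eps_D4a (sig_D4b 22) : ℤ) : K) * f v = v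
    have e1 : sig_D4b 22 = 22 := by decide
    have e2 : eps_D4a 22 = 1 := by decide
    rw [e1, e2, hv]
    simp)
  have e : wordU (ctxD4 f hf).hB ([22].map fun r => (r, (fun _ => v) r)) = yG v := by
    simp [wordU, yG, X]
  rwa [e] at h

theorem eG_mem {s : K} (hs : f s = s) : eG s ∈ twistedD4 K q := by
  have h := mem_of_cls f hfq hf (C := [14]) (show [14] ∈ cls_D4 by decide) (fun _ => s) (by
    intro r hr
    rw [List.mem_singleton] at hr
    subst hr
    rw [Ctx.tw_apply]
    show ((eps_D4a (sig_D4b 14) : ℤ) : K) * f s = s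
    have e1 : sig_D4b 14 = 14 := by decide
    have e2 : eps_D4a 14 = 1 := by decide
    rw [e1, e2, hs]
    simp)
  have e : wordU (ctxD4 f hf).hB ([14].map fun r => (r, (fun _ => s) r)) = eG s := by
    simp [wordU, eG, X]
  rwa [e] at h

theorem cG_mem (u : K) : cG f u ∈ twistedD4 K q := by
  have h := mem_of_cls f hfq hf (C := [21, 20, 17]) (show [21, 20, 17] ∈ cls_D4 by decide)
    (fun r => if r = 21 then -f (f u) else if r = 20 then -f u else u) (by
    intro r hr
    simp only [List.mem_cons, List.not_mem_nil, or_false] at hr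
    rw [Ctx.tw_apply]
    show ((eps_D4a (sig_D4b r) : ℤ) : K) * f ((fun r => if r = 21 then -f (f u) else
      if r = 20 then -f u else u) (sig_D4b r)) = _
    rcases hr with rfl | rfl | rfl
    · have e1 : sig_D4b 21 = 20 := by decide
      have e2 : eps_D4a 20 = 1 := by decide
      rw [e1, e2]
      simp
    · have e1 : sig_D4b 20 = 17 := by decide
      have e2 : eps_D4a 17 = -1 := by decide
      rw [e1, e2]
      simp
    · have e1 : sig_D4b 17 = 21 := by decide
      have e2 : eps_D4a 21 = -1 := by decide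
      rw [e1, e2]
      simp [hf])
  have e : wordU (ctxD4 f hf).hB ([21, 20, 17].map fun r =>
      (r, (fun r => if r = 21 then -f (f u) else if r = 20 then -f u else u) r)) = cG f u := by
    simp [wordU, cG, X]
  rwa [e] at h

theorem dG_mem (t : K) : dG f t ∈ twistedD4 K q := by
  have h := mem_of_cls f hfq hf (C := [19, 16, 15]) (show [19, 16, 15] ∈ cls_D4 by decide)
    (fun r => if r = 19 then t else if r = 16 then -f t else -f (f t)) (by
    intro r hr
    simp only [List.mem_cons, List.not_mem_nil, or_false] at hr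
    rw [Ctx.tw_apply]
    show ((eps_D4a (sig_D4b r) : ℤ) : K) * f ((fun r => if r = 19 then t else
      if r = 16 then -f t else -f (f t)) (sig_D4b r)) = _
    rcases hr with rfl | rfl | rfl
    · have e1 : sig_D4b 19 = 15 := by decide
      have e2 : eps_D4a 15 = -1 := by decide
      rw [e1, e2]
      simp [hf]
    · have e1 : sig_D4b 16 = 19 := by decide
      have e2 : eps_D4a 19 = -1 := by decide
      rw [e1, e2]
      simp
    · have e1 : sig_D4b 15 = 16 := by decide
      have e2 : eps_D4a 16 = 1 := by decide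
      rw [e1, e2]
      simp)
  have e : wordU (ctxD4 f hf).hB ([19, 16, 15].map fun r =>
      (r, (fun r => if r = 19 then t else if r = 16 then -f t else -f (f t)) r)) = dG f t := by
    simp [wordU, dG, X]
  rwa [e] at h

theorem aG_mem (t : K) : aG f t ∈ twistedD4 K q := by
  have h := mem_of_cls f hfq hf (C := [18, 13, 12]) (show [18, 13, 12] ∈ cls_D4 by decide)
    (fun r => if r = 18 then t else if r = 13 then f t else f (f t)) (by
    intro r hr
    simp only [List.mem_cons, List.not_mem_nil, or_false] at hr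
    rw [Ctx.tw_apply]
    show ((eps_D4a (sig_D4b r) : ℤ) : K) * f ((fun r => if r = 18 then t else
      if r = 13 then f t else f (f t)) (sig_D4b r)) = _
    rcases hr with rfl | rfl | rfl
    · have e1 : sig_D4b 18 = 12 := by decide
      have e2 : eps_D4a 12 = 1 := by decide
      rw [e1, e2]
      simp [hf]
    · have e1 : sig_D4b 13 = 18 := by decide
      have e2 : eps_D4a 18 = 1 := by decide
      rw [e1, e2]
      simp
    · have e1 : sig_D4b 12 = 13 := by decide
      have e2 : eps_D4a 13 = 1 := by decide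
      rw [e1, e2]
      simp)
  have e : wordU (ctxD4 f hf).hB ([18, 13, 12].map fun r =>
      (r, (fun r => if r = 18 then t else if r = 13 then f t else f (f t)) r)) = aG f t := by
    simp [wordU, aG, X]
  rwa [e] at h

theorem fG_mem {s : K} (hs : f s = s) : fG s ∈ twistedD4 K q := by
  have T := twData_D4 f hfq hf
  have h := T.hgen_mem [1] (by simp [orbs_D4]) false s (fun _ => hs)
  have e : wordU (ctxD4 f hf).hB (orbWord chevD4 (ctxD4 f hf).f false [1] s) = fG s := by
    have e9 : chevD4.neg (chevD4.simple 1) = 9 := by decide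
    simp [orbWord, Helper11.TwFix.wordU_cons', Helper11.TwFix.wordU_nil', fG, X, e9]
  rwa [e] at h

theorem naG_mem : (naG : GL chevD4.Idx K) ∈ twistedD4 K q := by
  have T := twData_D4 f hfq hf
  have h := nJ_mem T (J := [0, 2, 3]) (by simp [orbs_D4])
  exact (twistedD4 K q).inv_mem h

theorem h0G_mem {lam : K} (hl : lam ≠ 0) : h0G f hf lam ∈ twistedD4 K q := by
  have T := twData_D4 f hfq hf
  have h1 := (map_ne_zero f).2 hl
  have h2 := (map_ne_zero f).2 h1
  have hm : lam * f lam * f (f lam) ≠ 0 := mul_ne_zero (mul_ne_zero hl h1) h2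
  have hfm : f (lam * f lam * f (f lam)) = lam * f lam * f (f lam) := by
    rw [map_mul, map_mul, hf]
    ring
  apply (twistedD4 K q).inv_mem
  unfold torA
  apply (twistedD4 K q).mul_mem
  · have hl' : -lam⁻¹ ≠ 0 := neg_ne_zero.2 (inv_ne_zero hl)
    obtain ⟨e1, e2, e3⟩ := orbFun_val f (-lam⁻¹)
    apply hJ_orbFun_mem T (J := [0, 2, 3]) (by simp [orbs_D4]) hl' (by simp)
    intro i hi
    simp only [List.mem_cons, List.not_mem_nil, or_false] at hi
    rcases hi with rfl | rfl | rfl
    · show orbFun chevD4 f [0, 2, 3] (-lam⁻¹) (chevD4.simple 0) ≠ 0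
      rw [e1]; exact hl'
    · show orbFun chevD4 f [0, 2, 3] (-lam⁻¹) (chevD4.simple 2) ≠ 0
      rw [e2]; exact (map_ne_zero f).2 hl'
    · show orbFun chevD4 f [0, 2, 3] (-lam⁻¹) (chevD4.simple 3) ≠ 0
      rw [e3]; exact (map_ne_zero f).2 ((map_ne_zero f).2 hl')
  · have hm' : -(lam * f lam * f (f lam))⁻¹ ≠ 0 := neg_ne_zero.2 (inv_ne_zero hm)
    apply hJ_orbFun_mem T (J := [1]) (by simp [orbs_D4]) hm'
    · intro _
      show f (-(lam * f lam * f (f lam))⁻¹) = _
      rw [map_neg, map_inv₀, hfm]
    · intro i hi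
      simp only [orbFun]
      exact hm'

end Cfsg.Agent.Helper12.D4R
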