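import Mathlib
import Cfsg.Agent.Helper12.TwGenD4D

set_option autoImplicit false
set_option linter.unusedSectionVars false
set_option linter.unusedSimpArgs false
set_option linter.unusedVariables false

/-!
# `³D₄(q)` is generated by two elements
-/

namespace Cfsg.Agent.Helper12.TwGenD4

open Cfsg Cfsg.Lie Cfsg.Agent.Helper6 Cfsg.Agent.Helper12.WCl Cfsg.Agent.Helper11.ChevOrbit
  Cfsg.Agent.Helper11.TwReach Cfsg.Agent.Helper11.TwBNA Cfsg.Agent.Helper12.TwoGen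
  Cfsg.Agent.Helper11.TwMain Cfsg.Agent.Helper11.TwBNMain Cfsg.Agent.Helper11.TwBND
  Cfsg.Agent.Helper11.TwCtx Cfsg.Agent.Helper11.TwTorA Cfsg.Agent.Helper11.TwBNC

/-- `q² + q - 3` is prime to `q³ - 1` -/
theorem coprime_aux {q : ℕ} (hq : 2 ≤ q) : Nat.Coprime (q ^ 2 + q + 1 - 4) (q ^ 3 - 1) := by
  obtain ⟨k, rfl⟩ : ∃ k, q = k + 2 := ⟨q - 2, by omega⟩
  have e1 : (k + 2) ^ 3 - 1 = (k + 1) * ((k + 2) ^ 2 + (k + 2) + 1) := by
    have : (k + 2) ^ 3 = (k + 1) * ((k + 2) ^ 2 + (k + 2) + 1) + 1 := by ring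
    omega
  have e2 : (k + 2) ^ 2 + (k + 2) + 1 - 4 = k ^ 2 + 5 * k + 3 := by
    have : (k + 2) ^ 2 + (k + 2) + 1 = k ^ 2 + 5 * k + 3 + 4 := by ring
    omega
  have e3 : (k + 2) ^ 2 + (k + 2) + 1 = k ^ 2 + 5 * k + 3 + 4 := by ring
  rw [e1, e2, e3]
  apply Nat.Coprime.mul_right
  · -- `m + 1 = (k + 1) (k + 4)`
    have h : Nat.Coprime (k ^ 2 + 5 * k + 3) ((k + 1) * (k + 4)) := by
      have : (k + 1) * (k + 4) = k ^ 2 + 5 * k + 3 + 1 := by ring
      rw [this]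
      simp
    exact Nat.Coprime.coprime_dvd_right (dvd_mul_right _ _) h
  · rw [Nat.coprime_self_add_right]
    have hodd : Odd (k ^ 2 + 5 * k + 3) := by
      have : k ^ 2 + 5 * k + 3 = k * (k + 1) + 2 * (2 * k + 1) + 1 := by ring
      rw [this]
      have hev : Even (k * (k + 1)) := Nat.even_mul_succ_self k
      exact (hev.add (even_two_mul _)).add_one
    have : Nat.Coprime (k ^ 2 + 5 * k + 3) 2 := Nat.coprime_two_right.2 hodd
    exact Nat.Coprime.pow_right 2 this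

variable {K : Type*} [Field K] [Fintype K] {q : ℕ}

/-- powers of a generator of the unit group of a field of order `q³` -/
theorem pow_eq_one_iff_of_gen (hK : Fintype.card K = q ^ 3) {ζ : Kˣ}
    (hζ : ∀ x : Kˣ, x ∈ Subgroup.zpowers ζ) (k : ℕ) : (ζ : K) ^ k = 1 ↔ (q ^ 3 - 1) ∣ k := by
  have hord : orderOf ζ = q ^ 3 - 1 := by
    rw [orderOf_eq_card_of_forall_mem_zpowers hζ, Nat.card_units, Nat.card_eq_fintype_card, hK]
  rw [← hord, orderOf_dvd_iff_pow_eq_one, ← Units.val_pow_eq_pow_val, Units.val_eq_one]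

/-- the norm onto the fixed field is surjective -/
theorem exists_norm (hq : 2 ≤ q) (hK : Fintype.card K = q ^ 3) (f : K ≃+* K)
    (hfq : ∀ x, f x = x ^ q) (t : K) (ht : t ≠ 0) (hft : f t = t) :
    ∃ ν : K, ν ≠ 0 ∧ ν⁻¹ * (f ν)⁻¹ * (f (f ν))⁻¹ = t := by
  obtain ⟨ζ, hζ⟩ := IsCyclic.exists_generator (α := Kˣ)
  have hgen : IsGen (ζ : K) := isGen_of_generator hζ
  have hζ0 : (ζ : K) ≠ 0 := ζ.ne_zero
  obtain ⟨j, hj⟩ := hgen t⁻¹ (inv_ne_zero ht)
  -- `ζ ^ (j q) = ζ ^ j`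
  have h1 : ((ζ : K) ^ j) ^ q = (ζ : K) ^ j := by
    rw [hj, ← hfq, map_inv₀, hft]
  have h2 : (ζ : K) ^ (j * (q - 1)) = 1 := by
    have e : j * q = j * (q - 1) + j := by
      obtain ⟨k, rfl⟩ : ∃ k, q = k + 1 := ⟨q - 1, by omega⟩
      simp only [Nat.add_sub_cancel]
      ring
    rw [← pow_mul, e, pow_add] at h1
    exact (mul_eq_right₀ (pow_ne_zero _ hζ0)).1 h1
  have h3 := (pow_eq_one_iff_of_gen hK hζ _).1 h2
  have e1 : q ^ 3 - 1 = (q - 1) * (q ^ 2 + q + 1) := by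
    obtain ⟨k, rfl⟩ : ∃ k, q = k + 1 := ⟨q - 1, by omega⟩
    simp only [Nat.add_sub_cancel]
    have : (k + 1) ^ 3 = k * ((k + 1) ^ 2 + (k + 1) + 1) + 1 := by ring
    omega
  rw [e1, mul_comm j] at h3
  have h4 : (q ^ 2 + q + 1) ∣ j := Nat.dvd_of_mul_dvd_mul_left (by omega) h3
  obtain ⟨j', rfl⟩ := h4
  refine ⟨(ζ : K) ^ j', pow_ne_zero _ hζ0, ?_⟩
  have : ((ζ : K) ^ j')⁻¹ * (f ((ζ : K) ^ j'))⁻¹ * (f (f ((ζ : K) ^ j')))⁻¹ =
      ((ζ : K) ^ ((q ^ 2 + q + 1) * j'))⁻¹ := by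
    rw [hfq, hfq, ← mul_inv, ← mul_inv]
    congr 1
    ring
  rw [this, hj, inv_inv]

/-- **`³D₄(q)` is generated by two elements**, at the level of `GL` -/
theorem exists_two_gen_GL (hq : IsPrimePow q) (hK : Fintype.card K = q ^ 3) :
    ∃ A B : GL chevD4.Idx K, A ∈ twistedD4 K q ∧ B ∈ twistedD4 K q ∧
      twistedD4 K q ≤ Subgroup.closure ({A, B} : Set (GL chevD4.Idx K)) := by
  have hq2 : 2 ≤ q := hq.two_le
  obtain ⟨f, hfq⟩ := Helper11.TwField.exists_frob hq (by norm_num) hK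
  have hf : ∀ x, f (f (f x)) = x := fun x => Helper11.TwField.frob_iterate hK f hfq x
  have T := twData_D4 f hfq hf
  obtain ⟨ζ, hζ⟩ := IsCyclic.exists_generator (α := Kˣ)
  have hgen : IsGen (ζ : K) := isGen_of_generator hζ
  have hζ0 : (ζ : K) ≠ 0 := ζ.ne_zero
  have hcard : (ζ : K) ^ (q ^ 3) = ζ := by rw [← hK, FiniteField.pow_card]
  set lam : K := (ζ : K) ^ 2 with hlam
  set mu : K := (ζ : K) ^ (q ^ 2 + q + 1) with hmudef
  have hl : lam ≠ 0 := pow_ne_zero _ hζ0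
  have hm : mu ≠ 0 := pow_ne_zero _ hζ0
  have hmu : f mu = mu := by
    rw [hfq, hmudef, ← pow_mul]
    have : (q ^ 2 + q + 1) * q = q ^ 3 + (q ^ 2 + q) := by ring
    rw [this, pow_add, hcard, ← pow_succ']
  have hb : lam * f lam * f (f lam) = mu ^ 2 := by
    rw [hfq, hfq, hlam, hmudef]
    ring
  have hβ : IsGen (lam ^ 2 * mu⁻¹) := by
    have hN : 4 ≤ q ^ 2 + q + 1 := by nlinarith
    have e : lam ^ 2 * mu⁻¹ = (ζ : K) ^ ((4 : ℤ) - ((q ^ 2 + q + 1 : ℕ) : ℤ)) := by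
      rw [zpow_sub₀ hζ0, zpow_natCast, hlam, hmudef, div_eq_mul_inv, ← pow_mul]
      norm_num
    rw [e]
    apply isGen_zpow_of_natAbs hζ0 hgen (m := q ^ 2 + q + 1 - 4)
    · omega
    · rw [hK]; exact coprime_aux hq2
  have hex : ∃ t : K, t ≠ 0 ∧ t ≠ 1 := by
    apply exists_ne_zero_ne_one
    rw [hK]
    calc 2 < 2 ^ 3 := by norm_num
      _ ≤ q ^ 3 := Nat.pow_le_pow_left hq2 3
  have hnorm := fun t ht hft => exists_norm hq2 hK f hfq t ht hft
  -- membership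
  have h1mem : xU (ctxD4 f hf).hB (chevD4.simple 1) (1 : K) ∈ twistedD4 K q := by
    have := T.hgen_mem [1] (by simp [orbs_D4]) true 1 (fun _ => map_one _)
    have e : wordU (ctxD4 f hf).hB (orbWord chevD4 (ctxD4 f hf).f true [1] 1) =
        xU (ctxD4 f hf).hB (chevD4.simple 1) (1 : K) := by
      simp [orbWord, Helper11.TwFix.wordU_cons', Helper11.TwFix.wordU_nil']
    rwa [e] at this
  have htor : torA f hf lam mu ∈ twistedD4 K q := by
    unfold torA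
    have hl' : -lam⁻¹ ≠ 0 := neg_ne_zero.2 (inv_ne_zero hl)
    have hm' : -mu⁻¹ ≠ 0 := neg_ne_zero.2 (inv_ne_zero hm)
    obtain ⟨e1, e2, e3⟩ := orbFun_val f (-lam⁻¹)
    apply Subgroup.mul_mem
    · apply hJ_orbFun_mem T (by simp [orbs_D4]) hl' (by simp)
      intro i hi
      simp only [List.mem_cons, List.not_mem_nil, or_false] at hi
      rcases hi with rfl | rfl | rfl
      · erw [e1]; exact hl'
      · erw [e2]; exact (map_ne_zero f).2 hl'
      · erw [e3]; exact (map_ne_zero f).2 ((map_ne_zero f).2 hl')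
    · apply hJ_orbFun_mem T (by simp [orbs_D4]) hm'
      · intro _
        show f (-mu⁻¹) = -mu⁻¹
        rw [map_neg, map_inv₀, hmu]
      · intro i hi
        simp only [orbFun]
        exact hm'
  have hXA : XA f hf 1 ∈ twistedD4 K q := by
    have := T.hgen_mem [0, 2, 3] (by simp [orbs_D4]) true 1 (by simp)
    have e := XA_eq_word f hf 1
    change wordU (ctxD4 f hf).hB (orbWord chevD4 (ctxD4 f hf).f true [0, 2, 3] 1) = _ at e
    rwa [e] at this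
  have hnC : nC f hf ∈ twistedD4 K q := by
    rw [nC_eq]
    exact Subgroup.mul_mem _ (nJ_mem T (by simp [orbs_D4])) (nJ_mem T (by simp [orbs_D4]))
  refine ⟨torA f hf lam mu * xU (ctxD4 f hf).hB (chevD4.simple 1) 1, XA f hf 1 * nC f hf,
    Subgroup.mul_mem _ htor h1mem, Subgroup.mul_mem _ hXA hnC, ?_⟩
  exact le_of_mem f hf hfq _ hl hm hmu hb hβ hex hnorm (Subgroup.subset_closure (by simp))
    (Subgroup.subset_closure (by simp))

/-- **`³D₄(q)` is generated by two elements** -/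
theorem exists_two_gen (hq : IsPrimePow q) (hK : Fintype.card K = q ^ 3) :
    ∃ a b : ↥(twistedD4 K q), Subgroup.closure ({a, b} : Set ↥(twistedD4 K q)) = ⊤ := by
  obtain ⟨A, B, hA, hB, hle⟩ := exists_two_gen_GL hq hK
  exact ⟨⟨A, hA⟩, ⟨B, hB⟩, closure_subtype_eq_top _ hA hB hle⟩

end Cfsg.Agent.Helper12.TwGenD4
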