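import Mathlib
import Cfsg.Agent.Helper12.D4RelD
import Cfsg.Agent.Helper12.TwGenD4E
import Cfsg.Agent.Helper12.D4DegH

set_option autoImplicit false
set_option linter.unusedSectionVars false
set_option linter.unusedVariables false
set_option linter.unusedSimpArgs false

/-! Relations of `³D₄(q)`, part E: the fixed field, its trace and norm, and the relations packaged for
the degree bound. -/

namespace Cfsg.Agent.Helper12.D4R

open Cfsg Cfsg.Lie Cfsg.Agent.Helper6 Cfsg.Agent.Helper11 Cfsg.Agent.Helper12.TwGenD4
  Cfsg.Agent.Helper12.D4Deg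

variable {K : Type*} [Field K]

/-- the fixed field of `f` -/
def fixF (f : K ≃+* K) : Subfield K where
  carrier := {x | f x = x}
  mul_mem' := by
    intro a b ha hb
    show f (a * b) = a * b
    rw [map_mul, ha, hb]
  one_mem' := map_one f
  add_mem' := by
    intro a b ha hb
    show f (a + b) = a + b
    rw [map_add, ha, hb]
  zero_mem' := map_zero f
  neg_mem' := by
    intro a ha
    show f (-a) = -a
    rw [map_neg, ha]
  inv_mem' := by
    intro a ha
    show f a⁻¹ = a⁻¹
    rw [map_inv₀, ha]

theorem mem_fixF (f : K ≃+* K) (x : K) : x ∈ fixF f ↔ f x = x := Iff.rfl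

variable (f : K ≃+* K) (hf : ∀ x, f (f (f x)) = x)

/-- the trace onto the fixed field -/
def trF : K →ₗ[fixF f] fixF f where
  toFun x := ⟨x + f x + f (f x), by
    show f (x + f x + f (f x)) = x + f x + f (f x)
    rw [map_add, map_add, hf]
    ring⟩
  map_add' x y := by
    apply Subtype.ext
    show (x + y) + f (x + y) + f (f (x + y)) = (x + f x + f (f x)) + (y + f y + f (f y))
    rw [map_add, map_add]
    ring
  map_smul' c x := by
    apply Subtype.ext
    have hc : f (c : K) = c := c.2
    show ((c : K) * x) + f ((c : K) * x) + f (f ((c : K) * x)) = (c : K) * (x + f x + f (f x))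
    rw [map_mul, map_mul, hc, hc]
    ring

theorem trF_apply (x : K) : ((trF f hf x : fixF f) : K) = x + f x + f (f x) := rfl

/-- the norm onto the fixed field -/
def nuF (t : K) : fixF f := ⟨t * f t * f (f t), by
  show f (t * f t * f (f t)) = t * f t * f (f t)
  rw [map_mul, map_mul, hf]
  ring⟩

theorem nuF_apply (t : K) : ((nuF f hf t : fixF f) : K) = t * f t * f (f t) := rfl

section finite

variable [Fintype K] {q : ℕ} (hq : 2 ≤ q) (hK : Fintype.card K = q ^ 3) (hfq : ∀ x, f x = x ^ q)
include hq hK hfq

theorem exists_tr_ne_zero : ∃ x : K, x + f x + f (f x) ≠ 0 := by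
  classical
  by_contra hcon
  push Not at hcon
  let p : Polynomial K := Polynomial.X ^ (q ^ 2) + Polynomial.X ^ q + Polynomial.X
  have hq2 : q < q ^ 2 := by nlinarith
  have hdeg : p.natDegree = q ^ 2 := by
    have h1 : (Polynomial.X ^ q + Polynomial.X : Polynomial K).natDegree < q ^ 2 := by
      refine lt_of_le_of_lt (Polynomial.natDegree_add_le _ _) ?_
      rw [Polynomial.natDegree_X_pow, Polynomial.natDegree_X]
      exact max_lt hq2 (by nlinarith)
    show (Polynomial.X ^ (q ^ 2) + Polynomial.X ^ q + Polynomial.X : Polynomial K).natDegree = q ^ 2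
    rw [add_assoc, Polynomial.natDegree_add_eq_left_of_natDegree_lt]
    · exact Polynomial.natDegree_X_pow _
    · rw [Polynomial.natDegree_X_pow]
      exact h1
  have hp0 : p ≠ 0 := by
    intro h0
    rw [h0, Polynomial.natDegree_zero] at hdeg
    have : 0 < q ^ 2 := by positivity
    omega
  have hroots : (Finset.univ : Finset K).val ⊆ p.roots := by
    intro x _
    rw [Polynomial.mem_roots hp0]
    show Polynomial.eval x (Polynomial.X ^ (q ^ 2) + Polynomial.X ^ q + Polynomial.X) = 0
    simp only [Polynomial.eval_add, Polynomial.eval_pow, Polynomial.eval_X]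
    have := hcon x
    rw [hfq, hfq, ← pow_mul, ← sq] at this
    rw [← this]
    ring
  have h1 := Polynomial.card_le_degree_of_subset_roots hroots
  rw [Finset.card_univ, hK, hdeg] at h1
  have : q ^ 2 < q ^ 3 := by
    have : q ^ 3 = q * q ^ 2 := by ring
    have h2 : 0 < q ^ 2 := by positivity
    nlinarith
  omega

theorem trF_surjective : Function.Surjective (trF f hf) := by
  obtain ⟨x₀, hx₀⟩ := exists_tr_ne_zero f hq hK hfq
  have hc : trF f hf x₀ ≠ 0 := by
    intro h
    apply hx₀
    have := congrArg Subtype.val h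
    exact this
  intro s
  refine ⟨(s * (trF f hf x₀)⁻¹) • x₀, ?_⟩
  rw [map_smul, smul_eq_mul, mul_assoc, inv_mul_cancel₀ hc, mul_one]

theorem nuF_surjective : Function.Surjective (nuF f hf) := by
  intro c
  by_cases hc : c = 0
  · refine ⟨0, ?_⟩
    apply Subtype.ext
    rw [nuF_apply, hc]
    simp
  · have hc' : (c : K) ≠ 0 := by
      intro h
      apply hc
      exact Subtype.ext h
    have hfc : f (c : K) = c := c.2
    obtain ⟨ν, hν0, hν⟩ := exists_norm hq hK f hfq (c : K)⁻¹ (inv_ne_zero hc')
      (by rw [map_inv₀, hfc])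
    refine ⟨ν, ?_⟩
    apply Subtype.ext
    rw [nuF_apply]
    have h1 := (map_ne_zero f).2 hν0
    have h2 := (map_ne_zero f).2 h1
    have : (ν * f ν * f (f ν))⁻¹ = (c : K)⁻¹ := by
      rw [← hν, mul_inv, mul_inv]
    exact inv_injective this

theorem exists_lam : ∃ lam : K, lam ≠ 0 ∧ lam ^ 2 ≠ 1 := by
  classical
  by_contra hcon
  push Not at hcon
  let p : Polynomial K := Polynomial.X ^ 3 - Polynomial.X
  have hdeg : p.natDegree = 3 := by
    show (Polynomial.X ^ 3 - Polynomial.X : Polynomial K).natDegree = 3
    rw [Polynomial.natDegree_sub_eq_left_of_natDegree_lt]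
    · exact Polynomial.natDegree_X_pow _
    · rw [Polynomial.natDegree_X_pow, Polynomial.natDegree_X]
      norm_num
  have hp0 : p ≠ 0 := by
    intro h0
    rw [h0, Polynomial.natDegree_zero] at hdeg
    omega
  have hroots : (Finset.univ : Finset K).val ⊆ p.roots := by
    intro x _
    rw [Polynomial.mem_roots hp0]
    show Polynomial.eval x (Polynomial.X ^ 3 - Polynomial.X) = 0
    simp only [Polynomial.eval_sub, Polynomial.eval_pow, Polynomial.eval_X]
    by_cases hx : x = 0
    · rw [hx]
      ring
    · have := hcon x hx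
      have e : x ^ 3 - x = x * (x ^ 2 - 1) := by ring
      rw [e, this, sub_self, mul_zero]
  have h1 := Polynomial.card_le_degree_of_subset_roots hroots
  rw [Finset.card_univ, hK, hdeg] at h1
  have : 8 ≤ q ^ 3 := by
    calc 8 = 2 ^ 3 := by norm_num
      _ ≤ q ^ 3 := Nat.pow_le_pow_left hq 3
  omega

end finite

end Cfsg.Agent.Helper12.D4R
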