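import Mathlib
import Cfsg.Agent.Helper12.D4RelE

set_option autoImplicit false
set_option linter.unusedSectionVars false
set_option linter.unusedVariables false
set_option linter.unusedSimpArgs false

/-! Relations of `³D₄(q)`, part F: the relations packaged for the degree bound. -/

namespace Cfsg.Agent.Helper12.D4R

open Cfsg Cfsg.Lie Cfsg.Agent.Helper6 Cfsg.Agent.Helper11 Cfsg.Agent.Helper12.TwGenD4
  Cfsg.Agent.Helper12.D4Deg

variable {K : Type*} [Field K] [Fintype K] {q : ℕ} (hq : 2 ≤ q) (hK : Fintype.card K = q ^ 3)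
  (f : K ≃+* K) (hfq : ∀ x, f x = x ^ q) (hf : ∀ x, f (f (f x)) = x)

theorem X_ne_one {r : ℕ} (hr : r < chevD4.nroots) {a : K} (ha : a ≠ 0) : X r a ≠ 1 := by
  intro h
  apply ha
  have h2 := congrArg Units.val h
  unfold X at h2
  rw [xU_val, Units.val_one, ← torMat_one (D := chevD4)] at h2
  exact eq_zero_of_x_eq_torMat hB4 hr h2

/-- the relations of `³D₄(q)` -/
noncomputable def relD4 {lam : K} (hl : lam ≠ 0) (hl2 : lam ^ 2 ≠ 1) :
    Rel ↥(twistedD4 K q) ↥(fixF f) K where
  tr := trF f hf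
  nu := nuF f hf
  z w := ⟨zG (w : K), zG_mem f hfq hf w.2⟩
  y v := ⟨yG (v : K), yG_mem f hfq hf v.2⟩
  e s := ⟨eG (s : K), eG_mem f hfq hf s.2⟩
  f s := ⟨fG (s : K), fG_mem f hfq hf s.2⟩
  c u := ⟨cG f u, cG_mem f hfq hf u⟩
  d t := ⟨dG f t, dG_mem f hfq hf t⟩
  a t := ⟨aG f t, aG_mem f hfq hf t⟩
  na := ⟨naG, naG_mem f hfq hf⟩
  h0 := ⟨h0G f hf lam, h0G_mem f hfq hf hl⟩
  k1 := 1
  k2 := 1
  k3 := -1
  k4 := -1
  k5 := 1
  k6 := -1
  kap := lam ^ 2
  hk1 := one_ne_zero
  hk2 := one_ne_zero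
  hk3 := neg_ne_zero.mpr one_ne_zero
  hk4 := neg_ne_zero.mpr one_ne_zero
  hk5 := one_ne_zero
  hk6 := neg_ne_zero.mpr one_ne_zero
  hkap := hl2
  tr_surj := trF_surjective f hf hq hK hfq
  nu_surj := nuF_surjective f hf hq hK hfq
  z_add w w' := Subtype.ext (rel_z_add (w : K) (w' : K))
  y_add v v' := Subtype.ext (rel_y_add (v : K) (v' : K))
  c_add u u' := Subtype.ext (rel_c_add f u u')
  e_add s s' := Subtype.ext (rel_e_add (s : K) (s' : K))
  d_add t t' := Subtype.ext (rel_d_add f t t')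
  yz v w := Subtype.ext (rel_yz (v : K) (w : K))
  cy u v := Subtype.ext (rel_cy f u (v : K))
  cz u w := Subtype.ext (rel_cz f u (w : K))
  ey s v := by
    apply Subtype.ext
    show eG (s : K) * yG (v : K) = yG (v : K) * zG (((1 * s * v : fixF f) : K)) * eG (s : K)
    rw [rel_ey]
    congr 3
    push_cast
    ring
  ec s u := Subtype.ext (rel_ec f (s : K) u)
  ez s w := Subtype.ext (rel_ez (s : K) (w : K))
  fz s w := by
    apply Subtype.ext
    show fG (s : K) * zG (w : K) = zG (w : K) * yG (((1 * s * w : fixF f) : K)) * fG (s : K)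
    rw [rel_fz]
    congr 3
    push_cast
    ring
  fy s v := Subtype.ext (rel_fy (s : K) (v : K))
  fc s u := Subtype.ext (rel_fc f (s : K) u)
  ac t u := by
    apply Subtype.ext
    show aG f t * cG f u = cG f u * yG (((-1 * trF f hf (t * u) : fixF f) : K)) * aG f t
    rw [rel_ac]
    congr 3
    push_cast
    rw [trF_apply]
    unfold trK
    ring
  ay t v := Subtype.ext (rel_ay f t (v : K))
  az t w := Subtype.ext (rel_az f t (w : K))
  dc t u := by
    apply Subtype.ext
    show dG f t * cG f u = cG f u * zG (((-1 * trF f hf (t * u) : fixF f) : K)) * dG f t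
    rw [rel_dc]
    congr 3
    push_cast
    rw [trF_apply]
    unfold trK
    ring
  dy t v := Subtype.ext (rel_dy f t (v : K))
  dz t w := Subtype.ext (rel_dz f t (w : K))
  ae t s := by
    refine ⟨t * (s : K), f t * f (f t) * (s : K), nuF f hf t * s * s, ?_⟩
    apply Subtype.ext
    show eG (s : K) * aG f t = aG f t * (eG (s : K) * dG f (t * (s : K)) *
      cG f (f t * f (f t) * (s : K)) * yG (((1 * nuF f hf t * s : fixF f) : K)) *
      zG (((nuF f hf t * s * s : fixF f) : K)))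
    have e1 : ((1 * nuF f hf t * s : fixF f) : K) = t * f t * f (f t) * (s : K) := by
      push_cast
      rw [nuF_apply]
      ring
    have e2 : ((nuF f hf t * s * s : fixF f) : K) = t * f t * f (f t) * (s : K) * (s : K) := by
      push_cast
      rw [nuF_apply]
    rw [rel_ae f hf t (s : K) s.2, e1, e2]
  na_z w := ⟨w, Subtype.ext (rel_na_z (w : K))⟩
  na_y v := ⟨v, Subtype.ext (rel_na_y (v : K))⟩
  na_e s := by
    apply Subtype.ext
    show eG (s : K) * naG = naG * yG (((-1 * s : fixF f) : K))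
    rw [rel_na_e]
    congr 2
    push_cast
    ring
  h0_y v := Subtype.ext (rel_h0_y f hf hl (v : K))
  h0_c u := ⟨lam⁻¹ * f lam * f (f lam) * u, Subtype.ext (rel_h0_c f hf hl u)⟩
  h0_z w := ⟨nuF f hf lam * w, by
    apply Subtype.ext
    show zG (w : K) * h0G f hf lam = h0G f hf lam * zG (((nuF f hf lam * w : fixF f) : K))
    rw [rel_h0_z f hf hl]
    congr 2⟩
  h0_d t := Subtype.ext (rel_h0_d f hf hl t)

theorem relD4_z {lam : K} (hl : lam ≠ 0) (hl2 : lam ^ 2 ≠ 1) (w : fixF f) :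
    (((relD4 hq hK f hfq hf hl hl2).z w : twistedD4 K q) : GL chevD4.Idx K) = zG (w : K) := rfl

end Cfsg.Agent.Helper12.D4R
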