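import Mathlib
import Cfsg.Agent.Helper12.D4RelF
import Cfsg.Agent.S1067
import Cfsg.Agent.S1071

set_option autoImplicit false
set_option linter.unusedSectionVars false
set_option linter.unusedVariables false

/-! Minimal degree of `³D₄(q)`: the final assembly. -/

namespace Cfsg.Agent.Helper12.D4R

open Cfsg Cfsg.Lie Cfsg.Agent.Helper6 Cfsg.Agent.Helper11 Cfsg.Agent.Helper12.D4Deg

/-- an irreducible representation of degree at least two of a simple group is faithful -/
theorem faithful_of_irreducible {G : Type*} [Group G] [IsSimpleGroup G] (k : ℕ)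
    (ρ : Representation ℂ G (Fin k → ℂ)) (hirr : ρ.IsIrreducible) (hk : 2 ≤ k) :
    Function.Injective ρ := by
  rw [← MonoidHom.ker_eq_bot_iff]
  rcases (MonoidHom.normal_ker ρ).eq_bot_or_eq_top with h | h
  · exact h
  · exfalso
    have htriv : ∀ g : G, ρ g = 1 := by
      intro g
      have : g ∈ ρ.ker := by rw [h]; exact Subgroup.mem_top g
      exact MonoidHom.mem_ker.mp this
    let i0 : Fin k := ⟨0, by omega⟩
    let i1 : Fin k := ⟨1, by omega⟩
    let W : Subrepresentation ρ :=
      { toSubmodule := Submodule.span ℂ {(Pi.single i0 (1 : ℂ) : Fin k → ℂ)}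
        apply_mem_toSubmodule := by
          intro g v hv
          rw [htriv g]
          exact hv }
    have hW : W = ⊥ ∨ W = ⊤ := hirr.eq_bot_or_eq_top W
    rcases hW with h0 | h0
    · have : W.toSubmodule = (⊥ : Subrepresentation ρ).toSubmodule := by rw [h0]
      have hmem : (Pi.single i0 (1 : ℂ) : Fin k → ℂ) ∈ W.toSubmodule :=
        Submodule.subset_span rfl
      rw [this] at hmem
      have h1 : (Pi.single i0 (1 : ℂ) : Fin k → ℂ) = 0 := hmem
      have := congrFun h1 i0
      simp at this
    · have : W.toSubmodule = (⊤ : Subrepresentation ρ).toSubmodule := by rw [h0]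
      have hmem : (Pi.single i1 (1 : ℂ) : Fin k → ℂ) ∈ W.toSubmodule := by
        rw [this]; exact Submodule.mem_top
      obtain ⟨c, hc⟩ := Submodule.mem_span_singleton.mp hmem
      have := congrFun hc i1
      have hne : i1 ≠ i0 := by
        intro h'
        have := congrArg Fin.val h'
        simp [i0, i1] at this
      simp [Pi.single_apply, hne] at this

/-- every irreducible representation of degree at least `2` of `³D₄(q)` has degree at least
`q (q⁴ - q² + 1)` -/
theorem twistedD4_degree_bound {K : Type*} [Field K] [Fintype K] (q : ℕ) (hq : IsPrimePow q)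
    (hK : Fintype.card K = q ^ 3) (k : ℕ)
    (ρ : Representation ℂ (twistedD4 K q) (Fin k → ℂ)) (hirr : ρ.IsIrreducible) (hk : 2 ≤ k) :
    q * (q ^ 4 - q ^ 2 + 1) ≤ k := by
  classical
  obtain ⟨f, hfq⟩ := TwField.exists_frob hq (by norm_num) hK
  have hf : ∀ x, f (f (f x)) = x := fun x => TwField.frob_iterate hK f hfq x
  have hq2 : 2 ≤ q := hq.two_le
  obtain ⟨lam, hl, hl2⟩ := exists_lam f hq2 hK hfq
  haveI : Fintype ↥(twistedD4 K q) := Fintype.ofFinite _
  haveI : Fintype ↥(fixF f) := Fintype.ofFinite _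
  have hF : Fintype.card ↥(fixF f) = q := by
    rw [← Nat.card_eq_fintype_card,
      ← TwField.card_fixed_pow hq.one_lt (by norm_num : 0 < 3) hK]
    apply Nat.card_congr
    exact Equiv.subtypeEquivRight fun x => by rw [mem_fixF, hfq]
  have hG : Fintype.card ↥(twistedD4 K q) =
      q ^ 12 * (q ^ 2 - 1) * (q ^ 6 - 1) * (q ^ 8 + q ^ 4 + 1) := by
    rw [← Nat.card_eq_fintype_card]
    exact Cfsg.Agent.S1067.result hq hK
  obtain ⟨hsimple, -⟩ := Cfsg.Agent.S1071.result hq hK
  haveI := hsimple
  have hinj := faithful_of_irreducible k ρ hirr hk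
  have hw₀ : ρ ((relD4 hq2 hK f hfq hf hl hl2).z 1) ≠ 1 := by
    intro h
    have h1 : (relD4 hq2 hK f hfq hf hl hl2).z 1 = 1 := hinj (h.trans (map_one ρ).symm)
    have h2 := congrArg Subtype.val h1
    rw [relD4_z] at h2
    exact X_ne_one (r := 23) (by decide) (one_ne_zero (α := K)) h2
  exact degree_bound (relD4 hq2 hK f hfq hf hl hl2) q hq2 hF hK hG k ρ hirr hw₀

end Cfsg.Agent.Helper12.D4R
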