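import Mathlib
import Cfsg.Prelude.Def_DegreeGraph
import Cfsg.Agent.Helper8.CharComp

set_option autoImplicit false

namespace Cfsg.Agent.Helper12

open Cfsg Cfsg.Agent.Helper8

/-- Inflation along a surjection: the degrees of the image are degrees of the source. -/
theorem charDegrees_subset_of_surjective {G G' : Type*} [Group G] [Group G'] (f : G' →* G)
    (hf : Function.Surjective f) : charDegrees G ⊆ charDegrees G' := by
  rintro d ⟨χ, rfl⟩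
  refine ⟨⟨fun g => (χ : G → ℂ) (f g), isIrrCharacter_comp_surjective f hf χ.2⟩, ?_⟩
  unfold charDegree
  show ⌊((χ : G → ℂ) (f 1)).re⌋₊ = _
  rw [map_one]

/-- Isomorphic groups have the same character degrees. -/
theorem charDegrees_eq_of_mulEquiv {S G : Type*} [Group S] [Group G] (e : S ≃* G) :
    charDegrees S = charDegrees G :=
  Set.Subset.antisymm
    (charDegrees_subset_of_surjective e.symm.toMonoidHom e.symm.surjective)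
    (charDegrees_subset_of_surjective e.toMonoidHom e.surjective)

theorem degreePrimes_eq_of_charDegrees {S G : Type*} [Group S] [Group G]
    (h : charDegrees S = charDegrees G) : degreePrimes S = degreePrimes G := by
  unfold degreePrimes
  rw [h]

theorem degreeGraph_adj_iff (G : Type*) [Group G] (r s : ℕ) :
    (degreeGraph G).Adj r s ↔ r ≠ s ∧ r.Prime ∧ s.Prime ∧ ∃ d ∈ charDegrees G, r * s ∣ d :=
  Iff.rfl

theorem sq_sub_one_eq (q : ℕ) : q ^ 2 - 1 = (q + 1) * (q - 1) := by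
  have := Nat.sq_sub_sq q 1
  simpa using this

/-- The primes dividing a degree in a degree set squeezed between `{q, q+1, q-1}` and
`{1, q, q+1, q-1, (q+1)/2, (q-1)/2}`. -/
theorem primes_of_degree_set (D : Set ℕ) (q : ℕ)
    (hsub : ∀ d ∈ D, d = 1 ∨ d = q ∨ d = q + 1 ∨ d = q - 1 ∨ 2 * d = q + 1 ∨ 2 * d = q - 1)
    (h1 : q ∈ D) (h2 : q + 1 ∈ D) (h3 : q - 1 ∈ D) :
    {p : ℕ | p.Prime ∧ ∃ d ∈ D, p ∣ d} = {r : ℕ | r.Prime ∧ r ∣ q * (q ^ 2 - 1)} := by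
  ext p
  simp only [Set.mem_ofPred_eq]
  rw [sq_sub_one_eq]
  constructor
  · rintro ⟨hp, d, hd, hpd⟩
    refine ⟨hp, ?_⟩
    rcases hsub d hd with rfl | rfl | rfl | rfl | h | h
    · exact absurd (Nat.dvd_one.1 hpd) hp.one_lt.ne'
    · exact Dvd.dvd.mul_right hpd _
    · exact Dvd.dvd.mul_left (Dvd.dvd.mul_right hpd _) _
    · exact Dvd.dvd.mul_left (Dvd.dvd.mul_left hpd _) _
    · have : p ∣ q + 1 := by rw [← h]; exact Dvd.dvd.mul_left hpd 2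
      exact Dvd.dvd.mul_left (Dvd.dvd.mul_right this _) _
    · have : p ∣ q - 1 := by rw [← h]; exact Dvd.dvd.mul_left hpd 2
      exact Dvd.dvd.mul_left (Dvd.dvd.mul_left this _) _
  · rintro ⟨hp, hpd⟩
    refine ⟨hp, ?_⟩
    rcases (Nat.Prime.dvd_mul hp).1 hpd with h | h
    · exact ⟨q, h1, h⟩
    · rcases (Nat.Prime.dvd_mul hp).1 h with h | h
      · exact ⟨q + 1, h2, h⟩
      · exact ⟨q - 1, h3, h⟩

/-- Two distinct primes whose product divides a degree both divide `q + 1` or both divide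
`q - 1`, when `q` is a prime power. -/
theorem adj_imp_of_degree_set (D : Set ℕ) (q t k : ℕ) (ht : t.Prime) (hq : q = t ^ k)
    (hsub : ∀ d ∈ D, d = 1 ∨ d = q ∨ d = q + 1 ∨ d = q - 1 ∨ 2 * d = q + 1 ∨ 2 * d = q - 1)
    {r s : ℕ} (hne : r ≠ s) (hr : r.Prime) (hs : s.Prime) (h : ∃ d ∈ D, r * s ∣ d) :
    (r ∣ q + 1 ∧ s ∣ q + 1) ∨ (r ∣ q - 1 ∧ s ∣ q - 1) := by
  obtain ⟨d, hd, hrs⟩ := h
  have hrd : r ∣ d := (Dvd.intro _ rfl).trans hrs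
  have hsd : s ∣ d := (Dvd.intro_left _ rfl).trans hrs
  rcases hsub d hd with rfl | rfl | rfl | rfl | h | h
  · exact absurd (Nat.dvd_one.1 hrd) hr.one_lt.ne'
  · exfalso
    rw [hq] at hrd hsd
    have e1 := (Nat.prime_dvd_prime_iff_eq hr ht).1 (hr.dvd_of_dvd_pow hrd)
    have e2 := (Nat.prime_dvd_prime_iff_eq hs ht).1 (hs.dvd_of_dvd_pow hsd)
    exact hne (e1.trans e2.symm)
  · exact Or.inl ⟨hrd, hsd⟩
  · exact Or.inr ⟨hrd, hsd⟩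
  · left
    rw [← h]
    exact ⟨Dvd.dvd.mul_left hrd 2, Dvd.dvd.mul_left hsd 2⟩
  · right
    rw [← h]
    exact ⟨Dvd.dvd.mul_left hrd 2, Dvd.dvd.mul_left hsd 2⟩

theorem mul_dvd_of_distinct_primes {r s n : ℕ} (hne : r ≠ s) (hr : r.Prime) (hs : s.Prime)
    (h1 : r ∣ n) (h2 : s ∣ n) : r * s ∣ n :=
  Nat.Coprime.mul_dvd_of_dvd_of_dvd ((Nat.coprime_primes hr hs).2 hne) h1 h2

/-- The adjacency relation for odd `q`. -/
theorem adj_iff_of_degree_set_odd (D : Set ℕ) (q t k : ℕ) (ht : t.Prime) (hq : q = t ^ k)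
    (hodd : Odd q)
    (hsub : ∀ d ∈ D, d = 1 ∨ d = q ∨ d = q + 1 ∨ d = q - 1 ∨ 2 * d = q + 1 ∨ 2 * d = q - 1)
    (h2 : q + 1 ∈ D) (h3 : q - 1 ∈ D) (r s : ℕ) :
    (r ≠ s ∧ r.Prime ∧ s.Prime ∧ ∃ d ∈ D, r * s ∣ d) ↔
    (r ≠ s ∧ r.Prime ∧ s.Prime ∧ r ∣ q ^ 2 - 1 ∧ s ∣ q ^ 2 - 1 ∧
      (r = 2 ∨ s = 2 ∨ (r ∣ q + 1 ∧ s ∣ q + 1) ∨ (r ∣ q - 1 ∧ s ∣ q - 1))) := by
  rw [sq_sub_one_eq]
  have h2a : 2 ∣ q + 1 := by
    obtain ⟨m, hm⟩ := hodd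
    exact ⟨m + 1, by omega⟩
  have h2b : 2 ∣ q - 1 := by
    obtain ⟨m, hm⟩ := hodd
    exact ⟨m, by omega⟩
  constructor
  · rintro ⟨hne, hr, hs, h⟩
    refine ⟨hne, hr, hs, ?_⟩
    rcases adj_imp_of_degree_set D q t k ht hq hsub hne hr hs h with ⟨a, b⟩ | ⟨a, b⟩
    · exact ⟨Dvd.dvd.mul_right a _, Dvd.dvd.mul_right b _, Or.inr (Or.inr (Or.inl ⟨a, b⟩))⟩
    · exact ⟨Dvd.dvd.mul_left a _, Dvd.dvd.mul_left b _, Or.inr (Or.inr (Or.inr ⟨a, b⟩))⟩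
  · rintro ⟨hne, hr, hs, hrq, hsq, h⟩
    refine ⟨hne, hr, hs, ?_⟩
    rcases h with rfl | rfl | ⟨a, b⟩ | ⟨a, b⟩
    · rcases (Nat.Prime.dvd_mul hs).1 hsq with h | h
      · exact ⟨q + 1, h2, mul_dvd_of_distinct_primes hne hr hs h2a h⟩
      · exact ⟨q - 1, h3, mul_dvd_of_distinct_primes hne hr hs h2b h⟩
    · rcases (Nat.Prime.dvd_mul hr).1 hrq with h | h
      · exact ⟨q + 1, h2, mul_dvd_of_distinct_primes hne hr hs h h2a⟩
      · exact ⟨q - 1, h3, mul_dvd_of_distinct_primes hne hr hs h h2b⟩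
    · exact ⟨q + 1, h2, mul_dvd_of_distinct_primes hne hr hs a b⟩
    · exact ⟨q - 1, h3, mul_dvd_of_distinct_primes hne hr hs a b⟩

/-- The adjacency relation for even `q`. -/
theorem adj_iff_of_degree_set_even (D : Set ℕ) (q t k : ℕ) (ht : t.Prime) (hq : q = t ^ k)
    (hsub : ∀ d ∈ D, d = 1 ∨ d = q ∨ d = q + 1 ∨ d = q - 1 ∨ 2 * d = q + 1 ∨ 2 * d = q - 1)
    (h2 : q + 1 ∈ D) (h3 : q - 1 ∈ D) (r s : ℕ) :
    (r ≠ s ∧ r.Prime ∧ s.Prime ∧ ∃ d ∈ D, r * s ∣ d) ↔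
    (r ≠ s ∧ r.Prime ∧ s.Prime ∧ ((r ∣ q + 1 ∧ s ∣ q + 1) ∨ (r ∣ q - 1 ∧ s ∣ q - 1))) := by
  constructor
  · rintro ⟨hne, hr, hs, h⟩
    exact ⟨hne, hr, hs, adj_imp_of_degree_set D q t k ht hq hsub hne hr hs h⟩
  · rintro ⟨hne, hr, hs, h⟩
    refine ⟨hne, hr, hs, ?_⟩
    rcases h with ⟨a, b⟩ | ⟨a, b⟩
    · exact ⟨q + 1, h2, mul_dvd_of_distinct_primes hne hr hs a b⟩
    · exact ⟨q - 1, h3, mul_dvd_of_distinct_primes hne hr hs a b⟩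

end Cfsg.Agent.Helper12
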