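import Mathlib
import Cfsg.Agent.Helper8.Ind

set_option autoImplicit false

open scoped ComplexConjugate

namespace Cfsg.Agent.Helper12

open Cfsg.Agent.Helper8

variable {G : Type*} [Group G]

/-- Number of elements of a subgroup as a sum of indicators. -/
theorem sum_indicator_subgroup [Fintype G] (T : Subgroup G) [DecidablePred (· ∈ T)] (a : ℂ) :
    ∑ x : G, (if x ∈ T then a else 0) = (Nat.card T : ℂ) * a := by
  rw [← Finset.sum_filter, Finset.sum_const, nsmul_eq_mul, Nat.card_eq_fintype_card,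
    Fintype.card_subtype]

/-- Value of an induced function at an element whose conjugates inside `T` are controlled by a
subgroup `N` in which `T` has index two and which inverts the element. -/
theorem indFun_of_inverting [Fintype G] (T N : Subgroup G) (hTN : T ≤ N)
    (hcard : Nat.card N = 2 * Nat.card T) (θ : T → ℂ) (c : G) (hc : c ∈ T)
    (h1 : ∀ x : G, x⁻¹ * c * x ∈ T → x ∈ N) (h2 : ∀ x : G, x ∈ T → x⁻¹ * c * x = c)
    (h3 : ∀ x : G, x ∈ N → x ∉ T → x⁻¹ * c * x = c⁻¹) :
    Cfsg.indFun T θ c = θ ⟨c, hc⟩ + θ ⟨c⁻¹, T.inv_mem hc⟩ := by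
  classical
  rw [indFun_def]
  have hterm : ∀ x : G, Cfsg.extendByZero T θ (x⁻¹ * c * x) =
      (if x ∈ T then θ ⟨c, hc⟩ else 0) +
      ((if x ∈ N then θ ⟨c⁻¹, T.inv_mem hc⟩ else 0) -
        (if x ∈ T then θ ⟨c⁻¹, T.inv_mem hc⟩ else 0)) := by
    intro x
    by_cases hxT : x ∈ T
    · have hxN : x ∈ N := hTN hxT
      rw [if_pos hxT, if_pos hxN, if_pos hxT, sub_self, add_zero]
      have e := h2 x hxT
      rw [ebz_mem T θ (by rw [e]; exact hc)]
      congr 1
      exact Subtype.ext e
    · rw [if_neg hxT, if_neg hxT, zero_add, sub_zero]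
      by_cases hxN : x ∈ N
      · rw [if_pos hxN]
        have e := h3 x hxN hxT
        rw [ebz_mem T θ (by rw [e]; exact T.inv_mem hc)]
        congr 1
        exact Subtype.ext e
      · rw [if_neg hxN]
        exact ebz_not_mem T θ (fun h => hxN (h1 x h))
  simp only [hterm]
  rw [Finset.sum_add_distrib, Finset.sum_sub_distrib, sum_indicator_subgroup,
    sum_indicator_subgroup, sum_indicator_subgroup, hcard]
  have hT0 : (Nat.card T : ℂ) ≠ 0 := Nat.cast_ne_zero.2 Nat.card_pos.ne'
  push_cast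
  field_simp
  ring

/-- An induced function vanishes at elements with no conjugate in the subgroup. -/
theorem indFun_eq_zero_of_forall_not_mem [Fintype G] (T : Subgroup G) (θ : T → ℂ) (g : G)
    (h : ∀ x : G, x⁻¹ * g * x ∉ T) : Cfsg.indFun T θ g = 0 := by
  rw [indFun_def]
  simp only [ebz_not_mem T θ (h _), Finset.sum_const_zero, mul_zero]

/-- Value of an induced function at a central element. -/
theorem indFun_central' [Fintype G] (T : Subgroup G) (θ : T → ℂ) (z : G)
    (hz : z ∈ Subgroup.center G) (hzT : z ∈ T) :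
    Cfsg.indFun T θ z = (Nat.card T : ℂ)⁻¹ * (Nat.card G : ℂ) * θ ⟨z, hzT⟩ := by
  rw [indFun_def]
  have : ∀ x : G, x⁻¹ * z * x = z := by
    intro x
    rw [Subgroup.mem_center_iff] at hz
    rw [mul_assoc, ← hz x, ← mul_assoc, inv_mul_cancel, one_mul]
  simp only [this, Finset.sum_const, Finset.card_univ, nsmul_eq_mul, ebz_mem T θ hzT,
    Nat.card_eq_fintype_card]
  ring

/-- Central character of an induced function. -/
theorem indFun_central_mul [Fintype G] (T : Subgroup G) (θ : T → ℂ) (z : G)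
    (hz : z ∈ Subgroup.center G) (hzT : z ∈ T) (ω : ℂ)
    (hθ : ∀ t : T, θ (⟨z, hzT⟩ * t) = ω * θ t) (g : G) :
    Cfsg.indFun T θ (z * g) = ω * Cfsg.indFun T θ g := by
  rw [indFun_def, indFun_def, mul_left_comm]
  congr 1
  rw [Finset.mul_sum]
  apply Finset.sum_congr rfl
  intro x _
  have e : x⁻¹ * (z * g) * x = z * (x⁻¹ * g * x) := by
    rw [Subgroup.mem_center_iff] at hz
    rw [← mul_assoc, hz x⁻¹]
    group
  rw [e]
  by_cases hy : x⁻¹ * g * x ∈ T
  · rw [ebz_mem T θ hy, ebz_mem T θ (T.mul_mem hzT hy)]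
    exact hθ ⟨_, hy⟩
  · rw [ebz_not_mem T θ hy, mul_zero]
    apply ebz_not_mem
    intro h
    apply hy
    have := T.mul_mem (T.inv_mem hzT) h
    rwa [inv_mul_cancel_left] at this

/-- A nontrivial homomorphism to `ℂˣ` sums to zero. -/
theorem sum_hom_units_coe {H : Type*} [Group H] [Fintype H] (θ : H →* ℂˣ) (hθ : θ ≠ 1) :
    ∑ h : H, ((θ h : ℂˣ) : ℂ) = 0 := by
  have := sum_hom_units_eq_zero ((Units.coeHom ℂ).comp θ) (by
    intro h
    apply hθ
    ext x
    have := congrArg (fun f : H →* ℂ => f x) h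
    simpa using this)
  simpa using this

end Cfsg.Agent.Helper12
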