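import Mathlib
import Cfsg.Agent.Helper12.SL2Table

set_option autoImplicit false

open scoped ComplexConjugate

namespace Cfsg.Agent.Helper12

open Cfsg Cfsg.Agent.Helper8

variable {F : Type*} [Field F]

local notation "S2" => Matrix.SpecialLinearGroup (Fin 2) F

/-- Value of the principal series at an upper triangular element with distinct eigenvalues. -/
theorem psS_borel_split [Fintype F] [DecidableEq F] (β : MulChar F ℂ) {u : Fˣ}
    (hu : (u : F) ≠ ((u⁻¹ : Fˣ) : F)) (r : F) :
    psS β (borelMkSL u r) = β (u : F) + β ((u⁻¹ : Fˣ) : F) := by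
  rw [psS_borelMkSL]
  congr 1
  have hne : ((u⁻¹ : Fˣ) : F) - u ≠ 0 := sub_ne_zero.2 (Ne.symm hu)
  rw [Finset.sum_eq_single (r / (((u⁻¹ : Fˣ) : F) - u))]
  · rw [if_pos]
    field_simp
  · intro s _ hs
    rw [if_neg]
    intro h0
    apply hs
    rw [h0]
    field_simp
  · intro h; exact absurd (Finset.mem_univ _) h

/-- Value of the principal series at a central element. -/
theorem psS_borel_central [Fintype F] [DecidableEq F] (β : MulChar F ℂ) {u : Fˣ}
    (hu : (u : F) = ((u⁻¹ : Fˣ) : F)) :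
    psS β (borelMkSL u 0) = ((Fintype.card F : ℂ) + 1) * β (u : F) := by
  rw [psS_borelMkSL]
  have : ∀ s : F, (0 : F) = (((u⁻¹ : Fˣ) : F) - (u : F)) * s := by
    intro s
    rw [← hu, sub_self, zero_mul]
  rw [Finset.sum_congr rfl (fun s _ => if_pos (this s)), Finset.sum_const, Finset.card_univ,
    nsmul_eq_mul, ← hu]
  ring

theorem stS_borel_split [Fintype F] [DecidableEq F] {u : Fˣ}
    (hu : (u : F) ≠ ((u⁻¹ : Fˣ) : F)) (r : F) :
    (stS (F := F) : S2 → ℂ) (borelMkSL u r) = 1 := by
  rw [stS_apply, psS_borel_split _ hu]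
  simp only [MulChar.one_apply_coe]
  ring

theorem stS_borel_central [Fintype F] [DecidableEq F] {u : Fˣ}
    (hu : (u : F) = ((u⁻¹ : Fˣ) : F)) :
    (stS (F := F) : S2 → ℂ) (borelMkSL u 0) = (Fintype.card F : ℂ) := by
  rw [stS_apply, psS_borel_central _ hu]
  simp only [MulChar.one_apply_coe]
  ring

theorem stS_borel_unip [Fintype F] [DecidableEq F] {u : Fˣ}
    (hu : (u : F) = ((u⁻¹ : Fˣ) : F)) {r : F} (hr : r ≠ 0) :
    (stS (F := F) : S2 → ℂ) (borelMkSL u r) = 0 := by
  rw [stS_apply, psS_unip _ hu hr]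
  simp only [MulChar.one_apply_coe]
  ring

/-- A unit equal to its inverse is `±1`. -/
theorem unit_eq_inv_iff {u : Fˣ} : (u : F) = ((u⁻¹ : Fˣ) : F) ↔ u = 1 ∨ u = -1 := by
  constructor
  · intro h
    have h1 : (u : F) * u = 1 := by
      nth_rewrite 2 [h]
      rw [← Units.val_mul, mul_inv_cancel, Units.val_one]
    have h2 : ((u : F) - 1) * ((u : F) + 1) = 0 := by linear_combination h1
    rcases mul_eq_zero.1 h2 with h3 | h3
    · left
      apply Units.ext
      rw [Units.val_one]
      linear_combination h3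
    · right
      apply Units.ext
      rw [Units.val_neg, Units.val_one]
      linear_combination h3
  · rintro (rfl | rfl)
    · simp
    · simp

/-- Summation over the Borel subgroup of a function supported on `±` unipotent elements. -/
theorem sum_units_of_support (h2 : (2 : F) ≠ 0) [Fintype F] [DecidableEq F] (Ψ : Fˣ → ℂ)
    (hΨ : ∀ u : Fˣ, (u : F) ≠ ((u⁻¹ : Fˣ) : F) → Ψ u = 0) :
    ∑ u : Fˣ, Ψ u = Ψ 1 + Ψ (-1) := by
  have hne : (1 : Fˣ) ≠ -1 := by
    intro h
    have := congrArg (fun u : Fˣ => (u : F)) h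
    simp only [Units.val_one, Units.val_neg] at this
    apply h2
    linear_combination this
  rw [← Finset.sum_subset (Finset.subset_univ ({1, -1} : Finset Fˣ)), Finset.sum_pair hne]
  intro u _ hu
  apply hΨ
  intro h
  rcases unit_eq_inv_iff.1 h with h' | h'
  · exact hu (by rw [h']; simp)
  · exact hu (by rw [h']; simp)

/-- Splitting off the zero term. -/
theorem sum_field_split [Fintype F] [DecidableEq F] (H : F → ℂ) (c : ℂ)
    (hH : ∀ r : F, r ≠ 0 → H r = c) :
    ∑ r : F, H r = H 0 + ((Fintype.card F : ℂ) - 1) * c := by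
  rw [← Finset.add_sum_erase _ _ (Finset.mem_univ (0 : F))]
  congr 1
  rw [Finset.sum_congr rfl (fun r hr => hH r (Finset.ne_of_mem_erase hr)), Finset.sum_const,
    Finset.card_erase_of_mem (Finset.mem_univ _), Finset.card_univ, nsmul_eq_mul]
  have : 1 ≤ Fintype.card F := Fintype.card_pos
  push_cast [Nat.cast_sub this]
  ring

end Cfsg.Agent.Helper12
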