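import Mathlib
import Cfsg.Agent.Helper12.IndTorus
import Cfsg.Agent.Helper12.SL2BorelVal
import Cfsg.Agent.Helper12.SL2TorusConj
import Cfsg.Agent.Helper12.SL2Cusp
import Cfsg.Agent.Helper12.PSL2Char
import Cfsg.Agent.Helper12.SL2OrderFour
import Cfsg.Agent.Helper8.DualGroup
import Cfsg.Agent.Helper24.Artin
import Cfsg.Agent.Helper24.Generalized
import Cfsg.Agent.Helper24.Product
import Cfsg.Agent.Helper24.Linear

set_option autoImplicit false

open scoped ComplexConjugate

namespace Cfsg.Agent.Helper12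

open Cfsg Cfsg.Agent.Helper8 Cfsg.Agent.Helper24

variable {F : Type*} [Field F]

local notation "S2" => Matrix.SpecialLinearGroup (Fin 2) F
local notation "M2" => Matrix (Fin 2) (Fin 2) F

/-- Data of a non-split torus `torusA A` of `SL₂(q)`. -/
structure IsNonsplitGen [Fintype F] (A : M2) (ε : F) : Prop where
  gen : IsTorusGen A ε
  anti : ∃ w : S2, (w : M2) * A = -(A * (w : M2))
  card : Nat.card (torusA A) = Fintype.card F + 1
  noEigen : ∀ c : S2, c ∈ torusA A → (c : M2) ≠ 1 → (c : M2) ≠ -1 →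
    ∀ (a : F) (v : Fin 2 → F), v ≠ 0 → (c : M2).mulVec v ≠ a • v

theorem sl2_coe_eq_one_iff (c : S2) : (c : M2) = 1 ↔ c = 1 := by
  constructor
  · intro h
    apply Subtype.ext
    rw [h, Matrix.SpecialLinearGroup.coe_one]
  · rintro rfl
    exact Matrix.SpecialLinearGroup.coe_one

theorem sl2_coe_eq_neg_one_iff (c : S2) : (c : M2) = -1 ↔ c = -1 := by
  constructor
  · intro h
    apply Subtype.ext
    rw [h, sl2_neg_one_coe]
  · rintro rfl
    exact sl2_neg_one_coe

/-- Eigenvectors are transported by conjugation. -/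
theorem no_eigen_of_conj {g x : S2}
    (h : ∀ (a : F) (v : Fin 2 → F), v ≠ 0 → ((x⁻¹ * g * x : S2) : M2).mulVec v ≠ a • v) :
    ∀ (a : F) (v : Fin 2 → F), v ≠ 0 → (g : M2).mulVec v ≠ a • v := by
  intro a v hv hgv
  apply h a (((x⁻¹ : S2) : M2).mulVec v)
  · intro h0
    apply hv
    have := congrArg (fun w => (x : M2).mulVec w) h0
    simp only [Matrix.mulVec_mulVec, sl2_coe_mul_inv, Matrix.one_mulVec, Matrix.mulVec_zero]
      at this
    exact this
  · rw [Matrix.SpecialLinearGroup.coe_mul, Matrix.SpecialLinearGroup.coe_mul, Matrix.mulVec_mulVec]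
    have e : ((x⁻¹ : S2) : M2) * (g : M2) * (x : M2) * ((x⁻¹ : S2) : M2) =
        ((x⁻¹ : S2) : M2) * (g : M2) := by
      rw [Matrix.mul_assoc, sl2_coe_mul_inv, Matrix.mul_one]
    rw [e, ← Matrix.mulVec_mulVec, hgv, Matrix.mulVec_smul]

/-- Upper triangular elements have an eigenvector. -/
theorem borelMkSL_eigen (u : Fˣ) (r : F) :
    ((borelMkSL u r : S2) : M2).mulVec ![1, 0] = (u : F) • ![1, 0] := by
  rw [borelMkSL_coe]
  ext i
  fin_cases i <;> simp [Matrix.mulVec, dotProduct, Fin.sum_univ_two]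

theorem borelMkSL_neg_one_zero : (borelMkSL (-1 : Fˣ) (0 : F) : S2) = -1 := by
  apply Subtype.ext
  rw [borelMkSL_coe, sl2_neg_one_coe]
  ext i j
  fin_cases i <;> fin_cases j <;> simp

/-- The class function `(St - 1) · ps(α)`. -/
noncomputable def stPs [Fintype F] [DecidableEq F] (α : MulChar F ℂ) : S2 → ℂ :=
  fun g => ((stS (F := F) : S2 → ℂ) g - 1) * psS α g

/-- A homomorphism to `ℂˣ` as a complex valued function. -/
def homFun {A : M2} (θ : torusA A →* ℂˣ) : torusA A → ℂ := fun c => ((θ c : ℂˣ) : ℂ)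

/-- The function induced from a character of the torus. -/
noncomputable def indT [Fintype F] [DecidableEq F] (A : M2) (θ : torusA A →* ℂˣ) : S2 → ℂ :=
  indFun (torusA A) (homFun θ)

/-- The cuspidal (generalized) character attached to `θ`. -/
noncomputable def cuspFun [Fintype F] [DecidableEq F] (A : M2) (θ : torusA A →* ℂˣ)
    (α : MulChar F ℂ) : S2 → ℂ :=
  stPs α - indT A θ

section stPs

variable [Fintype F] [DecidableEq F]

theorem stS_isClassFunction : IsClassFunction S2 (stS (F := F) : S2 → ℂ) :=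
  IsCharacter.isClassFunction (IsIrrCharacter.isCharacter (stS (F := F)).2)

theorem stS_sub_one_isClassFunction :
    IsClassFunction S2 (fun g => (stS (F := F) : S2 → ℂ) g - 1) := by
  intro g h
  show (stS (F := F) : S2 → ℂ) (h * g * h⁻¹) - 1 = (stS (F := F) : S2 → ℂ) g - 1
  rw [stS_isClassFunction]

theorem stPs_eq_indFun (α : MulChar F ℂ) :
    stPs α = indFun (borelSL F)
      (borelChar α * fun b : borelSL F => (stS (F := F) : S2 → ℂ) b - 1) := by
  rw [indFun_mul_restrict _ _ _ stS_sub_one_isClassFunction]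
  funext g
  simp only [stPs, Pi.mul_apply]
  ring

theorem stPs_isClassFunction (α : MulChar F ℂ) : IsClassFunction S2 (stPs α) := by
  rw [stPs_eq_indFun]
  exact indFun_isClassFunction _ _

theorem stPs_isGeneralizedCharacter (α : MulChar F ℂ) : IsGeneralizedCharacter S2 (stPs α) := by
  refine ⟨(stS (F := F) : S2 → ℂ) * psS α, psS α,
    IsCharacter.mul (IsIrrCharacter.isCharacter (stS (F := F)).2) (psS_isCharacter α),
    psS_isCharacter α, ?_⟩
  funext g
  simp only [stPs, Pi.mul_apply, Pi.sub_apply]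
  ring

theorem stPs_borel_split (α : MulChar F ℂ) {u : Fˣ} (hu : (u : F) ≠ ((u⁻¹ : Fˣ) : F)) (r : F) :
    stPs α (borelMkSL u r) = 0 := by
  rw [stPs, stS_borel_split hu, sub_self, zero_mul]

theorem stPs_borel_central (α : MulChar F ℂ) {u : Fˣ} (hu : (u : F) = ((u⁻¹ : Fˣ) : F)) :
    stPs α (borelMkSL u 0) =
      ((Fintype.card F : ℂ) - 1) * (((Fintype.card F : ℂ) + 1) * α (u : F)) := by
  rw [stPs, stS_borel_central hu, psS_borel_central _ hu]

theorem stPs_borel_unip (α : MulChar F ℂ) {u : Fˣ} (hu : (u : F) = ((u⁻¹ : Fˣ) : F)) {r : F}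
    (hr : r ≠ 0) : stPs α (borelMkSL u r) = -α (u : F) := by
  rw [stPs, stS_borel_unip hu hr, psS_unip _ hu hr]
  ring

theorem stPs_no_eigen (α : MulChar F ℂ) (g : S2)
    (h : ∀ (c : F) (v : Fin 2 → F), v ≠ 0 → (g : M2).mulVec v ≠ c • v) : stPs α g = 0 := by
  rw [stPs, psS_no_eigen α g h, mul_zero]

theorem stPs_one (α : MulChar F ℂ) :
    stPs α 1 = ((Fintype.card F : ℂ) - 1) * ((Fintype.card F : ℂ) + 1) := by
  rw [← borelMkSL_one, stPs_borel_central α (by simp)]
  simp

theorem stPs_neg_one (α : MulChar F ℂ) :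
    stPs α (-1) = ((Fintype.card F : ℂ) - 1) * (((Fintype.card F : ℂ) + 1) * α (-1)) := by
  rw [← borelMkSL_neg_one_zero, stPs_borel_central α (by simp)]
  simp

end stPs

section indT

variable [Fintype F] [DecidableEq F]

/-- The element `-1` of the torus. -/
def negOneT (A : M2) : torusA A := ⟨-1, IsTorusGen.neg_one_mem_torusA A⟩

theorem card_add_one_ne_zero : ((Fintype.card F : ℂ) + 1) ≠ 0 := by
  have : ((Fintype.card F + 1 : ℕ) : ℂ) ≠ 0 := Nat.cast_ne_zero.2 (Nat.succ_ne_zero _)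
  simpa using this

namespace IsNonsplitGen

theorem indT_torus {A : M2} {ε : F} (h : IsNonsplitGen A ε) (θ : torusA A →* ℂˣ) {c : S2}
    (hc : c ∈ torusA A) (hc1 : (c : M2) ≠ 1) (hc2 : (c : M2) ≠ -1) :
    indT A θ c = ((θ ⟨c, hc⟩ : ℂˣ) : ℂ) + (((θ ⟨c, hc⟩)⁻¹ : ℂˣ) : ℂ) := by
  unfold indT
  rw [indFun_of_inverting (torusA A) (normA A) (torusA_le_normA A) (h.gen.card_normA h.anti)
    (homFun θ) c hc ?_ ?_ ?_]
  · simp only [homFun]
    congr 2
    rw [← map_inv]
    rfl
  · intro x hx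
    have h1 := h.gen.mem_normA_of_conj_mem hc hc1 hc2 (g := x⁻¹) (by rwa [inv_inv])
    have h2 := (normA A).inv_mem h1
    rwa [inv_inv] at h2
  · intro x hx
    rw [mul_assoc, h.gen.torus_comm hc hx, inv_mul_cancel_left]
  · intro x hxN hxT
    rcases hxN with h' | h'
    · exact absurd h' hxT
    · have h1 := inv_anticomm_of_anticomm x A h'
      have h2 := h.gen.conj_eq_inv h1 hc
      rwa [inv_inv] at h2

theorem indT_one {A : M2} {ε : F} (h : IsNonsplitGen A ε) (θ : torusA A →* ℂˣ) :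
    indT A θ 1 = (Fintype.card F : ℂ) * ((Fintype.card F : ℂ) - 1) := by
  unfold indT
  rw [indFun_central' (torusA A) (homFun θ) 1 (Subgroup.one_mem _) (Subgroup.one_mem _), h.card,
    card_sl2_cast]
  have h0 := card_add_one_ne_zero (F := F)
  have e : homFun θ ⟨1, Subgroup.one_mem _⟩ = 1 := by
    have : (⟨1, Subgroup.one_mem _⟩ : torusA A) = 1 := rfl
    simp only [homFun, this, map_one, Units.val_one]
  rw [e]
  push_cast
  field_simp

theorem indT_neg_one {A : M2} {ε : F} (h : IsNonsplitGen A ε) (θ : torusA A →* ℂˣ) :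
    indT A θ (-1) = (Fintype.card F : ℂ) * ((Fintype.card F : ℂ) - 1) *
      ((θ (negOneT A) : ℂˣ) : ℂ) := by
  unfold indT
  rw [indFun_central' (torusA A) (homFun θ) (-1) sl2_neg_one_mem_center (IsTorusGen.neg_one_mem_torusA A),
    h.card, card_sl2_cast]
  have h0 := card_add_one_ne_zero (F := F)
  have e : homFun θ ⟨-1, IsTorusGen.neg_one_mem_torusA A⟩ = ((θ (negOneT A) : ℂˣ) : ℂ) := rfl
  rw [e]
  push_cast
  field_simp

theorem indT_eq_zero_of_eigen {A : M2} {ε : F} (h : IsNonsplitGen A ε) (θ : torusA A →* ℂˣ)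
    (g : S2) (hg1 : g ≠ 1) (hg2 : g ≠ -1) (a : F) (v : Fin 2 → F) (hv : v ≠ 0)
    (hgv : (g : M2).mulVec v = a • v) : indT A θ g = 0 := by
  unfold indT
  apply indFun_eq_zero_of_forall_not_mem
  intro x hx
  have h1 : ((x⁻¹ * g * x : S2) : M2) ≠ 1 := by
    intro h1
    apply hg1
    have h2 := (sl2_coe_eq_one_iff _).1 h1
    have : g = x * (x⁻¹ * g * x) * x⁻¹ := by group
    rw [this, h2]; group
  have h2 : ((x⁻¹ * g * x : S2) : M2) ≠ -1 := by
    intro h1
    apply hg2
    have h2 := (sl2_coe_eq_neg_one_iff _).1 h1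
    have : g = x * (x⁻¹ * g * x) * x⁻¹ := by group
    rw [this, h2]
    have hc := (Subgroup.mem_center_iff.1 (sl2_neg_one_mem_center (F := F))) x
    rw [hc]; group
  exact no_eigen_of_conj (h.noEigen _ hx h1 h2) a v hv hgv

theorem indT_borel {A : M2} {ε : F} (h : IsNonsplitGen A ε) (θ : torusA A →* ℂˣ) (u : Fˣ) (r : F)
    (hur : (u : F) ≠ ((u⁻¹ : Fˣ) : F) ∨ r ≠ 0) : indT A θ (borelMkSL u r) = 0 := by
  apply h.indT_eq_zero_of_eigen θ _ ?_ ?_ (u : F) ![1, 0] (by simp) (borelMkSL_eigen u r)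
  · intro h1
    have h2 := congrArg (fun g : S2 => (g : M2)) h1
    simp only [borelMkSL_coe, Matrix.SpecialLinearGroup.coe_one] at h2
    have e00 := congrFun (congrFun h2 0) 0
    have e01 := congrFun (congrFun h2 0) 1
    have e11 := congrFun (congrFun h2 1) 1
    simp at e00 e01 e11
    rcases hur with h' | h'
    · exact h' (by rw [e00]; simp)
    · exact h' e01
  · intro h1
    have h2 := congrArg (fun g : S2 => (g : M2)) h1
    simp only [borelMkSL_coe, sl2_neg_one_coe] at h2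
    have e00 := congrFun (congrFun h2 0) 0
    have e01 := congrFun (congrFun h2 0) 1
    have e11 := congrFun (congrFun h2 1) 1
    simp at e00 e01 e11
    rcases hur with h' | h'
    · exact h' (by rw [e00]; simp)
    · exact h' e01

theorem indT_neg_mul {A : M2} {ε : F} (_h : IsNonsplitGen A ε) (θ : torusA A →* ℂˣ) (g : S2) :
    indT A θ (-1 * g) = ((θ (negOneT A) : ℂˣ) : ℂ) * indT A θ g := by
  unfold indT
  apply indFun_central_mul (torusA A) (homFun θ) (-1) sl2_neg_one_mem_center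
    (IsTorusGen.neg_one_mem_torusA A)
  intro t
  show ((θ (negOneT A * t) : ℂˣ) : ℂ) = _
  rw [map_mul, Units.val_mul]
  rfl

end IsNonsplitGen

end indT

end Cfsg.Agent.Helper12
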