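import Mathlib
import Cfsg.Agent.Helper12.SL2CuspFun
import Cfsg.Agent.Helper12.SL2SylowTwo

set_option autoImplicit false

open scoped ComplexConjugate

namespace Cfsg.Agent.Helper12

open Cfsg Cfsg.Agent.Helper8 Cfsg.Agent.Helper24

variable {F : Type*} [Field F]

local notation "S2" => Matrix.SpecialLinearGroup (Fin 2) F
local notation "M2" => Matrix (Fin 2) (Fin 2) F

/-- A complex number of square one is real. -/
theorem conj_of_sq_eq_one {v : ℂ} (hv : v ^ 2 = 1) : conj v = v := by
  have : (v - 1) * (v + 1) = 0 := by linear_combination hv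
  rcases mul_eq_zero.1 this with h | h
  · have : v = 1 := by linear_combination h
    rw [this, map_one]
  · have : v = -1 := by linear_combination h
    rw [this, map_neg, map_one]

theorem mulChar_neg_one_sq (α : MulChar F ℂ) : α (-1) ^ 2 = 1 := by
  rw [← map_pow]
  simp

section

variable [Fintype F] [DecidableEq F]

/-- Inner product of `(St - 1)·ps(α)` with a class function whose values at the non-semisimple
upper triangular elements are known. -/
theorem classInner_stPs (h2 : (2 : F) ≠ 0) (α : MulChar F ℂ) (χ : S2 → ℂ)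
    (hχ : IsClassFunction S2 χ) (c1 cm : ℂ)
    (h1 : ∀ r : F, r ≠ 0 → χ (borelMkSL (1 : Fˣ) r) = c1)
    (hm : ∀ r : F, r ≠ 0 → χ (borelMkSL (-1 : Fˣ) r) = cm) :
    classInner (stPs α) χ = (Fintype.card F : ℂ)⁻¹ *
      ((conj (χ 1) - conj c1) + α (-1) * (conj (χ (-1)) - conj cm)) := by
  classical
  have : Fintype (borelSL F) := Fintype.ofFinite _
  rw [stPs_eq_indFun, frobenius_reciprocity _ _ _ hχ]
  unfold Cfsg.classInner
  rw [sum_borelSL, card_borelSL]
  have hq : (Fintype.card F : ℂ) ≠ 0 := by exact_mod_cast Fintype.card_ne_zero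
  have hq1 := card_sub_one_ne_zero (F := F)
  have hval : ∀ (u : Fˣ) (r : F),
      (borelChar α * fun b : borelSL F => (stS (F := F) : S2 → ℂ) b - 1) (borelMk u r) =
        α (u : F) * ((stS (F := F) : S2 → ℂ) (borelMkSL u r) - 1) := by
    intro u r
    simp only [Pi.mul_apply, borelChar, borelMk_coe]
    rfl
  simp only [hval]
  rw [sum_units_of_support h2]
  · have e1 : ∑ r : F, α ((1 : Fˣ) : F) * ((stS (F := F) : S2 → ℂ) (borelMkSL 1 r) - 1) *
        conj (χ ((borelMk (1 : Fˣ) r : borelSL F) : S2)) =
        α ((1 : Fˣ) : F) * ((stS (F := F) : S2 → ℂ) (borelMkSL 1 0) - 1) *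
          conj (χ ((borelMk (1 : Fˣ) 0 : borelSL F) : S2)) +
        ((Fintype.card F : ℂ) - 1) * (-conj c1) := by
      apply sum_field_split
      intro r hr
      rw [stS_borel_unip (by simp) hr]
      show _ * conj (χ (borelMkSL 1 r)) = _
      rw [h1 r hr]
      simp
    have e2 : ∑ r : F, α ((-1 : Fˣ) : F) * ((stS (F := F) : S2 → ℂ) (borelMkSL (-1) r) - 1) *
        conj (χ ((borelMk (-1 : Fˣ) r : borelSL F) : S2)) =
        α ((-1 : Fˣ) : F) * ((stS (F := F) : S2 → ℂ) (borelMkSL (-1) 0) - 1) *
          conj (χ ((borelMk (-1 : Fˣ) 0 : borelSL F) : S2)) +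
        ((Fintype.card F : ℂ) - 1) * (-(α (-1) * conj cm)) := by
      apply sum_field_split
      intro r hr
      rw [stS_borel_unip (by simp) hr]
      show _ * conj (χ (borelMkSL (-1) r)) = _
      rw [hm r hr]
      simp
    rw [e1, e2, stS_borel_central (by simp), stS_borel_central (by simp)]
    have e3 : ((borelMk (1 : Fˣ) 0 : borelSL F) : S2) = 1 := borelMkSL_one
    have e4 : ((borelMk (-1 : Fˣ) 0 : borelSL F) : S2) = -1 := borelMkSL_neg_one_zero
    rw [e3, e4]
    have hcard : 1 ≤ Fintype.card F := Fintype.card_pos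
    simp only [Units.val_one, map_one, Units.val_neg]
    push_cast [Nat.cast_sub hcard]
    field_simp
    ring
  · intro u hu
    apply Finset.sum_eq_zero
    intro r _
    rw [stS_borel_split hu, sub_self, mul_zero, zero_mul]

/-- The sign of a character of the torus: its value at `-1`. -/
def sgnT {A : M2} (θ : torusA A →* ℂˣ) : ℂ := ((θ (negOneT A) : ℂˣ) : ℂ)

omit [Fintype F] [DecidableEq F] in
theorem sgnT_sq {A : M2} (θ : torusA A →* ℂˣ) : sgnT θ ^ 2 = 1 := by
  unfold sgnT
  rw [← Units.val_pow_eq_pow_val, ← map_pow]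
  have : (negOneT A) ^ 2 = 1 := by
    apply Subtype.ext
    show (-1 : S2) ^ 2 = 1
    rw [pow_two, sl2_neg_one_mul_self]
  rw [this, map_one, Units.val_one]

omit [Fintype F] [DecidableEq F] in
theorem conj_sgnT {A : M2} (θ : torusA A →* ℂˣ) : conj (sgnT θ) = sgnT θ :=
  conj_of_sq_eq_one (sgnT_sq θ)

omit [Fintype F] [DecidableEq F] in
theorem negOneT_ne_one (h2 : (2 : F) ≠ 0) (A : M2) : (1 : torusA A) ≠ negOneT A := by
  intro h
  have := congrArg (fun c : torusA A => (c : S2)) h
  exact sl2_one_ne_neg_one h2 this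

omit [Fintype F] [DecidableEq F] in
theorem sum_torus_central (h2 : (2 : F) ≠ 0) (A : M2) [Fintype (torusA A)]
    (f : torusA A → ℂ) [DecidablePred fun c : torusA A => c = 1 ∨ c = negOneT A] :
    ∑ c : torusA A, (if (c = 1 ∨ c = negOneT A) then f c else 0) = f 1 + f (negOneT A) := by
  classical
  have hne := negOneT_ne_one h2 A
  have e : ∀ c : torusA A, (if (c = 1 ∨ c = negOneT A) then f c else 0) =
      (if c = 1 then f c else 0) + (if c = negOneT A then f c else 0) := by
    intro c
    by_cases h1 : c = 1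
    · have : ¬ (c = negOneT A) := by rw [h1]; exact hne
      rw [if_pos (Or.inl h1), if_pos h1, if_neg this, add_zero]
    · by_cases h3 : c = negOneT A
      · rw [if_pos (Or.inr h3), if_neg h1, if_pos h3, zero_add]
      · rw [if_neg (by tauto), if_neg h1, if_neg h3, add_zero]
  simp only [e]
  rw [Finset.sum_add_distrib, Finset.sum_ite_eq' Finset.univ, Finset.sum_ite_eq' Finset.univ]
  simp

omit [Fintype F] [DecidableEq F] in
theorem torus_central_iff {A : M2} (c : torusA A) :
    (c = 1 ∨ c = negOneT A) ↔ (((c : S2) : M2) = 1 ∨ ((c : S2) : M2) = -1) := by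
  constructor
  · rintro (h | h)
    · left; rw [h]; exact Matrix.SpecialLinearGroup.coe_one
    · right; rw [h]; exact sl2_neg_one_coe
  · rintro (h | h)
    · left
      apply Subtype.ext
      exact (sl2_coe_eq_one_iff _).1 h
    · right
      apply Subtype.ext
      exact (sl2_coe_eq_neg_one_iff _).1 h

namespace IsNonsplitGen

/-- Inner product of an induced function from the torus with a class function vanishing at
the non-central elements of the torus. -/
theorem classInner_indT_of_vanish {A : M2} {ε : F} (h : IsNonsplitGen A ε) (θ : torusA A →* ℂˣ)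
    (χ : S2 → ℂ) (hχ : IsClassFunction S2 χ)
    (hv : ∀ c : S2, c ∈ torusA A → (c : M2) ≠ 1 → (c : M2) ≠ -1 → χ c = 0) :
    classInner (indT A θ) χ = ((Fintype.card F : ℂ) + 1)⁻¹ *
      (conj (χ 1) + sgnT θ * conj (χ (-1))) := by
  classical
  have : Fintype (torusA A) := Fintype.ofFinite _
  unfold indT
  rw [frobenius_reciprocity _ _ _ hχ]
  unfold Cfsg.classInner
  rw [h.card]
  have e : ∀ c : torusA A, homFun θ c * conj (χ (c : S2)) =
      (if (c = 1 ∨ c = negOneT A) then homFun θ c * conj (χ (c : S2)) else 0) := by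
    intro c
    by_cases hc : c = 1 ∨ c = negOneT A
    · rw [if_pos hc]
    · rw [if_neg hc]
      have hc' := (not_congr (torus_central_iff c)).1 hc
      push Not at hc'
      rw [hv c c.2 hc'.1 hc'.2, map_zero, mul_zero]
  rw [Finset.sum_congr rfl (fun c _ => e c), sum_torus_central h.gen.two_ne]
  have e1 : homFun θ (1 : torusA A) = 1 := by
    simp only [homFun, map_one, Units.val_one]
  have e2 : homFun θ (negOneT A) = sgnT θ := rfl
  rw [e1, e2, one_mul]
  push_cast
  rfl

theorem indT_isClassFunction {A : M2} (θ : torusA A →* ℂˣ) : IsClassFunction S2 (indT A θ) :=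
  indFun_isClassFunction _ _

omit [Fintype F] [DecidableEq F] in
theorem sum_homFun_conj [Finite F] {A : M2} [Fintype (torusA A)] (θ θ' : torusA A →* ℂˣ)
    [Decidable (θ = θ')] :
    ∑ c : torusA A, homFun θ c * conj (homFun θ' c) =
      (Nat.card (torusA A) : ℂ) * (if θ = θ' then 1 else 0) := by
  have h := classInner_hom_units θ θ'
  unfold Cfsg.classInner at h
  have h0 : (Nat.card (torusA A) : ℂ) ≠ 0 := Nat.cast_ne_zero.2 Nat.card_pos.ne'
  have h' : ∑ c : torusA A, homFun θ c * conj (homFun θ' c) =
      (Nat.card (torusA A) : ℂ) * ((Nat.card (torusA A) : ℂ)⁻¹ *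
        ∑ c : torusA A, homFun θ c * conj (homFun θ' c)) := by
    field_simp
  rw [h']
  congr 1
  convert h using 2
  rfl

/-- Inner product of two functions induced from the torus. -/
theorem classInner_indT_indT {A : M2} {ε : F} (h : IsNonsplitGen A ε) (θ θ' : torusA A →* ℂˣ)
    [Decidable (θ = θ')] [Decidable (θ = θ'⁻¹)] :
    classInner (indT A θ) (indT A θ') = ((Fintype.card F : ℂ) - 2) * (1 + sgnT θ * sgnT θ') +
      (if θ = θ' then 1 else 0) + (if θ = θ'⁻¹ then 1 else 0) := by
  classical
  have : Fintype (torusA A) := Fintype.ofFinite _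
  have hcf := indT_isClassFunction θ'
  nth_rewrite 1 [indT]
  rw [frobenius_reciprocity _ _ _ hcf]
  unfold Cfsg.classInner
  rw [h.card]
  set K : ℂ := (Fintype.card F : ℂ) * ((Fintype.card F : ℂ) - 1) with hK
  have hinv : ∀ c : torusA A, homFun θ'⁻¹ c = (homFun θ' c)⁻¹ := by
    intro c
    simp only [homFun, MonoidHom.inv_apply, Units.val_inv_eq_inv_val]
  have e : ∀ c : torusA A, homFun θ c * conj (indT A θ' (c : S2)) =
      (homFun θ c * conj (homFun θ' c) + homFun θ c * conj (homFun θ'⁻¹ c)) +
      (if (c = 1 ∨ c = negOneT A) then (K - 2) * (homFun θ c * conj (homFun θ' c)) else 0) := by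
    intro c
    by_cases hc : c = 1 ∨ c = negOneT A
    · rw [if_pos hc]
      rcases hc with hc | hc
      · rw [hc]
        have e1 : ∀ ψ : torusA A →* ℂˣ, homFun ψ (1 : torusA A) = 1 := by
          intro ψ
          simp only [homFun, map_one, Units.val_one]
        have e2 : indT A θ' ((1 : torusA A) : S2) = K := h.indT_one θ'
        rw [e1, e1, e1, e2, hK]
        simp only [map_mul, map_sub, map_one, Complex.conj_natCast]
        ring
      · rw [hc]
        have e2 : indT A θ' ((negOneT A : torusA A) : S2) = K * sgnT θ' := h.indT_neg_one θ'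
        have e3 : homFun θ' (negOneT A) = sgnT θ' := rfl
        have e4 : homFun θ'⁻¹ (negOneT A) = sgnT θ' := by
          rw [hinv, e3]
          have := sgnT_sq θ'
          have hne : sgnT θ' ≠ 0 := by
            intro h0
            rw [h0] at this
            norm_num at this
          field_simp
          linear_combination -this
        rw [e2, e3, e4, hK]
        simp only [map_mul, map_sub, map_one, Complex.conj_natCast]
        ring
    · rw [if_neg hc, add_zero]
      have hc' := (not_congr (torus_central_iff c)).1 hc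
      push Not at hc'
      rw [h.indT_torus θ' c.2 hc'.1 hc'.2, map_add, mul_add]
      have : (⟨(c : S2), c.2⟩ : torusA A) = c := rfl
      rw [this, hinv]
      simp only [homFun, Units.val_inv_eq_inv_val]
  rw [Finset.sum_congr rfl (fun c _ => e c), Finset.sum_add_distrib, Finset.sum_add_distrib,
    sum_torus_central h.gen.two_ne, sum_homFun_conj, sum_homFun_conj, h.card]
  have e1 : ∀ ψ : torusA A →* ℂˣ, homFun ψ (1 : torusA A) = 1 := by
    intro ψ
    simp only [homFun, map_one, Units.val_one]
  have e3 : ∀ ψ : torusA A →* ℂˣ, homFun ψ (negOneT A) = sgnT ψ := fun _ => rfl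
  rw [e1, e1, e3, e3, conj_sgnT, map_one]
  have h0 := card_add_one_ne_zero (F := F)
  have e5 : (θ = θ'⁻¹) ↔ (θ = θ'⁻¹) := Iff.rfl
  push_cast
  rw [hK]
  field_simp
  ring

end IsNonsplitGen

end

end Cfsg.Agent.Helper12
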