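import Mathlib
import Cfsg.Agent.Helper12.SL2CuspInner

set_option autoImplicit false

open scoped ComplexConjugate

namespace Cfsg.Agent.Helper12

open Cfsg Cfsg.Agent.Helper8 Cfsg.Agent.Helper24

variable {F : Type*} [Field F]

local notation "S2" => Matrix.SpecialLinearGroup (Fin 2) F
local notation "M2" => Matrix (Fin 2) (Fin 2) F

section

variable [Fintype F] [DecidableEq F]

theorem psS_neg_one (γ : MulChar F ℂ) :
    psS γ (-1 : S2) = ((Fintype.card F : ℂ) + 1) * γ (-1) := by
  rw [← borelMkSL_neg_one_zero, psS_borel_central γ (by simp)]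
  simp

/-- The principal series has central character `γ(-1)`. -/
theorem psS_neg_mul (γ : MulChar F ℂ) (g : S2) : psS γ (-1 * g) = γ (-1) * psS γ g := by
  unfold psS
  have hmem : (-1 : S2) ∈ borelSL F := center_le_borelSL sl2_neg_one_mem_center
  apply indFun_central_mul (borelSL F) (borelChar γ) (-1) sl2_neg_one_mem_center hmem
  intro t
  rw [borelChar_mul]
  congr 1

theorem stS_neg_mul (g : S2) :
    (stS (F := F) : S2 → ℂ) (-1 * g) = (stS (F := F) : S2 → ℂ) g := by
  rw [stS_apply, stS_apply, psS_neg_mul]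
  have : (1 : MulChar F ℂ) (-1) = 1 := MulChar.one_apply (isUnit_one.neg)
  rw [this, one_mul]

theorem stPs_neg_mul (α : MulChar F ℂ) (g : S2) : stPs α (-1 * g) = α (-1) * stPs α g := by
  simp only [stPs, stS_neg_mul, psS_neg_mul]
  ring

namespace IsNonsplitGen

theorem classInner_stPs_stPs (h2 : (2 : F) ≠ 0) (α α' : MulChar F ℂ) :
    classInner (stPs α) (stPs α') = (Fintype.card F : ℂ) * (1 + α (-1) * α' (-1)) := by
  rw [classInner_stPs h2 α (stPs α') (stPs_isClassFunction α') (-1) (-α' (-1))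
    (fun r hr => by rw [stPs_borel_unip α' (by simp) hr]; simp)
    (fun r hr => by rw [stPs_borel_unip α' (by simp) hr]; simp)]
  rw [stPs_one, stPs_neg_one]
  have hq : (Fintype.card F : ℂ) ≠ 0 := by exact_mod_cast Fintype.card_ne_zero
  have hc := conj_of_sq_eq_one (mulChar_neg_one_sq α')
  simp only [map_mul, map_sub, map_add, map_one, map_neg, Complex.conj_natCast, hc]
  field_simp
  ring

theorem classInner_stPs_indT {A : M2} {ε : F} (h : IsNonsplitGen A ε) (α : MulChar F ℂ)
    (θ : torusA A →* ℂˣ) :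
    classInner (stPs α) (indT A θ) =
      ((Fintype.card F : ℂ) - 1) * (1 + α (-1) * sgnT θ) := by
  rw [classInner_stPs h.gen.two_ne α (indT A θ) (indT_isClassFunction θ) 0 0
    (fun r hr => h.indT_borel θ 1 r (Or.inr hr)) (fun r hr => h.indT_borel θ (-1) r (Or.inr hr))]
  rw [h.indT_one, h.indT_neg_one]
  have hq : (Fintype.card F : ℂ) ≠ 0 := by exact_mod_cast Fintype.card_ne_zero
  have hc : conj (((θ (negOneT A) : ℂˣ) : ℂ)) = sgnT θ := conj_sgnT θ
  simp only [map_mul, map_sub, map_one, map_zero, Complex.conj_natCast, hc, sub_zero]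
  field_simp

theorem classInner_indT_stPs {A : M2} {ε : F} (h : IsNonsplitGen A ε) (α : MulChar F ℂ)
    (θ : torusA A →* ℂˣ) :
    classInner (indT A θ) (stPs α) =
      ((Fintype.card F : ℂ) - 1) * (1 + sgnT θ * α (-1)) := by
  rw [h.classInner_indT_of_vanish θ (stPs α) (stPs_isClassFunction α)
    (fun c hc hc1 hc2 => stPs_no_eigen α c (h.noEigen c hc hc1 hc2))]
  rw [stPs_one, stPs_neg_one]
  have h0 := card_add_one_ne_zero (F := F)
  have hc := conj_of_sq_eq_one (mulChar_neg_one_sq α)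
  simp only [map_mul, map_sub, map_add, map_one, Complex.conj_natCast, hc]
  field_simp

theorem classInner_stPs_psS (h2 : (2 : F) ≠ 0) (α γ : MulChar F ℂ) :
    classInner (stPs α) (psS γ) = 1 + α (-1) * γ (-1) := by
  rw [classInner_stPs h2 α (psS γ) (indFun_isClassFunction _ _) 1 (γ (-1))
    (fun r hr => by rw [psS_unip γ (by simp) hr]; simp)
    (fun r hr => by rw [psS_unip γ (by simp) hr]; simp)]
  rw [psS_one, psS_neg_one]
  have hq : (Fintype.card F : ℂ) ≠ 0 := by exact_mod_cast Fintype.card_ne_zero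
  have hc := conj_of_sq_eq_one (mulChar_neg_one_sq γ)
  simp only [map_mul, map_add, map_one, Complex.conj_natCast, hc]
  field_simp
  ring

theorem classInner_indT_psS {A : M2} {ε : F} (h : IsNonsplitGen A ε) (γ : MulChar F ℂ)
    (θ : torusA A →* ℂˣ) :
    classInner (indT A θ) (psS γ) = 1 + sgnT θ * γ (-1) := by
  rw [h.classInner_indT_of_vanish θ (psS γ) (indFun_isClassFunction _ _)
    (fun c hc hc1 hc2 => psS_no_eigen γ c (h.noEigen c hc hc1 hc2))]
  rw [psS_one, psS_neg_one]
  have h0 := card_add_one_ne_zero (F := F)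
  have hc := conj_of_sq_eq_one (mulChar_neg_one_sq γ)
  simp only [map_mul, map_add, map_one, Complex.conj_natCast, hc]
  field_simp

/-- The inner products of the cuspidal generalized characters. -/
theorem classInner_cuspFun {A : M2} {ε : F} (h : IsNonsplitGen A ε) (θ θ' : torusA A →* ℂˣ)
    (α α' : MulChar F ℂ) (hα : α (-1) = sgnT θ) (hα' : α' (-1) = sgnT θ')
    [Decidable (θ = θ')] [Decidable (θ = θ'⁻¹)] :
    classInner (cuspFun A θ α) (cuspFun A θ' α') =
      (if θ = θ' then 1 else 0) + (if θ = θ'⁻¹ then 1 else 0) := by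
  unfold cuspFun
  rw [Helper8.classInner_sub_left, Helper8.classInner_sub_right, Helper8.classInner_sub_right,
    classInner_stPs_stPs h.gen.two_ne, h.classInner_stPs_indT, h.classInner_indT_stPs,
    h.classInner_indT_indT, hα, hα']
  ring

/-- The cuspidal generalized characters are orthogonal to the principal series. -/
theorem cuspFun_isCuspS {A : M2} {ε : F} (h : IsNonsplitGen A ε) (θ : torusA A →* ℂˣ)
    (α : MulChar F ℂ) (hα : α (-1) = sgnT θ) : IsCuspS (cuspFun A θ α) := by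
  intro γ
  rw [Helper8.classInner_conj_symm]
  unfold cuspFun
  rw [Helper8.classInner_sub_left, classInner_stPs_psS h.gen.two_ne, h.classInner_indT_psS, hα, sub_self,
    map_zero]

theorem cuspFun_isGeneralizedCharacter {A : M2} (θ : torusA A →* ℂˣ) (α : MulChar F ℂ) :
    IsGeneralizedCharacter S2 (cuspFun A θ α) := by
  unfold cuspFun
  apply IsGeneralizedCharacter.sub (stPs_isGeneralizedCharacter α)
  apply IsCharacter.isGeneralizedCharacter
  exact isCharacter_indFun _ (isCharacter_of_monoidHom ((Units.coeHom ℂ).comp θ))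

theorem cuspFun_one {A : M2} {ε : F} (h : IsNonsplitGen A ε) (θ : torusA A →* ℂˣ)
    (α : MulChar F ℂ) : cuspFun A θ α 1 = (Fintype.card F : ℂ) - 1 := by
  unfold cuspFun
  rw [Pi.sub_apply, stPs_one, h.indT_one]
  ring

theorem cuspFun_torus {A : M2} {ε : F} (h : IsNonsplitGen A ε) (θ : torusA A →* ℂˣ)
    (α : MulChar F ℂ) {c : S2} (hc : c ∈ torusA A) (hc1 : (c : M2) ≠ 1) (hc2 : (c : M2) ≠ -1) :
    cuspFun A θ α c = -(((θ ⟨c, hc⟩ : ℂˣ) : ℂ) + (((θ ⟨c, hc⟩)⁻¹ : ℂˣ) : ℂ)) := by
  unfold cuspFun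
  rw [Pi.sub_apply, stPs_no_eigen α c (h.noEigen c hc hc1 hc2), h.indT_torus θ hc hc1 hc2]
  ring

theorem cuspFun_borel_split {A : M2} {ε : F} (h : IsNonsplitGen A ε) (θ : torusA A →* ℂˣ)
    (α : MulChar F ℂ) {u : Fˣ} (hu : (u : F) ≠ ((u⁻¹ : Fˣ) : F)) (r : F) :
    cuspFun A θ α (borelMkSL u r) = 0 := by
  unfold cuspFun
  rw [Pi.sub_apply, stPs_borel_split α hu, h.indT_borel θ u r (Or.inl hu), sub_zero]

theorem cuspFun_borel_unip {A : M2} {ε : F} (h : IsNonsplitGen A ε) (θ : torusA A →* ℂˣ)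
    (α : MulChar F ℂ) {u : Fˣ} (hu : (u : F) = ((u⁻¹ : Fˣ) : F)) {r : F} (hr : r ≠ 0) :
    cuspFun A θ α (borelMkSL u r) = -α (u : F) := by
  unfold cuspFun
  rw [Pi.sub_apply, stPs_borel_unip α hu hr, h.indT_borel θ u r (Or.inr hr), sub_zero]

theorem cuspFun_neg_mul {A : M2} {ε : F} (h : IsNonsplitGen A ε) (θ : torusA A →* ℂˣ)
    (α : MulChar F ℂ) (hα : α (-1) = sgnT θ) (g : S2) :
    cuspFun A θ α (-1 * g) = sgnT θ * cuspFun A θ α g := by
  unfold cuspFun
  rw [Pi.sub_apply, Pi.sub_apply, stPs_neg_mul, h.indT_neg_mul, hα]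
  unfold sgnT
  ring

/-- **The cuspidal characters of `SL₂(q)` are irreducible.** -/
theorem cuspFun_isIrr {A : M2} {ε : F} (h : IsNonsplitGen A ε) (θ : torusA A →* ℂˣ)
    (hθ : θ ≠ θ⁻¹) (α : MulChar F ℂ) (hα : α (-1) = sgnT θ) :
    IsIrrCharacter S2 (cuspFun A θ α) := by
  classical
  have : Fintype (IrrCharacter S2) := Fintype.ofFinite _
  apply IsGeneralizedCharacter.isIrrCharacter_of_classInner_self
    (cuspFun_isGeneralizedCharacter θ α)
  · rw [h.classInner_cuspFun θ θ α α hα hα, if_pos rfl, if_neg hθ, add_zero]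
  · rw [h.cuspFun_one]
    have hq : 1 < Fintype.card F := Fintype.one_lt_card
    simp only [Complex.sub_re, Complex.natCast_re, Complex.one_re]
    have : (1 : ℝ) < (Fintype.card F : ℝ) := by exact_mod_cast hq
    linarith

end IsNonsplitGen

end

end Cfsg.Agent.Helper12
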