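import Mathlib
import Cfsg.Agent.Helper12.SL2CuspIrr
import Cfsg.Agent.Helper12.SL2NonsplitTorus

set_option autoImplicit false

open scoped ComplexConjugate

namespace Cfsg.Agent.Helper12

open Cfsg Cfsg.Agent.Helper8 Cfsg.Agent.Helper24

variable {F : Type*} [Field F]

local notation "S2" => Matrix.SpecialLinearGroup (Fin 2) F
local notation "M2" => Matrix (Fin 2) (Fin 2) F

/-- An element with an eigenvector is conjugate into the Borel subgroup. -/
theorem exists_conj_mem_borelSL_of_eigen (g : S2) (a : F) (v : Fin 2 → F) (hv : v ≠ 0)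
    (hgv : (g : M2).mulVec v = a • v) : ∃ x : S2, x⁻¹ * g * x ∈ borelSL F := by
  have h0 := congrFun hgv 0
  have h1 := congrFun hgv 1
  simp only [Matrix.mulVec, dotProduct, Fin.sum_univ_two, Pi.smul_apply, smul_eq_mul] at h0 h1
  by_cases hv0 : v 0 = 0
  · have hv1 : v 1 ≠ 0 := by
      intro hv1
      apply hv
      ext i
      fin_cases i
      · exact hv0
      · exact hv1
    have hdet : (!![0, -(v 1)⁻¹; v 1, 0] : M2).det = 1 := by
      rw [Matrix.det_fin_two_of]; field_simp; ring
    obtain ⟨x, hx⟩ : ∃ x : S2, (x : M2) = !![0, -(v 1)⁻¹; v 1, 0] := ⟨⟨_, hdet⟩, rfl⟩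
    refine ⟨x, ?_⟩
    rw [mem_borelSL_iff, Matrix.SpecialLinearGroup.coe_mul, Matrix.SpecialLinearGroup.coe_mul,
      Matrix.SpecialLinearGroup.coe_inv, hx, Matrix.adjugate_fin_two]
    simp only [Matrix.mul_apply, Fin.sum_univ_two, Matrix.of_apply, Matrix.cons_val',
      Matrix.cons_val_zero, Matrix.cons_val_one, Matrix.cons_val_fin_one]
    rw [hv0] at h0 h1
    have : (g : M2) 0 1 = 0 := by
      have : (g : M2) 0 1 * v 1 = 0 := by linear_combination h0
      exact (mul_eq_zero.1 this).resolve_right hv1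
    rw [this]
    ring
  · have hdet : (!![v 0, 0; v 1, (v 0)⁻¹] : M2).det = 1 := by
      rw [Matrix.det_fin_two_of]; field_simp; ring
    obtain ⟨x, hx⟩ : ∃ x : S2, (x : M2) = !![v 0, 0; v 1, (v 0)⁻¹] := ⟨⟨_, hdet⟩, rfl⟩
    refine ⟨x, ?_⟩
    rw [mem_borelSL_iff, Matrix.SpecialLinearGroup.coe_mul, Matrix.SpecialLinearGroup.coe_mul,
      Matrix.SpecialLinearGroup.coe_inv, hx, Matrix.adjugate_fin_two]
    simp only [Matrix.mul_apply, Fin.sum_univ_two, Matrix.of_apply, Matrix.cons_val',
      Matrix.cons_val_zero, Matrix.cons_val_one, Matrix.cons_val_fin_one]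
    linear_combination (-(v 1)) * h0 + (v 0) * h1

/-- An element with an eigenvector has order dividing `q (q - 1)`. -/
theorem pow_eq_one_of_eigen [Fintype F] [DecidableEq F] (g : S2) (a : F) (v : Fin 2 → F)
    (hv : v ≠ 0) (hgv : (g : M2).mulVec v = a • v) :
    g ^ ((Fintype.card F - 1) * Fintype.card F) = 1 := by
  obtain ⟨x, hx⟩ := exists_conj_mem_borelSL_of_eigen g a v hv hgv
  have h1 : (⟨_, hx⟩ : borelSL F) ^ Nat.card (borelSL F) = 1 := pow_card_eq_one'
  rw [card_borelSL] at h1
  have h2 := congrArg (fun b : borelSL F => (b : S2)) h1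
  simp only [Subgroup.coe_pow, Subgroup.coe_one] at h2
  have e : g = x * (x⁻¹ * g * x) * x⁻¹ := by group
  rw [e, conj_pow, h2]
  group

/-- An element of order `q + 1` has no eigenvector. -/
theorem no_eigen_of_orderOf [Fintype F] [DecidableEq F] (g : S2)
    (hg : orderOf g = Fintype.card F + 1) :
    ∀ (a : F) (v : Fin 2 → F), v ≠ 0 → (g : M2).mulVec v ≠ a • v := by
  intro a v hv hgv
  have h1 := orderOf_dvd_of_pow_eq_one (pow_eq_one_of_eigen g a v hv hgv)
  rw [hg] at h1
  have hq : 1 < Fintype.card F := Fintype.one_lt_card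
  have hcop : Nat.Coprime (Fintype.card F + 1) (Fintype.card F) := by
    rw [Nat.coprime_comm]
    simp
  have h2 := hcop.dvd_of_dvd_mul_right h1
  have h3 := Nat.le_of_dvd (by omega) h2
  omega

namespace IsTorusGen

/-- Non-central elements of a torus with non-square discriminant have no eigenvectors. -/
theorem noEigen_of_not_isSquare {A : M2} {ε : F} (h : IsTorusGen A ε) (hε : ¬ IsSquare ε)
    (c : S2) (hc : c ∈ torusA A) (hc1 : (c : M2) ≠ 1) (hc2 : (c : M2) ≠ -1) :
    ∀ (a : F) (v : Fin 2 → F), v ≠ 0 → (c : M2).mulVec v ≠ a • v := by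
  intro a v hv hcv
  obtain ⟨x, y, hxy, _⟩ := h.torus_form hc
  have hy : y ≠ 0 := by
    rintro rfl
    rcases h.eq_one_or_neg_one hxy with h' | h'
    · exact hc1 h'
    · exact hc2 h'
  rw [hxy, Matrix.add_mulVec, Matrix.smul_mulVec, Matrix.smul_mulVec, Matrix.one_mulVec] at hcv
  have h1 : y • A.mulVec v = (a - x) • v := by
    rw [sub_smul, ← hcv]; abel
  have h2 : A.mulVec v = ((a - x) / y) • v := by
    have := congrArg (fun w => y⁻¹ • w) h1
    simp only [smul_smul, inv_mul_cancel₀ hy, one_smul] at this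
    rw [this, div_eq_inv_mul]
  have h3 : (A * A).mulVec v = (((a - x) / y) * ((a - x) / y)) • v := by
    rw [← Matrix.mulVec_mulVec, h2, Matrix.mulVec_smul, h2, smul_smul]
  rw [h.sq, Matrix.smul_mulVec, Matrix.one_mulVec] at h3
  apply hε
  refine ⟨(a - x) / y, ?_⟩
  by_contra hne
  apply hv
  have h4 : (ε - ((a - x) / y) * ((a - x) / y)) • v = 0 := by
    rw [sub_smul, h3, sub_self]
  exact (smul_eq_zero.1 h4).resolve_left (sub_ne_zero.2 hne)

end IsTorusGen

/-- The standard non-split torus. -/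
theorem isNonsplitGen_nsGen [Fintype F] (h2 : (2 : F) ≠ 0) {ε : F} (hε : ¬ IsSquare ε) :
    IsNonsplitGen (nsGen ε) ε where
  gen := nsGen_isTorusGen h2 (ne_zero_of_not_isSquare hε)
  anti := exists_anticomm_nsGen h2 (ne_zero_of_not_isSquare hε)
  card := card_torusA_nsGen h2 hε
  noEigen := (nsGen_isTorusGen h2 (ne_zero_of_not_isSquare hε)).noEigen_of_not_isSquare hε

/-- Conjugates of non-split tori. -/
theorem isNonsplitGen_conjGen [Fintype F] {A : M2} {ε : F} (h : IsNonsplitGen A ε)
    (hε : ¬ IsSquare ε) (g : S2) : IsNonsplitGen (conjGen g A) ε where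
  gen := conjGen_isTorusGen h.gen g
  anti := exists_anticomm_conjGen g h.anti
  card := by rw [card_torusA_conjGen, h.card]
  noEigen := (conjGen_isTorusGen h.gen g).noEigen_of_not_isSquare hε

/-- Every cyclic subgroup of order `q + 1` of `SL₂(q)`, `q` odd, is a non-split torus. -/
theorem exists_isNonsplitGen_of_cyclic [Fintype F] [DecidableEq F] (hodd : Odd (Fintype.card F))
    (C : Subgroup S2) (hC : IsCyclic C) (hcard : Nat.card C = Fintype.card F + 1) :
    ∃ (A : M2) (ε : F), IsNonsplitGen A ε ∧ C = torusA A := by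
  have h2 := two_ne_zero_of_odd_card hodd
  have hF : ringChar F ≠ 2 := by
    intro h
    apply h2
    have : CharP F 2 := ringChar.of_eq h
    exact CharTwo.two_eq_zero
  obtain ⟨ε, hε⟩ := FiniteField.exists_nonsquare hF
  obtain ⟨c₀, hc₀⟩ := hC.exists_generator
  have hord : orderOf (c₀ : S2) = Fintype.card F + 1 := by
    rw [Subgroup.orderOf_coe, orderOf_eq_card_of_forall_mem_zpowers hc₀, hcard]
  have hne := no_eigen_of_orderOf (c₀ : S2) hord
  obtain ⟨x, hx⟩ := exists_conj_mem_torusA_nsGen h2 hε (c₀ : S2) hne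
  have hns := isNonsplitGen_conjGen (isNonsplitGen_nsGen h2 hε) hε x⁻¹
  refine ⟨conjGen x⁻¹ (nsGen ε), ε, hns, ?_⟩
  have hmem : (c₀ : S2) ∈ torusA (conjGen x⁻¹ (nsGen ε)) := by
    rw [mem_torusA_conjGen, inv_inv]
    exact hx
  have hle : C ≤ torusA (conjGen x⁻¹ (nsGen ε)) := by
    intro c hc
    obtain ⟨k, hk⟩ := Subgroup.mem_zpowers_iff.1 (hc₀ ⟨c, hc⟩)
    have : c = (c₀ : S2) ^ k := by
      have := congrArg (fun z : C => (z : S2)) hk
      simpa using this.symm
    rw [this]
    exact Subgroup.zpow_mem _ hmem k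
  exact Subgroup.eq_of_le_of_card_ge hle (by rw [hns.card, hcard])

/-- Multiplicative characters with prescribed sign. -/
theorem exists_mulChar_neg_one [Fintype F] (h2 : (2 : F) ≠ 0) {s : ℂ} (hs : s ^ 2 = 1) :
    ∃ α : MulChar F ℂ, α (-1) = s := by
  have : (s - 1) * (s + 1) = 0 := by linear_combination hs
  rcases mul_eq_zero.1 this with h | h
  · refine ⟨1, ?_⟩
    rw [MulChar.one_apply (isUnit_one.neg)]
    linear_combination -h
  · have hne : (-1 : F) ≠ 1 := by
      intro h'
      apply h2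
      linear_combination -h'
    obtain ⟨α, hα⟩ := MulChar.exists_apply_ne_one_of_hasEnoughRootsOfUnity F ℂ hne
    refine ⟨α, ?_⟩
    have h3 := mulChar_neg_one_sq α
    have : (α (-1) - 1) * (α (-1) + 1) = 0 := by linear_combination h3
    rcases mul_eq_zero.1 this with h' | h'
    · exact absurd (by linear_combination h') hα
    · linear_combination h' - h

end Cfsg.Agent.Helper12
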