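import Mathlib
import Cfsg.Agent.Helper12.SL2CuspExist
import Cfsg.Agent.Helper12.SL2TableOdd

set_option autoImplicit false

open scoped ComplexConjugate

namespace Cfsg.Agent.Helper12

open Cfsg Cfsg.Agent.Helper8 Cfsg.Agent.Helper24

/-- A finite cyclic group has at most two linear characters equal to their inverse. -/
theorem card_le_card_hom_ne_inv {W : Type*} [Group W] [Finite W] (hW : IsCyclic W)
    [Fintype (W →* ℂˣ)] [DecidableEq (W →* ℂˣ)] :
    Nat.card W ≤ (Finset.univ.filter (fun θ : W →* ℂˣ => θ ≠ θ⁻¹)).card + 2 := by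
  classical
  let _ : CommGroup W := hW.commGroup
  have := hasEnoughRootsOfUnity_exponent W
  let e := (CommGroup.monoidHom_mulEquiv_of_hasEnoughRootsOfUnity W ℂ).some
  have hcyc : IsCyclic (W →* ℂˣ) := isCyclic_of_surjective e.symm e.symm.surjective
  have hcard : Nat.card (W →* ℂˣ) = Nat.card W := Nat.card_congr e.toEquiv
  have h2 := IsCyclic.card_pow_eq_one_le (α := W →* ℂˣ) (n := 2) (by norm_num)
  have hsplit := Finset.card_filter_add_card_filter_not (s := (Finset.univ : Finset (W →* ℂˣ)))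
    (fun θ : W →* ℂˣ => θ ^ 2 = 1)
  have hfilt : (Finset.univ.filter (fun θ : W →* ℂˣ => ¬ θ ^ 2 = 1)) =
      (Finset.univ.filter (fun θ : W →* ℂˣ => θ ≠ θ⁻¹)) := by
    ext θ
    simp only [Finset.mem_filter, Finset.mem_univ, true_and, ne_eq]
    rw [pow_two, mul_eq_one_iff_eq_inv]
  rw [hfilt, Finset.card_univ, ← Nat.card_eq_fintype_card, hcard] at hsplit
  omega

variable {F : Type*} [Field F]

local notation "S2" => Matrix.SpecialLinearGroup (Fin 2) F
local notation "M2" => Matrix (Fin 2) (Fin 2) F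

namespace IsNonsplitGen

/-- Every cuspidal irreducible character of degree `q - 1` is one of the `cuspFun`. -/
theorem exists_eq_cuspFun [Fintype F] [DecidableEq F] {A : M2} {ε : F} (h : IsNonsplitGen A ε)
    (hodd : Odd (Fintype.card F)) (hcyc : IsCyclic (torusA A)) (χ : S2 → ℂ)
    (hχ : IsIrrCharacter S2 χ) (hc : IsCuspS χ) (hdeg : χ 1 = (Fintype.card F : ℂ) - 1) :
    ∃ (θ : torusA A →* ℂˣ) (α : MulChar F ℂ), θ ≠ θ⁻¹ ∧ α (-1) = sgnT θ ∧
      χ = cuspFun A θ α := by
  classical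
  have : Fintype (IrrCharacter S2) := Fintype.ofFinite _
  have hfin : Finite (torusA A →* ℂˣ) :=
    finite_hom_units (fun a b => Subtype.ext (h.gen.torus_comm a.2 b.2))
  have : Fintype (torusA A →* ℂˣ) := Fintype.ofFinite _
  have hα : ∀ θ : torusA A →* ℂˣ, ∃ α : MulChar F ℂ, α (-1) = sgnT θ :=
    fun θ => exists_mulChar_neg_one h.gen.two_ne (sgnT_sq θ)
  choose αf hαf using hα
  -- the map to irreducible characters
  let f : (torusA A →* ℂˣ) → IrrCharacter S2 := fun θ =>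
    if hθ : θ ≠ θ⁻¹ then ⟨cuspFun A θ (αf θ), h.cuspFun_isIrr θ hθ (αf θ) (hαf θ)⟩ else stS
  have hf : ∀ θ : torusA A →* ℂˣ, θ ≠ θ⁻¹ → ((f θ : IrrCharacter S2) : S2 → ℂ) =
      cuspFun A θ (αf θ) := by
    intro θ hθ
    simp only [f, dif_pos hθ]
  set Θ' := Finset.univ.filter (fun θ : torusA A →* ℂˣ => θ ≠ θ⁻¹) with hΘ'
  set X := Finset.univ.filter (fun ψ : IrrCharacter S2 => IsCuspS (ψ : S2 → ℂ) ∧
    (ψ : S2 → ℂ) 1 = (Fintype.card F : ℂ) - 1) with hX
  -- the image lies in X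
  have himg : Θ'.image f ⊆ X := by
    intro ψ hψ
    obtain ⟨θ, hθ, rfl⟩ := Finset.mem_image.1 hψ
    have hθ' : θ ≠ θ⁻¹ := (Finset.mem_filter.1 hθ).2
    rw [hX, Finset.mem_filter]
    refine ⟨Finset.mem_univ _, ?_, ?_⟩
    · rw [hf θ hθ']; exact h.cuspFun_isCuspS θ (αf θ) (hαf θ)
    · rw [hf θ hθ']; exact h.cuspFun_one θ (αf θ)
  -- fibres have at most two elements
  have hfib : ∀ ψ ∈ Θ'.image f, (Θ'.filter (fun θ => f θ = ψ)).card ≤ 2 := by
    intro ψ hψ
    obtain ⟨θ₀, hθ₀, rfl⟩ := Finset.mem_image.1 hψ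
    have hθ₀' : θ₀ ≠ θ₀⁻¹ := (Finset.mem_filter.1 hθ₀).2
    have hsub : Θ'.filter (fun θ => f θ = f θ₀) ⊆ {θ₀, θ₀⁻¹} := by
      intro θ hθ
      rw [Finset.mem_filter] at hθ
      have hθ' : θ ≠ θ⁻¹ := (Finset.mem_filter.1 hθ.1).2
      have h1 := h.classInner_cuspFun θ θ₀ (αf θ) (αf θ₀) (hαf θ) (hαf θ₀)
      rw [← hf θ hθ', ← hf θ₀ hθ₀', hθ.2, classInner_irr_self] at h1
      rw [Finset.mem_insert, Finset.mem_singleton]
      by_contra hno
      push Not at hno
      rw [if_neg hno.1, if_neg hno.2] at h1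
      norm_num at h1
    exact (Finset.card_le_card hsub).trans Finset.card_le_two
  have hle := Finset.card_le_mul_card_image Θ' 2 hfib
  have hT : Fintype.card F + 1 ≤ Θ'.card + 2 := by
    have h1 := card_le_card_hom_ne_inv hcyc
    rw [h.card] at h1
    convert h1 using 3
  -- the count of X
  have hcount := cusp_degree_count_odd hodd (F := F) ((Fintype.card F : ℂ) - 1)
  have hq1 := card_sub_one_ne_zero (F := F)
  rw [if_pos rfl, if_neg (by
    intro h'
    apply hq1
    linear_combination h'), add_zero] at hcount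
  have hXcard : 2 * X.card = Fintype.card F - 1 := by
    have e : ∑ χ : IrrCharacter S2, (if IsCuspS (χ : S2 → ℂ) then
        (if (χ : S2 → ℂ) 1 = (Fintype.card F : ℂ) - 1 then (1 : ℂ) else 0) else 0) =
        (X.card : ℂ) := by
      rw [hX, Finset.card_filter]
      push_cast
      apply Finset.sum_congr rfl
      intro ψ _
      by_cases h1 : IsCuspS (ψ : S2 → ℂ)
      · by_cases h2 : (ψ : S2 → ℂ) 1 = (Fintype.card F : ℂ) - 1
        · rw [if_pos h1, if_pos h2, if_pos ⟨h1, h2⟩]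
        · rw [if_pos h1, if_neg h2, if_neg (fun h' => h2 h'.2)]
      · rw [if_neg h1, if_neg (fun h' => h1 h'.1)]
    rw [e] at hcount
    have hq : 1 ≤ Fintype.card F := Fintype.card_pos
    have : ((2 * X.card : ℕ) : ℂ) = ((Fintype.card F - 1 : ℕ) : ℂ) := by
      push_cast [Nat.cast_sub hq]
      exact hcount
    exact_mod_cast this
  have himgcard := Finset.card_le_card himg
  have heq : Θ'.image f = X := by
    apply Finset.eq_of_subset_of_card_le himg
    have hq : 1 < Fintype.card F := Fintype.one_lt_card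
    omega
  have hχX : (⟨χ, hχ⟩ : IrrCharacter S2) ∈ X := by
    rw [hX, Finset.mem_filter]
    exact ⟨Finset.mem_univ _, hc, hdeg⟩
  rw [← heq] at hχX
  obtain ⟨θ, hθ, hfθ⟩ := Finset.mem_image.1 hχX
  have hθ' : θ ≠ θ⁻¹ := (Finset.mem_filter.1 hθ).2
  refine ⟨θ, αf θ, hθ', hαf θ, ?_⟩
  rw [← hf θ hθ', hfθ]

end IsNonsplitGen

end Cfsg.Agent.Helper12
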