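import Mathlib
import Cfsg.Agent.Helper12.DegreeGraphArith
import Cfsg.Agent.Helper12.PSL2Char
import Cfsg.Agent.Helper12.SL2CuspConv
import Cfsg.Agent.Helper12.SL2OrderFour

set_option autoImplicit false

namespace Cfsg.Agent.Helper12

open Cfsg Cfsg.Agent.Helper8 Cfsg.Agent.Helper24

/-- A finite cyclic group of order more than four has an element whose fourth power is
not trivial. -/
theorem exists_pow_four_ne_one {C : Type*} [Group C] [Finite C] (hC : IsCyclic C)
    (h : 4 < Nat.card C) : ∃ x : C, x ^ 4 ≠ 1 := by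
  obtain ⟨g, hg⟩ := hC.exists_generator
  refine ⟨g, ?_⟩
  apply pow_ne_one_of_lt_orderOf (by norm_num)
  rw [orderOf_eq_card_of_forall_mem_zpowers hg]
  exact h

/-- The dual of a finite cyclic group of order more than four has an element whose fourth
power is not trivial. -/
theorem exists_hom_pow_four_ne_one {W : Type*} [Group W] [Finite W] (hW : IsCyclic W)
    (h : 4 < Nat.card W) : ∃ φ : W →* ℂˣ, φ ^ 4 ≠ 1 := by
  let _ : CommGroup W := hW.commGroup
  have := hasEnoughRootsOfUnity_exponent W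
  let e := (CommGroup.monoidHom_mulEquiv_of_hasEnoughRootsOfUnity W ℂ).some
  have hcyc : IsCyclic (W →* ℂˣ) := isCyclic_of_surjective e.symm e.symm.surjective
  have hcard : Nat.card (W →* ℂˣ) = Nat.card W := Nat.card_congr e.toEquiv
  have hfin : Finite (W →* ℂˣ) := Nat.finite_of_card_ne_zero (by rw [hcard]; omega)
  exact exists_pow_four_ne_one hcyc (by rw [hcard]; exact h)

variable {F : Type*} [Field F]

local notation "S2" => Matrix.SpecialLinearGroup (Fin 2) F
local notation "M2" => Matrix (Fin 2) (Fin 2) F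
local notation "P2" => Matrix.ProjectiveSpecialLinearGroup (Fin 2) F

/-- Degrees of `PSL₂` are degrees of `SL₂`. -/
theorem charDegrees_psl2_subset : charDegrees P2 ⊆ charDegrees S2 :=
  charDegrees_subset_of_surjective (QuotientGroup.mk' (Subgroup.center S2))
    (QuotientGroup.mk'_surjective _)

/-- A character of `SL₂` with `-1` in its kernel gives a degree of `PSL₂`. -/
theorem mem_charDegrees_psl2 [Finite F] (χ : S2 → ℂ) (hχ : IsIrrCharacter S2 χ) (n : ℕ)
    (h1 : χ 1 = (n : ℂ)) (hc : χ (-1) = χ 1) : n ∈ charDegrees P2 := by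
  obtain ⟨ψ, hψ⟩ := exists_irr_quotient' (Subgroup.center S2) ⟨χ, hχ⟩ (by
    intro z hz
    rcases sl2_center_eq z hz with rfl | rfl
    · rfl
    · exact hc)
  refine ⟨ψ, ?_⟩
  apply charDegree_of_natCast
  have := hψ 1
  rw [map_one] at this
  rw [this]
  exact h1

/-- `q` is a degree of `PSL₂(q)`. -/
theorem card_mem_charDegrees_psl2 [Fintype F] [DecidableEq F] :
    Fintype.card F ∈ charDegrees P2 :=
  mem_charDegrees_psl2 (stS (F := F) : S2 → ℂ) (stS (F := F)).2 _ stS_one
    (stS_central _ sl2_neg_one_mem_center)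

/-- `q + 1` is a degree of `PSL₂(q)` as soon as there is a multiplicative character `α`
with `α² ≠ 1` and `α(-1) = 1`. -/
theorem card_add_one_mem_charDegrees_psl2_of [Fintype F] [DecidableEq F] (α : MulChar F ℂ)
    (h : α ^ 2 ≠ 1) (hα : α (-1) = 1) : Fintype.card F + 1 ∈ charDegrees P2 := by
  apply mem_charDegrees_psl2 (psS α) (psS_isIrr α h)
  · rw [psS_one]; push_cast; ring
  · rw [psS_neg_one, psS_one, hα, mul_one]

/-- `q + 1` is a degree of `PSL₂(q)`, `q > 5`. -/
theorem card_add_one_mem_charDegrees_psl2 [Fintype F] [DecidableEq F]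
    (h5 : 5 < Fintype.card F) : Fintype.card F + 1 ∈ charDegrees P2 := by
  obtain ⟨e⟩ := MulChar.mulEquiv_units F ℂ
  have hcyc : IsCyclic (MulChar F ℂ) := isCyclic_of_surjective e.symm e.symm.surjective
  have hcard : 4 < Nat.card (MulChar F ℂ) := by
    rw [card_mulChar]; omega
  obtain ⟨β, hβ⟩ := exists_pow_four_ne_one hcyc hcard
  apply card_add_one_mem_charDegrees_psl2_of (β ^ 2)
  · rw [← pow_mul]; exact hβ
  · rw [MulChar.pow_apply' _ (by norm_num), ← map_pow]
    simp

/-- `q + 1` is a degree of `PSL₂(q)`, `q ≥ 4` even. -/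
theorem card_add_one_mem_charDegrees_psl2_even [Fintype F] [DecidableEq F] [CharP F 2]
    (h4 : 4 ≤ Fintype.card F) : Fintype.card F + 1 ∈ charDegrees P2 := by
  have hcard : 1 < Nat.card (MulChar F ℂ) := by
    rw [card_mulChar]; omega
  have : Nontrivial (MulChar F ℂ) := by
    have : Fintype (MulChar F ℂ) := Fintype.ofFinite _
    rw [Nat.card_eq_fintype_card] at hcard
    exact Fintype.one_lt_card_iff_nontrivial.1 hcard
  obtain ⟨α, hα⟩ := exists_ne (1 : MulChar F ℂ)
  apply card_add_one_mem_charDegrees_psl2_of α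
  · exact fun h => hα ((mulChar_sq_eq_one_even α).1 h)
  · rw [CharTwo.neg_eq, map_one]

/-- `q - 1` is a degree of `PSL₂(q)`, `q > 5` odd. -/
theorem card_sub_one_mem_charDegrees_psl2 [Fintype F] [DecidableEq F]
    (hodd : Odd (Fintype.card F)) (h5 : 5 < Fintype.card F) :
    Fintype.card F - 1 ∈ charDegrees P2 := by
  have h2 := two_ne_zero_of_odd_card hodd
  have hF : ringChar F ≠ 2 := ringChar_ne_two_of_odd hodd
  obtain ⟨ε, hε⟩ := FiniteField.exists_nonsquare hF
  have hns := isNonsplitGen_nsGen h2 hε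
  have hcyc := isCyclic_torusA_nsGen hε
  obtain ⟨φ, hφ⟩ := exists_hom_pow_four_ne_one hcyc (by rw [hns.card]; omega)
  have hθ : φ ^ 2 ≠ (φ ^ 2)⁻¹ := by
    intro h
    apply hφ
    ext c
    have h1 := congrArg (fun ψ : torusA (nsGen ε) →* ℂˣ => ψ c) h
    simp only [MonoidHom.inv_apply, MonoidHom.pow_apply] at h1
    rw [MonoidHom.pow_apply, MonoidHom.one_apply]
    have : (φ c) ^ 4 = (φ c) ^ 2 * (φ c) ^ 2 := by rw [← pow_add]
    rw [this]
    nth_rewrite 2 [h1]
    rw [mul_inv_cancel]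
  have hsgn : sgnT (φ ^ 2) = 1 := by
    unfold sgnT
    rw [MonoidHom.pow_apply, ← map_pow, pow_two]
    have : negOneT (nsGen ε) * negOneT (nsGen ε) = 1 := Subtype.ext sl2_neg_one_mul_self
    rw [this, map_one, Units.val_one]
  have hα : (1 : MulChar F ℂ) (-1) = sgnT (φ ^ 2) := by
    rw [hsgn, MulChar.one_apply (isUnit_one.neg)]
  have hq1 : 1 ≤ Fintype.card F := by omega
  apply mem_charDegrees_psl2 (cuspFun (nsGen ε) (φ ^ 2) 1) (hns.cuspFun_isIrr _ hθ 1 hα)
  · rw [hns.cuspFun_one, Nat.cast_sub hq1]; push_cast; ring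
  · have := hns.cuspFun_neg_mul (φ ^ 2) 1 hα 1
    rw [mul_one, hsgn, one_mul] at this
    exact this

theorem sl2_neg_one_eq_one [CharP F 2] : (-1 : S2) = 1 := by
  ext i j
  simp [Matrix.SpecialLinearGroup.coe_neg, CharTwo.neg_eq]

/-- `q - 1` is a degree of `PSL₂(q)`, `q` even. -/
theorem card_sub_one_mem_charDegrees_psl2_even [Fintype F] [DecidableEq F] [CharP F 2] :
    Fintype.card F - 1 ∈ charDegrees P2 := by
  classical
  have : Fintype (IrrCharacter S2) := Fintype.ofFinite _
  have hsum := two_mul_card_cuspS_even (F := F)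
  have hne : ∑ χ : IrrCharacter S2, (if IsCuspS (χ : S2 → ℂ) then (1 : ℂ) else 0) ≠ 0 := by
    intro h
    rw [h, mul_zero] at hsum
    have : (Fintype.card F : ℂ) ≠ 0 := Nat.cast_ne_zero.2 Fintype.card_ne_zero
    exact this hsum.symm
  obtain ⟨χ, -, hχ⟩ := Finset.exists_ne_zero_of_sum_ne_zero hne
  have hc : IsCuspS (χ : S2 → ℂ) := by
    by_contra hc
    rw [if_neg hc] at hχ
    exact hχ rfl
  have hq1 : 1 ≤ Fintype.card F := Fintype.card_pos
  apply mem_charDegrees_psl2 (χ : S2 → ℂ) χ.2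
  · rw [(cuspS_degree_eq_even _ χ.2 hc).1, Nat.cast_sub hq1]; push_cast; ring
  · rw [sl2_neg_one_eq_one]

/-- The possible degrees of `SL₂(q)`, `q ≥ 4`. -/
theorem charDegrees_sl2_cases [Fintype F] [DecidableEq F] (hF : 4 ≤ Fintype.card F) :
    ∀ d ∈ charDegrees S2, d = 1 ∨ d = Fintype.card F ∨ d = Fintype.card F + 1 ∨
      d = Fintype.card F - 1 ∨ 2 * d = Fintype.card F + 1 ∨ 2 * d = Fintype.card F - 1 := by
  rintro d ⟨⟨χ, hχ⟩, rfl⟩
  show charDegree χ = 1 ∨ _
  have hq1 : 1 ≤ Fintype.card F := by omega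
  by_cases hF2 : ringChar F = 2
  · have : CharP F 2 := ringChar.of_eq hF2
    rcases sl2_even_irr_cases χ hχ with rfl | rfl | ⟨α, _, rfl⟩ | ⟨_, h1, _⟩
    · left
      have h1 : (trivS (F := F)) 1 = ((1 : ℕ) : ℂ) := by simp [trivS]
      exact charDegree_of_natCast h1
    · right; left
      exact charDegree_of_natCast stS_one
    · right; right; left
      have h1 : psS α 1 = ((Fintype.card F + 1 : ℕ) : ℂ) := by
        rw [psS_one]; push_cast; ring
      exact charDegree_of_natCast h1
    · right; right; right; left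
      have h1' : χ 1 = ((Fintype.card F - 1 : ℕ) : ℂ) := by
        rw [h1, Nat.cast_sub hq1]; push_cast; ring
      exact charDegree_of_natCast h1'
  · have hodd : Odd (Fintype.card F) := Nat.odd_iff.2 (FiniteField.odd_card_of_char_ne_two hF2)
    obtain ⟨ε, hε⟩ := FiniteField.exists_nonsquare hF2
    obtain ⟨r, hr⟩ : ∃ r : ℕ, Fintype.card F = 2 * r + 5 := by
      obtain ⟨k, hk⟩ := hodd
      exact ⟨k - 2, by omega⟩
    rcases sl2_odd_cases_nat hodd r hr hε χ hχ with ⟨_, hd⟩ | ⟨_, hd⟩ | ⟨α, _, _, hd⟩ |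
      ⟨_, hd⟩ | ⟨_, hd, _⟩ | ⟨_, hd, _⟩
    · left
      exact charDegree_of_natCast hd
    · right; left
      rw [charDegree_of_natCast hd, hr]
    · right; right; left
      rw [charDegree_of_natCast hd, hr]
    · right; right; right; right; left
      rw [charDegree_of_natCast hd, hr]; ring
    · right; right; right; left
      rw [charDegree_of_natCast hd, hr]; omega
    · right; right; right; right; right
      rw [charDegree_of_natCast hd, hr]; omega

end Cfsg.Agent.Helper12
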