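import Mathlib

set_option autoImplicit false

namespace Cfsg.Agent.Helper12

open Nat

/-- Legendre lower bound: the first two terms. -/
theorem padicValNat_factorial_ge (p n : ℕ) [hp : Fact p.Prime] :
    n / p + n / p ^ 2 ≤ padicValNat p (n !) := by
  rw [padicValNat_factorial (p := p) (n := n) (b := Nat.log p n + 3) (by omega)]
  have hsub : ({1, 2} : Finset ℕ) ⊆ Finset.Ico 1 (Nat.log p n + 3) := by
    intro i hi
    simp only [Finset.mem_insert, Finset.mem_singleton] at hi
    rw [Finset.mem_Ico]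
    rcases hi with rfl | rfl <;> omega
  calc n / p + n / p ^ 2 = ∑ i ∈ ({1, 2} : Finset ℕ), n / p ^ i := by
        rw [Finset.sum_pair (by norm_num)]; simp
    _ ≤ ∑ i ∈ Finset.Ico 1 (Nat.log p n + 3), n / p ^ i :=
        Finset.sum_le_sum_of_subset hsub

/-- Legendre for small `n`. -/
theorem padicValNat_factorial_of_lt_sq (p n : ℕ) [hp : Fact p.Prime] (h : n < p ^ 2) :
    padicValNat p (n !) = n / p := by
  have hlog : Nat.log p n < 2 := by
    rcases Nat.eq_zero_or_pos n with rfl | hn
    · simp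
    · exact Nat.log_lt_of_lt_pow hn.ne' h
  rw [padicValNat_factorial (p := p) (n := n) (b := 2) hlog]
  simp

theorem cube_lt_two_pow (p : ℕ) : p ^ 3 < 2 ^ (p + 4) := by
  induction p with
  | zero => norm_num
  | succ k ih =>
    rcases Nat.lt_or_ge k 4 with hk | hk
    · interval_cases k <;> norm_num
    · have h1 : (k + 1) ^ 3 ≤ 2 * k ^ 3 := by nlinarith [sq_nonneg (k - 4 : ℤ), sq_nonneg k]
      calc (k + 1) ^ 3 ≤ 2 * k ^ 3 := h1
        _ < 2 * 2 ^ (k + 4) := by omega
        _ = 2 ^ (k + 1 + 4) := by ring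

end Cfsg.Agent.Helper12
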