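import Mathlib
import Cfsg.Agent.S2392
import Cfsg.Agent.Helper12.CrossCharE

set_option autoImplicit false

/-! An elementary abelian `r`-subgroup `E : (ZMod r)ⁿ → G` of a group with a faithful
representation `ρ : G → GL_d(F)` in characteristic different from `r`: after extending scalars the
occurring weights contain a basis of `(ZMod r)ⁿ`. -/

namespace Cfsg.Agent.Helper12

open Matrix

universe u

variable {F : Type u} [Field F] {K' : Type u} [Field K'] (φ : F →+* K')
  {r : ℕ} [Fact r.Prime] (ψ : AddChar (ZMod r) K')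
  {G : Type*} [Group G] {n d : ℕ} (E : (Fin n → ZMod r) → G) (ρ : G →* GL (Fin d) F)

/-- The matrix of `g` after extension of scalars. -/
def SW (g : G) : Matrix (Fin d) (Fin d) K' :=
  ((Matrix.GeneralLinearGroup.map φ (ρ g) : GL (Fin d) K') : Matrix (Fin d) (Fin d) K')

theorem SW_one : SW φ ρ (1 : G) = 1 := by
  simp [SW]

theorem SW_mul (g h : G) : SW φ ρ (g * h) = SW φ ρ g * SW φ ρ h := by
  simp [SW]

theorem SW_eq_one (hρ : Function.Injective ρ) {g : G} (h : SW φ ρ g = 1) : g = 1 := by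
  have h1 : Matrix.GeneralLinearGroup.map φ (ρ g) = 1 := Units.ext h
  have h2 := glMap_eq_one φ _ h1
  apply hρ
  rw [h2, map_one]

theorem SW_mulVec_eq_zero (g : G) (v : Fin d → K') (h : SW φ ρ g *ᵥ v = 0) : v = 0 := by
  have h1 := congrArg (fun w => SW φ ρ g⁻¹ *ᵥ w) h
  simp only [Matrix.mulVec_mulVec, Matrix.mulVec_zero] at h1
  rw [← SW_mul, inv_mul_cancel, SW_one, Matrix.one_mulVec] at h1
  exact h1

/-- The matrices of the elements `E a` after extension of scalars. -/
def RW (a : Fin n → ZMod r) : Matrix (Fin d) (Fin d) K' := SW φ ρ (E a)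

/-- Existence of the extension field with a primitive additive character of `ZMod r`. -/
theorem exists_primitive_ext (F : Type u) [Field F] (r : ℕ) [Fact r.Prime] (hr : ringChar F ≠ r) :
    ∃ (K' : Type u) (_ : Field K') (_ : F →+* K') (ψ : AddChar (ZMod r) K'),
      ψ.IsPrimitive ∧ ((Fintype.card (ZMod r) : ℕ) : K') ≠ 0 := by
  have hr' : ringChar F ≠ ringChar (ZMod r) := by rwa [ZMod.ringChar_zmod_n]
  let P := AddChar.FiniteField.primitiveChar (ZMod r) F hr'
  refine ⟨CyclotomicField P.n F, inferInstance, algebraMap F _, P.char, P.prim, ?_⟩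
  apply natCast_card_ne_zero
  rw [← Algebra.ringChar_eq F (CyclotomicField P.n F)]
  exact hr'

variable {φ ψ E ρ}

/-- The occurring weights of a faithfully represented elementary abelian subgroup contain a
basis. -/
theorem exists_weight_basis (hψ : ψ.IsPrimitive) (hq : ((Fintype.card (ZMod r) : ℕ) : K') ≠ 0)
    (hE0 : E 0 = 1) (hEadd : ∀ a b, E (a + b) = E a * E b) (hEinj : ∀ a, E a = 1 → a = 0)
    (hρ : Function.Injective ρ) :
    ∃ b : Fin n → (Fin n → ZMod r), LinearIndependent (ZMod r) b ∧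
      ∀ i, ∃ v : Fin d → K', v ≠ 0 ∧ IsWeight ψ (RW φ E ρ) (b i) v := by
  apply exists_independent_family
    {c | ∃ v : Fin d → K', v ≠ 0 ∧ IsWeight ψ (RW φ E ρ) c v}
  intro a ha
  have hR0 : RW φ E ρ 0 = 1 := by
    simp only [RW, hE0, SW_one]
  have hRadd : ∀ a b, RW φ E ρ (a + b) = RW φ E ρ a * RW φ E ρ b := by
    intro a b
    simp only [RW, hEadd, SW_mul]
  have hne : RW φ E ρ a ≠ 1 := by
    intro h
    exact ha (hEinj a (SW_eq_one φ ρ hρ h))
  obtain ⟨c, hc, hcY⟩ := exists_weight_dot_ne_zero ψ (RW φ E ρ) hψ hq hR0 hRadd hne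
  exact ⟨c, hcY, hc⟩

/-- Moving weights by an element normalizing `E`. -/
theorem isWeight_move (g : G) (T : (Fin n → ZMod r) → (Fin n → ZMod r))
    (hg : ∀ a, E a * g = g * E (T a)) {c c' : Fin n → ZMod r}
    (hT : ∀ a, T a ⬝ᵥ c = a ⬝ᵥ c') {v : Fin d → K'}
    (hv : IsWeight ψ (RW φ E ρ) c v) :
    IsWeight ψ (RW φ E ρ) c' (SW φ ρ g *ᵥ v) := by
  refine IsWeight.map' ψ (RW φ E ρ) (T := T) ?_ hT hv
  intro a
  simp only [RW, ← SW_mul, hg]

end Cfsg.Agent.Helper12
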