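import Mathlib

set_option autoImplicit false

namespace Cfsg.Agent.Helper12.FlagCount

open Module

variable {K V : Type*} [Field K] [Fintype K] [AddCommGroup V] [Module K V] [Finite V]

/-- Families of `k` linearly independent vectors, the `j`-th one taken from `E j`. -/
def Adapted (E : ℕ → Submodule K V) (k : ℕ) : Type _ :=
  { s : Fin k → V // LinearIndependent K s ∧ ∀ j : Fin k, s j ∈ E j }

/-- The snoc-decomposition of adapted families. -/
noncomputable def adaptedEquiv (E : ℕ → Submodule K V) (k : ℕ) :
    Adapted E (k + 1) ≃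
      Σ s : Adapted E k, { v : V // v ∈ E k ∧ v ∉ Submodule.span K (Set.range s.1) } where
  toFun s := ⟨⟨Fin.init s.1, by
      have h := s.2.1
      rw [← Fin.snoc_init_self s.1, linearIndependent_finSnoc] at h
      refine ⟨h.1, fun j => ?_⟩
      have := s.2.2 j.castSucc
      simpa [Fin.init] using this⟩,
    ⟨s.1 (Fin.last k), by
      have h := s.2.1
      rw [← Fin.snoc_init_self s.1, linearIndependent_finSnoc] at h
      refine ⟨?_, h.2⟩
      have := s.2.2 (Fin.last k)
      simpa using this⟩⟩
  invFun t := ⟨Fin.snoc t.1.1 t.2.1, by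
      refine ⟨linearIndependent_finSnoc.mpr ⟨t.1.2.1, t.2.2.2⟩, fun j => ?_⟩
      refine Fin.lastCases ?_ (fun i => ?_) j
      · simpa using t.2.2.1
      · simpa using t.1.2.2 i⟩
  left_inv s := by
    apply Subtype.ext
    simp
  right_inv t := by
    rcases t with ⟨⟨s, hs⟩, ⟨v, hv⟩⟩
    have h1 : Fin.init (Fin.snoc s v : Fin (k + 1) → V) = s := Fin.init_snoc ..
    refine Sigma.ext (Subtype.ext h1) ?_
    apply (Subtype.heq_iff_coe_eq ?_).mpr
    · simp
    · intro x
      simp only [h1]


instance (E : ℕ → Submodule K V) (k : ℕ) : Finite (Adapted E k) := by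
  unfold Adapted
  infer_instance

theorem card_fiber (E : ℕ → Submodule K V) (hE : Monotone E) (d : ℕ → ℕ)
    (hd : ∀ j, Nat.card (E j) = Fintype.card K ^ d j) (k : ℕ) (s : Adapted E k) :
    Nat.card { v : V // v ∈ E k ∧ v ∉ Submodule.span K (Set.range s.1) } =
      Fintype.card K ^ d k - Fintype.card K ^ k := by
  have hle : Submodule.span K (Set.range s.1) ≤ E k := by
    rw [Submodule.span_le]
    rintro _ ⟨j, rfl⟩
    exact hE (Nat.le_of_lt j.2) (s.2.2 j)
  have h1 : Nat.card { v : V // v ∈ E k ∧ v ∉ Submodule.span K (Set.range s.1) } =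
      ((E k : Set V) \ (Submodule.span K (Set.range s.1) : Set V)).ncard := by
    rw [← Nat.card_coe_set_eq]
    rfl
  rw [h1, Set.ncard_sdiff (by exact_mod_cast hle) (Set.toFinite _), ← Nat.card_coe_set_eq,
    ← Nat.card_coe_set_eq]
  have h2 : Nat.card (E k : Set V) = Fintype.card K ^ d k := hd k
  have h3 : Nat.card (Submodule.span K (Set.range s.1) : Set V) = Fintype.card K ^ k := by
    have : Module.Finite K V := Module.Finite.of_finite
    have := Module.natCard_eq_pow_finrank (K := K) (V := Submodule.span K (Set.range s.1))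
    rw [finrank_span_eq_card s.2.1, Fintype.card_fin, Nat.card_eq_fintype_card (α := K)] at this
    exact this
  rw [h2, h3]

theorem card_adapted (E : ℕ → Submodule K V) (hE : Monotone E) (d : ℕ → ℕ)
    (hd : ∀ j, Nat.card (E j) = Fintype.card K ^ d j) (k : ℕ) :
    Nat.card (Adapted E k) = ∏ j : Fin k, (Fintype.card K ^ d j - Fintype.card K ^ j.val) := by
  induction k with
  | zero =>
    have : Unique (Adapted E 0) :=
      ⟨⟨⟨Fin.elim0, linearIndependent_empty_type, fun j => j.elim0⟩⟩,
        fun s => Subtype.ext (funext fun j => j.elim0)⟩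
    simp
  | succ k ih =>
    have : Fintype (Adapted E k) := Fintype.ofFinite _
    rw [Nat.card_congr (adaptedEquiv E k), Nat.card_sigma, Fin.prod_univ_castSucc]
    simp only [card_fiber E hE d hd k, Finset.sum_const, Finset.card_univ, smul_eq_mul,
      Fin.val_castSucc, Fin.val_last]
    rw [← ih, Nat.card_eq_fintype_card]

end Cfsg.Agent.Helper12.FlagCount
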