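import Cfsg.Prelude.Def_LinearParabolics

set_option autoImplicit false

namespace Cfsg.Agent.Helper12.FlagCount

open Cfsg

/-- Exclusive prefix sums of a composition. -/
def pre {n : ℕ} (μ : Fin n → ℕ) (t : ℕ) : ℕ :=
  ∑ k ∈ Finset.univ.filter (fun k : Fin n => k.val < t), μ k

theorem pre_zero {n : ℕ} (μ : Fin n → ℕ) : pre μ 0 = 0 := by
  simp [pre]

theorem pre_mono {n : ℕ} (μ : Fin n → ℕ) : Monotone (pre μ) := by
  intro s t hst
  unfold pre
  apply Finset.sum_le_sum_of_subset
  intro k hk
  rw [Finset.mem_filter] at hk ⊢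
  exact ⟨hk.1, lt_of_lt_of_le hk.2 hst⟩

theorem pre_succ {n : ℕ} (μ : Fin n → ℕ) (a : Fin n) :
    pre μ (a.val + 1) = pre μ a.val + μ a := by
  unfold pre
  have : Finset.univ.filter (fun k : Fin n => k.val < a.val + 1) =
      insert a (Finset.univ.filter (fun k : Fin n => k.val < a.val)) := by
    ext k
    simp only [Finset.mem_filter, Finset.mem_univ, true_and, Finset.mem_insert]
    constructor
    · intro h
      rcases Nat.lt_succ_iff_lt_or_eq.mp h with h | h
      · exact Or.inr h
      · exact Or.inl (Fin.ext h)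
    · rintro (h | h)
      · rw [h]; exact Nat.lt_succ_self _
      · exact Nat.lt_succ_of_lt h
  rw [this, Finset.sum_insert (by simp), add_comm]

theorem pre_top {n : ℕ} (μ : Fin n → ℕ) (t : ℕ) (ht : n ≤ t) : pre μ t = ∑ k, μ k := by
  unfold pre
  congr 1
  ext k
  simp only [Finset.mem_filter, Finset.mem_univ, true_and, iff_true]
  exact lt_of_lt_of_le k.2 ht

theorem compLabel_eq {n : ℕ} (μ : Fin n → ℕ) (i : Fin n) :
    compLabel μ i = (Finset.univ.filter fun j : Fin n => pre μ (j.val + 1) ≤ i.val).card := by
  unfold compLabel pre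
  congr 1
  ext j
  simp only [Finset.mem_filter, Finset.mem_univ, true_and]
  have : Finset.univ.filter (fun k : Fin n => k ≤ j) =
      Finset.univ.filter (fun k : Fin n => k.val < j.val + 1) := by
    ext k
    simp only [Finset.mem_filter, Finset.mem_univ, true_and, Fin.le_def]
    omega
  rw [this]

/-- `compLabel μ i ≤ a ↔ i < pre μ (a+1)` for `a < n`. -/
theorem compLabel_le_iff {n : ℕ} (μ : Fin n → ℕ) (i : Fin n) (a : ℕ) (ha : a < n) :
    compLabel μ i ≤ a ↔ i.val < pre μ (a + 1) := by
  rw [compLabel_eq]
  constructor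
  · intro h
    by_contra hcon
    push Not at hcon
    have hsub : Finset.univ.filter (fun j : Fin n => j.val < a + 1) ⊆
        Finset.univ.filter (fun j : Fin n => pre μ (j.val + 1) ≤ i.val) := by
      intro j hj
      rw [Finset.mem_filter] at hj ⊢
      exact ⟨hj.1, le_trans (pre_mono μ (by omega)) hcon⟩
    have hcard : (Finset.univ.filter (fun j : Fin n => j.val < a + 1)).card = a + 1 := by
      rw [Fin.card_filter_val_lt]
      omega
    have := Finset.card_le_card hsub
    omega
  · intro h
    have hsub : Finset.univ.filter (fun j : Fin n => pre μ (j.val + 1) ≤ i.val) ⊆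
        Finset.univ.filter (fun j : Fin n => j.val < a) := by
      intro j hj
      rw [Finset.mem_filter] at hj ⊢
      refine ⟨hj.1, ?_⟩
      by_contra hcon
      push Not at hcon
      have := pre_mono μ (show a + 1 ≤ j.val + 1 by omega)
      omega
    have hcard : (Finset.univ.filter (fun j : Fin n => j.val < a)).card = a := by
      rw [Fin.card_filter_val_lt]
      omega
    have := Finset.card_le_card hsub
    omega

end Cfsg.Agent.Helper12.FlagCount
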