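import Cfsg.Agent.Helper12.FlagCountA
import Cfsg.Agent.Helper12.FlagCountC

set_option autoImplicit false

namespace Cfsg.Agent.Helper12.FlagCount

open Cfsg Matrix
open scoped MatrixGroups

variable {F : Type*} [Field F]

/-- Vectors supported on the first `c` coordinates. -/
def coordSub (n : ℕ) (F : Type*) [Field F] (c : ℕ) : Submodule F (Fin n → F) where
  carrier := {v | ∀ i : Fin n, c ≤ i.val → v i = 0}
  add_mem' := fun {a b} ha hb i hi => by
    change a i + b i = 0
    rw [ha i hi, hb i hi, add_zero]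
  zero_mem' := fun _ _ => rfl
  smul_mem' := fun c v hv i hi => by
    change c * v i = 0
    rw [hv i hi, mul_zero]

theorem mem_coordSub {n : ℕ} (c : ℕ) (v : Fin n → F) :
    v ∈ coordSub n F c ↔ ∀ i : Fin n, c ≤ i.val → v i = 0 := Iff.rfl

theorem coordSub_mono (n : ℕ) : Monotone (coordSub n F) := by
  intro c c' h v hv i hi
  exact hv i (le_trans h hi)

/-- Restriction to the first `c` coordinates. -/
def coordEquiv (n : ℕ) (c : ℕ) : coordSub n F c ≃ ({i : Fin n // i.val < c} → F) where
  toFun v := fun i => v.1 i.1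
  invFun w := ⟨fun i => if h : i.val < c then w ⟨i, h⟩ else 0, fun i hi => by
    change (if h : i.val < c then w ⟨i, h⟩ else 0) = 0
    rw [dif_neg (by omega)]⟩
  left_inv v := by
    apply Subtype.ext
    funext i
    change (if h : i.val < c then v.1 i else 0) = v.1 i
    split_ifs with h
    · rfl
    · exact (v.2 i (by omega)).symm
  right_inv w := by
    funext i
    change (if h : i.1.val < c then w ⟨i.1, h⟩ else 0) = w i
    rw [dif_pos i.2]

theorem card_coordSub [Fintype F] (n c : ℕ) (hc : c ≤ n) :
    Nat.card (coordSub n F c) = Fintype.card F ^ c := by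
  rw [Nat.card_congr (coordEquiv n c), Nat.card_fun, Nat.card_eq_fintype_card (α := F)]
  congr 1
  rw [Nat.card_eq_fintype_card, Fintype.card_subtype, Fin.card_filter_val_lt]
  omega


theorem mem_parabolicGL_iff [Fintype F] {n : ℕ} (μ : Fin n → ℕ) (hμ : ∑ i, μ i = n)
    (g : GL (Fin n) F) :
    g ∈ parabolicGL n F μ ↔
      ∀ j : Fin n, ((Matrix.equiv_GL_linearindependent n g).1 j) ∈ coordSub n F (cut μ j.val) := by
  change (g : Matrix (Fin n) (Fin n) F).BlockTriangular (compLabel μ) ↔ _
  constructor
  · intro h j i hi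
    change (g : Matrix (Fin n) (Fin n) F) i j = 0
    exact h ((compLabel_lt_iff μ hμ i j).mpr hi)
  · intro h i j hij
    exact h j i ((compLabel_lt_iff μ hμ i j).mp hij)

/-- The parabolic subgroup as adapted families of columns. -/
noncomputable def parabolicEquiv [Fintype F] {n : ℕ} (μ : Fin n → ℕ) (hμ : ∑ i, μ i = n) :
    parabolicGL n F μ ≃
      Adapted (K := F) (V := Fin n → F) (fun j => coordSub n F (cut μ j)) n :=
  (Equiv.subtypeEquiv (Matrix.equiv_GL_linearindependent n)
    (fun g => mem_parabolicGL_iff μ hμ g)).trans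
    (Equiv.subtypeSubtypeEquivSubtypeInter _ _)

theorem card_parabolicGL [Fintype F] {n : ℕ} (μ : Fin n → ℕ) (hμ : ∑ i, μ i = n) :
    Nat.card (parabolicGL n F μ) =
      ∏ j : Fin n, (Fintype.card F ^ cut μ j.val - Fintype.card F ^ j.val) := by
  rw [Nat.card_congr (parabolicEquiv μ hμ)]
  exact card_adapted (fun j => coordSub n F (cut μ j))
    (fun j j' h => coordSub_mono n (cut_mono μ hμ h)) (cut μ)
    (fun j => card_coordSub n (cut μ j) (cut_le μ hμ j)) n

end Cfsg.Agent.Helper12.FlagCount
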