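import Mathlib
import Cfsg.Prelude.Def_ClassicalGeometry
import Cfsg.Agent.Helper28.Spin5
import Cfsg.Agent.Helper13.QuadWitt

set_option autoImplicit false
set_option linter.unusedSectionVars false

/-! Products of reflections in an orthogonal frame: eigenvectors, characteristic polynomial,
membership in `Ω`. -/

namespace Cfsg.Agent.Helper12.InvClass

open Matrix Polynomial Cfsg.Agent.Helper28.Spin

variable {F : Type*} [Field F] {ι : Type} [Fintype ι] [DecidableEq ι]
  (Q : QuadraticForm F (ι → F))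

/-- the product of the reflections in an orthogonal family (any index type), applied to a member
of the family -/
theorem prod_refl_apply_gen {κ : Type*} [DecidableEq κ] (v : κ → ι → F) (hv : ∀ i, Q (v i) ≠ 0)
    (horth : ∀ i j, i ≠ j → QuadraticMap.polar ⇑Q (v i) (v j) = 0) (l : List κ)
    (hl : l.Nodup) (j : κ) :
    (l.map (fun i => Cfsg.reflectionMatrix ⇑Q (v i))).prod *ᵥ v j =
      if j ∈ l then - v j else v j := by
  induction l with
  | nil => simp
  | cons i l ih =>
    rw [List.nodup_cons] at hl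
    rw [List.map_cons, List.prod_cons, ← Matrix.mulVec_mulVec, ih hl.2]
    by_cases hij : j = i
    · subst hij
      rw [if_neg hl.1, if_pos (by simp), refl_self Q (hv j)]
    · by_cases hjl : j ∈ l
      · rw [if_pos hjl, if_pos (by simp [hjl]), Matrix.mulVec_neg,
          refl_fix Q (horth i j (Ne.symm hij))]
      · rw [if_neg hjl, if_neg (by simp [hjl, hij]), refl_fix Q (horth i j (Ne.symm hij))]

/-- the matrix whose columns are the vectors `w j` -/
def colMat (w : ι → ι → F) : Matrix ι ι F := Matrix.of (fun i j => w j i)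

theorem colMat_col (w : ι → ι → F) : (colMat w).col = w := by
  funext j i
  rfl

theorem isUnit_colMat (h2 : (2 : F) ≠ 0) (w : ι → ι → F) (hw : ∀ i, Q (w i) ≠ 0)
    (horth : ∀ i j, i ≠ j → QuadraticMap.polar ⇑Q (w i) (w j) = 0) : IsUnit (colMat w) := by
  rw [← Matrix.linearIndependent_cols_iff_isUnit, colMat_col]
  apply Cfsg.Agent.Helper13.linearIndependent_of_dual_polar Q w w horth
  intro i
  rw [polar_self']
  exact mul_ne_zero h2 (hw i)

theorem mul_colMat (M : Matrix ι ι F) (w : ι → ι → F) (d : ι → F)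
    (h : ∀ j, M *ᵥ w j = d j • w j) : M * colMat w = colMat w * Matrix.diagonal d := by
  ext i j
  rw [Matrix.mul_diagonal]
  have := congrFun (h j) i
  simp only [Matrix.mulVec, dotProduct, Pi.smul_apply, smul_eq_mul] at this
  simp only [Matrix.mul_apply, colMat, Matrix.of_apply]
  rw [this, mul_comm]

theorem charpoly_eq_of_eigen (M : Matrix ι ι F) (w : ι → ι → F) (hu : IsUnit (colMat w))
    (d : ι → F) (h : ∀ j, M *ᵥ w j = d j • w j) : M.charpoly = ∏ j, (X - C (d j)) := by
  obtain ⟨P, hP⟩ := hu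
  have h1 := mul_colMat M w d h
  rw [← hP] at h1
  have h2 : M = P.val * Matrix.diagonal d * P⁻¹.val := by
    rw [← h1, _root_.mul_assoc, Units.mul_inv, _root_.mul_one]
  rw [h2, Matrix.coe_units_inv, Matrix.charpoly_units_conj, Matrix.charpoly_diagonal]

theorem eq_one_of_fix (M : Matrix ι ι F) (w : ι → ι → F) (hu : IsUnit (colMat w))
    (h : ∀ j, M *ᵥ w j = w j) : M = 1 := by
  obtain ⟨P, hP⟩ := hu
  have h1 := mul_colMat M w (fun _ => 1) (fun j => by rw [h j, one_smul])
  rw [← hP] at h1
  have hd : Matrix.diagonal (fun _ : ι => (1 : F)) = 1 := Matrix.diagonal_one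
  rw [hd, _root_.mul_one] at h1
  calc M = M * P.val * P⁻¹.val := by rw [_root_.mul_assoc, Units.mul_inv, _root_.mul_one]
    _ = 1 := by rw [h1, Units.mul_inv]

/-- the sign vector of a finite set -/
def sgnVec (S : Finset ι) (j : ι) : F := if j ∈ S then -1 else 1

open scoped Classical in
theorem count_sgnVec (h2 : (2 : F) ≠ 0) (S : Finset ι) :
    (∏ j, (X - C (sgnVec (F := F) S j))).roots.count (-1) = S.card := by
  have h1 : (∏ j, (X - C (sgnVec (F := F) S j))) =
      ((Finset.univ.val.map (sgnVec (F := F) S)).map (fun a => X - C a)).prod := by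
    rw [Multiset.map_map]
    rfl
  rw [h1, roots_multiset_prod_X_sub_C, Multiset.count_map]
  have h3 : (Finset.univ : Finset ι).val.filter (fun a => (-1 : F) = sgnVec S a) = S.val := by
    have : S.val = (Finset.univ.filter (fun a => a ∈ S)).val := by
      rw [Finset.filter_mem_eq_inter, Finset.univ_inter]
    rw [this, Finset.filter_val]
    apply Multiset.filter_congr
    intro a _
    unfold sgnVec
    by_cases ha : a ∈ S
    · simp [ha]
    · simp only [ha, if_false, iff_false]
      intro h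
      apply h2
      linear_combination -h
  rw [h3]
  rfl

section frame

variable [Fintype F] (w : ι → ι → F) (hw : ∀ i, Q (w i) ≠ 0)

/-- the product of the reflections in the frame vectors indexed by `S` -/
noncomputable def gS (S : Finset ι) : ↥(Cfsg.isometryGroup F ⇑Q) :=
  prodO Q (S.toList.map (fun s => (⟨w s, hw s⟩ : NS Q)))

theorem gS_mulVec (horth : ∀ i j, i ≠ j → QuadraticMap.polar ⇑Q (w i) (w j) = 0)
    (S : Finset ι) (j : ι) :
    ((gS Q w hw S : GL ι F) : Matrix ι ι F) *ᵥ w j = sgnVec (F := F) S j • w j := by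
  rw [gS, prodO_val, List.map_map]
  have := prod_refl_apply_gen Q w hw horth S.toList (Finset.nodup_toList S) j
  rw [show ((fun v : NS Q => Cfsg.reflectionMatrix ⇑Q v.1) ∘ fun s => (⟨w s, hw s⟩ : NS Q)) =
    fun i => Cfsg.reflectionMatrix ⇑Q (w i) from rfl, this]
  unfold sgnVec
  by_cases hj : j ∈ S
  · rw [if_pos (Finset.mem_toList.2 hj), if_pos hj, neg_one_smul]
  · rw [if_neg (fun h => hj (Finset.mem_toList.1 h)), if_neg hj, one_smul]

theorem gS_charpoly (h2 : (2 : F) ≠ 0)
    (horth : ∀ i j, i ≠ j → QuadraticMap.polar ⇑Q (w i) (w j) = 0) (S : Finset ι) :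
    ((gS Q w hw S : GL ι F) : Matrix ι ι F).charpoly = ∏ j, (X - C (sgnVec (F := F) S j)) :=
  charpoly_eq_of_eigen _ w (isUnit_colMat Q h2 w hw horth) _ (gS_mulVec Q w hw horth S)

open scoped Classical in
theorem gS_count (h2 : (2 : F) ≠ 0)
    (horth : ∀ i j, i ≠ j → QuadraticMap.polar ⇑Q (w i) (w j) = 0) (S : Finset ι) :
    ((gS Q w hw S : GL ι F) : Matrix ι ι F).charpoly.roots.count (-1) = S.card := by
  rw [gS_charpoly Q w hw h2 horth, count_sgnVec h2]

theorem gS_mul_self (h2 : (2 : F) ≠ 0)
    (horth : ∀ i j, i ≠ j → QuadraticMap.polar ⇑Q (w i) (w j) = 0) (S : Finset ι) :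
    gS Q w hw S * gS Q w hw S = 1 := by
  apply Subtype.ext
  apply Units.ext
  rw [Subgroup.coe_mul, Units.val_mul]
  apply eq_one_of_fix _ w (isUnit_colMat Q h2 w hw horth)
  intro j
  rw [← Matrix.mulVec_mulVec, gS_mulVec Q w hw horth, Matrix.mulVec_smul,
    gS_mulVec Q w hw horth, smul_smul]
  have : sgnVec (F := F) S j * sgnVec S j = 1 := by
    unfold sgnVec
    split_ifs <;> simp
  rw [this, one_smul]

theorem gS_mem_Omega_iff (h2 : (2 : F) ≠ 0) (S : Finset ι) :
    gS Q w hw S ∈ Cfsg.Omega F ⇑Q ↔ Even S.card ∧ IsSquare (∏ s ∈ S, Q (w s)) := by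
  rw [gS, prodO_mem_Omega_iff Q h2, List.length_map, Finset.length_toList, normProd,
    List.map_map]
  rw [show ((fun v : NS Q => Q v.1) ∘ fun s => (⟨w s, hw s⟩ : NS Q)) = fun s => Q (w s) from rfl,
    Finset.prod_map_toList]

theorem gS_empty : gS Q w hw ∅ = 1 := by
  rw [gS, Finset.toList_empty]
  rfl

end frame

end Cfsg.Agent.Helper12.InvClass
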