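import Mathlib
import Cfsg.Agent.Helper12.InvClassA
import Cfsg.Agent.S0292

set_option autoImplicit false
set_option linter.unusedSectionVars false

/-! The orthogonal frame of `quadFormOdd`, and `m` pairwise non-conjugate involutions of
`PΩ_{2m+1}(q)`. -/

namespace Cfsg.Agent.Helper12.InvClass

open Matrix Polynomial Cfsg.Agent.Helper28.Spin Cfsg.Agent.S2614 Cfsg.Agent.S0292

variable {F : Type*} [Field F]

/-- the orthogonal frame `e₀, e_i + f_i, e_i - f_i` -/
def frame (m : ℕ) (F : Type*) [Field F] :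
    Unit ⊕ (Fin m ⊕ Fin m) → Unit ⊕ (Fin m ⊕ Fin m) → F
  | Sum.inl _ => Pi.single (Sum.inl ()) 1
  | Sum.inr (Sum.inl i) => Pi.single (Sum.inr (Sum.inl i)) 1 + Pi.single (Sum.inr (Sum.inr i)) 1
  | Sum.inr (Sum.inr i) => Pi.single (Sum.inr (Sum.inl i)) 1 - Pi.single (Sum.inr (Sum.inr i)) 1

/-- the indices of the frame vectors of norm `-1` -/
def minusSet (m : ℕ) : Finset (Unit ⊕ (Fin m ⊕ Fin m)) :=
  (Finset.univ : Finset (Fin m)).map
    ⟨fun i => Sum.inr (Sum.inr i), fun a b h => by simpa using h⟩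

theorem card_minusSet (m : ℕ) : (minusSet m).card = m := by
  rw [minusSet, Finset.card_map, Finset.card_univ, Fintype.card_fin]

theorem mem_minusSet (m : ℕ) (s : Unit ⊕ (Fin m ⊕ Fin m)) :
    s ∈ minusSet m ↔ ∃ i, s = Sum.inr (Sum.inr i) := by
  simp only [minusSet, Finset.mem_map, Finset.mem_univ, true_and, Function.Embedding.coeFn_mk]
  constructor
  · rintro ⟨i, hi⟩
    exact ⟨i, hi.symm⟩
  · rintro ⟨i, hi⟩
    exact ⟨i, hi.symm⟩

theorem quadFormOdd_frame (m : ℕ) (s : Unit ⊕ (Fin m ⊕ Fin m)) :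
    Cfsg.quadFormOdd m F (frame m F s) = if s ∈ minusSet m then -1 else 1 := by
  classical
  rcases s with ⟨⟩ | i | i
  · rw [if_neg (by simp [mem_minusSet])]
    simp [Cfsg.quadFormOdd, frame]
  · rw [if_neg (by simp [mem_minusSet])]
    simp only [Cfsg.quadFormOdd, frame, Pi.add_apply, Pi.single_apply, reduceCtorEq, if_false,
      Sum.inr.injEq, Sum.inl.injEq, add_zero, zero_add]
    rw [Finset.sum_eq_single i]
    · simp
    · intro b _ hb
      simp [hb]
    · simp
  · rw [if_pos (by simp [mem_minusSet])]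
    simp only [Cfsg.quadFormOdd, frame, Pi.sub_apply, Pi.single_apply, reduceCtorEq, if_false,
      Sum.inr.injEq, Sum.inl.injEq, sub_zero, zero_sub]
    rw [Finset.sum_eq_single i]
    · simp
    · intro b _ hb
      simp [hb]
    · simp

theorem frame_orth (m : ℕ) (s t : Unit ⊕ (Fin m ⊕ Fin m)) (hst : s ≠ t) :
    QuadraticMap.polar (Cfsg.quadFormOdd m F) (frame m F s) (frame m F t) = 0 := by
  classical
  rw [polar_odd]
  rcases s with ⟨⟩ | i | i <;> rcases t with ⟨⟩ | j | j
  · exact absurd rfl hst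
  · simp [frame]
  · simp [frame]
  · simp [frame]
  · have hij : i ≠ j := fun h => hst (by rw [h])
    simp only [frame, Pi.add_apply, Pi.single_apply, reduceCtorEq, if_false,
      Sum.inr.injEq, Sum.inl.injEq, add_zero, zero_add, mul_zero]
    apply Finset.sum_eq_zero
    intro k _
    by_cases hki : k = i
    · subst hki
      simp [hij]
    · simp [hki]
  · simp only [frame, Pi.add_apply, Pi.sub_apply, Pi.single_apply, reduceCtorEq, if_false,
      Sum.inr.injEq, Sum.inl.injEq, add_zero, zero_add, mul_zero, sub_zero, zero_sub]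
    apply Finset.sum_eq_zero
    intro k _
    by_cases hki : k = i <;> by_cases hkj : k = j <;> simp [hki, hkj]
  · simp [frame]
  · simp only [frame, Pi.add_apply, Pi.sub_apply, Pi.single_apply, reduceCtorEq, if_false,
      Sum.inr.injEq, Sum.inl.injEq, add_zero, zero_add, mul_zero, sub_zero, zero_sub]
    apply Finset.sum_eq_zero
    intro k _
    by_cases hki : k = i <;> by_cases hkj : k = j <;> simp [hki, hkj]
  · have hij : i ≠ j := fun h => hst (by rw [h])
    simp only [frame, Pi.sub_apply, Pi.single_apply, reduceCtorEq, if_false,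
      Sum.inr.injEq, Sum.inl.injEq, sub_zero, zero_sub, mul_zero, zero_add]
    apply Finset.sum_eq_zero
    intro k _
    by_cases hki : k = i
    · subst hki
      simp [hij]
    · simp [hki]

end Cfsg.Agent.Helper12.InvClass
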