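import Mathlib
import Cfsg.Agent.Helper12.InvClassB

set_option autoImplicit false
set_option linter.unusedSectionVars false

/-! `m` pairwise non-conjugate involutions of `PΩ_{2m+1}(q)`. -/

namespace Cfsg.Agent.Helper12.InvClass

open Matrix Polynomial Cfsg.Agent.Helper28.Spin Cfsg.Agent.Helper28.OC Cfsg.Agent.S2614
  Cfsg.Agent.S0292

/-- involutions of a group with trivial centre give involutions of the central quotient -/
theorem exists_invol_quot {G : Type*} [Group G] (hc : Nat.card (Subgroup.center G) = 1) {k : ℕ}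
    (g : Fin k → G) (hg2 : ∀ i, g i * g i = 1) (hg1 : ∀ i, g i ≠ 1)
    (hnc : ∀ i j, IsConj (g i) (g j) → i = j) :
    ∃ f : Fin k → G ⧸ Subgroup.center G, (∀ i, orderOf (f i) = 2) ∧
      ∀ i j, IsConj (f i) (f j) → i = j := by
  have hbot : Subgroup.center G = ⊥ := Subgroup.card_eq_one.1 hc
  have hinj : Function.Injective (QuotientGroup.mk : G → G ⧸ Subgroup.center G) := by
    intro a b hab
    rw [QuotientGroup.eq, hbot, Subgroup.mem_bot] at hab
    exact inv_mul_eq_one.1 hab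
  refine ⟨fun i => QuotientGroup.mk (g i), ?_, ?_⟩
  · intro i
    apply orderOf_eq_prime
    · rw [pow_two, ← QuotientGroup.mk_mul, hg2, QuotientGroup.mk_one]
    · intro h
      exact hg1 i (hinj (h.trans (QuotientGroup.mk_one _).symm))
  · intro i j hij
    apply hnc
    rw [isConj_iff] at hij ⊢
    obtain ⟨c, hc⟩ := hij
    obtain ⟨c₀, rfl⟩ := QuotientGroup.mk_surjective c
    refine ⟨c₀, hinj ?_⟩
    simpa using hc

theorem charpoly_eq_of_conj {ι : Type*} [Fintype ι] [DecidableEq ι] {F : Type*} [Field F]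
    (a b c : GL ι F) (h : c * a * c⁻¹ = b) :
    (a : Matrix ι ι F).charpoly = (b : Matrix ι ι F).charpoly := by
  rw [← h, Units.val_mul, Units.val_mul, Matrix.coe_units_inv, Matrix.charpoly_units_conj]

variable {F : Type*} [Field F] [Fintype F]

theorem exists_involutions_POmega (h2 : (2 : F) ≠ 0) (m : ℕ) (hm : 3 ≤ m) :
    ∃ f : Fin m → Cfsg.POmega F (Cfsg.quadFormOdd m F), (∀ i, orderOf (f i) = 2) ∧
      ∀ i j, IsConj (f i) (f j) → i = j := by
  classical
  rw [← QfOdd_coe]
  have hQ := QfOdd_nondeg h2 (F := F) m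
  have hcardι : Fintype.card (Unit ⊕ (Fin m ⊕ Fin m)) = 2 * m + 1 := by
    rw [Fintype.card_sum, Fintype.card_sum, Fintype.card_fin, Fintype.card_unit]; ring
  have h6 : 6 ≤ Fintype.card (Unit ⊕ (Fin m ⊕ Fin m)) := by rw [hcardι]; omega
  have hc := card_center_Omega_eq_one (QfOdd m F) hQ h6 (by
    rintro ⟨-, g, hgΩ, hg⟩
    have h1 := hom_eq_one_of_mem_Omega (QfOdd m F) (detHom (QfOdd m F)) hgΩ
    have h3 : ((detHom (QfOdd m F) g : Fˣ) : F) = 1 := by rw [h1]; rfl
    rw [detHom_val, hg, Matrix.det_neg, Matrix.det_one, hcardι, mul_one] at h3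
    have : (-1 : F) ^ (2 * m + 1) = -1 := by
      rw [pow_succ, pow_mul]; simp
    rw [this] at h3
    apply h2
    linear_combination -h3)
  have hwv : ∀ s, (QfOdd m F) (frame m F s) = if s ∈ minusSet m then -1 else 1 := by
    intro s
    rw [QfOdd_coe, quadFormOdd_frame]
  have hw : ∀ s, (QfOdd m F) (frame m F s) ≠ 0 := by
    intro s
    rw [hwv]
    split_ifs <;> simp
  have horth : ∀ s t, s ≠ t →
      QuadraticMap.polar ⇑(QfOdd m F) (frame m F s) (frame m F t) = 0 := by
    rw [QfOdd_coe]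
    exact frame_orth m
  have hS : ∀ k : Fin m, ∃ S : Finset (Unit ⊕ (Fin m ⊕ Fin m)), S.card = 2 * ((k : ℕ) + 1) ∧
      gS (QfOdd m F) (frame m F) hw S ∈ Cfsg.Omega F ⇑(QfOdd m F) := by
    intro k
    obtain ⟨b, hb⟩ : ∃ b, b = ((k : ℕ) + 1) / 2 := ⟨_, rfl⟩
    have hk := k.2
    obtain ⟨A, hA, hAc⟩ := Finset.exists_subset_card_eq (s := (minusSet m)ᶜ)
      (n := 2 * ((k : ℕ) + 1) - 2 * b) (by
        rw [Finset.card_compl, card_minusSet, hcardι]; omega)
    obtain ⟨B, hB, hBc⟩ := Finset.exists_subset_card_eq (s := minusSet m)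
      (n := 2 * b) (by rw [card_minusSet]; omega)
    have hdisj : Disjoint A B :=
      Finset.disjoint_of_subset_left hA (Finset.disjoint_of_subset_right hB disjoint_compl_left)
    have hcard : (A ∪ B).card = 2 * ((k : ℕ) + 1) := by
      rw [Finset.card_union_of_disjoint hdisj, hAc, hBc]; omega
    refine ⟨A ∪ B, hcard, ?_⟩
    rw [gS_mem_Omega_iff (QfOdd m F) (frame m F) hw h2, hcard]
    refine ⟨even_two_mul _, ?_⟩
    rw [Finset.prod_union hdisj]
    have hPA : ∏ s ∈ A, (QfOdd m F) (frame m F s) = 1 := by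
      apply Finset.prod_eq_one
      intro s hs
      rw [hwv, if_neg]
      exact Finset.mem_compl.1 (hA hs)
    have hPB : ∏ s ∈ B, (QfOdd m F) (frame m F s) = 1 := by
      rw [Finset.prod_congr rfl (fun s hs => by rw [hwv, if_pos (hB hs)]), Finset.prod_const,
        hBc, pow_mul]
      simp
    rw [hPA, hPB, mul_one]
    exact IsSquare.one
  choose S hScard hSmem using hS
  refine exists_invol_quot hc (fun k => ⟨gS (QfOdd m F) (frame m F) hw (S k), hSmem k⟩) ?_ ?_ ?_
  · intro k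
    apply Subtype.ext
    exact gS_mul_self (QfOdd m F) (frame m F) hw h2 horth (S k)
  · intro k h
    have h1 : gS (QfOdd m F) (frame m F) hw (S k) = gS (QfOdd m F) (frame m F) hw ∅ := by
      rw [gS_empty]
      exact congrArg Subtype.val h
    have h3 := gS_count (QfOdd m F) (frame m F) hw h2 horth (S k)
    rw [h1, gS_count (QfOdd m F) (frame m F) hw h2 horth ∅, hScard] at h3
    simp at h3
  · intro i j hij
    rw [isConj_iff] at hij
    obtain ⟨c, hc⟩ := hij
    have h1 : ((c : ↥(Cfsg.isometryGroup F ⇑(QfOdd m F))) : GL (Unit ⊕ (Fin m ⊕ Fin m)) F) *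
        (gS (QfOdd m F) (frame m F) hw (S i) : GL (Unit ⊕ (Fin m ⊕ Fin m)) F) *
        ((c : ↥(Cfsg.isometryGroup F ⇑(QfOdd m F))) : GL (Unit ⊕ (Fin m ⊕ Fin m)) F)⁻¹ =
        (gS (QfOdd m F) (frame m F) hw (S j) : GL (Unit ⊕ (Fin m ⊕ Fin m)) F) := by
      have := congrArg (fun x : ↥(Cfsg.Omega F ⇑(QfOdd m F)) =>
        ((x : ↥(Cfsg.isometryGroup F ⇑(QfOdd m F))) : GL (Unit ⊕ (Fin m ⊕ Fin m)) F)) hc
      simpa using this
    have h3 := charpoly_eq_of_conj _ _ _ h1
    have h4 := gS_count (QfOdd m F) (frame m F) hw h2 horth (S i)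
    rw [h3, gS_count (QfOdd m F) (frame m F) hw h2 horth (S j), hScard, hScard] at h4
    apply Fin.ext
    omega

end Cfsg.Agent.Helper12.InvClass
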