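import Mathlib
import Cfsg.Agent.Helper12.SpPrimeF

set_option autoImplicit false
set_option linter.unusedSectionVars false

/-! Characteristic polynomials of involutory matrices. -/

namespace Cfsg.Agent.Helper12.InvClass

open Matrix Polynomial

variable {K : Type*} [Field K] {ι : Type*} [Fintype ι] [DecidableEq ι]

theorem charpoly_neg_eq (A : Matrix ι ι K) :
    (-A).charpoly = (-1) ^ Fintype.card ι * A.charpoly.comp (-X) := by
  have h1 : (compRingHom (-X : K[X])).mapMatrix (charmatrix A) = -charmatrix (-A) := by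
    refine Matrix.ext (fun i j => ?_)
    rw [RingHom.mapMatrix_apply, Matrix.map_apply, Matrix.neg_apply, charmatrix_apply,
      charmatrix_apply, coe_compRingHom_apply]
    by_cases hij : i = j
    · subst hij
      simp only [Matrix.diagonal_apply_eq, Matrix.neg_apply, sub_comp, X_comp, C_comp, map_neg]
      ring
    · simp only [Matrix.diagonal_apply_ne _ hij, Matrix.neg_apply, sub_comp, zero_comp, C_comp,
        map_neg]
      ring
  have h2 : (A.charpoly).comp (-X) = (-charmatrix (-A)).det := by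
    rw [← h1, ← RingHom.map_det, coe_compRingHom_apply]
    rfl
  rw [h2, Matrix.det_neg, ← _root_.mul_assoc, ← mul_pow]
  simp [Matrix.charpoly]

theorem charpoly_of_mul_self_eq_one (A : Matrix ι ι K) (hA : A * A = 1) :
    ∃ μ, μ + A.charpoly.rootMultiplicity (-1) = Fintype.card ι ∧
      A.charpoly = (X - C 1) ^ μ * (X - C (-1)) ^ A.charpoly.rootMultiplicity (-1) := by
  have hf : A.charpoly.Monic := Matrix.charpoly_monic A
  have hf0 : A.charpoly ≠ 0 := hf.ne_zero
  have hN : aeval A (X ^ 2 - 1 : K[X]) = 0 := by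
    rw [map_sub, map_pow, aeval_X, map_one, pow_two, hA, sub_self]
  have hfac : (X ^ 2 - 1 : K[X]) = (X - C 1) * (X - C (-1)) := by
    simp only [map_neg, map_one]
    ring
  obtain ⟨g, hg, hgn⟩ := exists_eq_pow_rootMultiplicity_mul_and_not_dvd A.charpoly hf0 (-1)
  have hg0 : g ≠ 0 := by
    rintro rfl
    rw [mul_zero] at hg
    exact hf0 hg
  obtain ⟨h, hh, hhn⟩ := exists_eq_pow_rootMultiplicity_mul_and_not_dvd g hg0 1
  have hh0 : h ≠ 0 := by
    rintro rfl
    rw [mul_zero] at hh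
    exact hg0 hh
  have hhg : h ∣ g := ⟨_, by rw [hh, mul_comm]⟩
  have hgf : g ∣ A.charpoly := ⟨_, by rw [hg, mul_comm]⟩
  have hu : IsUnit h := by
    by_contra hnu
    obtain ⟨Q, hQi, hQd⟩ := WfDvdMonoid.exists_irreducible_factor hnu hh0
    have hQf : Q ∣ A.charpoly := hQd.trans (hhg.trans hgf)
    have hQN := Cfsg.Agent.Helper12.SpPrime.dvd_of_irreducible_dvd_charpoly_gen A _ hN Q hQi hQf
    rw [hfac] at hQN
    rcases hQi.prime.dvd_or_dvd hQN with h1 | h1
    · have := (hQi.associated_of_dvd (irreducible_X_sub_C 1) h1).symm.dvd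
      exact hhn (this.trans hQd)
    · have := (hQi.associated_of_dvd (irreducible_X_sub_C (-1)) h1).symm.dvd
      exact hgn (this.trans (hQd.trans hhg))
  obtain ⟨c, -, hc⟩ := Polynomial.isUnit_iff.1 hu
  have hlead : c = 1 := by
    have := hf.leadingCoeff
    rw [hg, hh, ← hc, leadingCoeff_mul, leadingCoeff_mul, leadingCoeff_pow, leadingCoeff_pow,
      leadingCoeff_X_sub_C, leadingCoeff_X_sub_C, leadingCoeff_C, one_pow, one_pow, one_mul,
      one_mul] at this
    exact this
  rw [hlead, map_one] at hc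
  rw [← hc, mul_one] at hh
  refine ⟨g.rootMultiplicity 1, ?_, ?_⟩
  · have hdeg := Matrix.charpoly_natDegree_eq_dim A
    rw [← hdeg]
    conv_rhs => rw [hg, hh]
    rw [Monic.natDegree_mul ((monic_X_sub_C _).pow _) ((monic_X_sub_C _).pow _),
      Monic.natDegree_pow (monic_X_sub_C _), Monic.natDegree_pow (monic_X_sub_C _),
      natDegree_X_sub_C, natDegree_X_sub_C]
    ring
  · conv_lhs => rw [hg, hh]
    rw [mul_comm]

theorem even_rootMultiplicity (h2 : (2 : K) ≠ 0) (A : Matrix ι ι K) (hA : A * A = 1)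
    (hdet : A.det = 1) : Even (A.charpoly.rootMultiplicity (-1)) := by
  obtain ⟨μ, hμ, hf⟩ := charpoly_of_mul_self_eq_one A hA
  have h1 := Matrix.det_eq_sign_charpoly_coeff A
  rw [hdet, coeff_zero_eq_eval_zero, hf, eval_mul, eval_pow, eval_pow, eval_sub, eval_sub, eval_X,
    eval_C, eval_C, zero_sub, zero_sub, neg_neg, one_pow, mul_one, ← hμ, ← pow_add] at h1
  have h3 : μ + A.charpoly.rootMultiplicity (-1) + μ =
      2 * μ + A.charpoly.rootMultiplicity (-1) := by ring
  rw [h3, pow_add, pow_mul, neg_one_sq, one_pow, one_mul] at h1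
  have hne : (-1 : K) ≠ 1 := by
    intro h
    apply h2
    linear_combination -h
  exact (neg_one_pow_eq_one_iff_even hne).1 h1.symm

theorem eq_one_of_rootMultiplicity_eq_zero (A : Matrix ι ι K) (hA : A * A = 1)
    (h0 : A.charpoly.rootMultiplicity (-1) = 0) : A = 1 := by
  have hf0 : A.charpoly ≠ 0 := (Matrix.charpoly_monic A).ne_zero
  rw [rootMultiplicity_eq_zero_iff] at h0
  have h1 : ¬ A.charpoly.IsRoot (-1) := fun h => hf0 (h0 h)
  rw [IsRoot.def, Matrix.eval_charpoly] at h1
  have hu : IsUnit (Matrix.scalar ι (-1 : K) - A) := by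
    rw [Matrix.isUnit_iff_isUnit_det]
    exact isUnit_iff_ne_zero.2 h1
  have h3 : (Matrix.scalar ι (-1 : K) - A) * (A - 1) = 0 := by
    have : Matrix.scalar ι (-1 : K) = -1 := by rw [map_neg, map_one]
    rw [this]
    simp only [sub_mul, mul_sub, neg_mul, one_mul, mul_one, hA]
    abel
  have := hu.mul_right_eq_zero.1 h3
  exact sub_eq_zero.1 this

theorem eq_neg_one_of_rootMultiplicity_eq_card (h2 : (2 : K) ≠ 0) (A : Matrix ι ι K)
    (hA : A * A = 1) (h0 : A.charpoly.rootMultiplicity (-1) = Fintype.card ι) : A = -1 := by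
  obtain ⟨μ, hμ, hf⟩ := charpoly_of_mul_self_eq_one A hA
  have hμ0 : μ = 0 := by omega
  have h1 : A.charpoly.eval 1 ≠ 0 := by
    rw [hf, hμ0, pow_zero, one_mul, eval_pow, eval_sub, eval_X, eval_C, sub_neg_eq_add]
    apply pow_ne_zero
    rw [one_add_one_eq_two]
    exact h2
  rw [Matrix.eval_charpoly] at h1
  have hu : IsUnit (Matrix.scalar ι (1 : K) - A) := by
    rw [Matrix.isUnit_iff_isUnit_det]
    exact isUnit_iff_ne_zero.2 h1
  have h3 : (Matrix.scalar ι (1 : K) - A) * (A + 1) = 0 := by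
    have : Matrix.scalar ι (1 : K) = 1 := map_one _
    rw [this]
    simp only [sub_mul, mul_add, one_mul, mul_one, hA]
    abel
  have := hu.mul_right_eq_zero.1 h3
  exact eq_neg_of_add_eq_zero_left this

/-- the characteristic polynomial of `-A` for an involutory matrix -/
theorem charpoly_neg_of_mul_self_eq_one (A : Matrix ι ι K) (μ ν : ℕ)
    (hμν : μ + ν = Fintype.card ι)
    (hf : A.charpoly = (X - C 1) ^ μ * (X - C (-1)) ^ ν) :
    (-A).charpoly = (X - C 1) ^ ν * (X - C (-1)) ^ μ := by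
  rw [charpoly_neg_eq, hf, mul_comp, pow_comp, pow_comp, sub_comp, sub_comp, X_comp, C_comp,
    C_comp, ← hμν, pow_add]
  have e1 : (-X - C (1 : K)) = (-1) * (X - C (-1)) := by
    simp only [map_neg, map_one]; ring
  have e2 : (-X - C (-1 : K)) = (-1) * (X - C 1) := by
    simp only [map_neg, map_one]; ring
  rw [e1, e2, mul_pow, mul_pow]
  have : ∀ k : ℕ, ((-1 : K[X]) ^ k) * ((-1 : K[X]) ^ k) = 1 := by
    intro k
    rw [← mul_pow]
    simp
  rw [show (-1 : K[X]) ^ μ * (-1) ^ ν * ((-1) ^ μ * (X - C (-1 : K)) ^ μ *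
      ((-1) ^ ν * (X - C (1 : K)) ^ ν)) = ((-1) ^ μ * (-1) ^ μ) * ((-1) ^ ν * (-1) ^ ν) *
      ((X - C 1) ^ ν * (X - C (-1)) ^ μ) by ring, this, this, one_mul, one_mul]

end Cfsg.Agent.Helper12.InvClass
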