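import Mathlib
import Cfsg.Agent.Helper12.InvClassD

set_option autoImplicit false
set_option linter.unusedSectionVars false

/-! Symplectic matrices with square `-1`: the characteristic polynomial is `(X^2+1)^n`. -/

namespace Cfsg.Agent.Helper12.InvClass

open Matrix Polynomial

variable {F : Type*} [Field F] {n : ℕ}

theorem charpoly_inv_symplectic (A : Matrix.symplecticGroup (Fin n) F) :
    ((A⁻¹ : Matrix.symplecticGroup (Fin n) F) :
      Matrix (Fin n ⊕ Fin n) (Fin n ⊕ Fin n) F).charpoly =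
      (A : Matrix (Fin n ⊕ Fin n) (Fin n ⊕ Fin n) F).charpoly := by
  rw [SymplecticGroup.coe_inv]
  let U : (Matrix (Fin n ⊕ Fin n) (Fin n ⊕ Fin n) F)ˣ :=
    ⟨-Matrix.J (Fin n) F, Matrix.J (Fin n) F, by
      rw [neg_mul, Matrix.J_squared, neg_neg], by
      rw [mul_neg, Matrix.J_squared, neg_neg]⟩
  have h2 := Matrix.charpoly_units_conj U
    ((A : Matrix (Fin n ⊕ Fin n) (Fin n ⊕ Fin n) F)ᵀ)
  rw [Matrix.charpoly_transpose] at h2
  rw [← h2]
  congr 1
  rw [← Matrix.coe_units_inv]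
  rfl

theorem charmatrix_mul_neg {ι : Type*} [Fintype ι] [DecidableEq ι] (A : Matrix ι ι F)
    (hA : A * A = -1) :
    charmatrix A * charmatrix (-A) = Matrix.scalar ι (X ^ 2 + 1 : F[X]) := by
  have hC : (C : F →+* F[X]).mapMatrix A * (C : F →+* F[X]).mapMatrix A = -1 := by
    rw [← map_mul, hA, map_neg, map_one]
  have hcomm : Matrix.scalar ι (X : F[X]) * (C : F →+* F[X]).mapMatrix A =
      (C : F →+* F[X]).mapMatrix A * Matrix.scalar ι (X : F[X]) :=
    (Matrix.scalar_commute _ (fun r' => Commute.all _ _) _).eq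
  rw [charmatrix, charmatrix, map_neg, sub_neg_eq_add, sub_mul, mul_add, mul_add, hC, hcomm,
    ← map_mul, map_add, map_one, pow_two]
  abel

theorem charpoly_mul_charpoly_neg {ι : Type*} [Fintype ι] [DecidableEq ι] (A : Matrix ι ι F)
    (hA : A * A = -1) :
    A.charpoly * (-A).charpoly = (X ^ 2 + 1) ^ Fintype.card ι := by
  rw [Matrix.charpoly, Matrix.charpoly, ← Matrix.det_mul, charmatrix_mul_neg A hA,
    Matrix.scalar_apply, Matrix.det_diagonal, Finset.prod_const, Finset.card_univ]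

theorem charpoly_of_sq_neg_one (h2 : (2 : F) ≠ 0) (x : Matrix.symplecticGroup (Fin n) F)
    (hx : (x : Matrix (Fin n ⊕ Fin n) (Fin n ⊕ Fin n) F) *
      (x : Matrix (Fin n ⊕ Fin n) (Fin n ⊕ Fin n) F) = -1) :
    (x : Matrix (Fin n ⊕ Fin n) (Fin n ⊕ Fin n) F).charpoly = (X ^ 2 + 1) ^ n := by
  have hinv : ((x⁻¹ : Matrix.symplecticGroup (Fin n) F) :
      Matrix (Fin n ⊕ Fin n) (Fin n ⊕ Fin n) F) =
      -(x : Matrix (Fin n ⊕ Fin n) (Fin n ⊕ Fin n) F) := by
    rw [SymplecticGroup.coe_inv']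
    apply Matrix.inv_eq_right_inv
    rw [mul_neg, hx, neg_neg]
  have h1 := charpoly_inv_symplectic x
  rw [hinv] at h1
  have h3 := charpoly_mul_charpoly_neg _ hx
  rw [h1, Fintype.card_sum, Fintype.card_fin, ← two_mul, mul_comm 2 n, pow_mul, ← pow_two,
    sq_eq_sq_iff_eq_or_eq_neg] at h3
  rcases h3 with h3 | h3
  · exact h3
  · exfalso
    have hm := (Matrix.charpoly_monic (x : Matrix (Fin n ⊕ Fin n) (Fin n ⊕ Fin n) F)).leadingCoeff
    have hmon : ((X ^ 2 + 1 : F[X]) ^ n).Monic := by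
      apply Monic.pow
      have : (X ^ 2 + 1 : F[X]) = X ^ 2 + C 1 := by rw [map_one]
      rw [this]
      exact monic_X_pow_add_C 1 (by norm_num)
    rw [h3, leadingCoeff_neg, hmon.leadingCoeff] at hm
    apply h2
    linear_combination -hm

end Cfsg.Agent.Helper12.InvClass
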