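import Mathlib
import Cfsg.Prelude.Def_Classical
import Cfsg.Agent.Helper12.InvClassE
import Cfsg.Agent.Helper12.SympConjJ
import Cfsg.Agent.Helper2.SpCenter

set_option autoImplicit false
set_option linter.unusedSectionVars false

/-! Involutions of `PSp_2m(q)`, `q` odd: at most `m/2 + 1` conjugacy classes. -/

namespace Cfsg.Agent.Helper12.InvClass

open Matrix Polynomial

universe u

variable {F : Type u} [Field F] {m : ℕ}

/-- the multiplicity of the eigenvalue `-1` -/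
noncomputable def nu (x : Matrix.symplecticGroup (Fin m) F) : ℕ :=
  (x : Matrix (Fin m ⊕ Fin m) (Fin m ⊕ Fin m) F).charpoly.rootMultiplicity (-1)

open scoped Classical in
/-- the class invariant of (a representative of) an involution of `PSp` -/
noncomputable def invSp (x : Matrix.symplecticGroup (Fin m) F) : ℕ :=
  if (x : Matrix (Fin m ⊕ Fin m) (Fin m ⊕ Fin m) F) * (x : Matrix (Fin m ⊕ Fin m) (Fin m ⊕ Fin m) F)
    = -1 then 0 else min (nu x) (2 * m - nu x)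

/-- the negative of a symplectic matrix -/
def negSp (x : Matrix.symplecticGroup (Fin m) F) : Matrix.symplecticGroup (Fin m) F :=
  ⟨-(x : Matrix (Fin m ⊕ Fin m) (Fin m ⊕ Fin m) F), SymplecticGroup.neg_mem x.2⟩

theorem card_idx : Fintype.card (Fin m ⊕ Fin m) = 2 * m := by
  rw [Fintype.card_sum, Fintype.card_fin]; ring

theorem charpoly_sq_one (x : Matrix.symplecticGroup (Fin m) F)
    (hx : (x : Matrix (Fin m ⊕ Fin m) (Fin m ⊕ Fin m) F) * x = 1) :
    nu x ≤ 2 * m ∧ (x : Matrix (Fin m ⊕ Fin m) (Fin m ⊕ Fin m) F).charpoly =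
      (X - C 1) ^ (2 * m - nu x) * (X - C (-1)) ^ nu x := by
  obtain ⟨μ, hμ, hf⟩ := charpoly_of_mul_self_eq_one _ hx
  rw [card_idx] at hμ
  have : μ = 2 * m - nu x := by unfold nu; omega
  refine ⟨by unfold nu; omega, ?_⟩
  rw [← this]
  exact hf

section fin

variable [Fintype F]

theorem semisimple_of_sq_one (h2 : (2 : F) ≠ 0) (x : Matrix.symplecticGroup (Fin m) F)
    (hx : (x : Matrix (Fin m ⊕ Fin m) (Fin m ⊕ Fin m) F) * x = 1) :
    Module.End.IsSemisimple (Matrix.toLin' (x : Matrix (Fin m ⊕ Fin m) (Fin m ⊕ Fin m) F)) := by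
  apply Cfsg.Agent.Helper12.SympConj.isSemisimple_toLin'_of_pow_eq_one _ 2
  · exact_mod_cast h2
  · rw [pow_two, hx]

theorem semisimple_of_sq_neg_one (h2 : (2 : F) ≠ 0) (x : Matrix.symplecticGroup (Fin m) F)
    (hx : (x : Matrix (Fin m ⊕ Fin m) (Fin m ⊕ Fin m) F) * x = -1) :
    Module.End.IsSemisimple (Matrix.toLin' (x : Matrix (Fin m ⊕ Fin m) (Fin m ⊕ Fin m) F)) := by
  apply Cfsg.Agent.Helper12.SympConj.isSemisimple_toLin'_of_pow_eq_one _ 4
  · have : ((4 : ℕ) : F) = 2 * 2 := by norm_num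
    rw [this]
    exact mul_ne_zero h2 h2
  · rw [show 4 = 2 * 2 from rfl, pow_mul,
      pow_two (x : Matrix (Fin m ⊕ Fin m) (Fin m ⊕ Fin m) F), hx]
    simp

theorem conj_of_sq_neg_one (h2 : (2 : F) ≠ 0) (x y : Matrix.symplecticGroup (Fin m) F)
    (hx : (x : Matrix (Fin m ⊕ Fin m) (Fin m ⊕ Fin m) F) * x = -1)
    (hy : (y : Matrix (Fin m ⊕ Fin m) (Fin m ⊕ Fin m) F) * y = -1) : IsConj x y := by
  apply Cfsg.Agent.Helper12.SympConj.sp_isConj_of_semisimple m x y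
    (semisimple_of_sq_neg_one h2 x hx) (semisimple_of_sq_neg_one h2 y hy)
  rw [charpoly_of_sq_neg_one h2 x hx, charpoly_of_sq_neg_one h2 y hy]

theorem conj_of_sq_one (h2 : (2 : F) ≠ 0) (x y : Matrix.symplecticGroup (Fin m) F)
    (hx : (x : Matrix (Fin m ⊕ Fin m) (Fin m ⊕ Fin m) F) * x = 1)
    (hy : (y : Matrix (Fin m ⊕ Fin m) (Fin m ⊕ Fin m) F) * y = 1) (hν : nu x = nu y) :
    IsConj x y := by
  apply Cfsg.Agent.Helper12.SympConj.sp_isConj_of_semisimple m x y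
    (semisimple_of_sq_one h2 x hx) (semisimple_of_sq_one h2 y hy)
  rw [(charpoly_sq_one x hx).2, (charpoly_sq_one y hy).2, hν]

theorem negSp_sq (y : Matrix.symplecticGroup (Fin m) F)
    (hy : (y : Matrix (Fin m ⊕ Fin m) (Fin m ⊕ Fin m) F) * y = 1) :
    (negSp y : Matrix (Fin m ⊕ Fin m) (Fin m ⊕ Fin m) F) * negSp y = 1 := by
  show -(y : Matrix (Fin m ⊕ Fin m) (Fin m ⊕ Fin m) F) * -(y : Matrix _ _ F) = 1
  rw [neg_mul_neg, hy]

theorem conj_neg_of_sq_one (h2 : (2 : F) ≠ 0) (x y : Matrix.symplecticGroup (Fin m) F)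
    (hx : (x : Matrix (Fin m ⊕ Fin m) (Fin m ⊕ Fin m) F) * x = 1)
    (hy : (y : Matrix (Fin m ⊕ Fin m) (Fin m ⊕ Fin m) F) * y = 1) (hν : nu x + nu y = 2 * m) :
    IsConj x (negSp y) := by
  apply Cfsg.Agent.Helper12.SympConj.sp_isConj_of_semisimple m x (negSp y)
    (semisimple_of_sq_one h2 x hx) (semisimple_of_sq_one h2 (negSp y) (negSp_sq y hy))
  have h1 := charpoly_sq_one y hy
  have h3 : (negSp y : Matrix (Fin m ⊕ Fin m) (Fin m ⊕ Fin m) F).charpoly =
      (X - C 1) ^ nu y * (X - C (-1)) ^ (2 * m - nu y) :=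
    charpoly_neg_of_mul_self_eq_one _ _ _ (by rw [card_idx]; omega) h1.2
  rw [(charpoly_sq_one x hx).2, h3]
  congr 2 <;> omega

end fin

end Cfsg.Agent.Helper12.InvClass
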