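import Mathlib
import Cfsg.Prelude.Def_Classical
import Cfsg.Agent.Helper12.InvClassF

set_option autoImplicit false
set_option linter.unusedSectionVars false

/-! Involutions of `PSp_2m(q)`, `q` odd: the class invariant. -/

namespace Cfsg.Agent.Helper12.InvClass

open Matrix Polynomial

universe u

variable {F : Type u} [Field F] {m : ℕ}

theorem one_ne_neg_one_mat (h2 : (2 : F) ≠ 0) (hm : 1 ≤ m) :
    (1 : Matrix (Fin m ⊕ Fin m) (Fin m ⊕ Fin m) F) ≠ -1 := by
  intro h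
  have := congrFun (congrFun h (Sum.inl ⟨0, hm⟩)) (Sum.inl ⟨0, hm⟩)
  simp only [Matrix.one_apply_eq, Matrix.neg_apply] at this
  apply h2
  linear_combination this

theorem mem_center_of_val_eq_neg_one (hm : 1 ≤ m) (x : Matrix.symplecticGroup (Fin m) F)
    (hx : (x : Matrix (Fin m ⊕ Fin m) (Fin m ⊕ Fin m) F) = -1) :
    x ∈ Subgroup.center (Matrix.symplecticGroup (Fin m) F) := by
  have : Nonempty (Fin m) := ⟨⟨0, hm⟩⟩
  rw [Cfsg.Agent.Helper2.Sp.mem_center_iff]
  exact ⟨-1, by ring, by rw [hx, neg_one_smul]⟩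

theorem mem_center_of_val_eq_one (x : Matrix.symplecticGroup (Fin m) F)
    (hx : (x : Matrix (Fin m ⊕ Fin m) (Fin m ⊕ Fin m) F) = 1) :
    x ∈ Subgroup.center (Matrix.symplecticGroup (Fin m) F) := by
  have : x = 1 := Subtype.ext hx
  rw [this]
  exact Subgroup.one_mem _

theorem rep_facts (hm : 1 ≤ m) (x : Matrix.symplecticGroup (Fin m) F)
    (hx : orderOf (QuotientGroup.mk x : Cfsg.PSp m F) = 2) :
    x ∉ Subgroup.center (Matrix.symplecticGroup (Fin m) F) ∧
      ((x : Matrix (Fin m ⊕ Fin m) (Fin m ⊕ Fin m) F) * x = 1 ∨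
        (x : Matrix (Fin m ⊕ Fin m) (Fin m ⊕ Fin m) F) * x = -1) := by
  have : Nonempty (Fin m) := ⟨⟨0, hm⟩⟩
  constructor
  · intro hxZ
    have h1 : (QuotientGroup.mk x : Cfsg.PSp m F) = 1 := (QuotientGroup.eq_one_iff x).2 hxZ
    rw [h1, orderOf_one] at hx
    omega
  · have h1 : (QuotientGroup.mk x : Cfsg.PSp m F) ^ 2 = 1 := by
      rw [← hx]
      exact pow_orderOf_eq_one _
    rw [pow_two, ← QuotientGroup.mk_mul, QuotientGroup.eq_one_iff,
      Cfsg.Agent.Helper2.Sp.mem_center_iff] at h1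
    obtain ⟨c, hc, hxc⟩ := h1
    have hxc' : (x : Matrix (Fin m ⊕ Fin m) (Fin m ⊕ Fin m) F) * x = c • 1 := hxc
    rcases mul_self_eq_one_iff.1 hc with rfl | rfl
    · left
      rw [hxc', one_smul]
    · right
      rw [hxc', neg_one_smul]

theorem nu_bounds (h2 : (2 : F) ≠ 0) (hm : 1 ≤ m) (x : Matrix.symplecticGroup (Fin m) F)
    (hxZ : x ∉ Subgroup.center (Matrix.symplecticGroup (Fin m) F))
    (hx : (x : Matrix (Fin m ⊕ Fin m) (Fin m ⊕ Fin m) F) * x = 1) :
    0 < nu x ∧ nu x < 2 * m ∧ Even (nu x) := by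
  have h1 := (charpoly_sq_one x hx).1
  refine ⟨?_, ?_, ?_⟩
  · rw [Nat.pos_iff_ne_zero]
    intro h0
    exact hxZ (mem_center_of_val_eq_one x (eq_one_of_rootMultiplicity_eq_zero _ hx h0))
  · by_contra hge
    have h0 : nu x = 2 * m := by omega
    apply hxZ
    apply mem_center_of_val_eq_neg_one hm x
    apply eq_neg_one_of_rootMultiplicity_eq_card h2 _ hx
    rw [card_idx]
    exact h0
  · exact even_rootMultiplicity h2 _ hx (SymplecticGroup.det_eq_one x.2)

theorem invSp_of_sq_neg_one (x : Matrix.symplecticGroup (Fin m) F)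
    (hx : (x : Matrix (Fin m ⊕ Fin m) (Fin m ⊕ Fin m) F) * x = -1) : invSp x = 0 := by
  unfold invSp
  rw [if_pos hx]

theorem invSp_of_sq_one (h2 : (2 : F) ≠ 0) (hm : 1 ≤ m) (x : Matrix.symplecticGroup (Fin m) F)
    (hx : (x : Matrix (Fin m ⊕ Fin m) (Fin m ⊕ Fin m) F) * x = 1) :
    invSp x = min (nu x) (2 * m - nu x) := by
  unfold invSp
  rw [if_neg]
  rw [hx]
  exact one_ne_neg_one_mat h2 hm

theorem mk_negSp (hm : 1 ≤ m) (y : Matrix.symplecticGroup (Fin m) F) :
    (QuotientGroup.mk (negSp y) : Cfsg.PSp m F) = QuotientGroup.mk y := by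
  have h1 : negSp y = negSp 1 * y := by
    apply Subtype.ext
    show -(y : Matrix (Fin m ⊕ Fin m) (Fin m ⊕ Fin m) F) =
      -(1 : Matrix (Fin m ⊕ Fin m) (Fin m ⊕ Fin m) F) *
        (y : Matrix (Fin m ⊕ Fin m) (Fin m ⊕ Fin m) F)
    rw [neg_mul, one_mul]
  have h3 : (QuotientGroup.mk (negSp (1 : Matrix.symplecticGroup (Fin m) F)) : Cfsg.PSp m F) = 1 := by
    rw [QuotientGroup.eq_one_iff]
    exact mem_center_of_val_eq_neg_one hm _ rfl
  rw [h1, QuotientGroup.mk_mul, h3, one_mul]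

variable [Fintype F]

/-- The involution classes of `PSp_2m(q)` are separated by an invariant with at most `m/2 + 1`
values. -/
theorem exists_inv_PSp (h2 : (2 : F) ≠ 0) (hm : 1 ≤ m) :
    ∃ inv : Cfsg.PSp m F → ℕ, (∀ g, orderOf g = 2 → Even (inv g) ∧ inv g ≤ m) ∧
      ∀ g h, orderOf g = 2 → orderOf h = 2 → inv g = inv h → IsConj g h := by
  refine ⟨fun g => invSp (Quotient.out g), ?_, ?_⟩
  · intro g hg
    have hgo : (QuotientGroup.mk (Quotient.out g) : Cfsg.PSp m F) = g := QuotientGroup.out_eq' g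
    rw [← hgo] at hg
    obtain ⟨hxZ, hx | hx⟩ := rep_facts hm _ hg
    · obtain ⟨hpos, hlt, ⟨k, hk⟩⟩ := nu_bounds h2 hm _ hxZ hx
      simp only
      rw [invSp_of_sq_one h2 hm _ hx]
      refine ⟨⟨min k (m - k), ?_⟩, ?_⟩
      · omega
      · omega
    · simp only
      rw [invSp_of_sq_neg_one _ hx]
      exact ⟨⟨0, rfl⟩, Nat.zero_le _⟩
  · intro g h hg hh hinv
    have hgo : (QuotientGroup.mk (Quotient.out g) : Cfsg.PSp m F) = g := QuotientGroup.out_eq' g
    have hho : (QuotientGroup.mk (Quotient.out h) : Cfsg.PSp m F) = h := QuotientGroup.out_eq' h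
    rw [← hgo] at hg
    rw [← hho] at hh
    obtain ⟨hxZ, hx⟩ := rep_facts hm _ hg
    obtain ⟨hyZ, hy⟩ := rep_facts hm _ hh
    simp only at hinv
    have key : ∀ x y : Matrix.symplecticGroup (Fin m) F, IsConj x y →
        IsConj (QuotientGroup.mk x : Cfsg.PSp m F) (QuotientGroup.mk y) := fun x y hxy =>
      (QuotientGroup.mk' (Subgroup.center (Matrix.symplecticGroup (Fin m) F))).map_isConj hxy
    rw [← hgo, ← hho]
    rcases hx with hx | hx <;> rcases hy with hy | hy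
    · obtain ⟨hxpos, hxlt, -⟩ := nu_bounds h2 hm _ hxZ hx
      obtain ⟨hypos, hylt, -⟩ := nu_bounds h2 hm _ hyZ hy
      rw [invSp_of_sq_one h2 hm _ hx, invSp_of_sq_one h2 hm _ hy] at hinv
      have hcases : nu (Quotient.out g) = nu (Quotient.out h) ∨
          nu (Quotient.out g) + nu (Quotient.out h) = 2 * m := by omega
      rcases hcases with hc | hc
      · exact key _ _ (conj_of_sq_one h2 _ _ hx hy hc)
      · have := key _ _ (conj_neg_of_sq_one h2 _ _ hx hy hc)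
        rwa [mk_negSp hm] at this
    · exfalso
      obtain ⟨hxpos, hxlt, -⟩ := nu_bounds h2 hm _ hxZ hx
      rw [invSp_of_sq_one h2 hm _ hx, invSp_of_sq_neg_one _ hy] at hinv
      omega
    · exfalso
      obtain ⟨hypos, hylt, -⟩ := nu_bounds h2 hm _ hyZ hy
      rw [invSp_of_sq_one h2 hm _ hy, invSp_of_sq_neg_one _ hx] at hinv
      omega
    · exact key _ _ (conj_of_sq_neg_one h2 _ _ hx hy)

end Cfsg.Agent.Helper12.InvClass
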