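import Mathlib
import Cfsg.Agent.Helper18.K2P.Defs
import Cfsg.Agent.Helper18.K2P.Defs2
import Cfsg.Agent.Helper18.K2P.QB
import Cfsg.Agent.Helper18.K2P.RACT
import Cfsg.Agent.Helper18.K2P.STAB
import Cfsg.Agent.Helper18.K2P.OMEGA
import Cfsg.Agent.Helper18.K2P.PERM

set_option autoImplicit false
set_option linter.unusedSectionVars false
set_option linter.unusedVariables false

/-! # K2P (S5692, `k = 2`, hyperbolic blocks), chapter A, piece A-YNOTH (helper12):
a product of two commuting reflections in independent vectors `u`, `u'`, `u` with ALL components nonzero, does not permute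
the blocks (`t ≥ 3`).  (The hypothesis `hind` is needed in characteristic two: `u' = u` gives the identity.) -/

namespace Cfsg.Agent.K2P

open Matrix Cfsg.Agent.OC2P Cfsg.Agent.Helper28.Sg Cfsg.Agent.Helper28.Spin
  Cfsg.Agent.Helper12.OrthGen Cfsg.Agent.K2M

variable {F : Type*} [Field F] [Fintype F] {t : ℕ} {Q : QuadraticForm F (Fin t × Fin 2 → F)}
  {q : QuadraticForm F (Fin 2 → F)} {e f : Fin 2 → F} {M : Subgroup (OG Q)}

/-- a linear functional `polar q a ·` on the binary space kills a nonzero vector -/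
theorem A.YNOTH.aux_ker (q : QuadraticForm F (Fin 2 → F)) (a : Fin 2 → F) :
    ∃ z : Fin 2 → F, z ≠ 0 ∧ QuadraticMap.polar ⇑q a z = 0 := by
  classical
  set z₁ : Fin 2 → F := Pi.single 0 1 with hz₁
  set z₂ : Fin 2 → F := Pi.single 1 1 with hz₂
  by_cases h1 : QuadraticMap.polar ⇑q a z₁ = 0
  · refine ⟨z₁, ?_, h1⟩
    intro h0
    have := congrFun h0 0
    simp [hz₁] at this
  · refine ⟨QuadraticMap.polar ⇑q a z₂ • z₁ - QuadraticMap.polar ⇑q a z₁ • z₂, ?_, ?_⟩
    · intro h0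
      have := congrFun h0 1
      simp [hz₁, hz₂] at this
      exact h1 this
    · rw [QuadraticMap.polar_sub_right, QuadraticMap.polar_smul_right, QuadraticMap.polar_smul_right,
        smul_eq_mul, smul_eq_mul, mul_comm, sub_self]

/-- the action of `r_u r_u'` for perpendicular `u`, `u'` -/
theorem A.YNOTH.aux_form {u u' : Fin t × Fin 2 → F} (hu : Q u ≠ 0) (hu' : Q u' ≠ 0)
    (huu' : B Q u u' = 0) (x : Fin t × Fin 2 → F) :
    mt Q (reflO Q u hu * reflO Q u' hu') *ᵥ x
      = x - ((Q u)⁻¹ * B Q u x) • u - ((Q u')⁻¹ * B Q u' x) • u' := by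
  have h1 : B Q u (x - ((Q u')⁻¹ * B Q u' x) • u') = B Q u x := by
    show QuadraticMap.polar ⇑Q u (x - ((Q u')⁻¹ * B Q u' x) • u') = QuadraticMap.polar ⇑Q u x
    rw [QuadraticMap.polar_sub_right, QuadraticMap.polar_smul_right]
    have h2 : QuadraticMap.polar ⇑Q u u' = 0 := huu'
    rw [h2, smul_zero, sub_zero]
  rw [mt_mul_mulVec, RACT.mulVec, RACT.mulVec, h1]
  abel

/-- the component of the image of a block vector in a third block -/
theorem A.YNOTH.aux_comp (bm : BM0 Q q) {u u' : Fin t × Fin 2 → F} (hu : Q u ≠ 0) (hu' : Q u' ≠ 0)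
    (huu' : B Q u u' = 0) {l c : Fin t} (hcl : c ≠ l) (z : Fin 2 → F) :
    bproj c (mt Q (reflO Q u hu * reflO Q u' hu') *ᵥ binj l z)
      = - (((Q u)⁻¹ * QuadraticMap.polar ⇑q (bproj l u) z) • bproj c u
          + ((Q u')⁻¹ * QuadraticMap.polar ⇑q (bproj l u') z) • bproj c u') := by
  rw [A.YNOTH.aux_form hu hu' huu', QB.bproj_sub, QB.bproj_sub, QB.bproj_smul, QB.bproj_smul,
    bproj_binj_ne hcl, QB.B_binj_right bm, QB.B_binj_right bm]
  abel

theorem A.YNOTH (bp : BP Q q e f) (ht : 3 ≤ t) {u u' : Fin t × Fin 2 → F} (hu : Q u ≠ 0)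
    (hu' : Q u' ≠ 0) (huu' : B Q u u' = 0) (hind : ∀ c : F, u ≠ c • u') (hfull : ∀ l, bproj l u ≠ 0) :
    ¬ StabD Q (reflO Q u hu * reflO Q u' hu') := by
  have bm : BM0 Q q := bp.toBM0
  intro hS
  obtain ⟨σ, hσ⟩ := (STAB.iff bm _).mp hS
  have hQu : (Q u)⁻¹ ≠ 0 := inv_ne_zero hu
  have hQu' : (Q u')⁻¹ ≠ 0 := inv_ne_zero hu'
  -- key equation
  have key : ∀ (l c : Fin t) (z : Fin 2 → F), c ≠ l → c ≠ σ l →
      ((Q u)⁻¹ * QuadraticMap.polar ⇑q (bproj l u) z) • bproj c u
          + ((Q u')⁻¹ * QuadraticMap.polar ⇑q (bproj l u') z) • bproj c u' = 0 := by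
    intro l c z hcl hcσ
    have h1 := (QB.mem_Dblk_iff.mp (hσ l z)) c hcσ
    rw [A.YNOTH.aux_comp bm hu hu' huu' hcl, neg_eq_zero] at h1
    exact h1
  by_cases hfix : ∀ l, σ l = l
  · -- all blocks fixed
    have hκ : ∀ l : Fin t, ∃ κ : F, ∀ c, c ≠ l → bproj c u = κ • bproj c u' := by
      intro l
      obtain ⟨z, hz⟩ := QB.exists_polar_ne bm (hfull l)
      refine ⟨-((Q u) * ((Q u')⁻¹ * QuadraticMap.polar ⇑q (bproj l u') z)), fun c hcl => ?_⟩
      have h1 := key l c z hcl (by rw [hfix l]; exact hcl)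
      rw [hz, mul_one] at h1
      have h2 : bproj c u = (Q u) • ((Q u)⁻¹ • bproj c u) := by
        rw [smul_smul, mul_inv_cancel₀ hu, one_smul]
      rw [h2, eq_neg_of_add_eq_zero_left h1, smul_neg, smul_smul, neg_smul]
    let l₁ : Fin t := ⟨0, by omega⟩
    let l₂ : Fin t := ⟨1, by omega⟩
    let l₃ : Fin t := ⟨2, by omega⟩
    have h12 : l₁ ≠ l₂ := by simp [l₁, l₂, Fin.ext_iff]
    have h13 : l₃ ≠ l₁ := by simp [l₁, l₃, Fin.ext_iff]
    have h23 : l₃ ≠ l₂ := by simp [l₂, l₃, Fin.ext_iff]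
    obtain ⟨κ₁, hκ₁⟩ := hκ l₁
    obtain ⟨κ₂, hκ₂⟩ := hκ l₂
    have h3 : bproj l₃ u' ≠ 0 := by
      intro h0
      have := hκ₁ l₃ h13
      rw [h0, smul_zero] at this
      exact hfull l₃ this
    have hκeq : κ₁ = κ₂ := by
      have e1 := hκ₁ l₃ h13
      have e2 := hκ₂ l₃ h23
      rw [e1] at e2
      have e3 : (κ₁ - κ₂) • bproj l₃ u' = 0 := by rw [sub_smul, e2, sub_self]
      rcases smul_eq_zero.mp e3 with h | h
      · exact sub_eq_zero.mp h
      · exact absurd h h3
    apply hind κ₁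
    apply QB.ext
    intro c
    rw [QB.bproj_smul]
    by_cases hc : c = l₁
    · rw [hκeq]
      apply hκ₂
      rw [hc]
      exact h12
    · exact hκ₁ c hc
  · -- some block is moved
    push Not at hfix
    obtain ⟨l, hl⟩ := hfix
    -- common kernel trivial
    have hker : ∀ z : Fin 2 → F, QuadraticMap.polar ⇑q (bproj l u) z = 0 →
        QuadraticMap.polar ⇑q (bproj l u') z = 0 → z = 0 := by
      intro z h1 h2
      have h3 := hσ l z
      rw [A.YNOTH.aux_form hu hu' huu', QB.B_binj_right bm, QB.B_binj_right bm, h1, h2, mul_zero,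
        mul_zero, zero_smul, zero_smul, sub_zero, sub_zero] at h3
      have h4 := (QB.mem_Dblk_iff.mp h3) l (Ne.symm hl)
      rwa [bproj_binj] at h4
    obtain ⟨z, hz0, hz⟩ := A.YNOTH.aux_ker q (bproj l u')
    have hz' : QuadraticMap.polar ⇑q (bproj l u) z ≠ 0 := fun h => hz0 (hker z h hz)
    -- a third block
    obtain ⟨c, hcl, hcσ⟩ : ∃ c : Fin t, c ≠ l ∧ c ≠ σ l := by
      by_contra hcon
      push Not at hcon
      have hsub : (Finset.univ : Finset (Fin t)) ⊆ {l, σ l} := by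
        intro k _
        by_cases hk : k = l
        · simp [hk]
        · simp [hcon k hk]
      have h1 := Finset.card_le_card hsub
      have h2 : ({l, σ l} : Finset (Fin t)).card ≤ 2 := Finset.card_le_two
      rw [Finset.card_univ, Fintype.card_fin] at h1
      omega
    have h1 := key l c z hcl hcσ
    rw [hz, mul_zero, zero_smul, add_zero] at h1
    rcases smul_eq_zero.mp h1 with h | h
    · exact (mul_ne_zero hQu hz') h
    · exact hfull c h

end Cfsg.Agent.K2P
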