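import Mathlib
import Cfsg.Agent.Helper18.K2P.Defs
import Cfsg.Agent.Helper18.K2P.Defs2
import Cfsg.Agent.Helper18.K2P.QB
import Cfsg.Agent.Helper18.K2P.RACT
import Cfsg.Agent.Helper18.K2P.STAB
import Cfsg.Agent.Helper18.K2P.OMEGA
import Cfsg.Agent.Helper18.K2P.PERM
import Cfsg.Agent.Helper8.K2PG
import Cfsg.Agent.Helper1.K2PPAIRF

set_option autoImplicit false
set_option linter.unusedSectionVars false
set_option linter.unusedVariables false

/-! # K2P (S5692, `k = 2`, hyperbolic blocks), chapter B, piece S-ADD23 (helper12, hedge of helper6's row):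
from `InA M a` with `a` supported on exactly two blocks to `InA M a'` with `a'` supported on three blocks and a free block.
`a₂ := π a`, `π = ρ_i(λ) ρ_n(λ⁻¹) ∘ (3-cycle j → k → n)`, `a' := r_a a₂ = a₂ - c • a`. -/

namespace Cfsg.Agent.K2P

open Matrix Cfsg.Agent.OC2P Cfsg.Agent.Helper28.Sg Cfsg.Agent.Helper28.Spin
  Cfsg.Agent.Helper12.OrthGen Cfsg.Agent.K2M

variable {F : Type*} [Field F] [Fintype F] {t : ℕ} {Q : QuadraticForm F (Fin t × Fin 2 → F)}
  {q : QuadraticForm F (Fin 2 → F)} {e f : Fin 2 → F} {M : Subgroup (OG Q)}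

/-- the block vector related to `a` can be taken in any block (port of helper3's K2M piece) -/
theorem SADD23.aux_changeb (bp : BP Q q e f) (ht : 3 ≤ t) {H : Subgroup (OG Q)} (hH : HasMO H)
    {a : Fin t × Fin 2 → F} (ha : InA H a) (l : Fin t) :
    ∃ (y : Fin 2 → F) (ha' : Q a ≠ 0) (hb : Q (binj l y) ≠ 0), q y = Q a ∧
      reflO Q a ha' * reflO Q (binj l y) hb ∈ H := by
  have bm : BM0 Q q := bp.toBM0
  obtain ⟨b, ha', hb, ⟨l₀, hbl₀⟩, hQab, hmem⟩ := ha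
  have hb_eq : b = binj l₀ (bproj l₀ b) := QB.mem_Dblk_iff'.mp hbl₀
  obtain ⟨y, hy⟩ := UNIV.main bp (Q a)
  have hQy : Q (binj l y) = q y := QB.Q_binj bm l y
  have hby : Q (binj l y) ≠ 0 := by rw [hQy, hy]; exact ha'
  refine ⟨y, ha', hby, hy, ?_⟩
  have hQb0 : Q (binj l₀ (bproj l₀ b)) ≠ 0 := by rw [← hb_eq]; exact hb
  have hqb : q (bproj l₀ b) = Q b := by
    rw [← QB.Q_binj bm l₀ (bproj l₀ b), ← hb_eq]
  have hpair : reflO Q (binj l₀ (bproj l₀ b)) hQb0 * reflO Q (binj l y) hby ∈ H := by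
    apply OMEGA.pair_mem bm ht hH
    rw [hqb, ← hQab, hy]
    exact ⟨Q a, rfl⟩
  have hrefl : reflO Q (binj l₀ (bproj l₀ b)) hQb0 = reflO Q b hb := by
    congr 1
    exact hb_eq.symm
  rw [hrefl] at hpair
  have hprod := H.mul_mem hmem hpair
  have heq : reflO Q a ha' * reflO Q b hb * (reflO Q b hb * reflO Q (binj l y) hby)
      = reflO Q a ha' * reflO Q (binj l y) hby := by
    rw [mul_assoc, ← mul_assoc (reflO Q b hb), reflO_mul_self, one_mul]
  rw [heq] at hprod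
  exact hprod

/-- `InA` is invariant under the elements of `H` permuting the blocks (port of helper3's K2M piece) -/
theorem SADD23.aux_conj {H : Subgroup (OG Q)} {a : Fin t × Fin 2 → F} (ha : InA H a)
    {h : OG Q} (hh : h ∈ H) (hs : StabD Q h) : InA H (mt Q h *ᵥ a) := by
  obtain ⟨b, ha', hb, ⟨l₀, hbl₀⟩, hQab, hmem⟩ := ha
  have hQa : Q (mt Q h *ᵥ a) = Q a := Q_isom h a
  have hQb : Q (mt Q h *ᵥ b) = Q b := Q_isom h b
  have ha2 : Q (mt Q h *ᵥ a) ≠ 0 := by rw [hQa]; exact ha'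
  have hb2 : Q (mt Q h *ᵥ b) ≠ 0 := by rw [hQb]; exact hb
  refine ⟨mt Q h *ᵥ b, ha2, hb2, ?_, ?_, ?_⟩
  · obtain ⟨σ, hσ⟩ := hs
    refine ⟨σ l₀, ?_⟩
    rw [← hσ l₀]
    refine ⟨b, hbl₀, ?_⟩
    rw [Matrix.toLin'_apply]
  · rw [hQa, hQb, hQab]
  · have e1 : reflO Q (mt Q h *ᵥ a) ha2 = h * reflO Q a ha' * h⁻¹ := reflO_conj Q h a ha' ha2
    have e2 : reflO Q (mt Q h *ᵥ b) hb2 = h * reflO Q b hb * h⁻¹ := reflO_conj Q h b hb hb2
    rw [e1, e2]
    have e3 : h * reflO Q a ha' * h⁻¹ * (h * reflO Q b hb * h⁻¹)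
        = h * (reflO Q a ha' * reflO Q b hb) * h⁻¹ := by group
    rw [e3]
    exact H.mul_mem (H.mul_mem hh hmem) (H.inv_mem hh)

/-- a rotation parameter `λ ∉ {0}`, `λ² ≠ 1`, `λ² ≠ -1` -/
theorem SADD23.aux_lam (hF : 7 ≤ Fintype.card F) :
    ∃ lam : F, lam ≠ 0 ∧ lam * lam ≠ 1 ∧ lam * lam + 1 ≠ 0 := by
  classical
  by_cases hι : ∃ ι : F, ι * ι + 1 = 0
  · obtain ⟨ι, hι⟩ := hι
    obtain ⟨lam, h0, h1, h2, h3, h4⟩ := PAIRF.exists_avoid hF (0 : F) 1 (-1) ι (-ι)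
    refine ⟨lam, h0, ?_, ?_⟩
    · intro h
      have h5 : (lam - 1) * (lam + 1) = 0 := by ring_nf; ring_nf at h; rw [h]; ring
      rcases mul_eq_zero.mp h5 with h6 | h6
      · exact h1 (sub_eq_zero.mp h6)
      · exact h2 (eq_neg_of_add_eq_zero_left h6)
    · intro h
      have h5 : (lam - ι) * (lam + ι) = 0 := by
        have : (lam - ι) * (lam + ι) = (lam * lam + 1) - (ι * ι + 1) := by ring
        rw [this, h, hι, sub_zero]
      rcases mul_eq_zero.mp h5 with h6 | h6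
      · exact h3 (sub_eq_zero.mp h6)
      · exact h4 (eq_neg_of_add_eq_zero_left h6)
  · push Not at hι
    obtain ⟨lam, h0, h1, h2, -, -⟩ := PAIRF.exists_avoid hF (0 : F) 1 (-1) 0 0
    refine ⟨lam, h0, ?_, hι lam⟩
    intro h
    have h5 : (lam - 1) * (lam + 1) = 0 := by
      have : (lam - 1) * (lam + 1) = lam * lam - 1 := by ring
      rw [this, h, sub_self]
    rcases mul_eq_zero.mp h5 with h6 | h6
    · exact h1 (sub_eq_zero.mp h6)
    · exact h2 (eq_neg_of_add_eq_zero_left h6)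

theorem SADD23.main (bp : BP Q q e f) (ht : 4 ≤ t) (hF : 7 ≤ Fintype.card F) {M : Subgroup (OG Q)}
    (hM : HasMO M) {a : Fin t × Fin 2 → F} (ha : InA M a) {i j : Fin t} (hij : i ≠ j)
    (hi : q (bproj i a) ≠ 0) (hj : bproj j a ≠ 0) (h0 : ∀ m, m ≠ i → m ≠ j → bproj m a = 0) :
    ∃ (a' : Fin t × Fin 2 → F) (i' j' k' p' : Fin t), InA M a' ∧ i' ≠ j' ∧ i' ≠ k' ∧ j' ≠ k' ∧
      bproj i' a' ≠ 0 ∧ bproj j' a' ≠ 0 ∧ bproj k' a' ≠ 0 ∧ bproj p' a' = 0 := by
  have bm : BM0 Q q := bp.toBM0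
  have ht3 : 3 ≤ t := by omega
  -- the two further blocks
  obtain ⟨k, hki, hkj, -⟩ := PERM.aux_exists_ne ht i j j
  obtain ⟨n, hni, hnj, hnk⟩ := PERM.aux_exists_ne ht i j k
  -- the decomposition of `a`
  obtain ⟨ai, hai⟩ : ∃ ai : Fin 2 → F, ai = bproj i a := ⟨_, rfl⟩
  obtain ⟨aj, haj⟩ : ∃ aj : Fin 2 → F, aj = bproj j a := ⟨_, rfl⟩
  have ha_eq : a = binj i ai + binj j aj := by
    apply QB.ext
    intro m
    rw [QB.bproj_add]
    by_cases hmi : m = i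
    · subst hmi
      rw [bproj_binj, bproj_binj_ne hij, add_zero, hai]
    · by_cases hmj : m = j
      · subst hmj
        rw [bproj_binj, bproj_binj_ne hmi, zero_add, haj]
      · rw [bproj_binj_ne hmi, bproj_binj_ne hmj, add_zero]
        exact h0 m hmi hmj
  rw [← hai] at hi
  rw [← haj] at hj
  -- coordinates of `ai`
  obtain ⟨α, hα⟩ : ∃ α : F, α = QuadraticMap.polar ⇑q ai f := ⟨_, rfl⟩
  obtain ⟨β, hβ⟩ : ∃ β : F, β = QuadraticMap.polar ⇑q ai e := ⟨_, rfl⟩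
  have hqai : q ai = α * β := by rw [hα, hβ]; exact PLANE.q_eq bp ai
  have hα0 : α ≠ 0 := fun h => hi (by rw [hqai, h, zero_mul])
  have hβ0 : β ≠ 0 := fun h => hi (by rw [hqai, h, mul_zero])
  -- the parameter
  obtain ⟨lam, hl0, hl1, hl2⟩ := SADD23.aux_lam hF
  have hli0 : lam⁻¹ ≠ 0 := inv_ne_zero hl0
  -- the rotated component
  obtain ⟨ri, hri⟩ : ∃ ri : Fin 2 → F,
      ri = ai + ((lam - 1) * QuadraticMap.polar ⇑q ai f) • e
        + ((lam⁻¹ - 1) * QuadraticMap.polar ⇑q ai e) • f := ⟨_, rfl⟩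
  have hri_f : QuadraticMap.polar ⇑q ri f = lam * α := by
    rw [hri, QuadraticMap.polar_add_left, QuadraticMap.polar_add_left, QuadraticMap.polar_smul_left,
      QuadraticMap.polar_smul_left, bp.ef, PLANE.polar_ff bp, ← hα, ← hβ]
    simp only [smul_eq_mul]
    ring
  have hri_e : QuadraticMap.polar ⇑q ri e = lam⁻¹ * β := by
    rw [hri, QuadraticMap.polar_add_left, QuadraticMap.polar_add_left, QuadraticMap.polar_smul_left,
      QuadraticMap.polar_smul_left, PLANE.polar_ee bp, PLANE.polar_fe bp, ← hα, ← hβ]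
    simp only [smul_eq_mul]
    ring
  have hpol : QuadraticMap.polar ⇑q ai ri = (lam + lam⁻¹) * (α * β) := by
    rw [hri, QuadraticMap.polar_add_right, QuadraticMap.polar_add_right, QuadraticMap.polar_smul_right,
      QuadraticMap.polar_smul_right, QuadraticMap.polar_self, hqai, ← hα, ← hβ]
    simp only [smul_eq_mul, nsmul_eq_mul]
    push_cast
    ring
  -- the element `π`
  obtain ⟨g₀, hg₀M, hg₀S, hg₀⟩ := PERM.cycle3 bm hM (Ne.symm hkj) (Ne.symm hnj) (Ne.symm hnk)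
  have hg₀i : ∀ y : Fin 2 → F, mt Q g₀ *ᵥ binj i y = binj i y := by
    intro y
    rw [hg₀, Equiv.swap_apply_of_ne_of_ne (Ne.symm hki) (Ne.symm hni),
      Equiv.swap_apply_of_ne_of_ne hij (Ne.symm hki)]
  have hg₀j : ∀ y : Fin 2 → F, mt Q g₀ *ᵥ binj j y = binj k y := by
    intro y
    rw [hg₀, Equiv.swap_apply_of_ne_of_ne (Ne.symm hkj) (Ne.symm hnj), Equiv.swap_apply_left]
  have hTM : TOR.rho bp i lam hl0 * TOR.rho bp n lam⁻¹ hli0 ∈ M :=
    TOR.mem2 bp ht3 hM (Ne.symm hni) hl0 hli0 ⟨1, by rw [mul_inv_cancel₀ hl0, one_mul]⟩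
  have hTS : StabD Q (TOR.rho bp i lam hl0 * TOR.rho bp n lam⁻¹ hli0) :=
    STAB.mul (TOR.stab bp i hl0) (TOR.stab bp n hli0)
  obtain ⟨π, hπ⟩ : ∃ π : OG Q, π = TOR.rho bp i lam hl0 * TOR.rho bp n lam⁻¹ hli0 * g₀ := ⟨_, rfl⟩
  have hπM : π ∈ M := by rw [hπ]; exact M.mul_mem hTM hg₀M
  have hπS : StabD Q π := by rw [hπ]; exact STAB.mul hTS hg₀S
  -- `a₂ = π a`
  have ha₂ : mt Q π *ᵥ a = binj i ri + binj k aj := by
    rw [hπ, mt_mul_mulVec, mt_mul_mulVec, ha_eq, Matrix.mulVec_add, hg₀i, hg₀j]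
    have e1 : mt Q (TOR.rho bp n lam⁻¹ hli0) *ᵥ (binj i ai + binj k aj) = binj i ai + binj k aj := by
      apply TOR.fix bp n hli0
      rw [QB.bproj_add, bproj_binj_ne hni, bproj_binj_ne hnk, add_zero]
    rw [e1, Matrix.mulVec_add, TOR.mulVec_binj bp i hl0, ← hri]
    have e2 : mt Q (TOR.rho bp i lam hl0) *ᵥ binj k aj = binj k aj := by
      apply TOR.fix bp i hl0
      rw [bproj_binj_ne (Ne.symm hki)]
    rw [e2]
  obtain ⟨a₂, ha₂def⟩ : ∃ a₂ : Fin t × Fin 2 → F, a₂ = mt Q π *ᵥ a := ⟨_, rfl⟩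
  have ha₂eq : a₂ = binj i ri + binj k aj := by rw [ha₂def, ha₂]
  have hInA₂ : InA M a₂ := by rw [ha₂def]; exact SADD23.aux_conj ha hπM hπS
  -- the block vectors in block `n`
  obtain ⟨y, hQa, hby, hqy, hP⟩ := SADD23.aux_changeb bp ht3 hM ha n
  obtain ⟨y₂, hQa₂, hby₂, hqy₂, hP₂⟩ := SADD23.aux_changeb bp ht3 hM hInA₂ n
  have hQa₂a : Q a₂ = Q a := by rw [ha₂def]; exact Q_isom π a
  have hR : reflO Q (binj n y) hby * reflO Q (binj n y₂) hby₂ ∈ M := by
    apply OMEGA.rot_mem bm ht3 hM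
    rw [hqy, hqy₂, hQa₂a]
    exact ⟨Q a, rfl⟩
  -- `a' = r_a a₂`
  obtain ⟨a', ha'def⟩ : ∃ a' : Fin t × Fin 2 → F, a' = mt Q (reflO Q a hQa) *ᵥ a₂ := ⟨_, rfl⟩
  have hQa' : Q a' = Q a := by rw [ha'def, Q_isom, hQa₂a]
  have hQa'0 : Q a' ≠ 0 := by rw [hQa']; exact hQa
  have hInA' : InA M a' := by
    refine ⟨binj n y, hQa'0, hby, ⟨n, binj_mem n y⟩, ?_, ?_⟩
    · rw [hQa', QB.Q_binj bm, hqy]
    · have e1 : reflO Q a' hQa'0 = reflO Q a hQa * reflO Q a₂ hQa₂ * (reflO Q a hQa)⁻¹ := by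
        have hv' : Q (mt Q (reflO Q a hQa) *ᵥ a₂) ≠ 0 := by rw [← ha'def]; exact hQa'0
        have e0 := reflO_conj Q (reflO Q a hQa) a₂ hQa₂ hv'
        rw [← e0]
        congr 1
      have e2 : reflO Q a' hQa'0 * reflO Q (binj n y) hby
          = (reflO Q a hQa * reflO Q (binj n y) hby)
            * ((reflO Q (binj n y) hby * reflO Q (binj n y₂) hby₂)
              * (reflO Q a₂ hQa₂ * reflO Q (binj n y₂) hby₂)⁻¹)
            * (reflO Q a hQa * reflO Q (binj n y) hby) := by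
        rw [e1, _root_.mul_inv_rev, reflO_inv, reflO_inv, reflO_inv]
        have s1 : ∀ (x : Fin t × Fin 2 → F) (hx : Q x ≠ 0) (X : OG Q),
            reflO Q x hx * (reflO Q x hx * X) = X := by
          intro x hx X
          rw [← mul_assoc, reflO_mul_self, one_mul]
        simp only [mul_assoc]
        rw [s1 (binj n y) hby, s1 (binj n y₂) hby₂]
      rw [e2]
      exact M.mul_mem (M.mul_mem hP (M.mul_mem hR (M.inv_mem hP₂))) hP
  -- the components of `a'`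
  obtain ⟨c, hc⟩ : ∃ c : F, c = (Q a)⁻¹ * B Q a a₂ := ⟨_, rfl⟩
  have ha'eq : a' = a₂ - c • a := by rw [ha'def, RACT.mulVec, hc]
  have hBaa₂ : B Q a a₂ = (lam + lam⁻¹) * (α * β) := by
    rw [ha₂eq]
    show QuadraticMap.polar ⇑Q a (binj i ri + binj k aj) = _
    rw [QuadraticMap.polar_add_right]
    have e1 : QuadraticMap.polar ⇑Q a (binj i ri) = QuadraticMap.polar ⇑q (bproj i a) ri :=
      QB.B_binj_right bm i ri a
    have e2 : QuadraticMap.polar ⇑Q a (binj k aj) = QuadraticMap.polar ⇑q (bproj k a) aj :=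
      QB.B_binj_right bm k aj a
    rw [e1, e2, h0 k hki hkj, QuadraticMap.polar_zero_left, add_zero, ← hai, hpol]
  have hc0 : c ≠ 0 := by
    rw [hc, hBaa₂]
    refine mul_ne_zero (inv_ne_zero hQa) (mul_ne_zero ?_ (mul_ne_zero hα0 hβ0))
    intro h
    apply hl2
    have : lam * lam + 1 = lam * (lam + lam⁻¹) := by
      rw [mul_add, mul_inv_cancel₀ hl0]
    rw [this, h, mul_zero]
  have hcomp : ∀ m, bproj m a' = bproj m a₂ - c • bproj m a := by
    intro m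
    rw [ha'eq, QB.bproj_sub, QB.bproj_smul]
  refine ⟨a', i, j, k, n, hInA', hij, Ne.symm hki, Ne.symm hkj, ?_, ?_, ?_, ?_⟩
  · -- block `i`
    intro h
    rw [hcomp, ha₂eq, QB.bproj_add, bproj_binj, bproj_binj_ne (Ne.symm hki), add_zero, ← hai] at h
    have h1 : ri = c • ai := sub_eq_zero.mp h
    have h2 : lam * α = c * α := by
      rw [← hri_f, h1, QuadraticMap.polar_smul_left, ← hα, smul_eq_mul]
    have h3 : lam⁻¹ * β = c * β := by
      rw [← hri_e, h1, QuadraticMap.polar_smul_left, ← hβ, smul_eq_mul]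
    have h4 : lam = c := mul_right_cancel₀ hα0 h2
    have h5 : lam⁻¹ = c := mul_right_cancel₀ hβ0 h3
    apply hl1
    have : lam * lam = lam * lam⁻¹ := by rw [h5, ← h4]
    rw [this, mul_inv_cancel₀ hl0]
  · -- block `j`
    intro h
    rw [hcomp, ha₂eq, QB.bproj_add, bproj_binj_ne hij.symm, bproj_binj_ne (Ne.symm hkj), add_zero,
      zero_sub, neg_eq_zero, ← haj] at h
    rcases smul_eq_zero.mp h with h | h
    · exact hc0 h
    · exact hj h
  · -- block `k`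
    intro h
    rw [hcomp, ha₂eq, QB.bproj_add, bproj_binj_ne hki, bproj_binj, zero_add, h0 k hki hkj, smul_zero,
      sub_zero] at h
    exact hj h
  · -- block `n`
    rw [hcomp, ha₂eq, QB.bproj_add, bproj_binj_ne hni, bproj_binj_ne hnk, add_zero, h0 n hni hnj,
      smul_zero, sub_zero]

end Cfsg.Agent.K2P
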