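import Mathlib

set_option autoImplicit false

namespace Cfsg.Agent.Helper12

/-- The preimage of a set under a surjective homomorphism of finite groups. -/
theorem card_preimage_hom {A B : Type*} [Group A] [Group B] (f : A →* B)
    (hf : Function.Surjective f) (D : Set B) :
    Nat.card {x : A // f x ∈ D} = Nat.card D * Nat.card f.ker := by
  classical
  rw [← Nat.card_prod]
  apply Nat.card_congr
  have hσ : ∀ b, f (Function.surjInv hf b) = b := Function.surjInv_eq hf
  refine ⟨fun x => (⟨f x.1, x.2⟩, ⟨(Function.surjInv hf (f x.1))⁻¹ * x.1, ?_⟩),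
    fun y => ⟨Function.surjInv hf y.1.1 * y.2.1, ?_⟩, ?_, ?_⟩
  · rw [MonoidHom.mem_ker, map_mul, map_inv, hσ, inv_mul_cancel]
  · show f (Function.surjInv hf y.1.1 * y.2.1) ∈ D
    rw [map_mul, hσ, (MonoidHom.mem_ker).1 y.2.2, mul_one]
    exact y.1.2
  · intro x
    apply Subtype.ext
    simp
  · rintro ⟨⟨d, hd⟩, ⟨k, hk⟩⟩
    have hk' : f k = 1 := (MonoidHom.mem_ker).1 hk
    have e : f (Function.surjInv hf d * k) = d := by rw [map_mul, hσ, hk', mul_one]
    apply Prod.ext
    · apply Subtype.ext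
      exact e
    · apply Subtype.ext
      show (Function.surjInv hf (f (Function.surjInv hf d * k)))⁻¹ * (Function.surjInv hf d * k) = k
      rw [e, inv_mul_cancel_left]

/-- The number of ordered pairs of distinct non-identity elements of a group of order four. -/
theorem card_distinct_pairs {G : Type*} [Group G] (V : Subgroup G) (h4 : Nat.card V = 4) :
    Nat.card {p : G × G // p.1 ∈ V ∧ p.2 ∈ V ∧ p.1 ≠ 1 ∧ p.2 ≠ 1 ∧ p.1 ≠ p.2} = 6 := by
  classical
  have hfin : Finite V := Nat.finite_of_card_ne_zero (by omega)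
  have hft : Fintype V := Fintype.ofFinite V
  have e : {p : G × G // p.1 ∈ V ∧ p.2 ∈ V ∧ p.1 ≠ 1 ∧ p.2 ≠ 1 ∧ p.1 ≠ p.2} ≃
      {p : V × V // p ∈ (Finset.univ.erase (1 : V)).offDiag} :=
    { toFun := fun x => ⟨(⟨x.1.1, x.2.1⟩, ⟨x.1.2, x.2.2.1⟩), by
        rw [Finset.mem_offDiag, Finset.mem_erase, Finset.mem_erase]
        refine ⟨⟨?_, Finset.mem_univ _⟩, ⟨?_, Finset.mem_univ _⟩, ?_⟩
        · intro h; exact x.2.2.2.1 (congrArg Subtype.val h)
        · intro h; exact x.2.2.2.2.1 (congrArg Subtype.val h)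
        · intro h; exact x.2.2.2.2.2 (congrArg Subtype.val h)⟩
      invFun := fun y => ⟨((y.1.1 : G), (y.1.2 : G)), by
        have hy := y.2
        rw [Finset.mem_offDiag, Finset.mem_erase, Finset.mem_erase] at hy
        refine ⟨y.1.1.2, y.1.2.2, ?_, ?_, ?_⟩
        · intro h; exact hy.1.1 (Subtype.ext h)
        · intro h; exact hy.2.1.1 (Subtype.ext h)
        · intro h; exact hy.2.2 (Subtype.ext h)⟩
      left_inv := fun x => rfl
      right_inv := fun y => rfl }
  rw [Nat.card_congr e, Nat.card_eq_fintype_card, Fintype.card_coe, Finset.offDiag_card,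
    Finset.card_erase_of_mem (Finset.mem_univ _), Finset.card_univ, ← Nat.card_eq_fintype_card, h4]

end Cfsg.Agent.Helper12
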