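import Mathlib

set_option autoImplicit false

namespace Cfsg.Agent.Helper12

variable {F : Type*} [Field F]

local notation "S2" => Matrix.SpecialLinearGroup (Fin 2) F
local notation "M2" => Matrix (Fin 2) (Fin 2) F

/-- The number of roots of `x² - t x + 1`. -/
def rootCount [Fintype F] [DecidableEq F] (t : F) : ℕ :=
  ∑ a : F, if a * (t - a) = 1 then 1 else 0

/-- Counting the solutions of `b c = m`. -/
theorem sum_mul_eq [Fintype F] [DecidableEq F] (m : F) :
    ∑ b : F, ∑ c : F, (if b * c = m then 1 else 0 : ℕ) =
      (Fintype.card F - 1) + if m = 0 then Fintype.card F else 0 := by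
  rw [← Finset.add_sum_erase Finset.univ _ (Finset.mem_univ (0 : F))]
  have h0 : ∑ c : F, (if (0 : F) * c = m then 1 else 0 : ℕ) =
      if m = 0 then Fintype.card F else 0 := by
    by_cases hm : m = 0
    · subst hm
      simp
    · rw [if_neg hm]
      apply Finset.sum_eq_zero
      intro c _
      rw [zero_mul, if_neg (Ne.symm hm)]
  have h1 : ∀ b ∈ Finset.univ.erase (0 : F), ∑ c : F, (if b * c = m then 1 else 0 : ℕ) = 1 := by
    intro b hb
    have hb0 : b ≠ 0 := Finset.ne_of_mem_erase hb
    rw [Finset.sum_eq_single (m / b)]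
    · rw [if_pos]
      field_simp
    · intro c _ hc
      rw [if_neg]
      intro h
      apply hc
      rw [← h]
      field_simp
    · intro h
      exact absurd (Finset.mem_univ _) h
  rw [h0, Finset.sum_congr rfl h1, Finset.sum_const, Finset.card_erase_of_mem (Finset.mem_univ _),
    Finset.card_univ, smul_eq_mul, mul_one, add_comm]

/-- The elements of `SL₂` with a given trace, in coordinates. -/
def traceFiberEquiv (t : F) :
    {h : S2 // (h : M2).trace = t} ≃
      {p : F × F × F // p.2.1 * p.2.2 = p.1 * (t - p.1) - 1} where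
  toFun h := ⟨(((h : S2) : M2) 0 0, ((h : S2) : M2) 0 1, ((h : S2) : M2) 1 0), by
    have hdet := (h : S2).2
    have htr := h.2
    rw [Matrix.det_fin_two] at hdet
    rw [Matrix.trace_fin_two] at htr
    simp only
    linear_combination -hdet + (((h : S2) : M2) 0 0) * htr⟩
  invFun p := ⟨⟨!![p.1.1, p.1.2.1; p.1.2.2, t - p.1.1], by
    rw [Matrix.det_fin_two_of]
    linear_combination -p.2⟩, by
    rw [Matrix.trace_fin_two]
    simp⟩
  left_inv h := by
    apply Subtype.ext
    apply Subtype.ext
    have htr := h.2
    rw [Matrix.trace_fin_two] at htr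
    ext i j
    fin_cases i <;> fin_cases j <;> simp
    linear_combination -htr
  right_inv p := by
    apply Subtype.ext
    simp

/-- The number of elements of `SL₂(q)` with trace `t`. -/
theorem card_trace_fiber [Fintype F] [DecidableEq F] (t : F) :
    Nat.card {h : S2 // (h : M2).trace = t} =
      Fintype.card F * (Fintype.card F - 1) + Fintype.card F * rootCount t := by
  rw [Nat.card_congr (traceFiberEquiv t), Nat.card_eq_fintype_card, Fintype.card_subtype,
    Finset.card_filter, Fintype.sum_prod_type]
  have : ∀ a : F, ∑ y : F × F, (if y.1 * y.2 = a * (t - a) - 1 then 1 else 0 : ℕ) =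
      (Fintype.card F - 1) + if a * (t - a) = 1 then Fintype.card F else 0 := by
    intro a
    rw [Fintype.sum_prod_type, sum_mul_eq]
    congr 1
    by_cases h : a * (t - a) = 1
    · rw [if_pos h, if_pos (by rw [h, sub_self])]
    · rw [if_neg h, if_neg (fun h' => h (by linear_combination h'))]
  simp only [this]
  rw [Finset.sum_add_distrib, Finset.sum_const, Finset.card_univ, smul_eq_mul]
  congr 1
  unfold rootCount
  rw [Finset.mul_sum]
  apply Finset.sum_congr rfl
  intro a _
  split_ifs <;> simp

/-- Each non-zero `a` is a root for exactly one `t`. -/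
theorem sum_rootCount [Fintype F] [DecidableEq F] :
    ∑ t : F, rootCount t = Fintype.card F - 1 := by
  unfold rootCount
  rw [Finset.sum_comm, ← Finset.add_sum_erase Finset.univ _ (Finset.mem_univ (0 : F))]
  have h0 : ∑ t : F, (if (0 : F) * (t - 0) = 1 then 1 else 0 : ℕ) = 0 := by
    apply Finset.sum_eq_zero
    intro t _
    rw [zero_mul, if_neg zero_ne_one]
  have h1 : ∀ a ∈ Finset.univ.erase (0 : F),
      ∑ t : F, (if a * (t - a) = 1 then 1 else 0 : ℕ) = 1 := by
    intro a ha
    have ha0 : a ≠ 0 := Finset.ne_of_mem_erase ha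
    rw [Finset.sum_eq_single (a + a⁻¹)]
    · rw [if_pos]
      field_simp
      ring
    · intro t _ ht
      rw [if_neg]
      intro h
      apply ht
      field_simp
      linear_combination h
    · intro h
      exact absurd (Finset.mem_univ _) h
  rw [h0, Finset.sum_congr rfl h1, Finset.sum_const, Finset.card_erase_of_mem (Finset.mem_univ _),
    Finset.card_univ, smul_eq_mul, mul_one, zero_add]

theorem rootCount_eq_zero [Fintype F] [DecidableEq F] {t : F} (h : ∀ a : F, a * (t - a) ≠ 1) :
    rootCount t = 0 := by
  unfold rootCount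
  apply Finset.sum_eq_zero
  intro a _
  rw [if_neg (h a)]

theorem root_iff {t a x : F} (ha : a * (t - a) = 1) : x * (t - x) = 1 ↔ x = a ∨ x = t - a := by
  constructor
  · intro hx
    have : (x - a) * (x - (t - a)) = 0 := by linear_combination ha - hx
    rcases mul_eq_zero.1 this with h | h
    · left; linear_combination h
    · right; linear_combination h
  · rintro (rfl | rfl)
    · exact ha
    · linear_combination ha

theorem rootCount_eq_two [Fintype F] [DecidableEq F] {t a : F} (ha : a * (t - a) = 1)
    (hne : a ≠ t - a) : rootCount t = 2 := by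
  unfold rootCount
  rw [← Finset.card_filter]
  have : Finset.univ.filter (fun x : F => x * (t - x) = 1) = {a, t - a} := by
    ext x
    simp only [Finset.mem_filter, Finset.mem_univ, true_and, Finset.mem_insert,
      Finset.mem_singleton]
    exact root_iff ha
  rw [this, Finset.card_pair hne]

theorem rootCount_eq_one [Fintype F] [DecidableEq F] {t a : F} (ha : a * (t - a) = 1)
    (he : a = t - a) : rootCount t = 1 := by
  unfold rootCount
  rw [← Finset.card_filter]
  have : Finset.univ.filter (fun x : F => x * (t - x) = 1) = {a} := by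
    ext x
    simp only [Finset.mem_filter, Finset.mem_univ, true_and, Finset.mem_singleton]
    rw [root_iff ha, ← he, or_self]
  rw [this, Finset.card_singleton]

theorem rootCount_pos [Fintype F] [DecidableEq F] {t a : F} (ha : a * (t - a) = 1) :
    0 < rootCount t := by
  by_cases he : a = t - a
  · rw [rootCount_eq_one ha he]; norm_num
  · rw [rootCount_eq_two ha he]; norm_num

/-- There is a non-zero trace without roots as soon as some non-zero trace has two roots. -/
theorem exists_rootCount_eq_zero [Fintype F] [DecidableEq F] {t₁ : F} (ht₁ : t₁ ≠ 0)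
    (h2 : rootCount t₁ = 2) : ∃ t : F, t ≠ 0 ∧ rootCount t = 0 := by
  by_contra hno
  push Not at hno
  have hsum := sum_rootCount (F := F)
  have hge : ∀ t ∈ Finset.univ.erase (0 : F), (if t = t₁ then 2 else 1 : ℕ) ≤ rootCount t := by
    intro t ht
    have ht0 : t ≠ 0 := Finset.ne_of_mem_erase ht
    split_ifs with h
    · rw [h, h2]
    · have := hno t ht0
      omega
  have h3 := Finset.sum_le_sum hge
  have h4 : ∑ t ∈ Finset.univ.erase (0 : F), (if t = t₁ then 2 else 1 : ℕ) =
      Fintype.card F := by
    have hmem : t₁ ∈ Finset.univ.erase (0 : F) := Finset.mem_erase.2 ⟨ht₁, Finset.mem_univ _⟩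
    rw [← Finset.add_sum_erase _ _ hmem, if_pos rfl]
    have : ∀ t ∈ (Finset.univ.erase (0 : F)).erase t₁, (if t = t₁ then 2 else 1 : ℕ) = 1 := by
      intro t ht
      rw [if_neg (Finset.ne_of_mem_erase ht)]
    rw [Finset.sum_congr rfl this, Finset.sum_const, Finset.card_erase_of_mem hmem,
      Finset.card_erase_of_mem (Finset.mem_univ _), Finset.card_univ, smul_eq_mul, mul_one]
    have : 2 ≤ Fintype.card F := Fintype.one_lt_card
    omega
  have h5 : ∑ t ∈ Finset.univ.erase (0 : F), rootCount t ≤ ∑ t : F, rootCount t :=
    Finset.sum_le_sum_of_subset (Finset.erase_subset _ _)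
  have : 1 ≤ Fintype.card F := Fintype.card_pos
  omega

end Cfsg.Agent.Helper12
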