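import Mathlib
import Cfsg.Agent.Helper12.SL2TraceCount
import Cfsg.Agent.Helper12.SL2OrderFour
import Cfsg.Agent.Helper12.SL2Conj
import Cfsg.Agent.Helper24.Classes

set_option autoImplicit false

namespace Cfsg.Agent.Helper12

variable {F : Type*} [Field F]

local notation "S2" => Matrix.SpecialLinearGroup (Fin 2) F
local notation "M2" => Matrix (Fin 2) (Fin 2) F
local notation "P2" => Matrix.ProjectiveSpecialLinearGroup (Fin 2) F

/-- The projection `SL₂ → PSL₂`. -/
abbrev piS (F : Type*) [Field F] :
    Matrix.SpecialLinearGroup (Fin 2) F →* Matrix.ProjectiveSpecialLinearGroup (Fin 2) F :=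
  QuotientGroup.mk' (Subgroup.center (Matrix.SpecialLinearGroup (Fin 2) F))

theorem piS_surjective : Function.Surjective (piS F) := QuotientGroup.mk'_surjective _

/-- The preimage of the centraliser of the image of `g` in `PSL₂` consists of the elements
commuting or anticommuting with `g`. -/
theorem comap_centralizer_psl2 (g : S2) :
    (Subgroup.centralizer ({piS F g} : Set P2)).comap (piS F) = normA (g : M2) := by
  ext h
  rw [Subgroup.mem_comap, Subgroup.mem_centralizer_iff, mem_normA]
  simp only [Set.mem_singleton_iff, forall_eq]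
  rw [← map_mul, ← map_mul]
  show ((g * h : S2) : P2) = ((h * g : S2) : P2) ↔ _
  rw [QuotientGroup.eq]
  constructor
  · intro hc
    rcases sl2_center_eq _ hc with h1 | h1
    · left
      have : h * g = g * h := by
        have := congrArg (fun z => (g * h) * z) h1
        simpa [mul_assoc] using this
      rw [← Matrix.SpecialLinearGroup.coe_mul, this, Matrix.SpecialLinearGroup.coe_mul]
    · right
      have : h * g = -(g * h) := by
        have := congrArg (fun z => (g * h) * z) h1
        simpa [mul_assoc] using this
      rw [← Matrix.SpecialLinearGroup.coe_mul, this, Matrix.SpecialLinearGroup.coe_neg,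
        Matrix.SpecialLinearGroup.coe_mul]
  · rintro (h1 | h1)
    · have : h * g = g * h := by
        apply Subtype.ext
        rw [Matrix.SpecialLinearGroup.coe_mul, Matrix.SpecialLinearGroup.coe_mul, h1]
      rw [this, inv_mul_cancel]
      exact Subgroup.one_mem _
    · have : h * g = -(g * h) := by
        apply Subtype.ext
        rw [Matrix.SpecialLinearGroup.coe_neg, Matrix.SpecialLinearGroup.coe_mul,
          Matrix.SpecialLinearGroup.coe_mul, h1]
      rw [this, mul_neg, inv_mul_cancel]
      exact sl2_neg_one_mem_center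

theorem index_centralizer_psl2 (g : S2) :
    (Subgroup.centralizer ({piS F g} : Set P2)).index = (normA (g : M2)).index := by
  rw [← comap_centralizer_psl2, Subgroup.index_comap_of_surjective _ piS_surjective]

theorem torusA_coe_eq_centralizer (g : S2) :
    torusA (g : M2) = Subgroup.centralizer ({g} : Set S2) := by
  ext h
  rw [mem_torusA, Subgroup.mem_centralizer_iff]
  simp only [Set.mem_singleton_iff, forall_eq]
  constructor
  · intro h1
    apply Subtype.ext
    rw [Matrix.SpecialLinearGroup.coe_mul, Matrix.SpecialLinearGroup.coe_mul, h1]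
  · intro h1
    rw [← Matrix.SpecialLinearGroup.coe_mul, ← Matrix.SpecialLinearGroup.coe_mul, h1]

theorem normA_eq_torusA_of_char_two [CharP F 2] (A : M2) : normA A = torusA A := by
  ext h
  rw [mem_normA, mem_torusA]
  constructor
  · rintro (h1 | h1)
    · exact h1
    · rw [h1]
      ext i j
      rw [Matrix.neg_apply, CharTwo.neg_eq]
  · exact Or.inl

theorem normA_eq_torusA_of_trace_ne (h2 : (2 : F) ≠ 0) (g : S2) (ht : (g : M2).trace ≠ 0) :
    normA (g : M2) = torusA (g : M2) := by
  ext h
  rw [mem_normA, mem_torusA]
  constructor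
  · rintro (h1 | h1)
    · exact h1
    · exfalso
      apply ht
      have e1 : ((h : M2) * (g : M2)).trace = -((g : M2) * (h : M2)).trace := by
        rw [h1, Matrix.trace_neg]
      rw [Matrix.trace_mul_comm] at e1
      -- now tr(g h) = - tr(g h); need tr g = 0: use conjugation instead
      have e2 : (g : M2) = -((h : M2) * (g : M2) * ((h⁻¹ : S2) : M2)) := by
        rw [h1, Matrix.neg_mul, neg_neg, Matrix.mul_assoc, sl2_coe_mul_inv, Matrix.mul_one]
      have e3 : (g : M2).trace = -(g : M2).trace := by
        nth_rewrite 1 [e2]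
        rw [Matrix.trace_neg, Matrix.trace_mul_comm, ← Matrix.mul_assoc, sl2_coe_inv_mul,
          Matrix.one_mul]
      have : (2 : F) * (g : M2).trace = 0 := by linear_combination e3
      exact (mul_eq_zero.1 this).resolve_left h2
  · exact Or.inl

/-- Scalar elements of `SL₂` have trace `±2`. -/
theorem trace_sq_of_scalar (x : S2) (hx : IsScalar2 (x : M2)) : (x : M2).trace ^ 2 = 4 := by
  have hdet := x.2
  rw [Matrix.det_fin_two, hx.1, ← hx.2.2] at hdet
  rw [Matrix.trace_fin_two, ← hx.2.2]
  linear_combination 4 * hdet

theorem trace_conj (c g : S2) : ((c * g * c⁻¹ : S2) : M2).trace = (g : M2).trace := by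
  rw [Matrix.SpecialLinearGroup.coe_mul, Matrix.SpecialLinearGroup.coe_mul,
    Matrix.trace_mul_comm, ← Matrix.mul_assoc, sl2_coe_inv_mul, Matrix.one_mul]

/-- Regular semisimple classes are trace fibres. -/
theorem isConj_iff_trace_eq [Fintype F] (g x : S2) (ht : (g : M2).trace ^ 2 ≠ 4) :
    IsConj g x ↔ (x : M2).trace = (g : M2).trace := by
  constructor
  · intro h
    obtain ⟨c, hc⟩ := isConj_iff.1 h
    rw [← hc, trace_conj]
  · intro h
    have hg : ¬ IsScalar2 (g : M2) := fun hs => ht (trace_sq_of_scalar g hs)
    have hx : ¬ IsScalar2 (x : M2) := fun hs => ht (by rw [← h]; exact trace_sq_of_scalar x hs)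
    exact sl2_isConj_of_trace_eq g x hg hx h.symm (Or.inr ht)

/-- The size of a regular semisimple class of `SL₂(q)`. -/
theorem card_conj_of_trace_sq_ne [Fintype F] [DecidableEq F] (g : S2)
    (ht : (g : M2).trace ^ 2 ≠ 4) :
    Nat.card {x : S2 // IsConj g x} =
      Fintype.card F * (Fintype.card F - 1) + Fintype.card F * rootCount (g : M2).trace := by
  rw [← card_trace_fiber]
  exact Nat.card_congr (Equiv.subtypeEquivRight (fun x => isConj_iff_trace_eq g x ht))

/-- An element of `SL₂` with prescribed trace. -/
def compS (t : F) : S2 := ⟨comp2 t 1, comp2_det t 1⟩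

theorem compS_trace (t : F) : ((compS t : S2) : M2).trace = t := comp2_trace t 1

theorem compS_not_scalar (t : F) : ¬ IsScalar2 ((compS t : S2) : M2) := by
  rintro ⟨-, h2, -⟩
  simp [compS, comp2] at h2

end Cfsg.Agent.Helper12
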