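import Mathlib
import Cfsg.Agent.Helper12.KleinCountA
import Cfsg.Agent.Helper12.PSL2ClassSize
import Cfsg.Agent.Helper12.SL2SylowTwo
import Cfsg.Agent.Helper3.KleinFour

set_option autoImplicit false

namespace Cfsg.Agent.Helper12

open Cfsg

variable {F : Type*} [Field F]

local notation "S2" => Matrix.SpecialLinearGroup (Fin 2) F
local notation "M2" => Matrix (Fin 2) (Fin 2) F
local notation "P2" => Matrix.ProjectiveSpecialLinearGroup (Fin 2) F

theorem piS_neg_one : piS F (-1) = 1 := by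
  show ((-1 : S2) : P2) = 1
  rw [QuotientGroup.eq_one_iff]
  exact sl2_neg_one_mem_center

theorem piS_neg (x : S2) : piS F (-x) = piS F x := by
  have : -x = (-1) * x := by rw [neg_one_mul]
  rw [this, map_mul, piS_neg_one, one_mul]

theorem piS_eq_one_iff (x : S2) : piS F x = 1 ↔ x = 1 ∨ x = -1 := by
  constructor
  · intro h
    have h' : ((x : S2) : P2) = 1 := h
    rw [QuotientGroup.eq_one_iff] at h'
    exact sl2_center_eq x h'
  · rintro (rfl | rfl)
    · exact map_one _
    · exact piS_neg_one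

theorem piS_eq_iff (x y : S2) : piS F x = piS F y ↔ y = x ∨ y = -x := by
  constructor
  · intro h
    have h1 : piS F (x⁻¹ * y) = 1 := by rw [map_mul, map_inv, h, inv_mul_cancel]
    rcases (piS_eq_one_iff _).1 h1 with h2 | h2
    · left
      have := congrArg (fun z => x * z) h2
      simpa using this
    · right
      have := congrArg (fun z => x * z) h2
      simpa using this
  · rintro (rfl | rfl)
    · rfl
    · rw [piS_neg]

/-- The anticommutation relation of two elements of `SL₂`. -/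
def AntiC (a b : S2) : Prop := (b : M2) * (a : M2) = -((a : M2) * (b : M2))

theorem antiC_iff_mul (a b : S2) : AntiC a b ↔ b * a = -(a * b) := by
  unfold AntiC
  constructor
  · intro h
    apply Subtype.ext
    rw [Matrix.SpecialLinearGroup.coe_neg, Matrix.SpecialLinearGroup.coe_mul,
      Matrix.SpecialLinearGroup.coe_mul, h]
  · intro h
    rw [← Matrix.SpecialLinearGroup.coe_mul, h, Matrix.SpecialLinearGroup.coe_neg,
      Matrix.SpecialLinearGroup.coe_mul]

/-- Every element of square `-1` has an anticommuting partner. -/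
theorem exists_anticomm_of_sq [Fintype F] (h2 : (2 : F) ≠ 0) (a : S2) (ha : a * a = -1) :
    ∃ w : S2, (w : M2) * (a : M2) = -((a : M2) * (w : M2)) := by
  have hε0 : (-1 : F) ≠ 0 := neg_ne_zero.2 one_ne_zero
  have hgen := nsGen_isTorusGen h2 hε0
  set d₀ : S2 := nsElt (-1) 0 1 (by ring) with hd₀
  have hd₀m : (d₀ : M2) = nsGen (-1) := by
    ext k l
    fin_cases k <;> fin_cases l <;> simp [hd₀, nsElt, nsGen]
  have hd₀sq : d₀ * d₀ = -1 := by
    apply Subtype.ext
    rw [Matrix.SpecialLinearGroup.coe_mul, sl2_neg_one_coe, hd₀m, hgen.sq]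
    simp
  obtain ⟨g, hg⟩ := isConj_iff.1 (isConj_of_sq_eq_neg_one h2 d₀ a hd₀sq ha)
  have haM : (a : M2) = conjGen g (nsGen (-1)) := by
    rw [← hg, coe_conj_eq_conjGen, hd₀m]
  rw [haM]
  exact exists_anticomm_conjGen g (exists_anticomm_nsGen h2 hε0)

theorem exists_sq_eq_neg_one : ∃ a : S2, a * a = -1 := by
  refine ⟨nsElt (-1) 0 1 (by ring), ?_⟩
  apply Subtype.ext
  rw [Matrix.SpecialLinearGroup.coe_mul, sl2_neg_one_coe]
  ext k l
  fin_cases k <;> fin_cases l <;> simp [nsElt, Matrix.mul_apply, Fin.sum_univ_two]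

/-- The elements anticommuting with an element of square `-1` are as many as its
centraliser. -/
theorem card_antiC [Fintype F] (h2 : (2 : F) ≠ 0) (a : S2) (ha : a * a = -1) :
    Nat.card {b : S2 // AntiC a b} = Nat.card (Subgroup.centralizer ({a} : Set S2)) := by
  have hA := isTorusGen_of_sq h2 a ha
  obtain ⟨w, hw⟩ := exists_anticomm_of_sq h2 a ha
  have hwN : w ∈ normA (a : M2) := Or.inr hw
  have hwT : w ∉ torusA (a : M2) := fun h => hA.not_comm_and_anticomm w h hw
  have hwinv : w⁻¹ ∈ normA (a : M2) := (normA (a : M2)).inv_mem hwN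
  have hwinvT : w⁻¹ ∉ torusA (a : M2) := fun h => hwT (by simpa using (torusA (a : M2)).inv_mem h)
  rw [← torusA_coe_eq_centralizer]
  apply Nat.card_congr
  refine ⟨fun b => ⟨b.1 * w, ?_⟩, fun t => ⟨t.1 * w⁻¹, ?_⟩, ?_, ?_⟩
  · have hb : (b.1 : M2) * (a : M2) = -((a : M2) * (b.1 : M2)) := b.2
    exact hA.mul_mem_torusA_of_not_mem (Or.inr hb)
      hwN (fun h => hA.not_comm_and_anticomm b.1 h hb) hwT
  · have h1 : t.1 * w⁻¹ ∈ normA (a : M2) :=
      (normA (a : M2)).mul_mem (torusA_le_normA _ t.2) hwinv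
    rcases h1 with h1 | h1
    · exfalso
      apply hwinvT
      have h3 : w⁻¹ = t.1⁻¹ * (t.1 * w⁻¹) := by group
      rw [h3]
      exact (torusA (a : M2)).mul_mem ((torusA (a : M2)).inv_mem t.2) h1
    · exact h1
  · intro b
    apply Subtype.ext
    show b.1 * w * w⁻¹ = b.1
    group
  · intro t
    apply Subtype.ext
    show t.1 * w⁻¹ * w = t.1
    group

/-- The pairs `(a, b)` with `a² = -1` and `b` anticommuting with `a`. -/
def KleinPair (p : S2 × S2) : Prop := p.1 * p.1 = -1 ∧ AntiC p.1 p.2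

/-- There are `|SL₂(q)|` such pairs. -/
theorem card_kleinPair [Fintype F] (h2 : (2 : F) ≠ 0) :
    Nat.card {p : S2 × S2 // KleinPair p} = Nat.card S2 := by
  classical
  obtain ⟨a₀, ha₀⟩ := exists_sq_eq_neg_one (F := F)
  have e : {p : S2 × S2 // KleinPair p} ≃ Σ a : {a : S2 // a * a = -1}, {b : S2 // AntiC a.1 b} :=
    { toFun := fun x => ⟨⟨x.1.1, x.2.1⟩, ⟨x.1.2, x.2.2⟩⟩
      invFun := fun y => ⟨(y.1.1, y.2.1), y.1.2, y.2.2⟩
      left_inv := fun x => rfl
      right_inv := fun y => rfl }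
  rw [Nat.card_congr e, Nat.card_sigma]
  have hconst : ∀ a : {a : S2 // a * a = -1}, Nat.card {b : S2 // AntiC a.1 b} =
      Nat.card (Subgroup.centralizer ({a₀} : Set S2)) := by
    intro a
    rw [card_antiC h2 a.1 a.2]
    exact Cfsg.Agent.Helper24.card_centralizer_eq_of_isConj
      (isConj_of_sq_eq_neg_one h2 a.1 a₀ a.2 ha₀)
  rw [Finset.sum_congr rfl (fun a _ => hconst a), Finset.sum_const, Finset.card_univ,
    smul_eq_mul, ← Nat.card_eq_fintype_card]
  have hI : Nat.card {a : S2 // a * a = -1} = Nat.card {x : S2 // IsConj a₀ x} := by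
    apply Nat.card_congr
    apply Equiv.subtypeEquivRight
    intro x
    constructor
    · intro hx
      exact isConj_of_sq_eq_neg_one h2 a₀ x ha₀ hx
    · intro hx
      obtain ⟨g, hg⟩ := isConj_iff.1 hx
      rw [← hg]
      calc g * a₀ * g⁻¹ * (g * a₀ * g⁻¹) = g * (a₀ * a₀) * g⁻¹ := by group
        _ = -1 := by rw [ha₀, mul_neg_one, neg_mul, mul_inv_cancel]
  rw [hI]
  exact Cfsg.Agent.Helper24.card_conj_mul_card_centralizer a₀

end Cfsg.Agent.Helper12
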