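import Mathlib
import Cfsg.Agent.Helper12.KleinCountB
import Cfsg.Agent.Helper2.SLCard

set_option autoImplicit false

namespace Cfsg.Agent.Helper12

open Cfsg Cfsg.Agent.Helper3

variable {F : Type*} [Field F]

local notation "S2" => Matrix.SpecialLinearGroup (Fin 2) F
local notation "M2" => Matrix (Fin 2) (Fin 2) F
local notation "P2" => Matrix.ProjectiveSpecialLinearGroup (Fin 2) F

/-- The image in `PSL₂` of a Klein pair consists of two distinct commuting involutions. -/
theorem kleinPair_image (h2 : (2 : F) ≠ 0) {p : S2 × S2} (hp : KleinPair p) :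
    piS F p.1 * piS F p.1 = 1 ∧ piS F p.2 * piS F p.2 = 1 ∧
      piS F p.1 * piS F p.2 = piS F p.2 * piS F p.1 ∧ piS F p.1 ≠ 1 ∧ piS F p.2 ≠ 1 ∧
      piS F p.1 ≠ piS F p.2 := by
  obtain ⟨ha, hb⟩ := hp
  have hA := isTorusGen_of_sq h2 p.1 ha
  have hb' : (p.2 : M2) * (p.1 : M2) = -((p.1 : M2) * (p.2 : M2)) := hb
  have hbb : p.2 * p.2 = -1 := by
    apply Subtype.ext
    rw [hA.sq_of_anticomm hb', sl2_neg_one_coe]
  have hne := sl2_one_ne_neg_one h2
  have hmul := (antiC_iff_mul _ _).1 hb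
  refine ⟨?_, ?_, ?_, ?_, ?_, ?_⟩
  · rw [← map_mul, ha, piS_neg_one]
  · rw [← map_mul, hbb, piS_neg_one]
  · rw [← map_mul, ← map_mul, hmul, piS_neg]
  · intro h
    rcases (piS_eq_one_iff _).1 h with h1 | h1
    · rw [h1, one_mul] at ha; exact hne ha
    · rw [h1, sl2_neg_one_mul_self] at ha; exact hne ha
  · intro h
    rcases (piS_eq_one_iff _).1 h with h1 | h1
    · rw [h1, one_mul] at hbb; exact hne hbb
    · rw [h1, sl2_neg_one_mul_self] at hbb; exact hne hbb
  · intro h
    have hcomm : (p.2 : M2) * (p.1 : M2) = (p.1 : M2) * (p.2 : M2) := by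
      rcases (piS_eq_iff _ _).1 h with h1 | h1
      · rw [h1]
      · rw [h1, Matrix.SpecialLinearGroup.coe_neg, Matrix.neg_mul, Matrix.mul_neg]
    exact hA.not_comm_and_anticomm p.2 hcomm hb'

/-- The Klein four-subgroup of `PSL₂` attached to a Klein pair. -/
noncomputable def kleinOfPair (h2 : (2 : F) ≠ 0) (x : {p : S2 × S2 // KleinPair p}) :
    {V : Subgroup P2 // IsKleinFour V} :=
  ⟨kleinOf (piS F x.1.1) (piS F x.1.2) (kleinPair_image h2 x.2).1 (kleinPair_image h2 x.2).2.1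
      (kleinPair_image h2 x.2).2.2.1,
    isKleinFour_kleinOf (kleinPair_image h2 x.2).2.2.2.1 (kleinPair_image h2 x.2).2.2.2.2.1
      (kleinPair_image h2 x.2).2.2.2.2.2⟩

/-- The pairs lying over a given Klein four-subgroup. -/
def OverKlein (V : Subgroup P2) (p : S2 × S2) : Prop :=
  piS F p.1 ∈ V ∧ piS F p.2 ∈ V ∧ piS F p.1 ≠ 1 ∧ piS F p.2 ≠ 1 ∧ piS F p.1 ≠ piS F p.2

theorem kleinPair_of_overKlein (h2 : (2 : F) ≠ 0) (V : Subgroup P2) (hV : IsKleinFour V)
    {p : S2 × S2} (hp : OverKlein V p) : KleinPair p := by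
  obtain ⟨h1, h2', h3, h4, h5⟩ := hp
  have hsq : ∀ a : S2, piS F a ∈ V → piS F a ≠ 1 → a * a = -1 := by
    intro a haV ha1
    have hs : (⟨piS F a, haV⟩ : V) * ⟨piS F a, haV⟩ = 1 := IsKleinFour.mul_self _
    have hs' : piS F (a * a) = 1 := by
      rw [map_mul]
      exact congrArg Subtype.val hs
    rcases (piS_eq_one_iff _).1 hs' with h | h
    · exfalso
      apply ha1
      rcases sl2_eq_of_sq_eq_one h2 a h with h' | h'
      · rw [h', map_one]
      · rw [h', piS_neg_one]
    · exact h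
  have ha := hsq p.1 h1 h3
  have hb := hsq p.2 h2' h4
  refine ⟨ha, ?_⟩
  have hA := isTorusGen_of_sq h2 p.1 ha
  have hcomm : (⟨piS F p.1, h1⟩ : V) * ⟨piS F p.2, h2'⟩ = ⟨piS F p.2, h2'⟩ * ⟨piS F p.1, h1⟩ := by
    have : IsMulCommutative V := IsKleinFour.isMulCommutative
    exact mul_comm' _ _
  have hcomm' : piS F (p.1 * p.2) = piS F (p.2 * p.1) := by
    rw [map_mul, map_mul]
    exact congrArg Subtype.val hcomm
  rcases (piS_eq_iff _ _).1 hcomm' with h | h
  · exfalso
    have hbT : p.2 ∈ torusA (p.1 : M2) := by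
      rw [mem_torusA, ← Matrix.SpecialLinearGroup.coe_mul, ← Matrix.SpecialLinearGroup.coe_mul, h]
    have haT : p.1 ∈ torusA (p.1 : M2) := rfl
    rcases hA.eq_or_eq_neg_of_sq haT hbT ha hb with h' | h'
    · exact h5 (by rw [h'])
    · exact h5 (by rw [h', piS_neg])
  · exact (antiC_iff_mul _ _).2 h

/-- The fibre of `kleinOfPair` over a Klein four-subgroup. -/
theorem card_fiber_kleinOfPair [Fintype F] (h2 : (2 : F) ≠ 0)
    (V : {V : Subgroup P2 // IsKleinFour V}) :
    Nat.card {x : {p : S2 × S2 // KleinPair p} // kleinOfPair h2 x = V} = 24 := by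
  classical
  have hV4 : Nat.card V.1 = 4 := V.2.card_four
  have e : {x : {p : S2 × S2 // KleinPair p} // kleinOfPair h2 x = V} ≃
      {p : S2 × S2 // OverKlein V.1 p} :=
    { toFun := fun x => ⟨x.1.1, by
        have hx := congrArg Subtype.val x.2
        have himg := kleinPair_image h2 x.1.2
        refine ⟨?_, ?_, himg.2.2.2.1, himg.2.2.2.2.1, himg.2.2.2.2.2⟩
        · rw [← hx]
          change piS F x.1.1.1 ∈ kleinOf (piS F x.1.1.1) (piS F x.1.1.2) himg.1 himg.2.1 himg.2.2.1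
          exact left_mem_kleinOf
        · rw [← hx]
          change piS F x.1.1.2 ∈ kleinOf (piS F x.1.1.1) (piS F x.1.1.2) himg.1 himg.2.1 himg.2.2.1
          exact right_mem_kleinOf⟩
      invFun := fun y => ⟨⟨y.1, kleinPair_of_overKlein h2 V.1 V.2 y.2⟩, by
        apply Subtype.ext
        have hle : kleinOf (piS F y.1.1) (piS F y.1.2)
            (kleinPair_image h2 (kleinPair_of_overKlein h2 V.1 V.2 y.2)).1
            (kleinPair_image h2 (kleinPair_of_overKlein h2 V.1 V.2 y.2)).2.1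
            (kleinPair_image h2 (kleinPair_of_overKlein h2 V.1 V.2 y.2)).2.2.1 ≤ V.1 :=
          kleinOf_le y.2.1 y.2.2.1
        have : Finite V.1 := Nat.finite_of_card_ne_zero (by omega)
        apply Subgroup.eq_of_le_of_card_ge hle
        rw [hV4]
        exact (card_kleinOf y.2.2.2.1 y.2.2.2.2.1 y.2.2.2.2.2).ge⟩
      left_inv := fun x => rfl
      right_inv := fun y => rfl }
  rw [Nat.card_congr e]
  have hsurj : Function.Surjective ((piS F).prodMap (piS F)) :=
    Prod.map_surjective.2 ⟨piS_surjective, piS_surjective⟩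
  have hpre := card_preimage_hom ((piS F).prodMap (piS F)) hsurj
    {d : P2 × P2 | d.1 ∈ V.1 ∧ d.2 ∈ V.1 ∧ d.1 ≠ 1 ∧ d.2 ≠ 1 ∧ d.1 ≠ d.2}
  have hD := card_distinct_pairs V.1 hV4
  have hker : Nat.card ((piS F).prodMap (piS F)).ker = 4 := by
    rw [MonoidHom.ker_prodMap, Nat.card_congr (Subgroup.prodEquiv _ _).toEquiv, Nat.card_prod,
      QuotientGroup.ker_mk', Cfsg.Agent.Helper2.card_center_SL 2 (by norm_num),
      Cfsg.Agent.Helper2.card_units_field]
    have hodd : Fintype.card F % 2 = 1 := by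
      apply FiniteField.odd_card_of_char_ne_two
      intro h
      apply h2
      have : CharP F 2 := ringChar.of_eq h
      exact CharTwo.two_eq_zero
    have h1 : 1 < Fintype.card F := Fintype.one_lt_card
    have hg : Nat.gcd 2 (Fintype.card F - 1) = 2 := by
      apply Nat.gcd_eq_left
      omega
    rw [hg]
  have hset : {x : S2 × S2 // ((piS F).prodMap (piS F)) x ∈
      {d : P2 × P2 | d.1 ∈ V.1 ∧ d.2 ∈ V.1 ∧ d.1 ≠ 1 ∧ d.2 ≠ 1 ∧ d.1 ≠ d.2}} =
      {p : S2 × S2 // OverKlein V.1 p} := rfl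
  rw [← hset, hpre, hker]
  have hD' : Nat.card ↥{d : P2 × P2 | d.1 ∈ V.1 ∧ d.2 ∈ V.1 ∧ d.1 ≠ 1 ∧ d.2 ≠ 1 ∧ d.1 ≠ d.2} = 6 :=
    hD
  rw [hD']

/-- Twenty-four times the number of Klein four-subgroups of `PSL₂(q)` is `|SL₂(q)|`. -/
theorem card_klein_mul [Fintype F] (h2 : (2 : F) ≠ 0) :
    24 * Nat.card {V : Subgroup P2 // IsKleinFour V} = Nat.card S2 := by
  classical
  rw [← card_kleinPair h2, ← Nat.card_congr (Equiv.sigmaFiberEquiv (kleinOfPair h2)),
    Nat.card_sigma]
  rw [Finset.sum_congr rfl (fun V _ => card_fiber_kleinOfPair h2 V), Finset.sum_const,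
    Finset.card_univ, smul_eq_mul, ← Nat.card_eq_fintype_card, mul_comm]

/-- Twelve times the number of Klein four-subgroups of `PSL₂(q)`, `q` odd, is `|PSL₂(q)|`. -/
theorem card_klein_psl2 [Fintype F] (h2 : (2 : F) ≠ 0) :
    12 * Nat.card {V : Subgroup P2 // IsKleinFour V} = Nat.card P2 := by
  have h1 := card_klein_mul h2
  have h3 := Subgroup.card_mul_index (Subgroup.center S2)
  have h4 : Nat.card (Subgroup.center S2) = 2 := by
    rw [Cfsg.Agent.Helper2.card_center_SL 2 (by norm_num), Cfsg.Agent.Helper2.card_units_field]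
    have hodd : Fintype.card F % 2 = 1 := by
      apply FiniteField.odd_card_of_char_ne_two
      intro h
      apply h2
      have : CharP F 2 := ringChar.of_eq h
      exact CharTwo.two_eq_zero
    have h1 : 1 < Fintype.card F := Fintype.one_lt_card
    apply Nat.gcd_eq_left
    omega
  have h5 : Nat.card P2 = (Subgroup.center S2).index := rfl
  rw [h4, ← h5] at h3
  omega

end Cfsg.Agent.Helper12
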