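import Mathlib
import Cfsg.Agent.Helper12.KleinCountC

set_option autoImplicit false

namespace Cfsg.Agent.Helper12

open Cfsg Cfsg.Agent.Helper3
open scoped Pointwise

/-- An element conjugating a finite subgroup into itself normalises it. -/
theorem mem_normalizer_of_forall_conj_mem {G : Type*} [Group G] (H : Subgroup G) [Finite H]
    (g : G) (h : ∀ x ∈ H, g * x * g⁻¹ ∈ H) : g ∈ Subgroup.normalizer (H : Set G) := by
  rw [Subgroup.mem_normalizer_iff]
  intro x
  constructor
  · exact h x
  · intro hx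
    have hinj : Function.Injective (fun y : H => (⟨g * y.1 * g⁻¹, h y.1 y.2⟩ : H)) := by
      intro y z hyz
      apply Subtype.ext
      have := congrArg Subtype.val hyz
      simpa using this
    obtain ⟨y, hy⟩ := (Finite.injective_iff_surjective.1 hinj) ⟨g * x * g⁻¹, hx⟩
    have h1 : g * y.1 * g⁻¹ = g * x * g⁻¹ := congrArg Subtype.val hy
    have h2 : y.1 = x := by simpa using h1
    rw [← h2]
    exact y.2

theorem map_conj_eq_smul {G : Type*} [Group G] (V : Subgroup G) (g : G) :
    V.map (MulAut.conj g).toMonoidHom = MulAut.conj g • V := rfl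

variable {F : Type*} [Field F]

local notation "S2" => Matrix.SpecialLinearGroup (Fin 2) F
local notation "M2" => Matrix (Fin 2) (Fin 2) F
local notation "P2" => Matrix.ProjectiveSpecialLinearGroup (Fin 2) F

/-- Every Klein four-subgroup of `PSL₂(q)`, `q` odd, comes from a Klein pair. -/
theorem exists_kleinPair_of_isKleinFour (h2 : (2 : F) ≠ 0) (V : Subgroup P2)
    (hV : IsKleinFour V) :
    ∃ a b : S2, KleinPair (a, b) ∧ OverKlein V (a, b) ∧
      ∀ x : P2, x ∈ V ↔ x = 1 ∨ x = piS F a ∨ x = piS F b ∨ x = piS F a * piS F b := by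
  classical
  have hV4 : Nat.card V = 4 := hV.card_four
  have hfin : Finite V := Nat.finite_of_card_ne_zero (by omega)
  have hft : Fintype V := Fintype.ofFinite V
  have hc : Fintype.card V = 4 := by rw [← Nat.card_eq_fintype_card, hV4]
  obtain ⟨s, hs⟩ : ∃ s : V, s ≠ 1 := by
    by_contra hno
    push Not at hno
    have : Fintype.card V ≤ 1 := Fintype.card_le_one_iff.2 (fun x y => by rw [hno x, hno y])
    omega
  obtain ⟨t, ht1, hts⟩ : ∃ t : V, t ≠ 1 ∧ t ≠ s := by
    by_contra hno
    push Not at hno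
    have hsub : (Finset.univ : Finset V) ⊆ {1, s} := by
      intro x _
      by_cases hx : x = 1
      · rw [hx]; exact Finset.mem_insert_self _ _
      · rw [hno x hx]; exact Finset.mem_insert_of_mem (Finset.mem_singleton_self _)
    have := Finset.card_le_card hsub
    rw [Finset.card_univ, hc] at this
    have h2' : ({1, s} : Finset V).card ≤ 2 := Finset.card_le_two
    omega
  obtain ⟨a, ha⟩ := piS_surjective (F := F) s.1
  obtain ⟨b, hb⟩ := piS_surjective (F := F) t.1
  have hs1 : piS F a ≠ 1 := by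
    rw [ha]; intro h; exact hs (Subtype.ext h)
  have ht1' : piS F b ≠ 1 := by
    rw [hb]; intro h; exact ht1 (Subtype.ext h)
  have hne : piS F a ≠ piS F b := by
    rw [ha, hb]; intro h; exact hts (Subtype.ext h.symm)
  have hO : OverKlein V (a, b) := ⟨by rw [ha]; exact s.2, by rw [hb]; exact t.2, hs1, ht1', hne⟩
  have hKP := kleinPair_of_overKlein h2 V hV hO
  have himg := kleinPair_image h2 hKP
  refine ⟨a, b, hKP, hO, ?_⟩
  have hle : kleinOf (piS F a) (piS F b) himg.1 himg.2.1 himg.2.2.1 ≤ V :=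
    kleinOf_le hO.1 hO.2.1
  have heq : kleinOf (piS F a) (piS F b) himg.1 himg.2.1 himg.2.2.1 = V := by
    apply Subgroup.eq_of_le_of_card_ge hle
    rw [hV4]
    exact (card_kleinOf himg.2.2.2.1 himg.2.2.2.2.1 himg.2.2.2.2.2).ge
  intro x
  rw [← heq]
  exact mem_kleinOf

/-- An element of `SL₂` commuting with both members of a Klein pair is `±1`. -/
theorem eq_one_or_neg_one_of_comm_kleinPair (h2 : (2 : F) ≠ 0) {a b n : S2}
    (hp : KleinPair (a, b)) (hna : n * a = a * n) (hnb : n * b = b * n) : n = 1 ∨ n = -1 := by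
  obtain ⟨ha, hb⟩ := hp
  have hA := isTorusGen_of_sq h2 a ha
  have hb' : (b : M2) * (a : M2) = -((a : M2) * (b : M2)) := hb
  have hnT : n ∈ torusA (a : M2) := by
    rw [mem_torusA, ← Matrix.SpecialLinearGroup.coe_mul, ← Matrix.SpecialLinearGroup.coe_mul, hna]
  have hinv := hA.conj_eq_inv hb' hnT
  have h1 : b * n * b⁻¹ = n := by rw [← hnb]; group
  rw [h1] at hinv
  have h3 : n * n = 1 := by
    nth_rewrite 1 [hinv]
    exact inv_mul_cancel n
  exact sl2_eq_of_sq_eq_one h2 n h3

end Cfsg.Agent.Helper12
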