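import Mathlib
import Cfsg.Agent.Helper12.KleinClassA
import Cfsg.Agent.Helper12.SL2SylowTwoB

set_option autoImplicit false

namespace Cfsg.Agent.Helper12

open Cfsg Cfsg.Agent.Helper3
open scoped Pointwise

variable {F : Type*} [Field F]

local notation "S2" => Matrix.SpecialLinearGroup (Fin 2) F
local notation "M2" => Matrix (Fin 2) (Fin 2) F
local notation "P2" => Matrix.ProjectiveSpecialLinearGroup (Fin 2) F

/-- The centraliser in `PSL₂` of the two generators of a Klein four-subgroup is the
subgroup itself. -/
theorem mem_klein_of_commute (h2 : (2 : F) ≠ 0) {a b : S2} (hp : KleinPair (a, b)) (x : P2)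
    (hxa : x * piS F a = piS F a * x) (hxb : x * piS F b = piS F b * x) :
    x = 1 ∨ x = piS F a ∨ x = piS F b ∨ x = piS F a * piS F b := by
  obtain ⟨n, rfl⟩ := piS_surjective (F := F) x
  have himg := kleinPair_image h2 hp
  have hab : b * a = -(a * b) := (antiC_iff_mul a b).1 hp.2
  rw [← map_mul, ← map_mul, piS_eq_iff] at hxa hxb
  have key : ∀ m : S2, m * a = a * m → m * b = b * m → piS F m = 1 := by
    intro m h1 h3
    rcases eq_one_or_neg_one_of_comm_kleinPair h2 hp h1 h3 with h | h
    · rw [h, map_one]
    · rw [h, piS_neg_one]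
  rcases hxa with ha | ha <;> rcases hxb with hb | hb
  · left
    exact key n ha.symm hb.symm
  · -- commutes with a, anticommutes with b: n * a central
    right; left
    have h1 : (n * a) * a = a * (n * a) := by rw [← mul_assoc a, ha]
    have h3 : (n * a) * b = b * (n * a) := by
      rw [← mul_assoc b, hb, neg_mul, mul_assoc n b a, hab, mul_neg, neg_neg, mul_assoc]
    have := key _ h1 h3
    rw [map_mul] at this
    have h4 : piS F n = (piS F a)⁻¹ := eq_inv_of_mul_eq_one_left this
    rw [h4, inv_eq_of_mul_eq_one_left himg.1]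
  · right; right; left
    have h1 : (n * b) * a = a * (n * b) := by
      rw [← mul_assoc a, ha, neg_mul, mul_assoc n b a, hab, mul_neg, mul_assoc]
    have h3 : (n * b) * b = b * (n * b) := by rw [← mul_assoc b, hb]
    have := key _ h1 h3
    rw [map_mul] at this
    have h4 : piS F n = (piS F b)⁻¹ := eq_inv_of_mul_eq_one_left this
    rw [h4, inv_eq_of_mul_eq_one_left himg.2.1]
  · right; right; right
    have h1 : (n * (a * b)) * a = a * (n * (a * b)) := by
      rw [← mul_assoc a, ha, neg_mul, mul_assoc n (a * b) a, mul_assoc a b a, hab, mul_neg,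
        mul_neg, ← mul_assoc a a b, mul_assoc n a (a * b), ← mul_assoc a a b]
    have h3 : (n * (a * b)) * b = b * (n * (a * b)) := by
      rw [← mul_assoc b, hb, neg_mul, mul_assoc n b (a * b), ← mul_assoc b a b, hab, neg_mul,
        mul_neg, neg_neg, mul_assoc n (a * b) b, mul_assoc a b b]
    have := key _ h1 h3
    rw [map_mul, map_mul] at this
    have h4 : piS F n = (piS F a * piS F b)⁻¹ := eq_inv_of_mul_eq_one_left this
    have h5 : (piS F a * piS F b) * (piS F a * piS F b) = 1 := by
      rw [mul_assoc, ← mul_assoc (piS F b), ← himg.2.2.1, mul_assoc (piS F a), himg.2.1, mul_one,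
        himg.1]
    rw [h4, inv_eq_of_mul_eq_one_left h5]

end Cfsg.Agent.Helper12
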