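import Mathlib
import Cfsg.Agent.Helper12.KleinClassB
import Cfsg.Agent.Helper29.Schmidt

set_option autoImplicit false

namespace Cfsg.Agent.Helper12

open Cfsg Cfsg.Agent.Helper3
open scoped Pointwise

variable {F : Type*} [Field F]

local notation "S2" => Matrix.SpecialLinearGroup (Fin 2) F
local notation "M2" => Matrix (Fin 2) (Fin 2) F
local notation "P2" => Matrix.ProjectiveSpecialLinearGroup (Fin 2) F

/-- The normaliser of a Klein four-subgroup of `PSL₂(q)`, `q` odd, has at most `24` elements. -/
theorem card_normalizer_klein_le [Fintype F] (h2 : (2 : F) ≠ 0) (V : Subgroup P2)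
    (hV : IsKleinFour V) : Nat.card (Subgroup.normalizer (V : Set P2)) ≤ 24 := by
  classical
  obtain ⟨a, b, hKP, hO, hmem⟩ := exists_kleinPair_of_isKleinFour h2 V hV
  have himg := kleinPair_image h2 hKP
  set s := piS F a with hs
  set t := piS F b with ht
  have hV4 : Nat.card V = 4 := hV.card_four
  have hfinV : Finite V := Nat.finite_of_card_ne_zero (by omega)
  -- conjugates stay in V and are nontrivial
  have hconj : ∀ n ∈ Subgroup.normalizer (V : Set P2), ∀ v ∈ V, n * v * n⁻¹ ∈ V :=
    fun n hn v hv => (Subgroup.mem_normalizer_iff.1 hn v).1 hv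
  have hne1 : ∀ n v : P2, v ≠ 1 → n * v * n⁻¹ ≠ 1 := by
    intro n v hv h
    apply hv
    have : v = n⁻¹ * (n * v * n⁻¹) * n := by group
    rw [this, h]; group
  set N' : Subgroup P2 := Subgroup.normalizer (V : Set P2) ⊓ Subgroup.centralizer ({s} : Set P2)
    with hN'
  -- second step: N' has at most 8 elements
  have hVfin : (V : Set P2).Finite := Set.toFinite _
  have hstep2 : Nat.card N' ≤ hVfin.toFinset.card * ({t, s * t} : Finset P2).card := by
    apply card_le_of_conj_fibers N' t
    · intro n hn
      have hnN := hn.1
      have hns : n * s = s * n := by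
        have := Subgroup.mem_centralizer_iff.1 hn.2 s (Set.mem_singleton s)
        exact this.symm
      have h1 := hconj n hnN t hO.2.1
      have h3 := hne1 n t himg.2.2.2.2.1
      have h4 : n * t * n⁻¹ ≠ s := by
        intro h
        have h5 : n * t * n⁻¹ = n * s * n⁻¹ := by rw [h, hns]; group
        have h6 : t = s := by
          have := congrArg (fun z => n⁻¹ * z * n) h5
          simpa [mul_assoc] using this
        exact himg.2.2.2.2.2 h6.symm
      rcases (hmem _).1 h1 with h | h | h | h
      · exact absurd h h3
      · exact absurd h h4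
      · rw [h]; exact Finset.mem_insert_self _ _
      · rw [h]; exact Finset.mem_insert_of_mem (Finset.mem_singleton_self _)
    · intro n hn hnt
      have hns : n * s = s * n := by
        have := Subgroup.mem_centralizer_iff.1 hn.2 s (Set.mem_singleton s)
        exact this.symm
      rw [Set.Finite.mem_toFinset]
      exact (hmem n).2 (mem_klein_of_commute h2 hKP n hns hnt)
  have hVcard : hVfin.toFinset.card = 4 := by
    rw [← hV4, ← Set.ncard_eq_toFinset_card (V : Set P2) hVfin, ← Nat.card_coe_set_eq]
    rfl
  have hpair : ({t, s * t} : Finset P2).card ≤ 2 := Finset.card_le_two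
  have hN'8 : Nat.card N' ≤ 8 := by
    calc Nat.card N' ≤ hVfin.toFinset.card * ({t, s * t} : Finset P2).card := hstep2
      _ ≤ 4 * 2 := by rw [hVcard]; exact Nat.mul_le_mul_left _ hpair
  -- first step
  have hN'fin : (N' : Set P2).Finite := Set.toFinite _
  have hstep1 : Nat.card (Subgroup.normalizer (V : Set P2)) ≤
      hN'fin.toFinset.card * ({s, t, s * t} : Finset P2).card := by
    apply card_le_of_conj_fibers (Subgroup.normalizer (V : Set P2)) s
    · intro n hn
      have h1 := hconj n hn s hO.1
      have h3 := hne1 n s himg.2.2.2.1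
      rcases (hmem _).1 h1 with h | h | h | h
      · exact absurd h h3
      · rw [h]; exact Finset.mem_insert_self _ _
      · rw [h]; exact Finset.mem_insert_of_mem (Finset.mem_insert_self _ _)
      · rw [h]
        exact Finset.mem_insert_of_mem (Finset.mem_insert_of_mem (Finset.mem_singleton_self _))
    · intro n hn hns
      rw [Set.Finite.mem_toFinset]
      refine ⟨hn, ?_⟩
      show n ∈ Subgroup.centralizer ({s} : Set P2)
      rw [Subgroup.mem_centralizer_iff]
      intro z hz
      rw [Set.mem_singleton_iff] at hz
      rw [hz]; exact hns.symm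
  have hN'card : hN'fin.toFinset.card = Nat.card N' := by
    rw [← Set.ncard_eq_toFinset_card (N' : Set P2) hN'fin, ← Nat.card_coe_set_eq]
    rfl
  have htriple : ({s, t, s * t} : Finset P2).card ≤ 3 := Finset.card_le_three
  calc Nat.card (Subgroup.normalizer (V : Set P2))
      ≤ hN'fin.toFinset.card * ({s, t, s * t} : Finset P2).card := hstep1
    _ ≤ 8 * 3 := by rw [hN'card]; exact Nat.mul_le_mul hN'8 htriple
    _ = 24 := by norm_num

end Cfsg.Agent.Helper12
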