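import Mathlib
import Cfsg.Agent.Helper12.KleinClassC

set_option autoImplicit false

namespace Cfsg.Agent.Helper12

open Cfsg Cfsg.Agent.Helper3
open scoped Pointwise

variable {F : Type*} [Field F]

local notation "S2" => Matrix.SpecialLinearGroup (Fin 2) F
local notation "M2" => Matrix (Fin 2) (Fin 2) F
local notation "P2" => Matrix.ProjectiveSpecialLinearGroup (Fin 2) F

/-- In a finite group whose order is divisible by `8`, the normaliser of a subgroup of order
four has order divisible by `8`. -/
theorem eight_dvd_card_normalizer_of_card_four {G : Type*} [Group G] [Finite G]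
    (h8 : 8 ∣ Nat.card G) (V : Subgroup G) (hV4 : Nat.card V = 4) :
    8 ∣ Nat.card (Subgroup.normalizer (V : Set G)) := by
  have hV2 : IsPGroup 2 V := IsPGroup.of_card (n := 2) (by rw [hV4]; norm_num)
  obtain ⟨P, hP⟩ := hV2.exists_le_sylow
  have hP8 : 2 ^ 3 ∣ Nat.card (P : Subgroup G) := P.pow_dvd_card_of_pow_dvd_card (by simpa using h8)
  have hlt : V < (P : Subgroup G) := by
    refine lt_of_le_of_ne hP ?_
    intro h
    rw [← h, hV4] at hP8
    norm_num at hP8
  have hnil : Group.IsNilpotent (P : Subgroup G) := P.isPGroup'.isNilpotent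
  obtain ⟨x, hxP, hxN, hxV⟩ := Cfsg.Agent.Helper29.exists_mem_normalizer_not_mem hnil hlt
  set M : Subgroup G := Subgroup.normalizer (V : Set G) ⊓ (P : Subgroup G) with hM
  have hM2 : IsPGroup 2 M := P.isPGroup'.to_le inf_le_right
  have hVM : V ≤ M := le_inf Subgroup.le_normalizer hP
  obtain ⟨k, hk⟩ := IsPGroup.iff_card.1 hM2
  have h4dvd : Nat.card V ∣ Nat.card M := Subgroup.card_dvd_of_le hVM
  have hne : Nat.card M ≠ 4 := by
    intro h
    have : V = M := Subgroup.eq_of_le_of_card_ge hVM (by rw [h, hV4])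
    apply hxV
    rw [this]
    exact ⟨hxN, hxP⟩
  have hk3 : 3 ≤ k := by
    by_contra hlt3
    have hk' : k = 0 ∨ k = 1 ∨ k = 2 := by omega
    rw [hV4, hk] at h4dvd
    rcases hk' with rfl | rfl | rfl
    · norm_num at h4dvd
    · norm_num at h4dvd
    · exact hne (by rw [hk]; norm_num)
  have h8M : 8 ∣ Nat.card M := by
    rw [hk]
    exact (pow_dvd_pow 2 hk3 : 2 ^ 3 ∣ 2 ^ k)
  exact h8M.trans (Subgroup.card_dvd_of_le inf_le_left)

/-- The normaliser of a Klein four-subgroup of `PSL₂(q)`, `q` odd, has order divisible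
by three. -/
theorem three_dvd_card_normalizer_klein [Fintype F] (h2 : (2 : F) ≠ 0) (V : Subgroup P2)
    (hV : IsKleinFour V) : 3 ∣ Nat.card (Subgroup.normalizer (V : Set P2)) := by
  classical
  obtain ⟨a, b, hKP, hO, hmem⟩ := exists_kleinPair_of_isKleinFour h2 V hV
  have himg := kleinPair_image h2 hKP
  have hA := isTorusGen_of_sq h2 a hKP.1
  have hb' : (b : M2) * (a : M2) = -((a : M2) * (b : M2)) := hKP.2
  have hbb : b * b = -1 := by
    apply Subtype.ext
    rw [hA.sq_of_anticomm hb', sl2_neg_one_coe]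
  have hab : b * a = -(a * b) := (antiC_iff_mul a b).1 hKP.2
  obtain ⟨ω, hω1, hω2⟩ := exists_omega h2 hKP.1 hbb hab
  set s := piS F a with hs
  set t := piS F b with ht
  set u := piS F ω with hu
  have hV4 : Nat.card V = 4 := hV.card_four
  have hfinV : Finite V := Nat.finite_of_card_ne_zero (by omega)
  obtain ⟨hss, htt, hst, hs1, ht1, hsne⟩ := himg
  -- relations
  have r1 : u * s = t * u := by
    have : ω * a = b * ω := by rw [← hω1]; group
    rw [hu, hs, ht, ← map_mul, ← map_mul, this]
  have r2 : u * t = s * t * u := by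
    have : ω * b = a * b * ω := by rw [← hω2]; group
    rw [hu, hs, ht, ← map_mul, ← map_mul, ← map_mul, this]
  have r3 : u * (s * t) = s * u := by
    calc u * (s * t) = (u * s) * t := by group
      _ = t * (u * t) := by rw [r1]; group
      _ = t * (s * t) * u := by rw [r2]; group
      _ = s * (t * t) * u := by rw [← mul_assoc t s t, ← hst, mul_assoc s t t]
      _ = s * u := by rw [htt, mul_one]
  have hsq : ∀ v ∈ V, v * v = 1 := by
    intro v hv
    rcases (hmem v).1 hv with h | h | h | h
    · rw [h, one_mul]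
    · rw [h]; exact hss
    · rw [h]; exact htt
    · rw [h]
      calc s * t * (s * t) = s * (t * s) * t := by group
        _ = s * (s * t) * t := by rw [← hst]
        _ = s * s * (t * t) := by group
        _ = 1 := by rw [hss, htt, one_mul]
  have huN : u ∈ Subgroup.normalizer (V : Set P2) := by
    apply mem_normalizer_of_forall_conj_mem
    intro v hv
    rcases (hmem v).1 hv with h | h | h | h
    · rw [h]; simp [V.one_mem]
    · rw [h, r1, mul_inv_cancel_right]; exact hO.2.1
    · rw [h, r2, mul_inv_cancel_right]; exact V.mul_mem hO.1 hO.2.1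
    · rw [h, r3, mul_inv_cancel_right]; exact hO.1
  -- u³ commutes with s and t
  have c1 : u ^ 3 * s = s * u ^ 3 := by
    calc u ^ 3 * s = u * (u * (u * s)) := by simp only [pow_succ, pow_zero, one_mul, mul_assoc]
      _ = u * ((u * t) * u) := by rw [r1]; group
      _ = (u * (s * t)) * (u * u) := by rw [r2]; group
      _ = s * u ^ 3 := by rw [r3]; simp only [pow_succ, pow_zero, one_mul, mul_assoc]
  have c2 : u ^ 3 * t = t * u ^ 3 := by
    calc u ^ 3 * t = u * (u * (u * t)) := by simp only [pow_succ, pow_zero, one_mul, mul_assoc]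
      _ = u * ((u * (s * t)) * u) := by rw [r2]; group
      _ = (u * s) * (u * u) := by rw [r3]; group
      _ = t * u ^ 3 := by rw [r1]; simp only [pow_succ, pow_zero, one_mul, mul_assoc]
  have hu3 : u ^ 3 ∈ V := (hmem _).2 (mem_klein_of_commute h2 hKP _ c1 c2)
  have hv3 : (u ^ 2) ^ 3 = 1 := by
    have := hsq _ hu3
    calc (u ^ 2) ^ 3 = u ^ 3 * u ^ 3 := by rw [← pow_mul, ← pow_add]
      _ = 1 := this
  have hv1 : u ^ 2 ≠ 1 := by
    intro h
    have : u ^ 2 * s = s * t * u ^ 2 := by
      calc u ^ 2 * s = u * (u * s) := by rw [sq]; group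
        _ = (u * t) * u := by rw [r1]; group
        _ = s * t * u ^ 2 := by rw [r2, sq]; group
    rw [h, one_mul, mul_one] at this
    apply ht1
    have h' : s * 1 = s * t := by rw [mul_one]; exact this
    exact (mul_left_cancel h').symm
  have hord : orderOf (u ^ 2) = 3 := orderOf_eq_prime hv3 hv1
  have hvN : u ^ 2 ∈ Subgroup.normalizer (V : Set P2) := Subgroup.pow_mem _ huN 2
  have hord' : orderOf (⟨u ^ 2, hvN⟩ : Subgroup.normalizer (V : Set P2)) = 3 := by
    rw [← hord, ← Subgroup.orderOf_coe]
  rw [← hord']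
  exact orderOf_dvd_natCard _

/-- When `8` divides `|PSL₂(q)|`, `q` odd, the normaliser of every Klein four-subgroup has
order `24`. -/
theorem card_normalizer_klein [Fintype F] (h2 : (2 : F) ≠ 0) (h8 : 8 ∣ Nat.card P2)
    (V : Subgroup P2) (hV : IsKleinFour V) :
    Nat.card (Subgroup.normalizer (V : Set P2)) = 24 := by
  have hle := card_normalizer_klein_le h2 V hV
  have h8' := eight_dvd_card_normalizer_of_card_four h8 V hV.card_four
  have h3 := three_dvd_card_normalizer_klein h2 V hV
  have hpos : 0 < Nat.card (Subgroup.normalizer (V : Set P2)) := Nat.card_pos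
  have h24 : 24 ∣ Nat.card (Subgroup.normalizer (V : Set P2)) := by
    have : Nat.Coprime 8 3 := by norm_num
    exact this.mul_dvd_of_dvd_of_dvd h8' h3
  obtain ⟨k, hk⟩ := h24
  rw [hk] at hle hpos ⊢
  have : k = 1 := by omega
  rw [this]

end Cfsg.Agent.Helper12
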