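import Mathlib
import Cfsg.Agent.Helper12.KleinClassD
import Cfsg.Agent.Helper2.PSL2Klein
import Cfsg.Agent.Lead.HallCount

set_option autoImplicit false

namespace Cfsg.Agent.Helper12

open Cfsg Cfsg.Agent.Helper3
open scoped Pointwise

variable {F : Type*} [Field F]

local notation "S2" => Matrix.SpecialLinearGroup (Fin 2) F
local notation "M2" => Matrix (Fin 2) (Fin 2) F
local notation "P2" => Matrix.ProjectiveSpecialLinearGroup (Fin 2) F

/-- A conjugate of a Klein four-subgroup is a Klein four-subgroup. -/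
theorem isKleinFour_conj_smul {G : Type*} [Group G] (V : Subgroup G) (hV : IsKleinFour V)
    (g : G) : IsKleinFour (MulAut.conj g • V : Subgroup G) := by
  apply isKleinFour_of_card_of_sq'
  · rw [← Nat.card_congr (Subgroup.equivSMul (MulAut.conj g) V).toEquiv]
    exact hV.card_four
  · intro u hu
    obtain ⟨v, hv, rfl⟩ := (Subgroup.mem_smul_pointwise_iff_exists _ _ _).1 hu
    have h1 : (⟨v, hv⟩ : V) * ⟨v, hv⟩ = 1 := IsKleinFour.mul_self _
    have h2 : v * v = 1 := congrArg Subtype.val h1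
    rw [← smul_mul', h2, smul_one]

theorem two_mul_card_psl2 [Fintype F] (h2 : (2 : F) ≠ 0) : 2 * Nat.card P2 = Nat.card S2 := by
  have h3 := Subgroup.card_mul_index (Subgroup.center S2)
  have h4 : Nat.card (Subgroup.center S2) = 2 := by
    rw [Cfsg.Agent.Helper2.card_center_SL 2 (by norm_num), Cfsg.Agent.Helper2.card_units_field]
    have hodd : Fintype.card F % 2 = 1 := by
      apply FiniteField.odd_card_of_char_ne_two
      intro h
      apply h2
      have : CharP F 2 := ringChar.of_eq h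
      exact CharTwo.two_eq_zero
    have h1 : 1 < Fintype.card F := Fintype.one_lt_card
    apply Nat.gcd_eq_left
    omega
  have h5 : Nat.card P2 = (Subgroup.center S2).index := rfl
  rw [h4, ← h5] at h3
  exact h3

theorem eight_dvd_card_psl2 [Fintype F] (h2 : (2 : F) ≠ 0)
    (hq : Fintype.card F % 8 = 1 ∨ Fintype.card F % 8 = 7) : 8 ∣ Nat.card P2 := by
  classical
  have h1 := two_mul_card_psl2 h2
  rw [Cfsg.Agent.S2301.card_sl2] at h1
  rcases hq with hq | hq
  · obtain ⟨m, hm⟩ : ∃ m, Fintype.card F = 8 * m + 1 := ⟨Fintype.card F / 8, by omega⟩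
    rw [hm] at h1
    have e1 : 8 * m + 1 - 1 = 8 * m := by omega
    rw [e1] at h1
    have e2 : (8 * m + 1 + 1) * (8 * m * (8 * m + 1)) = 2 * (8 * (m * (4 * m + 1) * (8 * m + 1))) := by
      ring
    rw [e2] at h1
    have := Nat.eq_of_mul_eq_mul_left (by norm_num) h1
    exact ⟨_, this⟩
  · obtain ⟨m, hm⟩ : ∃ m, Fintype.card F = 8 * m + 7 := ⟨Fintype.card F / 8, by omega⟩
    rw [hm] at h1
    have e1 : 8 * m + 7 - 1 = 8 * m + 6 := by omega
    rw [e1] at h1
    have e2 : (8 * m + 7 + 1) * ((8 * m + 6) * (8 * m + 7)) =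
        2 * (8 * ((m + 1) * (4 * m + 3) * (8 * m + 7))) := by ring
    rw [e2] at h1
    have := Nat.eq_of_mul_eq_mul_left (by norm_num) h1
    exact ⟨_, this⟩

/-- For `q ≡ ±3 mod 8` all Klein four-subgroups of `PSL₂(q)` are conjugate. -/
theorem klein_conj_of_mod_eight [Fintype F]
    (hq : Fintype.card F % 8 = 3 ∨ Fintype.card F % 8 = 5) (V W : Subgroup P2)
    (hV : IsKleinFour V) (hW : IsKleinFour W) :
    ∃ g : P2, W = V.map (MulAut.conj g).toMonoidHom := by
  obtain ⟨o, ho, hcard⟩ := Cfsg.Agent.Helper2.PSL2K.card_PSL2 (F := F) rfl hq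
  have key : ∀ U : Subgroup P2, IsKleinFour U → ∃ P : Sylow 2 P2, (P : Subgroup P2) = U := by
    intro U hU
    have hU4 : Nat.card U = 4 := hU.card_four
    have hU2 : IsPGroup 2 U := IsPGroup.of_card (n := 2) (by rw [hU4]; norm_num)
    have hidx : ¬ 2 ∣ U.index := by
      have h1 := U.card_mul_index
      rw [hU4, hcard] at h1
      have h3 : U.index = o := Nat.eq_of_mul_eq_mul_left (by norm_num) h1
      rw [h3]
      exact Nat.two_dvd_ne_zero.mpr (Nat.odd_iff.mp ho)
    exact ⟨hU2.toSylow hidx, rfl⟩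
  obtain ⟨P, hP⟩ := key V hV
  obtain ⟨Q, hQ⟩ := key W hW
  obtain ⟨g, hg⟩ := MulAction.exists_smul_eq P2 P Q
  refine ⟨g, ?_⟩
  rw [map_conj_eq_smul, ← hP, ← hQ, ← hg]
  rfl

/-- For `q ≡ ±1 mod 8` there are exactly two classes of Klein four-subgroups of `PSL₂(q)`. -/
theorem klein_two_classes [Fintype F] (h2 : (2 : F) ≠ 0)
    (hq : Fintype.card F % 8 = 1 ∨ Fintype.card F % 8 = 7) :
    ∃ V₁ V₂ : Subgroup P2, IsKleinFour V₁ ∧ IsKleinFour V₂ ∧
      (¬ ∃ g : P2, V₂ = V₁.map (MulAut.conj g).toMonoidHom) ∧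
      ∀ W : Subgroup P2, IsKleinFour W →
        (∃ g : P2, W = V₁.map (MulAut.conj g).toMonoidHom) ∨
        (∃ g : P2, W = V₂.map (MulAut.conj g).toMonoidHom) := by
  classical
  have h8 := eight_dvd_card_psl2 h2 hq
  have hcount := card_klein_psl2 h2
  have hnorm := card_normalizer_klein h2 h8
  have hft : Fintype {V : Subgroup P2 // IsKleinFour V} := Fintype.ofFinite _
  -- class sizes
  have hcl : ∀ V : {V : Subgroup P2 // IsKleinFour V},
      24 * (Finset.univ.filter (fun W : {V : Subgroup P2 // IsKleinFour V} =>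
        ∃ g : P2, MulAut.conj g • V.1 = W.1)).card = Nat.card P2 := by
    intro V
    have h1 := Cfsg.Agent.Lead.card_conjugates_eq_index_normalizer V.1
    have e : {W : {V : Subgroup P2 // IsKleinFour V} // ∃ g : P2, MulAut.conj g • V.1 = W.1} ≃
        {K : Subgroup P2 // ∃ g : P2, MulAut.conj g • V.1 = K} :=
      { toFun := fun W => ⟨W.1.1, W.2⟩
        invFun := fun K => ⟨⟨K.1, by
          obtain ⟨g, hg⟩ := K.2
          rw [← hg]
          exact isKleinFour_conj_smul V.1 V.2 g⟩, K.2⟩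
        left_inv := fun W => rfl
        right_inv := fun K => rfl }
    rw [← Fintype.card_subtype, ← Nat.card_eq_fintype_card, Nat.card_congr e, h1,
      ← hnorm V.1 V.2, mul_comm]
    exact Subgroup.index_mul_card _
  have hK : Fintype.card {V : Subgroup P2 // IsKleinFour V} * 12 = Nat.card P2 := by
    rw [← Nat.card_eq_fintype_card, mul_comm]; exact hcount
  have hpos : 0 < Nat.card P2 := Nat.card_pos
  -- a first Klein four-subgroup
  obtain ⟨a, ha⟩ := exists_sq_eq_neg_one (F := F)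
  obtain ⟨w, hw⟩ := exists_anticomm_of_sq h2 a ha
  set V₁ : {V : Subgroup P2 // IsKleinFour V} := kleinOfPair h2 ⟨(a, w), ha, hw⟩ with hV₁
  set cl₁ := Finset.univ.filter (fun W : {V : Subgroup P2 // IsKleinFour V} =>
    ∃ g : P2, MulAut.conj g • V₁.1 = W.1) with hcl₁
  have hc1 : 24 * cl₁.card = Nat.card P2 := hcl V₁
  obtain ⟨V₂, hV₂⟩ : ∃ V₂ : {V : Subgroup P2 // IsKleinFour V}, V₂ ∉ cl₁ := by
    by_contra hno
    push Not at hno
    have : cl₁ = Finset.univ := Finset.eq_univ_iff_forall.2 hno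
    rw [this, Finset.card_univ] at hc1
    omega
  set cl₂ := Finset.univ.filter (fun W : {V : Subgroup P2 // IsKleinFour V} =>
    ∃ g : P2, MulAut.conj g • V₂.1 = W.1) with hcl₂
  have hc2 : 24 * cl₂.card = Nat.card P2 := hcl V₂
  have hdisj : Disjoint cl₁ cl₂ := by
    rw [Finset.disjoint_left]
    intro W hW1 hW2
    rw [hcl₁, Finset.mem_filter] at hW1
    rw [hcl₂, Finset.mem_filter] at hW2
    obtain ⟨g₁, hg₁⟩ := hW1.2
    obtain ⟨g₂, hg₂⟩ := hW2.2
    apply hV₂
    rw [hcl₁, Finset.mem_filter]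
    refine ⟨Finset.mem_univ _, g₂⁻¹ * g₁, ?_⟩
    rw [map_mul, mul_smul, hg₁, ← hg₂, map_inv, inv_smul_smul]
  have hunion : cl₁ ∪ cl₂ = Finset.univ := by
    apply Finset.eq_univ_of_card
    rw [Finset.card_union_of_disjoint hdisj]
    omega
  refine ⟨V₁.1, V₂.1, V₁.2, V₂.2, ?_, ?_⟩
  · rintro ⟨g, hg⟩
    apply hV₂
    rw [hcl₁, Finset.mem_filter]
    exact ⟨Finset.mem_univ _, g, by rw [hg, map_conj_eq_smul]⟩
  · intro W hW
    have hmem : (⟨W, hW⟩ : {V : Subgroup P2 // IsKleinFour V}) ∈ cl₁ ∪ cl₂ := by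
      rw [hunion]; exact Finset.mem_univ _
    rcases Finset.mem_union.1 hmem with h | h
    · left
      rw [hcl₁, Finset.mem_filter] at h
      obtain ⟨g, hg⟩ := h.2
      exact ⟨g, by rw [map_conj_eq_smul]; exact hg.symm⟩
    · right
      rw [hcl₂, Finset.mem_filter] at h
      obtain ⟨g, hg⟩ := h.2
      exact ⟨g, by rw [map_conj_eq_smul]; exact hg.symm⟩

end Cfsg.Agent.Helper12
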