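import Mathlib
import Cfsg.Prelude.Def_Characters
import Cfsg.Agent.Helper12.LSLDefs
import Cfsg.Agent.Helper19.LSLKER
import Cfsg.Agent.Helper19.LSLSUMDOT
import Cfsg.Agent.Helper22.LSLVALUES
import Cfsg.Agent.Helper28.LSLCONJ
import Cfsg.Agent.Helper28.LSLTVSET
import Cfsg.Agent.Helper8.CharComp
import Cfsg.Agent.Helper24.Expansion
import Cfsg.Agent.Helper24.Linear

set_option autoImplicit false

/-! S2332: the multiplicities `a`, `c` of an irreducible character of `SL_{m+1}(q)` on the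
elementary abelian transvection groups (COMMON). -/

namespace Cfsg.Agent.Helper12.LSL

open Matrix Cfsg Cfsg.Agent.Helper24

variable {F : Type*} [Field F] {m : ℕ}

theorem card_mult_vec [Fintype F] :
    Fintype.card (Multiplicative (Fin m → F)) = Fintype.card F ^ m := by
  rw [Fintype.card_multiplicative, Fintype.card_fun, Fintype.card_fin]

theorem lamQ_zero (ψ : AddChar F ℂ) (b : Multiplicative (Fin m → F)) :
    lamQ ψ (0 : Fin m → F) b = 1 := by
  rw [lamQ_apply, dotProduct_zero, AddChar.map_zero_eq_one]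

theorem sum_lamQ [Fintype F] (ψ : AddChar F ℂ) (hψ : ψ 1 ≠ 1) (v : Fin m → F) (hv : v ≠ 0) :
    ∑ b : Multiplicative (Fin m → F), lamQ ψ v b = 0 := by
  have h := sum_addChar_dot ψ hψ v hv
  rw [← h]
  exact Fintype.sum_equiv Multiplicative.toAdd _ _ (fun b => rfl)

theorem sl_mult [Fintype F] [DecidableEq F] (hm : 2 ≤ m) (k : ℕ)
    (ρ : Representation ℂ (GG m F) (Fin k → ℂ)) (hρ : ρ.IsIrreducible) (hk : 2 ≤ k) :
    ∃ a c : ℕ, 1 ≤ a ∧ k = c + a * (Fintype.card F ^ m - 1) ∧
      (∀ g ∈ tvSet (Unit ⊕ Fin m) F, ρ.character g = (c : ℂ) - a) ∧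
      ∀ (U : Multiplicative (Fin m → F) →* GG m F),
        (∀ b, b ≠ 1 → U b ∈ tvSet (Unit ⊕ Fin m) F) →
        ∀ (ψ : AddChar F ℂ), ψ 1 ≠ 1 → ∀ v : Fin m → F,
          classInner (fun b => ρ.character (U b)) (fun b => lamQ ψ v b) =
            if v = 0 then (c : ℂ) else (a : ℂ) := by
  classical
  set q := Fintype.card F with hq
  have hq1 : 1 < q := Fintype.one_lt_card
  set χ : GG m F → ℂ := ρ.character with hχdef
  have hχ : IsCharacter (GG m F) χ := ⟨k, ρ, rfl⟩
  have hcl : IsClassFunction (GG m F) χ := IsCharacter.isClassFunction hχ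
  have hχ1 : χ 1 = k := by
    rw [hχdef, Representation.char_one, Module.finrank_fin_fun]
  have hconj : ∀ g h : GG m F, IsConj g h → χ g = χ h := by
    intro g h hgh
    obtain ⟨c, hc⟩ := isConj_iff.mp hgh
    rw [← hc, hcl]
  -- a nonzero vector
  have hm0 : 0 < m := by omega
  set b₀ : Fin m → F := Pi.single ⟨0, hm0⟩ 1 with hb₀
  have hb₀0 : b₀ ≠ 0 := by
    intro h
    have := congrFun h ⟨0, hm0⟩
    rw [hb₀, Pi.single_eq_same, Pi.zero_apply] at this
    exact one_ne_zero this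
  set χt : ℂ := χ (uQ b₀) with hχt
  have htv : ∀ g ∈ tvSet (Unit ⊕ Fin m) F, χ g = χt := by
    intro g hg
    obtain ⟨b, hb, hgb⟩ := exists_conj_of_mem_tvSet (by omega) g hg
    rw [hconj _ _ hgb, hconj _ _ (isConj_uQ hm b b₀ hb hb₀0)]
  set N : ℕ := q ^ m with hN
  have hN1 : 1 ≤ N := Nat.one_le_pow _ _ (by omega)
  have hNC : (N : ℂ) ≠ 0 := by
    have : N ≠ 0 := by omega
    exact_mod_cast this
  have hcardC : (Fintype.card (Multiplicative (Fin m → F)) : ℂ) = N := by
    rw [card_mult_vec]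
  -- the general multiplicity formula
  have hgen : ∀ (U : Multiplicative (Fin m → F) →* GG m F),
      (∀ b, b ≠ 1 → U b ∈ tvSet (Unit ⊕ Fin m) F) →
      ∀ (ψ : AddChar F ℂ), ψ 1 ≠ 1 → ∀ v : Fin m → F,
        classInner (fun b => χ (U b)) (fun b => lamQ ψ v b) =
          if v = 0 then ((k : ℂ) + ((N : ℂ) - 1) * χt) / N else ((k : ℂ) - χt) / N := by
    intro U hU ψ hψ v
    have hf : ∀ b : Multiplicative (Fin m → F), b ≠ 1 → χ (U b) = χt := fun b hb => htv _ (hU b hb)
    have hf1 : χ (U 1) = k := by rw [map_one, hχ1]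
    by_cases hv : v = 0
    · rw [if_pos hv]
      have h1 := classInner_one_of_const_off_one (fun b : Multiplicative (Fin m → F) => χ (U b)) χt hf
      rw [hcardC] at h1
      simp only [hf1] at h1
      rw [← h1]
      congr 1
      funext b
      rw [hv, lamQ_zero]
    · rw [if_neg hv]
      have h1 := classInner_of_const_off_one (fun b : Multiplicative (Fin m → F) => χ (U b)) χt hf
        (lamQ ψ v) (sum_lamQ ψ hψ v hv)
      rw [hcardC] at h1
      simp only [hf1] at h1
      exact h1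
  -- naturality
  obtain ⟨ψ₀, hψ₀⟩ : ∃ ψ : AddChar F ℂ, ψ 1 ≠ 1 := AddChar.exists_apply_ne_zero.mpr one_ne_zero
  have hU0 : ∀ b : Multiplicative (Fin m → F), b ≠ 1 → uQhom b ∈ tvSet (Unit ⊕ Fin m) F := by
    intro b hb
    rw [uQhom_apply]
    apply uQ_mem_tvSet
    intro h0
    apply hb
    exact Multiplicative.toAdd.injective h0
  have hχU : IsCharacter (Multiplicative (Fin m → F)) (fun b => χ (uQhom b)) :=
    Cfsg.Agent.Helper8.isCharacter_comp uQhom hχ
  haveI : Fintype (IrrCharacter (Multiplicative (Fin m → F))) := Fintype.ofFinite _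
  obtain ⟨a, ha⟩ := IsCharacter.classInner_irr_nat hχU
    ⟨_, isIrrCharacter_of_monoidHom (lamQ ψ₀ b₀)⟩
  obtain ⟨c, hc⟩ := IsCharacter.classInner_irr_nat hχU
    ⟨_, isIrrCharacter_of_monoidHom (lamQ ψ₀ (0 : Fin m → F))⟩
  have ha' : ((k : ℂ) - χt) / N = a := by
    have := hgen uQhom hU0 ψ₀ hψ₀ b₀
    rw [if_neg hb₀0] at this
    rw [← this]
    exact ha
  have hc' : ((k : ℂ) + ((N : ℂ) - 1) * χt) / N = c := by
    have := hgen uQhom hU0 ψ₀ hψ₀ 0
    rw [if_pos rfl] at this
    rw [← this]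
    exact hc
  have hχt' : χt = (c : ℂ) - a := by
    rw [← ha', ← hc']
    field_simp
    ring
  have hkC : (k : ℂ) = (c : ℂ) + (a : ℂ) * ((N : ℂ) - 1) := by
    rw [← ha', ← hc']
    field_simp
    ring
  have hkN : k = c + a * (N - 1) := by
    have : ((c + a * (N - 1) : ℕ) : ℂ) = (c : ℂ) + (a : ℂ) * ((N : ℂ) - 1) := by
      push_cast [Nat.cast_sub hN1]
      ring
    rw [← this] at hkC
    exact_mod_cast hkC
  refine ⟨a, c, ?_, hkN, ?_, ?_⟩
  · -- a ≥ 1
    by_contra ha0
    have ha0' : a = 0 := by omega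
    have hkt : χt = k := by
      have := ha'
      rw [ha0', Nat.cast_zero, div_eq_zero_iff] at this
      rcases this with h | h
      · exact (sub_eq_zero.mp h).symm
      · exact absurd h hNC
    obtain ⟨b, hb⟩ := exists_uQ_ne hm k ρ hρ hk
    apply hb
    by_cases hb0 : b = 0
    · rw [hb0, uQ_zero]
      exact hχ1
    · show χ (uQ b) = k
      rw [htv _ (uQ_mem_tvSet b hb0), hkt]
  · intro g hg
    show χ g = _
    rw [htv g hg, hχt']
  · intro U hU ψ hψ v
    have := hgen U hU ψ hψ v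
    rw [ha', hc'] at this
    exact this

end Cfsg.Agent.Helper12.LSL
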