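import Mathlib
import Cfsg.Prelude.Def_Characters
import Cfsg.Agent.Helper12.LSLDefs
import Cfsg.Agent.Helper17.LSLPERFW
import Cfsg.Agent.Helper12.LSLCommon
import Cfsg.Agent.Helper7.LSLPERFV

set_option autoImplicit false

/-! S2332: auxiliary lemmas for the main argument (the Levi factor and the characters of `Q`, `Q⁻`). -/

namespace Cfsg.Agent.Helper12.LSL

open Matrix Cfsg

variable {F : Type*} [Field F] {m : ℕ}

theorem sl_inv_mul_val (A : MM m F) :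
    ((A⁻¹ : MM m F) : Matrix (Fin m) (Fin m) F) * (A : Matrix (Fin m) (Fin m) F) = 1 := by
  rw [← Matrix.SpecialLinearGroup.coe_mul, inv_mul_cancel, Matrix.SpecialLinearGroup.coe_one]

theorem sl_mul_inv_val (A : MM m F) :
    (A : Matrix (Fin m) (Fin m) F) * ((A⁻¹ : MM m F) : Matrix (Fin m) (Fin m) F) = 1 := by
  rw [← Matrix.SpecialLinearGroup.coe_mul, mul_inv_cancel, Matrix.SpecialLinearGroup.coe_one]

/-- `b ↦ b A⁻¹` -/
def eqV (A : MM m F) : Multiplicative (Fin m → F) ≃ Multiplicative (Fin m → F) where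
  toFun b := Multiplicative.ofAdd (Multiplicative.toAdd b ᵥ* ((A⁻¹ : MM m F) : Matrix (Fin m) (Fin m) F))
  invFun b := Multiplicative.ofAdd (Multiplicative.toAdd b ᵥ* (A : Matrix (Fin m) (Fin m) F))
  left_inv b := by
    show Multiplicative.ofAdd ((Multiplicative.toAdd b ᵥ* _) ᵥ* _) = b
    rw [vecMul_vecMul, sl_inv_mul_val, vecMul_one]
    rfl
  right_inv b := by
    show Multiplicative.ofAdd ((Multiplicative.toAdd b ᵥ* _) ᵥ* _) = b
    rw [vecMul_vecMul, sl_mul_inv_val, vecMul_one]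
    rfl

/-- `b ↦ A b` -/
def eqW (A : MM m F) : Multiplicative (Fin m → F) ≃ Multiplicative (Fin m → F) where
  toFun b := Multiplicative.ofAdd ((A : Matrix (Fin m) (Fin m) F) *ᵥ Multiplicative.toAdd b)
  invFun b := Multiplicative.ofAdd (((A⁻¹ : MM m F) : Matrix (Fin m) (Fin m) F) *ᵥ Multiplicative.toAdd b)
  left_inv b := by
    show Multiplicative.ofAdd (_ *ᵥ (_ *ᵥ Multiplicative.toAdd b)) = b
    rw [mulVec_mulVec, sl_inv_mul_val, one_mulVec]
    rfl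
  right_inv b := by
    show Multiplicative.ofAdd (_ *ᵥ (_ *ᵥ Multiplicative.toAdd b)) = b
    rw [mulVec_mulVec, sl_mul_inv_val, one_mulVec]
    rfl

theorem uQhom_eqV (A : MM m F) (b : Multiplicative (Fin m → F)) :
    uQhom (eqV A b) = lev A * uQhom b * (lev A)⁻¹ := by
  rw [uQhom_apply, uQhom_apply, lev_conj_uQ]
  rfl

theorem uQmhom_eqW (A : MM m F) (b : Multiplicative (Fin m → F)) :
    uQmhom (eqW A b) = lev A * uQmhom b * (lev A)⁻¹ := by
  rw [uQmhom_apply, uQmhom_apply, lev_conj_uQm]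
  rfl

/-- `lamQ ψ (A v) (b A⁻¹) = lamQ ψ v b` -/
theorem lamQ_eqV (ψ : AddChar F ℂ) (A : MM m F) (v : Fin m → F) (b : Multiplicative (Fin m → F)) :
    lamQ ψ ((A : Matrix (Fin m) (Fin m) F) *ᵥ v) (eqV A b) = lamQ ψ v b := by
  rw [lamQ_apply, lamQ_apply]
  congr 1
  show (Multiplicative.toAdd b ᵥ* _) ⬝ᵥ (_ *ᵥ v) = _
  rw [dotProduct_mulVec, vecMul_vecMul, sl_inv_mul_val, vecMul_one]

/-- `lamQ ψ (w A⁻¹) (A b) = lamQ ψ w b` -/
theorem lamQ_eqW (ψ : AddChar F ℂ) (A : MM m F) (w : Fin m → F) (b : Multiplicative (Fin m → F)) :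
    lamQ ψ (w ᵥ* ((A⁻¹ : MM m F) : Matrix (Fin m) (Fin m) F)) (eqW A b) = lamQ ψ w b := by
  rw [lamQ_apply, lamQ_apply]
  congr 1
  show (_ *ᵥ Multiplicative.toAdd b) ⬝ᵥ (w ᵥ* _) = _
  rw [dotProduct_comm, dotProduct_mulVec, vecMul_vecMul, sl_inv_mul_val, vecMul_one,
    dotProduct_comm]

theorem lev_mem_fixer_uQ (ψ : AddChar F ℂ) (v : Fin m → F) (A : MM m F) (hA : A ∈ stabV v) :
    lev A ∈ fixer (uQhom : Multiplicative (Fin m → F) →* GG m F) (lamQ ψ v) := by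
  refine ⟨eqV A, uQhom_eqV A, fun b => ?_⟩
  have h := lamQ_eqV ψ A v b
  rw [(mem_stabV v A).mp hA] at h
  exact h

theorem lev_mem_fixer_uQm (ψ : AddChar F ℂ) (w : Fin m → F) (A : MM m F) (hA : A ∈ stabW w) :
    lev A ∈ fixer (uQmhom : Multiplicative (Fin m → F) →* GG m F) (lamQ ψ w) := by
  refine ⟨eqW A, uQmhom_eqW A, fun b => ?_⟩
  have h := lamQ_eqW ψ A w b
  have hA' : w ᵥ* ((A⁻¹ : MM m F) : Matrix (Fin m) (Fin m) F) = w :=
    (mem_stabW w A⁻¹).mp ((stabW w).inv_mem hA)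
  rw [hA'] at h
  exact h

theorem lev_mem_commutator_fixer_uQ [Fintype F] (hm : 3 ≤ m) (hq : m = 3 → 4 ≤ Fintype.card F)
    (ψ : AddChar F ℂ) (v : Fin m → F) (hv : v ≠ 0) (A : MM m F) (hA : A ∈ stabV v) :
    lev A ∈ ⁅fixer (uQhom : Multiplicative (Fin m → F) →* GG m F) (lamQ ψ v),
      fixer (uQhom : Multiplicative (Fin m → F) →* GG m F) (lamQ ψ v)⁆ := by
  have h1 : A ∈ ⁅stabV v, stabV v⁆ := by rw [commutator_stabV hm hq v hv]; exact hA
  have h2 : lev A ∈ (⁅stabV v, stabV v⁆).map levhom := ⟨A, h1, rfl⟩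
  rw [Subgroup.map_commutator] at h2
  refine Subgroup.commutator_mono ?_ ?_ h2
  · rintro _ ⟨B, hB, rfl⟩
    exact lev_mem_fixer_uQ ψ v B hB
  · rintro _ ⟨B, hB, rfl⟩
    exact lev_mem_fixer_uQ ψ v B hB

theorem lev_mem_commutator_fixer_uQm [Fintype F] (hm : 3 ≤ m) (hq : m = 3 → 4 ≤ Fintype.card F)
    (ψ : AddChar F ℂ) (w : Fin m → F) (hw : w ≠ 0) (A : MM m F) (hA : A ∈ stabW w) :
    lev A ∈ ⁅fixer (uQmhom : Multiplicative (Fin m → F) →* GG m F) (lamQ ψ w),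
      fixer (uQmhom : Multiplicative (Fin m → F) →* GG m F) (lamQ ψ w)⁆ := by
  have h1 : A ∈ ⁅stabW w, stabW w⁆ := by rw [commutator_stabW hm hq w hw]; exact hA
  have h2 : lev A ∈ (⁅stabW w, stabW w⁆).map levhom := ⟨A, h1, rfl⟩
  rw [Subgroup.map_commutator] at h2
  refine Subgroup.commutator_mono ?_ ?_ h2
  · rintro _ ⟨B, hB, rfl⟩
    exact lev_mem_fixer_uQm ψ w B hB
  · rintro _ ⟨B, hB, rfl⟩
    exact lev_mem_fixer_uQm ψ w B hB

theorem lamQ_orth [Fintype F] (ψ : AddChar F ℂ) (hψ : ψ 1 ≠ 1)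
    (a : Multiplicative (Fin m → F)) (ha : a ≠ 1) : ∑ v : Fin m → F, lamQ ψ v a = 0 := by
  have ha' : Multiplicative.toAdd a ≠ 0 := fun h => ha (Multiplicative.toAdd.injective h)
  have h := sum_addChar_dot ψ hψ (Multiplicative.toAdd a) ha'
  rw [← h]
  apply Finset.sum_congr rfl
  intro v _
  rw [lamQ_apply, dotProduct_comm]

theorem lamQ_injective [Fintype F] (ψ : AddChar F ℂ) (hψ : ψ 1 ≠ 1) :
    Function.Injective (lamQ ψ : (Fin m → F) → Multiplicative (Fin m → F) →* ℂ) := by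
  intro v v' h
  by_contra hne
  have hd : v - v' ≠ 0 := sub_ne_zero.mpr hne
  have h0 := sum_lamQ ψ hψ (v - v') hd
  have h1 : ∀ b : Multiplicative (Fin m → F), lamQ ψ (v - v') b = 1 := by
    intro b
    have hb : lamQ ψ v b = lamQ ψ v' b := by rw [h]
    rw [lamQ_apply] at hb ⊢
    rw [lamQ_apply] at hb
    rw [dotProduct_sub, sub_eq_add_neg, AddChar.map_add_eq_mul, AddChar.map_neg_eq_inv, hb]
    exact mul_inv_cancel₀ (AddChar.val_isUnit ψ _).ne_zero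
  rw [Finset.sum_congr rfl (fun b _ => h1 b), Finset.sum_const, Finset.card_univ, nsmul_eq_mul,
    mul_one] at h0
  have : (Fintype.card (Multiplicative (Fin m → F)) : ℂ) ≠ 0 := by
    exact_mod_cast Fintype.card_ne_zero
  exact this h0

end Cfsg.Agent.Helper12.LSL
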