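import Mathlib
import Cfsg.Prelude.Def_Characters
import Cfsg.Agent.Helper12.SLNonzero
import Cfsg.Agent.Helper12.MulCharDual
import Cfsg.Agent.Helper5.PermChar
import Cfsg.Agent.Helper8.Ind
import Cfsg.Agent.Helper24.Induced
import Cfsg.Agent.Helper24.Linear
import Cfsg.Agent.Helper24.PermCharacter

set_option autoImplicit false

/-! The permutation character of `SL_n(F)` on nonzero vectors as a sum of characters induced
from the stabilizer of a line. -/

namespace Cfsg.Agent.Helper12

open Matrix MulAction Cfsg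

variable {F : Type*} [Field F] {n : ℕ}

/-- Standard basis vector. -/
def stdVec (i0 : Fin n) : Fin n → F := Pi.single i0 1

theorem stdVec_self (i0 : Fin n) : stdVec (F := F) i0 i0 = 1 := by simp [stdVec]

theorem stdVec_ne_zero (i0 : Fin n) : stdVec (F := F) i0 ≠ 0 := by
  intro h
  have := congrFun h i0
  rw [stdVec_self] at this
  exact one_ne_zero this

theorem mulVec_stdVec (M : Matrix (Fin n) (Fin n) F) (i0 i : Fin n) :
    (M *ᵥ stdVec i0) i = M i i0 := by
  simp [stdVec]

/-- The stabilizer of the line through a standard basis vector. -/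
def lineStab (i0 : Fin n) : Subgroup (Matrix.SpecialLinearGroup (Fin n) F) where
  carrier := {g | ∃ c : F, (g : Matrix (Fin n) (Fin n) F) *ᵥ stdVec i0 = c • stdVec i0}
  one_mem' := ⟨1, by simp⟩
  mul_mem' := by
    rintro g h ⟨c, hc⟩ ⟨c', hc'⟩
    refine ⟨c' * c, ?_⟩
    rw [Matrix.SpecialLinearGroup.coe_mul, ← Matrix.mulVec_mulVec, hc', Matrix.mulVec_smul, hc,
      smul_smul]
  inv_mem' := by
    rintro g ⟨c, hc⟩
    have hc0 : c ≠ 0 := by
      rintro rfl
      rw [zero_smul] at hc
      exact sl_mulVec_ne_zero g (stdVec_ne_zero i0) hc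
    refine ⟨c⁻¹, ?_⟩
    have h1 := sl_inv_mulVec_mulVec g (stdVec i0)
    rw [hc, Matrix.mulVec_smul] at h1
    conv_rhs => rw [← h1]
    rw [smul_smul, inv_mul_cancel₀ hc0, one_smul]

theorem mem_lineStab_iff (i0 : Fin n) (g : Matrix.SpecialLinearGroup (Fin n) F) :
    g ∈ lineStab i0 ↔ ∃ c : F, (g : Matrix (Fin n) (Fin n) F) *ᵥ stdVec i0 = c • stdVec i0 :=
  Iff.rfl

theorem lineStab_mulVec {i0 : Fin n} {g : Matrix.SpecialLinearGroup (Fin n) F}
    (hg : g ∈ lineStab i0) :
    (g : Matrix (Fin n) (Fin n) F) *ᵥ stdVec i0 = (g : Matrix (Fin n) (Fin n) F) i0 i0 • stdVec i0 := by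
  obtain ⟨c, hc⟩ := hg
  have := congrFun hc i0
  rw [mulVec_stdVec, Pi.smul_apply, stdVec_self, smul_eq_mul, mul_one] at this
  rw [this, hc]

/-- The eigenvalue on the line, as a monoid homomorphism to the field. -/
def lamF (i0 : Fin n) : lineStab (F := F) i0 →* F where
  toFun h := (h.1 : Matrix (Fin n) (Fin n) F) i0 i0
  map_one' := by simp
  map_mul' h h' := by
    have h1 := lineStab_mulVec (h * h').2
    have h2 : (((h * h' : lineStab (F := F) i0) : Matrix.SpecialLinearGroup (Fin n) F) :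
        Matrix (Fin n) (Fin n) F) *ᵥ stdVec i0 =
        ((h'.1 : Matrix (Fin n) (Fin n) F) i0 i0 * (h.1 : Matrix (Fin n) (Fin n) F) i0 i0) •
          stdVec i0 := by
      rw [Subgroup.coe_mul, Matrix.SpecialLinearGroup.coe_mul, ← Matrix.mulVec_mulVec,
        lineStab_mulVec h'.2, Matrix.mulVec_smul, lineStab_mulVec h.2, smul_smul]
    rw [h2] at h1
    have := congrFun h1 i0
    simp only [Pi.smul_apply, stdVec_self, smul_eq_mul, mul_one] at this
    rw [← this, mul_comm]

theorem lamF_apply (i0 : Fin n) (h : lineStab (F := F) i0) :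
    lamF i0 h = (h.1 : Matrix (Fin n) (Fin n) F) i0 i0 := rfl

theorem lamF_ne_zero (i0 : Fin n) (h : lineStab (F := F) i0) : lamF i0 h ≠ 0 := by
  intro h0
  have h1 := lineStab_mulVec h.2
  rw [← lamF_apply, h0, zero_smul] at h1
  exact sl_mulVec_ne_zero h.1 (stdVec_ne_zero i0) h1

/-- The base point. -/
def basePt (i0 : Fin n) : NzVec n F := ⟨stdVec i0, stdVec_ne_zero i0⟩

theorem mem_stabilizer_basePt_iff (i0 : Fin n) (g : Matrix.SpecialLinearGroup (Fin n) F) :
    g ∈ stabilizer (Matrix.SpecialLinearGroup (Fin n) F) (basePt (F := F) i0) ↔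
      (g : Matrix (Fin n) (Fin n) F) *ᵥ stdVec i0 = stdVec i0 := by
  rw [mem_stabilizer_iff, Subtype.ext_iff]
  rfl

theorem stabilizer_le_lineStab (i0 : Fin n) :
    stabilizer (Matrix.SpecialLinearGroup (Fin n) F) (basePt (F := F) i0) ≤ lineStab i0 := by
  intro g hg
  rw [mem_stabilizer_basePt_iff] at hg
  exact ⟨1, by rw [hg, one_smul]⟩

theorem mem_stabilizer_iff_lamF (i0 : Fin n) (h : lineStab (F := F) i0) :
    h.1 ∈ stabilizer (Matrix.SpecialLinearGroup (Fin n) F) (basePt (F := F) i0) ↔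
      lamF i0 h = 1 := by
  rw [mem_stabilizer_basePt_iff, lineStab_mulVec h.2, ← lamF_apply]
  constructor
  · intro h1
    have := congrFun h1 i0
    simpa [stdVec_self] using this
  · intro h1
    rw [h1, one_smul]

/-- A diagonal element with prescribed eigenvalue on the line. -/
def diagElt (i0 i1 : Fin n) (h01 : i0 ≠ i1) (c : Fˣ) : Matrix.SpecialLinearGroup (Fin n) F :=
  ⟨Matrix.diagonal (Function.update (Function.update (fun _ => (1 : F)) i0 (c : F)) i1
    ((c⁻¹ : Fˣ) : F)), by
    rw [Matrix.det_diagonal, Finset.prod_update_of_mem (Finset.mem_univ _),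
      Finset.prod_update_of_mem (by simp [h01])]
    simp⟩

theorem diagElt_mulVec (i0 i1 : Fin n) (h01 : i0 ≠ i1) (c : Fˣ) :
    (diagElt i0 i1 h01 c : Matrix (Fin n) (Fin n) F) *ᵥ stdVec i0 = (c : F) • stdVec i0 := by
  ext i
  rw [mulVec_stdVec]
  simp only [diagElt, Matrix.diagonal_apply, Pi.smul_apply, smul_eq_mul, stdVec, Pi.single_apply]
  by_cases h : i = i0
  · subst h
    simp [Function.update_of_ne h01]
  · simp [h]

section finite

variable [Fintype F] [DecidableEq F]

/-- The eigenvalue homomorphism to the units. -/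
def lamU (i0 : Fin n) : lineStab (F := F) i0 →* Fˣ := (lamF i0).toHomUnits

omit [Fintype F] [DecidableEq F] in
theorem lamU_coe (i0 : Fin n) (h : lineStab (F := F) i0) : ((lamU i0 h : Fˣ) : F) = lamF i0 h := rfl

omit [Fintype F] [DecidableEq F] in
theorem lamU_surjective (i0 i1 : Fin n) (h01 : i0 ≠ i1) :
    Function.Surjective (lamU (F := F) i0) := by
  intro c
  refine ⟨⟨diagElt i0 i1 h01 c, ⟨c, diagElt_mulVec i0 i1 h01 c⟩⟩, ?_⟩
  apply Units.ext
  rw [lamU_coe, lamF_apply]
  have := congrFun (diagElt_mulVec i0 i1 h01 c) i0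
  rw [mulVec_stdVec] at this
  simpa [stdVec_self] using this

theorem card_lineStab (i0 i1 : Fin n) (h01 : i0 ≠ i1) :
    Nat.card (lineStab (F := F) i0) = (Fintype.card F - 1) *
      Nat.card (stabilizer (Matrix.SpecialLinearGroup (Fin n) F) (basePt (F := F) i0)) := by
  have h1 := Subgroup.card_eq_card_quotient_mul_card_subgroup (lamU (F := F) i0).ker
  have h2 : Nat.card (lineStab (F := F) i0 ⧸ (lamU (F := F) i0).ker) = Fintype.card F - 1 := by
    rw [Nat.card_congr (QuotientGroup.quotientKerEquivOfSurjective _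
      (lamU_surjective i0 i1 h01)).toEquiv, Nat.card_eq_fintype_card, Fintype.card_units]
  have h3 : Nat.card (lamU (F := F) i0).ker =
      Nat.card (stabilizer (Matrix.SpecialLinearGroup (Fin n) F) (basePt (F := F) i0)) := by
    apply Nat.card_congr
    refine ⟨fun h => ⟨h.1.1, ?_⟩, fun s => ⟨⟨s.1, stabilizer_le_lineStab i0 s.2⟩, ?_⟩, ?_, ?_⟩
    · have := h.2
      rw [MonoidHom.mem_ker] at this
      rw [mem_stabilizer_iff_lamF, ← lamU_coe, this, Units.val_one]
    · rw [MonoidHom.mem_ker]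
      apply Units.ext
      rw [lamU_coe, Units.val_one, ← mem_stabilizer_iff_lamF]
      exact s.2
    · intro h; rfl
    · intro s; rfl
  rw [h1, h2, h3]

/-- The character of `SL_n(F)` induced from a linear character of the line stabilizer. -/
noncomputable def lineChar (i0 : Fin n) (θ : MulChar F ℂ) :
    Matrix.SpecialLinearGroup (Fin n) F → ℂ :=
  Cfsg.indFun (lineStab i0) (fun h => θ (lamF i0 h))

theorem lineChar_isCharacter (i0 : Fin n) (θ : MulChar F ℂ) :
    IsCharacter (Matrix.SpecialLinearGroup (Fin n) F) (lineChar i0 θ) :=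
  Cfsg.Agent.Helper24.isCharacter_indFun _
    (Cfsg.Agent.Helper24.isCharacter_of_monoidHom (θ.toMonoidHom.comp (lamF i0)))

theorem sum_extendByZero (i0 : Fin n) [Fintype (MulChar F ℂ)]
    (y : Matrix.SpecialLinearGroup (Fin n) F) :
    ∑ θ : MulChar F ℂ, Cfsg.extendByZero (lineStab i0) (fun h => θ (lamF i0 h)) y =
      ((Fintype.card F : ℂ) - 1) *
        Cfsg.extendByZero (stabilizer (Matrix.SpecialLinearGroup (Fin n) F) (basePt (F := F) i0))
          (fun _ => 1) y := by
  by_cases hy : y ∈ lineStab (F := F) i0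
  · simp only [Cfsg.Agent.Helper5.extendByZero_apply_mem _ _ hy]
    rw [sum_mulChar_apply]
    by_cases h1 : lamF i0 ⟨y, hy⟩ = 1
    · rw [if_pos h1, Cfsg.Agent.Helper5.extendByZero_apply_mem _ _
        ((mem_stabilizer_iff_lamF i0 ⟨y, hy⟩).2 h1), mul_one]
    · rw [if_neg h1, Cfsg.Agent.Helper5.extendByZero_apply_not_mem _ _
        (fun h => h1 ((mem_stabilizer_iff_lamF i0 ⟨y, hy⟩).1 h)), mul_zero]
  · simp only [Cfsg.Agent.Helper5.extendByZero_apply_not_mem _ _ hy]
    rw [Cfsg.Agent.Helper5.extendByZero_apply_not_mem _ _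
      (fun h => hy (stabilizer_le_lineStab i0 h)), mul_zero, Finset.sum_const_zero]

/-- The permutation character on nonzero vectors is the sum of the line characters. -/
theorem sum_lineChar (hn : 2 ≤ n) (i0 i1 : Fin n) (h01 : i0 ≠ i1) [Fintype (MulChar F ℂ)]
    (g : Matrix.SpecialLinearGroup (Fin n) F) :
    ∑ θ : MulChar F ℂ, lineChar i0 θ g = (Nat.card (fixedBy (NzVec n F) g) : ℂ) := by
  have := nzVec_isPretransitive (F := F) hn
  have hperm := congrFun (Cfsg.Agent.Helper24.permChar_eq_indFun (G :=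
    Matrix.SpecialLinearGroup (Fin n) F) (NzVec n F) (basePt i0)) g
  rw [hperm]
  simp only [lineChar, Cfsg.Agent.Helper8.indFun_def]
  rw [← Finset.mul_sum, Finset.sum_comm]
  simp only [sum_extendByZero, ← Finset.mul_sum]
  rw [card_lineStab i0 i1 h01]
  have hq : (1 : ℕ) ≤ Fintype.card F := Fintype.card_pos
  have hq1 : ((Fintype.card F : ℂ) - 1) ≠ 0 := by
    have h2 : 2 ≤ Fintype.card F := by
      have := Fintype.one_lt_card (α := F)
      omega
    have : (2 : ℝ) ≤ (Fintype.card F : ℝ) := by exact_mod_cast h2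
    intro h
    have h3 : (Fintype.card F : ℂ) = 1 := by linear_combination h
    have h4 : Fintype.card F = 1 := by exact_mod_cast h3
    omega
  have hS : (Nat.card (stabilizer (Matrix.SpecialLinearGroup (Fin n) F)
      (basePt (F := F) i0)) : ℂ) ≠ 0 := Nat.cast_ne_zero.2 Nat.card_pos.ne'
  push_cast [Nat.cast_sub hq]
  field_simp

end finite

end Cfsg.Agent.Helper12
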