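import Mathlib
import Cfsg.Agent.S2336
import Cfsg.Agent.Helper12.LSLDefs

set_option autoImplicit false

/-! S2332, piece PERM: the nontrivial constituents of the permutation character of `SL_m(q)` on
the nonzero vectors have degree at least `(q^m - q)/(q - 1)`, with equality attained. -/

namespace Cfsg.Agent.Helper12.LSL

open Matrix Cfsg Cfsg.Agent.Helper12 Cfsg.Agent.Helper24 MulAction

variable {F : Type*} [Field F] {m : ℕ}

/-- the line characters `Ind θ` (`θ ≠ 1`) and `Ind 1 - 1` are irreducible (from the proof of S2336) -/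
theorem lineChar_irr [Fintype F] [DecidableEq F] (n : ℕ) (hn : 3 ≤ n) (i0 i1 : Fin n)
    (h01 : i0 ≠ i1) :
    (∀ θ : MulChar F ℂ, θ ≠ 1 →
      Cfsg.IsIrrCharacter (Matrix.SpecialLinearGroup (Fin n) F) (lineChar i0 θ)) ∧
    Cfsg.IsIrrCharacter (Matrix.SpecialLinearGroup (Fin n) F)
      (lineChar i0 (1 : MulChar F ℂ) - 1) := by
  classical
  have hn2 : 2 ≤ n := by omega
  have : Fintype (MulChar F ℂ) := Fintype.ofFinite _
  have : Fintype (Cfsg.IrrCharacter (Matrix.SpecialLinearGroup (Fin n) F)) := Fintype.ofFinite _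
  let π : Matrix.SpecialLinearGroup (Fin n) F → ℂ :=
    fun g => (Nat.card (fixedBy (NzVec n F) g) : ℂ)
  have hsum : ∀ g, ∑ θ : MulChar F ℂ, lineChar i0 θ g = π g := sum_lineChar hn2 i0 i1 h01
  have hsumf : π = ∑ θ : MulChar F ℂ, lineChar i0 θ := by
    funext g
    rw [Finset.sum_apply]
    exact (hsum g).symm
  have hchar : ∀ θ : MulChar F ℂ, Cfsg.IsCharacter (Matrix.SpecialLinearGroup (Fin n) F)
      (lineChar i0 θ) := lineChar_isCharacter i0
  have hnorm : Cfsg.classInner π π = (Fintype.card F : ℂ) := by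
    rw [Cfsg.Agent.S2336.classInner_permChar_self, card_orbits_pairs hn]
  have hnat : ∀ θ θ' : MulChar F ℂ, ∃ m : ℕ,
      Cfsg.classInner (lineChar i0 θ) (lineChar i0 θ') = m :=
    fun θ θ' => IsCharacter.classInner_nat (hchar θ) (hchar θ')
  choose N hN using hnat
  have hexp : ∑ θ, ∑ θ', N θ θ' = Fintype.card F := by
    have h1 : ((∑ θ, ∑ θ', N θ θ' : ℕ) : ℂ) = (Fintype.card F : ℂ) := by
      rw [← hnorm, hsumf, classInner_sum_left]
      push_cast
      apply Finset.sum_congr rfl
      intro θ _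
      rw [classInner_sum_right]
      apply Finset.sum_congr rfl
      intro θ' _
      exact (hN θ θ').symm
    exact_mod_cast h1
  -- the principal line character is a permutation character
  have hπ1 : lineChar i0 (1 : MulChar F ℂ) =
      fun g => (Nat.card (fixedBy (Matrix.SpecialLinearGroup (Fin n) F ⧸ lineStab (F := F) i0) g) : ℂ) := by
    funext g
    rw [← Cfsg.Agent.Helper5.indFun_one_eq_card_fixedBy]
    unfold lineChar
    congr 1
    funext h
    exact MulChar.one_apply (Ne.isUnit (lamF_ne_zero i0 h))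
  have hindex : 2 ≤ (lineStab (F := F) i0).index := by
    have h0 : (lineStab (F := F) i0).index ≠ 0 := Subgroup.index_ne_zero_of_finite
    have h1 : (lineStab (F := F) i0).index ≠ 1 := by
      rw [Ne, Subgroup.index_eq_one]
      intro htop
      let t : Matrix.SpecialLinearGroup (Fin n) F :=
        ⟨Matrix.transvection i1 i0 (1 : F), Matrix.det_transvection_of_ne i1 i0 h01.symm 1⟩
      have hmem : t ∈ lineStab (F := F) i0 := by
        rw [htop]; exact Subgroup.mem_top _
      obtain ⟨c, hc⟩ := hmem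
      have := congrFun hc i1
      rw [mulVec_stdVec] at this
      simp [t, Matrix.transvection, stdVec, Pi.single_eq_of_ne h01.symm,
        Matrix.one_apply_ne h01.symm] at this
    omega
  have hX2 : 2 ≤ Nat.card (Matrix.SpecialLinearGroup (Fin n) F ⧸ lineStab (F := F) i0) := hindex
  have hr2 : 2 ≤ Nat.card (orbitRel.Quotient (Matrix.SpecialLinearGroup (Fin n) F)
      ((Matrix.SpecialLinearGroup (Fin n) F ⧸ lineStab (F := F) i0) ×
        (Matrix.SpecialLinearGroup (Fin n) F ⧸ lineStab (F := F) i0))) := by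
    have := Nat.card_le_card_of_surjective _
      (diagOrbit_surjective (G := Matrix.SpecialLinearGroup (Fin n) F) hX2)
    simpa using this
  have hN11 : N 1 1 = Nat.card (orbitRel.Quotient (Matrix.SpecialLinearGroup (Fin n) F)
      ((Matrix.SpecialLinearGroup (Fin n) F ⧸ lineStab (F := F) i0) ×
        (Matrix.SpecialLinearGroup (Fin n) F ⧸ lineStab (F := F) i0))) := by
    have := hN 1 1
    rw [hπ1, Cfsg.Agent.S2336.classInner_permChar_self] at this
    exact_mod_cast this.symm
  have hdiag : ∀ θ, 1 ≤ N θ θ := by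
    intro θ
    by_contra h
    have h0 : N θ θ = 0 := by omega
    have hz : lineChar i0 θ = 0 :=
      Cfsg.Agent.S2336.eq_zero_of_classInner_self_eq_zero _ (by rw [hN, h0]; simp)
    have h1 := congrFun hz 1
    rw [lineChar, Cfsg.Agent.Helper5.indFun_apply_one, map_one, map_one, mul_one,
      Pi.zero_apply] at h1
    have : (lineStab (F := F) i0).index = 0 := by exact_mod_cast h1
    omega
  have hcard : Fintype.card (MulChar F ℂ) = Fintype.card F - 1 := by
    rw [← Nat.card_eq_fintype_card, card_mulChar]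
  have hq2 : 2 ≤ Fintype.card F := by
    have := Fintype.one_lt_card (α := F)
    omega
  -- split the double sum
  have hsplit : ∑ θ, ∑ θ', N θ θ' =
      (∑ θ, N θ θ) + ∑ θ, ∑ θ' ∈ Finset.univ.erase θ, N θ θ' := by
    rw [← Finset.sum_add_distrib]
    apply Finset.sum_congr rfl
    intro θ _
    exact (Finset.add_sum_erase _ _ (Finset.mem_univ θ)).symm
  have hA : ∑ θ, N θ θ = N 1 1 + ∑ θ ∈ Finset.univ.erase (1 : MulChar F ℂ), N θ θ :=
    (Finset.add_sum_erase _ _ (Finset.mem_univ _)).symm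
  have hA2 : ∑ _θ ∈ Finset.univ.erase (1 : MulChar F ℂ), 1 ≤
      ∑ θ ∈ Finset.univ.erase (1 : MulChar F ℂ), N θ θ :=
    Finset.sum_le_sum (fun θ _ => hdiag θ)
  have hA3 : ∑ _θ ∈ Finset.univ.erase (1 : MulChar F ℂ), 1 = Fintype.card F - 2 := by
    rw [Finset.sum_const, Finset.card_erase_of_mem (Finset.mem_univ _), Finset.card_univ, hcard]
    simp
    omega
  have h11 : 2 ≤ N 1 1 := by rw [hN11]; exact hr2
  have hN11' : N 1 1 = 2 := by omega
  have hoff0 : ∑ θ, ∑ θ' ∈ Finset.univ.erase θ, N θ θ' = 0 := by omega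
  have hdiag1 : ∑ θ ∈ Finset.univ.erase (1 : MulChar F ℂ), N θ θ =
      ∑ _θ ∈ Finset.univ.erase (1 : MulChar F ℂ), 1 := by omega
  have hone : ∀ θ : MulChar F ℂ, θ ≠ 1 → N θ θ = 1 := by
    intro θ hθ
    have := (Finset.sum_eq_sum_iff_of_le (fun θ _ => hdiag θ)).1 hdiag1.symm θ
      (Finset.mem_erase.2 ⟨hθ, Finset.mem_univ _⟩)
    exact this.symm
  refine ⟨?_, ?_⟩
  · intro θ hθ
    rw [isIrrCharacter_iff_classInner_self]
    exact ⟨hchar θ, by rw [hN, hone θ hθ]; simp⟩
  · have hgen : Cfsg.IsGeneralizedCharacter (Matrix.SpecialLinearGroup (Fin n) F)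
        (lineChar i0 (1 : MulChar F ℂ) - 1) :=
      ⟨_, _, hchar 1, isCharacter_const_one, rfl⟩
    refine IsGeneralizedCharacter.isIrrCharacter_of_classInner_self hgen ?_ ?_
    · have h1 := classInner_permChar_sub_one (G := Matrix.SpecialLinearGroup (Fin n) F)
        (Matrix.SpecialLinearGroup (Fin n) F ⧸ lineStab (F := F) i0)
      have h2 : (lineChar i0 (1 : MulChar F ℂ) - 1) = fun g =>
          (Nat.card (fixedBy (Matrix.SpecialLinearGroup (Fin n) F ⧸ lineStab (F := F) i0) g) : ℂ) - 1 := by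
        rw [hπ1]; rfl
      rw [h2, h1, ← hN11, hN11']
      norm_num
    · rw [Pi.sub_apply, lineChar, Cfsg.Agent.Helper5.indFun_apply_one, map_one, map_one, mul_one]
      simp only [Pi.one_apply, Complex.sub_re, Complex.natCast_re, Complex.one_re]
      have : (2 : ℝ) ≤ ((lineStab (F := F) i0).index : ℝ) := by exact_mod_cast hindex
      linarith

theorem card_nzVec_eq [Fintype F] [DecidableEq F] (n : ℕ) :
    Nat.card (NzVec n F) = Fintype.card F ^ n - 1 := by
  rw [Nat.card_eq_fintype_card, Fintype.card_subtype_compl, Fintype.card_subtype_eq,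
    Fintype.card_fun, Fintype.card_fin]

theorem lineChar_one [Fintype F] [DecidableEq F] (n : ℕ) (i0 : Fin n) (θ : MulChar F ℂ) :
    lineChar i0 θ 1 = ((lineStab (F := F) i0).index : ℂ) := by
  rw [lineChar, Cfsg.Agent.Helper5.indFun_apply_one, map_one, map_one, mul_one]

/-- `[SL_n : line stabiliser] (q - 1) = q^n - 1` -/
theorem index_lineStab [Fintype F] [DecidableEq F] (n : ℕ) (hn : 2 ≤ n) (i0 i1 : Fin n)
    (h01 : i0 ≠ i1) :
    (lineStab (F := F) i0).index * (Fintype.card F - 1) = Fintype.card F ^ n - 1 := by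
  classical
  have : Fintype (MulChar F ℂ) := Fintype.ofFinite _
  have h := sum_lineChar hn i0 i1 h01 (1 : Matrix.SpecialLinearGroup (Fin n) F)
  rw [Finset.sum_congr rfl (fun θ _ => lineChar_one n i0 θ), Finset.sum_const, Finset.card_univ,
    nsmul_eq_mul, fixedBy_one_eq_univ, Nat.card_congr (Equiv.Set.univ _), card_nzVec_eq] at h
  have hcard : Fintype.card (MulChar F ℂ) = Fintype.card F - 1 := by
    rw [← Nat.card_eq_fintype_card, card_mulChar]
  rw [hcard] at h
  have h2 : (((Fintype.card F - 1) * (lineStab (F := F) i0).index : ℕ) : ℂ) =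
      ((Fintype.card F ^ n - 1 : ℕ) : ℂ) := by
    rw [← h]
    push_cast
    rfl
  have h3 : (Fintype.card F - 1) * (lineStab (F := F) i0).index = Fintype.card F ^ n - 1 := by
    exact_mod_cast h2
  rw [mul_comm]
  exact h3

theorem div_eq_index_sub_one (q n I : ℕ) (hq : 2 ≤ q) (hn : 1 ≤ n) (hI : I * (q - 1) = q ^ n - 1) :
    (q ^ n - q) / (q - 1) = I - 1 := by
  have hq1 : 0 < q - 1 := by omega
  apply Nat.div_eq_of_eq_mul_left hq1
  have hqn : q ≤ q ^ n := by
    calc q = q ^ 1 := (pow_one q).symm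
      _ ≤ q ^ n := Nat.pow_le_pow_right (by omega) hn
  rw [Nat.sub_mul, one_mul, hI]
  omega

/-- the stabiliser `stabV v` is the stabiliser of `v` for the action on nonzero vectors -/
theorem stabV_eq_stabilizer (v : Fin m → F) (hv : v ≠ 0) :
    stabV v = stabilizer (Matrix.SpecialLinearGroup (Fin m) F) (⟨v, hv⟩ : NzVec m F) := by
  ext A
  rw [mem_stabV, mem_stabilizer_iff, Subtype.ext_iff]
  rfl

theorem perm_constituent_degree [Fintype F] [DecidableEq F] (hm : 3 ≤ m) (v : Fin m → F)
    (hv : v ≠ 0) (ψ : MM m F → ℂ) (hψ : IsIrrCharacter (MM m F) ψ) (hne : ψ ≠ fun _ => 1)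
    (h : classInner (indFun (stabV v) (fun _ => (1 : ℂ))) ψ ≠ 0) :
    ∃ d : ℕ, ψ 1 = d ∧ (Fintype.card F ^ m - Fintype.card F) / (Fintype.card F - 1) ≤ d := by
  classical
  have hm2 : 2 ≤ m := by omega
  have hq2 : 2 ≤ Fintype.card F := Fintype.one_lt_card
  let i0 : Fin m := ⟨0, by omega⟩
  let i1 : Fin m := ⟨1, by omega⟩
  have h01 : i0 ≠ i1 := by
    intro h
    have := congrArg Fin.val h
    simp [i0, i1] at this
  have : Fintype (MulChar F ℂ) := Fintype.ofFinite _
  obtain ⟨hirr, hirr0⟩ := lineChar_irr (F := F) m hm i0 i1 h01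
  have hidx := index_lineStab (F := F) m hm2 i0 i1 h01
  have hdiv := div_eq_index_sub_one (Fintype.card F) m _ hq2 (by omega) hidx
  have hpre := nzVec_isPretransitive (F := F) hm2
  have hπ : indFun (stabV v) (fun _ => (1 : ℂ)) = ∑ θ : MulChar F ℂ, lineChar i0 θ := by
    rw [stabV_eq_stabilizer v hv, ← permChar_eq_indFun (NzVec m F) (⟨v, hv⟩ : NzVec m F)]
    funext g
    rw [Finset.sum_apply]
    exact (sum_lineChar hm2 i0 i1 h01 g).symm
  rw [hπ, classInner_sum_left] at h
  obtain ⟨θ, -, hθ⟩ := Finset.exists_ne_zero_of_sum_ne_zero h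
  by_cases hθ1 : θ = 1
  · subst hθ1
    have h1 : lineChar i0 (1 : MulChar F ℂ) = (lineChar i0 (1 : MulChar F ℂ) - 1) + 1 := by ring
    rw [h1, classInner_add_left] at hθ
    have h2 : classInner (1 : MM m F → ℂ) ψ = 0 := by
      have hone : IsIrrCharacter (MM m F) (1 : MM m F → ℂ) := by
        have := isIrrCharacter_of_monoidHom (1 : MM m F →* ℂ)
        exact this
      rw [classInner_of_isIrrCharacter hone hψ, if_neg]
      intro h3
      exact hne h3.symm
    rw [h2, add_zero, classInner_of_isIrrCharacter hirr0 hψ] at hθ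
    have h3 : lineChar i0 (1 : MulChar F ℂ) - 1 = ψ := by
      by_contra h4
      rw [if_neg h4] at hθ
      exact hθ rfl
    refine ⟨(lineStab (F := F) i0).index - 1, ?_, by rw [hdiv]⟩
    rw [← h3, Pi.sub_apply, lineChar_one, Pi.one_apply]
    have hI : 1 ≤ (lineStab (F := F) i0).index :=
      Nat.one_le_iff_ne_zero.mpr Subgroup.index_ne_zero_of_finite
    push_cast [Nat.cast_sub hI]
    rfl
  · rw [classInner_of_isIrrCharacter (hirr θ hθ1) hψ] at hθ
    have h3 : lineChar i0 θ = ψ := by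
      by_contra h4
      rw [if_neg h4] at hθ
      exact hθ rfl
    refine ⟨(lineStab (F := F) i0).index, ?_, by rw [hdiv]; omega⟩
    rw [← h3, lineChar_one]

theorem exists_irr_degree [Fintype F] [DecidableEq F] (hm : 3 ≤ m) :
    ∃ ψ : MM m F → ℂ, IsIrrCharacter (MM m F) ψ ∧
      ψ 1 = (((Fintype.card F ^ m - Fintype.card F) / (Fintype.card F - 1) : ℕ) : ℂ) := by
  classical
  have hm2 : 2 ≤ m := by omega
  have hq2 : 2 ≤ Fintype.card F := Fintype.one_lt_card
  let i0 : Fin m := ⟨0, by omega⟩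
  let i1 : Fin m := ⟨1, by omega⟩
  have h01 : i0 ≠ i1 := by
    intro h
    have := congrArg Fin.val h
    simp [i0, i1] at this
  obtain ⟨-, hirr0⟩ := lineChar_irr (F := F) m hm i0 i1 h01
  have hidx := index_lineStab (F := F) m hm2 i0 i1 h01
  have hdiv := div_eq_index_sub_one (Fintype.card F) m _ hq2 (by omega) hidx
  refine ⟨_, hirr0, ?_⟩
  rw [hdiv, Pi.sub_apply, lineChar_one, Pi.one_apply]
  have hI : 1 ≤ (lineStab (F := F) i0).index :=
    Nat.one_le_iff_ne_zero.mpr Subgroup.index_ne_zero_of_finite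
  push_cast [Nat.cast_sub hI]
  rfl

end Cfsg.Agent.Helper12.LSL
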