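import Mathlib
import Cfsg.Prelude.Def_Characters
import Cfsg.Agent.Helper12.LSLDefs
import Cfsg.Agent.Helper22.LSLHOMFIX
import Cfsg.Agent.Helper12.LSLCommon
import Cfsg.Agent.Helper12.LSLMainA
import Cfsg.Agent.Helper12.LSLPerm
import Cfsg.Agent.Helper18.LSLPROJA
import Cfsg.Agent.Helper18.LSLPROJB
import Cfsg.Agent.Helper18.LSLPROJC
import Cfsg.Agent.Helper18.LSLLINE
import Cfsg.Agent.Helper18.LSLTRACE
import Cfsg.Agent.Helper22.LSLINTEG
import Cfsg.Agent.Helper22.LSLARITHA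
import Cfsg.Agent.Helper19.LSLARITHB
import Cfsg.Agent.Helper7.LSLTCOUNT
import Cfsg.Agent.Helper22.LSLFIXG

set_option autoImplicit false

/-! S2332: the main argument for `SL_{m+1}(q)`, `m ≥ 3`. -/

namespace Cfsg.Agent.Helper12.LSL

open Matrix Cfsg

variable {F : Type*} [Field F] {m : ℕ}

theorem uQhom_mem_tvSet (b : Multiplicative (Fin m → F)) (hb : b ≠ 1) :
    uQhom b ∈ tvSet (Unit ⊕ Fin m) F := by
  rw [uQhom_apply]
  apply uQ_mem_tvSet
  intro h0
  exact hb (Multiplicative.toAdd.injective h0)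

theorem uQmhom_mem_tvSet (b : Multiplicative (Fin m → F)) (hb : b ≠ 1) :
    uQmhom b ∈ tvSet (Unit ⊕ Fin m) F := by
  rw [uQmhom_apply]
  apply uQm_mem_tvSet
  intro h0
  exact hb (Multiplicative.toAdd.injective h0)

/-- the fixed space of `Q⁻` is invariant under the Levi factor -/
theorem lev_range_projOp_uQm {k : ℕ} (ρ : Representation ℂ (GG m F) (Fin k → ℂ)) [Fintype F]
    (ψ : AddChar F ℂ) (A : MM m F) (y : Fin k → ℂ)
    (hy : y ∈ LinearMap.range (projOp ρ uQmhom (lamQ ψ (0 : Fin m → F)))) :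
    ρ (lev A) y ∈ LinearMap.range (projOp ρ uQmhom (lamQ ψ (0 : Fin m → F))) := by
  obtain ⟨y0, rfl⟩ := hy
  have h := rho_conj_projOp ρ uQmhom (lamQ ψ (0 : Fin m → F)) (lamQ ψ (0 : Fin m → F)) (lev A)
    (eqW A) (uQmhom_eqW A) (fun a => by rw [lamQ_zero, lamQ_zero])
  have h2 := LinearMap.congr_fun h y0
  rw [LinearMap.comp_apply, LinearMap.comp_apply] at h2
  rw [h2]
  exact ⟨_, rfl⟩

/-- the elementary transvection `1 + E₀₁` of `SL_m` -/
def u01 (hm : 2 ≤ m) : MM m F :=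
  ⟨Matrix.transvection (⟨0, by omega⟩ : Fin m) ⟨1, by omega⟩ 1,
    Matrix.det_transvection_of_ne _ _ (by intro h; simpa using congrArg Fin.val h) _⟩

theorem lev_u01_mem_tvSet (hm : 2 ≤ m) : lev (u01 hm : MM m F) ∈ tvSet (Unit ⊕ Fin m) F := by
  apply lev_mem_tvSet
  apply single_mem_tvSet (u01 hm) (⟨0, by omega⟩ : Fin m) ⟨1, by omega⟩
    (by intro h; simpa using congrArg Fin.val h) 1 one_ne_zero
  rfl

/-- **M1**: the Levi factor acts nontrivially on the fixed space of `Q⁻`. -/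
theorem exists_not_fixed [Fintype F] [DecidableEq F] (hm : 3 ≤ m)
    (hq : m = 3 → 4 ≤ Fintype.card F) (k : ℕ)
    (ρ : Representation ℂ (GG m F) (Fin k → ℂ)) (ψ : AddChar F ℂ) (hψ : ψ 1 ≠ 1) (c : ℕ)
    (hχ : ∀ g ∈ tvSet (Unit ⊕ Fin m) F, ρ.character g = (c : ℂ) - 1)
    (hmult : ∀ v : Fin m → F,
      classInner (fun b => ρ.character (uQmhom b)) (fun b => lamQ ψ v b) =
        if v = 0 then (c : ℂ) else 1) :
    ∃ (A : MM m F) (y : Fin k → ℂ),
      y ∈ LinearMap.range (projOp ρ uQmhom (lamQ ψ (0 : Fin m → F))) ∧ ρ (lev A) y ≠ y := by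
  classical
  by_contra hcon
  push Not at hcon
  have hm2 : 2 ≤ m := by omega
  set u₀ : MM m F := u01 hm2 with hu₀
  have hcard : Fintype.card (Fin m → F) = Fintype.card (Multiplicative (Fin m → F)) :=
    (Fintype.card_multiplicative _).symm
  have htr := trace_rho_eq_sum ρ uQmhom (lamQ ψ) (lamQ_injective ψ hψ) (lamQ_orth ψ hψ) hcard
    (lev u₀) (eqW u₀) (uQmhom_eqW u₀)
    (fun w => w ᵥ* ((u₀⁻¹ : MM m F) : Matrix (Fin m) (Fin m) F)) (fun w b => lamQ_eqW ψ u₀ w b)
  rw [hχ _ (lev_u01_mem_tvSet hm2)] at htr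
  have hterm : ∀ w ∈ Finset.univ.filter
      (fun w : Fin m → F => w ᵥ* ((u₀⁻¹ : MM m F) : Matrix (Fin m) (Fin m) F) = w),
      LinearMap.trace ℂ (Fin k → ℂ) (ρ (lev u₀) ∘ₗ projOp ρ uQmhom (lamQ ψ w)) =
        if w = 0 then (c : ℂ) else 1 := by
    intro w hw
    rw [Finset.mem_filter] at hw
    have hfix : ∀ y ∈ LinearMap.range (projOp ρ uQmhom (lamQ ψ w)), ρ (lev u₀) y = y := by
      by_cases hw0 : w = 0
      · intro y hy
        rw [hw0] at hy
        exact hcon u₀ y hy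
      · intro y hy
        have htr1 : LinearMap.trace ℂ (Fin k → ℂ) (projOp ρ uQmhom (lamQ ψ w)) = 1 := by
          rw [trace_projOp, hmult w, if_neg hw0]
        have hst : u₀ ∈ stabW w := by
          have h1 : u₀⁻¹ ∈ stabW w := (mem_stabW w _).mpr hw.2
          have h2 := (stabW w).inv_mem h1
          rwa [inv_inv] at h2
        exact line_fixed ρ uQmhom (lamQ ψ w) htr1 (lev u₀)
          (lev_mem_commutator_fixer_uQm hm hq ψ w hw0 u₀ hst) y hy
    rw [trace_rho_comp_projOp_of_fixed ρ uQmhom (lamQ ψ w) (lev u₀) hfix, trace_projOp, hmult w]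
  rw [Finset.sum_congr rfl hterm] at htr
  have h0mem : (0 : Fin m → F) ∈ Finset.univ.filter
      (fun w : Fin m → F => w ᵥ* ((u₀⁻¹ : MM m F) : Matrix (Fin m) (Fin m) F) = w) := by
    rw [Finset.mem_filter]
    exact ⟨Finset.mem_univ _, zero_vecMul _⟩
  rw [← Finset.add_sum_erase _ _ h0mem, if_pos rfl] at htr
  have hrest : ∑ w ∈ (Finset.univ.filter
      (fun w : Fin m → F => w ᵥ* ((u₀⁻¹ : MM m F) : Matrix (Fin m) (Fin m) F) = w)).erase 0,
      (if w = 0 then (c : ℂ) else 1) = (((Finset.univ.filter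
      (fun w : Fin m → F => w ᵥ* ((u₀⁻¹ : MM m F) : Matrix (Fin m) (Fin m) F) = w)).erase
        0).card : ℂ) := by
    rw [Finset.sum_congr rfl (fun w hw => if_neg (Finset.ne_of_mem_erase hw)), Finset.sum_const,
      nsmul_eq_mul, mul_one]
  rw [hrest] at htr
  have h3 : ((((Finset.univ.filter
      (fun w : Fin m → F => w ᵥ* ((u₀⁻¹ : MM m F) : Matrix (Fin m) (Fin m) F) = w)).erase
        0).card + 1 : ℕ) : ℂ) = 0 := by
    push_cast
    linear_combination -htr
  have h4 : ((Finset.univ.filter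
      (fun w : Fin m → F => w ᵥ* ((u₀⁻¹ : MM m F) : Matrix (Fin m) (Fin m) F) = w)).erase
        0).card + 1 = 0 := by exact_mod_cast h3
  omega

/-- **M2**: a nonzero vector of the fixed space of `Q⁻`, fixed by a vector stabiliser of the Levi
factor, with zero average over the Levi factor. -/
theorem exists_good_vector [Fintype F] [DecidableEq F] (hm : 3 ≤ m)
    (hq : m = 3 → 4 ≤ Fintype.card F) (k : ℕ)
    (ρ : Representation ℂ (GG m F) (Fin k → ℂ)) (hρ : ρ.IsIrreducible) (hk : 2 ≤ k)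
    (ψ : AddChar F ℂ) (hψ : ψ 1 ≠ 1) (c : ℕ)
    (hmult : ∀ v : Fin m → F,
      classInner (fun b => ρ.character (uQhom b)) (fun b => lamQ ψ v b) =
        if v = 0 then (c : ℂ) else 1)
    (A₀ : MM m F) (y₀ : Fin k → ℂ)
    (hy₀ : y₀ ∈ LinearMap.range (projOp ρ uQmhom (lamQ ψ (0 : Fin m → F))))
    (hne : ρ (lev A₀) y₀ ≠ y₀) :
    ∃ (v : Fin m → F) (y' : Fin k → ℂ), v ≠ 0 ∧
      y' ∈ LinearMap.range (projOp ρ uQmhom (lamQ ψ (0 : Fin m → F))) ∧ y' ≠ 0 ∧
      (∀ B ∈ stabV v, ρ (lev B) y' = y') ∧ ∑ A : MM m F, ρ (lev A) y' = 0 := by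
  classical
  set W := LinearMap.range (projOp ρ uQmhom (lamQ ψ (0 : Fin m → F))) with hW
  have hmul : ∀ (A B : MM m F) (z : Fin k → ℂ), ρ (lev A) (ρ (lev B) z) = ρ (lev (A * B)) z := by
    intro A B z
    rw [← lev_mul, map_mul]
    rfl
  set y : Fin k → ℂ := ρ (lev A₀) y₀ - y₀ with hy
  have hy0 : y ≠ 0 := sub_ne_zero.mpr hne
  have hyW : y ∈ W := W.sub_mem (lev_range_projOp_uQm ρ ψ A₀ y₀ hy₀) hy₀
  have hsum : ∑ A : MM m F, ρ (lev A) y = 0 := by
    rw [hy]
    simp only [map_sub, Finset.sum_sub_distrib]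
    rw [sub_eq_zero]
    exact Fintype.sum_equiv (Equiv.mulRight A₀) _ _ (fun A => hmul A A₀ y₀)
  have hsumR : ∀ B : MM m F, ∑ A : MM m F, ρ (lev (A * B)) y = 0 := by
    intro B
    rw [← hsum]
    exact Fintype.sum_equiv (Equiv.mulRight B) _ _ (fun A => rfl)
  have hcard : Fintype.card (Fin m → F) = Fintype.card (Multiplicative (Fin m → F)) :=
    (Fintype.card_multiplicative _).symm
  -- a `Q`-component of `y` outside the fixed space
  obtain ⟨v, hv, hpv⟩ : ∃ v : Fin m → F, v ≠ 0 ∧ projOp ρ uQhom (lamQ ψ v) y ≠ 0 := by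
    by_contra hcon
    push Not at hcon
    have hid := sum_projOp ρ uQhom (lamQ ψ) (lamQ_orth ψ hψ) hcard
    have h1 := LinearMap.congr_fun hid y
    rw [LinearMap.sum_apply, LinearMap.id_apply,
      Finset.sum_eq_single (0 : Fin m → F) (fun v _ hv => hcon v hv)
        (fun h => absurd (Finset.mem_univ _) h)] at h1
    have hQ : ∀ b, ρ (uQ b) y = y := by
      intro b
      have h2 := LinearMap.congr_fun
        (rho_comp_projOp ρ uQhom (lamQ ψ (0 : Fin m → F)) (Multiplicative.ofAdd b)) y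
      rw [LinearMap.comp_apply, LinearMap.smul_apply, lamQ_zero, one_smul, h1] at h2
      exact h2
    have hQm : ∀ b, ρ (uQm b) y = y := by
      intro b
      obtain ⟨z, hz⟩ := hyW
      have h2 := LinearMap.congr_fun
        (rho_comp_projOp ρ uQmhom (lamQ ψ (0 : Fin m → F)) (Multiplicative.ofAdd b)) z
      rw [LinearMap.comp_apply, LinearMap.smul_apply, lamQ_zero, one_smul, hz] at h2
      exact h2
    exact hy0 (eq_zero_of_fixed (by omega) k ρ hρ hk y hQ hQm)
  haveI : Fintype (stabV v) := Fintype.ofFinite _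
  refine ⟨v, ∑ B : stabV v, ρ (lev B.1) y, hv, ?_, ?_, ?_, ?_⟩
  · exact W.sum_mem (fun B _ => lev_range_projOp_uQm ρ ψ B.1 y hyW)
  · intro h0
    have h1 : projOp ρ uQhom (lamQ ψ v) (∑ B : stabV v, ρ (lev B.1) y) =
        (Fintype.card (stabV v) : ℂ) • projOp ρ uQhom (lamQ ψ v) y := by
      rw [map_sum]
      have hB : ∀ B : stabV v, projOp ρ uQhom (lamQ ψ v) (ρ (lev B.1) y) =
          projOp ρ uQhom (lamQ ψ v) y := by
        intro B
        have hcomm := rho_conj_projOp ρ uQhom (lamQ ψ v) (lamQ ψ v) (lev B.1) (eqV B.1)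
          (uQhom_eqV B.1) (fun a => by
            have h := lamQ_eqV ψ B.1 v a
            rw [(mem_stabV v B.1).mp B.2] at h
            exact h)
        have h2 := LinearMap.congr_fun hcomm y
        rw [LinearMap.comp_apply, LinearMap.comp_apply] at h2
        rw [← h2]
        have htr1 : LinearMap.trace ℂ (Fin k → ℂ) (projOp ρ uQhom (lamQ ψ v)) = 1 := by
          rw [trace_projOp, hmult v, if_neg hv]
        exact line_fixed ρ uQhom (lamQ ψ v) htr1 (lev B.1)
          (lev_mem_commutator_fixer_uQ hm hq ψ v hv B.1 B.2) _ ⟨y, rfl⟩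
      rw [Finset.sum_congr rfl (fun B _ => hB B), Finset.sum_const, Finset.card_univ,
        ← Nat.cast_smul_eq_nsmul ℂ]
    rw [h0, map_zero] at h1
    have hc0 : (Fintype.card (stabV v) : ℂ) ≠ 0 := by
      exact_mod_cast Fintype.card_ne_zero
    exact hpv ((smul_eq_zero.mp h1.symm).resolve_left hc0)
  · intro B' hB'
    rw [map_sum]
    simp only [hmul]
    exact Fintype.sum_equiv (Equiv.mulLeft (⟨B', hB'⟩ : stabV v)) _ _ (fun B => rfl)
  · simp only [map_sum, hmul]
    rw [Finset.sum_comm]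
    exact Finset.sum_eq_zero (fun B _ => hsumR B.1)

/-- **M3**: the fixed space of `Q⁻` has dimension at least `(q^m - q)/(q - 1)`. -/
theorem c_ge [Fintype F] [DecidableEq F] (hm : 3 ≤ m)
    (hq : m = 3 → 4 ≤ Fintype.card F) (k : ℕ)
    (ρ : Representation ℂ (GG m F) (Fin k → ℂ)) (hρ : ρ.IsIrreducible) (hk : 2 ≤ k)
    (ψ : AddChar F ℂ) (hψ : ψ 1 ≠ 1) (c : ℕ)
    (hχ : ∀ g ∈ tvSet (Unit ⊕ Fin m) F, ρ.character g = (c : ℂ) - 1)
    (hmultQ : ∀ v : Fin m → F,
      classInner (fun b => ρ.character (uQhom b)) (fun b => lamQ ψ v b) =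
        if v = 0 then (c : ℂ) else 1)
    (hmultQm : ∀ v : Fin m → F,
      classInner (fun b => ρ.character (uQmhom b)) (fun b => lamQ ψ v b) =
        if v = 0 then (c : ℂ) else 1) :
    (Fintype.card F ^ m - Fintype.card F) / (Fintype.card F - 1) ≤ c := by
  classical
  obtain ⟨A₀, y₀, hy₀, hne⟩ := exists_not_fixed hm hq k ρ ψ hψ c hχ hmultQm
  obtain ⟨v, y', hv, hyW, hy0, hK, hM⟩ :=
    exists_good_vector hm hq k ρ hρ hk ψ hψ c hmultQ A₀ y₀ hy₀ hne
  set σ : Representation ℂ (MM m F) (Fin k → ℂ) := MonoidHom.comp ρ levhom with hσ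
  have hσa : ∀ (A : MM m F) (z : Fin k → ℂ), σ A z = ρ (lev A) z := fun A z => rfl
  obtain ⟨ψ', hirr, hne1, hind, d, hd, hdW⟩ := exists_irr_of_fixed σ
    (LinearMap.range (projOp ρ uQmhom (lamQ ψ (0 : Fin m → F))))
    (fun g w hw => lev_range_projOp_uQm ρ ψ g w hw) (stabV v) y' hyW hy0
    (fun g hg => hK g hg) hM
  obtain ⟨d', hd', hbound⟩ := perm_constituent_degree hm v hv ψ' hirr hne1 hind
  have hdd : d = d' := by
    have : (d : ℂ) = d' := by rw [← hd, ← hd']
    exact_mod_cast this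
  have hfin : Module.finrank ℂ (LinearMap.range (projOp ρ uQmhom (lamQ ψ (0 : Fin m → F)))) = c := by
    have h1 := finrank_range_projOp ρ uQmhom (lamQ ψ (0 : Fin m → F))
    rw [trace_projOp, hmultQm 0, if_pos rfl] at h1
    exact_mod_cast h1
  rw [hfin] at hdW
  omega

/-- **M4**: equality `c = (q^m - q)/(q - 1)` contradicts the integrality of the central character
on the class sum of transvections. -/
theorem c_ne [Fintype F] [DecidableEq F] (hm : 2 ≤ m) (k : ℕ)
    (ρ : Representation ℂ (GG m F) (Fin k → ℂ)) (hρ : ρ.IsIrreducible) (c : ℕ)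
    (hkc : k = c + (Fintype.card F ^ m - 1))
    (hχ : ∀ g ∈ tvSet (Unit ⊕ Fin m) F, ρ.character g = (c : ℂ) - 1) :
    c ≠ (Fintype.card F ^ m - Fintype.card F) / (Fintype.card F - 1) := by
  classical
  intro hc
  have hq1 : 1 < Fintype.card F := Fintype.one_lt_card
  have hfinT : (tvSet (Unit ⊕ Fin m) F).Finite := Set.toFinite _
  have hdvd := dvd_of_conj_invariant k ρ hρ hfinT.toFinset
    (fun g h hg => by
      rw [Set.Finite.mem_toFinset] at hg ⊢
      exact tvSet_conj g h hg) ((c : ℤ) - 1)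
    (fun g hg => by
      rw [Set.Finite.mem_toFinset] at hg
      rw [hχ g hg]
      push_cast
      ring)
  have hcι : Fintype.card (Unit ⊕ Fin m) = m + 1 := by
    rw [Fintype.card_sum, Fintype.card_unit, Fintype.card_fin, add_comm]
  have hT := card_tvSet (F := F) (Unit ⊕ Fin m) (by rw [hcι]; omega)
  rw [hcι, Nat.add_sub_cancel, Nat.card_coe_set_eq, Set.ncard_eq_toFinset_card _ hfinT] at hT
  have hk' : k = Fintype.card F ^ m - 1 +
      (Fintype.card F ^ m - Fintype.card F) / (Fintype.card F - 1) := by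
    rw [hkc, ← hc, add_comm]
  refine arith_div (Fintype.card F) m (by omega) hm k hfinT.toFinset.card hk' hT ?_
  have hqm : 1 ≤ Fintype.card F ^ m := Nat.one_le_pow _ _ (by omega)
  have h1 : ((c : ℤ) - 1) = (k : ℤ) - (Fintype.card F : ℤ) ^ m := by
    rw [hkc]
    push_cast [Nat.cast_sub hqm]
    ring
  rw [← h1]
  exact hdvd

/-- **S2332, main case**: every irreducible representation of degree `≥ 2` of `SL_{m+1}(q)`,
`m ≥ 3` (`q ≥ 4` if `m = 3`), has degree at least `(q^(m+1) - q)/(q - 1)`. -/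
theorem slmain [Fintype F] [DecidableEq F] (hm : 3 ≤ m)
    (hq : m = 3 → 4 ≤ Fintype.card F) (k : ℕ)
    (ρ : Representation ℂ (GG m F) (Fin k → ℂ)) (hρ : ρ.IsIrreducible) (hk : 2 ≤ k) :
    (Fintype.card F ^ (m + 1) - Fintype.card F) / (Fintype.card F - 1) ≤ k := by
  classical
  have hq1 : 1 < Fintype.card F := Fintype.one_lt_card
  obtain ⟨a, c, ha, hkc, hχ, hmult⟩ := sl_mult (by omega) k ρ hρ hk
  obtain ⟨ψ, hψ⟩ : ∃ ψ : AddChar F ℂ, ψ 1 ≠ 1 := AddChar.exists_apply_ne_zero.mpr one_ne_zero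
  have hqm : 1 ≤ Fintype.card F ^ m := Nat.one_le_pow _ _ (by omega)
  by_cases ha2 : 2 ≤ a
  · have h1 := arith_two (Fintype.card F) m (by omega) (by omega)
    have h2 : 2 * (Fintype.card F ^ m - 1) ≤ a * (Fintype.card F ^ m - 1) :=
      Nat.mul_le_mul_right _ ha2
    omega
  · have ha1 : a = 1 := by omega
    subst ha1
    rw [one_mul] at hkc
    have hχ' : ∀ g ∈ tvSet (Unit ⊕ Fin m) F, ρ.character g = (c : ℂ) - 1 := by
      intro g hg
      rw [hχ g hg]
      push_cast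
      ring
    have hmQ : ∀ v : Fin m → F,
        classInner (fun b => ρ.character (uQhom b)) (fun b => lamQ ψ v b) =
          if v = 0 then (c : ℂ) else 1 := by
      intro v
      rw [hmult uQhom uQhom_mem_tvSet ψ hψ v]
      push_cast
      rfl
    have hmQm : ∀ v : Fin m → F,
        classInner (fun b => ρ.character (uQmhom b)) (fun b => lamQ ψ v b) =
          if v = 0 then (c : ℂ) else 1 := by
      intro v
      rw [hmult uQmhom uQmhom_mem_tvSet ψ hψ v]
      push_cast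
      rfl
    have h1 := c_ge hm hq k ρ hρ hk ψ hψ c hχ' hmQ hmQm
    have h2 := c_ne (by omega) k ρ hρ c hkc hχ'
    have h3 := arith_final (Fintype.card F) m c (by omega) (by omega) (by omega)
    omega

end Cfsg.Agent.Helper12.LSL
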