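import Mathlib
import Cfsg.Prelude.Def_Characters
import Cfsg.Agent.Helper12.LOPDefs
import Cfsg.Agent.Helper12.LOPGen
import Cfsg.Agent.Helper18.LOPPAIRS
import Cfsg.Agent.Helper18.LOPLR
import Cfsg.Agent.Helper15.LOPNFIX
import Cfsg.Agent.Helper15.LOPTAU
import Cfsg.Agent.Helper15.LOPLAMB
import Cfsg.Agent.Helper24.LOPKER
import Cfsg.Agent.Helper23.LOPTRANS
import Cfsg.Agent.Helper4.LOPSTABC
import Cfsg.Agent.Helper4.LOPTORUS
import Cfsg.Agent.Helper6.LOPARITH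
import Cfsg.Agent.Helper8.LOPCOUNT
import Cfsg.Agent.Helper6.LOPCONSTIT
import Cfsg.Agent.Helper20.LOPKLEIN
import Cfsg.Agent.Helper12.LSLDefs
import Cfsg.Agent.Helper18.LSLPROJA
import Cfsg.Agent.Helper18.LSLPROJB
import Cfsg.Agent.Helper18.LSLPROJC
import Cfsg.Agent.Helper18.LSLLINE
import Cfsg.Agent.Helper18.LSLTRACE
import Cfsg.Agent.Helper22.LSLINTEG
import Cfsg.Agent.Helper8.CharComp
import Cfsg.Agent.S2332

set_option autoImplicit false

/-! S2345: the inductive step for `Ω⁺_{2n}(q)`. -/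

namespace Cfsg.Agent.Helper12.LOP

open Matrix Cfsg Cfsg.Agent.Helper28.Sg Cfsg.Agent.Helper28.Spin Cfsg.Agent.Helper12.LSL

variable {F : Type*} [Field F] [Fintype F] [DecidableEq F] {n : ℕ}

/-- the multiplicity of the linear character `lamB ψ w` of the radical in `ρ` -/
noncomputable def mu {k : ℕ} (ρ : Representation ℂ (GO (n + 4) F) (Fin k → ℂ)) (ψ : AddChar F ℂ)
    (w : VV (n + 3) F) : ℕ :=
  Module.finrank ℂ (LinearMap.range (projOp ρ uQhom (lamB ψ w)))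

theorem mu_cast {k : ℕ} (ρ : Representation ℂ (GO (n + 4) F) (Fin k → ℂ)) (ψ : AddChar F ℂ)
    (w : VV (n + 3) F) :
    (mu ρ ψ w : ℂ) = LinearMap.trace ℂ (Fin k → ℂ) (projOp ρ uQhom (lamB ψ w)) :=
  finrank_range_projOp ρ uQhom (lamB ψ w)

theorem card_VV_mult (m : ℕ) :
    Fintype.card (VV m F) = Fintype.card (Multiplicative (VV m F)) :=
  (Fintype.card_multiplicative _).symm

theorem sum_mu {k : ℕ} (ρ : Representation ℂ (GO (n + 4) F) (Fin k → ℂ)) (ψ : AddChar F ℂ)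
    (hψ : ψ 1 ≠ 1) : ∑ w : VV (n + 3) F, mu ρ ψ w = k := by
  have h := sum_projOp ρ uQhom (lamB ψ) (lamB_orth ψ hψ) (card_VV_mult (n + 3))
  have h2 := congrArg (LinearMap.trace ℂ (Fin k → ℂ)) h
  rw [map_sum, LinearMap.trace_id, Module.finrank_fin_fun] at h2
  have h3 : ((∑ w : VV (n + 3) F, mu ρ ψ w : ℕ) : ℂ) = (k : ℂ) := by
    rw [← h2]
    push_cast
    exact Finset.sum_congr rfl (fun w _ => mu_cast ρ ψ w)
  exact_mod_cast h3

/-- invariance of the multiplicities under the Levi factor -/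
theorem mu_lev {k : ℕ} (ρ : Representation ℂ (GO (n + 4) F) (Fin k → ℂ)) (ψ : AddChar F ℂ)
    (g : GO (n + 3) F) (w : VV (n + 3) F) :
    mu ρ ψ (mt (QfPlus (n + 3) F) g.1 *ᵥ w) = mu ρ ψ w := by
  have h := rho_conj_projOp ρ uQhom (lamB ψ w) (lamB ψ (mt (QfPlus (n + 3) F) g.1 *ᵥ w)) (lev g)
    (eqO g.1) (uQhom_eqO g) (fun a => lamB_eqO ψ g.1 w a)
  have h2 := trace_eq_of_conj ρ (lev g) _ _ h
  have h3 : (mu ρ ψ (mt (QfPlus (n + 3) F) g.1 *ᵥ w) : ℂ) = mu ρ ψ w := by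
    rw [mu_cast, mu_cast, h2]
  exact_mod_cast h3

/-- the character on the radical in terms of the multiplicities -/
theorem char_uQ {k : ℕ} (ρ : Representation ℂ (GO (n + 4) F) (Fin k → ℂ)) (ψ : AddChar F ℂ)
    (hψ : ψ 1 ≠ 1) (w : VV (n + 3) F) :
    ρ.character (uQ w) = ∑ w' : VV (n + 3) F, ψ (B (QfPlus (n + 3) F) w w') * (mu ρ ψ w' : ℂ) := by
  have h := char_eq_sum_projOp ρ uQhom (lamB ψ) (lamB_orth ψ hψ) (card_VV_mult (n + 3))
    (Multiplicative.ofAdd w)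
  rw [uQhom_apply] at h
  rw [show Multiplicative.toAdd (Multiplicative.ofAdd w) = w from rfl] at h
  rw [h]
  apply Finset.sum_congr rfl
  intro w' _
  rw [mu_cast]
  rfl

/-- invariance of the multiplicities under a torus element -/
theorem mu_torus {k : ℕ} (ρ : Representation ℂ (GO (n + 4) F) (Fin k → ℂ)) (ψ : AddChar F ℂ)
    (t : F) (ht : t ≠ 0) (h : GO (n + 4) F) (g : OO (n + 3) F)
    (hconj : ∀ w : VV (n + 3) F, h * uQ w * h⁻¹ = uQ (t • (mt (QfPlus (n + 3) F) g *ᵥ w)))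
    (w : VV (n + 3) F) :
    mu ρ ψ (t⁻¹ • (mt (QfPlus (n + 3) F) g *ᵥ w)) = mu ρ ψ w := by
  let e : Multiplicative (VV (n + 3) F) ≃ Multiplicative (VV (n + 3) F) :=
    { toFun := fun b => Multiplicative.ofAdd (t • (mt (QfPlus (n + 3) F) g *ᵥ Multiplicative.toAdd b))
      invFun := fun b =>
        Multiplicative.ofAdd (mt (QfPlus (n + 3) F) g⁻¹ *ᵥ (t⁻¹ • Multiplicative.toAdd b))
      left_inv := by
        intro b
        show Multiplicative.ofAdd (mt (QfPlus (n + 3) F) g⁻¹ *ᵥ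
          (t⁻¹ • (t • (mt (QfPlus (n + 3) F) g *ᵥ Multiplicative.toAdd b)))) = b
        rw [smul_smul, inv_mul_cancel₀ ht, one_smul, mt_inv_mulVec]
        rfl
      right_inv := by
        intro b
        show Multiplicative.ofAdd (t • (mt (QfPlus (n + 3) F) g *ᵥ
          (mt (QfPlus (n + 3) F) g⁻¹ *ᵥ (t⁻¹ • Multiplicative.toAdd b)))) = b
        rw [mt_mulVec_inv, smul_smul, mul_inv_cancel₀ ht, one_smul]
        rfl }
  have he : ∀ a, uQhom (e a) = h * uQhom a * h⁻¹ := by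
    intro a
    rw [uQhom_apply, uQhom_apply, hconj]
    rfl
  have hl : ∀ a, lamB ψ (t⁻¹ • (mt (QfPlus (n + 3) F) g *ᵥ w)) (e a) = lamB ψ w a := by
    intro a
    rw [lamB_apply, lamB_apply]
    congr 1
    show B (QfPlus (n + 3) F) (t • (mt (QfPlus (n + 3) F) g *ᵥ Multiplicative.toAdd a))
      (t⁻¹ • (mt (QfPlus (n + 3) F) g *ᵥ w)) = _
    show QuadraticMap.polar _ _ _ = QuadraticMap.polar _ _ _
    rw [QuadraticMap.polar_smul_left, QuadraticMap.polar_smul_right, smul_eq_mul, smul_eq_mul,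
      ← mul_assoc, mul_inv_cancel₀ ht, one_mul]
    exact B_isom (QfPlus (n + 3) F) g _ _
  have h1 := rho_conj_projOp ρ uQhom (lamB ψ w)
    (lamB ψ (t⁻¹ • (mt (QfPlus (n + 3) F) g *ᵥ w))) h e he hl
  have h2 := trace_eq_of_conj ρ h _ _ h1
  have h3 : (mu ρ ψ (t⁻¹ • (mt (QfPlus (n + 3) F) g *ᵥ w)) : ℂ) = mu ρ ψ w := by
    rw [mu_cast, mu_cast, h2]
  exact_mod_cast h3

/-- if a nonsingular character occurs, the degree is at least twice the size of a level set -/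
theorem bound_of_nonsingular (hq : 4 ≤ Fintype.card F) {k : ℕ}
    (ρ : Representation ℂ (GO (n + 4) F) (Fin k → ℂ)) (ψ : AddChar F ℂ) (hψ : ψ 1 ≠ 1)
    (w₀ : VV (n + 3) F) (hw₀ : QfPlus (n + 3) F w₀ ≠ 0) (hmu : 1 ≤ mu ρ ψ w₀) :
    2 * (Fintype.card F ^ (2 * (n + 3) - 1) - Fintype.card F ^ (n + 3 - 1)) ≤ k := by
  obtain ⟨t, h, g, ht, ht2, hconj⟩ := exists_torus (n := n) hq
  set α := QfPlus (n + 3) F w₀ with hα
  set w₁ : VV (n + 3) F := t⁻¹ • (mt (QfPlus (n + 3) F) g *ᵥ w₀) with hw₁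
  have hmu1 : mu ρ ψ w₁ = mu ρ ψ w₀ := mu_torus ρ ψ t ht h g hconj w₀
  have hQ1 : QfPlus (n + 3) F w₁ = t⁻¹ * t⁻¹ * α := by
    rw [hw₁, Q_smul, isom_apply]
  have hα1 : t⁻¹ * t⁻¹ * α ≠ α := by
    intro h1
    have h2 : t⁻¹ * t⁻¹ = 1 := by
      have := mul_right_cancel₀ hw₀ (h1.trans (one_mul α).symm)
      exact this
    apply ht2
    have h3 : t ^ 2 * (t⁻¹ * t⁻¹) = 1 := by
      field_simp
    rw [h2, mul_one] at h3
    exact h3
  have hα10 : t⁻¹ * t⁻¹ * α ≠ 0 :=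
    mul_ne_zero (mul_ne_zero (inv_ne_zero ht) (inv_ne_zero ht)) hw₀
  set S₁ := Finset.univ.filter (fun w : VV (n + 3) F => QfPlus (n + 3) F w = α) with hS₁
  set S₂ := Finset.univ.filter (fun w : VV (n + 3) F => QfPlus (n + 3) F w = t⁻¹ * t⁻¹ * α)
    with hS₂
  have hdisj : Disjoint S₁ S₂ := by
    rw [Finset.disjoint_left]
    intro w h1 h2
    rw [hS₁, Finset.mem_filter] at h1
    rw [hS₂, Finset.mem_filter] at h2
    exact hα1 (h2.2.symm.trans h1.2)
  have h1 : ∀ w ∈ S₁, 1 ≤ mu ρ ψ w := by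
    intro w hw
    rw [hS₁, Finset.mem_filter] at hw
    obtain ⟨g', hg'⟩ := exists_omega_map_level w₀ w hw.2.symm hw₀
    rw [← hg', mu_lev]
    exact hmu
  have h2 : ∀ w ∈ S₂, 1 ≤ mu ρ ψ w := by
    intro w hw
    rw [hS₂, Finset.mem_filter] at hw
    obtain ⟨g', hg'⟩ := exists_omega_map_level w₁ w (hQ1.trans hw.2.symm) (by rw [hQ1]; exact hα10)
    rw [← hg', mu_lev, hmu1]
    exact hmu
  have hsum := sum_mu ρ ψ hψ
  have h3 : ∑ w ∈ S₁ ∪ S₂, mu ρ ψ w ≤ ∑ w : VV (n + 3) F, mu ρ ψ w :=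
    Finset.sum_le_sum_of_subset (Finset.subset_univ _)
  have h4 : (S₁ ∪ S₂).card ≤ ∑ w ∈ S₁ ∪ S₂, mu ρ ψ w := by
    rw [Finset.card_eq_sum_ones]
    apply Finset.sum_le_sum
    intro w hw
    rcases Finset.mem_union.mp hw with hw | hw
    · exact h1 w hw
    · exact h2 w hw
  have hc1 : S₁.card = Fintype.card F ^ (2 * (n + 3) - 1) - Fintype.card F ^ (n + 3 - 1) :=
    card_level (n + 3) (by omega) α hw₀
  have hc2 : S₂.card = Fintype.card F ^ (2 * (n + 3) - 1) - Fintype.card F ^ (n + 3 - 1) :=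
    card_level (n + 3) (by omega) _ hα10
  rw [Finset.card_union_of_disjoint hdisj, hc1, hc2] at h4
  omega

/-- the singular characters all have the same multiplicity -/
theorem mu_singular {k : ℕ} (ρ : Representation ℂ (GO (n + 4) F) (Fin k → ℂ)) (ψ : AddChar F ℂ)
    (w : VV (n + 3) F) (hw : QfPlus (n + 3) F w = 0) (hw0 : w ≠ 0) :
    mu ρ ψ w = mu ρ ψ (eb 0) := by
  obtain ⟨g, hg⟩ := exists_omega_map_singular (eb 0) w (Q_eb 0) hw (eb_ne_zero 0) hw0
  rw [← hg, mu_lev]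

/-- the number of nonzero singular vectors, as a sum -/
theorem card_sing_erase (m : ℕ) (hm : 1 ≤ m) :
    ((Finset.univ.filter (fun w : VV m F => QfPlus m F w = 0)).erase 0).card =
      Fintype.card F ^ (2 * m - 1) + Fintype.card F ^ m - Fintype.card F ^ (m - 1) - 1 := by
  rw [Finset.card_erase_of_mem, card_sing m hm]
  rw [Finset.mem_filter]
  exact ⟨Finset.mem_univ _, map_zero _⟩

/-- if the singular characters have multiplicity at least two -/
theorem bound_of_two {k : ℕ} (ρ : Representation ℂ (GO (n + 4) F) (Fin k → ℂ)) (ψ : AddChar F ℂ)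
    (hψ : ψ 1 ≠ 1) (h2 : 2 ≤ mu ρ ψ (eb 0)) :
    2 * (Fintype.card F ^ (2 * (n + 3) - 1) + Fintype.card F ^ (n + 3) -
      Fintype.card F ^ (n + 3 - 1) - 1) ≤ k := by
  have hsum := sum_mu ρ ψ hψ
  set S := (Finset.univ.filter (fun w : VV (n + 3) F => QfPlus (n + 3) F w = 0)).erase 0 with hS
  have h3 : ∑ w ∈ S, mu ρ ψ w ≤ ∑ w : VV (n + 3) F, mu ρ ψ w :=
    Finset.sum_le_sum_of_subset (Finset.subset_univ _)
  have h4 : S.card * 2 ≤ ∑ w ∈ S, mu ρ ψ w := by
    rw [← smul_eq_mul, ← Finset.sum_const]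
    apply Finset.sum_le_sum
    intro w hw
    rw [hS, Finset.mem_erase, Finset.mem_filter] at hw
    rw [mu_singular ρ ψ w hw.2.2 hw.1]
    exact h2
  have hc : S.card = Fintype.card F ^ (2 * (n + 3) - 1) + Fintype.card F ^ (n + 3) -
      Fintype.card F ^ (n + 3 - 1) - 1 := card_sing_erase (n + 3) (by omega)
  rw [hc] at h4
  omega

/-- the long root element `E(e_0, e_1)` of the Levi factor -/
noncomputable def gE : GO (n + 3) F := sg (by omega) (eb 0) (eb 1) (Q_eb 0) (B_eb_eb 0 1)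

theorem gE_fixed_iff (w : VV (n + 3) F) :
    mt (QfPlus (n + 3) F) (gE : GO (n + 3) F).1 *ᵥ w = w ↔
      B (QfPlus (n + 3) F) (eb 0) w = 0 ∧ B (QfPlus (n + 3) F) (eb 1) w = 0 :=
  sieg_eb_fixed_iff w

theorem lev_mem_fixer (ψ : AddChar F ℂ) (w : VV (n + 3) F) (g : GO (n + 3) F)
    (hg : g ∈ stabO w) :
    lev g ∈ fixer (uQhom : Multiplicative (VV (n + 3) F) →* GO (n + 4) F) (lamB ψ w) := by
  refine ⟨eqO g.1, uQhom_eqO g, fun b => ?_⟩
  have h := lamB_eqO ψ g.1 w b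
  rw [(mem_stabO w g).mp hg] at h
  exact h

theorem lev_gE_mem_commutator_fixer (hq : 4 ≤ Fintype.card F) (ψ : AddChar F ℂ)
    (w : VV (n + 3) F) (hw : QfPlus (n + 3) F w = 0)
    (hfix : mt (QfPlus (n + 3) F) (gE : GO (n + 3) F).1 *ᵥ w = w) :
    lev (gE : GO (n + 3) F) ∈
      ⁅fixer (uQhom : Multiplicative (VV (n + 3) F) →* GO (n + 4) F) (lamB ψ w),
        fixer (uQhom : Multiplicative (VV (n + 3) F) →* GO (n + 4) F) (lamB ψ w)⁆ := by
  obtain ⟨h0, h1⟩ := (gE_fixed_iff w).mp hfix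
  have h2 : (gE : GO (n + 3) F) ∈ ⁅stabO w, stabO w⁆ := sieg_mem_commutator_stab hq w hw h0 h1
  have h3 : lev (gE : GO (n + 3) F) ∈ (⁅stabO w, stabO w⁆).map (lev : GO (n + 3) F →* GO (n + 4) F) :=
    ⟨gE, h2, rfl⟩
  rw [Subgroup.map_commutator] at h3
  refine Subgroup.commutator_mono ?_ ?_ h3
  · rintro _ ⟨g, hg, rfl⟩
    exact lev_mem_fixer ψ w g hg
  · rintro _ ⟨g, hg, rfl⟩
    exact lev_mem_fixer ψ w g hg

theorem projOp_eq_zero_of_mu {k : ℕ} (ρ : Representation ℂ (GO (n + 4) F) (Fin k → ℂ))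
    (ψ : AddChar F ℂ) (w : VV (n + 3) F) (h : mu ρ ψ w = 0) :
    projOp ρ (uQhom : Multiplicative (VV (n + 3) F) →* GO (n + 4) F) (lamB ψ w) = 0 := by
  unfold mu at h
  have h1 := Submodule.finrank_eq_zero.mp h
  exact LinearMap.range_eq_bot.mp h1

/-! ### the family of long root elements indexed by pairs -/

theorem pair_mem (h : GO (n + 4) F) (p : VV (n + 4) F × VV (n + 4) F)
    (hp : p ∈ lrPairs (n + 4) F) :
    (mt (QfPlus (n + 4) F) h.1 *ᵥ p.1, mt (QfPlus (n + 4) F) h.1 *ᵥ p.2) ∈ lrPairs (n + 4) F := by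
  rw [mem_lrPairs] at hp ⊢
  obtain ⟨h1, h2, h3, h4⟩ := hp
  have h1' : QfPlus (n + 4) F (mt (QfPlus (n + 4) F) h.1 *ᵥ p.1) = 0 := by rw [isom_apply, h1]
  have h3' : B (QfPlus (n + 4) F) (mt (QfPlus (n + 4) F) h.1 *ᵥ p.1)
      (mt (QfPlus (n + 4) F) h.1 *ᵥ p.2) = 0 := by rw [B_isom, h3]
  refine ⟨h1', by rw [isom_apply, h2], h3', ?_⟩
  intro hone
  apply h4
  have hc := siegO_conj (QfPlus (n + 4) F) h.1 h1 h3 h1' h3'
  have h5 : siegO (QfPlus (n + 4) F) _ _ h1' h3' = 1 := by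
    apply Subtype.ext
    apply Units.ext
    exact hone
  rw [h5] at hc
  have h6 : siegO (QfPlus (n + 4) F) p.1 p.2 h1 h3 = 1 := by
    have : siegO (QfPlus (n + 4) F) p.1 p.2 h1 h3 = h.1⁻¹ * (h.1 * siegO (QfPlus (n + 4) F) p.1 p.2 h1 h3 * h.1⁻¹) * h.1 := by
      group
    rw [this, hc]
    group
  have h7 := congrArg (mt (QfPlus (n + 4) F)) h6
  rw [siegO_val] at h7
  exact h7

/-- the long root element of a pair -/
noncomputable def pairElt (p : {p : VV (n + 4) F × VV (n + 4) F // p ∈ lrPairs (n + 4) F}) :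
    GO (n + 4) F :=
  sg (by omega) p.1.1 p.1.2 ((mem_lrPairs p.1).mp p.2).1 ((mem_lrPairs p.1).mp p.2).2.2.1

theorem pairElt_mem_lrSet (p : {p : VV (n + 4) F × VV (n + 4) F // p ∈ lrPairs (n + 4) F}) :
    pairElt p ∈ lrSet (n + 4) F := by
  obtain ⟨h1, h2, h3, h4⟩ := (mem_lrPairs p.1).mp p.2
  refine ⟨p.1.1, p.1.2, h1, h2, h3, ?_, rfl⟩
  intro hone
  apply h4
  have h5 := congrArg (fun g : GO (n + 4) F => mt (QfPlus (n + 4) F) g.1) hone
  exact h5

/-- the action of `Ω` on the pairs giving long root elements -/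
noncomputable def pairAct (h : GO (n + 4) F) :
    {p : VV (n + 4) F × VV (n + 4) F // p ∈ lrPairs (n + 4) F} ≃
      {p : VV (n + 4) F × VV (n + 4) F // p ∈ lrPairs (n + 4) F} where
  toFun p := ⟨(mt (QfPlus (n + 4) F) h.1 *ᵥ p.1.1, mt (QfPlus (n + 4) F) h.1 *ᵥ p.1.2),
    pair_mem h p.1 p.2⟩
  invFun p := ⟨(mt (QfPlus (n + 4) F) h⁻¹.1 *ᵥ p.1.1, mt (QfPlus (n + 4) F) h⁻¹.1 *ᵥ p.1.2),
    pair_mem h⁻¹ p.1 p.2⟩
  left_inv p := by
    apply Subtype.ext
    apply Prod.ext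
    · exact mt_inv_mulVec _ h.1 _
    · exact mt_inv_mulVec _ h.1 _
  right_inv p := by
    apply Subtype.ext
    apply Prod.ext
    · exact mt_mulVec_inv _ h.1 _
    · exact mt_mulVec_inv _ h.1 _

theorem pairElt_act (h : GO (n + 4) F)
    (p : {p : VV (n + 4) F × VV (n + 4) F // p ∈ lrPairs (n + 4) F}) :
    pairElt (pairAct h p) = h * pairElt p * h⁻¹ := by
  obtain ⟨h1, h2, h3, h4⟩ := (mem_lrPairs p.1).mp p.2
  obtain ⟨h1', -, h3', -⟩ := (mem_lrPairs _).mp (pair_mem h p.1 p.2)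
  apply Subtype.ext
  show siegO (QfPlus (n + 4) F) (mt (QfPlus (n + 4) F) h.1 *ᵥ p.1.1)
    (mt (QfPlus (n + 4) F) h.1 *ᵥ p.1.2) h1' h3' =
    h.1 * siegO (QfPlus (n + 4) F) p.1.1 p.1.2 h1 h3 * h.1⁻¹
  exact (siegO_conj (QfPlus (n + 4) F) h.1 h1 h3 h1' h3').symm

theorem cast_sing (F : Type*) [Field F] [Fintype F] (n : ℕ) :
    ((Fintype.card F ^ (2 * (n + 3) - 1) + Fintype.card F ^ (n + 3) -
      Fintype.card F ^ (n + 3 - 1) - 1 : ℕ) : ℂ) =
      (Fintype.card F : ℂ) ^ (2 * n + 5) + (Fintype.card F : ℂ) ^ (n + 3) -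
        (Fintype.card F : ℂ) ^ (n + 2) - 1 := by
  have hq1 : 1 < Fintype.card F := Fintype.one_lt_card
  have e1 : 2 * (n + 3) - 1 = 2 * n + 5 := by omega
  have e2 : n + 3 - 1 = n + 2 := by omega
  rw [e1, e2]
  have h4 : Fintype.card F ^ (n + 2) < Fintype.card F ^ (n + 3) :=
    Nat.pow_lt_pow_right hq1 (by omega)
  have h1 : Fintype.card F ^ (n + 2) ≤ Fintype.card F ^ (2 * n + 5) + Fintype.card F ^ (n + 3) := by
    omega
  have h2 : 1 ≤ Fintype.card F ^ (2 * n + 5) + Fintype.card F ^ (n + 3) -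
      Fintype.card F ^ (n + 2) := by omega
  rw [Nat.cast_sub h2, Nat.cast_sub h1]
  push_cast
  ring

theorem cast_fixed_count (F : Type*) [Field F] [Fintype F] (n : ℕ) :
    ((Fintype.card F ^ 2 * (Fintype.card F ^ (2 * n + 1) + Fintype.card F ^ (n + 1) -
        Fintype.card F ^ n) - 1 : ℕ) : ℂ) =
      (Fintype.card F : ℂ) ^ (2 * n + 3) + (Fintype.card F : ℂ) ^ (n + 3) -
        (Fintype.card F : ℂ) ^ (n + 2) - 1 := by
  have hq1 : 1 < Fintype.card F := Fintype.one_lt_card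
  have h1 : Fintype.card F ^ n ≤ Fintype.card F ^ (2 * n + 1) + Fintype.card F ^ (n + 1) := by
    have : Fintype.card F ^ n ≤ Fintype.card F ^ (n + 1) :=
      Nat.pow_le_pow_right (by omega) (by omega)
    omega
  have h2 : 1 ≤ Fintype.card F ^ 2 * (Fintype.card F ^ (2 * n + 1) + Fintype.card F ^ (n + 1) -
        Fintype.card F ^ n) := by
    have h3 : 1 ≤ Fintype.card F ^ 2 := Nat.one_le_pow _ _ (by omega)
    have h4 : Fintype.card F ^ n < Fintype.card F ^ (n + 1) :=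
      Nat.pow_lt_pow_right hq1 (by omega)
    have h5 : 1 ≤ Fintype.card F ^ (2 * n + 1) + Fintype.card F ^ (n + 1) - Fintype.card F ^ n := by
      omega
    calc 1 = 1 * 1 := by norm_num
      _ ≤ _ := Nat.mul_le_mul h3 h5
  rw [Nat.cast_sub h2, Nat.cast_mul, Nat.cast_sub h1]
  push_cast
  ring

/-- the fixed space of the radical is invariant under the Levi factor -/
theorem range_invariant {k : ℕ} (ρ : Representation ℂ (GO (n + 4) F) (Fin k → ℂ)) (ψ : AddChar F ℂ)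
    (g : GO (n + 3) F) (y : Fin k → ℂ)
    (hy : y ∈ LinearMap.range (projOp ρ uQhom (lamB ψ (0 : VV (n + 3) F)))) :
    ρ (lev g) y ∈ LinearMap.range (projOp ρ uQhom (lamB ψ (0 : VV (n + 3) F))) := by
  obtain ⟨x, rfl⟩ := hy
  have h := rho_conj_projOp ρ uQhom (lamB ψ (0 : VV (n + 3) F)) (lamB ψ (0 : VV (n + 3) F)) (lev g)
    (eqO g.1) (uQhom_eqO g) (fun a => by
      rw [lamB_apply, lamB_apply]
      rw [show B (QfPlus (n + 3) F) (Multiplicative.toAdd (eqO g.1 a)) (0 : VV (n + 3) F) = 0 from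
        QuadraticMap.polar_zero_right _ _,
        show B (QfPlus (n + 3) F) (Multiplicative.toAdd a) (0 : VV (n + 3) F) = 0 from
        QuadraticMap.polar_zero_right _ _])
  have h2 := LinearMap.congr_fun h x
  rw [LinearMap.comp_apply, LinearMap.comp_apply] at h2
  rw [h2]
  exact LinearMap.mem_range_self _ _

section a_one

variable {k : ℕ} (ρ : Representation ℂ (GO (n + 4) F) (Fin k → ℂ)) (ψ : AddChar F ℂ)
  (hψ : ψ 1 ≠ 1)
  (hns : ∀ w : VV (n + 3) F, QfPlus (n + 3) F w ≠ 0 → mu ρ ψ w = 0)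
  (hone : mu ρ ψ (eb 0) = 1)

include hψ hns hone

/-- the degree in terms of `c = dim Fix(Q)` -/
theorem degree_eq :
    k = mu ρ ψ 0 + (Fintype.card F ^ (2 * (n + 3) - 1) + Fintype.card F ^ (n + 3) -
      Fintype.card F ^ (n + 3 - 1) - 1) := by
  have hsum := sum_mu ρ ψ hψ
  set S := Finset.univ.filter (fun w : VV (n + 3) F => QfPlus (n + 3) F w = 0) with hS
  have h0S : (0 : VV (n + 3) F) ∈ S := by
    rw [hS, Finset.mem_filter]
    exact ⟨Finset.mem_univ _, map_zero _⟩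
  have h1 : ∑ w : VV (n + 3) F, mu ρ ψ w = ∑ w ∈ S, mu ρ ψ w := by
    symm
    apply Finset.sum_subset (Finset.subset_univ _)
    intro w _ hw
    rw [hS, Finset.mem_filter] at hw
    exact hns w (fun h => hw ⟨Finset.mem_univ _, h⟩)
  have h2 : ∑ w ∈ S.erase 0, mu ρ ψ w = (S.erase 0).card := by
    rw [Finset.card_eq_sum_ones]
    apply Finset.sum_congr rfl
    intro w hw
    rw [Finset.mem_erase, hS, Finset.mem_filter] at hw
    rw [mu_singular ρ ψ w hw.2.2 hw.1, hone]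
  have hc : (S.erase 0).card = Fintype.card F ^ (2 * (n + 3) - 1) + Fintype.card F ^ (n + 3) -
      Fintype.card F ^ (n + 3 - 1) - 1 := card_sing_erase (n + 3) (by omega)
  rw [h1, ← Finset.add_sum_erase _ _ h0S, h2, hc] at hsum
  exact hsum.symm

/-- the character value on the long root elements -/
theorem char_long :
    ρ.character (uQ (eb 0)) = (mu ρ ψ 0 : ℂ) - 1 + (Fintype.card F : ℂ) ^ (n + 3) -
      (Fintype.card F : ℂ) ^ (n + 2) := by
  rw [char_uQ ρ ψ hψ]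
  set S := Finset.univ.filter (fun w : VV (n + 3) F => QfPlus (n + 3) F w = 0) with hS
  have h0S : (0 : VV (n + 3) F) ∈ S := by
    rw [hS, Finset.mem_filter]
    exact ⟨Finset.mem_univ _, map_zero _⟩
  have h1 : ∑ w' : VV (n + 3) F, ψ (B (QfPlus (n + 3) F) (eb 0) w') * (mu ρ ψ w' : ℂ) =
      ∑ w' ∈ S, ψ (B (QfPlus (n + 3) F) (eb 0) w') * (mu ρ ψ w' : ℂ) := by
    symm
    apply Finset.sum_subset (Finset.subset_univ _)
    intro w _ hw
    rw [hS, Finset.mem_filter] at hw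
    rw [hns w (fun h => hw ⟨Finset.mem_univ _, h⟩)]
    simp
  have h2 : ∀ w' ∈ S, ψ (B (QfPlus (n + 3) F) (eb 0) w') * (mu ρ ψ w' : ℂ) =
      ψ (B (QfPlus (n + 3) F) (eb 0) w') + (if w' = 0 then (mu ρ ψ 0 : ℂ) - 1 else 0) := by
    intro w' hw'
    rw [hS, Finset.mem_filter] at hw'
    by_cases h0 : w' = 0
    · rw [if_pos h0, h0]
      have : B (QfPlus (n + 3) F) (eb 0) (0 : VV (n + 3) F) = 0 :=
        QuadraticMap.polar_zero_right _ _
      rw [this, AddChar.map_zero_eq_one]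
      ring
    · rw [if_neg h0, mu_singular ρ ψ w' hw'.2 h0, hone]
      simp
  rw [h1, Finset.sum_congr rfl h2, Finset.sum_add_distrib, sum_sing_char ψ hψ,
    Finset.sum_ite_eq' S (0 : VV (n + 3) F), if_pos h0S]
  ring

/-- the trace of the Levi long root element, through the decomposition along the radical -/
theorem char_levi (hq : 4 ≤ Fintype.card F) :
    ρ.character (lev (gE : GO (n + 3) F)) =
      LinearMap.trace ℂ (Fin k → ℂ) (ρ (lev (gE : GO (n + 3) F)) ∘ₗ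
        projOp ρ uQhom (lamB ψ (0 : VV (n + 3) F))) +
      ((Fintype.card F ^ 2 * (Fintype.card F ^ (2 * n + 1) + Fintype.card F ^ (n + 1) -
        Fintype.card F ^ n) - 1 : ℕ) : ℂ) := by
  have htr := trace_rho_eq_sum ρ uQhom (lamB ψ) (lamB_injective ψ hψ) (lamB_orth ψ hψ)
    (card_VV_mult (n + 3)) (lev (gE : GO (n + 3) F)) (eqO (gE : GO (n + 3) F).1) (uQhom_eqO gE)
    (fun w => mt (QfPlus (n + 3) F) (gE : GO (n + 3) F).1 *ᵥ w)
    (fun w b => lamB_eqO ψ (gE : GO (n + 3) F).1 w b)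
  rw [htr]
  set Φ := Finset.univ.filter
    (fun w : VV (n + 3) F => mt (QfPlus (n + 3) F) (gE : GO (n + 3) F).1 *ᵥ w = w) with hΦ
  have h0Φ : (0 : VV (n + 3) F) ∈ Φ := by
    rw [hΦ, Finset.mem_filter]
    exact ⟨Finset.mem_univ _, Matrix.mulVec_zero _⟩
  rw [← Finset.add_sum_erase _ _ h0Φ]
  congr 1
  have hterm : ∀ w ∈ Φ.erase 0,
      LinearMap.trace ℂ (Fin k → ℂ) (ρ (lev (gE : GO (n + 3) F)) ∘ₗ
        projOp ρ uQhom (lamB ψ w)) = if QfPlus (n + 3) F w = 0 then (1 : ℂ) else 0 := by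
    intro w hw
    rw [Finset.mem_erase, hΦ, Finset.mem_filter] at hw
    by_cases hQ : QfPlus (n + 3) F w = 0
    · rw [if_pos hQ]
      have hmu1 : mu ρ ψ w = 1 := by rw [mu_singular ρ ψ w hQ hw.1, hone]
      have htr1 : LinearMap.trace ℂ (Fin k → ℂ) (projOp ρ uQhom (lamB ψ w)) = 1 := by
        rw [← mu_cast, hmu1]
        simp
      rw [trace_rho_comp_projOp_of_fixed ρ uQhom (lamB ψ w) _
        (fun y hy => line_fixed ρ uQhom (lamB ψ w) htr1 _
          (lev_gE_mem_commutator_fixer hq ψ w hQ hw.2.2) y hy), htr1]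
    · rw [if_neg hQ, projOp_eq_zero_of_mu ρ ψ w (hns w hQ), LinearMap.comp_zero, map_zero]
  rw [Finset.sum_congr rfl hterm, Finset.sum_ite, Finset.sum_const_zero, add_zero, Finset.sum_const,
    nsmul_eq_mul, mul_one]
  congr 1
  have hset : (Φ.erase 0).filter (fun w => QfPlus (n + 3) F w = 0) =
      (Finset.univ.filter (fun w : VV (n + 3) F => QfPlus (n + 3) F w = 0 ∧
        B (QfPlus (n + 3) F) (eb 0) w = 0 ∧ B (QfPlus (n + 3) F) (eb 1) w = 0)).erase 0 := by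
    ext w
    simp only [Finset.mem_filter, Finset.mem_erase, hΦ, Finset.mem_univ, true_and, gE_fixed_iff]
    tauto
  rw [hset, Finset.card_erase_of_mem, card_fixed_sing]
  rw [Finset.mem_filter]
  refine ⟨Finset.mem_univ _, map_zero _, ?_, ?_⟩
  · exact QuadraticMap.polar_zero_right _ _
  · exact QuadraticMap.polar_zero_right _ _


/-- the character value at the Levi long root element equals the one on the radical -/
theorem char_levi_eq :
    ρ.character (lev (gE : GO (n + 3) F)) = ρ.character (uQ (eb 0)) := by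
  have hconj : IsConj (lev (gE : GO (n + 3) F)) (uQ (eb 0)) :=
    isConj_of_mem_lrSet _ _ lev_sg_mem_lrSet (uQ_mem_lrSet (eb 0) (Q_eb 0) (eb_ne_zero 0))
  obtain ⟨c, hc⟩ := isConj_iff.mp hconj
  rw [← hc, Representation.char_conj]

/-- the trace of the Levi long root element on the fixed space of the radical -/
theorem trace_C (hq : 4 ≤ Fintype.card F) :
    LinearMap.trace ℂ (Fin k → ℂ) (ρ (lev (gE : GO (n + 3) F)) ∘ₗ
        projOp ρ uQhom (lamB ψ (0 : VV (n + 3) F))) =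
      (mu ρ ψ 0 : ℂ) - (Fintype.card F : ℂ) ^ (2 * n + 3) := by
  have h1 := char_levi ρ ψ hψ hns hone hq
  rw [char_levi_eq ρ ψ hψ hns hone, char_long ρ ψ hψ hns hone, cast_fixed_count F n] at h1
  have h2 : LinearMap.trace ℂ (Fin k → ℂ) (ρ (lev (gE : GO (n + 3) F)) ∘ₗ
        projOp ρ uQhom (lamB ψ (0 : VV (n + 3) F))) =
      ((mu ρ ψ 0 : ℂ) - 1 + (Fintype.card F : ℂ) ^ (n + 3) - (Fintype.card F : ℂ) ^ (n + 2)) -
      ((Fintype.card F : ℂ) ^ (2 * n + 3) + (Fintype.card F : ℂ) ^ (n + 3) -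
        (Fintype.card F : ℂ) ^ (n + 2) - 1) := by
    rw [h1]; ring
  rw [h2]; ring

/-- the Levi factor acts nontrivially on the fixed space of the radical -/
theorem exists_not_fixed (hq : 4 ≤ Fintype.card F) :
    ∃ y ∈ LinearMap.range (projOp ρ uQhom (lamB ψ (0 : VV (n + 3) F))),
      ρ (lev (gE : GO (n + 3) F)) y ≠ y := by
  by_contra hcon
  push Not at hcon
  have h1 := trace_rho_comp_projOp_of_fixed ρ uQhom (lamB ψ (0 : VV (n + 3) F))
    (lev (gE : GO (n + 3) F)) hcon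
  rw [trace_C ρ ψ hψ hns hone hq, ← mu_cast] at h1
  have h2 : (Fintype.card F : ℂ) ^ (2 * n + 3) = 0 := by
    have : (mu ρ ψ 0 : ℂ) - (Fintype.card F : ℂ) ^ (2 * n + 3) = (mu ρ ψ 0 : ℂ) - 0 := by
      rw [h1, sub_zero]
    exact sub_right_injective this
  have h3 : (Fintype.card F : ℂ) ≠ 0 := by
    have : Fintype.card F ≠ 0 := Fintype.card_ne_zero
    exact_mod_cast this
  exact pow_ne_zero _ h3 h2

/-- the induction hypothesis gives `D(N) ≤ c` -/
theorem c_ge (hq : 4 ≤ Fintype.card F) (D : ℕ)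
    (IH : ∀ (d : ℕ) (τ : Representation ℂ (GO (n + 3) F) (Fin d → ℂ)), τ.IsIrreducible → 2 ≤ d →
      D ≤ d) : D ≤ mu ρ ψ 0 := by
  obtain ⟨y, hy, hne⟩ := exists_not_fixed ρ ψ hψ hns hone hq
  haveI : Fintype (GO (n + 3) F) := Fintype.ofFinite _
  obtain ⟨d, τ, hτ, hd2, hdc⟩ := exists_irr_constituent (omega_perfect (F := F) (m := n + 3) (by omega))
    (ρ.comp (lev : GO (n + 3) F →* GO (n + 4) F))
    (LinearMap.range (projOp ρ uQhom (lamB ψ (0 : VV (n + 3) F))))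
    (fun g w hw => range_invariant ρ ψ g w hw) (gE : GO (n + 3) F) y hy hne
  have := IH d τ hτ hd2
  unfold mu
  omega


/-- the character value on the long root elements, in terms of the degree -/
theorem char_long_int :
    ρ.character (uQ (eb 0)) =
      (((k : ℤ) - (Fintype.card F : ℤ) ^ (2 * (n + 3) - 1) : ℤ) : ℂ) := by
  rw [char_long ρ ψ hψ hns hone]
  have hk := degree_eq ρ ψ hψ hns hone
  have hkC : (k : ℂ) = (mu ρ ψ 0 : ℂ) + ((Fintype.card F ^ (2 * (n + 3) - 1) +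
      Fintype.card F ^ (n + 3) - Fintype.card F ^ (n + 3 - 1) - 1 : ℕ) : ℂ) := by
    conv_lhs => rw [hk]
    push_cast
    rfl
  rw [cast_sing] at hkC
  have e1 : 2 * (n + 3) - 1 = 2 * n + 5 := by omega
  rw [e1]
  push_cast
  rw [hkC]
  ring

/-- the case `c = D(N)` is excluded by integrality on the long root elements -/
theorem c_ne (hρ : ρ.IsIrreducible) (hq : 4 ≤ Fintype.card F) :
    mu ρ ψ 0 ≠ (Fintype.card F ^ (n + 3) - 1) * (Fintype.card F ^ (n + 3 - 1) + Fintype.card F) /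
      (Fintype.card F ^ 2 - 1) := by
  intro hc
  haveI : Fintype (GO (n + 4) F) := Fintype.ofFinite _
  have hk := degree_eq ρ ψ hψ hns hone
  have hdvd := dvd_of_conj_invariant_family k ρ hρ
    (pairElt : {p : VV (n + 4) F × VV (n + 4) F // p ∈ lrPairs (n + 4) F} → GO (n + 4) F)
    pairAct pairElt_act ((k : ℤ) - (Fintype.card F : ℤ) ^ (2 * (n + 3) - 1))
    (fun p => by
      have hconj : IsConj (pairElt p) (uQ (eb 0)) :=
        isConj_of_mem_lrSet _ _ (pairElt_mem_lrSet p)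
          (uQ_mem_lrSet (eb 0) (Q_eb 0) (eb_ne_zero 0))
      obtain ⟨c, hc'⟩ := isConj_iff.mp hconj
      rw [← char_long_int ρ ψ hψ hns hone, ← hc', Representation.char_conj])
  rw [Fintype.card_coe] at hdvd
  refine arith_excl (Fintype.card F) (n + 3) k (lrPairs (n + 4) F).card hq (by omega) ?_ ?_ hdvd
  · rw [hk, hc]
  · rw [card_lrPairs]
    have e1 : 2 * (n + 3) + 1 = 2 * n + 7 := by omega
    have e2 : 2 * (n + 3) - 1 = 2 * n + 5 := by omega
    have e3 : n + 3 + 1 = n + 4 := by omega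
    have e4 : n + 3 - 1 = n + 2 := by omega
    rw [e1, e2, e3, e4]

/-- the case `a = 1` of the inductive step -/
theorem bound_of_one (hρ : ρ.IsIrreducible) (hq : 4 ≤ Fintype.card F)
    (IH : ∀ (d : ℕ) (τ : Representation ℂ (GO (n + 3) F) (Fin d → ℂ)), τ.IsIrreducible → 2 ≤ d →
      (Fintype.card F ^ (n + 3) - 1) * (Fintype.card F ^ (n + 3 - 1) + Fintype.card F) /
        (Fintype.card F ^ 2 - 1) ≤ d) :
    (Fintype.card F ^ (n + 3 + 1) - 1) * (Fintype.card F ^ (n + 3) + Fintype.card F) /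
      (Fintype.card F ^ 2 - 1) ≤ k := by
  have h1 := c_ge ρ ψ hψ hns hone hq _ IH
  have h2 := c_ne ρ ψ hψ hns hone hρ hq
  have hk := degree_eq ρ ψ hψ hns hone
  have h3 := arith_step (Fintype.card F) (n + 3) (mu ρ ψ 0) hq (by omega) (by omega)
  omega

end a_one


/-- **the inductive step** -/
theorem step (hq : 4 ≤ Fintype.card F)
    (IH : ∀ (d : ℕ) (τ : Representation ℂ (GO (n + 3) F) (Fin d → ℂ)), τ.IsIrreducible → 2 ≤ d →
      (Fintype.card F ^ (n + 3) - 1) * (Fintype.card F ^ (n + 3 - 1) + Fintype.card F) /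
        (Fintype.card F ^ 2 - 1) ≤ d)
    (k : ℕ) (ρ : Representation ℂ (GO (n + 4) F) (Fin k → ℂ)) (hρ : ρ.IsIrreducible) (hk : 2 ≤ k) :
    (Fintype.card F ^ (n + 3 + 1) - 1) * (Fintype.card F ^ (n + 3) + Fintype.card F) /
      (Fintype.card F ^ 2 - 1) ≤ k := by
  obtain ⟨ψ, hψ⟩ : ∃ ψ : AddChar F ℂ, ψ 1 ≠ 1 := AddChar.exists_apply_ne_zero.mpr one_ne_zero
  by_cases hns : ∃ w : VV (n + 3) F, QfPlus (n + 3) F w ≠ 0 ∧ 1 ≤ mu ρ ψ w
  · obtain ⟨w₀, hw₀, hmu⟩ := hns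
    have h1 := bound_of_nonsingular hq ρ ψ hψ w₀ hw₀ hmu
    have h2 := arith_level (Fintype.card F) (n + 3) hq (by omega)
    omega
  · have hns' : ∀ w : VV (n + 3) F, QfPlus (n + 3) F w ≠ 0 → mu ρ ψ w = 0 := by
      intro w hw
      by_contra h0
      exact hns ⟨w, hw, by omega⟩
    rcases Nat.lt_or_ge (mu ρ ψ (eb 0)) 2 with ha | ha
    · rcases Nat.eq_zero_or_pos (mu ρ ψ (eb 0)) with h0 | hpos
      · -- `a = 0` is impossible: the radical would act trivially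
        exfalso
        obtain ⟨w, hw⟩ := exists_uQ_char_ne k ρ hρ hk
        apply hw
        rw [char_uQ ρ ψ hψ]
        have hzero : ∀ w' : VV (n + 3) F, w' ≠ 0 → mu ρ ψ w' = 0 := by
          intro w' hw'
          by_cases hQ : QfPlus (n + 3) F w' = 0
          · rw [mu_singular ρ ψ w' hQ hw', h0]
          · exact hns' w' hQ
        have hsum := sum_mu ρ ψ hψ
        rw [Finset.sum_eq_single (0 : VV (n + 3) F) (fun w' _ hw' => hzero w' hw')
          (fun h => absurd (Finset.mem_univ _) h)] at hsum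
        rw [Finset.sum_eq_single (0 : VV (n + 3) F)
          (fun w' _ hw' => by rw [hzero w' hw']; simp)
          (fun h => absurd (Finset.mem_univ _) h), hsum,
          show B (QfPlus (n + 3) F) w (0 : VV (n + 3) F) = 0 from QuadraticMap.polar_zero_right _ _,
          AddChar.map_zero_eq_one, one_mul]
      · have hone : mu ρ ψ (eb 0) = 1 := by omega
        exact bound_of_one ρ ψ hψ hns' hone hρ hq IH
    · have h1 := bound_of_two ρ ψ hψ ha
      have h2 := arith_twice (Fintype.card F) (n + 3) hq (by omega)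
      omega


/-- **S2345, main form**: every irreducible representation of degree `≥ 2` of `Ω⁺_{2(n+3)}(q)`,
`q ≥ 4`, has degree at least `(q^(n+3) - 1)(q^(n+2) + q)/(q^2 - 1)`. -/
theorem main_bound (hq : 4 ≤ Fintype.card F) (n : ℕ) :
    ∀ (d : ℕ) (τ : Representation ℂ (GO (n + 3) F) (Fin d → ℂ)), τ.IsIrreducible → 2 ≤ d →
      (Fintype.card F ^ (n + 3) - 1) * (Fintype.card F ^ (n + 3 - 1) + Fintype.card F) /
        (Fintype.card F ^ 2 - 1) ≤ d := by
  induction n with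
  | zero =>
    intro d τ hτ hd
    obtain ⟨κ, hκ⟩ := exists_klein (F := F)
    have hτ' : Representation.IsIrreducible
        (MonoidHom.comp τ κ : Representation ℂ (Matrix.SpecialLinearGroup (Fin 4) F) (Fin d → ℂ)) :=
      Cfsg.Agent.Helper8.isIrreducible_comp_surjective τ κ hκ hτ
    have h1 := (Cfsg.Agent.S2332.result (F := F) 4 (by norm_num)
      ⟨by simp, by simp, by
        intro h
        have := (Prod.mk.injEq _ _ _ _ ▸ h : (4 : ℕ) = 4 ∧ Fintype.card F = 2).2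
        omega, by
        intro h
        have := (Prod.mk.injEq _ _ _ _ ▸ h : (4 : ℕ) = 4 ∧ Fintype.card F = 3).2
        omega⟩).1 d _ hτ' hd
    have h2 := arith_base (Fintype.card F) (by omega)
    show (Fintype.card F ^ 3 - 1) * (Fintype.card F ^ 2 + Fintype.card F) /
        (Fintype.card F ^ 2 - 1) ≤ d
    rw [h2]
    exact h1
  | succ n ih =>
    intro d τ hτ hd
    exact step hq ih d τ hτ hd

end Cfsg.Agent.Helper12.LOP
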