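import Mathlib
import Cfsg.Agent.Helper12.LSUDefs
import Cfsg.Agent.Helper19.LSUFIX

set_option autoImplicit false

/-! S2335 piece BASE: orbits on nonzero Hermitian `1 × 1` matrices have at least `q - 1` elements. -/

namespace Cfsg.Agent.Helper12.LSU

open Matrix Cfsg Cfsg.Agent.Helper2.SUGen

variable {F : Type*} [Field F] {q : ℕ}

theorem base_NN_one (q : ℕ) : NN q 1 = q - 1 := by
  unfold NN
  apply Nat.div_eq_of_eq_mul_left (by omega)
  rcases q with _ | n
  · simp
  · have : (n + 1) ^ (2 * 1) = n * (n + 1 + 1) + 1 := by ring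
    rw [this]
    simp

theorem card_ge_one [Fintype F] [DecidableEq F] (D : Frob F q) (hF : Fintype.card F = q ^ 2)
    (Φ : Finset (Matrix (Fin 1) (Fin 1) F)) (hH : ∀ H ∈ Φ, H ∈ Herm D.σ 1)
    (h0 : (0 : Matrix (Fin 1) (Fin 1) F) ∉ Φ) (hne : Φ.Nonempty)
    (hstab : ∀ A : Matrix (Fin 1) (Fin 1) F, A.det ≠ 0 → ∀ H ∈ Φ, hact D.σ A H ∈ Φ) :
    NN q 1 ≤ Φ.card := by
  classical
  rw [base_NN_one, ← card_fixUnits D hF]
  obtain ⟨H₀, hH₀⟩ := hne
  set c : F := H₀ 0 0 with hc
  have hc0 : c ≠ 0 := by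
    intro h
    apply h0
    have : H₀ = 0 := by
      ext i j
      rw [Subsingleton.elim i 0, Subsingleton.elim j 0, ← hc, h]
      rfl
    rw [← this]
    exact hH₀
  have hcfix : D.σ c = c := by
    have h1 := (mem_Herm D.σ H₀).mp (hH H₀ hH₀)
    have h2 := congrFun (congrFun h1 0) 0
    rw [ct_apply] at h2
    exact h2
  apply Finset.card_le_card_of_injOn (fun c' : F => (Matrix.of fun _ _ => c' : Matrix (Fin 1) (Fin 1) F))
  · intro c' hc'
    rw [Finset.coe_filter] at hc'
    obtain ⟨-, hc'0, hc'fix⟩ := hc'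
    have hd0 : c' / c ≠ 0 := div_ne_zero hc'0 hc0
    have hdfix : D.σ (c' / c) = c' / c := by rw [map_div₀, hc'fix, hcfix]
    obtain ⟨a, ha⟩ := exists_norm D (c' / c) hd0 hdfix
    have ha0 : a ≠ 0 := by
      rintro rfl
      rw [zero_mul] at ha
      exact hd0 ha.symm
    have hdet : (Matrix.of fun _ _ => a : Matrix (Fin 1) (Fin 1) F).det ≠ 0 := by
      rw [Matrix.det_fin_one]
      exact ha0
    have hmem := hstab _ hdet H₀ hH₀
    have heq : hact D.σ (Matrix.of fun _ _ => a : Matrix (Fin 1) (Fin 1) F) H₀ =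
        (Matrix.of fun _ _ => c' : Matrix (Fin 1) (Fin 1) F) := by
      ext i j
      rw [Subsingleton.elim i 0, Subsingleton.elim j 0]
      unfold hact
      rw [Matrix.mul_apply, Fin.sum_univ_one, Matrix.mul_apply, Fin.sum_univ_one, ct_apply]
      simp only [Matrix.of_apply]
      rw [← hc]
      have : a * c * D.σ a = (a * D.σ a) * c := by ring
      rw [this, ha, div_mul_cancel₀ _ hc0]
    rw [heq] at hmem
    exact hmem
  · intro c₁ _ c₂ _ h12
    have := congrFun (congrFun h12 0) 0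
    simpa using this

end Cfsg.Agent.Helper12.LSU
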