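import Mathlib
import Cfsg.Agent.Helper12.LSUDefs

set_option autoImplicit false

/-! S2335 piece FORM: the model hyperbolic Hermitian form `fJ`. -/

namespace Cfsg.Agent.Helper12.LSU

open Matrix Cfsg Cfsg.Agent.Helper2.SUGen

variable {F : Type*} [Field F] {q : ℕ}

theorem fJ_add_left (σ : F →+* F) (a : F) {m : ℕ} (x x' y : Fin (m + m) → F) :
    fJ σ a (x + x') y = fJ σ a x y + fJ σ a x' y := by
  unfold fJ
  rw [← Finset.sum_add_distrib]
  apply Finset.sum_congr rfl
  intro i _
  simp only [Pi.add_apply]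
  ring

theorem fJ_smul_left (σ : F →+* F) (a : F) {m : ℕ} (c : F) (x y : Fin (m + m) → F) :
    fJ σ a (c • x) y = c * fJ σ a x y := by
  unfold fJ
  rw [Finset.mul_sum]
  apply Finset.sum_congr rfl
  intro i _
  simp only [Pi.smul_apply, smul_eq_mul]
  ring

theorem fJ_herm (σ : F →+* F) (hσ2 : ∀ x, σ (σ x) = x) (a : F) {m : ℕ} (x y : Fin (m + m) → F) :
    fJ σ a x y = σ (fJ σ a y x) := by
  unfold fJ
  rw [map_sum]
  apply Finset.sum_congr rfl
  intro i _
  simp only [map_add, map_mul, hσ2]
  ring

theorem fJ_nondeg (σ : F →+* F) (hσ2 : ∀ x, σ (σ x) = x) (a : F) (ha0 : a ≠ 0) {m : ℕ}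
    (v : Fin (m + m) → F) (hv : v ≠ 0) : ∃ x, fJ σ a v x ≠ 0 := by
  classical
  have hσa : σ a ≠ 0 := (map_ne_zero_iff σ σ.injective).mpr ha0
  have hex : ∃ k, v k ≠ 0 := by
    by_contra hcon
    push Not at hcon
    exact hv (funext hcon)
  obtain ⟨k, hk⟩ := hex
  have hk' : ∃ i : Fin m, v (Fin.castAdd m i) ≠ 0 ∨ v (Fin.natAdd m i) ≠ 0 := by
    induction k using Fin.addCases with
    | left i => exact ⟨i, Or.inl hk⟩
    | right i => exact ⟨i, Or.inr hk⟩
  obtain ⟨i, hi | hi⟩ := hk'
  · refine ⟨Pi.single (Fin.natAdd m i) 1, ?_⟩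
    unfold fJ
    have hne : ∀ j : Fin m, Fin.castAdd m j ≠ Fin.natAdd m i := by
      intro j hj
      have := congrArg Fin.val hj
      simp only [Fin.val_castAdd, Fin.val_natAdd] at this
      omega
    rw [Finset.sum_eq_single i]
    · rw [Pi.single_eq_same, Pi.single_eq_of_ne (hne i), map_one, map_zero, mul_one, mul_zero,
        add_zero]
      exact mul_ne_zero ha0 hi
    · intro j _ hji
      have h1 : Fin.natAdd m j ≠ Fin.natAdd m i := by
        intro hj
        apply hji
        have := congrArg Fin.val hj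
        simp only [Fin.val_natAdd] at this
        exact Fin.ext (by omega)
      rw [Pi.single_eq_of_ne h1, Pi.single_eq_of_ne (hne j), map_zero, mul_zero, mul_zero,
        add_zero]
    · intro h
      exact absurd (Finset.mem_univ i) h
  · refine ⟨Pi.single (Fin.castAdd m i) 1, ?_⟩
    unfold fJ
    have hne : ∀ j : Fin m, Fin.natAdd m j ≠ Fin.castAdd m i := by
      intro j hj
      have := congrArg Fin.val hj
      simp only [Fin.val_castAdd, Fin.val_natAdd] at this
      omega
    rw [Finset.sum_eq_single i]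
    · rw [Pi.single_eq_same, Pi.single_eq_of_ne (hne i), map_one, map_zero, mul_one, mul_zero,
        zero_add]
      exact mul_ne_zero hσa hi
    · intro j _ hji
      have h1 : Fin.castAdd m j ≠ Fin.castAdd m i := by
        intro hj
        apply hji
        have := congrArg Fin.val hj
        simp only [Fin.val_castAdd] at this
        exact Fin.ext this
      rw [Pi.single_eq_of_ne h1, Pi.single_eq_of_ne (hne j), map_zero, mul_zero, mul_zero,
        add_zero]
    · intro h
      exact absurd (Finset.mem_univ i) h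

end Cfsg.Agent.Helper12.LSU
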