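import Mathlib
import Cfsg.Agent.Helper12.LSUDefs
import Cfsg.Agent.Helper12.SLTrans
import Cfsg.Agent.Helper12.LSUEMB

set_option autoImplicit false

/-! S2335 piece NDCOL: counting the first columns of the elements with zero corner. -/

namespace Cfsg.Agent.Helper12.LSU

open Matrix Cfsg Cfsg.Agent.Helper2.SUGen

variable {F : Type*} [Field F] {q : ℕ}

/-- the first column (below the corner) -/
def ndcol_col {m : ℕ} (H : Matrix (Fin (m + 1)) (Fin (m + 1)) F) : Fin m → F :=
  fun j => H j.succ 0

/-- every `det A' • A' w₀` is the first column of an element with zero corner -/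
theorem ndcol_mem [DecidableEq F] (D : Frob F q) {m : ℕ}
    (Φ : Finset (Matrix (Fin (m + 1)) (Fin (m + 1)) F))
    (hstab : ∀ A : Matrix (Fin (m + 1)) (Fin (m + 1)) F, A.det ≠ 0 → D.σ A.det = A.det →
      ∀ H ∈ Φ, hact D.σ A H ∈ Φ)
    (H₂ : Matrix (Fin (m + 1)) (Fin (m + 1)) F) (hH₂ : H₂ ∈ Φ) (h00 : H₂ 0 0 = 0)
    (A' : Matrix (Fin m) (Fin m) F) (hA' : A'.det ≠ 0) :
    A'.det • (A' *ᵥ ndcol_col H₂) ∈ (Φ.filter (fun H => H 0 0 = 0)).image ndcol_col := by
  rw [Finset.mem_image]
  refine ⟨hact D.σ (dblock (D.σ A'.det) A') H₂, ?_, ?_⟩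
  · rw [Finset.mem_filter]
    refine ⟨hstab _ ?_ ?_ H₂ hH₂, ?_⟩
    · rw [det_dblock]
      exact mul_ne_zero (σ_ne_zero D hA') hA'
    · rw [det_dblock, map_mul, D.invol, mul_comm]
    · rw [hact_dblock_corner, h00, mul_zero, zero_mul]
  · funext j
    unfold ndcol_col
    rw [hact_dblock_col, D.invol, Pi.smul_apply, smul_eq_mul, mul_comm]
    rfl

theorem ndcol_NN_one : NN q 1 = q - 1 := by
  unfold NN
  rcases Nat.eq_zero_or_pos q with h | h
  · subst h
    simp
  · have e : q ^ (2 * 1) - 1 = (q - 1) * (q + 1) := by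
      obtain ⟨r, rfl⟩ : ∃ r, q = r + 1 := ⟨q - 1, by omega⟩
      simp only [Nat.add_sub_cancel]
      have : (r + 1) ^ (2 * 1) = r * (r + 1 + 1) + 1 := by ring
      rw [this]
      simp
    rw [e, Nat.mul_div_cancel _ (by omega)]

theorem card_cols_ge [Fintype F] [DecidableEq F] (D : Frob F q) (hF : Fintype.card F = q ^ 2)
    {m : ℕ} (hm : 1 ≤ m) (Φ : Finset (Matrix (Fin (m + 1)) (Fin (m + 1)) F))
    (hstab : ∀ A : Matrix (Fin (m + 1)) (Fin (m + 1)) F, A.det ≠ 0 → D.σ A.det = A.det →
      ∀ H ∈ Φ, hact D.σ A H ∈ Φ)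
    (H₂ : Matrix (Fin (m + 1)) (Fin (m + 1)) F) (hH₂ : H₂ ∈ Φ) (h00 : H₂ 0 0 = 0)
    (hcol : ∃ j : Fin m, H₂ j.succ 0 ≠ 0) :
    NN q m ≤ (Φ.filter (fun H => H 0 0 = 0)).card := by
  classical
  refine le_trans ?_ (Finset.card_image_le (f := ndcol_col))
  have hw₀ : ndcol_col H₂ ≠ 0 := by
    obtain ⟨j, hj⟩ := hcol
    intro h
    exact hj (congrFun h j)
  rcases Nat.lt_or_ge 1 m with hm2 | hm1
  · -- `m ≥ 2`: all nonzero vectors occur
    have hsub : (Finset.univ.filter (fun w : Fin m → F => w ≠ 0)) ⊆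
        (Φ.filter (fun H => H 0 0 = 0)).image ndcol_col := by
      intro w hw
      rw [Finset.mem_filter] at hw
      have hli : ∀ v : Fin m → F, v ≠ 0 → LinearIndependent F (fun _ : Fin 1 => v) := by
        intro v hv
        exact LinearIndependent.of_subsingleton (0 : Fin 1) hv
      obtain ⟨g, hg⟩ := Cfsg.Agent.Helper12.exists_sl_map_family hm2 (fun _ : Fin 1 => ndcol_col H₂)
        (fun _ : Fin 1 => w) (hli _ hw₀) (hli _ hw.2)
      have h1 := ndcol_mem D Φ hstab H₂ hH₂ h00 (g : Matrix (Fin m) (Fin m) F)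
        (by rw [g.2]; exact one_ne_zero)
      rw [g.2, one_smul, hg 0] at h1
      exact h1
    refine le_trans ?_ (Finset.card_le_card hsub)
    have hcard : (Finset.univ.filter (fun w : Fin m → F => w ≠ 0)).card = (q ^ 2) ^ m - 1 := by
      rw [Finset.filter_ne' Finset.univ (0 : Fin m → F), Finset.card_erase_of_mem (Finset.mem_univ _),
        Finset.card_univ, Fintype.card_fun, Fintype.card_fin, hF]
    rw [hcard, ← pow_mul]
    unfold NN
    exact Nat.div_le_self _ _
  · -- `m = 1`
    obtain rfl : m = 1 := by omega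
    rw [ndcol_NN_one]
    set w₀ : F := ndcol_col H₂ 0 with hw₀def
    have hw₀' : w₀ ≠ 0 := by
      intro h
      apply hw₀
      funext j
      rw [Subsingleton.elim j 0]
      exact h
    set f : F → (Fin 1 → F) := fun a => fun _ => a * a * w₀ with hf
    have hsub : (Finset.univ.filter (fun a : F => a ≠ 0)).image f ⊆
        (Φ.filter (fun H => H 0 0 = 0)).image ndcol_col := by
      intro w hw
      rw [Finset.mem_image] at hw
      obtain ⟨a, ha, rfl⟩ := hw
      rw [Finset.mem_filter] at ha
      have hdet : (Matrix.of fun _ _ : Fin 1 => a).det = a := by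
        rw [Matrix.det_fin_one]
        rfl
      have h1 := ndcol_mem D Φ hstab H₂ hH₂ h00 (Matrix.of fun _ _ : Fin 1 => a)
        (by rw [hdet]; exact ha.2)
      rw [hdet] at h1
      have e : a • ((Matrix.of fun _ _ : Fin 1 => a) *ᵥ ndcol_col H₂) = f a := by
        funext j
        rw [Pi.smul_apply, smul_eq_mul, Matrix.mulVec, dotProduct, Fin.sum_univ_one, hf]
        simp only [Matrix.of_apply]
        rw [← hw₀def, mul_assoc]
      rw [e] at h1
      exact h1
    refine le_trans ?_ (Finset.card_le_card hsub)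
    -- fibres of `f` have at most two elements
    have hfib : ∀ w ∈ (Finset.univ.filter (fun a : F => a ≠ 0)).image f,
        ((Finset.univ.filter (fun a : F => a ≠ 0)).filter (fun a => f a = w)).card ≤ 2 := by
      intro w hw
      rw [Finset.mem_image] at hw
      obtain ⟨b, _, rfl⟩ := hw
      have hsub2 : (Finset.univ.filter (fun a : F => a ≠ 0)).filter (fun a => f a = f b) ⊆
          ({b, -b} : Finset F) := by
        intro a ha
        rw [Finset.mem_filter] at ha
        have h2 := congrFun ha.2 0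
        rw [hf] at h2
        simp only at h2
        have h3 : a * a = b * b := mul_right_cancel₀ hw₀' h2
        have h4 : (a - b) * (a + b) = 0 := by ring_nf; rw [← sq, ← sq] at *; linear_combination h3
        rw [Finset.mem_insert, Finset.mem_singleton]
        rcases mul_eq_zero.mp h4 with h5 | h5
        · left; exact sub_eq_zero.mp h5
        · right; exact eq_neg_of_add_eq_zero_left h5
      exact le_trans (Finset.card_le_card hsub2) Finset.card_le_two
    have h1 := Finset.card_le_mul_card_image (s := Finset.univ.filter (fun a : F => a ≠ 0)) (f := f) 2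
      hfib
    have hcard : (Finset.univ.filter (fun a : F => a ≠ 0)).card = q ^ 2 - 1 := by
      rw [Finset.filter_ne' Finset.univ (0 : F), Finset.card_erase_of_mem (Finset.mem_univ _),
        Finset.card_univ, hF]
    rw [hcard] at h1
    have hq : 1 ≤ q := by
      by_contra hlt
      have : q = 0 := by omega
      rw [this] at hF
      have h1 : 0 < Fintype.card F := Fintype.card_pos
      rw [hF] at h1
      simp at h1
    have e : q ^ 2 - 1 = (q - 1) * (q + 1) := by
      obtain ⟨r, rfl⟩ : ∃ r, q = r + 1 := ⟨q - 1, by omega⟩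
      simp only [Nat.add_sub_cancel]
      have : (r + 1) ^ 2 = r * (r + 1 + 1) + 1 := by ring
      rw [this]
      simp
    rw [e] at h1
    have h2 : (q - 1) * 2 ≤ (q - 1) * (q + 1) := Nat.mul_le_mul_left _ (by omega)
    nlinarith

end Cfsg.Agent.Helper12.LSU
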