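import Mathlib
import Cfsg.Prelude.Def_GeometricClasses
import Cfsg.Agent.Helper2.SU.Simple
import Cfsg.Agent.Helper12.LSUDefs

set_option autoImplicit false

/-! S2335 piece NORMAL: a normal subgroup of `SU_n(q)` containing a non-central element is
everything (from helper2's Iwasawa argument). -/

namespace Cfsg.Agent.Helper12.LSU

open Matrix Cfsg Cfsg.Agent.Helper2.SUGen

variable {F : Type*} [Field F] {q : ℕ}

theorem normal_eq_top [Fintype F] (D : Frob F q) (hF : Fintype.card F = q ^ 2) (n : ℕ)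
    (hn : 3 ≤ n) (h32 : ¬ (n = 3 ∧ q = 2)) (N : Subgroup ↥(Cfsg.SU n F q)) (hN : N.Normal)
    (g : ↥(Cfsg.SU n F q)) (hg : g ∈ N) (hgc : g ∉ Subgroup.center ↥(Cfsg.SU n F q)) :
    N = ⊤ := by
  classical
  have hperf := commutator_SU_eq_top hF n hn h32
  have : ∃ v : Fin n → F, v ≠ 0 ∧ Cfsg.hermForm n F q v v = 0 ∧
      ∀ a : F, Cfsg.Agent.S2644.toM F n q g *ᵥ v ≠ a • v := by
    by_contra hcon
    push Not at hcon
    exact hgc (mem_center_of_fix D (by omega) hcon)
  obtain ⟨v₀, hv₀, hvv, hmove⟩ := this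
  have := commutator_le_of_moves D hF hn h32 hg hv₀ hvv hmove
  rw [hperf] at this
  exact top_le_iff.mp this

end Cfsg.Agent.Helper12.LSU
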