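import Mathlib
import Cfsg.Prelude.Def_Characters
import Cfsg.Agent.Helper24.CharBasic
import Cfsg.Agent.Helper12.LSUDefs

set_option autoImplicit false

/-! S2335 piece REPb: invariance of multiplicities under conjugation, and the kernel criterion. -/

namespace Cfsg.Agent.Helper12.LSU

open Matrix Cfsg Cfsg.Agent.Helper2.SUGen

theorem rep_invariant {G A : Type*} [Group G] [Group A] [Fintype A]
    (U : A →* G) (hU : Function.Injective U) (χ : G → ℂ) (hcl : IsClassFunction G χ)
    (g : G) (e : A → A) (he : ∀ a, U (e a) = g * U a * g⁻¹) (l₁ l₂ : A → ℂ)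
    (h12 : ∀ a, l₁ (e a) = l₂ a) :
    classInner (fun a => χ (U a)) l₁ = classInner (fun a => χ (U a)) l₂ := by
  classical
  have hinj : Function.Injective e := by
    intro a b hab
    apply hU
    have h1 : g * U a * g⁻¹ = g * U b * g⁻¹ := by rw [← he, ← he, hab]
    have h2 : g * U a = g * U b := mul_right_cancel h1
    exact mul_left_cancel h2
  have hbij : Function.Bijective e := Finite.injective_iff_bijective.mp hinj
  unfold classInner
  congr 1
  rw [← Function.Bijective.sum_comp hbij (fun a => χ (U a) * (starRingEnd ℂ) (l₁ a))]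
  apply Finset.sum_congr rfl
  intro a _
  simp only
  rw [he, hcl, h12]

theorem rep_kernel {G A : Type*} [Group G] [Finite G] [Group A] [Fintype A] (U : A →* G)
    (χ : G → ℂ) (hχ : IsCharacter G χ)
    (h : classInner (fun a => χ (U a)) (fun _ => (1 : ℂ)) = χ 1) : ∀ a, χ (U a) = χ 1 := by
  classical
  obtain ⟨n, ρ, rfl⟩ := hχ
  set d : ℝ := (Module.finrank ℂ (Fin n → ℂ) : ℝ) with hd
  have h1 : ρ.character 1 = ((d : ℝ) : ℂ) := by
    rw [Representation.char_one, hd]
    norm_cast
  have hle : ∀ g : G, ‖ρ.character g‖ ≤ d := fun g => Cfsg.Agent.Helper24.norm_char_le ρ g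
  have hA : (Nat.card A : ℂ) ≠ 0 := by
    rw [Nat.card_eq_fintype_card]
    exact_mod_cast Fintype.card_ne_zero
  unfold classInner at h
  simp only [map_one, mul_one] at h
  have hsum : ∑ a : A, ρ.character (U a) = (Nat.card A : ℂ) * ((d : ℝ) : ℂ) := by
    rw [← h1, ← h, ← mul_assoc, mul_inv_cancel₀ hA, one_mul]
  have hre : ∑ a : A, (ρ.character (U a)).re = (Nat.card A : ℝ) * d := by
    have := congrArg Complex.re hsum
    rw [Complex.re_sum] at this
    rw [this]
    simp
  have hrele : ∀ a : A, (ρ.character (U a)).re ≤ d :=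
    fun a => (Complex.re_le_norm _).trans (hle _)
  have hzero : ∑ a : A, (d - (ρ.character (U a)).re) = 0 := by
    rw [Finset.sum_sub_distrib, hre, Finset.sum_const, Finset.card_univ, nsmul_eq_mul,
      Nat.card_eq_fintype_card]
    ring
  have heach := (Finset.sum_eq_zero_iff_of_nonneg
    (fun a _ => sub_nonneg.mpr (hrele a))).mp hzero
  intro a
  have hre_a : (ρ.character (U a)).re = d := by
    have := heach a (Finset.mem_univ a)
    linarith
  have him_a : (ρ.character (U a)).im = 0 := by
    have h2 := hle (U a)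
    have h3 : ‖ρ.character (U a)‖ ^ 2 = (ρ.character (U a)).re ^ 2 + (ρ.character (U a)).im ^ 2 := by
      rw [← Complex.normSq_eq_norm_sq, Complex.normSq_apply]
      ring
    have hd0 : 0 ≤ d := (norm_nonneg _).trans h2
    have h4 : ‖ρ.character (U a)‖ ^ 2 ≤ d ^ 2 := by
      apply pow_le_pow_left₀ (norm_nonneg _) h2
    rw [h3, hre_a] at h4
    have h5 : (ρ.character (U a)).im ^ 2 ≤ 0 := by linarith
    have h6 : (ρ.character (U a)).im ^ 2 = 0 := le_antisymm h5 (sq_nonneg _)
    exact pow_eq_zero_iff (two_ne_zero) |>.mp h6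
  rw [h1]
  apply Complex.ext
  · rw [hre_a, Complex.ofReal_re]
  · rw [him_a, Complex.ofReal_im]

end Cfsg.Agent.Helper12.LSU
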