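import Mathlib
import Cfsg.Prelude.Def_GeometricClasses
import Cfsg.Agent.S0755
import Cfsg.Agent.Helper28.HermWitt
import Cfsg.Agent.Helper12.LSUDefs

set_option autoImplicit false

/-! S2335 piece STD: standardisation of a non-degenerate Hermitian form with a given Frobenius
datum (copy of `Cfsg.Agent.Helper28.HermStd.exists_std`). -/

namespace Cfsg.Agent.Helper12.LSU

open Matrix Cfsg Cfsg.Agent.Helper2.SUGen

variable {F : Type*} [Field F] {q : ℕ}

theorem exists_std_q [Finite F] (D : Frob F q) {n : ℕ} (f : (Fin n → F) → (Fin n → F) → F)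
    (hadd : ∀ x y v, f (x + y) v = f x v + f y v)
    (hsmul : ∀ (c : F) (x v : Fin n → F), f (c • x) v = c * f x v)
    (hherm : ∀ v w, f v w = D.σ (f w v)) (hnd : ∀ v, v ≠ 0 → ∃ x, f v x ≠ 0) :
    ∃ P : Matrix.GeneralLinearGroup (Fin n) F, ∀ x y : Fin n → F,
      f ((P : Matrix (Fin n) (Fin n) F) *ᵥ x) ((P : Matrix (Fin n) (Fin n) F) *ᵥ y) =
        Cfsg.hermForm n F q x y := by
  classical
  have hadd_r : ∀ x y y', f x (y + y') = f x y + f x y' := by
    intro x y y'
    rw [hherm, hadd, map_add, ← hherm, ← hherm]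
  have hsmul_r : ∀ (c : F) x y, f x (c • y) = D.σ c * f x y := by
    intro c x y
    rw [hherm, hsmul, map_mul, ← hherm]
  let B : (Fin n → F) →ₛₗ[D.σ] (Fin n → F) →ₗ[F] F :=
    LinearMap.mk₂'ₛₗ D.σ (RingHom.id F) (fun x y => f y x)
      (fun x x' y => hadd_r y x x') (fun c x y => hsmul_r c y x)
      (fun x y y' => hadd y y' x) (fun c x y => hsmul c y x)
  have hBa : ∀ x y, B x y = f y x := fun x y => rfl
  have hS : B.IsSymm := ⟨fun x y => by
    rw [hBa, hBa]
    exact (hherm x y).symm⟩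
  have hsep : B.SeparatingRight := by
    intro y hy
    by_contra hy0
    obtain ⟨x, hx⟩ := hnd y hy0
    exact hx (hy x)
  obtain ⟨b, hb⟩ := Cfsg.Agent.S0755.aux D.σ D.ne_id D.invol n B hS hsep
    (Module.finrank_fin_fun F)
  set P₀ : Matrix (Fin n) (Fin n) F := Matrix.of (fun i j => b j i) with hP₀
  have hP₀v : ∀ x : Fin n → F, P₀ *ᵥ x = ∑ j, x j • b j := by
    intro x
    funext i
    simp only [hP₀, Matrix.mulVec, dotProduct, Matrix.of_apply, Finset.sum_apply, Pi.smul_apply,
      smul_eq_mul]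
    apply Finset.sum_congr rfl
    intro j _
    rw [mul_comm]
  have hform : ∀ x y : Fin n → F, f (P₀ *ᵥ x) (P₀ *ᵥ y) = Cfsg.hermForm n F q x y := by
    intro x y
    rw [← hBa, hP₀v y, Cfsg.Agent.Helper28.HW.B_sum_left]
    simp only [Cfsg.hermForm]
    apply Finset.sum_congr rfl
    intro k _
    rw [hP₀v x, map_sum]
    have : ∀ j, B (b k) (x j • b j) = x j * (if k = j then 1 else 0) := by
      intro j
      rw [map_smul, smul_eq_mul, hb]
    simp only [this, mul_ite, mul_one, mul_zero, Finset.sum_ite_eq, Finset.mem_univ, if_true]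
    rw [mul_comm]
    congr 1
    exact D.pow (y k)
  have hinj : Function.Injective P₀.mulVec := by
    intro x x' hxx'
    have h0 : P₀ *ᵥ (x - x') = 0 := by
      rw [Matrix.mulVec_sub]
      exact sub_eq_zero.mpr hxx'
    have h1 : x - x' = 0 := by
      apply h_nondeg D
      intro y
      rw [← hform, h0]
      have := hsmul 0 0 (P₀ *ᵥ y)
      simpa using this
    exact sub_eq_zero.mp h1
  have hunit : IsUnit P₀ := Matrix.mulVec_injective_iff_isUnit.mp hinj
  obtain ⟨P, hP⟩ := hunit
  exact ⟨P, fun x y => by rw [hP]; exact hform x y⟩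

end Cfsg.Agent.Helper12.LSU
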