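import Mathlib
import Cfsg.Agent.Helper12.LSUDefs
import Cfsg.Agent.Helper3.LSUALG
import Cfsg.Agent.Helper19.LSUARITH
import Cfsg.Agent.Helper12.LSUBASE
import Cfsg.Agent.Helper3.LSUCOL
import Cfsg.Agent.Helper20.LSUDUAL
import Cfsg.Agent.Helper12.LSUEMB
import Cfsg.Agent.Helper19.LSUFIX
import Cfsg.Agent.Helper12.LSUFORM
import Cfsg.Agent.Helper20.LSUISO
import Cfsg.Agent.Helper13.LSUMODELab
import Cfsg.Agent.Helper13.LSUMODELc
import Cfsg.Agent.Helper19.LSUNC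
import Cfsg.Agent.Helper12.LSUNDCOL
import Cfsg.Agent.Helper20.LSUNI
import Cfsg.Agent.Helper12.LSUNORMAL
import Cfsg.Agent.Helper20.LSURAD
import Cfsg.Agent.Helper12.LSUREPa
import Cfsg.Agent.Helper12.LSUREPb
import Cfsg.Agent.Helper12.LSUSTD

set_option autoImplicit false

/-! S2335: every orbit of `{A ∈ GL_m(q²) : det A ∈ F_q}` on the nonzero Hermitian matrices has at
least `(q^(2m) - 1)/(q + 1)` elements (assembly of the orbit count). -/

namespace Cfsg.Agent.Helper12.LSU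

open Matrix Cfsg Cfsg.Agent.Helper2.SUGen

variable {F : Type*} [Field F] {q : ℕ}

theorem two_le_of_card [Fintype F] (hF : Fintype.card F = q ^ 2) : 2 ≤ q := by
  by_contra hlt
  have h1 : 1 < Fintype.card F := Fintype.one_lt_card
  have : q = 0 ∨ q = 1 := by omega
  rcases this with h | h <;> rw [hF, h] at h1 <;> simp at h1

/-- the elements with nonzero corner -/
theorem card_corner_ne_ge [Fintype F] [DecidableEq F] (D : Frob F q) (hF : Fintype.card F = q ^ 2)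
    {m : ℕ} (hm : 1 ≤ m) (Φ : Finset (Matrix (Fin (m + 1)) (Fin (m + 1)) F))
    (hH : ∀ H ∈ Φ, H ∈ Herm D.σ (m + 1))
    (hstab : ∀ A : Matrix (Fin (m + 1)) (Fin (m + 1)) F, A.det ≠ 0 → D.σ A.det = A.det →
      ∀ H ∈ Φ, hact D.σ A H ∈ Φ)
    (H₁ : Matrix (Fin (m + 1)) (Fin (m + 1)) F) (hH₁ : H₁ ∈ Φ) (hc : H₁ 0 0 ≠ 0) :
    (q - 1) * q ^ (2 * m) ≤ (Φ.filter (fun H => H 0 0 ≠ 0)).card := by
  classical
  set S : Finset (F × (Fin m → F)) :=
    (Finset.univ.filter (fun c : F => c ≠ 0 ∧ D.σ c = c)) ×ˢ (Finset.univ : Finset (Fin m → F))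
    with hS
  have hScard : S.card = (q - 1) * q ^ (2 * m) := by
    rw [hS, Finset.card_product, card_fixUnits D hF, Finset.card_univ, Fintype.card_fun,
      Fintype.card_fin, hF, ← pow_mul]
  have hex : ∀ p : F × (Fin m → F), p ∈ S →
      ∃ A : Matrix (Fin (m + 1)) (Fin (m + 1)) F, A.det ≠ 0 ∧ D.σ A.det = A.det ∧
        hact D.σ A H₁ 0 0 = p.1 ∧ ∀ j : Fin m, hact D.σ A H₁ j.succ 0 = p.2 j := by
    intro p hp
    rw [hS, Finset.mem_product, Finset.mem_filter] at hp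
    exact exists_corner_col D hm H₁ (hH H₁ hH₁) hc p.1 hp.1.2.1 hp.1.2.2 p.2
  set f : F × (Fin m → F) → Matrix (Fin (m + 1)) (Fin (m + 1)) F := fun p =>
    if hp : p ∈ S then hact D.σ (Classical.choose (hex p hp)) H₁ else 0 with hf
  have hfspec : ∀ p (hp : p ∈ S), f p ∈ Φ ∧ f p 0 0 = p.1 ∧ ∀ j : Fin m, f p j.succ 0 = p.2 j := by
    intro p hp
    have h := Classical.choose_spec (hex p hp)
    have e : f p = hact D.σ (Classical.choose (hex p hp)) H₁ := by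
      rw [hf]
      simp only
      rw [dif_pos hp]
    rw [e]
    exact ⟨hstab _ h.1 h.2.1 H₁ hH₁, h.2.2.1, h.2.2.2⟩
  rw [← hScard]
  apply Finset.card_le_card_of_injOn f
  · intro p hp
    have hp' : p ∈ S := hp
    obtain ⟨h1, h2, _⟩ := hfspec p hp'
    rw [Finset.mem_coe, Finset.mem_filter]
    refine ⟨h1, ?_⟩
    rw [h2]
    rw [hS, Finset.mem_product, Finset.mem_filter] at hp'
    exact hp'.1.2.1
  · intro p hp p' hp' hpp
    have hp1 : p ∈ S := hp
    have hp2 : p' ∈ S := hp'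
    obtain ⟨_, h2, h3⟩ := hfspec p hp1
    obtain ⟨_, h2', h3'⟩ := hfspec p' hp2
    apply Prod.ext
    · rw [← h2, ← h2', hpp]
    · funext j
      rw [← h3 j, ← h3' j, hpp]

/-- the elements with zero corner -/
theorem card_corner_zero_ge [Fintype F] [DecidableEq F] (D : Frob F q)
    (hF : Fintype.card F = q ^ 2) {m : ℕ} (hm : 1 ≤ m)
    (IH : ∀ Φ' : Finset (Matrix (Fin m) (Fin m) F), (∀ H ∈ Φ', H ∈ Herm D.σ m) →
      (0 : Matrix (Fin m) (Fin m) F) ∉ Φ' → Φ'.Nonempty →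
      (∀ A : Matrix (Fin m) (Fin m) F, A.det ≠ 0 → ∀ H ∈ Φ', hact D.σ A H ∈ Φ') →
      NN q m ≤ Φ'.card)
    (Φ : Finset (Matrix (Fin (m + 1)) (Fin (m + 1)) F))
    (hH : ∀ H ∈ Φ, H ∈ Herm D.σ (m + 1)) (h0 : (0 : Matrix (Fin (m + 1)) (Fin (m + 1)) F) ∉ Φ)
    (hne : Φ.Nonempty)
    (hstab : ∀ A : Matrix (Fin (m + 1)) (Fin (m + 1)) F, A.det ≠ 0 → D.σ A.det = A.det →
      ∀ H ∈ Φ, hact D.σ A H ∈ Φ) :
    NN q m ≤ (Φ.filter (fun H => H 0 0 = 0)).card := by
  classical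
  by_cases hrad : ∃ H ∈ Φ, ∃ v : Fin (m + 1) → F, v ≠ 0 ∧ H *ᵥ v = 0
  · obtain ⟨H, hHΦ, v, hv, hHv⟩ := hrad
    obtain ⟨A, hA, hAfix, H', hH'⟩ := exists_emb_of_radical D H (hH H hHΦ) v hv hHv
    have hmem : emb H' ∈ Φ := by
      rw [← hH']
      exact hstab A hA hAfix H hHΦ
    set Φ' : Finset (Matrix (Fin m) (Fin m) F) :=
      Finset.univ.filter (fun X : Matrix (Fin m) (Fin m) F => emb X ∈ Φ) with hΦ'
    have hmemΦ' : ∀ X, X ∈ Φ' ↔ emb X ∈ Φ := by
      intro X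
      rw [hΦ', Finset.mem_filter]
      simp
    have h1 : NN q m ≤ Φ'.card := by
      apply IH Φ'
      · intro X hX
        rw [hmemΦ'] at hX
        exact (emb_mem_Herm D.σ X).mp (hH _ hX)
      · intro hX
        rw [hmemΦ', emb_zero] at hX
        exact h0 hX
      · exact ⟨H', (hmemΦ' H').mpr hmem⟩
      · intro A' hA' X hX
        rw [hmemΦ'] at hX ⊢
        rw [← hact_dblock_emb D.σ (D.σ A'.det) A' X]
        apply hstab _ _ _ _ hX
        · rw [det_dblock]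
          exact mul_ne_zero (σ_ne_zero D hA') hA'
        · rw [det_dblock, map_mul, D.invol, mul_comm]
    refine le_trans h1 ?_
    apply Finset.card_le_card_of_injOn emb
    · intro X hX
      have hX' : X ∈ Φ' := hX
      rw [Finset.mem_coe, Finset.mem_filter]
      exact ⟨(hmemΦ' X).mp hX', emb_apply_zero_zero X⟩
    · intro X _ X' _ h
      exact emb_injective h
  · push Not at hrad
    obtain ⟨H, hHΦ⟩ := hne
    obtain ⟨A, hA, hAfix, hc0⟩ := exists_corner_eq_zero D hm H (hH H hHΦ)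
    have hH₂ : hact D.σ A H ∈ Φ := hstab A hA hAfix H hHΦ
    apply card_cols_ge D hF hm Φ hstab (hact D.σ A H) hH₂ hc0
    by_contra hcon
    push Not at hcon
    have hv : (Pi.single 0 1 : Fin (m + 1) → F) ≠ 0 := by
      intro h
      have := congrFun h 0
      simp at this
    apply hrad (hact D.σ A H) hH₂ _ hv
    funext i
    rw [Matrix.mulVec_single_one]
    simp only [Pi.zero_apply]
    refine Fin.cases ?_ (fun j => ?_) i
    · exact hc0
    · exact hcon j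

/-- the orbit count -/
theorem orb_aux [Fintype F] [DecidableEq F] (D : Frob F q) (hF : Fintype.card F = q ^ 2) :
    ∀ (m : ℕ) (Φ : Finset (Matrix (Fin (m + 1)) (Fin (m + 1)) F)),
      (∀ H ∈ Φ, H ∈ Herm D.σ (m + 1)) → (0 : Matrix (Fin (m + 1)) (Fin (m + 1)) F) ∉ Φ →
      Φ.Nonempty →
      (∀ A : Matrix (Fin (m + 1)) (Fin (m + 1)) F, A.det ≠ 0 → (m = 0 ∨ D.σ A.det = A.det) →
        ∀ H ∈ Φ, hact D.σ A H ∈ Φ) →
      NN q (m + 1) ≤ Φ.card := by
  classical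
  intro m
  induction m with
  | zero =>
    intro Φ hH h0 hne hstab
    exact card_ge_one D hF Φ hH h0 hne (fun A hA => hstab A hA (Or.inl rfl))
  | succ m ih =>
    intro Φ hH h0 hne hstab
    have hq : 2 ≤ q := two_le_of_card hF
    have hstab' : ∀ A : Matrix (Fin (m + 1 + 1)) (Fin (m + 1 + 1)) F, A.det ≠ 0 →
        D.σ A.det = A.det → ∀ H ∈ Φ, hact D.σ A H ∈ Φ :=
      fun A hA hfix => hstab A hA (Or.inr hfix)
    rw [NN_succ hq]
    -- an element with nonzero corner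
    obtain ⟨H, hHΦ⟩ := hne
    have hH0 : H ≠ 0 := by
      rintro rfl
      exact h0 hHΦ
    obtain ⟨A₁, hA₁, hA₁fix, hc⟩ := exists_corner_ne_zero D H (hH H hHΦ) hH0
    have hH₁ : hact D.σ A₁ H ∈ Φ := hstab' A₁ hA₁ hA₁fix H hHΦ
    have h1 := card_corner_ne_ge D hF (by omega : 1 ≤ m + 1) Φ hH hstab' _ hH₁ hc
    have h2 := card_corner_zero_ge D hF (by omega : 1 ≤ m + 1)
      (fun Φ' hH' h0' hne' hstab'' => ih Φ' hH' h0' hne' (fun A hA _ => hstab'' A hA))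
      Φ hH h0 ⟨H, hHΦ⟩ hstab'
    have hsplit := Finset.card_filter_add_card_filter_not (s := Φ) (fun H => H 0 0 = 0)
    have h1' : (q - 1) * q ^ (2 * (m + 1)) ≤ (Φ.filter (fun H => ¬ H 0 0 = 0)).card := h1
    omega

/-- **Orbit count.**  A nonempty set of nonzero Hermitian `m × m` matrices (`m ≥ 2`) which is
stable under `H ↦ A H A*` for all invertible `A` with `det A ∈ F_q` has at least
`(q^(2m) - 1)/(q + 1)` elements. -/
theorem orb [Fintype F] [DecidableEq F] (D : Frob F q) (hF : Fintype.card F = q ^ 2) (m : ℕ)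
    (hm : 2 ≤ m) (Φ : Finset (Matrix (Fin m) (Fin m) F)) (hH : ∀ H ∈ Φ, H ∈ Herm D.σ m)
    (h0 : (0 : Matrix (Fin m) (Fin m) F) ∉ Φ) (hne : Φ.Nonempty)
    (hstab : ∀ A : Matrix (Fin m) (Fin m) F, A.det ≠ 0 → D.σ A.det = A.det →
      ∀ H ∈ Φ, hact D.σ A H ∈ Φ) :
    NN q m ≤ Φ.card := by
  obtain ⟨m', rfl⟩ : ∃ m', m = m' + 1 := ⟨m - 1, by omega⟩
  apply orb_aux D hF m' Φ hH h0 hne
  intro A hA hor
  rcases hor with h | h
  · omega
  · exact hstab A hA h

end Cfsg.Agent.Helper12.LSU
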