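import Mathlib
import Cfsg.Agent.S2644
import Cfsg.Agent.Helper12.LSUDefs
import Cfsg.Agent.Helper3.LSUALG
import Cfsg.Agent.Helper19.LSUARITH
import Cfsg.Agent.Helper12.LSUBASE
import Cfsg.Agent.Helper3.LSUCOL
import Cfsg.Agent.Helper20.LSUDUAL
import Cfsg.Agent.Helper12.LSUEMB
import Cfsg.Agent.Helper19.LSUFIX
import Cfsg.Agent.Helper12.LSUFORM
import Cfsg.Agent.Helper20.LSUISO
import Cfsg.Agent.Helper13.LSUMODELab
import Cfsg.Agent.Helper13.LSUMODELc
import Cfsg.Agent.Helper19.LSUNC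
import Cfsg.Agent.Helper12.LSUNDCOL
import Cfsg.Agent.Helper20.LSUNI
import Cfsg.Agent.Helper12.LSUNORMAL
import Cfsg.Agent.Helper20.LSURAD
import Cfsg.Agent.Helper12.LSUREPa
import Cfsg.Agent.Helper12.LSUREPb
import Cfsg.Agent.Helper12.LSUSTD

set_option autoImplicit false

/-! S2335: the Siegel datum inside `SU_{2m}(q)`: the radical `U`, the Levi elements, and the
normal closure of the radical. -/

namespace Cfsg.Agent.Helper12.LSU

open Matrix Cfsg Cfsg.Agent.Helper2.SUGen Cfsg.Agent.S2644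

variable {F : Type*} [Field F] {q : ℕ}

section transport

variable {n : ℕ} (P : Matrix.GeneralLinearGroup (Fin n) F)

/-- transport of a matrix along `P` -/
def tcm (M : Matrix (Fin n) (Fin n) F) : Matrix (Fin n) (Fin n) F :=
  ((P⁻¹ : Matrix.GeneralLinearGroup (Fin n) F) : Matrix (Fin n) (Fin n) F) * M *
    (P : Matrix (Fin n) (Fin n) F)

theorem tcm_P_mul_inv : (P : Matrix (Fin n) (Fin n) F) *
    ((P⁻¹ : Matrix.GeneralLinearGroup (Fin n) F) : Matrix (Fin n) (Fin n) F) = 1 := by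
  rw [← Units.val_mul, mul_inv_cancel, Units.val_one]

theorem tcm_P_inv_mul : ((P⁻¹ : Matrix.GeneralLinearGroup (Fin n) F) : Matrix (Fin n) (Fin n) F) *
    (P : Matrix (Fin n) (Fin n) F) = 1 := by
  rw [← Units.val_mul, inv_mul_cancel, Units.val_one]

theorem tcm_mul (M M' : Matrix (Fin n) (Fin n) F) : tcm P (M * M') = tcm P M * tcm P M' := by
  unfold tcm
  calc _ = (↑P⁻¹ : Matrix (Fin n) (Fin n) F) * M * (1 * M') * ↑P := by
          rw [Matrix.one_mul]; simp only [Matrix.mul_assoc]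
    _ = _ := by rw [← tcm_P_mul_inv P]; simp only [Matrix.mul_assoc]

theorem tcm_one : tcm P (1 : Matrix (Fin n) (Fin n) F) = 1 := by
  unfold tcm
  rw [Matrix.mul_one, tcm_P_inv_mul]

theorem tcm_det (M : Matrix (Fin n) (Fin n) F) : (tcm P M).det = M.det :=
  Matrix.det_units_conj' P M

theorem tcm_injective : Function.Injective (tcm P) := by
  intro M M' h
  have h1 : (P : Matrix (Fin n) (Fin n) F) * tcm P M *
      ((P⁻¹ : Matrix.GeneralLinearGroup (Fin n) F) : Matrix (Fin n) (Fin n) F) =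
      (P : Matrix (Fin n) (Fin n) F) * tcm P M' *
      ((P⁻¹ : Matrix.GeneralLinearGroup (Fin n) F) : Matrix (Fin n) (Fin n) F) := by rw [h]
  unfold tcm at h1
  have e : ∀ X : Matrix (Fin n) (Fin n) F, (P : Matrix (Fin n) (Fin n) F) *
      (((P⁻¹ : Matrix.GeneralLinearGroup (Fin n) F) : Matrix (Fin n) (Fin n) F) * X *
        (P : Matrix (Fin n) (Fin n) F)) *
      ((P⁻¹ : Matrix.GeneralLinearGroup (Fin n) F) : Matrix (Fin n) (Fin n) F) = X := by
    intro X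
    calc _ = ((P : Matrix (Fin n) (Fin n) F) *
          ((P⁻¹ : Matrix.GeneralLinearGroup (Fin n) F) : Matrix (Fin n) (Fin n) F)) * X *
          ((P : Matrix (Fin n) (Fin n) F) *
          ((P⁻¹ : Matrix.GeneralLinearGroup (Fin n) F) : Matrix (Fin n) (Fin n) F)) := by
            simp only [Matrix.mul_assoc]
      _ = X := by rw [tcm_P_mul_inv, Matrix.one_mul, Matrix.mul_one]
  rw [e, e] at h1
  exact h1

theorem tcm_pres (f : (Fin n → F) → (Fin n → F) → F)
    (hP : ∀ x y : Fin n → F, f ((P : Matrix (Fin n) (Fin n) F) *ᵥ x)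
      ((P : Matrix (Fin n) (Fin n) F) *ᵥ y) = Cfsg.hermForm n F q x y)
    {M : Matrix (Fin n) (Fin n) F} (hM : ∀ x y, f (M *ᵥ x) (M *ᵥ y) = f x y) :
    Pres (q := q) (tcm P M) := by
  intro x y
  have e : ∀ z : Fin n → F, (P : Matrix (Fin n) (Fin n) F) *ᵥ (tcm P M *ᵥ z) =
      M *ᵥ ((P : Matrix (Fin n) (Fin n) F) *ᵥ z) := by
    intro z
    unfold tcm
    rw [Matrix.mulVec_mulVec, Matrix.mulVec_mulVec, ← Matrix.mul_assoc, ← Matrix.mul_assoc,
      tcm_P_mul_inv, Matrix.one_mul]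
  rw [← hP, e, e, hM, hP]

end transport

/-- **The Siegel datum.** -/
theorem exists_siegel [Fintype F] [DecidableEq F] (D : Frob F q) (hF : Fintype.card F = q ^ 2)
    (m : ℕ) (hm : 2 ≤ m) :
    ∃ (U : Multiplicative ↥(Herm D.σ m) →* ↥(Cfsg.SU (m + m) F q)),
      Function.Injective U ∧
      (∀ A : Matrix (Fin m) (Fin m) F, A.det ≠ 0 → D.σ A.det = A.det →
        ∃ g : ↥(Cfsg.SU (m + m) F q), ∀ Y : ↥(Herm D.σ m),
          g * U (Multiplicative.ofAdd Y) * g⁻¹ =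
            U (Multiplicative.ofAdd ⟨hact D.σ A Y, hact_mem_Herm D.σ D.invol A Y.2⟩)) ∧
      (∀ N : Subgroup ↥(Cfsg.SU (m + m) F q), N.Normal → (∀ a, U a ∈ N) → N = ⊤) := by
  classical
  obtain ⟨a, ha0, ha⟩ := exists_skew D
  obtain ⟨P, hP⟩ := exists_std_q D (fJ D.σ a (m := m)) (fJ_add_left D.σ a) (fJ_smul_left D.σ a)
    (fJ_herm D.σ D.invol a) (fJ_nondeg D.σ D.invol a ha0)
  -- the radical
  have hUpres : ∀ Y : ↥(Herm D.σ m), Pres (q := q) (tcm P (uM (Y : Matrix (Fin m) (Fin m) F))) :=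
    fun Y => tcm_pres P _ hP (uM_pres D.σ D.invol a ha _ Y.2)
  have hUdet : ∀ Y : ↥(Herm D.σ m), (tcm P (uM (Y : Matrix (Fin m) (Fin m) F))).det = 1 :=
    fun Y => by rw [tcm_det, uM_det]
  let U₀ : ↥(Herm D.σ m) → ↥(Cfsg.SU (m + m) F q) := fun Y => mkSU _ (hUdet Y) (hUpres Y)
  have hU₀val : ∀ Y : ↥(Herm D.σ m), toM F (m + m) q (U₀ Y) =
      tcm P (uM (Y : Matrix (Fin m) (Fin m) F)) := fun Y => rfl
  have hU₀zero : U₀ 0 = 1 := by
    apply toM_injective
    rw [hU₀val, map_one, AddSubgroup.coe_zero, uM_zero, tcm_one]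
  have hU₀add : ∀ Y Y' : ↥(Herm D.σ m), U₀ (Y + Y') = U₀ Y * U₀ Y' := by
    intro Y Y'
    apply toM_injective
    rw [map_mul, hU₀val, hU₀val, hU₀val, ← tcm_mul, ← uM_add, AddSubgroup.coe_add]
  let U : Multiplicative ↥(Herm D.σ m) →* ↥(Cfsg.SU (m + m) F q) :=
    { toFun := fun Y => U₀ (Multiplicative.toAdd Y)
      map_one' := hU₀zero
      map_mul' := fun Y Y' => hU₀add (Multiplicative.toAdd Y) (Multiplicative.toAdd Y') }
  have hUval : ∀ Y : ↥(Herm D.σ m), toM F (m + m) q (U (Multiplicative.ofAdd Y)) =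
      tcm P (uM (Y : Matrix (Fin m) (Fin m) F)) := fun Y => rfl
  have hUinj : Function.Injective U := by
    intro Y Y' h
    have h1 := congrArg (toM F (m + m) q) h
    have e : ∀ Z : Multiplicative ↥(Herm D.σ m), toM F (m + m) q (U Z) =
        tcm P (uM ((Multiplicative.toAdd Z : ↥(Herm D.σ m)) : Matrix (Fin m) (Fin m) F)) :=
      fun Z => rfl
    rw [e, e] at h1
    have h2 := uM_injective (tcm_injective P h1)
    exact Multiplicative.toAdd.injective (Subtype.ext h2)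
  -- the Levi elements
  have hlevi : ∀ A : Matrix (Fin m) (Fin m) F, A.det ≠ 0 → D.σ A.det = A.det →
      ∃ g : ↥(Cfsg.SU (m + m) F q), ∀ Y : ↥(Herm D.σ m),
        g * U (Multiplicative.ofAdd Y) * g⁻¹ =
          U (Multiplicative.ofAdd ⟨hact D.σ A Y, hact_mem_Herm D.σ D.invol A Y.2⟩) := by
    intro A hA hfix
    refine ⟨mkSU (tcm P (lM D.σ A)) (by rw [tcm_det, lM_det D.σ A hA hfix])
      (tcm_pres P _ hP (lM_pres D.σ D.invol a A hA)), ?_⟩
    intro Y
    rw [mul_inv_eq_iff_eq_mul]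
    apply toM_injective
    rw [map_mul, map_mul, hUval, hUval, toM_mkSU, ← tcm_mul, ← tcm_mul, lM_mul_uM D.σ A hA]
  refine ⟨U, hUinj, hlevi, ?_⟩
  -- the normal closure
  intro N hN hUN
  obtain ⟨A, E, hAdet, hE, hne⟩ := exists_hact_ne D.σ hm
  have hA0 : A.det ≠ 0 := by rw [hAdet]; exact one_ne_zero
  have hAfix : D.σ A.det = A.det := by rw [hAdet, map_one]
  obtain ⟨g, hg⟩ := hlevi A hA0 hAfix
  have h32 : ¬ (m + m = 3 ∧ q = 2) := by omega
  apply normal_eq_top D hF (m + m) (by omega) h32 N hN (U (Multiplicative.ofAdd ⟨E, hE⟩))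
    (hUN _)
  intro hcen
  have h1 := hg ⟨E, hE⟩
  have h2 : g * U (Multiplicative.ofAdd ⟨E, hE⟩) * g⁻¹ = U (Multiplicative.ofAdd ⟨E, hE⟩) := by
    rw [Subgroup.mem_center_iff] at hcen
    rw [hcen g, mul_assoc, mul_inv_cancel, mul_one]
  rw [h2] at h1
  have h3 := hUinj h1
  have h4 := congrArg (fun Z : Multiplicative ↥(Herm D.σ m) =>
    ((Multiplicative.toAdd Z : ↥(Herm D.σ m)) : Matrix (Fin m) (Fin m) F)) h3
  exact hne h4.symm

end Cfsg.Agent.Helper12.LSU
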