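import Mathlib
import Cfsg.Agent.Helper5.CharKer
import Cfsg.Agent.Helper24.Rep
import Cfsg.Agent.Helper12.LSUDefs
import Cfsg.Agent.Helper3.LSUALG
import Cfsg.Agent.Helper19.LSUARITH
import Cfsg.Agent.Helper12.LSUBASE
import Cfsg.Agent.Helper3.LSUCOL
import Cfsg.Agent.Helper20.LSUDUAL
import Cfsg.Agent.Helper12.LSUEMB
import Cfsg.Agent.Helper19.LSUFIX
import Cfsg.Agent.Helper12.LSUFORM
import Cfsg.Agent.Helper20.LSUISO
import Cfsg.Agent.Helper13.LSUMODELab
import Cfsg.Agent.Helper13.LSUMODELc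
import Cfsg.Agent.Helper19.LSUNC
import Cfsg.Agent.Helper12.LSUNDCOL
import Cfsg.Agent.Helper20.LSUNI
import Cfsg.Agent.Helper12.LSUNORMAL
import Cfsg.Agent.Helper20.LSURAD
import Cfsg.Agent.Helper12.LSUREPa
import Cfsg.Agent.Helper12.LSUREPb
import Cfsg.Agent.Helper12.LSUSTD
import Cfsg.Agent.Helper12.LSUOrb
import Cfsg.Agent.Helper12.LSUSiegel

set_option autoImplicit false

/-! S2335: the Landazuri–Seitz bound for `SU_{2m}(q)` (assembly). -/

namespace Cfsg.Agent.Helper12.LSU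

open Matrix Cfsg Cfsg.Agent.Helper2.SUGen Cfsg.Agent.Helper24

variable {F : Type*} [Field F] {q : ℕ}

theorem main [Fintype F] [DecidableEq F] (D : Frob F q) (hF : Fintype.card F = q ^ 2) (m : ℕ)
    (hm : 2 ≤ m) (k : ℕ) (ρ : Representation ℂ ↥(Cfsg.SU (m + m) F q) (Fin k → ℂ))
    (hρ : ρ.IsIrreducible) (hk : 2 ≤ k) : NN q m ≤ k := by
  classical
  letI : Fintype ↥(Cfsg.SU (m + m) F q) := Fintype.ofFinite _
  letI : Fintype ↥(Herm D.σ m) := Fintype.ofFinite _
  set χ : ↥(Cfsg.SU (m + m) F q) → ℂ := ρ.character with hχdef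
  have hχirr : IsIrrCharacter ↥(Cfsg.SU (m + m) F q) χ := ⟨k, ρ, hρ, rfl⟩
  have hχ : IsCharacter ↥(Cfsg.SU (m + m) F q) χ := ⟨k, ρ, rfl⟩
  have hχ1 : χ 1 = k := by
    rw [hχdef, Representation.char_one, Module.finrank_fin_fun]
  obtain ⟨U, hUinj, hlevi, hnorm⟩ := exists_siegel D hF m hm
  obtain ⟨ψ, hψ⟩ : ∃ ψ : AddChar F ℂ, ψ 1 ≠ 1 := AddChar.exists_apply_ne_zero.mpr one_ne_zero
  -- the linear characters of the radical
  let lam : ↥(Herm D.σ m) → (Multiplicative ↥(Herm D.σ m) →* ℂ) := fun H =>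
    { toFun := fun Y => ψ (Matrix.trace ((H : Matrix (Fin m) (Fin m) F) *
        ((Multiplicative.toAdd Y : ↥(Herm D.σ m)) : Matrix (Fin m) (Fin m) F)))
      map_one' := by
        show ψ (Matrix.trace ((H : Matrix (Fin m) (Fin m) F) *
          ((0 : ↥(Herm D.σ m)) : Matrix (Fin m) (Fin m) F))) = 1
        rw [AddSubgroup.coe_zero, Matrix.mul_zero, Matrix.trace_zero, AddChar.map_zero_eq_one]
      map_mul' := by
        intro Y Y'
        show ψ (Matrix.trace ((H : Matrix (Fin m) (Fin m) F) *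
          ((Multiplicative.toAdd Y + Multiplicative.toAdd Y' : ↥(Herm D.σ m)) :
            Matrix (Fin m) (Fin m) F))) = _
        rw [AddSubgroup.coe_add, Matrix.mul_add, Matrix.trace_add, AddChar.map_add_eq_mul] }
  have hlam : ∀ (H Y : ↥(Herm D.σ m)), lam H (Multiplicative.ofAdd Y) =
      ψ (Matrix.trace ((H : Matrix (Fin m) (Fin m) F) * (Y : Matrix (Fin m) (Fin m) F))) :=
    fun H Y => rfl
  have horth : ∀ a : Multiplicative ↥(Herm D.σ m), a ≠ 1 → ∑ H, lam H a = 0 := by
    intro a ha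
    have ha' : ((Multiplicative.toAdd a : ↥(Herm D.σ m)) : Matrix (Fin m) (Fin m) F) ≠ 0 := by
      intro h
      apply ha
      have : (Multiplicative.toAdd a : ↥(Herm D.σ m)) = 0 := Subtype.ext h
      exact Multiplicative.toAdd.injective this
    exact sum_addChar_herm D m ψ hψ _ (Multiplicative.toAdd a).2 ha'
  have hcard : Fintype.card ↥(Herm D.σ m) = Fintype.card (Multiplicative ↥(Herm D.σ m)) :=
    (Fintype.card_multiplicative _).symm
  obtain ⟨n, hn, hsum⟩ := rep_count U χ hχ k hχ1 lam horth hcard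
  -- the support
  set S : Finset ↥(Herm D.σ m) := Finset.univ.filter (fun H => n H ≠ 0 ∧ H ≠ 0) with hS
  set Φ : Finset (Matrix (Fin m) (Fin m) F) := S.image Subtype.val with hΦ
  have hΦcard : Φ.card = S.card := Finset.card_image_of_injective _ Subtype.val_injective
  have hmemΦ : ∀ X, X ∈ Φ ↔ ∃ h : X ∈ Herm D.σ m, n ⟨X, h⟩ ≠ 0 ∧ X ≠ 0 := by
    intro X
    rw [hΦ, Finset.mem_image]
    constructor
    · rintro ⟨H, hH, rfl⟩
      rw [hS, Finset.mem_filter] at hH
      refine ⟨H.2, hH.2.1, ?_⟩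
      intro h0
      exact hH.2.2 (Subtype.ext h0)
    · rintro ⟨h, h1, h2⟩
      refine ⟨⟨X, h⟩, ?_, rfl⟩
      rw [hS, Finset.mem_filter]
      refine ⟨Finset.mem_univ _, h1, ?_⟩
      intro h0
      exact h2 (congrArg Subtype.val h0)
  -- `k` is at least the size of the support
  have hkS : S.card ≤ k := by
    rw [← hsum]
    calc S.card = ∑ _H ∈ S, 1 := by rw [Finset.sum_const, smul_eq_mul, mul_one]
      _ ≤ ∑ H ∈ S, n H := by
          apply Finset.sum_le_sum
          intro H hH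
          rw [hS, Finset.mem_filter] at hH
          exact Nat.one_le_iff_ne_zero.mpr hH.2.1
      _ ≤ ∑ H, n H := Finset.sum_le_sum_of_subset (Finset.subset_univ _)
  refine le_trans ?_ (hΦcard ▸ hkS)
  apply orb D hF m hm Φ
  · intro X hX
    obtain ⟨h, _, _⟩ := (hmemΦ X).mp hX
    exact h
  · intro h0
    obtain ⟨_, _, h2⟩ := (hmemΦ 0).mp h0
    exact h2 rfl
  · -- nonempty
    by_contra hemp
    rw [Finset.not_nonempty_iff_eq_empty] at hemp
    have hzero : ∀ H : ↥(Herm D.σ m), H ≠ 0 → n H = 0 := by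
      intro H hH0
      by_contra hnH
      have : (H : Matrix (Fin m) (Fin m) F) ∈ Φ := by
        rw [hmemΦ]
        refine ⟨H.2, hnH, ?_⟩
        intro h0
        exact hH0 (Subtype.ext h0)
      rw [hemp] at this
      exact absurd this (Finset.notMem_empty _)
    have hn0 : n 0 = k := by
      rw [← hsum]
      symm
      apply Finset.sum_eq_single_of_mem (0 : ↥(Herm D.σ m)) (Finset.mem_univ _)
      intro H _ hH
      exact hzero H hH
    have hlam0 : (fun a : Multiplicative ↥(Herm D.σ m) => lam 0 a) = fun _ => (1 : ℂ) := by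
      funext a
      show ψ (Matrix.trace (((0 : ↥(Herm D.σ m)) : Matrix (Fin m) (Fin m) F) * _)) = 1
      rw [AddSubgroup.coe_zero, Matrix.zero_mul, Matrix.trace_zero, AddChar.map_zero_eq_one]
    have hker := rep_kernel U χ hχ (by
      have := hn 0
      rw [hlam0, hn0] at this
      rw [this, hχ1])
    have htop := hnorm (Cfsg.Agent.Helper5.charKer ⟨χ, hχirr⟩) inferInstance
      (fun a => (Cfsg.Agent.Helper5.mem_charKer _ _).mpr (hker a))
    have hconst : ∀ g : ↥(Cfsg.SU (m + m) F q), χ g = k := by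
      intro g
      have : g ∈ Cfsg.Agent.Helper5.charKer ⟨χ, hχirr⟩ := by rw [htop]; exact Subgroup.mem_top g
      rw [Cfsg.Agent.Helper5.mem_charKer] at this
      rw [← hχ1]
      exact this
    have h1 : classInner χ χ = 1 := classInner_irr_self ⟨χ, hχirr⟩
    unfold classInner at h1
    have h2 : ∑ g : ↥(Cfsg.SU (m + m) F q), χ g * (starRingEnd ℂ) (χ g) =
        (Nat.card ↥(Cfsg.SU (m + m) F q) : ℂ) * ((k : ℂ) * k) := by
      rw [Finset.sum_congr rfl (fun g _ => by rw [hconst g, Complex.conj_natCast])]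
      rw [Finset.sum_const, Finset.card_univ, nsmul_eq_mul, Nat.card_eq_fintype_card]
    rw [h2, ← mul_assoc, inv_mul_cancel₀ card_ne_zero_complex, one_mul] at h1
    have h3 : k * k = 1 := by exact_mod_cast h1
    have : k = 1 := Nat.eq_one_of_mul_eq_one_right h3
    omega
  · -- stability
    intro A hA hAfix X hX
    obtain ⟨hXH, hnX, hX0⟩ := (hmemΦ X).mp hX
    rw [hmemΦ]
    refine ⟨hact_mem_Herm D.σ D.invol A hXH, ?_, ?_⟩
    · have hB0 : (ct D.σ A).det ≠ 0 := by
        rw [det_ct]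
        exact σ_ne_zero D hA
      have hBfix : D.σ (ct D.σ A).det = (ct D.σ A).det := by
        rw [det_ct, hAfix, hAfix]
      obtain ⟨g, hg⟩ := hlevi (ct D.σ A) hB0 hBfix
      have hinv := rep_invariant U hUinj χ (IsCharacter.isClassFunction hχ) g
        (fun Y => Multiplicative.ofAdd ⟨hact D.σ (ct D.σ A)
            ((Multiplicative.toAdd Y : ↥(Herm D.σ m)) : Matrix (Fin m) (Fin m) F),
          hact_mem_Herm D.σ D.invol (ct D.σ A) (Multiplicative.toAdd Y : ↥(Herm D.σ m)).2⟩)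
        (fun Y => (hg (Multiplicative.toAdd Y)).symm)
        (fun a => lam ⟨X, hXH⟩ a)
        (fun a => lam ⟨hact D.σ A X, hact_mem_Herm D.σ D.invol A hXH⟩ a)
        (fun Y => by
          show ψ (Matrix.trace (X * hact D.σ (ct D.σ A) _)) = ψ (Matrix.trace (hact D.σ A X * _))
          rw [trace_mul_hact D.σ D.invol])
      rw [hn, hn] at hinv
      have : n ⟨X, hXH⟩ = n ⟨hact D.σ A X, hact_mem_Herm D.σ D.invol A hXH⟩ := by
        exact_mod_cast hinv
      rw [← this]
      exact hnX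
    · intro h0
      exact hX0 ((hact_eq_zero_iff D.σ A hA X).mp h0)

end Cfsg.Agent.Helper12.LSU
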