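import Mathlib
import Cfsg.Agent.Helper12.LSUDefs
import Cfsg.Agent.Helper12.LSUEMB
import Cfsg.Agent.Helper12.LSpDefs
import Cfsg.Agent.Helper12.LSpWDefs
import Cfsg.Agent.Helper12.LSpWPDefs
import Cfsg.Agent.Helper12.LSpWTHa
import Cfsg.Agent.Helper12.LSpWTHb
import Cfsg.Agent.Helper13.LSpSARITH
import Cfsg.Agent.Helper13.LSpSQUAD
import Cfsg.Agent.Helper13.LSpSSQ
import Cfsg.Agent.Helper13.LSpWRANK
import Cfsg.Agent.Helper18.LSpSSWAP
import Cfsg.Agent.Helper18.LSpWCONJ
import Cfsg.Agent.Helper23.LSpS22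
import Cfsg.Agent.Helper23.LSpWPb
import Cfsg.Agent.Helper23.LSpWSYLL
import Cfsg.Agent.Helper26.LSpSCOL
import Cfsg.Agent.Helper26.LSpSNI
import Cfsg.Agent.Helper29.LSpWPd
import Cfsg.Agent.Helper29.LSpWSPLIT
import Cfsg.Agent.Helper5.LSpWBOUND
import Cfsg.Agent.Helper5.LSpWCOP
import Cfsg.Agent.Helper6.LSpSDUAL
import Cfsg.Agent.Helper6.LSpSNORMAL
import Cfsg.Agent.Helper6.LSpWBURN
import Cfsg.Agent.Helper7.LSpWPc
import Cfsg.Agent.Helper8.LSpWCENT
import Cfsg.Agent.Helper8.LSpWCOSET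

set_option autoImplicit false

/-! S2347: every orbit of `GL_m(q)` (`q` odd) on the nonzero symmetric matrices, `H ↦ A H Aᵀ`, has
at least `(q^m - 1)/2` elements (assembly of the orbit count). -/

namespace Cfsg.Agent.Helper12.LSp

open Matrix Cfsg Cfsg.Agent.Helper12.LSU

variable {F : Type*} [Field F]

theorem eq_dblock_of_col_zero {m : ℕ} (H : Matrix (Fin (m + 1)) (Fin (m + 1)) F) (hH : Hᵀ = H)
    (hcol : ∀ j : Fin m, H j.succ 0 = 0) :
    H = dblock (H 0 0) (H.submatrix Fin.succ Fin.succ) := by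
  ext i j
  refine Fin.cases ?_ (fun i' => ?_) i
  · refine Fin.cases ?_ (fun j' => ?_) j
    · rfl
    · have h1 : H 0 j'.succ = H j'.succ 0 := by
        conv_lhs => rw [← hH]
        rfl
      rw [h1, hcol]
      rfl
  · refine Fin.cases ?_ (fun j' => ?_) j
    · rw [hcol]
      rfl
    · rfl

/-- the elements with nonzero corner: one square class -/
theorem card_corner_ne_ge_one [Fintype F] [DecidableEq F] (hodd : Odd (Fintype.card F)) {m : ℕ}
    (Φ : Finset (Matrix (Fin (m + 1)) (Fin (m + 1)) F)) (hH : ∀ H ∈ Φ, Hᵀ = H)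
    (hstab : ∀ A : Matrix (Fin (m + 1)) (Fin (m + 1)) F, A.det ≠ 0 → ∀ H ∈ Φ, A * H * Aᵀ ∈ Φ)
    (H₁ : Matrix (Fin (m + 1)) (Fin (m + 1)) F) (hH₁ : H₁ ∈ Φ) (hc : H₁ 0 0 ≠ 0) :
    (Fintype.card F - 1) / 2 * Fintype.card F ^ m ≤ (Φ.filter (fun H => H 0 0 ≠ 0)).card := by
  classical
  set S : Finset (F × (Fin m → F)) :=
    (Finset.univ.filter (fun x : F => ∃ a : F, a ≠ 0 ∧ x = a ^ 2 * H₁ 0 0)) ×ˢ
      (Finset.univ : Finset (Fin m → F)) with hS
  have hScard : (Fintype.card F - 1) / 2 * Fintype.card F ^ m ≤ S.card := by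
    rw [hS, Finset.card_product, Finset.card_univ, Fintype.card_fun, Fintype.card_fin]
    exact Nat.mul_le_mul_right _ (ssq_card hodd (H₁ 0 0) hc)
  have hex : ∀ p : F × (Fin m → F), p ∈ S →
      ∃ A : Matrix (Fin (m + 1)) (Fin (m + 1)) F, A.det ≠ 0 ∧
        (A * H₁ * Aᵀ) 0 0 = p.1 ∧ ∀ j : Fin m, (A * H₁ * Aᵀ) j.succ 0 = p.2 j := by
    intro p hp
    rw [hS, Finset.mem_product, Finset.mem_filter] at hp
    obtain ⟨a, ha, hpa⟩ := hp.1.2
    obtain ⟨A, hA, h1, h2⟩ := scol_exists_corner_col H₁ (hH H₁ hH₁) hc a ha p.2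
    exact ⟨A, hA, by rw [h1, hpa], h2⟩
  set f : F × (Fin m → F) → Matrix (Fin (m + 1)) (Fin (m + 1)) F := fun p =>
    if hp : p ∈ S then (Classical.choose (hex p hp)) * H₁ * (Classical.choose (hex p hp))ᵀ else 0
    with hf
  have hfspec : ∀ p (hp : p ∈ S), f p ∈ Φ ∧ f p 0 0 = p.1 ∧ ∀ j : Fin m, f p j.succ 0 = p.2 j := by
    intro p hp
    have h := Classical.choose_spec (hex p hp)
    have e : f p = (Classical.choose (hex p hp)) * H₁ * (Classical.choose (hex p hp))ᵀ := by
      rw [hf]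
      simp only
      rw [dif_pos hp]
    rw [e]
    exact ⟨hstab _ h.1 H₁ hH₁, h.2.1, h.2.2⟩
  refine le_trans hScard ?_
  apply Finset.card_le_card_of_injOn f
  · intro p hp
    have hp' : p ∈ S := hp
    obtain ⟨h1, h2, _⟩ := hfspec p hp'
    rw [Finset.mem_coe, Finset.mem_filter]
    refine ⟨h1, ?_⟩
    rw [h2]
    rw [hS, Finset.mem_product, Finset.mem_filter] at hp'
    obtain ⟨a, ha, hpa⟩ := hp'.1.2
    rw [hpa]
    exact mul_ne_zero (pow_ne_zero 2 ha) hc
  · intro p hp p' hp' hpp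
    have hp1 : p ∈ S := hp
    have hp2 : p' ∈ S := hp'
    obtain ⟨_, h2, h3⟩ := hfspec p hp1
    obtain ⟨_, h2', h3'⟩ := hfspec p' hp2
    apply Prod.ext
    · rw [← h2, ← h2', hpp]
    · funext j
      rw [← h3 j, ← h3' j, hpp]

/-- the elements with nonzero corner: all corners, when some element has rank at least two -/
theorem card_corner_ne_ge_all [Fintype F] [DecidableEq F] (h2 : (2 : F) ≠ 0) {m : ℕ}
    (Φ : Finset (Matrix (Fin (m + 1)) (Fin (m + 1)) F)) (hH : ∀ H ∈ Φ, Hᵀ = H)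
    (hstab : ∀ A : Matrix (Fin (m + 1)) (Fin (m + 1)) F, A.det ≠ 0 → ∀ H ∈ Φ, A * H * Aᵀ ∈ Φ)
    (c : F) (hc : c ≠ 0) (H' : Matrix (Fin m) (Fin m) F) (hH' : H'ᵀ = H') (h0 : H' ≠ 0)
    (hmem : dblock c H' ∈ Φ) :
    (Fintype.card F - 1) * Fintype.card F ^ m ≤ (Φ.filter (fun H => H 0 0 ≠ 0)).card := by
  classical
  set S : Finset (F × (Fin m → F)) :=
    (Finset.univ.filter (fun x : F => x ≠ 0)) ×ˢ (Finset.univ : Finset (Fin m → F)) with hS
  have hScard : S.card = (Fintype.card F - 1) * Fintype.card F ^ m := by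
    rw [hS, Finset.card_product, Finset.card_univ, Fintype.card_fun, Fintype.card_fin]
    congr 1
    rw [Finset.filter_ne' Finset.univ (0 : F), Finset.card_erase_of_mem (Finset.mem_univ _),
      Finset.card_univ]
  have hex : ∀ p : F × (Fin m → F), p ∈ S →
      ∃ X : Matrix (Fin (m + 1)) (Fin (m + 1)) F, X ∈ Φ ∧
        X 0 0 = p.1 ∧ ∀ j : Fin m, X j.succ 0 = p.2 j := by
    intro p hp
    rw [hS, Finset.mem_product, Finset.mem_filter] at hp
    obtain ⟨A, hA, h1⟩ := s22_exists_corner_eq h2 c hc H' hH' h0 p.1 hp.1.2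
    have hX₁ : A * dblock c H' * Aᵀ ∈ Φ := hstab A hA _ hmem
    have hc1 : (A * dblock c H' * Aᵀ) 0 0 ≠ 0 := by
      rw [h1]
      exact hp.1.2
    obtain ⟨B, hB, h3, h4⟩ := scol_exists_corner_col _ (hH _ hX₁) hc1 1 one_ne_zero p.2
    refine ⟨B * (A * dblock c H' * Aᵀ) * Bᵀ, hstab B hB _ hX₁, ?_, h4⟩
    rw [h3, h1, one_pow, one_mul]
  set f : F × (Fin m → F) → Matrix (Fin (m + 1)) (Fin (m + 1)) F := fun p =>
    if hp : p ∈ S then Classical.choose (hex p hp) else 0 with hf
  have hfspec : ∀ p (hp : p ∈ S), f p ∈ Φ ∧ f p 0 0 = p.1 ∧ ∀ j : Fin m, f p j.succ 0 = p.2 j := by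
    intro p hp
    have h := Classical.choose_spec (hex p hp)
    have e : f p = Classical.choose (hex p hp) := by
      rw [hf]
      simp only
      rw [dif_pos hp]
    rw [e]
    exact h
  rw [← hScard]
  apply Finset.card_le_card_of_injOn f
  · intro p hp
    have hp' : p ∈ S := hp
    obtain ⟨h1, h2', _⟩ := hfspec p hp'
    rw [Finset.mem_coe, Finset.mem_filter]
    refine ⟨h1, ?_⟩
    rw [h2']
    rw [hS, Finset.mem_product, Finset.mem_filter] at hp'
    exact hp'.1.2
  · intro p hp p' hp' hpp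
    have hp1 : p ∈ S := hp
    have hp2 : p' ∈ S := hp'
    obtain ⟨_, h2', h3⟩ := hfspec p hp1
    obtain ⟨_, h2'', h3'⟩ := hfspec p' hp2
    apply Prod.ext
    · rw [← h2', ← h2'', hpp]
    · funext j
      rw [← h3 j, ← h3' j, hpp]

/-- the orbit count -/
theorem sorb [Fintype F] [DecidableEq F] (hodd : Odd (Fintype.card F)) (h2 : (2 : F) ≠ 0) :
    ∀ (m : ℕ) (Φ : Finset (Matrix (Fin m) (Fin m) F)),
      (∀ H ∈ Φ, Hᵀ = H) → (0 : Matrix (Fin m) (Fin m) F) ∉ Φ → Φ.Nonempty →
      (∀ A : Matrix (Fin m) (Fin m) F, A.det ≠ 0 → ∀ H ∈ Φ, A * H * Aᵀ ∈ Φ) →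
      NS (Fintype.card F) m ≤ Φ.card := by
  classical
  intro m
  induction m with
  | zero =>
    intro Φ hH h0 hne hstab
    exfalso
    obtain ⟨H, hHΦ⟩ := hne
    apply h0
    have : H = 0 := by
      ext i j
      exact i.elim0
    rw [← this]
    exact hHΦ
  | succ m ih =>
    intro Φ hH h0 hne hstab
    obtain ⟨H, hHΦ⟩ := hne
    have hH0 : H ≠ 0 := by
      rintro rfl
      exact h0 hHΦ
    obtain ⟨A₁, hA₁, hc⟩ := sni_exists_corner_ne_zero h2 H (hH H hHΦ) hH0
    have hH₁ : A₁ * H * A₁ᵀ ∈ Φ := hstab A₁ hA₁ H hHΦ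
    -- clear the first column
    obtain ⟨A₂, hA₂, hc2, hcol⟩ := scol_exists_corner_col _ (hH _ hH₁) hc 1 one_ne_zero (fun _ => 0)
    set H₂ := A₂ * (A₁ * H * A₁ᵀ) * A₂ᵀ with hH₂def
    have hH₂ : H₂ ∈ Φ := hstab A₂ hA₂ _ hH₁
    have hc2' : H₂ 0 0 ≠ 0 := by
      rw [hc2, one_pow, one_mul]
      exact hc
    have hH₂sym : H₂ᵀ = H₂ := hH _ hH₂
    have hdb := eq_dblock_of_col_zero H₂ hH₂sym hcol
    set c := H₂ 0 0 with hcdef
    set H' := H₂.submatrix Fin.succ Fin.succ with hH'def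
    have hH'sym : H'ᵀ = H' := by
      rw [hH'def, Matrix.transpose_submatrix, hH₂sym]
    by_cases hH'0 : H' = 0
    · -- rank one
      have h1 := card_corner_ne_ge_one hodd Φ hH hstab H₂ hH₂ hc2'
      have h3 : NS (Fintype.card F) m ≤ (Φ.filter (fun H => H 0 0 = 0)).card := by
        rcases Nat.eq_zero_or_pos m with hm | hm
        · subst hm
          unfold NS
          simp
        · obtain ⟨m', rfl⟩ : ∃ m', m = m' + 1 := ⟨m - 1, by omega⟩
          set Φ' : Finset (Matrix (Fin (m' + 1)) (Fin (m' + 1)) F) :=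
            Finset.univ.filter (fun X : Matrix (Fin (m' + 1)) (Fin (m' + 1)) F => emb X ∈ Φ)
            with hΦ'
          have hmemΦ' : ∀ X, X ∈ Φ' ↔ emb X ∈ Φ := by
            intro X
            rw [hΦ', Finset.mem_filter]
            simp
          have hne' : Φ'.Nonempty := by
            obtain ⟨A₃, hA₃, hsw⟩ := sswap_exists (m := m') c
            refine ⟨dblock c 0, ?_⟩
            rw [hmemΦ', ← hsw]
            have : dblock c (0 : Matrix (Fin (m' + 1)) (Fin (m' + 1)) F) = H₂ := by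
              rw [hdb, ← hH'0]
            rw [this]
            exact hstab A₃ hA₃ _ hH₂
          have h4 : NS (Fintype.card F) (m' + 1) ≤ Φ'.card := by
            apply ih Φ'
            · intro X hX
              rw [hmemΦ'] at hX
              have := (emb_mem_Herm (RingHom.id F) X).mp ((mem_Herm_id _).mpr (hH _ hX))
              exact (mem_Herm_id X).mp this
            · intro hX
              rw [hmemΦ', emb_zero] at hX
              exact h0 hX
            · exact hne'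
            · intro A' hA' X hX
              rw [hmemΦ'] at hX ⊢
              have := hact_dblock_emb (RingHom.id F) (1 : F) A' X
              rw [hact_id, hact_id] at this
              rw [← this]
              apply hstab _ _ _ hX
              rw [det_dblock, one_mul]
              exact hA'
          refine le_trans h4 ?_
          apply Finset.card_le_card_of_injOn emb
          · intro X hX
            have hX' : X ∈ Φ' := hX
            rw [Finset.mem_coe, Finset.mem_filter]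
            exact ⟨(hmemΦ' X).mp hX', emb_apply_zero_zero X⟩
          · intro X _ X' _ h
            exact emb_injective h
      have hsplit := Finset.card_filter_add_card_filter_not (s := Φ) (fun H => H 0 0 = 0)
      have h1' : (Fintype.card F - 1) / 2 * Fintype.card F ^ m ≤
          (Φ.filter (fun H => ¬ H 0 0 = 0)).card := h1
      rw [NS_succ _ hodd]
      omega
    · -- rank at least two
      have hmem : dblock c H' ∈ Φ := by
        rw [← hdb]
        exact hH₂
      have h1 := card_corner_ne_ge_all h2 Φ hH hstab c hc2' H' hH'sym hH'0 hmem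
      refine le_trans (NS_succ_le _ hodd m) (le_trans h1 ?_)
      exact Finset.card_le_card (Finset.filter_subset _ _)

end Cfsg.Agent.Helper12.LSp
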