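import Mathlib
import Cfsg.Agent.Helper25.SpUE
import Cfsg.Agent.Helper3.LSUALG
import Cfsg.Agent.Helper19.LSUNC
import Cfsg.Agent.Helper12.LSpDefs
import Cfsg.Agent.Helper12.LSUDefs
import Cfsg.Agent.Helper12.LSpWDefs
import Cfsg.Agent.Helper12.LSpWPDefs
import Cfsg.Agent.Helper12.LSpWTHa
import Cfsg.Agent.Helper12.LSpWTHb
import Cfsg.Agent.Helper13.LSpSARITH
import Cfsg.Agent.Helper13.LSpSQUAD
import Cfsg.Agent.Helper13.LSpSSQ
import Cfsg.Agent.Helper13.LSpWRANK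
import Cfsg.Agent.Helper18.LSpSSWAP
import Cfsg.Agent.Helper18.LSpWCONJ
import Cfsg.Agent.Helper23.LSpS22
import Cfsg.Agent.Helper23.LSpWPb
import Cfsg.Agent.Helper23.LSpWSYLL
import Cfsg.Agent.Helper26.LSpSCOL
import Cfsg.Agent.Helper26.LSpSNI
import Cfsg.Agent.Helper29.LSpWPd
import Cfsg.Agent.Helper29.LSpWSPLIT
import Cfsg.Agent.Helper5.LSpWBOUND
import Cfsg.Agent.Helper5.LSpWCOP
import Cfsg.Agent.Helper6.LSpSDUAL
import Cfsg.Agent.Helper6.LSpSNORMAL
import Cfsg.Agent.Helper6.LSpWBURN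
import Cfsg.Agent.Helper7.LSpWPc
import Cfsg.Agent.Helper8.LSpWCENT
import Cfsg.Agent.Helper8.LSpWCOSET

set_option autoImplicit false

/-! S2347: the Siegel datum of `Sp_{2n}(F)`: the radical `Q ≅ (symmetric n × n matrices, +)` and the
action of the Levi factor `GL_n(F)` on it. -/

namespace Cfsg.Agent.Helper12.LSp

open Matrix Cfsg Cfsg.Agent.Helper12.LSU Cfsg.Agent.Helper25

variable {F : Type*} [Field F]

theorem uSg_injective {n : ℕ} {S S' : Matrix (Fin n) (Fin n) F} (hS : Sᵀ = S) (hS' : S'ᵀ = S')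
    (h : SpU.uSg S = SpU.uSg S') : S = S' := by
  have h1 : (SpU.uSg S).1.toBlocks₁₂ = (SpU.uSg S').1.toBlocks₁₂ := by rw [h]
  rw [SpU.uSg_val hS, SpU.uSg_val hS', SpU.uS, SpU.uS, toBlocks_fromBlocks₁₂,
    toBlocks_fromBlocks₁₂] at h1
  exact h1

/-- **The Siegel datum.** -/
theorem exists_siegel_sp [Fintype F] (n : ℕ) (hn : 2 ≤ n) (h3 : 3 ≤ Fintype.card F) :
    ∃ (U : Multiplicative ↥(Herm (RingHom.id F) n) →* symplecticGroup (Fin n) F),
      Function.Injective U ∧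
      (∀ A : Matrix (Fin n) (Fin n) F, A.det ≠ 0 →
        ∃ g : symplecticGroup (Fin n) F, ∀ Y : ↥(Herm (RingHom.id F) n),
          g * U (Multiplicative.ofAdd Y) * g⁻¹ =
            U (Multiplicative.ofAdd ⟨hact (RingHom.id F) A Y,
              hact_mem_Herm (RingHom.id F) (fun _ => rfl) A Y.2⟩)) ∧
      (∀ N : Subgroup (symplecticGroup (Fin n) F), N.Normal → (∀ a, U a ∈ N) → N = ⊤) := by
  classical
  have hsym : ∀ Y : ↥(Herm (RingHom.id F) n), (Y : Matrix (Fin n) (Fin n) F)ᵀ = Y :=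
    fun Y => (mem_Herm_id _).mp Y.2
  let U : Multiplicative ↥(Herm (RingHom.id F) n) →* symplecticGroup (Fin n) F :=
    { toFun := fun Y => SpU.uSg ((Multiplicative.toAdd Y : ↥(Herm (RingHom.id F) n)) :
        Matrix (Fin n) (Fin n) F)
      map_one' := by
        show SpU.uSg (((0 : ↥(Herm (RingHom.id F) n)) : Matrix (Fin n) (Fin n) F)) = 1
        rw [AddSubgroup.coe_zero, SpU.uSg_zero]
      map_mul' := by
        intro Y Y'
        show SpU.uSg (((Multiplicative.toAdd Y + Multiplicative.toAdd Y' :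
          ↥(Herm (RingHom.id F) n)) : Matrix (Fin n) (Fin n) F)) = _
        rw [AddSubgroup.coe_add, ← SpU.uSg_mul (hsym _) (hsym _)] }
  have hUval : ∀ Y : ↥(Herm (RingHom.id F) n), U (Multiplicative.ofAdd Y) =
      SpU.uSg (Y : Matrix (Fin n) (Fin n) F) := fun Y => rfl
  have hUinj : Function.Injective U := by
    intro Y Y' h
    have h1 : SpU.uSg ((Multiplicative.toAdd Y : ↥(Herm (RingHom.id F) n)) :
        Matrix (Fin n) (Fin n) F) = SpU.uSg ((Multiplicative.toAdd Y' :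
        ↥(Herm (RingHom.id F) n)) : Matrix (Fin n) (Fin n) F) := h
    have h2 := uSg_injective (hsym _) (hsym _) h1
    exact Multiplicative.toAdd.injective (Subtype.ext h2)
  have hlevi : ∀ A : Matrix (Fin n) (Fin n) F, A.det ≠ 0 →
      ∃ g : symplecticGroup (Fin n) F, ∀ Y : ↥(Herm (RingHom.id F) n),
        g * U (Multiplicative.ofAdd Y) * g⁻¹ =
          U (Multiplicative.ofAdd ⟨hact (RingHom.id F) A Y,
            hact_mem_Herm (RingHom.id F) (fun _ => rfl) A Y.2⟩) := by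
    intro A hA
    have hAt : Aᵀ * (Aᵀ)⁻¹ = 1 := by
      apply Matrix.mul_nonsing_inv
      rw [Matrix.det_transpose]
      exact isUnit_iff_ne_zero.mpr hA
    refine ⟨SpU.levg A (Aᵀ)⁻¹, fun Y => ?_⟩
    rw [hUval, hUval, SpU.lev_conj hAt (hsym Y)]
    congr 1
  refine ⟨U, hUinj, hlevi, ?_⟩
  intro N hN hall
  obtain ⟨A, E, hAdet, hE, hne⟩ := exists_hact_ne (RingHom.id F) (m := n) hn
  have hA0 : A.det ≠ 0 := by
    rw [hAdet]
    exact one_ne_zero
  obtain ⟨g, hg⟩ := hlevi A hA0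
  apply sp_normal_eq_top n hn h3 N hN (U (Multiplicative.ofAdd ⟨E, hE⟩)) (hall _)
  intro hcen
  have h1 := hg ⟨E, hE⟩
  have h2 : g * U (Multiplicative.ofAdd ⟨E, hE⟩) * g⁻¹ = U (Multiplicative.ofAdd ⟨E, hE⟩) := by
    rw [Subgroup.mem_center_iff.mp hcen g, mul_inv_cancel_right]
  rw [h2] at h1
  have h3' := hUinj h1
  have h4 : (⟨E, hE⟩ : ↥(Herm (RingHom.id F) n)) = ⟨hact (RingHom.id F) A E, _⟩ :=
    Multiplicative.ofAdd.injective h3'
  exact hne (congrArg Subtype.val h4).symm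

end Cfsg.Agent.Helper12.LSp
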