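import Mathlib
import Cfsg.Agent.Helper5.CharKer
import Cfsg.Agent.Helper24.Rep
import Cfsg.Agent.Helper3.LSUALG
import Cfsg.Agent.Helper12.LSUREPa
import Cfsg.Agent.Helper12.LSUREPb
import Cfsg.Agent.Helper12.LSpDefs
import Cfsg.Agent.Helper12.LSUDefs
import Cfsg.Agent.Helper12.LSpWDefs
import Cfsg.Agent.Helper12.LSpWPDefs
import Cfsg.Agent.Helper12.LSpWTHa
import Cfsg.Agent.Helper12.LSpWTHb
import Cfsg.Agent.Helper13.LSpSARITH
import Cfsg.Agent.Helper13.LSpSQUAD
import Cfsg.Agent.Helper13.LSpSSQ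
import Cfsg.Agent.Helper13.LSpWRANK
import Cfsg.Agent.Helper18.LSpSSWAP
import Cfsg.Agent.Helper18.LSpWCONJ
import Cfsg.Agent.Helper23.LSpS22
import Cfsg.Agent.Helper23.LSpWPb
import Cfsg.Agent.Helper23.LSpWSYLL
import Cfsg.Agent.Helper26.LSpSCOL
import Cfsg.Agent.Helper26.LSpSNI
import Cfsg.Agent.Helper29.LSpWPd
import Cfsg.Agent.Helper29.LSpWSPLIT
import Cfsg.Agent.Helper5.LSpWBOUND
import Cfsg.Agent.Helper5.LSpWCOP
import Cfsg.Agent.Helper6.LSpSDUAL
import Cfsg.Agent.Helper6.LSpSNORMAL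
import Cfsg.Agent.Helper6.LSpWBURN
import Cfsg.Agent.Helper7.LSpWPc
import Cfsg.Agent.Helper8.LSpWCENT
import Cfsg.Agent.Helper8.LSpWCOSET
import Cfsg.Agent.Helper12.LSpOrb
import Cfsg.Agent.Helper12.LSpSiegel

set_option autoImplicit false

/-! S2347: the lower bound `(q^n - 1)/2` for `Sp_{2n}(q)`, `q` odd (assembly). -/

namespace Cfsg.Agent.Helper12.LSp

open Matrix Cfsg Cfsg.Agent.Helper12.LSU Cfsg.Agent.Helper24

variable {F : Type*} [Field F]

theorem smain [Fintype F] [DecidableEq F] (hodd : Odd (Fintype.card F)) (h2 : (2 : F) ≠ 0) (m : ℕ)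
    (hm : 2 ≤ m) (k : ℕ) (ρ : Representation ℂ ↥(symplecticGroup (Fin m) F) (Fin k → ℂ))
    (hρ : ρ.IsIrreducible) (hk : 2 ≤ k) : NS (Fintype.card F) m ≤ k := by
  classical
  have h3 : 3 ≤ Fintype.card F := by
    have h1 : 1 < Fintype.card F := Fintype.one_lt_card
    rcases hodd with ⟨j, hj⟩
    omega
  letI : Fintype ↥(symplecticGroup (Fin m) F) := Fintype.ofFinite _
  letI : Fintype ↥(Herm (RingHom.id F) m) := Fintype.ofFinite _
  set χ : ↥(symplecticGroup (Fin m) F) → ℂ := ρ.character with hχdef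
  have hχirr : IsIrrCharacter ↥(symplecticGroup (Fin m) F) χ := ⟨k, ρ, hρ, rfl⟩
  have hχ : IsCharacter ↥(symplecticGroup (Fin m) F) χ := ⟨k, ρ, rfl⟩
  have hχ1 : χ 1 = k := by
    rw [hχdef, Representation.char_one, Module.finrank_fin_fun]
  obtain ⟨U, hUinj, hlevi, hnorm⟩ := exists_siegel_sp m hm h3
  obtain ⟨ψ, hψ⟩ : ∃ ψ : AddChar F ℂ, ψ 1 ≠ 1 := AddChar.exists_apply_ne_zero.mpr one_ne_zero
  -- the linear characters of the radical
  let lam : ↥(Herm (RingHom.id F) m) → (Multiplicative ↥(Herm (RingHom.id F) m) →* ℂ) := fun H =>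
    { toFun := fun Y => ψ (Matrix.trace ((H : Matrix (Fin m) (Fin m) F) *
        ((Multiplicative.toAdd Y : ↥(Herm (RingHom.id F) m)) : Matrix (Fin m) (Fin m) F)))
      map_one' := by
        show ψ (Matrix.trace ((H : Matrix (Fin m) (Fin m) F) *
          ((0 : ↥(Herm (RingHom.id F) m)) : Matrix (Fin m) (Fin m) F))) = 1
        rw [AddSubgroup.coe_zero, Matrix.mul_zero, Matrix.trace_zero, AddChar.map_zero_eq_one]
      map_mul' := by
        intro Y Y'
        show ψ (Matrix.trace ((H : Matrix (Fin m) (Fin m) F) *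
          ((Multiplicative.toAdd Y + Multiplicative.toAdd Y' : ↥(Herm (RingHom.id F) m)) :
            Matrix (Fin m) (Fin m) F))) = _
        rw [AddSubgroup.coe_add, Matrix.mul_add, Matrix.trace_add, AddChar.map_add_eq_mul] }
  have hlam : ∀ (H Y : ↥(Herm (RingHom.id F) m)), lam H (Multiplicative.ofAdd Y) =
      ψ (Matrix.trace ((H : Matrix (Fin m) (Fin m) F) * (Y : Matrix (Fin m) (Fin m) F))) :=
    fun H Y => rfl
  have horth : ∀ a : Multiplicative ↥(Herm (RingHom.id F) m), a ≠ 1 → ∑ H, lam H a = 0 := by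
    intro a ha
    have ha' : ((Multiplicative.toAdd a : ↥(Herm (RingHom.id F) m)) : Matrix (Fin m) (Fin m) F) ≠ 0 := by
      intro h
      apply ha
      have : (Multiplicative.toAdd a : ↥(Herm (RingHom.id F) m)) = 0 := Subtype.ext h
      exact Multiplicative.toAdd.injective this
    exact sum_addChar_symm h2 m ψ hψ _ (Multiplicative.toAdd a).2 ha'
  have hcard : Fintype.card ↥(Herm (RingHom.id F) m) = Fintype.card (Multiplicative ↥(Herm (RingHom.id F) m)) :=
    (Fintype.card_multiplicative _).symm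
  obtain ⟨n, hn, hsum⟩ := rep_count U χ hχ k hχ1 lam horth hcard
  -- the support
  set S : Finset ↥(Herm (RingHom.id F) m) := Finset.univ.filter (fun H => n H ≠ 0 ∧ H ≠ 0) with hS
  set Φ : Finset (Matrix (Fin m) (Fin m) F) := S.image Subtype.val with hΦ
  have hΦcard : Φ.card = S.card := Finset.card_image_of_injective _ Subtype.val_injective
  have hmemΦ : ∀ X, X ∈ Φ ↔ ∃ h : X ∈ Herm (RingHom.id F) m, n ⟨X, h⟩ ≠ 0 ∧ X ≠ 0 := by
    intro X
    rw [hΦ, Finset.mem_image]
    constructor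
    · rintro ⟨H, hH, rfl⟩
      rw [hS, Finset.mem_filter] at hH
      refine ⟨H.2, hH.2.1, ?_⟩
      intro h0
      exact hH.2.2 (Subtype.ext h0)
    · rintro ⟨h, h1, h2⟩
      refine ⟨⟨X, h⟩, ?_, rfl⟩
      rw [hS, Finset.mem_filter]
      refine ⟨Finset.mem_univ _, h1, ?_⟩
      intro h0
      exact h2 (congrArg Subtype.val h0)
  -- `k` is at least the size of the support
  have hkS : S.card ≤ k := by
    rw [← hsum]
    calc S.card = ∑ _H ∈ S, 1 := by rw [Finset.sum_const, smul_eq_mul, mul_one]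
      _ ≤ ∑ H ∈ S, n H := by
          apply Finset.sum_le_sum
          intro H hH
          rw [hS, Finset.mem_filter] at hH
          exact Nat.one_le_iff_ne_zero.mpr hH.2.1
      _ ≤ ∑ H, n H := Finset.sum_le_sum_of_subset (Finset.subset_univ _)
  refine le_trans ?_ (hΦcard ▸ hkS)
  apply sorb hodd h2 m Φ
  · intro X hX
    obtain ⟨h, _, _⟩ := (hmemΦ X).mp hX
    exact (mem_Herm_id X).mp h
  · intro h0
    obtain ⟨_, _, h2⟩ := (hmemΦ 0).mp h0
    exact h2 rfl
  · -- nonempty
    by_contra hemp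
    rw [Finset.not_nonempty_iff_eq_empty] at hemp
    have hzero : ∀ H : ↥(Herm (RingHom.id F) m), H ≠ 0 → n H = 0 := by
      intro H hH0
      by_contra hnH
      have : (H : Matrix (Fin m) (Fin m) F) ∈ Φ := by
        rw [hmemΦ]
        refine ⟨H.2, hnH, ?_⟩
        intro h0
        exact hH0 (Subtype.ext h0)
      rw [hemp] at this
      exact absurd this (Finset.notMem_empty _)
    have hn0 : n 0 = k := by
      rw [← hsum]
      symm
      apply Finset.sum_eq_single_of_mem (0 : ↥(Herm (RingHom.id F) m)) (Finset.mem_univ _)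
      intro H _ hH
      exact hzero H hH
    have hlam0 : (fun a : Multiplicative ↥(Herm (RingHom.id F) m) => lam 0 a) = fun _ => (1 : ℂ) := by
      funext a
      show ψ (Matrix.trace (((0 : ↥(Herm (RingHom.id F) m)) : Matrix (Fin m) (Fin m) F) * _)) = 1
      rw [AddSubgroup.coe_zero, Matrix.zero_mul, Matrix.trace_zero, AddChar.map_zero_eq_one]
    have hker := rep_kernel U χ hχ (by
      have := hn 0
      rw [hlam0, hn0] at this
      rw [this, hχ1])
    have htop := hnorm (Cfsg.Agent.Helper5.charKer ⟨χ, hχirr⟩) inferInstance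
      (fun a => (Cfsg.Agent.Helper5.mem_charKer _ _).mpr (hker a))
    have hconst : ∀ g : ↥(symplecticGroup (Fin m) F), χ g = k := by
      intro g
      have : g ∈ Cfsg.Agent.Helper5.charKer ⟨χ, hχirr⟩ := by rw [htop]; exact Subgroup.mem_top g
      rw [Cfsg.Agent.Helper5.mem_charKer] at this
      rw [← hχ1]
      exact this
    have h1 : classInner χ χ = 1 := classInner_irr_self ⟨χ, hχirr⟩
    unfold classInner at h1
    have h2 : ∑ g : ↥(symplecticGroup (Fin m) F), χ g * (starRingEnd ℂ) (χ g) =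
        (Nat.card ↥(symplecticGroup (Fin m) F) : ℂ) * ((k : ℂ) * k) := by
      rw [Finset.sum_congr rfl (fun g _ => by rw [hconst g, Complex.conj_natCast])]
      rw [Finset.sum_const, Finset.card_univ, nsmul_eq_mul, Nat.card_eq_fintype_card]
    rw [h2, ← mul_assoc, inv_mul_cancel₀ card_ne_zero_complex, one_mul] at h1
    have h3 : k * k = 1 := by exact_mod_cast h1
    have : k = 1 := Nat.eq_one_of_mul_eq_one_right h3
    omega
  · -- stability
    intro A hA X hX
    obtain ⟨hXH, hnX, hX0⟩ := (hmemΦ X).mp hX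
    rw [← hact_id, hmemΦ]
    refine ⟨hact_mem_Herm (RingHom.id F) (fun _ => rfl) A hXH, ?_, ?_⟩
    · have hB0 : (ct (RingHom.id F) A).det ≠ 0 := by
        rw [det_ct]
        exact hA
      obtain ⟨g, hg⟩ := hlevi (ct (RingHom.id F) A) hB0
      have hinv := rep_invariant U hUinj χ (IsCharacter.isClassFunction hχ) g
        (fun Y => Multiplicative.ofAdd ⟨hact (RingHom.id F) (ct (RingHom.id F) A)
            ((Multiplicative.toAdd Y : ↥(Herm (RingHom.id F) m)) : Matrix (Fin m) (Fin m) F),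
          hact_mem_Herm (RingHom.id F) (fun _ => rfl) (ct (RingHom.id F) A) (Multiplicative.toAdd Y : ↥(Herm (RingHom.id F) m)).2⟩)
        (fun Y => (hg (Multiplicative.toAdd Y)).symm)
        (fun a => lam ⟨X, hXH⟩ a)
        (fun a => lam ⟨hact (RingHom.id F) A X, hact_mem_Herm (RingHom.id F) (fun _ => rfl) A hXH⟩ a)
        (fun Y => by
          show ψ (Matrix.trace (X * hact (RingHom.id F) (ct (RingHom.id F) A) _)) = ψ (Matrix.trace (hact (RingHom.id F) A X * _))
          rw [trace_mul_hact (RingHom.id F) (fun _ => rfl)])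
      rw [hn, hn] at hinv
      have : n ⟨X, hXH⟩ = n ⟨hact (RingHom.id F) A X, hact_mem_Herm (RingHom.id F) (fun _ => rfl) A hXH⟩ := by
        exact_mod_cast hinv
      rw [← this]
      exact hnX
    · intro h0
      exact hX0 ((hact_eq_zero_iff (RingHom.id F) A hA X).mp h0)

end Cfsg.Agent.Helper12.LSp
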