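import Mathlib
import Cfsg.Agent.Helper28.Norm

set_option autoImplicit false

/-! The fixed field of the involutive Frobenius of a field with `q²` elements has at least `q`
elements; a hyperbolic basis of the standard Hermitian plane. -/

namespace Cfsg.Agent.Helper12

open Matrix Polynomial

variable {F : Type*} [Field F]

/-- The fixed field of a ring endomorphism. -/
def fixedSub (σ : F →+* F) : Subfield F := σ.eqLocusField (RingHom.id F)

theorem mem_fixedSub (σ : F →+* F) (x : F) : x ∈ fixedSub σ ↔ σ x = x := Iff.rfl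

theorem card_roots_pow_add_le [Fintype F] (q : ℕ) (hq : 2 ≤ q) :
    Set.ncard {x : F | x ^ q + x = 0} ≤ q := by
  classical
  have hmonic : (X ^ q + X : F[X]).Monic := by
    apply Polynomial.monic_X_pow_add
    rw [Polynomial.degree_X]
    exact_mod_cast hq
  have hne : (X ^ q + X : F[X]) ≠ 0 := hmonic.ne_zero
  have hsub : {x : F | x ^ q + x = 0} ⊆ ↑((X ^ q + X : F[X]).roots.toFinset) := by
    intro x hx
    simp only [Finset.mem_coe, Multiset.mem_toFinset, Polynomial.mem_roots hne,
      Polynomial.IsRoot.def, Polynomial.eval_add, Polynomial.eval_pow, Polynomial.eval_X]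
    exact hx
  calc Set.ncard {x : F | x ^ q + x = 0}
      ≤ Set.ncard (↑((X ^ q + X : F[X]).roots.toFinset) : Set F) :=
        Set.ncard_le_ncard hsub (Finset.finite_toSet _)
    _ = ((X ^ q + X : F[X]).roots.toFinset).card := Set.ncard_coe_finset _
    _ ≤ Multiset.card (X ^ q + X : F[X]).roots := Multiset.toFinset_card_le _
    _ ≤ (X ^ q + X : F[X]).natDegree := Polynomial.card_roots' _
    _ ≤ q := by compute_degree; omega

theorem card_fixedSub_ge [Fintype F] (σ : F →+* F) (q : ℕ) (hF : Fintype.card F = q ^ 2)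
    (hσ : ∀ x, σ x = x ^ q) (hσ2 : ∀ x, σ (σ x) = x) : q ≤ Nat.card (fixedSub σ) := by
  classical
  have hq2 : 2 ≤ q := by
    by_contra hlt
    have : q = 0 ∨ q = 1 := by omega
    have h1 : 1 < Fintype.card F := Fintype.one_lt_card
    rcases this with h | h <;> rw [hF, h] at h1 <;> simp at h1
  let T : F →+ F := σ.toAddMonoidHom + AddMonoidHom.id F
  have hT : ∀ x, T x = σ x + x := fun x => rfl
  have hker : Nat.card T.ker ≤ q := by
    have hsub : (T.ker : Set F) ⊆ {x : F | x ^ q + x = 0} := by
      intro x hx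
      have : T x = 0 := hx
      rw [hT, hσ] at this
      exact this
    calc Nat.card T.ker = Set.ncard (T.ker : Set F) := (Nat.card_coe_set_eq _)
      _ ≤ Set.ncard {x : F | x ^ q + x = 0} := Set.ncard_le_ncard hsub (Set.toFinite _)
      _ ≤ q := card_roots_pow_add_le q hq2
  have hrange : Nat.card T.range ≤ Nat.card (fixedSub σ) := by
    have hsub : (T.range : Set F) ⊆ (fixedSub σ : Set F) := by
      rintro _ ⟨x, rfl⟩
      show σ (T x) = T x
      rw [hT, map_add, hσ2, add_comm]
    calc Nat.card T.range = Set.ncard (T.range : Set F) := (Nat.card_coe_set_eq _)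
      _ ≤ Set.ncard (fixedSub σ : Set F) := Set.ncard_le_ncard hsub (Set.toFinite _)
      _ = Nat.card (fixedSub σ) := (Nat.card_coe_set_eq _).symm
  have hmul : Nat.card T.ker * Nat.card T.range = q ^ 2 := by
    rw [← AddSubgroup.index_ker, AddSubgroup.card_mul_index, Nat.card_eq_fintype_card, hF]
  have h1 : q * q ≤ q * Nat.card (fixedSub σ) := by
    calc q * q = q ^ 2 := (sq q).symm
      _ = Nat.card T.ker * Nat.card T.range := hmul.symm
      _ ≤ q * Nat.card (fixedSub σ) := Nat.mul_le_mul hker hrange
  exact Nat.le_of_mul_le_mul_left h1 (by omega)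

/-- The Frobenius of a field with `q²` elements is not the identity. -/
theorem frob_ne_id [Fintype F] (σ : F →+* F) (q : ℕ) (hF : Fintype.card F = q ^ 2)
    (hσ : ∀ x, σ x = x ^ q) (hσ2 : ∀ x, σ (σ x) = x) : σ ≠ RingHom.id F := by
  classical
  intro hid
  have h1 : q ≤ Nat.card (fixedSub σ) := card_fixedSub_ge σ q hF hσ hσ2
  have hq2 : 2 ≤ q := by
    by_contra hlt
    have : q = 0 ∨ q = 1 := by omega
    have h1 : 1 < Fintype.card F := Fintype.one_lt_card
    rcases this with h | h <;> rw [hF, h] at h1 <;> simp at h1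
  -- every element is a root of `X^q - X`
  have hsub : (Set.univ : Set F) ⊆ ↑((X ^ q - X : F[X]).roots.toFinset) := by
    intro x _
    have hne : (X ^ q - X : F[X]) ≠ 0 := by
      apply Polynomial.Monic.ne_zero
      apply Polynomial.monic_X_pow_sub
      rw [Polynomial.degree_X]
      exact_mod_cast hq2
    simp only [Finset.mem_coe, Multiset.mem_toFinset, Polynomial.mem_roots hne,
      Polynomial.IsRoot.def, Polynomial.eval_sub, Polynomial.eval_pow, Polynomial.eval_X]
    rw [← hσ, hid]
    simp
  have h2 : Fintype.card F ≤ q := by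
    calc Fintype.card F = Set.ncard (Set.univ : Set F) := by
          rw [Set.ncard_univ, Nat.card_eq_fintype_card]
      _ ≤ Set.ncard (↑((X ^ q - X : F[X]).roots.toFinset) : Set F) :=
        Set.ncard_le_ncard hsub (Finset.finite_toSet _)
      _ = ((X ^ q - X : F[X]).roots.toFinset).card := Set.ncard_coe_finset _
      _ ≤ Multiset.card (X ^ q - X : F[X]).roots := Multiset.toFinset_card_le _
      _ ≤ (X ^ q - X : F[X]).natDegree := Polynomial.card_roots' _
      _ ≤ q := by compute_degree; omega
  rw [hF] at h2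
  nlinarith

/-- A hyperbolic basis of the standard Hermitian plane. -/
theorem exists_hyperbolic_matrix [Finite F] (σ : F →+* F) (hσ2 : ∀ x, σ (σ x) = x)
    (hne : σ ≠ RingHom.id F) :
    ∃ (P : Matrix (Fin 2) (Fin 2) F) (ξ : F), IsUnit P.det ∧
      Pᵀ * P.map σ = ξ • !![0, 1; -1, 0] := by
  obtain ⟨a, ha⟩ : ∃ a : F, σ a ≠ a := by
    by_contra hcon
    push Not at hcon
    exact hne (RingHom.ext hcon)
  obtain ⟨l, hl⟩ := Cfsg.Agent.Helper28.exists_norm_eq σ hne hσ2 (-1) (by simp) (by simp)
  have hl0 : l ≠ 0 := by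
    rintro rfl
    simp at hl
  refine ⟨!![1, σ a; l, l * a], a - σ a, ?_, ?_⟩
  · rw [Matrix.det_fin_two_of, isUnit_iff_ne_zero]
    intro h0
    have : l * (a - σ a) = 0 := by linear_combination h0
    rcases mul_eq_zero.1 this with h | h
    · exact hl0 h
    · exact ha (sub_eq_zero.1 h).symm
  · ext i j
    fin_cases i <;> fin_cases j <;>
      simp [Matrix.mul_apply, Fin.sum_univ_two, hσ2]
    · linear_combination hl
    · linear_combination (σ a) * hl
    · linear_combination a * hl
    · linear_combination (a * σ a) * hl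

end Cfsg.Agent.Helper12
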