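import Mathlib
import Cfsg.Prelude.Def_Classical
import Cfsg.Agent.Helper12.LawFailSL
import Cfsg.Agent.Helper2.Transvec

set_option autoImplicit false

/-! The hyperbolic embedding `A ↦ diag(A, A⁻ᵀ)` of `SL_m(F)` into the symplectic and orthogonal
groups, and the resulting noncentral failure of words. -/

namespace Cfsg.Agent.Helper12

open Matrix

variable {m : ℕ} {F : Type*} [Field F]

/-- `diag(A, A⁻ᵀ)`. -/
def hypMat (A : Matrix.SpecialLinearGroup (Fin m) F) :
    Matrix (Fin m ⊕ Fin m) (Fin m ⊕ Fin m) F :=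
  fromBlocks (A : Matrix (Fin m) (Fin m) F) 0 0
    ((A⁻¹ : Matrix.SpecialLinearGroup (Fin m) F) : Matrix (Fin m) (Fin m) F)ᵀ

theorem transpose_mul_inv_transpose (A : Matrix.SpecialLinearGroup (Fin m) F) :
    (A : Matrix (Fin m) (Fin m) F)ᵀ *
      ((A⁻¹ : Matrix.SpecialLinearGroup (Fin m) F) : Matrix (Fin m) (Fin m) F)ᵀ = 1 := by
  rw [← Matrix.transpose_mul, ← Matrix.SpecialLinearGroup.coe_mul, inv_mul_cancel,
    Matrix.SpecialLinearGroup.coe_one, Matrix.transpose_one]

/-- The hyperbolic embedding as a monoid homomorphism into matrices. -/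
def hypHom : Matrix.SpecialLinearGroup (Fin m) F →* Matrix (Fin m ⊕ Fin m) (Fin m ⊕ Fin m) F where
  toFun := hypMat
  map_one' := by
    simp [hypMat, Matrix.fromBlocks_one]
  map_mul' A B := by
    simp only [hypMat, Matrix.fromBlocks_multiply, _root_.mul_inv_rev,
      Matrix.SpecialLinearGroup.coe_mul,
      Matrix.transpose_mul, Matrix.mul_zero, Matrix.zero_mul, add_zero, zero_add]

theorem hypHom_injective : Function.Injective (hypHom (m := m) (F := F)) := by
  intro A B hAB
  have h := (Matrix.fromBlocks_inj.1 hAB).1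
  exact Subtype.ext h

theorem dot_mulVec_mulVec {l : Type*} [Fintype l] [DecidableEq l] (A D : Matrix l l F) (h : Aᵀ * D = 1)
    (x y : l → F) : (A *ᵥ x) ⬝ᵥ (D *ᵥ y) = x ⬝ᵥ y := by
  rw [← Matrix.vecMul_transpose, ← Matrix.dotProduct_mulVec, Matrix.mulVec_mulVec, h,
    Matrix.one_mulVec]

theorem hypMat_mulVec_inl (A : Matrix.SpecialLinearGroup (Fin m) F) (v : Fin m ⊕ Fin m → F)
    (i : Fin m) : (hypMat A *ᵥ v) (Sum.inl i) =
      ((A : Matrix (Fin m) (Fin m) F) *ᵥ (v ∘ Sum.inl)) i := by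
  simp [hypMat, Matrix.fromBlocks_mulVec]

theorem hypMat_mulVec_inr (A : Matrix.SpecialLinearGroup (Fin m) F) (v : Fin m ⊕ Fin m → F)
    (i : Fin m) : (hypMat A *ᵥ v) (Sum.inr i) =
      (((A⁻¹ : Matrix.SpecialLinearGroup (Fin m) F) : Matrix (Fin m) (Fin m) F)ᵀ *ᵥ
        (v ∘ Sum.inr)) i := by
  simp [hypMat, Matrix.fromBlocks_mulVec]

/-- The hyperbolic pairing is preserved. -/
theorem hypMat_pairing (A : Matrix.SpecialLinearGroup (Fin m) F) (v : Fin m ⊕ Fin m → F) :
    ∑ i : Fin m, (hypMat A *ᵥ v) (Sum.inl i) * (hypMat A *ᵥ v) (Sum.inr i) =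
      ∑ i : Fin m, v (Sum.inl i) * v (Sum.inr i) := by
  simp only [hypMat_mulVec_inl, hypMat_mulVec_inr]
  exact dot_mulVec_mulVec _ _ (transpose_mul_inv_transpose A) _ _

/-! ### Symplectic -/

theorem hypMat_mem_symplectic (A : Matrix.SpecialLinearGroup (Fin m) F) :
    hypMat A ∈ Matrix.symplecticGroup (Fin m) F := by
  rw [hypMat, SymplecticGroup.fromBlocks_mem_iff]
  refine ⟨by simp, by simp, ?_⟩
  rw [transpose_mul_inv_transpose]
  simp

/-- `SL_m(F) → Sp_{2m}(F)`. -/
def sympHom : Matrix.SpecialLinearGroup (Fin m) F →* Matrix.symplecticGroup (Fin m) F :=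
  hypHom.codRestrict (Matrix.symplecticGroup (Fin m) F) hypMat_mem_symplectic

theorem sympHom_injective : Function.Injective (sympHom (m := m) (F := F)) := by
  intro A B hAB
  apply hypHom_injective
  exact congrArg Subtype.val hAB

theorem Fails.symplectic {w : FreeGroup ℕ}
    (h : Fails (Matrix.SpecialLinearGroup (Fin m) F) w) :
    Fails (Matrix.symplecticGroup (Fin m) F) w :=
  h.of_injective sympHom sympHom_injective

end Cfsg.Agent.Helper12
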