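import Mathlib
import Cfsg.Prelude.Def_Classical
import Cfsg.Agent.Helper12.LawFailHyp

set_option autoImplicit false

/-! The hyperbolic embedding of `SL_m(F)` into the three families of orthogonal groups. -/

namespace Cfsg.Agent.Helper12

open Matrix

section blocks

variable {α β : Type*} [Fintype α] [DecidableEq α] [Fintype β] [DecidableEq β]
  {F : Type*} [Field F]

/-- `M ↦ diag(1, M)`. -/
def blockOneLeft (α : Type*) [Fintype α] [DecidableEq α] {β : Type*} [Fintype β] [DecidableEq β]
    (F : Type*) [Field F] : Matrix β β F →* Matrix (α ⊕ β) (α ⊕ β) F where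
  toFun M := fromBlocks 1 0 0 M
  map_one' := Matrix.fromBlocks_one
  map_mul' A B := by
    simp only [Matrix.fromBlocks_multiply, Matrix.mul_zero, Matrix.zero_mul, add_zero, zero_add,
      Matrix.mul_one]

/-- `M ↦ diag(M, 1)`. -/
def blockOneRight {α : Type*} [Fintype α] [DecidableEq α] (β : Type*) [Fintype β] [DecidableEq β]
    (F : Type*) [Field F] : Matrix α α F →* Matrix (α ⊕ β) (α ⊕ β) F where
  toFun M := fromBlocks M 0 0 1
  map_one' := Matrix.fromBlocks_one
  map_mul' A B := by
    simp only [Matrix.fromBlocks_multiply, Matrix.mul_zero, Matrix.zero_mul, add_zero, zero_add,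
      Matrix.mul_one]

theorem blockOneLeft_injective : Function.Injective (blockOneLeft α (β := β) F) := by
  intro A B hAB
  exact (Matrix.fromBlocks_inj.1 hAB).2.2.2

theorem blockOneRight_injective : Function.Injective (blockOneRight (α := α) β F) := by
  intro A B hAB
  exact (Matrix.fromBlocks_inj.1 hAB).1

theorem blockOneLeft_mulVec_inl (M : Matrix β β F) (v : α ⊕ β → F) (a : α) :
    (blockOneLeft α F M *ᵥ v) (Sum.inl a) = v (Sum.inl a) := by
  simp [blockOneLeft, Matrix.fromBlocks_mulVec]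

theorem blockOneLeft_mulVec_inr (M : Matrix β β F) (v : α ⊕ β → F) (b : β) :
    (blockOneLeft α F M *ᵥ v) (Sum.inr b) = (M *ᵥ (v ∘ Sum.inr)) b := by
  simp [blockOneLeft, Matrix.fromBlocks_mulVec]

theorem blockOneRight_mulVec_inl (M : Matrix α α F) (v : α ⊕ β → F) (a : α) :
    (blockOneRight β F M *ᵥ v) (Sum.inl a) = (M *ᵥ (v ∘ Sum.inl)) a := by
  simp [blockOneRight, Matrix.fromBlocks_mulVec]

theorem blockOneRight_mulVec_inr (M : Matrix α α F) (v : α ⊕ β → F) (b : β) :
    (blockOneRight β F M *ᵥ v) (Sum.inr b) = v (Sum.inr b) := by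
  simp [blockOneRight, Matrix.fromBlocks_mulVec]

end blocks

variable {m : ℕ} {F : Type*} [Field F]

/-- Generic step: an injective monoid hom from a perfect `SL` into matrices preserving `Q`
gives noncentral failure on `Ω(Q)`. -/
theorem Fails.omega_of_hom {ι : Type} [Fintype ι] [DecidableEq ι] (Q : (ι → F) → F)
    {w : FreeGroup ℕ} (h : Fails (Matrix.SpecialLinearGroup (Fin m) F) w) (hm : 3 ≤ m)
    (φ : Matrix.SpecialLinearGroup (Fin m) F →* Matrix ι ι F) (hφ : Function.Injective φ)
    (hQ : ∀ A v, Q (φ A *ᵥ v) = Q v) : Fails (Cfsg.Omega F Q) w := by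
  have hperf : commutator (Matrix.SpecialLinearGroup (Fin m) F) = ⊤ :=
    Cfsg.Agent.Helper2.SL_commutator_eq_top (by simpa using hm)
  have hmem : ∀ A, φ.toHomUnits A ∈ Cfsg.isometryGroup F Q := by
    intro A u v
    exact hQ A u
  refine h.to_commutator hperf (φ.toHomUnits.codRestrict (Cfsg.isometryGroup F Q) hmem) ?_
  intro A B hAB
  apply hφ
  have h1 := congrArg (fun x => ((x : Cfsg.isometryGroup F Q) :
    Matrix.GeneralLinearGroup ι F)) hAB
  have h2 := congrArg (fun x : Matrix.GeneralLinearGroup ι F => (x : Matrix ι ι F)) h1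
  simpa using h2

theorem Fails.omegaPlus {w : FreeGroup ℕ} (h : Fails (Matrix.SpecialLinearGroup (Fin m) F) w)
    (hm : 3 ≤ m) : Fails (Cfsg.Omega F (Cfsg.quadFormPlus m F)) w := by
  refine h.omega_of_hom _ hm hypHom hypHom_injective ?_
  intro A v
  exact hypMat_pairing A v

theorem Fails.omegaOdd {w : FreeGroup ℕ} (h : Fails (Matrix.SpecialLinearGroup (Fin m) F) w)
    (hm : 3 ≤ m) : Fails (Cfsg.Omega F (Cfsg.quadFormOdd m F)) w := by
  refine h.omega_of_hom _ hm ((blockOneLeft Unit F).comp hypHom)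
    (blockOneLeft_injective.comp hypHom_injective) ?_
  intro A v
  simp only [Cfsg.quadFormOdd, MonoidHom.comp_apply, blockOneLeft_mulVec_inl,
    blockOneLeft_mulVec_inr]
  congr 1
  exact hypMat_pairing A (v ∘ Sum.inr)

theorem Fails.omegaMinus {w : FreeGroup ℕ} (h : Fails (Matrix.SpecialLinearGroup (Fin m) F) w)
    (hm : 3 ≤ m) (a b : F) : Fails (Cfsg.Omega F (Cfsg.quadFormMinus m F a b)) w := by
  refine h.omega_of_hom _ hm ((blockOneRight (Fin 2) F).comp hypHom)
    (blockOneRight_injective.comp hypHom_injective) ?_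
  intro A v
  simp only [Cfsg.quadFormMinus, MonoidHom.comp_apply, blockOneRight_mulVec_inl,
    blockOneRight_mulVec_inr]
  congr 1
  exact hypMat_pairing A (v ∘ Sum.inl)

end Cfsg.Agent.Helper12
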