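import Mathlib
import Cfsg.Prelude.Def_Classical
import Cfsg.Agent.Helper12.LawFailSL
import Cfsg.Agent.Helper12.LawFailFixed
import Cfsg.Agent.Helper28.GU
import Cfsg.Agent.Helper28.Herm

set_option autoImplicit false

/-! Alternating groups and `SL₂` of the fixed field inside the special unitary groups. -/

namespace Cfsg.Agent.Helper12

open Matrix

section conj

variable {n : Type*} [Fintype n] [DecidableEq n] {F : Type*} [Field F]

/-- Conjugation by an invertible matrix on `SL`. -/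
noncomputable def conjSL (P : Matrix n n F) (hP : IsUnit P.det) :
    Matrix.SpecialLinearGroup n F →* Matrix.SpecialLinearGroup n F where
  toFun A := ⟨P * (A : Matrix n n F) * P⁻¹, by
    rw [Matrix.det_mul, Matrix.det_mul, A.2, mul_one, ← Matrix.det_mul,
      Matrix.mul_nonsing_inv _ hP, Matrix.det_one]⟩
  map_one' := by
    apply Subtype.ext
    simp [Matrix.mul_nonsing_inv _ hP]
  map_mul' A B := by
    apply Subtype.ext
    show P * ((A * B : Matrix.SpecialLinearGroup n F) : Matrix n n F) * P⁻¹ =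
      (P * (A : Matrix n n F) * P⁻¹) * (P * (B : Matrix n n F) * P⁻¹)
    rw [Matrix.SpecialLinearGroup.coe_mul]
    calc P * ((A : Matrix n n F) * (B : Matrix n n F)) * P⁻¹
        = P * (A : Matrix n n F) * 1 * (B : Matrix n n F) * P⁻¹ := by
          simp only [Matrix.mul_assoc, Matrix.one_mul]
      _ = P * (A : Matrix n n F) * (P⁻¹ * P) * (B : Matrix n n F) * P⁻¹ := by
          rw [Matrix.nonsing_inv_mul _ hP]
      _ = _ := by simp only [Matrix.mul_assoc]

theorem coe_conjSL (P : Matrix n n F) (hP : IsUnit P.det) (A : Matrix.SpecialLinearGroup n F) :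
    ((conjSL P hP A : Matrix.SpecialLinearGroup n F) : Matrix n n F) =
      P * (A : Matrix n n F) * P⁻¹ := rfl

theorem conjSL_injective (P : Matrix n n F) (hP : IsUnit P.det) :
    Function.Injective (conjSL P hP) := by
  intro A B hAB
  apply Subtype.ext
  have h1 : P * (A : Matrix n n F) * P⁻¹ = P * (B : Matrix n n F) * P⁻¹ :=
    congrArg Subtype.val hAB
  have h2 : P⁻¹ * (P * (A : Matrix n n F) * P⁻¹) * P = P⁻¹ * (P * (B : Matrix n n F) * P⁻¹) * P := by
    rw [h1]
  have h3 : ∀ X : Matrix n n F, P⁻¹ * (P * X * P⁻¹) * P = X := by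
    intro X
    calc P⁻¹ * (P * X * P⁻¹) * P = (P⁻¹ * P) * X * (P⁻¹ * P) := by simp only [Matrix.mul_assoc]
      _ = X := by rw [Matrix.nonsing_inv_mul _ hP, Matrix.one_mul, Matrix.mul_one]
  rw [h3, h3] at h2
  exact h2

theorem sl_map_injective {K : Type*} [Field K] (f : K →+* F) :
    Function.Injective (Matrix.SpecialLinearGroup.map (n := n) f) := by
  intro A B hAB
  apply Subtype.ext
  ext i j
  have h1 := congrArg (fun X : Matrix.SpecialLinearGroup n F => (X : Matrix n n F) i j) hAB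
  simp only [Matrix.SpecialLinearGroup.map_apply_coe, RingHom.mapMatrix_apply,
    Matrix.map_apply] at h1
  exact f.injective h1

end conj

section unitary2

variable {F : Type*} [Field F]

theorem transpose_J_mul (A : Matrix (Fin 2) (Fin 2) F) (hA : A.det = 1) :
    Aᵀ * !![0, 1; -1, 0] * A = !![0, 1; -1, 0] := by
  rw [Matrix.det_fin_two] at hA
  ext i j
  fin_cases i <;> fin_cases j <;>
    simp [Matrix.mul_apply, Fin.sum_univ_two]
  · ring
  · linear_combination hA
  · linear_combination -hA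
  · ring

theorem conj_unitary (σ : F →+* F) (P : Matrix (Fin 2) (Fin 2) F) (ξ : F) (hP : IsUnit P.det)
    (hPP : Pᵀ * P.map σ = ξ • !![0, 1; -1, 0]) (A : Matrix (Fin 2) (Fin 2) F)
    (hA : A.map σ = A) (hdet : A.det = 1) :
    (P * A * P⁻¹)ᵀ * (P * A * P⁻¹).map σ = 1 := by
  have h1 : P * P⁻¹ = 1 := Matrix.mul_nonsing_inv _ hP
  have hJ := transpose_J_mul A hdet
  rw [Matrix.transpose_mul, Matrix.transpose_mul, Matrix.map_mul, Matrix.map_mul, hA]
  calc P⁻¹ᵀ * (Aᵀ * Pᵀ) * (P.map σ * A * P⁻¹.map σ)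
      = P⁻¹ᵀ * (Aᵀ * (Pᵀ * P.map σ) * A) * P⁻¹.map σ := by simp only [Matrix.mul_assoc]
    _ = P⁻¹ᵀ * (ξ • !![0, 1; -1, 0]) * P⁻¹.map σ := by
        rw [hPP, Matrix.mul_smul, Matrix.smul_mul, hJ]
    _ = P⁻¹ᵀ * (Pᵀ * P.map σ) * P⁻¹.map σ := by rw [hPP]
    _ = (P * P⁻¹)ᵀ * (P * P⁻¹).map σ := by
        rw [Matrix.transpose_mul, Matrix.map_mul]
        simp only [Matrix.mul_assoc]
    _ = 1 := by
        rw [h1]
        simp

end unitary2

section embU

variable {ι κ : Type*} [Fintype ι] [DecidableEq ι] [Fintype κ] [DecidableEq κ]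
  {F : Type*} [Field F]

omit [Fintype ι] in
theorem embMat_transpose (E : Matrix ι κ F) (X : Matrix κ κ F) :
    (embMat E Eᵀ X)ᵀ = embMat E Eᵀ Xᵀ := by
  simp only [embMat, Matrix.transpose_add, Matrix.transpose_one, Matrix.transpose_mul,
    Matrix.transpose_sub, Matrix.transpose_transpose, Matrix.mul_assoc]

omit [Fintype ι] in
theorem embMat_map (σ : F →+* F) (E : Matrix ι κ F) (hE : E.map σ = E) (X : Matrix κ κ F) :
    (embMat E Eᵀ X).map σ = embMat E Eᵀ (X.map σ) := by
  have hE' : Eᵀ.map σ = Eᵀ := by rw [Matrix.transpose_map, hE]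
  simp only [embMat]
  rw [Matrix.map_add σ (map_add σ), Matrix.map_mul, Matrix.map_mul, hE, hE',
    Matrix.map_sub σ (map_sub σ), Matrix.map_one σ (map_zero σ) (map_one σ),
    Matrix.map_one σ (map_zero σ) (map_one σ)]

omit [Fintype ι] [Fintype κ] [DecidableEq κ] in
theorem coordE_map (σ : F →+* F) (c : κ → ι) : (coordE F c).map σ = coordE F c := by
  ext i j
  simp only [coordE, Matrix.map_apply, Matrix.submatrix_apply, id_eq, Matrix.one_apply]
  split_ifs <;> simp

theorem embMat_unitary (σ : F →+* F) (E : Matrix ι κ F) (hE : E.map σ = E) (hEE : Eᵀ * E = 1)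
    (X : Matrix κ κ F) (hX : Xᵀ * X.map σ = 1) :
    (embMat E Eᵀ X)ᵀ * (embMat E Eᵀ X).map σ = 1 := by
  rw [embMat_transpose, embMat_map σ E hE, ← embMat_mul hEE, hX, embMat_one]

end embU

section SUgroup

variable {F : Type*} [Field F]

theorem mem_SU_iff (n q : ℕ) (g : Matrix.SpecialLinearGroup (Fin n) F) :
    g ∈ Cfsg.SU n F q ↔ ∀ u v, Cfsg.hermForm n F q ((g : Matrix (Fin n) (Fin n) F) *ᵥ u)
      ((g : Matrix (Fin n) (Fin n) F) *ᵥ v) = Cfsg.hermForm n F q u v := Iff.rfl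

theorem permSL_mem_SU (n q : ℕ) (τ : alternatingGroup (Fin n)) :
    permSL n F τ ∈ Cfsg.SU n F q := by
  rw [mem_SU_iff]
  intro u v
  have hM : ((permSL n F τ : Matrix.SpecialLinearGroup (Fin n) F) : Matrix (Fin n) (Fin n) F) =
      ((τ : Equiv.Perm (Fin n))⁻¹).permMatrix F := rfl
  rw [hM, Matrix.permMatrix_mulVec, Matrix.permMatrix_mulVec]
  unfold Cfsg.hermForm
  exact Equiv.sum_comp ((τ : Equiv.Perm (Fin n))⁻¹) (fun i => u i * v i ^ q)

theorem Fails.su_of_alt {n q : ℕ} {w : FreeGroup ℕ} (h : Fails (alternatingGroup (Fin n)) w) :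
    Fails (Cfsg.SU n F q) w := by
  refine h.of_injective ((permSL n F).codRestrict (Cfsg.SU n F q) (permSL_mem_SU n q)) ?_
  intro a b hab
  apply permSL_injective n F
  exact congrArg Subtype.val hab

/-- The homomorphism from `SL₂` of the fixed field into `SL_n(F)` with unitary image. -/
noncomputable def unitaryHom (σ : F →+* F) (P : Matrix (Fin 2) (Fin 2) F) (hP : IsUnit P.det)
    {n : ℕ} (h2 : 2 ≤ n) :
    Matrix.SpecialLinearGroup (Fin 2) (fixedSub σ) →* Matrix.SpecialLinearGroup (Fin n) F :=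
  (embSL (coordE F (Fin.castLE h2)) (coordE F (Fin.castLE h2))ᵀ
      (coordE_transpose_mul _ (Fin.castLE_injective h2))).comp
    ((conjSL P hP).comp (Matrix.SpecialLinearGroup.map (fixedSub σ).subtype))

theorem unitaryHom_injective (σ : F →+* F) (P : Matrix (Fin 2) (Fin 2) F) (hP : IsUnit P.det)
    {n : ℕ} (h2 : 2 ≤ n) : Function.Injective (unitaryHom σ P hP h2) := by
  unfold unitaryHom
  rw [MonoidHom.coe_comp, MonoidHom.coe_comp]
  exact (embSL_injective _ _ (coordE_transpose_mul _ (Fin.castLE_injective h2))).comp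
    ((conjSL_injective P hP).comp (sl_map_injective _))

theorem unitaryHom_mem_SU (σ : F →+* F) (q : ℕ) (hσ : ∀ x, σ x = x ^ q)
    (P : Matrix (Fin 2) (Fin 2) F) (ξ : F) (hP : IsUnit P.det)
    (hPP : Pᵀ * P.map σ = ξ • !![0, 1; -1, 0]) {n : ℕ} (h2 : 2 ≤ n)
    (A : Matrix.SpecialLinearGroup (Fin 2) (fixedSub σ)) :
    unitaryHom σ P hP h2 A ∈ Cfsg.SU n F q := by
  rw [mem_SU_iff]
  set A' : Matrix (Fin 2) (Fin 2) F :=
    ((Matrix.SpecialLinearGroup.map (fixedSub σ).subtype A :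
      Matrix.SpecialLinearGroup (Fin 2) F) : Matrix (Fin 2) (Fin 2) F) with hA'
  have hfix : A'.map σ = A' := by
    ext i j
    simp only [hA', Matrix.SpecialLinearGroup.map_apply_coe, RingHom.mapMatrix_apply,
      Matrix.map_apply]
    exact ((A : Matrix (Fin 2) (Fin 2) (fixedSub σ)) i j).2
  have hdet : A'.det = 1 :=
    (Matrix.SpecialLinearGroup.map (fixedSub σ).subtype A).2
  have hX := conj_unitary σ P ξ hP hPP A' hfix hdet
  have hM := embMat_unitary σ (coordE F (Fin.castLE h2)) (coordE_map σ _)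
    (coordE_transpose_mul _ (Fin.castLE_injective h2)) _ hX
  exact (Cfsg.Agent.Helper28.GUlib.preserves_iff σ hσ _).2 hM

theorem Fails.su_of_sl2 [Fintype F] {n q : ℕ} (h2 : 2 ≤ n) (hF : Fintype.card F = q ^ 2)
    (σ : F →+* F) (hσ : ∀ x, σ x = x ^ q) (hσ2 : ∀ x, σ (σ x) = x) {w : FreeGroup ℕ}
    (h : Fails (Matrix.SpecialLinearGroup (Fin 2) (fixedSub σ)) w) :
    Fails (Cfsg.SU n F q) w := by
  obtain ⟨P, ξ, hP, hPP⟩ := exists_hyperbolic_matrix σ hσ2 (frob_ne_id σ q hF hσ hσ2)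
  refine h.of_injective ((unitaryHom σ P hP h2).codRestrict (Cfsg.SU n F q)
    (unitaryHom_mem_SU σ q hσ P ξ hP hPP h2)) ?_
  intro a b hab
  apply unitaryHom_injective σ P hP h2
  exact congrArg Subtype.val hab

end SUgroup

end Cfsg.Agent.Helper12
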