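import Mathlib

/-! Arithmetic toolkit for bounding the order of a group of Lie type by its `p`-part
(used for S2363). -/

set_option autoImplicit false

namespace Cfsg.Agent.Helper12.LieOrd

/-- If `d * g = (p^e)^N * M` with `p ∤ d`, `p ∤ M`, then `v_p(g) = e * N`. -/
theorem factorization_eq {p e d g N M : ℕ} (hp : p.Prime) (hg : 0 < g)
    (h : d * g = (p ^ e) ^ N * M) (hd : ¬ p ∣ d) (hM : ¬ p ∣ M) :
    g.factorization p = e * N := by
  have hd0 : d ≠ 0 := fun h0 => hd (h0 ▸ dvd_zero p)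
  have hM0 : M ≠ 0 := fun h0 => hM (h0 ▸ dvd_zero p)
  have hq0 : (p ^ e) ^ N ≠ 0 := pow_ne_zero _ (pow_ne_zero _ hp.ne_zero)
  have h1 : (d * g).factorization p = ((p ^ e) ^ N * M).factorization p := by rw [h]
  rw [Nat.factorization_mul hd0 hg.ne', Nat.factorization_mul hq0 hM0] at h1
  simp only [Finsupp.add_apply] at h1
  rw [Nat.factorization_eq_zero_of_not_dvd hd, Nat.factorization_eq_zero_of_not_dvd hM,
    ← pow_mul, Nat.Prime.factorization_pow hp] at h1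
  simpa using h1

/-- first bound: `g < p^(3 v_p(g))`. -/
theorem bound_one {p e d g N M a : ℕ} (hp : p.Prime) (hg : 0 < g)
    (h : d * g = (p ^ e) ^ N * M) (hd : ¬ p ∣ d) (hM : ¬ p ∣ M)
    (hMa : M < (p ^ e) ^ a) (ha : a ≤ 2 * N) :
    g < p ^ (3 * g.factorization p) := by
  rw [factorization_eq hp hg h hd hM]
  have hd0 : 0 < d := Nat.pos_of_ne_zero fun h0 => hd (h0 ▸ dvd_zero p)
  have hq : 0 < p ^ e := pow_pos hp.pos _
  have h1 : g ≤ d * g := Nat.le_mul_of_pos_left _ hd0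
  have h2 : (p ^ e) ^ N * M < (p ^ e) ^ N * (p ^ e) ^ a :=
    Nat.mul_lt_mul_of_pos_left hMa (pow_pos hq _)
  have h3 : (p ^ e) ^ N * (p ^ e) ^ a ≤ (p ^ e) ^ (3 * N) := by
    rw [← pow_add]
    exact Nat.pow_le_pow_right hq (by omega)
  have h4 : (p ^ e) ^ (3 * N) = p ^ (3 * (e * N)) := by
    rw [← pow_mul]; congr 1; ring
  rw [← h4]
  omega

/-- second bound: `g^3 < p^(8 v_p(g))`. -/
theorem bound_two {p e d g N M a : ℕ} (hp : p.Prime) (hg : 0 < g)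
    (h : d * g = (p ^ e) ^ N * M) (hd : ¬ p ∣ d) (hM : ¬ p ∣ M)
    (hMa : M < (p ^ e) ^ a) (ha : 3 * a ≤ 5 * N) :
    g ^ 3 < p ^ (8 * g.factorization p) := by
  rw [factorization_eq hp hg h hd hM]
  have hd0 : 0 < d := Nat.pos_of_ne_zero fun h0 => hd (h0 ▸ dvd_zero p)
  have hq : 0 < p ^ e := pow_pos hp.pos _
  have h1 : g ≤ d * g := Nat.le_mul_of_pos_left _ hd0
  have h2 : (p ^ e) ^ N * M < (p ^ e) ^ N * (p ^ e) ^ a :=
    Nat.mul_lt_mul_of_pos_left hMa (pow_pos hq _)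
  have h5 : g < (p ^ e) ^ (N + a) := by rw [pow_add]; omega
  have h6 : g ^ 3 < ((p ^ e) ^ (N + a)) ^ 3 := Nat.pow_lt_pow_left h5 (by norm_num)
  have h7 : ((p ^ e) ^ (N + a)) ^ 3 ≤ (p ^ e) ^ (8 * N) := by
    rw [← pow_mul]
    exact Nat.pow_le_pow_right hq (by omega)
  have h4 : (p ^ e) ^ (8 * N) = p ^ (8 * (e * N)) := by
    rw [← pow_mul]; congr 1; ring
  rw [← h4]
  omega

section dvd

variable {p e : ℕ}

theorem not_dvd_pow_sub_one (hp : p.Prime) (he : 0 < e) {k : ℕ} (hk : 0 < k) :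
    ¬ p ∣ (p ^ e) ^ k - 1 := by
  intro h
  have h1 : p ∣ (p ^ e) ^ k := by
    rw [← pow_mul]
    exact dvd_pow_self p (Nat.mul_ne_zero he.ne' hk.ne')
  have h2 : 0 < (p ^ e) ^ k := pow_pos (pow_pos hp.pos _) _
  have h3 : p ∣ (p ^ e) ^ k - ((p ^ e) ^ k - 1) := Nat.dvd_sub h1 h
  have h4 : (p ^ e) ^ k - ((p ^ e) ^ k - 1) = 1 := by omega
  rw [h4] at h3
  exact hp.one_lt.ne' (Nat.dvd_one.1 h3)

theorem not_dvd_pow_add_one (hp : p.Prime) (he : 0 < e) {k : ℕ} (hk : 0 < k) :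
    ¬ p ∣ (p ^ e) ^ k + 1 := by
  intro h
  have h1 : p ∣ (p ^ e) ^ k := by
    rw [← pow_mul]
    exact dvd_pow_self p (Nat.mul_ne_zero he.ne' hk.ne')
  have h3 : p ∣ 1 := (Nat.dvd_add_right h1).1 h
  exact hp.one_lt.ne' (Nat.dvd_one.1 h3)

theorem not_dvd_sub_one (hp : p.Prime) (he : 0 < e) : ¬ p ∣ p ^ e - 1 := by
  have := not_dvd_pow_sub_one hp he (k := 1) one_pos
  simpa using this

theorem not_dvd_add_one (hp : p.Prime) (he : 0 < e) : ¬ p ∣ p ^ e + 1 := by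
  have := not_dvd_pow_add_one hp he (k := 1) one_pos
  simpa using this

theorem not_dvd_mul (hp : p.Prime) {a b : ℕ} (ha : ¬ p ∣ a) (hb : ¬ p ∣ b) : ¬ p ∣ a * b :=
  fun h => (hp.dvd_mul.1 h).elim ha hb

theorem not_dvd_of_dvd {a b : ℕ} (hab : a ∣ b) (hb : ¬ p ∣ b) : ¬ p ∣ a :=
  fun h => hb (h.trans hab)

theorem not_dvd_prod (hp : p.Prime) {ι : Type*} (s : Finset ι) (f : ι → ℕ)
    (h : ∀ i ∈ s, ¬ p ∣ f i) : ¬ p ∣ ∏ i ∈ s, f i := by
  intro hd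
  obtain ⟨i, hi, hdi⟩ := (Prime.dvd_finsetProd_iff (Nat.Prime.prime hp) f).1 hd
  exact h i hi hdi

end dvd

section bounds

variable {q : ℕ}

theorem two_le_pow {p e : ℕ} (hp : p.Prime) (he : 0 < e) : 2 ≤ p ^ e :=
  le_trans hp.two_le (Nat.le_self_pow he.ne' p)

theorem sub_one_lt (hq : 2 ≤ q) (k : ℕ) : q ^ k - 1 < q ^ k := by
  have : 0 < q ^ k := pow_pos (by omega) _
  omega

theorem sub_one_le (k : ℕ) : q ^ k - 1 ≤ q ^ k := Nat.sub_le _ _

theorem add_one_le (hq : 2 ≤ q) (k : ℕ) : q ^ k + 1 ≤ q ^ (k + 1) := by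
  have : 0 < q ^ k := pow_pos (by omega) _
  rw [pow_succ]
  nlinarith

/-- multiply bounds: `x ≤ q^a`, `y ≤ q^b` gives `x*y ≤ q^(a+b)`. -/
theorem mul_le_pow {x y a b : ℕ} (hx : x ≤ q ^ a) (hy : y ≤ q ^ b) : x * y ≤ q ^ (a + b) := by
  rw [pow_add]; exact Nat.mul_le_mul hx hy

theorem mul_lt_pow_left {x y a b : ℕ} (hq : 2 ≤ q) (hx : x < q ^ a) (hy : y ≤ q ^ b) (hy0 : 0 < y) :
    x * y < q ^ (a + b) := by
  rw [pow_add]
  calc x * y < q ^ a * y := Nat.mul_lt_mul_of_pos_right hx hy0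
    _ ≤ q ^ a * q ^ b := Nat.mul_le_mul_left _ hy

theorem mul_lt_pow_right {x y a b : ℕ} (hq : 2 ≤ q) (hx : x ≤ q ^ a) (hy : y < q ^ b) :
    x * y < q ^ (a + b) := by
  rw [pow_add]
  have : 0 < q ^ a := pow_pos (by omega) _
  calc x * y ≤ q ^ a * y := Nat.mul_le_mul_right _ hx
    _ < q ^ a * q ^ b := Nat.mul_lt_mul_of_pos_left hy this

/-- `∏_{i<m} (q^(2(i+1)) - 1) ≤ q^(m(m+1))`. -/
theorem prod_even_le (m : ℕ) :
    ∏ i ∈ Finset.range m, (q ^ (2 * (i + 1)) - 1) ≤ q ^ (m * (m + 1)) := by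
  induction m with
  | zero => simp
  | succ m ih =>
    rw [Finset.prod_range_succ]
    have := mul_le_pow ih (sub_one_le (q := q) (2 * (m + 1)))
    calc _ ≤ q ^ (m * (m + 1) + 2 * (m + 1)) := this
      _ = _ := by congr 1; ring

theorem prod_even_lt (hq : 2 ≤ q) {m : ℕ} (hm : 1 ≤ m) :
    ∏ i ∈ Finset.range m, (q ^ (2 * (i + 1)) - 1) < q ^ (m * (m + 1)) := by
  obtain ⟨k, rfl⟩ : ∃ k, m = k + 1 := ⟨m - 1, by omega⟩
  rw [Finset.prod_range_succ]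
  have := mul_lt_pow_right hq (prod_even_le (q := q) k) (sub_one_lt hq (2 * (k + 1)))
  calc _ < q ^ (k * (k + 1) + 2 * (k + 1)) := this
    _ = _ := by congr 1; ring

theorem prod_even_pos (hq : 2 ≤ q) (m : ℕ) :
    0 < ∏ i ∈ Finset.range m, (q ^ (2 * (i + 1)) - 1) := by
  apply Finset.prod_pos
  intro i _
  have : 1 < q ^ (2 * (i + 1)) := Nat.one_lt_pow (by omega) (by omega)
  omega

/-- the exponent `a k = ∑_{i<k} (i+2)`. -/
def aexp (k : ℕ) : ℕ := ∑ i ∈ Finset.range k, (i + 2)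

theorem aexp_succ (k : ℕ) : aexp (k + 1) = aexp k + (k + 2) := by
  unfold aexp; rw [Finset.sum_range_succ]

theorem two_mul_aexp (k : ℕ) : 2 * aexp k = k * (k + 3) := by
  induction k with
  | zero => simp [aexp]
  | succ k ih => rw [aexp_succ]; nlinarith

theorem two_mul_sum_range (n : ℕ) : 2 * ∑ i ∈ Finset.range n, i = n * (n - 1) := by
  rw [mul_comm, Finset.sum_range_id_mul_two]

/-- `∏_{i<k} (q^(i+2) - 1) ≤ q^(aexp k)`. -/
theorem prod_lin_le (k : ℕ) :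
    ∏ i ∈ Finset.range k, (q ^ (i + 2) - 1) ≤ q ^ aexp k := by
  induction k with
  | zero => simp [aexp]
  | succ k ih =>
    rw [Finset.prod_range_succ, aexp_succ]
    exact mul_le_pow ih (sub_one_le _)

theorem prod_lin_lt (hq : 2 ≤ q) {k : ℕ} (hk : 1 ≤ k) :
    ∏ i ∈ Finset.range k, (q ^ (i + 2) - 1) < q ^ aexp k := by
  obtain ⟨j, rfl⟩ : ∃ j, k = j + 1 := ⟨k - 1, by omega⟩
  rw [Finset.prod_range_succ, aexp_succ]
  exact mul_lt_pow_right hq (prod_lin_le j) (sub_one_lt hq _)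

/-- the unitary factor: index `j ≥ 2`, `q^j - (-1)^j`. -/
def ufac (q : ℕ) (i : ℕ) : ℕ := if Even (i + 1) then q ^ (i + 2) + 1 else q ^ (i + 2) - 1

theorem pair_aux {A q : ℕ} (hq : 2 ≤ q) (hA : 0 < A) : (A - 1) * (A * q + 1) < A * (A * q) := by
  obtain ⟨a, rfl⟩ : ∃ a, A = a + 1 := ⟨A - 1, by omega⟩
  have e1 : a + 1 - 1 = a := by omega
  rw [e1]
  nlinarith

theorem ufac_pair_lt (hq : 2 ≤ q) (j : ℕ) :
    ufac q (2 * j) * ufac q (2 * j + 1) < q ^ ((2 * j + 2) + (2 * j + 3)) := by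
  have h1 : ¬ Even (2 * j + 1) := by
    rw [Nat.not_even_iff_odd]; exact ⟨j, rfl⟩
  have h2 : Even (2 * j + 1 + 1) := ⟨j + 1, by ring⟩
  unfold ufac
  rw [if_neg h1, if_pos h2]
  have hA : 0 < q ^ (2 * j + 2) := pow_pos (by omega) _
  have hB : q ^ (2 * j + 1 + 2) = q ^ (2 * j + 2) * q := by rw [← pow_succ]
  have hC : q ^ ((2 * j + 2) + (2 * j + 3)) = q ^ (2 * j + 2) * (q ^ (2 * j + 2) * q) := by
    rw [← pow_succ, ← pow_add]
  rw [hB, hC]
  exact pair_aux hq hA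

theorem ufac_pos (hq : 2 ≤ q) (i : ℕ) : 0 < ufac q i := by
  unfold ufac
  split_ifs
  · omega
  · have : 1 < q ^ (i + 2) := Nat.one_lt_pow (by omega) (by omega)
    omega

theorem prod_ufac_even_le (hq : 2 ≤ q) (j : ℕ) :
    ∏ i ∈ Finset.range (2 * j), ufac q i ≤ q ^ aexp (2 * j) := by
  induction j with
  | zero => simp [aexp]
  | succ j ih =>
    have e1 : 2 * (j + 1) = 2 * j + 1 + 1 := by ring
    rw [e1, Finset.prod_range_succ, Finset.prod_range_succ, aexp_succ, aexp_succ, mul_assoc]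
    have := mul_le_pow ih (ufac_pair_lt hq j).le
    calc _ ≤ q ^ (aexp (2 * j) + ((2 * j + 2) + (2 * j + 3))) := this
      _ = _ := by congr 1; ring

theorem prod_ufac_lt (hq : 2 ≤ q) {k : ℕ} (hk : 1 ≤ k) :
    ∏ i ∈ Finset.range k, ufac q i < q ^ aexp k := by
  rcases Nat.even_or_odd' k with ⟨j, rfl | rfl⟩
  · obtain ⟨l, rfl⟩ : ∃ l, j = l + 1 := ⟨j - 1, by omega⟩
    have e1 : 2 * (l + 1) = 2 * l + 1 + 1 := by ring
    rw [e1, Finset.prod_range_succ, Finset.prod_range_succ, aexp_succ, aexp_succ, mul_assoc]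
    have := mul_lt_pow_right hq (prod_ufac_even_le hq l) (ufac_pair_lt hq l)
    calc _ < q ^ (aexp (2 * l) + ((2 * l + 2) + (2 * l + 3))) := this
      _ = _ := by congr 1; ring
  · rw [Finset.prod_range_succ, aexp_succ]
    have h1 : ¬ Even (2 * j + 1) := by
      rw [Nat.not_even_iff_odd]; exact ⟨j, rfl⟩
    have : ufac q (2 * j) < q ^ (2 * j + 2) := by
      unfold ufac; rw [if_neg h1]; exact sub_one_lt hq _
    exact mul_lt_pow_right hq (prod_ufac_even_le hq j) this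

end bounds

end Cfsg.Agent.Helper12.LieOrd
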