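import Mathlib
import Cfsg.Agent.Helper12.LieOrdA

/-! Arithmetic cores for the classical families (used for S2363). -/

set_option autoImplicit false

namespace Cfsg.Agent.Helper12.LieOrd

open Finset

/-- the three conclusions, packaged. -/
def Concl (p g N e : ℕ) (second : Prop) : Prop :=
  g.factorization p = e * N ∧ g < p ^ (3 * g.factorization p) ∧
    (second → g ^ 3 < p ^ (8 * g.factorization p))

theorem concl_of {p e d g N M a : ℕ} {second : Prop} (hp : p.Prime) (hg : 0 < g)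
    (h : d * g = (p ^ e) ^ N * M) (hd : ¬ p ∣ d) (hM : ¬ p ∣ M)
    (hMa : M < (p ^ e) ^ a) (ha : a ≤ 2 * N) (ha3 : second → 3 * a ≤ 5 * N) :
    Concl p g N e second :=
  ⟨factorization_eq hp hg h hd hM, bound_one hp hg h hd hM hMa ha,
    fun hs => bound_two hp hg h hd hM hMa (ha3 hs)⟩

theorem exists_pow_of_pow_eq {p q j n : ℕ} (hp : p.Prime) (hj : 0 < j) (hn : 0 < n)
    (h : q ^ j = p ^ n) : ∃ e, 0 < e ∧ q = p ^ e := by
  have h1 : q ∣ p ^ n := by rw [← h]; exact dvd_pow_self q hj.ne'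
  obtain ⟨e, -, rfl⟩ := (Nat.dvd_prime_pow hp).1 h1
  refine ⟨e, ?_, rfl⟩
  rcases Nat.eq_zero_or_pos e with rfl | he
  · exfalso
    simp only [pow_zero, one_pow] at h
    exact (Nat.one_lt_pow hn.ne' hp.one_lt).ne h
  · exact he

theorem exists_card_eq_pow (F : Type*) [Field F] [Fintype F] (p : ℕ) [CharP F p] :
    p.Prime ∧ ∃ e, 0 < e ∧ Fintype.card F = p ^ e := by
  obtain ⟨n, hp, hn⟩ := FiniteField.card F p
  exact ⟨hp, n, n.pos, hn⟩

/-- rewriting of the `PSL` product. -/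
theorem psl_prod (q : ℕ) (hq : 2 ≤ q) (k : ℕ) :
    ∏ i : Fin (k + 1), (q ^ (k + 1) - q ^ (i : ℕ)) =
      q ^ (∑ i ∈ range (k + 1), i) * ((∏ i ∈ range k, (q ^ (i + 2) - 1)) * (q - 1)) := by
  rw [Fin.prod_univ_eq_prod_range (fun i => q ^ (k + 1) - q ^ i) (k + 1)]
  have h1 : ∀ i ∈ range (k + 1), q ^ (k + 1) - q ^ i = q ^ i * (q ^ (k + 1 - i) - 1) := by
    intro i hi
    rw [mem_range] at hi
    rw [Nat.mul_sub_one, ← pow_add, Nat.add_sub_cancel' (by omega)]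
  rw [prod_congr rfl h1, prod_mul_distrib, prod_pow_eq_pow_sum]
  congr 1
  have h2 : ∀ j ∈ range (k + 1), q ^ (k + 1 - j) - 1 = (fun j => q ^ (j + 1) - 1) (k + 1 - 1 - j) := by
    intro j hj
    rw [mem_range] at hj
    show _ = q ^ (k + 1 - 1 - j + 1) - 1
    congr 2; omega
  rw [prod_congr rfl h2, prod_range_reflect (fun j => q ^ (j + 1) - 1) (k + 1), prod_range_succ']
  simp

theorem psl_core {p e n g : ℕ} (hp : p.Prime) (he : 0 < e) (hn : 2 ≤ n) (hg : 0 < g)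
    (h : Nat.gcd n (p ^ e - 1) * ((p ^ e - 1) * g) =
      ∏ i : Fin n, ((p ^ e) ^ n - (p ^ e) ^ (i : ℕ))) :
    Concl p g (∑ i ∈ range n, i) e (3 ≤ n) := by
  obtain ⟨k, rfl⟩ : ∃ k, n = k + 1 := ⟨n - 1, by omega⟩
  have hq : 2 ≤ p ^ e := two_le_pow hp he
  rw [psl_prod _ hq k] at h
  have hq1 : 0 < p ^ e - 1 := by omega
  have h' : Nat.gcd (k + 1) (p ^ e - 1) * g =
      (p ^ e) ^ (∑ i ∈ range (k + 1), i) * ∏ i ∈ range k, ((p ^ e) ^ (i + 2) - 1) := by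
    apply Nat.eq_of_mul_eq_mul_right hq1
    rw [mul_assoc, mul_comm g, h, mul_assoc]
  have hd : ¬ p ∣ Nat.gcd (k + 1) (p ^ e - 1) :=
    not_dvd_of_dvd (Nat.gcd_dvd_right _ _) (not_dvd_sub_one hp he)
  have hM : ¬ p ∣ ∏ i ∈ range k, ((p ^ e) ^ (i + 2) - 1) :=
    not_dvd_prod hp _ _ fun i _ => not_dvd_pow_sub_one hp he (by omega)
  have hk : 1 ≤ k := by omega
  have e1 := two_mul_aexp k
  have e2 := two_mul_sum_range (k + 1)
  simp only [Nat.add_sub_cancel] at e2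
  refine concl_of hp hg h' hd hM (prod_lin_lt hq hk) ?_ ?_
  · nlinarith
  · intro h3
    have : 2 ≤ k := by omega
    nlinarith

theorem psu_core {p e n g : ℕ} (hp : p.Prime) (he : 0 < e) (hn : 3 ≤ n) (hg : 0 < g)
    (h : Nat.gcd n (p ^ e + 1) * ((p ^ e + 1) * g) =
      (p ^ e) ^ (n * (n - 1) / 2) *
        ∏ i ∈ range n, (if Even i then (p ^ e) ^ (i + 1) + 1 else (p ^ e) ^ (i + 1) - 1)) :
    Concl p g (∑ i ∈ range n, i) e True := by
  obtain ⟨k, rfl⟩ : ∃ k, n = k + 1 := ⟨n - 1, by omega⟩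
  have hq : 2 ≤ p ^ e := two_le_pow hp he
  rw [prod_range_succ', ← Finset.sum_range_id] at h
  have h0 : (if Even 0 then (p ^ e) ^ (0 + 1) + 1 else (p ^ e) ^ (0 + 1) - 1) = p ^ e + 1 := by
    simp
  rw [h0] at h
  have hu : ∀ i ∈ range k, (if Even (i + 1) then (p ^ e) ^ (i + 1 + 1) + 1
      else (p ^ e) ^ (i + 1 + 1) - 1) = ufac (p ^ e) i := fun i _ => rfl
  rw [prod_congr rfl hu] at h
  have hq1 : 0 < p ^ e + 1 := by omega
  have h' : Nat.gcd (k + 1) (p ^ e + 1) * g =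
      (p ^ e) ^ (∑ i ∈ range (k + 1), i) * ∏ i ∈ range k, ufac (p ^ e) i := by
    apply Nat.eq_of_mul_eq_mul_right hq1
    rw [mul_assoc, mul_comm g, h, mul_assoc]
  have hd : ¬ p ∣ Nat.gcd (k + 1) (p ^ e + 1) :=
    not_dvd_of_dvd (Nat.gcd_dvd_right _ _) (not_dvd_add_one hp he)
  have hM : ¬ p ∣ ∏ i ∈ range k, ufac (p ^ e) i := by
    refine not_dvd_prod hp _ _ fun i _ => ?_
    unfold ufac
    split_ifs
    · exact not_dvd_pow_add_one hp he (by omega)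
    · exact not_dvd_pow_sub_one hp he (by omega)
  have hk : 2 ≤ k := by omega
  have e1 := two_mul_aexp k
  have e2 := two_mul_sum_range (k + 1)
  simp only [Nat.add_sub_cancel] at e2
  refine concl_of hp hg h' hd hM (prod_ufac_lt hq (by omega)) ?_ ?_
  · nlinarith
  · intro _
    nlinarith

theorem sp_core {p e m d g : ℕ} (hp : p.Prime) (he : 0 < e) (hm : 2 ≤ m) (hg : 0 < g)
    (hd : ¬ p ∣ d)
    (h : d * g = (p ^ e) ^ (m ^ 2) * ∏ i ∈ range m, ((p ^ e) ^ (2 * (i + 1)) - 1)) :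
    Concl p g (m ^ 2) e True := by
  have hq : 2 ≤ p ^ e := two_le_pow hp he
  have hM : ¬ p ∣ ∏ i ∈ range m, ((p ^ e) ^ (2 * (i + 1)) - 1) :=
    not_dvd_prod hp _ _ fun i _ => not_dvd_pow_sub_one hp he (by omega)
  refine concl_of hp hg h hd hM (prod_even_lt hq (by omega)) ?_ ?_
  · nlinarith
  · intro _
    nlinarith

theorem oplus_core {p e m d g : ℕ} (hp : p.Prime) (he : 0 < e) (hm : 4 ≤ m) (hg : 0 < g)
    (hd : ¬ p ∣ d)
    (h : d * g = (p ^ e) ^ (m * (m - 1)) * ((p ^ e) ^ m - 1) *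
      ∏ i ∈ range (m - 1), ((p ^ e) ^ (2 * (i + 1)) - 1)) :
    Concl p g (m * (m - 1)) e True := by
  obtain ⟨k, rfl⟩ : ∃ k, m = k + 1 := ⟨m - 1, by omega⟩
  simp only [Nat.add_sub_cancel] at h ⊢
  have hq : 2 ≤ p ^ e := two_le_pow hp he
  rw [mul_assoc] at h
  have hM : ¬ p ∣ ((p ^ e) ^ (k + 1) - 1) * ∏ i ∈ range k, ((p ^ e) ^ (2 * (i + 1)) - 1) :=
    not_dvd_mul hp (not_dvd_pow_sub_one hp he (by omega))
      (not_dvd_prod hp _ _ fun i _ => not_dvd_pow_sub_one hp he (by omega))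
  have hb : ((p ^ e) ^ (k + 1) - 1) * ∏ i ∈ range k, ((p ^ e) ^ (2 * (i + 1)) - 1) <
      (p ^ e) ^ ((k + 1) + k * (k + 1)) :=
    mul_lt_pow_right hq (sub_one_le _) (prod_even_lt hq (by omega))
  refine concl_of hp hg h hd hM hb ?_ ?_
  · nlinarith
  · intro _
    nlinarith

theorem ominus_core {p e m d g : ℕ} (hp : p.Prime) (he : 0 < e) (hm : 4 ≤ m) (hg : 0 < g)
    (hd : ¬ p ∣ d)
    (h : d * g = (p ^ e) ^ (m * (m - 1)) * ((p ^ e) ^ m + 1) *
      ∏ i ∈ range (m - 1), ((p ^ e) ^ (2 * (i + 1)) - 1)) :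
    Concl p g (m * (m - 1)) e True := by
  obtain ⟨k, rfl⟩ : ∃ k, m = k + 1 := ⟨m - 1, by omega⟩
  simp only [Nat.add_sub_cancel] at h ⊢
  have hq : 2 ≤ p ^ e := two_le_pow hp he
  rw [mul_assoc] at h
  have hM : ¬ p ∣ ((p ^ e) ^ (k + 1) + 1) * ∏ i ∈ range k, ((p ^ e) ^ (2 * (i + 1)) - 1) :=
    not_dvd_mul hp (not_dvd_pow_add_one hp he (by omega))
      (not_dvd_prod hp _ _ fun i _ => not_dvd_pow_sub_one hp he (by omega))
  have hb : ((p ^ e) ^ (k + 1) + 1) * ∏ i ∈ range k, ((p ^ e) ^ (2 * (i + 1)) - 1) <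
      (p ^ e) ^ ((k + 1 + 1) + k * (k + 1)) :=
    mul_lt_pow_right hq (add_one_le hq _) (prod_even_lt hq (by omega))
  have hk : 3 ≤ k := by omega
  refine concl_of hp hg h hd hM hb ?_ ?_
  · nlinarith
  · intro _
    nlinarith

end Cfsg.Agent.Helper12.LieOrd
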