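import Mathlib
import Cfsg.Agent.Helper12.LieOrdB

/-! Arithmetic cores for the exceptional and twisted families (used for S2363). -/

set_option autoImplicit false

namespace Cfsg.Agent.Helper12.LieOrd

/-- a factor `q^k + 1` (`true`) or `q^k - 1` (`false`). -/
def fac (q : ℕ) : ℕ × Bool → ℕ
  | (k, true) => q ^ k + 1
  | (k, false) => q ^ k - 1

/-- the exponent bounding a factor. -/
def fexp : ℕ × Bool → ℕ
  | (k, true) => k + 1
  | (k, false) => k

/-- product of a list of factors. -/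
def lprod (q : ℕ) (L : List (ℕ × Bool)) : ℕ := (L.map (fac q)).prod

/-- sum of the bounding exponents. -/
def lexp (L : List (ℕ × Bool)) : ℕ := (L.map fexp).sum

theorem lprod_cons (q : ℕ) (x : ℕ × Bool) (L : List (ℕ × Bool)) :
    lprod q (x :: L) = fac q x * lprod q L := by simp [lprod]

theorem lexp_cons (x : ℕ × Bool) (L : List (ℕ × Bool)) :
    lexp (x :: L) = fexp x + lexp L := by simp [lexp]

theorem fac_lt {q : ℕ} (hq : 2 ≤ q) (x : ℕ × Bool) (hx : 0 < x.1) : fac q x < q ^ fexp x := by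
  obtain ⟨k, b⟩ := x
  cases b
  · exact sub_one_lt hq k
  · show q ^ k + 1 < q ^ (k + 1)
    have h1 : 2 ≤ q ^ k := le_trans hq (Nat.le_self_pow (by simpa using hx.ne') q)
    rw [pow_succ]
    nlinarith

theorem fac_pos {q : ℕ} (hq : 2 ≤ q) (x : ℕ × Bool) (hx : 0 < x.1) : 0 < fac q x := by
  obtain ⟨k, b⟩ := x
  cases b
  · show 0 < q ^ k - 1
    have : 1 < q ^ k := Nat.one_lt_pow (by simpa using hx.ne') (by omega)
    omega
  · show 0 < q ^ k + 1
    omega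

theorem lprod_pos {q : ℕ} (hq : 2 ≤ q) (L : List (ℕ × Bool)) (hpos : ∀ x ∈ L, 0 < x.1) :
    0 < lprod q L := by
  induction L with
  | nil => simp [lprod]
  | cons x L ih =>
    rw [lprod_cons]
    exact Nat.mul_pos (fac_pos hq x (hpos x (by simp)))
      (ih fun y hy => hpos y (by simp [hy]))

theorem lprod_le {q : ℕ} (hq : 2 ≤ q) (L : List (ℕ × Bool)) (hpos : ∀ x ∈ L, 0 < x.1) :
    lprod q L ≤ q ^ lexp L := by
  induction L with
  | nil => simp [lprod, lexp]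
  | cons x L ih =>
    rw [lprod_cons, lexp_cons]
    exact mul_le_pow (fac_lt hq x (hpos x (by simp))).le
      (ih fun y hy => hpos y (by simp [hy]))

theorem lprod_lt {q : ℕ} (hq : 2 ≤ q) (L : List (ℕ × Bool)) (hne : L ≠ [])
    (hpos : ∀ x ∈ L, 0 < x.1) : lprod q L < q ^ lexp L := by
  cases L with
  | nil => exact absurd rfl hne
  | cons x L =>
    rw [lprod_cons, lexp_cons]
    have hL : ∀ y ∈ L, 0 < y.1 := fun y hy => hpos y (by simp [hy])
    exact mul_lt_pow_left hq (fac_lt hq x (hpos x (by simp))) (lprod_le hq L hL)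
      (lprod_pos hq L hL)

theorem not_dvd_lprod {p e : ℕ} (hp : p.Prime) (he : 0 < e) (L : List (ℕ × Bool))
    (hpos : ∀ x ∈ L, 0 < x.1) : ¬ p ∣ lprod (p ^ e) L := by
  induction L with
  | nil => simpa [lprod] using hp.one_lt.ne'
  | cons x L ih =>
    rw [lprod_cons]
    refine not_dvd_mul hp ?_ (ih fun y hy => hpos y (by simp [hy]))
    have hx := hpos x (by simp)
    obtain ⟨k, b⟩ := x
    cases b
    · exact not_dvd_pow_sub_one hp he hx
    · exact not_dvd_pow_add_one hp he hx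

theorem list_core {p e d g N : ℕ} (L : List (ℕ × Bool)) (hp : p.Prime) (he : 0 < e)
    (hg : 0 < g) (hd : ¬ p ∣ d) (h : d * g = (p ^ e) ^ N * lprod (p ^ e) L) (hne : L ≠ [])
    (hpos : ∀ x ∈ L, 0 < x.1) (ha : lexp L ≤ 2 * N) (ha3 : 3 * lexp L ≤ 5 * N) :
    Concl p g N e True :=
  concl_of hp hg h hd (not_dvd_lprod hp he L hpos) (lprod_lt (two_le_pow hp he) L hne hpos)
    ha fun _ => ha3

section families

variable {p e g : ℕ}

theorem g2_core (hp : p.Prime) (he : 0 < e) (hg : 0 < g)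
    (h : g = (p ^ e) ^ 6 * ((p ^ e) ^ 2 - 1) * ((p ^ e) ^ 6 - 1)) : Concl p g 6 e True := by
  refine list_core [(2, false), (6, false)] hp he hg (d := 1) hp.not_dvd_one ?_ (by simp)
    (by simp) (by simp [lexp, fexp]) (by simp [lexp, fexp])
  rw [h]; simp [lprod, fac]; ring

theorem f4_core (hp : p.Prime) (he : 0 < e) (hg : 0 < g)
    (h : g = (p ^ e) ^ 24 * ((p ^ e) ^ 2 - 1) * ((p ^ e) ^ 6 - 1) * ((p ^ e) ^ 8 - 1) *
      ((p ^ e) ^ 12 - 1)) : Concl p g 24 e True := by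
  refine list_core [(2, false), (6, false), (8, false), (12, false)] hp he hg (d := 1)
    hp.not_dvd_one ?_ (by simp) (by simp) (by simp [lexp, fexp]) (by simp [lexp, fexp])
  rw [h]; simp [lprod, fac]; ring

theorem e6_core (hp : p.Prime) (he : 0 < e) (hg : 0 < g)
    (h : Nat.gcd 3 (p ^ e - 1) * g = (p ^ e) ^ 36 * ((p ^ e) ^ 2 - 1) * ((p ^ e) ^ 5 - 1) *
      ((p ^ e) ^ 6 - 1) * ((p ^ e) ^ 8 - 1) * ((p ^ e) ^ 9 - 1) * ((p ^ e) ^ 12 - 1)) :
    Concl p g 36 e True := by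
  refine list_core [(2, false), (5, false), (6, false), (8, false), (9, false), (12, false)]
    hp he hg (d := Nat.gcd 3 (p ^ e - 1))
    (not_dvd_of_dvd (Nat.gcd_dvd_right _ _) (not_dvd_sub_one hp he)) ?_ (by simp)
    (by simp) (by simp [lexp, fexp]) (by simp [lexp, fexp])
  rw [h]; simp [lprod, fac]; ring

theorem e7_core (hp : p.Prime) (he : 0 < e) (hg : 0 < g)
    (h : Nat.gcd 2 (p ^ e - 1) * g = (p ^ e) ^ 63 * ((p ^ e) ^ 2 - 1) * ((p ^ e) ^ 6 - 1) *
      ((p ^ e) ^ 8 - 1) * ((p ^ e) ^ 10 - 1) * ((p ^ e) ^ 12 - 1) * ((p ^ e) ^ 14 - 1) *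
      ((p ^ e) ^ 18 - 1)) :
    Concl p g 63 e True := by
  refine list_core [(2, false), (6, false), (8, false), (10, false), (12, false), (14, false),
    (18, false)]
    hp he hg (d := Nat.gcd 2 (p ^ e - 1))
    (not_dvd_of_dvd (Nat.gcd_dvd_right _ _) (not_dvd_sub_one hp he)) ?_ (by simp)
    (by simp) (by simp [lexp, fexp]) (by simp [lexp, fexp])
  rw [h]; simp [lprod, fac]; ring

theorem e8_core (hp : p.Prime) (he : 0 < e) (hg : 0 < g)
    (h : g = (p ^ e) ^ 120 * ((p ^ e) ^ 2 - 1) * ((p ^ e) ^ 8 - 1) *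
      ((p ^ e) ^ 12 - 1) * ((p ^ e) ^ 14 - 1) * ((p ^ e) ^ 18 - 1) * ((p ^ e) ^ 20 - 1) *
      ((p ^ e) ^ 24 - 1) * ((p ^ e) ^ 30 - 1)) :
    Concl p g 120 e True := by
  refine list_core [(2, false), (8, false), (12, false), (14, false), (18, false), (20, false),
    (24, false), (30, false)]
    hp he hg (d := 1) hp.not_dvd_one ?_ (by simp)
    (by simp) (by simp [lexp, fexp]) (by simp [lexp, fexp])
  rw [h]; simp [lprod, fac]; ring

theorem twisted_e6_core (hp : p.Prime) (he : 0 < e) (hg : 0 < g)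
    (h : Nat.gcd 3 (p ^ e + 1) * g = (p ^ e) ^ 36 * ((p ^ e) ^ 2 - 1) * ((p ^ e) ^ 5 + 1) *
      ((p ^ e) ^ 6 - 1) * ((p ^ e) ^ 8 - 1) * ((p ^ e) ^ 9 + 1) * ((p ^ e) ^ 12 - 1)) :
    Concl p g 36 e True := by
  refine list_core [(2, false), (5, true), (6, false), (8, false), (9, true), (12, false)]
    hp he hg (d := Nat.gcd 3 (p ^ e + 1))
    (not_dvd_of_dvd (Nat.gcd_dvd_right _ _) (not_dvd_add_one hp he)) ?_ (by simp)
    (by simp) (by simp [lexp, fexp]) (by simp [lexp, fexp])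
  rw [h]; simp [lprod, fac]; ring

theorem twisted_d4_core (hp : p.Prime) (he : 0 < e) (hg : 0 < g)
    (h : g = (p ^ e) ^ 12 * ((p ^ e) ^ 2 - 1) * ((p ^ e) ^ 6 - 1) *
      ((p ^ e) ^ 8 + (p ^ e) ^ 4 + 1)) :
    Concl p g 12 e True := by
  have hq : 2 ≤ p ^ e := two_le_pow hp he
  have h' : 1 * g = (p ^ e) ^ 12 * (((p ^ e) ^ 8 + (p ^ e) ^ 4 + 1) *
      lprod (p ^ e) [(2, false), (6, false)]) := by
    rw [h]; simp [lprod, fac]; ring
  have hX : ¬ p ∣ (p ^ e) ^ 8 + (p ^ e) ^ 4 + 1 := by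
    intro hd
    have h1 : p ∣ (p ^ e) ^ 8 + (p ^ e) ^ 4 := by
      apply Dvd.dvd.add
      · rw [← pow_mul]; exact dvd_pow_self p (by omega)
      · rw [← pow_mul]; exact dvd_pow_self p (by omega)
    exact hp.one_lt.ne' (Nat.dvd_one.1 ((Nat.dvd_add_right h1).1 hd))
  have hXb : (p ^ e) ^ 8 + (p ^ e) ^ 4 + 1 ≤ (p ^ e) ^ 9 := by
    have h4 : 2 ≤ (p ^ e) ^ 4 := le_trans hq (Nat.le_self_pow (by norm_num) _)
    have h8 : (p ^ e) ^ 8 = (p ^ e) ^ 4 * (p ^ e) ^ 4 := by rw [← pow_add]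
    have h9 : (p ^ e) ^ 9 = (p ^ e) ^ 8 * (p ^ e) := by rw [← pow_succ]
    rw [h9, h8]
    generalize (p ^ e) ^ 4 = B at h4
    generalize p ^ e = Q at hq
    have h1 : B * B * 2 ≤ B * B * Q := Nat.mul_le_mul_left _ hq
    nlinarith
  have hb : ((p ^ e) ^ 8 + (p ^ e) ^ 4 + 1) * lprod (p ^ e) [(2, false), (6, false)] <
      (p ^ e) ^ (9 + lexp [(2, false), (6, false)]) :=
    mul_lt_pow_right hq hXb (lprod_lt hq _ (by simp) (by simp))
  refine concl_of hp hg h' hp.not_dvd_one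
    (not_dvd_mul hp hX (not_dvd_lprod hp he _ (by simp))) hb ?_ ?_
  · simp [lexp, fexp]
  · intro _; simp [lexp, fexp]

theorem sz_core (hp : p.Prime) (he : 0 < e) (hg : 0 < g)
    (h : g = (p ^ e) ^ 2 * (p ^ e - 1) * ((p ^ e) ^ 2 + 1)) :
    Concl p g 2 e True := by
  have hq : 2 ≤ p ^ e := two_le_pow hp he
  have h' : 1 * g = (p ^ e) ^ 2 * ((p ^ e - 1) * ((p ^ e) ^ 2 + 1)) := by rw [h]; ring
  have hM : ¬ p ∣ (p ^ e - 1) * ((p ^ e) ^ 2 + 1) :=
    not_dvd_mul hp (not_dvd_sub_one hp he) (not_dvd_pow_add_one hp he (by norm_num))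
  have hb : (p ^ e - 1) * ((p ^ e) ^ 2 + 1) < (p ^ e) ^ 3 := by
    obtain ⟨a, ha⟩ : ∃ a, p ^ e = a + 1 := ⟨p ^ e - 1, by omega⟩
    rw [ha]
    have e1 : a + 1 - 1 = a := by omega
    rw [e1]
    nlinarith
  exact concl_of hp hg h' hp.not_dvd_one hM hb (by norm_num) (fun _ => by norm_num)

theorem twisted_f4_core (hp : p.Prime) (he : 0 < e) (hg : 0 < g)
    (h : g = (p ^ e) ^ 12 * (p ^ e - 1) * ((p ^ e) ^ 3 + 1) * ((p ^ e) ^ 4 - 1) *
      ((p ^ e) ^ 6 + 1)) :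
    Concl p g 12 e True := by
  refine list_core [(1, false), (3, true), (4, false), (6, true)]
    hp he hg (d := 1) hp.not_dvd_one ?_ (by simp)
    (by simp) (by simp [lexp, fexp]) (by simp [lexp, fexp])
  rw [h]; simp [lprod, fac]; ring

theorem twisted_g2_core (hp : p.Prime) (he : 0 < e) (hg : 0 < g)
    (h : g = (p ^ e) ^ 3 * (p ^ e - 1) * ((p ^ e) ^ 3 + 1)) :
    Concl p g 3 e True := by
  refine list_core [(1, false), (3, true)]
    hp he hg (d := 1) hp.not_dvd_one ?_ (by simp)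
    (by simp) (by simp [lexp, fexp]) (by simp [lexp, fexp])
  rw [h]; simp [lprod, fac]; ring

end families

end Cfsg.Agent.Helper12.LieOrd
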