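import Mathlib
import Cfsg.Prelude.Def_LieTypeChar
import Cfsg.Agent.Helper12.LieOrdC
import Cfsg.Agent.S0243
import Cfsg.Agent.S0245
import Cfsg.Agent.S0246
import Cfsg.Agent.S0280
import Cfsg.Agent.S0292
import Cfsg.Agent.S0293
import Cfsg.Agent.S0294
import Cfsg.Agent.S1059
import Cfsg.Agent.S1062
import Cfsg.Agent.S1063
import Cfsg.Agent.S1064
import Cfsg.Agent.S1065
import Cfsg.Agent.S1066
import Cfsg.Agent.S1067
import Cfsg.Agent.S1069
import Cfsg.Agent.Helper11.SzLie

/-! Order of a simple group of Lie type versus its `p`-part (S2363), modulo the order of `²F₄`. -/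

set_option autoImplicit false

namespace Cfsg.Agent.Helper12.LieOrd

open Cfsg

/-- the target of S2363 for a number `g` and exception clause `exc`. -/
def Target (p g : ℕ) (exc : Prop) : Prop :=
  g < p ^ (3 * g.factorization p) ∧ (¬ exc → g ^ 3 < p ^ (8 * g.factorization p))

theorem target_of_concl {p g N e : ℕ} {exc : Prop} (h : Concl p g N e True) : Target p g exc :=
  ⟨h.2.1, fun _ => h.2.2 trivial⟩

section classical

variable {G : Type*} [Group G] [Finite G] {p : ℕ}

theorem target_psl (hp : p.Prime) (h : IsPSLChar p G) :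
    Target p (Nat.card G) (∃ (F : Type) (_ : Field F) (_ : Fintype F),
      Fintype.card F = p ^ (Nat.card G).factorization p ∧
        Nonempty (G ≃* Matrix.ProjectiveSpecialLinearGroup (Fin 2) F)) := by
  obtain ⟨F, _, _, _, n, hn, -, ⟨φ⟩⟩ := h
  obtain ⟨-, e, he, hF⟩ := exists_card_eq_pow F p
  have hg : 0 < Nat.card G := Nat.card_pos
  have hcard : Nat.card G = Nat.card (Matrix.ProjectiveSpecialLinearGroup (Fin n) F) :=
    Nat.card_congr φ.toEquiv
  have h1 := Cfsg.Agent.S0243.result hF n hn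
  rw [← hcard] at h1
  have hc := psl_core hp he hn hg h1
  refine ⟨hc.2.1, fun hexc => ?_⟩
  by_cases h3 : 3 ≤ n
  · exact hc.2.2 h3
  · exfalso
    have hn2 : n = 2 := by omega
    subst hn2
    apply hexc
    refine ⟨F, inferInstance, inferInstance, ?_, ⟨φ⟩⟩
    rw [hc.1, hF]
    simp [Finset.sum_range_succ]

theorem target_psp (hp : p.Prime) (h : IsPSpChar p G) (exc : Prop) :
    Target p (Nat.card G) exc := by
  obtain ⟨F, _, _, _, m, hm, -, ⟨φ⟩⟩ := h
  obtain ⟨-, e, he, hF⟩ := exists_card_eq_pow F p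
  have hg : 0 < Nat.card G := Nat.card_pos
  have hcard : Nat.card G = Nat.card (PSp m F) := Nat.card_congr φ.toEquiv
  have h1 := Cfsg.Agent.S0245.result hF m
  have h2 := Cfsg.Agent.S0246.result hF m (by omega)
  have h3 := Subgroup.card_eq_card_quotient_mul_card_subgroup
    (Subgroup.center (Matrix.symplecticGroup (Fin m) F))
  rw [h1, h2, ← hcard] at h3
  have h4 : Nat.gcd 2 (p ^ e - 1) * Nat.card G =
      (p ^ e) ^ m ^ 2 * ∏ i ∈ Finset.range m, ((p ^ e) ^ (2 * (i + 1)) - 1) := by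
    rw [h3, mul_comm]
  exact target_of_concl (sp_core hp he hm hg
    (not_dvd_of_dvd (Nat.gcd_dvd_right _ _) (not_dvd_sub_one hp he)) h4)

theorem target_psu (hp : p.Prime) (h : IsPSUChar p G) (exc : Prop) :
    Target p (Nat.card G) exc := by
  obtain ⟨F, _, _, _, n, q, hF, hn, -, ⟨φ⟩⟩ := h
  obtain ⟨-, e', he', hF'⟩ := exists_card_eq_pow F p
  obtain ⟨e, he, rfl⟩ := exists_pow_of_pow_eq hp (by norm_num : 0 < 2) he' (hF.symm.trans hF')
  have hg : 0 < Nat.card G := Nat.card_pos
  have hcard : Nat.card G = Nat.card (PSU n F (p ^ e)) := Nat.card_congr φ.toEquiv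
  have h1 := Cfsg.Agent.S0280.result hF n (by omega)
  rw [← hcard] at h1
  exact target_of_concl (psu_core hp he hn hg h1)

theorem target_pomega_odd (hp : p.Prime) (h : IsPOmegaOddChar p G) (exc : Prop) :
    Target p (Nat.card G) exc := by
  obtain ⟨F, _, _, _, m, hm, hodd, ⟨φ⟩⟩ := h
  obtain ⟨-, e, he, hF⟩ := exists_card_eq_pow F p
  have hg : 0 < Nat.card G := Nat.card_pos
  have hcard : Nat.card G = Nat.card (POmega F (quadFormOdd m F)) := Nat.card_congr φ.toEquiv
  have h1 := Cfsg.Agent.S0292.result hF (hF ▸ hodd) m hm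
  rw [← hcard] at h1
  have hd : ¬ p ∣ 2 := by
    intro h2
    have hp2 : p = 2 := (Nat.prime_dvd_prime_iff_eq hp Nat.prime_two).1 h2
    rw [hF, hp2] at hodd
    exact (Nat.not_even_iff_odd.2 hodd) ((Nat.even_pow.2 ⟨even_two, he.ne'⟩))
  exact target_of_concl (sp_core hp he (by omega) hg hd h1)

theorem target_pomega_plus (hp : p.Prime) (h : IsPOmegaPlusChar p G) (exc : Prop) :
    Target p (Nat.card G) exc := by
  obtain ⟨F, _, _, _, m, hm, ⟨φ⟩⟩ := h
  obtain ⟨-, e, he, hF⟩ := exists_card_eq_pow F p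
  have hg : 0 < Nat.card G := Nat.card_pos
  have hcard : Nat.card G = Nat.card (POmega F (quadFormPlus m F)) := Nat.card_congr φ.toEquiv
  have h1 := Cfsg.Agent.S0293.result hF m hm
  rw [← hcard] at h1
  exact target_of_concl (oplus_core hp he hm hg
    (not_dvd_of_dvd (Nat.gcd_dvd_right _ _) (not_dvd_pow_sub_one hp he (by omega))) h1)

theorem target_pomega_minus (hp : p.Prime) (h : IsPOmegaMinusChar p G) (exc : Prop) :
    Target p (Nat.card G) exc := by
  obtain ⟨F, _, _, _, m, a, b, hm, hab, ⟨φ⟩⟩ := h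
  obtain ⟨-, e, he, hF⟩ := exists_card_eq_pow F p
  have hg : 0 < Nat.card G := Nat.card_pos
  have hcard : Nat.card G = Nat.card (POmega F (quadFormMinus (m - 1) F a b)) :=
    Nat.card_congr φ.toEquiv
  have h1 := Cfsg.Agent.S0294.result hF m hm a b hab
  rw [← hcard] at h1
  exact target_of_concl (ominus_core hp he hm hg
    (not_dvd_of_dvd (Nat.gcd_dvd_right _ _) (not_dvd_pow_add_one hp he (by omega))) h1)

end classical

section exceptional

variable {G : Type*} [Group G] [Finite G] {p : ℕ}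

theorem target_exceptional (hp : p.Prime) (h : IsExceptionalChevChar p G) (exc : Prop) :
    Target p (Nat.card G) exc := by
  obtain ⟨F, _, _, _, h⟩ := h
  obtain ⟨-, e, he, hF⟩ := exists_card_eq_pow F p
  have hg : 0 < Nat.card G := Nat.card_pos
  rcases h with ⟨-, ⟨φ⟩⟩ | ⟨⟨φ⟩⟩ | ⟨⟨φ⟩⟩ | ⟨⟨φ⟩⟩ | ⟨⟨φ⟩⟩
  · have h1 := Cfsg.Agent.S1059.result hF
    rw [← Nat.card_congr φ.toEquiv] at h1
    exact target_of_concl (g2_core hp he hg h1)
  · have h1 := Cfsg.Agent.S1062.result hF
    rw [← Nat.card_congr φ.toEquiv] at h1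
    exact target_of_concl (f4_core hp he hg h1)
  · have h1 := Cfsg.Agent.S1063.result hF
    rw [← Nat.card_congr φ.toEquiv] at h1
    exact target_of_concl (e6_core hp he hg h1)
  · have h1 := Cfsg.Agent.S1064.result hF
    rw [← Nat.card_congr φ.toEquiv] at h1
    exact target_of_concl (e7_core hp he hg h1)
  · have h1 := Cfsg.Agent.S1065.result hF
    rw [← Nat.card_congr φ.toEquiv] at h1
    exact target_of_concl (e8_core hp he hg h1)

theorem target_twisted (hp : p.Prime) (h : IsTwistedE6D4Char p G) (exc : Prop) :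
    Target p (Nat.card G) exc := by
  obtain ⟨K, _, _, _, q, hq, h⟩ := h
  obtain ⟨-, e', he', hK'⟩ := exists_card_eq_pow K p
  have hg : 0 < Nat.card G := Nat.card_pos
  rcases h with ⟨hK, ⟨φ⟩⟩ | ⟨hK, ⟨φ⟩⟩
  · obtain ⟨e, he, rfl⟩ := exists_pow_of_pow_eq hp (by norm_num : 0 < 2) he' (hK.symm.trans hK')
    have h1 := Cfsg.Agent.S1066.result hq hK
    rw [← Nat.card_congr φ.toEquiv] at h1
    exact target_of_concl (twisted_e6_core hp he hg h1)
  · obtain ⟨e, he, rfl⟩ := exists_pow_of_pow_eq hp (by norm_num : 0 < 3) he' (hK.symm.trans hK')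
    have h1 := Cfsg.Agent.S1067.result hq hK
    rw [← Nat.card_congr φ.toEquiv] at h1
    exact target_of_concl (twisted_d4_core hp he hg h1)

theorem target_suzuki (h : Lie.IsoSuzuki G) (exc : Prop) :
    Target 2 (Nat.card G) exc := by
  obtain ⟨F, _, _, m, hm, hF, ⟨φ⟩⟩ := h
  have hg : 0 < Nat.card G := Nat.card_pos
  have h1 := Cfsg.Agent.Helper11.SzLie.card_lieSz hF hm
  rw [← Nat.card_congr φ.toEquiv] at h1
  exact target_of_concl (sz_core Nat.prime_two (by omega : 0 < 2 * m + 1) hg h1)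

theorem target_ree (h : Lie.IsoRee G) (exc : Prop) :
    Target 3 (Nat.card G) exc := by
  obtain ⟨K, _, _, m, -, hK, ⟨φ⟩⟩ := h
  have hg : 0 < Nat.card G := Nat.card_pos
  have h1 := Cfsg.Agent.S1069.result hK
  rw [← Nat.card_congr φ.toEquiv] at h1
  exact target_of_concl (twisted_g2_core Nat.prime_three (by omega : 0 < 2 * m + 1) hg h1)

/-- the order formula of `²F₄(q)` as a hypothesis (S1068). -/
def H2F4 : Prop :=
  ∀ (K : Type) [Field K] [Fintype K] (m : ℕ), Fintype.card K = 2 ^ (2 * m + 1) →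
    Nat.card ↥(Cfsg.Lie.twistedF4 K (2 ^ m)) =
      (2 ^ (2 * m + 1)) ^ 12 * (2 ^ (2 * m + 1) - 1) * ((2 ^ (2 * m + 1)) ^ 3 + 1) *
        ((2 ^ (2 * m + 1)) ^ 4 - 1) * ((2 ^ (2 * m + 1)) ^ 6 + 1)

theorem target_2f4 (hF4 : H2F4) (h : Lie.Iso2F4 G) (exc : Prop) :
    Target 2 (Nat.card G) exc := by
  obtain ⟨K, _, _, m, -, hK, ⟨φ⟩⟩ := h
  have hg : 0 < Nat.card G := Nat.card_pos
  have h1 := hF4 K m hK
  rw [← Nat.card_congr φ.toEquiv] at h1
  exact target_of_concl (twisted_f4_core Nat.prime_two (by omega : 0 < 2 * m + 1) hg h1)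

/-- S2363 modulo the order of `²F₄(q)`. -/
theorem main (hF4 : H2F4) (hp : p.Prime) (hG : IsLieTypeChar p G) :
    Target p (Nat.card G) (∃ (F : Type) (_ : Field F) (_ : Fintype F),
      Fintype.card F = p ^ (Nat.card G).factorization p ∧
        Nonempty (G ≃* Matrix.ProjectiveSpecialLinearGroup (Fin 2) F)) := by
  rcases hG with h | h | h | h | h | h | h | h | ⟨rfl, h⟩ | ⟨rfl, h⟩ | ⟨rfl, h⟩
  · exact target_psl hp h
  · exact target_psp hp h _
  · exact target_psu hp h _
  · exact target_pomega_odd hp h _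
  · exact target_pomega_plus hp h _
  · exact target_pomega_minus hp h _
  · exact target_exceptional hp h _
  · exact target_twisted hp h _
  · exact target_suzuki h _
  · exact target_2f4 hF4 h _
  · exact target_ree h _

end exceptional

end Cfsg.Agent.Helper12.LieOrd
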