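import Mathlib
import Cfsg.Agent.Helper12.McKaySL2N
import Cfsg.Agent.Helper12.McKaySL2G
import Cfsg.Agent.Helper12.SL2SylowTorus

set_option autoImplicit false

namespace Cfsg.Agent.Helper12

open Cfsg

variable {F : Type*} [Field F]

local notation "S2" => Matrix.SpecialLinearGroup (Fin 2) F
local notation "M2" => Matrix (Fin 2) (Fin 2) F

/-- McKay count of the normaliser of a Sylow `ℓ`-subgroup (`ℓ` odd) lying in a torus. -/
theorem mkCount_normalizer_sylow_torus [Fintype F] {A : M2} {ε : F} (h : IsTorusGen A ε)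
    (hw : ∃ w : S2, (w : M2) * A = -(A * (w : M2)))
    (ℓ : ℕ) [Fact ℓ.Prime] (hℓ : ℓ ≠ 2) (P : Sylow ℓ S2) (hdvd : ℓ ∣ Nat.card S2)
    (hidx : ¬ ℓ ∣ (torusA A).index) :
    2 * mkCount ℓ (Subgroup.normalizer ((P : Subgroup S2) : Set S2)) =
      Nat.card (torusA A) + 6 := by
  have hprime : ℓ.Prime := Fact.out
  obtain ⟨g, hg⟩ := exists_le_torusA_conjGen A ℓ (P : Subgroup S2) P.isPGroup' hidx
  have h₁ := conjGen_isTorusGen h g
  have hne := P.ne_bot_of_dvd_card hdvd
  obtain ⟨⟨x, hx⟩, hx1⟩ := (Subgroup.ne_bot_iff_exists_ne_one).1 hne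
  have hx1' : x ≠ 1 := by
    intro h'
    apply hx1
    exact Subtype.ext h'
  have hxm1 : ((x : S2) : M2) ≠ 1 := by
    intro h'
    apply hx1'
    apply Subtype.ext
    rw [h', Matrix.SpecialLinearGroup.coe_one]
  have hxm2 : ((x : S2) : M2) ≠ -1 := by
    intro h'
    apply hx1'
    have hsq : (x : S2) * x = 1 := by
      apply Subtype.ext
      rw [Matrix.SpecialLinearGroup.coe_mul, h', Matrix.SpecialLinearGroup.coe_one]
      simp
    obtain ⟨k, hk⟩ := P.isPGroup' ⟨x, hx⟩
    have hk' : (x : S2) ^ (ℓ ^ k) = 1 := by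
      have := congrArg (fun y : (P : Subgroup S2) => (y : S2)) hk
      simpa using this
    have hodd : Odd (ℓ ^ k) := by
      apply Odd.pow
      exact hprime.odd_of_ne_two hℓ
    obtain ⟨m, hm⟩ := hodd
    rw [hm, pow_succ, pow_mul, pow_two, hsq, one_pow, one_mul] at hk'
    exact hk'
  obtain ⟨_, hN⟩ := h₁.centralizer_normalizer_of_le (P : Subgroup S2) hg hx hxm1 hxm2
  rw [mkCount_of_eq ℓ hN]
  have h3 : 2 < ℓ := by
    have := hprime.two_le
    omega
  rw [h₁.mkCount_normA_odd (exists_anticomm_conjGen g hw) ℓ h3, card_torusA_conjGen]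

/-- McKay equality for `SL₂(q)`, `q` odd, at an odd prime dividing `q - 1`. -/
theorem mkCount_sl2_eq_normalizer_sub [Fintype F] (hodd : Odd (Fintype.card F)) (ℓ : ℕ)
    [Fact ℓ.Prime] (hℓ : ℓ ≠ 2) (P : Sylow ℓ S2) (hdvd : ℓ ∣ Fintype.card F - 1) :
    mkCount ℓ S2 = mkCount ℓ (Subgroup.normalizer ((P : Subgroup S2) : Set S2)) := by
  classical
  have h2 := two_ne_zero_of_odd_card hodd
  have hq : 1 < Fintype.card F := Fintype.one_lt_card
  have hprime : ℓ.Prime := Fact.out
  have hcardG := Cfsg.Agent.S2301.card_sl2 (F := F)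
  have hgen := splitGen_isTorusGen h2 (F := F)
  have hw : ∃ w : Matrix.SpecialLinearGroup (Fin 2) F,
      (w : Matrix (Fin 2) (Fin 2) F) * splitGen = -(splitGen * (w : Matrix (Fin 2) (Fin 2) F)) :=
    ⟨weylS, weylS_anticomm⟩
  have hcard := card_torusA_splitGen h2 (F := F)
  have hidx : ¬ ℓ ∣ (torusA (splitGen (F := F))).index := by
    rw [index_of_card_sub_one _ hcard]
    intro h
    rcases (Nat.Prime.dvd_mul hprime).1 h with h' | h'
    · have : ℓ ∣ (Fintype.card F + 1) - (Fintype.card F - 1) := Nat.dvd_sub h' hdvd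
      have e : (Fintype.card F + 1) - (Fintype.card F - 1) = 2 := by omega
      rw [e] at this
      exact hℓ ((Nat.prime_dvd_prime_iff_eq hprime Nat.prime_two).1 this)
    · have : ℓ ∣ Fintype.card F - (Fintype.card F - 1) := Nat.dvd_sub h' hdvd
      have e : Fintype.card F - (Fintype.card F - 1) = 1 := by omega
      rw [e] at this
      exact hprime.one_lt.ne' (Nat.dvd_one.1 this)
  have hdvdG : ℓ ∣ Nat.card (Matrix.SpecialLinearGroup (Fin 2) F) := by
    rw [hcardG]
    exact Dvd.dvd.mul_left (Dvd.dvd.mul_right hdvd _) _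
  have hN := mkCount_normalizer_sylow_torus hgen hw ℓ hℓ P hdvdG hidx
  rw [hcard] at hN
  have hG := mkCount_sl2_sub hodd ℓ hprime hℓ hdvd
  omega

/-- McKay equality for `SL₂(q)`, `q` odd, at an odd prime dividing `q + 1`. -/
theorem mkCount_sl2_eq_normalizer_add [Fintype F] (hodd : Odd (Fintype.card F)) (ℓ : ℕ)
    [Fact ℓ.Prime] (hℓ : ℓ ≠ 2) (P : Sylow ℓ S2) (hdvd : ℓ ∣ Fintype.card F + 1) :
    mkCount ℓ S2 = mkCount ℓ (Subgroup.normalizer ((P : Subgroup S2) : Set S2)) := by
  classical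
  have h2 := two_ne_zero_of_odd_card hodd
  have hF : ringChar F ≠ 2 := by
    intro h
    apply h2
    have : CharP F 2 := ringChar.of_eq h
    exact CharTwo.two_eq_zero
  have hq : 1 < Fintype.card F := Fintype.one_lt_card
  have hprime : ℓ.Prime := Fact.out
  have hcardG := Cfsg.Agent.S2301.card_sl2 (F := F)
  obtain ⟨ε, hε⟩ := FiniteField.exists_nonsquare hF
  have hε0 := ne_zero_of_not_isSquare hε
  have hgen := nsGen_isTorusGen h2 hε0
  have hw := exists_anticomm_nsGen h2 hε0
  have hcard := card_torusA_nsGen h2 hε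
  have hidx : ¬ ℓ ∣ (torusA (nsGen ε)).index := by
    rw [index_of_card_add_one _ hcard]
    intro h
    rcases (Nat.Prime.dvd_mul hprime).1 h with h' | h'
    · have : ℓ ∣ (Fintype.card F + 1) - (Fintype.card F - 1) := Nat.dvd_sub hdvd h'
      have e : (Fintype.card F + 1) - (Fintype.card F - 1) = 2 := by omega
      rw [e] at this
      exact hℓ ((Nat.prime_dvd_prime_iff_eq hprime Nat.prime_two).1 this)
    · have : ℓ ∣ (Fintype.card F + 1) - Fintype.card F := Nat.dvd_sub hdvd h'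
      have e : (Fintype.card F + 1) - Fintype.card F = 1 := by omega
      rw [e] at this
      exact hprime.one_lt.ne' (Nat.dvd_one.1 this)
  have hdvdG : ℓ ∣ Nat.card (Matrix.SpecialLinearGroup (Fin 2) F) := by
    rw [hcardG]
    exact Dvd.dvd.mul_right hdvd _
  have hN := mkCount_normalizer_sylow_torus hgen hw ℓ hℓ P hdvdG hidx
  rw [hcard] at hN
  have hG := mkCount_sl2_add hodd ℓ hprime hℓ hdvd
  omega

end Cfsg.Agent.Helper12
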