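import Mathlib
import Cfsg.Prelude.Def_Characters
import Cfsg.Agent.Helper24.Generalized

set_option autoImplicit false

namespace Cfsg.Agent.Helper12

open scoped ComplexConjugate
open Cfsg Cfsg.Agent.Helper24

/-- A generalized character of norm `2` is a signed sum of two distinct irreducible
characters. -/
theorem exists_signed_pair_of_norm_two {G : Type*} [Group G] [Fintype G] {θ : G → ℂ}
    (h : Cfsg.IsGeneralizedCharacter G θ) (h2 : Cfsg.classInner θ θ = 2) :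
    ∃ (a b : Cfsg.IrrCharacter G) (sa sb : ℤ), a ≠ b ∧ (sa = 1 ∨ sa = -1) ∧
      (sb = 1 ∨ sb = -1) ∧ θ = (sa : ℂ) • (a : G → ℂ) + (sb : ℂ) • (b : G → ℂ) := by
  classical
  have : Fintype (Cfsg.IrrCharacter G) := Fintype.ofFinite _
  obtain ⟨n, rfl⟩ := IsGeneralizedCharacter.exists_int_coeff h
  rw [classInner_sum_sum] at h2
  have h' : ∑ ψ : Cfsg.IrrCharacter G, n ψ ^ 2 = 2 := by
    have : (∑ ψ : Cfsg.IrrCharacter G, (n ψ : ℂ) * (starRingEnd ℂ) (n ψ : ℂ)) =
        ((∑ ψ : Cfsg.IrrCharacter G, n ψ ^ 2 : ℤ) : ℂ) := by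
      push_cast
      refine Finset.sum_congr rfl ?_
      intro ψ _
      rw [map_intCast, sq]
    rw [this] at h2
    exact_mod_cast h2
  set s := Finset.univ.filter (fun ψ : Cfsg.IrrCharacter G => n ψ ≠ 0) with hs
  have hs0 : ∀ ψ, ψ ∉ s → n ψ = 0 := by
    intro ψ hψ
    by_contra hne
    exact hψ (by rw [hs, Finset.mem_filter]; exact ⟨Finset.mem_univ _, hne⟩)
  have hsum_s : ∑ ψ ∈ s, n ψ ^ 2 = 2 := by
    rw [← h']
    apply Finset.sum_subset (Finset.subset_univ _)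
    intro ψ _ hψ
    rw [hs0 ψ hψ]; ring
  have hle2 : ∀ ψ ∈ s, n ψ ^ 2 ≤ 2 := by
    intro ψ hψ
    rw [← hsum_s]
    exact Finset.single_le_sum (f := fun ψ => n ψ ^ 2) (fun i _ => sq_nonneg (n i)) hψ
  have hpm : ∀ ψ ∈ s, n ψ = 1 ∨ n ψ = -1 := by
    intro ψ hψ
    have hne : n ψ ≠ 0 := by
      rw [hs, Finset.mem_filter] at hψ; exact hψ.2
    have := hle2 ψ hψ
    have h1 : -1 ≤ n ψ := by nlinarith
    have h2 : n ψ ≤ 1 := by nlinarith
    omega
  have hsq1 : ∀ ψ ∈ s, n ψ ^ 2 = 1 := by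
    intro ψ hψ
    rcases hpm ψ hψ with h | h <;> rw [h] <;> norm_num
  have hcard : s.card = 2 := by
    have : ∑ ψ ∈ s, n ψ ^ 2 = ∑ _ψ ∈ s, (1 : ℤ) := Finset.sum_congr rfl hsq1
    rw [this, Finset.sum_const, nsmul_eq_mul, mul_one] at hsum_s
    exact_mod_cast hsum_s
  obtain ⟨a, b, hab, hsab⟩ := Finset.card_eq_two.mp hcard
  have ha : a ∈ s := by rw [hsab]; simp
  have hb : b ∈ s := by rw [hsab]; simp
  have hθ : ∑ ψ : Cfsg.IrrCharacter G, (n ψ : ℂ) • (ψ : G → ℂ)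
      = (n a : ℂ) • (a : G → ℂ) + (n b : ℂ) • (b : G → ℂ) := by
    rw [← Finset.sum_subset (Finset.subset_univ s), hsab, Finset.sum_pair hab]
    intro ψ _ hψ
    rw [hs0 ψ hψ]; simp
  exact ⟨a, b, n a, n b, hab, hpm a ha, hpm b hb, hθ⟩

/-- Inner products of a signed pair with an irreducible character. -/
theorem classInner_signed_pair {G : Type*} [Group G] [Fintype G] (a b ψ : Cfsg.IrrCharacter G)
    (sa sb : ℂ) [Decidable (a = ψ)] [Decidable (b = ψ)] :
    Cfsg.classInner (sa • (a : G → ℂ) + sb • (b : G → ℂ)) (ψ : G → ℂ) =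
      sa * (if a = ψ then 1 else 0) + sb * (if b = ψ then 1 else 0) := by
  rw [Helper24.classInner_add_left, Helper24.classInner_smul_left, Helper24.classInner_smul_left,
    classInner_irr, classInner_irr]

end Cfsg.Agent.Helper12
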