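import Cfsg.Agent.Helper29.OC2K.Main
import Cfsg.Agent.Helper29.OC2K.REFLMEM
import Cfsg.Agent.Helper17.OC2KC2Defs
import Cfsg.Agent.Helper17.OC2KC2PM

set_option autoImplicit false
set_option linter.unusedSectionVars false
set_option linter.unusedVariables false

/-! # OC2K chapter CHAR2, case `q = 2`, `k = 4` (driver helper17), piece Q2STAR (helper12):
a pure `p ∈ Rad M v` with `Q p = 1` such that `z = p + v` has a nonsingular component in a block not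
containing `z` gives `G1`.  Also (R2): `E(u, w) = r_w r_{w + u}` when `Q w = 1`. -/

namespace Cfsg.Agent.OC2K

open Matrix Cfsg.Agent.Helper28.Sg Cfsg.Agent.Helper28.Spin Cfsg.Agent.Helper12.OrthGen
  Cfsg.Agent.S2614 Cfsg.Agent.S5683P Cfsg.Agent.Helper28.NDM

variable {F : Type*} [Field F] [Fintype F] {t k : ℕ} {ι : Type} [Fintype ι] [DecidableEq ι] {Q : QuadraticForm F (ι → F)} [QHyp Q] {D : Fin t → Submodule F (ι → F)}
  {M : Subgroup (OGq Q)}

/-- (R2) `E(u, w) = r_w r_{w + u}` for `Q w = 1` -/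
theorem C2.Q2STAR.sieg_eq_refl {u w : ι → F} (hQu : Q u = 0) (huw : B (Q) u w = 0) (hQw : Q w = 1)
    (hw : Q w ≠ 0) (hw' : Q (w + u) ≠ 0) :
    siegO (Q) u w hQu huw = reflO (Q) w hw * reflO (Q) (w + u) hw' := by
  have hw'' : Q (w + (1 : F) • u) ≠ 0 := by rw [one_smul]; exact hw'
  have h' : B (Q) u (((1 : F) * (Q w)⁻¹) • w) = 0 := B_smul_right_zero (Q) _ huw
  have h1 := reflO_mul_reflO (Q) (1 : F) hQu huw hw hw'' h'
  have e1 : reflO (Q) (w + (1 : F) • u) hw'' = reflO (Q) (w + u) hw' :=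
    Cfsg.Agent.Helper28.Sg.reflO_congr' (by rw [one_smul]) hw'' hw'
  rw [e1] at h1
  rw [h1]
  exact siegO_congr (Q) hQu huw hQu h' rfl (by rw [hQw, inv_one, mul_one, one_smul])

/-- a nonzero singular vector of the block perpendicular to a given nonsingular vector (char 2) -/
theorem C2.Q2STAR.exists_sing_perp (h2 : (2 : F) = 0) (hD : HD Q k D)
    {d : Fin t} {a : ι → F} (ha : a ∈ D d) (hQa : Q a ≠ 0) :
    ∃ x ∈ D d, x ≠ 0 ∧ Q x = 0 ∧ B (Q) x a = 0 := by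
  have haa : B (Q) a a = 0 := by rw [B_self, h2, zero_mul]
  have hdbl : ∀ c : F, c + c = 0 := fun c => by rw [← two_mul, h2, zero_mul]
  obtain ⟨e, f, he, hf, hp⟩ := BLK.hyp hD d
  have he0 : e ≠ 0 := by
    rintro rfl
    have := hp.Bef
    simp [B] at this
  by_cases h1 : B (Q) e a = 0
  · exact ⟨e, he, he0, hp.Qe, h1⟩
  obtain ⟨w, hw, hew, hfw, hQw⟩ := GEOA.exists_nonsing_perp (Q := Q) (D d) (BLK.ndon hD d)
    (BLK.three hD d) he hf hp.Qe hp.Qf (by rw [hp.Bef]; exact one_ne_zero)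
  set α : F := B (Q) e a with hα
  set γ : F := B (Q) w a with hγ
  set z₀ : ι → F := γ • e + α • w with hz₀
  have hz₀d : z₀ ∈ D d := (D d).add_mem ((D d).smul_mem _ he) ((D d).smul_mem _ hw)
  have hz₀a : B (Q) z₀ a = 0 := by
    rw [hz₀, Cfsg.Agent.Helper28.OFN.B_add_left', Cfsg.Agent.Helper28.OFN.B_smul_left',
      Cfsg.Agent.Helper28.OFN.B_smul_left', ← hα, ← hγ, mul_comm α γ]
    exact hdbl _
  have hQz₀ : Q z₀ = α * α * Q w := by
    rw [hz₀, Q_add, Q_smul, Q_smul, hp.Qe, Cfsg.Agent.Helper28.OFN.B_smul_left',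
      Cfsg.Agent.Helper28.OFN.B_smul_right', hew]
    ring
  have hcF : CharP F 2 := CharTwo.of_one_ne_zero_of_two_eq_zero one_ne_zero h2
  obtain ⟨lam, hlam⟩ := FiniteField.isSquare_of_char_two (ringChar.eq F 2) (Q z₀ * (Q a)⁻¹)
  have hlam' : lam * lam * Q a = Q z₀ := by
    rw [← hlam, mul_assoc, inv_mul_cancel₀ hQa, mul_one]
  refine ⟨z₀ + lam • a, (D d).add_mem hz₀d ((D d).smul_mem _ ha), ?_, ?_, ?_⟩
  · intro h0
    -- `B z₀ e = 0 = -lam * B a e`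
    have h3 : B (Q) (z₀ + lam • a) e = 0 := by rw [h0]; simp [B]
    rw [Cfsg.Agent.Helper28.OFN.B_add_left', Cfsg.Agent.Helper28.OFN.B_smul_left', hz₀,
      Cfsg.Agent.Helper28.OFN.B_add_left', Cfsg.Agent.Helper28.OFN.B_smul_left',
      Cfsg.Agent.Helper28.OFN.B_smul_left', B_self_of_singular (Q) hp.Qe, B_comm (Q) w e, hew,
      B_comm (Q) a e, ← hα] at h3
    have h4 : lam = 0 := by
      have h3' : lam = 0 ∨ α = 0 := by simpa using h3
      rcases h3' with h | h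
      · exact h
      · exact absurd h h1
    rw [h4, zero_smul, add_zero] at h0
    -- `z₀ = 0` gives `Q w = 0`
    apply hQw
    have h5 : α * α * Q w = 0 := by rw [← hQz₀, h0]; exact map_zero _
    rcases mul_eq_zero.mp h5 with h | h
    · exact absurd (mul_self_eq_zero.mp h) h1
    · exact h
  · rw [Q_add, Q_smul, hlam', Cfsg.Agent.Helper28.OFN.B_smul_right', hz₀a, mul_zero, add_zero]
    exact hdbl _
  · rw [Cfsg.Agent.Helper28.OFN.B_add_left', Cfsg.Agent.Helper28.OFN.B_smul_left', hz₀a, haa,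
      mul_zero, add_zero]

/-- Q2STAR -/
theorem C2.Q2STAR.main (h2 : (2 : F) = 0) (hD : HD Q k D) (hk : 4 ≤ k) (hHM : HS D ≤ M)
    {v : ι → F} (hQv : Q v = 0) {b d : Fin t} {p : ι → F} (hp : p ∈ D b) (hQp : Q p = 1)
    (hpR : p ∈ Rad M v hQv) (hd : Q (cmp D d (p + v)) ≠ 0) (hnd : p + v ∉ D d) : G1 M D := by
  have hQp1 : Q p = 1 := hQp
  have hQp : Q p ≠ 0 := by rw [hQp1]; exact one_ne_zero
  have hQd := hd
  have hzd := hnd
  have h11 : (1 : F) + 1 = 0 := by rw [one_add_one_eq_two]; exact h2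
  have hneg : ∀ x : ι → F, -x = x := by
    intro x
    have : x + x = 0 := by rw [← two_smul F x, h2, zero_smul]
    exact neg_eq_of_add_eq_zero_left this
  obtain ⟨hvp, hmem⟩ := hpR
  have hpv : B (Q) p v = 0 := by rw [B_comm]; exact hvp
  set z : ι → F := p + v with hz
  have hQz1 : Q z = 1 := by rw [hz, Q_add, hQp1, hQv, hpv]; ring
  have hQz : Q z ≠ 0 := by rw [hQz1]; exact one_ne_zero
  -- (i)
  have hm1 : reflO (Q) p hQp * reflO (Q) z hQz ∈ M := by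
    rw [← C2.Q2STAR.sieg_eq_refl hQv hvp hQp1 hQp hQz]
    exact hmem
  -- (iii)
  have hconj : ∀ h : OGq Q, h ∈ HS D → ∀ hQhz : Q (mt (Q) h *ᵥ z) ≠ 0,
      reflO (Q) z hQz * reflO (Q) (mt (Q) h *ᵥ z) hQhz ∈ M := by
    intro h hh hQhz
    have hQhp : Q (mt (Q) h *ᵥ p) ≠ 0 := by rw [Q_isom]; exact hQp
    -- `h p` is pure
    obtain ⟨σ, hσ⟩ := (mem_HS.mp hh).1
    have hhp : mt (Q) h *ᵥ p ∈ D (σ b) := by
      rw [← hσ b]
      exact ⟨p, hp, by simp [Matrix.toLin'_apply]⟩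
    have hr : reflO (Q) p hQp * reflO (Q) (mt (Q) h *ᵥ p) hQhp ∈ HS D :=
      REFLMEM.mem hD hp hhp hQp hQhp (by rw [Q_isom])
    have e1 : reflO (Q) (mt (Q) h *ᵥ p) hQhp = h * reflO (Q) p hQp * h⁻¹ :=
      reflO_conj (Q) h p hQp hQhp
    have e2 : reflO (Q) (mt (Q) h *ᵥ z) hQhz = h * reflO (Q) z hQz * h⁻¹ :=
      reflO_conj (Q) h z hQz hQhz
    have hpp : reflO (Q) p hQp * reflO (Q) p hQp = 1 := reflO_mul_self (Q) p hQp
    have hzz : reflO (Q) z hQz * reflO (Q) z hQz = 1 := reflO_mul_self (Q) z hQz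
    have key : reflO (Q) z hQz * reflO (Q) (mt (Q) h *ᵥ z) hQhz =
        (reflO (Q) p hQp * reflO (Q) z hQz)⁻¹ *
          (reflO (Q) p hQp * reflO (Q) (mt (Q) h *ᵥ p) hQhp) *
          (h * (reflO (Q) p hQp * reflO (Q) z hQz) * h⁻¹) := by
      rw [e1, e2, _root_.mul_inv_rev, reflO_inv, reflO_inv]
      have : reflO (Q) z hQz * reflO (Q) p hQp * (reflO (Q) p hQp * (h * reflO (Q) p hQp * h⁻¹)) *
          (h * (reflO (Q) p hQp * reflO (Q) z hQz) * h⁻¹) =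
          reflO (Q) z hQz * (reflO (Q) p hQp * reflO (Q) p hQp) * h *
            (reflO (Q) p hQp * reflO (Q) p hQp) * reflO (Q) z hQz * h⁻¹ := by
        simp only [mul_assoc, inv_mul_cancel_left]
      rw [this, hpp, mul_one, mul_one]
      simp only [mul_assoc]
    rw [key]
    have hhM : h ∈ M := hHM hh
    exact M.mul_mem (M.mul_mem (M.inv_mem hm1) (hHM hr))
      (M.mul_mem (M.mul_mem hhM hm1) (M.inv_mem hhM))
  -- (iv)
  set a' : ι → F := cmp D d z with ha'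
  have ha'd : a' ∈ D d := CMP1.mem hD d z
  obtain ⟨x, hx, hx0, hQx, hxa⟩ := C2.Q2STAR.exists_sing_perp h2 hD ha'd hQd
  obtain ⟨w₀, hw₀, hxw₀, hwa₀⟩ : ∃ w ∈ D d, B (Q) x w = 0 ∧ B (Q) w a' ≠ 0 := by
    by_contra hcon
    push Not at hcon
    obtain ⟨s, hs⟩ := GEOC.perp_perp (D d) (BLK.ndon hD d) hx hx0 hQx ha'd hcon
    apply hQd
    rw [hs, Q_smul, hQx, mul_zero]
  obtain ⟨w, hw, hxw, hwa1⟩ : ∃ w ∈ D d, B (Q) x w = 0 ∧ B (Q) w a' = 1 := by
    refine ⟨(B (Q) w₀ a')⁻¹ • w₀, (D d).smul_mem _ hw₀, B_smul_right_zero (Q) _ hxw₀, ?_⟩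
    rw [Cfsg.Agent.Helper28.OFN.B_smul_left', inv_mul_cancel₀ hwa₀]
  have hxz : B (Q) x z = 0 := by rw [← CMP2.B_left hD hx z]; exact hxa
  have hwz : B (Q) w z = 1 := by rw [← CMP2.B_left hD hw z]; exact hwa1
  have hh := SIEGMEM.mem hD hx hw hQx hxw
  have hhz : mt (Q) (siegO (Q) x w hQx hxw) *ᵥ z = z + x := by
    rw [siegO_mulVec, hxz, hwz]
    simp only [zero_smul, add_zero, one_smul, mul_zero, sub_zero]
    rw [sub_eq_add_neg, hneg]
  have hQzx : Q (z + x) ≠ 0 := by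
    rw [Q_add, hQz1, hQx, B_comm, hxz]; simp
  have hQhz : Q (mt (Q) (siegO (Q) x w hQx hxw) *ᵥ z) ≠ 0 := by rw [hhz]; exact hQzx
  have h5 := hconj _ hh hQhz
  have e3 : reflO (Q) (mt (Q) (siegO (Q) x w hQx hxw) *ᵥ z) hQhz = reflO (Q) (z + x) hQzx :=
    Cfsg.Agent.Helper28.Sg.reflO_congr' hhz hQhz hQzx
  rw [e3, ← C2.Q2STAR.sieg_eq_refl hQx hxz hQz1 hQz hQzx] at h5
  exact ⟨d, x, hQx, hx, hx0, z, ⟨hxz, h5⟩, hzd⟩

end Cfsg.Agent.OC2K
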