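import Mathlib
import Cfsg.Prelude.Def_GeometricClasses
import Cfsg.Agent.Helper3.OC2.Defs

set_option autoImplicit false
set_option linter.unusedSectionVars false
set_option linter.unusedVariables false

/-! # S5692 / S5694, chapter TRANSPORT, piece GLOF (helper12, hedge) -/

namespace Cfsg.Agent.OC2P

open Matrix Cfsg.Geo

variable {F : Type*} [Field F] {t k n : ℕ}

theorem GLOF.exists {κ ι : Type} [Fintype κ] [DecidableEq κ] [Fintype ι] [DecidableEq ι] (e : κ ≃ ι)
    (A : (κ → F) ≃ₗ[F] (ι → F)) :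
    ∃ P : GL ι F, ∀ x : ι → F, (P : Matrix ι ι F) *ᵥ x = A (x ∘ e) := by
  let L : (ι → F) ≃ₗ[F] (ι → F) := (LinearEquiv.funCongrLeft F F e).trans A
  refine ⟨⟨LinearMap.toMatrix' L.toLinearMap, LinearMap.toMatrix' L.symm.toLinearMap, ?_, ?_⟩, ?_⟩
  · rw [← LinearMap.toMatrix'_comp]
    have : L.toLinearMap ∘ₗ L.symm.toLinearMap = LinearMap.id := by
      ext x : 1
      simp
    rw [this, LinearMap.toMatrix'_id]
  · rw [← LinearMap.toMatrix'_comp]
    have : L.symm.toLinearMap ∘ₗ L.toLinearMap = LinearMap.id := by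
      ext x : 1
      simp
    rw [this, LinearMap.toMatrix'_id]
  · intro x
    show LinearMap.toMatrix' L.toLinearMap *ᵥ x = A (x ∘ e)
    rw [LinearMap.toMatrix'_mulVec]
    rfl

end Cfsg.Agent.OC2P
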