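import Mathlib
import Cfsg.Prelude.Def_GeometricClasses
import Cfsg.Agent.Helper3.OC2.Defs

set_option autoImplicit false
set_option linter.unusedSectionVars false
set_option linter.unusedVariables false

/-! # S5692 / S5694, chapter TRANSPORT, piece LINEQ (helper12, hedge) -/

namespace Cfsg.Agent.OC2P

open Matrix Cfsg.Geo

variable {F : Type*} [Field F] {t k n : ℕ}

theorem LINEQ.exists {ι : Type} [Fintype ι] [DecidableEq ι] {D : Fin t → Submodule F (ι → F)}
    (hD : IsMDecomposition k D) {b : Fin t → Fin k → (ι → F)} (hmem : ∀ i j, b i j ∈ D i)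
    (hli : ∀ i, LinearIndependent F (b i)) (hspan : ∀ i, Submodule.span F (Set.range (b i)) = D i) :
    ∃ A : (Fin t × Fin k → F) ≃ₗ[F] (ι → F), ∀ x, A x = ∑ i, ∑ j, x (i, j) • b i j := by
  -- the family indexed by pairs
  let c : Fin t × Fin k → (ι → F) := fun p => b p.1 p.2
  have hsum : ∀ x : Fin t × Fin k → F, Fintype.linearCombination F c x = ∑ i, ∑ j, x (i, j) • b i j := by
    intro x
    rw [Fintype.linearCombination_apply, Fintype.sum_prod_type]
  -- injectivity
  have hinj : Function.Injective (Fintype.linearCombination F c) := by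
    rw [← LinearMap.ker_eq_bot, LinearMap.ker_eq_bot']
    intro x hx
    rw [hsum] at hx
    have hcomp : ∀ i, (∑ j, x (i, j) • b i j) = 0 := by
      have hmemi : ∀ i, (∑ j, x (i, j) • b i j) ∈ D i :=
        fun i => (D i).sum_mem (fun j _ => (D i).smul_mem _ (hmem i j))
      intro i
      have hdis := (iSupIndep_def.mp hD.indep) i
      have h2 : (∑ j, x (i, j) • b i j) ∈ ⨆ (j) (_ : j ≠ i), D j := by
        have h3 : (∑ j, x (i, j) • b i j) = - ∑ i' ∈ Finset.univ.erase i, ∑ j, x (i', j) • b i' j := by
          rw [eq_neg_iff_add_eq_zero]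
          have h4 := Finset.add_sum_erase Finset.univ (fun i' => ∑ j, x (i', j) • b i' j) (Finset.mem_univ i)
          rw [h4]
          exact hx
        rw [h3]
        apply Submodule.neg_mem
        apply Submodule.sum_mem
        intro i' hi'
        have hne : i' ≠ i := Finset.ne_of_mem_erase hi'
        exact Submodule.mem_iSup_of_mem i' (Submodule.mem_iSup_of_mem hne (hmemi i'))
      exact (Submodule.disjoint_def.mp hdis) _ (hmemi i) h2
    funext p
    obtain ⟨i, j⟩ := p
    exact Fintype.linearIndependent_iff.mp (hli i) (fun j => x (i, j)) (hcomp i) j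
  -- surjectivity
  have hsurj : Function.Surjective (Fintype.linearCombination F c) := by
    intro v
    have hv : v ∈ iSup D := by rw [hD.iSup_eq_top]; exact Submodule.mem_top
    have hle : iSup D ≤ LinearMap.range (Fintype.linearCombination F c) := by
      apply iSup_le
      intro i
      rw [← hspan i, Submodule.span_le]
      rintro _ ⟨j, rfl⟩
      refine ⟨Pi.single (i, j) 1, ?_⟩
      rw [Fintype.linearCombination_apply, Finset.sum_eq_single (i, j)]
      · simp [c]
      · intro p _ hp
        simp [Pi.single_apply, hp]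
      · intro h
        exact absurd (Finset.mem_univ _) h
    exact hle hv
  refine ⟨LinearEquiv.ofBijective (Fintype.linearCombination F c) ⟨hinj, hsurj⟩, ?_⟩
  intro x
  exact hsum x

end Cfsg.Agent.OC2P
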