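import Mathlib
import Cfsg.Prelude.Def_GeometricClasses
import Cfsg.Agent.Helper3.OC2.Defs
import Cfsg.Agent.Helper4.OC2TQSUM
import Cfsg.Agent.Helper4.OC2TFRAME
import Cfsg.Agent.Helper12.OC2TGLOF
import Cfsg.Agent.Helper12.OC2TLINEQ

set_option autoImplicit false
set_option linter.unusedSectionVars false
set_option linter.unusedVariables false

/-! # S5692 / S5694, chapter TRANSPORT, piece MODEL (helper12): every `(Q, D)` is a block model -/

namespace Cfsg.Agent.OC2P

open Matrix Cfsg.Geo

variable {F : Type*} [Field F] {t k n : ℕ}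

namespace MODEL

/-- the linear map `y ↦ ∑ j, y j • c j` -/
theorem lc_apply {ι : Type} [Fintype ι] [DecidableEq ι] (c : Fin k → (ι → F)) (y : Fin k → F) :
    Fintype.linearCombination F c y = ∑ j, y j • c j := Fintype.linearCombination_apply F c y

/-- the form `q y = Q (∑ j, y j • c j)` on a nondegenerate subspace with basis `c` is nondegenerate -/
theorem nondeg_of_basis {ι : Type} [Fintype ι] [DecidableEq ι] {Q : (ι → F) → F}
    (hQ : IsNondegenerateQuadraticForm Q) {W : Submodule F (ι → F)}
    (hW : IsNondegenerateOn (QuadraticMap.polar Q) W) (c : Fin k → (ι → F)) (hmem : ∀ j, c j ∈ W)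
    (hli : LinearIndependent F c) (hspan : Submodule.span F (Set.range c) = W) :
    IsNondegenerateQuadraticForm (fun y : Fin k → F => Q (∑ j, y j • c j)) := by
  have hq : ∀ y : Fin k → F, (fun y : Fin k → F => Q (∑ j, y j • c j)) y =
      Q (Fintype.linearCombination F c y) := by
    intro y
    rw [lc_apply]
  have hpol : ∀ y y' : Fin k → F,
      QuadraticMap.polar (fun y : Fin k → F => Q (∑ j, y j • c j)) y y' =
        QuadraticMap.polar Q (Fintype.linearCombination F c y) (Fintype.linearCombination F c y') := by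
    intro y y'
    unfold QuadraticMap.polar
    rw [hq, hq, hq, map_add]
  have hinj : Function.Injective (Fintype.linearCombination F c) := by
    rw [← LinearMap.ker_eq_bot, LinearMap.ker_eq_bot']
    intro y hy
    rw [lc_apply] at hy
    funext j
    exact Fintype.linearIndependent_iff.mp hli y hy j
  have hsurj : ∀ x ∈ W, ∃ y : Fin k → F, Fintype.linearCombination F c y = x := by
    intro x hx
    rw [← hspan] at hx
    obtain ⟨y, hy⟩ := (Submodule.mem_span_range_iff_exists_fun F).mp hx
    exact ⟨y, by rw [lc_apply]; exact hy⟩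
  have hLW : ∀ y : Fin k → F, Fintype.linearCombination F c y ∈ W := by
    intro y
    rw [lc_apply]
    exact W.sum_mem (fun j _ => W.smul_mem _ (hmem j))
  refine ⟨?_, ⟨?_, ?_, ?_, ?_⟩, ?_⟩
  · intro a y
    show Q (∑ j, (a • y) j • c j) = a ^ 2 * Q (∑ j, y j • c j)
    rw [← hQ.smul, Finset.smul_sum]
    congr 1
    apply Finset.sum_congr rfl
    intro j _
    rw [Pi.smul_apply, smul_eq_mul, mul_smul]
  · intro x y v
    rw [hpol, hpol, hpol, map_add, hQ.polar_bilinear.add_left]
  · intro a x v
    rw [hpol, hpol, map_smul, hQ.polar_bilinear.smul_left]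
  · intro v x y
    rw [hpol, hpol, hpol, map_add, hQ.polar_bilinear.add_right]
  · intro a v x
    rw [hpol, hpol, map_smul, hQ.polar_bilinear.smul_right]
  · intro y hy
    have hne : Fintype.linearCombination F c y ≠ 0 := by
      intro h0
      apply hy
      apply hinj
      rw [h0, map_zero]
    obtain ⟨⟨x, hx, hx1⟩, ⟨x', hx', hx2⟩⟩ := hW _ (hLW y) hne
    obtain ⟨z, rfl⟩ := hsurj x hx
    obtain ⟨z', rfl⟩ := hsurj x' hx'
    exact ⟨⟨z, by rw [hpol]; exact hx1⟩, ⟨z', by rw [hpol]; exact hx2⟩⟩

end MODEL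

/-- piece MODEL: every `(Q, D)` is a block model -/
theorem MODEL.exists {Q : (Fin n → F) → F} (hQ : IsNondegenerateQuadraticForm Q)
    {D : Fin t → Submodule F (Fin n → F)} (hD : IsOrthogonalMDecomposition Q k D) :
    ∃ (q : (Fin k → F) → F) (e : Fin t × Fin k ≃ Fin n) (P : GL (Fin n) F),
      IsNondegenerateQuadraticForm q ∧
      (∀ x : Fin n → F, Q ((P : Matrix (Fin n) (Fin n) F) *ᵥ x) = Qblk t q (x ∘ e)) ∧
      (∀ i, D i = ((Dblk F t k i).map (LinearEquiv.funCongrLeft F F e.symm).toLinearMap).map
        (Matrix.toLin' (P : Matrix (Fin n) (Fin n) F))) := by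
  obtain ⟨b, hmem, hli, hspan, hsame⟩ := FRAME.exists hD
  obtain ⟨A, hA⟩ := LINEQ.exists hD.decomp.decomp hmem hli hspan
  have hcard : Fintype.card (Fin t × Fin k) = Fintype.card (Fin n) := by
    have h1 := A.finrank_eq
    rw [Module.finrank_fintype_fun_eq_card, Module.finrank_fintype_fun_eq_card] at h1
    exact h1
  let e : Fin t × Fin k ≃ Fin n := Fintype.equivOfCardEq hcard
  obtain ⟨P, hP⟩ := GLOF.exists e A
  have ht : 0 < t := by
    have := hD.decomp.decomp.two_le
    omega
  let i₀ : Fin t := ⟨0, ht⟩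
  refine ⟨fun y => Q (∑ j, y j • b i₀ j), e, P, ?_, ?_, ?_⟩
  · exact MODEL.nondeg_of_basis hQ (hD.decomp.nondegenerate i₀) (b i₀) (hmem i₀) (hli i₀) (hspan i₀)
  · intro x
    rw [hP, hA]
    have h1 := QSUM.main hQ hD.decomp.orthogonal (fun i => ∑ j, (x ∘ e) (i, j) • b i j)
      (fun i => (D i).sum_mem (fun j _ => (D i).smul_mem _ (hmem i j)))
    rw [h1]
    unfold Qblk
    apply Finset.sum_congr rfl
    intro i _
    exact hsame i i₀ (fun j => (x ∘ e) (i, j))
  · intro i
    have hkey : ∀ z : Fin t × Fin k → F,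
        Matrix.toLin' (P : Matrix (Fin n) (Fin n) F)
          ((LinearEquiv.funCongrLeft F F e.symm).toLinearMap z) = A z := by
      intro z
      rw [Matrix.toLin'_apply, hP]
      congr 1
      funext p
      simp [LinearEquiv.funCongrLeft_apply, LinearMap.funLeft_apply]
    ext v
    constructor
    · intro hv
      rw [← hspan i] at hv
      obtain ⟨y, hy⟩ := (Submodule.mem_span_range_iff_exists_fun F).mp hv
      refine ⟨(LinearEquiv.funCongrLeft F F e.symm).toLinearMap (binj i y),
        ⟨binj i y, binj_mem i y, rfl⟩, ?_⟩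
      rw [hkey, hA, ← hy]
      rw [Finset.sum_eq_single i]
      · apply Finset.sum_congr rfl
        intro j _
        simp [binj]
      · intro i' _ hi'
        apply Finset.sum_eq_zero
        intro j _
        simp [binj, hi']
      · intro h
        exact absurd (Finset.mem_univ i) h
    · rintro ⟨u, ⟨z, hz, rfl⟩, rfl⟩
      rw [hkey, hA]
      rw [Finset.sum_eq_single i]
      · exact (D i).sum_mem (fun j _ => (D i).smul_mem _ (hmem i j))
      · intro i' _ hi'
        apply Finset.sum_eq_zero
        intro j _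
        rw [hz i' j hi', zero_smul]
      · intro h
        exact absurd (Finset.mem_univ i) h

end Cfsg.Agent.OC2P
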