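import Mathlib
import Cfsg.Agent.Helper12.OrthGenH
import Cfsg.Agent.S2614
import Cfsg.Agent.S0292

set_option autoImplicit false
set_option linter.unusedSectionVars false
set_option linter.unusedVariables false
set_option linter.unusedSimpArgs false

/-! Two generators of `Ω_{2m+1}(q)`, `m ≥ 3`, `q` odd. -/

namespace Cfsg.Agent.Helper12.OrthGen

open Matrix Cfsg.Agent.Helper28.Sg Cfsg.Agent.Helper28.Spin Cfsg.Agent.S2614

variable {F : Type*} [Field F] {ι : Type} [Fintype ι] [DecidableEq ι]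
  {Q : QuadraticForm F (ι → F)}

/-- two generators of the group generated by the Siegel transformations, line case -/
theorem exists_two_gen_line [Fintype F] {n : ℕ}
    (hQ : (QuadraticMap.polarBilin Q).Nondegenerate) (h2 : (2 : F) ≠ 0)
    (fr : HFrame Q (n + 2)) {w₁ : ι → F} (hw₁ : fr.InV0 w₁) (hκ : Q w₁ ≠ 0)
    (hline : ∀ w, fr.InV0 w → ∃ t : F, w = t • w₁) :
    ∃ a b : ↥(Cfsg.isometryGroup F ⇑Q), a ∈ S Q ∧ b ∈ S Q ∧ S Q ≤ Subgroup.closure {a, b} := by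
  obtain ⟨ζ, hζ⟩ := IsCyclic.exists_generator (α := Fˣ)
  obtain ⟨gB, hgBS, hgB⟩ := inS_coxM (n + 1) fr hw₁
  obtain ⟨gg, hggS, hgg⟩ := inS_torM_sq (fr.hypPair 0) (hw₁ 0).1 (hw₁ 0).2 hκ ζ.ne_zero
  refine ⟨gg * siegO Q (fr.e (Fin.last (n + 1))) w₁ (fr.Qe _) (hw₁ _).1, gB,
    (S Q).mul_mem hggS (Subgroup.subset_closure ⟨_, _, _, _, rfl⟩), hgBS, ?_⟩
  exact S_le_of_line hQ h2 fr hw₁ hκ hline hζ hgB hgg
    (Subgroup.subset_closure (by simp)) (Subgroup.subset_closure (by simp))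

/-- two generators of `Ω_{2m+1}(q)`, `m ≥ 3` -/
theorem exists_two_gen_odd [Fintype F] (h2 : (2 : F) ≠ 0) (n : ℕ) :
    ∃ a b : ↥(Cfsg.Omega F ⇑(QfOdd (n + 3) F)),
      Subgroup.closure ({a, b} : Set ↥(Cfsg.Omega F ⇑(QfOdd (n + 3) F))) = ⊤ := by
  classical
  have hQ := Cfsg.Agent.S0292.QfOdd_nondeg h2 (F := F) (n + 3)
  -- the three-dimensional frame giving `Ω = S`
  let a3 : Fin 3 → Unit ⊕ (Fin (n + 3) ⊕ Fin (n + 3)) :=
    fun j => Sum.inr (Sum.inl (Fin.castLE (by omega) j))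
  let b3 : Fin 3 → Unit ⊕ (Fin (n + 3) ⊕ Fin (n + 3)) :=
    fun j => Sum.inr (Sum.inr (Fin.castLE (by omega) j))
  have hinj3 : Function.Injective (Sum.elim a3 b3) := by
    intro x y h
    rcases x with x | x <;> rcases y with y | y <;>
      simp only [Sum.elim_inl, Sum.elim_inr, a3, b3, Sum.inl.injEq, Sum.inr.injEq, reduceCtorEq,
        Fin.castLE_inj] at h
    · rw [h]
    · rw [h]
  let fr3 : Frame3 (QfOdd (n + 3) F) := frameOf a3 b3 hinj3 (fun j => hypPair_odd (n + 3) _)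
  have hΩ : Cfsg.Omega F ⇑(QfOdd (n + 3) F) = S (QfOdd (n + 3) F) :=
    Omega_eq_S hQ fr3 (hgen_odd h2 hQ)
  -- the full frame
  let a : Fin (n + 1 + 2) → Unit ⊕ (Fin (n + 3) ⊕ Fin (n + 3)) := fun j => Sum.inr (Sum.inl j)
  let b : Fin (n + 1 + 2) → Unit ⊕ (Fin (n + 3) ⊕ Fin (n + 3)) := fun j => Sum.inr (Sum.inr j)
  have hinj : Function.Injective (Sum.elim a b) := by
    intro x y h
    rcases x with x | x <;> rcases y with y | y <;>
      simp only [Sum.elim_inl, Sum.elim_inr, a, b, Sum.inl.injEq, Sum.inr.injEq, reduceCtorEq] at h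
    · rw [h]
    · rw [h]
  let fr : HFrame (QfOdd (n + 3) F) (n + 1 + 2) :=
    coordFrame a b hinj (fun j => hypPair_odd (n + 3) j)
  let x0 : Unit ⊕ (Fin (n + 3) ⊕ Fin (n + 3)) → F := Pi.single (Sum.inl ()) 1
  have hx0V : fr.InV0 x0 := by
    rw [coordFrame_inV0_iff]
    intro j
    constructor <;> simp [x0, a, b]
  have hQx0 : QfOdd (n + 3) F x0 ≠ 0 := by
    rw [QfOdd_coe]
    simp [Cfsg.quadFormOdd, x0]
  have hline : ∀ w, fr.InV0 w → ∃ t : F, w = t • x0 := by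
    intro w hw
    rw [coordFrame_inV0_iff] at hw
    refine ⟨w (Sum.inl ()), ?_⟩
    funext k
    rcases k with u | j | j
    · simp [x0]
    · simpa [x0, a] using (hw j).1
    · simpa [x0, b] using (hw j).2
  obtain ⟨A, B, hA, hB, hle⟩ := exists_two_gen_line hQ h2 fr hx0V hQx0 hline
  rw [← hΩ] at hA hB hle
  exact ⟨⟨A, hA⟩, ⟨B, hB⟩, closure_pair_subtype _ hA hB hle⟩

end Cfsg.Agent.Helper12.OrthGen
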