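import Mathlib
import Cfsg.Agent.Helper12.PSL2ClassSize
import Cfsg.Agent.S2302
import Cfsg.Agent.S2331

set_option autoImplicit false

namespace Cfsg.Agent.Helper12

variable {F : Type*} [Field F]

local notation "S2" => Matrix.SpecialLinearGroup (Fin 2) F
local notation "M2" => Matrix (Fin 2) (Fin 2) F
local notation "P2" => Matrix.ProjectiveSpecialLinearGroup (Fin 2) F

/-- In characteristic two the class sizes of `PSL₂` are those of `SL₂`. -/
theorem index_centralizer_psl2_even [CharP F 2] (g : S2) :
    (Subgroup.centralizer ({piS F g} : Set P2)).index = Nat.card {x : S2 // IsConj g x} := by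
  rw [index_centralizer_psl2, normA_eq_torusA_of_char_two, torusA_coe_eq_centralizer,
    Cfsg.Agent.Helper24.index_centralizer_eq_card_conj]

theorem four_eq_zero_of_char_two [CharP F 2] : (4 : F) = 0 := by
  have h2 : (2 : F) = 0 := CharTwo.two_eq_zero
  linear_combination 2 * h2

theorem card_conj_one {G : Type*} [Group G] : Nat.card {x : G // IsConj (1 : G) x} = 1 := by
  have : ∀ x : G, IsConj 1 x ↔ x = 1 := fun x => isConj_one_right
  rw [Nat.card_congr (Equiv.subtypeEquivRight this)]
  simp

/-- The class of involutions of `SL₂(q)`, `q` even. -/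
theorem card_conj_of_trace_zero_even [Fintype F] [CharP F 2] (g : S2)
    (hs : ¬ IsScalar2 (g : M2)) (ht : (g : M2).trace = 0) :
    Nat.card {x : S2 // IsConj g x} = Fintype.card F ^ 2 - 1 := by
  have hg2 : orderOf g = 2 := (Cfsg.Agent.S2302.order_two_iff g).2 ⟨hs, ht⟩
  rw [← Cfsg.Agent.S2302.card_order_two]
  refine Nat.card_congr (Equiv.subtypeEquivRight ?_)
  intro x
  constructor
  · intro hx
    obtain ⟨c, hc⟩ := isConj_iff.1 hx
    have h5 : orderOf (c * g * c⁻¹) = orderOf g := MulEquiv.orderOf_eq (MulAut.conj c) g
    rw [hc, hg2] at h5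
    exact h5
  · intro hx
    exact (Cfsg.Agent.S2302.result g x hg2 hx).1

theorem trace_sq_ne_four_even [CharP F 2] {t : F} (ht : t ≠ 0) : t ^ 2 ≠ 4 := by
  rw [four_eq_zero_of_char_two]
  exact pow_ne_zero 2 ht

/-- The class sizes of `SL₂(q)`, `q` even. -/
theorem card_conj_even [Fintype F] [DecidableEq F] [CharP F 2] (g : S2) :
    Nat.card {x : S2 // IsConj g x} = 1 ∨
    Nat.card {x : S2 // IsConj g x} = Fintype.card F * (Fintype.card F - 1) ∨
    Nat.card {x : S2 // IsConj g x} = Fintype.card F ^ 2 - 1 ∨
    Nat.card {x : S2 // IsConj g x} = Fintype.card F * (Fintype.card F + 1) := by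
  have h2 : (2 : F) = 0 := CharTwo.two_eq_zero
  by_cases hs : IsScalar2 (g : M2)
  · left
    rw [Cfsg.Agent.S2331.scalar_eq_one g hs]
    exact card_conj_one
  · by_cases ht : (g : M2).trace = 0
    · right; right; left
      exact card_conj_of_trace_zero_even g hs ht
    · rw [card_conj_of_trace_sq_ne g (trace_sq_ne_four_even ht)]
      by_cases hr : ∃ a : F, a * ((g : M2).trace - a) = 1
      · right; right; right
        obtain ⟨a, ha⟩ := hr
        have hne : a ≠ (g : M2).trace - a := by
          intro h
          apply ht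
          linear_combination -h + a * h2
        rw [rootCount_eq_two ha hne]
        obtain ⟨k, hk⟩ : ∃ k, Fintype.card F = k + 1 :=
          ⟨Fintype.card F - 1, by have := Fintype.card_pos (α := F); omega⟩
        rw [hk, Nat.add_sub_cancel]
        ring
      · right; left
        push Not at hr
        rw [rootCount_eq_zero hr]
        simp

/-- A split trace in characteristic two. -/
theorem exists_split_trace_even [Fintype F] [DecidableEq F] [CharP F 2]
    (h4 : 4 ≤ Fintype.card F) : ∃ t : F, t ≠ 0 ∧ rootCount t = 2 := by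
  have h2 : (2 : F) = 0 := CharTwo.two_eq_zero
  obtain ⟨a, ha0, ha1⟩ : ∃ a : F, a ≠ 0 ∧ a ≠ 1 := by
    by_contra hno
    push Not at hno
    have : Fintype.card F ≤ 2 := by
      have hsub : (Finset.univ : Finset F) ⊆ {0, 1} := by
        intro a _
        by_cases ha : a = 0
        · simp [ha]
        · simp [hno a ha]
      calc Fintype.card F = (Finset.univ : Finset F).card := Finset.card_univ.symm
        _ ≤ ({0, 1} : Finset F).card := Finset.card_le_card hsub
        _ ≤ 2 := Finset.card_le_two
    omega
  have hroot : a * ((a + a⁻¹) - a) = 1 := by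
    field_simp
    ring
  have ht : a + a⁻¹ ≠ 0 := by
    intro h
    apply ha1
    have h1 : a * a = 1 := by
      have : a * (a + a⁻¹) = 0 := by rw [h, mul_zero]
      field_simp at this
      linear_combination this - h2
    have : (a - 1) * (a - 1) = 0 := by linear_combination h1 + (1 - a) * h2
    have := mul_self_eq_zero.1 this
    linear_combination this
  refine ⟨a + a⁻¹, ht, rootCount_eq_two hroot ?_⟩
  intro h
  apply ht
  linear_combination -h + a * h2

end Cfsg.Agent.Helper12
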