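import Mathlib
import Cfsg.Agent.Helper12.PSL2ClassSize
import Cfsg.Agent.S2301

set_option autoImplicit false

namespace Cfsg.Agent.Helper12

variable {F : Type*} [Field F]

local notation "S2" => Matrix.SpecialLinearGroup (Fin 2) F
local notation "M2" => Matrix (Fin 2) (Fin 2) F
local notation "P2" => Matrix.ProjectiveSpecialLinearGroup (Fin 2) F

/-- Central elements have trivial class in `PSL₂`. -/
theorem index_normA_of_scalar (g : S2) (hs : IsScalar2 (g : M2)) : (normA (g : M2)).index = 1 := by
  have : normA (g : M2) = ⊤ := by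
    rw [eq_top_iff]
    intro h _
    rw [mem_normA]
    left
    obtain ⟨a, ha⟩ := (isScalar2_iff _).1 hs
    rw [ha]
    simp
  rw [this, Subgroup.index_top]

/-- Traceless elements of `SL₂` square to `-1`. -/
theorem sq_eq_neg_one_of_trace_zero (g : S2) (ht : (g : M2).trace = 0) : g * g = -1 := by
  apply Subtype.ext
  rw [Matrix.SpecialLinearGroup.coe_mul, cayley2, ht, sl2_neg_one_coe, g.2]
  simp

/-- The class size in `PSL₂(q)` of the image of a traceless element. -/
theorem index_normA_of_trace_zero [Fintype F] (hodd : Odd (Fintype.card F)) (g : S2)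
    (ht : (g : M2).trace = 0) :
    (Fintype.card F % 4 = 1 →
      (normA (g : M2)).index = Fintype.card F * (Fintype.card F + 1) / 2) ∧
    (Fintype.card F % 4 = 3 →
      (normA (g : M2)).index = Fintype.card F * (Fintype.card F - 1) / 2) := by
  classical
  have h2 := two_ne_zero_of_odd_card hodd
  have hsq := sq_eq_neg_one_of_trace_zero g ht
  have hA := isTorusGen_of_sq h2 g hsq
  have hle : Subgroup.zpowers g ≤ torusA (g : M2) := (Subgroup.zpowers_le).2 rfl
  have hne : (1 : M2) ≠ -1 := by
    intro h
    have h00 := congrFun (congrFun h 0) 0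
    simp only [Matrix.neg_apply, Matrix.one_apply_eq] at h00
    apply h2
    linear_combination h00
  have hm : (g : M2) * (g : M2) = -1 := by
    rw [← Matrix.SpecialLinearGroup.coe_mul, hsq, sl2_neg_one_coe]
  have ha1 : (g : M2) ≠ 1 := by
    intro h
    rw [h, Matrix.one_mul] at hm
    exact hne hm
  have ha2 : (g : M2) ≠ -1 := by
    intro h
    rw [h, neg_mul_neg, Matrix.one_mul] at hm
    exact hne hm
  obtain ⟨_, hN⟩ := hA.centralizer_normalizer_of_le (Subgroup.zpowers g) hle
    (Subgroup.mem_zpowers g) ha1 ha2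
  have hcard := card_normalizer_zpowers_of_sq hodd g hsq
  rw [hN] at hcard
  have hidx := (normA (g : M2)).index_mul_card
  rw [Cfsg.Agent.S2301.card_sl2] at hidx
  have hq : 1 < Fintype.card F := Fintype.one_lt_card
  constructor
  · intro h4
    rw [hcard.1 h4] at hidx
    have h5 : (normA (g : M2)).index * 2 * (Fintype.card F - 1) =
        (Fintype.card F * (Fintype.card F + 1)) * (Fintype.card F - 1) := by
      calc (normA (g : M2)).index * 2 * (Fintype.card F - 1)
          = (normA (g : M2)).index * (2 * (Fintype.card F - 1)) := by ring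
        _ = (Fintype.card F + 1) * ((Fintype.card F - 1) * Fintype.card F) := hidx
        _ = _ := by ring
    have h6 := Nat.eq_of_mul_eq_mul_right (by omega) h5
    omega
  · intro h4
    rw [hcard.2 h4] at hidx
    have h5 : (normA (g : M2)).index * 2 * (Fintype.card F + 1) =
        (Fintype.card F * (Fintype.card F - 1)) * (Fintype.card F + 1) := by
      calc (normA (g : M2)).index * 2 * (Fintype.card F + 1)
          = (normA (g : M2)).index * (2 * (Fintype.card F + 1)) := by ring
        _ = (Fintype.card F + 1) * ((Fintype.card F - 1) * Fintype.card F) := hidx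
        _ = _ := by ring
    have h6 := Nat.eq_of_mul_eq_mul_right (by omega) h5
    omega

/-- Regular semisimple elements with non-zero trace: the class size in `PSL₂(q)`. -/
theorem index_normA_of_trace_sq_ne [Fintype F] [DecidableEq F] (h2 : (2 : F) ≠ 0) (g : S2)
    (ht0 : (g : M2).trace ≠ 0) (ht : (g : M2).trace ^ 2 ≠ 4) :
    (normA (g : M2)).index =
      Fintype.card F * (Fintype.card F - 1) + Fintype.card F * rootCount (g : M2).trace := by
  rw [normA_eq_torusA_of_trace_ne h2 g ht0, torusA_coe_eq_centralizer,
    Cfsg.Agent.Helper24.index_centralizer_eq_card_conj, card_conj_of_trace_sq_ne g ht]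

theorem torusA_neg (A : M2) : torusA (-A) = torusA A := by
  ext h
  rw [mem_torusA, mem_torusA, Matrix.mul_neg, Matrix.neg_mul, neg_inj]

/-- Unipotent elements and their negatives: the class size in `PSL₂(q)`. -/
theorem index_normA_of_unip [Fintype F] [DecidableEq F] (h2 : (2 : F) ≠ 0) (g : S2)
    (hs : ¬ IsScalar2 (g : M2)) (ht : (g : M2).trace ^ 2 = 4) :
    (normA (g : M2)).index = (Fintype.card F ^ 2 - 1) / 2 := by
  have ht0 : (g : M2).trace ≠ 0 := by
    intro h
    rw [h] at ht
    have h4 : (4 : F) = 2 * 2 := by norm_num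
    have : (2 : F) * 2 = 0 := by rw [← h4, ← ht]; ring
    rcases mul_eq_zero.1 this with h' | h' <;> exact h2 h'
  have hcard : Nat.card (torusA (g : M2)) = 2 * Fintype.card F := by
    have h1 : ((g : M2).trace - 2) * ((g : M2).trace + 2) = 0 := by linear_combination ht
    rcases mul_eq_zero.1 h1 with h | h
    · rw [torusA_coe_eq_centralizer]
      exact Cfsg.Agent.S2301.card_centralizer_unip h2 g hs (by linear_combination h)
    · have hcoe : ((-g : S2) : M2) = -(g : M2) := Matrix.SpecialLinearGroup.coe_neg g
      have hs' : ¬ IsScalar2 ((-g : S2) : M2) := by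
        rw [hcoe]
        rintro ⟨h01, h10, h00⟩
        apply hs
        simp only [Matrix.neg_apply, neg_eq_zero, neg_inj] at h01 h10 h00
        exact ⟨h01, h10, h00⟩
      have ht' : ((-g : S2) : M2).trace = 2 := by
        rw [hcoe, Matrix.trace_neg]
        linear_combination -h
      rw [← torusA_neg, ← hcoe, torusA_coe_eq_centralizer]
      exact Cfsg.Agent.S2301.card_centralizer_unip h2 (-g) hs' ht'
  rw [normA_eq_torusA_of_trace_ne h2 g ht0]
  have hidx := (torusA (g : M2)).index_mul_card
  rw [Cfsg.Agent.S2301.card_sl2, hcard] at hidx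
  have hq : 1 < Fintype.card F := Fintype.one_lt_card
  have h5 : (torusA (g : M2)).index * 2 * Fintype.card F =
      (Fintype.card F ^ 2 - 1) * Fintype.card F := by
    have e : Fintype.card F ^ 2 - 1 = (Fintype.card F + 1) * (Fintype.card F - 1) := by
      have := Nat.sq_sub_sq (Fintype.card F) 1
      simpa using this
    rw [e]
    calc (torusA (g : M2)).index * 2 * Fintype.card F
        = (torusA (g : M2)).index * (2 * Fintype.card F) := by ring
      _ = (Fintype.card F + 1) * ((Fintype.card F - 1) * Fintype.card F) := hidx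
      _ = _ := by ring
  have h6 := Nat.eq_of_mul_eq_mul_right (by omega) h5
  omega

/-- In odd characteristic a trace with `t² ≠ 4` has no or two roots. -/
theorem rootCount_of_trace_sq_ne [Fintype F] [DecidableEq F] {t : F} (ht : t ^ 2 ≠ 4) :
    rootCount t = 0 ∨ rootCount t = 2 := by
  by_cases hr : ∃ a : F, a * (t - a) = 1
  · right
    obtain ⟨a, ha⟩ := hr
    apply rootCount_eq_two ha
    intro h
    apply ht
    have : t = 2 * a := by linear_combination -h
    rw [this] at ha ⊢
    linear_combination 4 * ha
  · left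
    push Not at hr
    exact rootCount_eq_zero hr

/-- The class sizes of `PSL₂(q)`, `q` odd. -/
theorem index_normA_cases [Fintype F] [DecidableEq F] (hodd : Odd (Fintype.card F)) (g : S2) :
    (normA (g : M2)).index = 1 ∨
    (normA (g : M2)).index = (Fintype.card F ^ 2 - 1) / 2 ∨
    ((Fintype.card F % 4 = 1 →
      (normA (g : M2)).index = Fintype.card F * (Fintype.card F + 1) / 2) ∧
    (Fintype.card F % 4 = 3 →
      (normA (g : M2)).index = Fintype.card F * (Fintype.card F - 1) / 2)) ∨
    (normA (g : M2)).index = Fintype.card F * (Fintype.card F - 1) ∨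
    (normA (g : M2)).index = Fintype.card F * (Fintype.card F + 1) := by
  have h2 := two_ne_zero_of_odd_card hodd
  by_cases hs : IsScalar2 (g : M2)
  · left
    exact index_normA_of_scalar g hs
  · by_cases ht0 : (g : M2).trace = 0
    · right; right; left
      exact index_normA_of_trace_zero hodd g ht0
    · by_cases ht : (g : M2).trace ^ 2 = 4
      · right; left
        exact index_normA_of_unip h2 g hs ht
      · rw [index_normA_of_trace_sq_ne h2 g ht0 ht]
        rcases rootCount_of_trace_sq_ne ht with h | h
        · right; right; right; left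
          rw [h]; simp
        · right; right; right; right
          rw [h]
          obtain ⟨k, hk⟩ : ∃ k, Fintype.card F = k + 1 :=
            ⟨Fintype.card F - 1, by have := Fintype.card_pos (α := F); omega⟩
          rw [hk, Nat.add_sub_cancel]
          ring

/-- A split trace `t ≠ 0`, `t² ≠ 4` when `q ≥ 7`. -/
theorem exists_split_trace_odd [Fintype F] [DecidableEq F] (h2 : (2 : F) ≠ 0)
    (h7 : 7 ≤ Fintype.card F) : ∃ t : F, t ≠ 0 ∧ t ^ 2 ≠ 4 ∧ rootCount t = 2 := by
  obtain ⟨u, hu⟩ := IsCyclic.exists_generator (α := Fˣ)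
  have hord : orderOf u = Fintype.card F - 1 := by
    rw [orderOf_eq_card_of_forall_mem_zpowers hu, Nat.card_eq_fintype_card, Fintype.card_units]
  have hu4 : u ^ 4 ≠ 1 := by
    apply pow_ne_one_of_lt_orderOf (by norm_num)
    rw [hord]; omega
  set a : F := (u : F) with ha
  have ha0 : a ≠ 0 := u.ne_zero
  have ha4 : a ^ 4 ≠ 1 := by
    intro h
    apply hu4
    apply Units.ext
    rw [Units.val_pow_eq_pow_val, Units.val_one]
    exact h
  have hroot : a * ((a + a⁻¹) - a) = 1 := by
    field_simp
    ring
  have ha2 : a ^ 2 ≠ 1 := by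
    intro h
    apply ha4
    have : a ^ 4 = (a ^ 2) ^ 2 := by ring
    rw [this, h, one_pow]
  have hne : a ≠ (a + a⁻¹) - a := by
    intro h
    apply ha2
    have : a = a⁻¹ := by linear_combination h
    have h3 : a * a = 1 := by
      nth_rewrite 2 [this]
      exact mul_inv_cancel₀ ha0
    rw [pow_two, h3]
  refine ⟨a + a⁻¹, ?_, ?_, rootCount_eq_two hroot hne⟩
  · intro h
    apply ha4
    have h3 : a * a = -1 := by
      have : a * (a + a⁻¹) = 0 := by rw [h, mul_zero]
      field_simp at this
      linear_combination this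
    have : a ^ 4 = (a * a) ^ 2 := by ring
    rw [this, h3]; ring
  · intro h
    apply ha2
    have h3 : (a + a⁻¹) ^ 2 - 4 = (a - a⁻¹) ^ 2 := by
      field_simp
      ring
    have h4 : (a - a⁻¹) ^ 2 = 0 := by rw [← h3, h, sub_self]
    have h5 : a - a⁻¹ = 0 := pow_eq_zero_iff (two_ne_zero) |>.1 h4
    have h6 : a * a = 1 := by
      have : a = a⁻¹ := by linear_combination h5
      nth_rewrite 2 [this]
      exact mul_inv_cancel₀ ha0
    rw [pow_two, h6]

/-- A non-split non-zero trace when `q ≥ 7`. -/
theorem exists_nonsplit_trace_odd [Fintype F] [DecidableEq F] (h2 : (2 : F) ≠ 0)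
    (h7 : 7 ≤ Fintype.card F) : ∃ t : F, t ≠ 0 ∧ t ^ 2 ≠ 4 ∧ rootCount t = 0 := by
  have _ := h2
  obtain ⟨t₁, ht₁, _, hr₁⟩ := exists_split_trace_odd h2 h7
  obtain ⟨t₀, ht₀, hr₀⟩ := exists_rootCount_eq_zero ht₁ hr₁
  refine ⟨t₀, ht₀, ?_, hr₀⟩
  intro h
  have hroot : (t₀ / 2) * (t₀ - t₀ / 2) = 1 := by
    field_simp
    linear_combination h
  have := rootCount_pos hroot
  omega

end Cfsg.Agent.Helper12
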