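import Mathlib
import Cfsg.Agent.Helper13.FqExt

set_option autoImplicit false

/-! Singer-type matrices with control of the scalar powers. -/

open Matrix

namespace Cfsg.Agent.Helper12.PSL3Spec

universe u

variable {K : Type u} [Field K] [Fintype K]

/-- A Singer cycle generator `Y ∈ GL_l(q)`: its `k`-th power is scalar iff
`q^l - 1 ∣ k (q - 1)`, and equals the scalar `det(Y)^(-k)` iff `q^l - 1 ∣ k (s + 1)`,
`s = 1 + q + ... + q^(l-1)`. -/
theorem exists_singer (l : ℕ) (hl : 1 ≤ l) :
    ∃ Y : Matrix (Fin l) (Fin l) K, Y.det ≠ 0 ∧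
      (∀ k : ℕ, (∃ c : K, Y ^ k = Matrix.scalar (Fin l) c) ↔
        (Fintype.card K ^ l - 1) ∣ k * (Fintype.card K - 1)) ∧
      (∀ k : ℕ, Y ^ k = Matrix.scalar (Fin l) ((Y.det)⁻¹ ^ k) ↔
        (Fintype.card K ^ l - 1) ∣ k * (∑ i ∈ Finset.range l, Fintype.card K ^ i + 1)) := by
  classical
  obtain ⟨p, hp⟩ := CharP.exists K
  have hpp : Fact p.Prime := ⟨CharP.char_is_prime K p⟩
  have hne : NeZero l := ⟨by omega⟩
  let L := FiniteField.Extension K p l
  have hfr : Module.finrank K L = l := FiniteField.finrank_extension K p l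
  let b : Module.Basis (Fin l) K L := Module.finBasisOfFinrankEq K L hfr
  have hfin : Fintype L := Fintype.ofFinite L
  obtain ⟨ω, hω⟩ : ∃ ω : Lˣ, orderOf ω = Nat.card Lˣ := IsCyclic.exists_ofOrder_eq_natCard
  have hcardL : Nat.card Lˣ = Fintype.card K ^ l - 1 := by
    rw [Nat.card_units, FiniteField.natCard_extension, Nat.card_eq_fintype_card]
  rw [hcardL] at hω
  have hq1 : 1 ≤ Fintype.card K := Fintype.card_pos
  let Lm : L →ₐ[K] Matrix (Fin l) (Fin l) K := Algebra.leftMulMatrix b
  have hinj : Function.Injective Lm := Algebra.leftMulMatrix_injective b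
  have hsc : ∀ c : K, Lm (algebraMap K L c) = Matrix.scalar (Fin l) c := by
    intro c
    rw [AlgHom.commutes]
    rfl
  have hθ0 : (ω : L) ≠ 0 := ω.ne_zero
  have hpow1 : ∀ k : ℕ, (ω : L) ^ k = 1 ↔ (Fintype.card K ^ l - 1) ∣ k := by
    intro k
    rw [← hω, orderOf_dvd_iff_pow_eq_one, ← Units.val_pow_eq_pow_val, Units.val_eq_one]
  have hdet : (Lm (ω : L)).det = Algebra.norm K (ω : L) := (Algebra.norm_eq_matrix_det b _).symm
  have hnorm : algebraMap K L (Algebra.norm K (ω : L)) =
      (ω : L) ^ ∑ i ∈ Finset.range l, Fintype.card K ^ i := by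
    have := FiniteField.algebraMap_norm_eq_pow_sum K L (ω : L)
    rw [hfr, Nat.card_eq_fintype_card] at this
    exact this
  have hν0 : Algebra.norm K (ω : L) ≠ 0 := by
    intro h
    rw [h, map_zero] at hnorm
    exact pow_ne_zero _ hθ0 hnorm.symm
  refine ⟨Lm (ω : L), by rw [hdet]; exact hν0, ?_, ?_⟩
  · intro k
    rw [← map_pow]
    constructor
    · rintro ⟨c, hc⟩
      rw [← hsc] at hc
      have h1 := hinj hc
      rw [← hpow1]
      have h2 : ((ω : L) ^ k) ^ Fintype.card K = (ω : L) ^ k := by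
        rw [h1, ← map_pow, FiniteField.pow_card]
      have h3 : (ω : L) ^ k * (ω : L) ^ (k * (Fintype.card K - 1)) = (ω : L) ^ k := by
        rw [← pow_add]
        have : k + k * (Fintype.card K - 1) = k * Fintype.card K := by
          obtain ⟨t, ht⟩ : ∃ t, Fintype.card K = t + 1 := ⟨Fintype.card K - 1, by omega⟩
          rw [ht]
          simp only [Nat.add_sub_cancel]
          ring
        rw [this, pow_mul, h2]
      have h4 : (ω : L) ^ k ≠ 0 := pow_ne_zero _ hθ0
      exact mul_left_cancel₀ h4 (by rw [h3, mul_one])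
    · intro h
      rw [← hpow1] at h
      have h2 : ((ω : L) ^ k) ^ Fintype.card K = (ω : L) ^ k := by
        have : k * Fintype.card K = k + k * (Fintype.card K - 1) := by
          obtain ⟨t, ht⟩ : ∃ t, Fintype.card K = t + 1 := ⟨Fintype.card K - 1, by omega⟩
          rw [ht]
          simp only [Nat.add_sub_cancel]
          ring
        rw [← pow_mul, this, pow_add, h, mul_one]
      obtain ⟨c, hc⟩ := Cfsg.Agent.Helper13.exists_of_pow_card_eq (algebraMap K L) rfl _ h2
      exact ⟨c, by rw [← hc, hsc]⟩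
  · intro k
    rw [← map_pow, hdet, ← hsc, hinj.eq_iff, ← hpow1]
    have h1 : algebraMap K L ((Algebra.norm K (ω : L))⁻¹ ^ k) *
        (ω : L) ^ (k * ∑ i ∈ Finset.range l, Fintype.card K ^ i) = 1 := by
      rw [mul_comm k, pow_mul, ← hnorm, ← map_pow, ← map_mul, ← mul_pow, inv_mul_cancel₀ hν0,
        one_pow, map_one]
    have h4 : (ω : L) ^ (k * ∑ i ∈ Finset.range l, Fintype.card K ^ i) ≠ 0 := pow_ne_zero _ hθ0
    rw [mul_add, mul_one, pow_add]
    constructor
    · intro h
      rw [h, mul_comm]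
      exact h1
    · intro h
      apply mul_right_cancel₀ h4
      rw [h1, mul_comm]
      exact h

end Cfsg.Agent.Helper12.PSL3Spec
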