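import Mathlib

set_option autoImplicit false

/-! Block elements `diag(A, D)` of `SL_{2+m}` and their orders modulo scalars. -/

open Matrix

namespace Cfsg.Agent.Helper12.PslGraph

universe u

variable {K : Type u} [Field K] {m : ℕ}

/-- the block matrix `diag(A, D)` indexed by `Fin (2 + m)` -/
def blkMat (A : Matrix (Fin 2) (Fin 2) K) (D : Matrix (Fin m) (Fin m) K) :
    Matrix (Fin (2 + m)) (Fin (2 + m)) K :=
  Matrix.reindex finSumFinEquiv finSumFinEquiv (Matrix.fromBlocks A 0 0 D)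

theorem blkMat_pow (A : Matrix (Fin 2) (Fin 2) K) (D : Matrix (Fin m) (Fin m) K) (d : ℕ) :
    blkMat A D ^ d = blkMat (A ^ d) (D ^ d) := by
  have h1 : blkMat A D = Matrix.reindexAlgEquiv K K finSumFinEquiv (Matrix.fromBlocks A 0 0 D) :=
    rfl
  rw [h1, ← map_pow, Matrix.fromBlocks_diagonal_pow]
  rfl

theorem blkMat_det (A : Matrix (Fin 2) (Fin 2) K) (D : Matrix (Fin m) (Fin m) K) :
    (blkMat A D).det = A.det * D.det := by
  rw [blkMat, Matrix.det_reindex_self, Matrix.det_fromBlocks_zero₂₁]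

theorem blkMat_scalar (ζ : K) :
    blkMat (Matrix.scalar (Fin 2) ζ) (Matrix.scalar (Fin m) ζ) = Matrix.scalar (Fin (2 + m)) ζ := by
  have h1 : Matrix.fromBlocks (Matrix.scalar (Fin 2) ζ) 0 0 (Matrix.scalar (Fin m) ζ) =
      Matrix.scalar (Fin 2 ⊕ Fin m) ζ := by
    ext (i | i) (j | j) <;> simp [Matrix.scalar_apply, Matrix.diagonal_apply]
  rw [blkMat, h1]
  ext i j
  simp [Matrix.scalar_apply, Matrix.diagonal_apply]

theorem blkMat_eq_scalar_iff (A : Matrix (Fin 2) (Fin 2) K) (D : Matrix (Fin m) (Fin m) K)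
    (ζ : K) : blkMat A D = Matrix.scalar (Fin (2 + m)) ζ ↔
      A = Matrix.scalar (Fin 2) ζ ∧ D = Matrix.scalar (Fin m) ζ := by
  rw [← blkMat_scalar]
  constructor
  · intro h
    have h1 := (Matrix.reindex finSumFinEquiv finSumFinEquiv).injective h
    have h2 := Matrix.fromBlocks_inj.1 h1
    exact ⟨h2.1, h2.2.2.2⟩
  · rintro ⟨h1, h2⟩
    rw [h1, h2]

/-- the block element of `SL_{2+m}` -/
def blkSL (A : Matrix (Fin 2) (Fin 2) K) (D : Matrix (Fin m) (Fin m) K)
    (h : A.det * D.det = 1) : Matrix.SpecialLinearGroup (Fin (2 + m)) K :=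
  ⟨blkMat A D, by rw [blkMat_det, h]⟩

theorem mk_blkSL_pow_eq_one_iff (A : Matrix (Fin 2) (Fin 2) K) (D : Matrix (Fin m) (Fin m) K)
    (h : A.det * D.det = 1) (d : ℕ) :
    (QuotientGroup.mk (blkSL A D h) : Matrix.ProjectiveSpecialLinearGroup (Fin (2 + m)) K) ^ d = 1
      ↔ ∃ ζ : K, A ^ d = Matrix.scalar (Fin 2) ζ ∧ D ^ d = Matrix.scalar (Fin m) ζ := by
  rw [← QuotientGroup.mk_pow, QuotientGroup.eq_one_iff, Matrix.SpecialLinearGroup.mem_center_iff]
  have hval : ((blkSL A D h ^ d : Matrix.SpecialLinearGroup (Fin (2 + m)) K) :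
      Matrix (Fin (2 + m)) (Fin (2 + m)) K) = blkMat (A ^ d) (D ^ d) := by
    rw [Matrix.SpecialLinearGroup.coe_pow]
    exact blkMat_pow A D d
  constructor
  · rintro ⟨ζ, -, hζ⟩
    refine ⟨ζ, ?_⟩
    rw [← blkMat_eq_scalar_iff, ← hval, hζ]
  · rintro ⟨ζ, h1, h2⟩
    refine ⟨ζ, ?_, ?_⟩
    · have hdet : ((blkSL A D h ^ d : Matrix.SpecialLinearGroup (Fin (2 + m)) K) :
          Matrix (Fin (2 + m)) (Fin (2 + m)) K).det = 1 := (blkSL A D h ^ d).2
      rw [hval, h1, h2, blkMat_scalar, Matrix.scalar_apply, Matrix.det_diagonal, Finset.prod_const,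
        Finset.card_univ] at hdet
      exact hdet
    · rw [hval, h1, h2, blkMat_scalar]

/-- the standard unipotent `2 × 2` matrix -/
def uMat : Matrix (Fin 2) (Fin 2) K := !![1, 1; 0, 1]

theorem uMat_pow (d : ℕ) : (uMat : Matrix (Fin 2) (Fin 2) K) ^ d = !![1, (d : K); 0, 1] := by
  induction d with
  | zero =>
    ext i j
    fin_cases i <;> fin_cases j <;> simp
  | succ d ih =>
    rw [pow_succ, ih, uMat]
    ext i j
    fin_cases i <;> fin_cases j <;> simp [Matrix.mul_apply, Fin.sum_univ_two, add_comm]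

theorem uMat_det : (uMat : Matrix (Fin 2) (Fin 2) K).det = 1 := by
  simp [uMat, Matrix.det_fin_two]

theorem smul_uMat_pow_eq_scalar_iff (a : K) (ha : a ≠ 0) (d : ℕ) (ζ : K) :
    (a • (uMat : Matrix (Fin 2) (Fin 2) K)) ^ d = Matrix.scalar (Fin 2) ζ ↔
      (d : K) = 0 ∧ a ^ d = ζ := by
  rw [smul_pow, uMat_pow]
  constructor
  · intro h
    have h01 := congrFun (congrFun h 0) 1
    have h00 := congrFun (congrFun h 0) 0
    simp [Matrix.scalar_apply] at h01 h00
    exact ⟨h01.resolve_left (fun hcon => ha hcon.1), h00⟩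
  · rintro ⟨h1, h2⟩
    ext i j
    fin_cases i <;> fin_cases j <;> simp [Matrix.scalar_apply, h1, h2]

/-- an element of a group whose powers are trivial exactly at the common multiples of two distinct
primes has order their product -/
theorem orderOf_eq_mul_of_pow_iff {G : Type*} [Group G] (g : G) (r p : ℕ) (hr : r.Prime)
    (hp : p.Prime) (hrp : r ≠ p) (h : ∀ d : ℕ, g ^ d = 1 ↔ p ∣ d ∧ r ∣ d) :
    orderOf g = r * p := by
  apply Nat.dvd_antisymm
  · apply orderOf_dvd_of_pow_eq_one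
    rw [h]
    exact ⟨Dvd.intro_left _ rfl, Dvd.intro _ rfl⟩
  · have := (h (orderOf g)).1 (pow_orderOf_eq_one g)
    exact ((Nat.coprime_primes hr hp).2 hrp).mul_dvd_of_dvd_of_dvd this.2 this.1

end Cfsg.Agent.Helper12.PslGraph
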