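import Mathlib
import Cfsg.Agent.Helper12.PSL3SpecE
import Cfsg.Agent.Helper12.PslGraphD

set_option autoImplicit false

/-! Elements of `PSL_3(q)` of orders `q - 1`, `p (q - 1) / d` and `(q^2 - 1) / d`. -/

open Matrix

namespace Cfsg.Agent.Helper12.PSL3Spec

open Cfsg.Agent.Helper12.PslGraph

universe u

theorem orderOf_eq_of_pow_iff {G : Type*} [Group G] (g : G) (N : ℕ)
    (h : ∀ k : ℕ, g ^ k = 1 ↔ N ∣ k) : orderOf g = N := by
  apply Nat.dvd_antisymm
  · apply orderOf_dvd_of_pow_eq_one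
    rw [h]
  · rw [← h]
    exact pow_orderOf_eq_one g

theorem dvd_mul_iff_div_gcd (a b k : ℕ) (ha : 0 < a) : a ∣ k * b ↔ a / Nat.gcd a b ∣ k := by
  have hg : 0 < Nat.gcd a b := Nat.gcd_pos_of_pos_left b ha
  have hcop : Nat.Coprime (a / Nat.gcd a b) (b / Nat.gcd a b) := Nat.coprime_div_gcd_div_gcd hg
  obtain ⟨g, hgdef⟩ : ∃ g, g = Nat.gcd a b := ⟨_, rfl⟩
  rw [← hgdef] at hg hcop ⊢
  obtain ⟨a', ha'⟩ : g ∣ a := hgdef ▸ Nat.gcd_dvd_left a b
  obtain ⟨b', hb'⟩ : g ∣ b := hgdef ▸ Nat.gcd_dvd_right a b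
  have e1 : a / g = a' := by
    rw [ha']
    exact Nat.mul_div_cancel_left _ hg
  have e2 : b / g = b' := by
    rw [hb']
    exact Nat.mul_div_cancel_left _ hg
  rw [e1, e2] at hcop
  rw [e1, ha', hb', show k * (g * b') = g * (k * b') by ring, Nat.mul_dvd_mul_iff_left hg]
  exact hcop.dvd_mul_right

theorem gcd_sq_sub_one (q : ℕ) (hq : 1 ≤ q) : Nat.gcd (q ^ 2 - 1) (q + 2) = Nat.gcd 3 (q - 1) := by
  have h6 : Nat.gcd 3 (q + 2) = Nat.gcd 3 (q - 1) := by
    have : q + 2 = (q - 1) + 3 := by omega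
    rw [this]
    exact Nat.gcd_add_self_right 3 (q - 1)
  rcases Nat.lt_or_ge q 2 with h | h
  · have : q = 1 := by omega
    subst this
    norm_num
  · obtain ⟨n, rfl⟩ : ∃ n, q = n + 2 := ⟨q - 2, by omega⟩
    have e1 : (n + 2) ^ 2 - 1 = 3 + n * (n + 2 + 2) := by
      have : (n + 2) ^ 2 = n * (n + 2 + 2) + 4 := by ring
      omega
    rw [e1, Nat.gcd_add_mul_right_left, h6]

theorem gcd_sq_add (q : ℕ) (hq : 1 ≤ q) :
    Nat.gcd (q ^ 2 + q + 1) (q - 1) = Nat.gcd 3 (q - 1) := by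
  obtain ⟨n, rfl⟩ : ∃ n, q = n + 1 := ⟨q - 1, by omega⟩
  rw [Nat.add_sub_cancel]
  have e1 : (n + 1) ^ 2 + (n + 1) + 1 = 3 + (n + 3) * n := by ring
  rw [e1, Nat.gcd_add_mul_right_left]

variable {K : Type u} [Field K] [Fintype K]

/-- An element of order `q - 1`. -/
theorem exists_orderOf_card_sub_one :
    ∃ g : Matrix.ProjectiveSpecialLinearGroup (Fin 3) K, orderOf g = Fintype.card K - 1 := by
  classical
  obtain ⟨ζ, hζ⟩ : ∃ ζ : Kˣ, orderOf ζ = Nat.card Kˣ := IsCyclic.exists_ofOrder_eq_natCard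
  rw [Nat.card_units, Nat.card_eq_fintype_card] at hζ
  have hdet : (Matrix.diagonal ![(ζ : K), ((ζ⁻¹ : Kˣ) : K)]).det *
      (1 : Matrix (Fin 1) (Fin 1) K).det = 1 := by
    rw [Matrix.det_diagonal, Matrix.det_one, Fin.prod_univ_two]
    simp
  refine ⟨(QuotientGroup.mk (blkSL _ _ hdet) :
    Matrix.ProjectiveSpecialLinearGroup (Fin (2 + 1)) K), ?_⟩
  apply orderOf_eq_of_pow_iff
  intro k
  rw [mk_blkSL_pow_eq_one_iff, ← hζ, orderOf_dvd_iff_pow_eq_one]
  constructor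
  · rintro ⟨c, h1, h2⟩
    rw [one_pow] at h2
    have hc : c = 1 := by
      have := congrFun (congrFun h2 0) 0
      simp [Matrix.scalar_apply] at this
      exact this.symm
    rw [Matrix.diagonal_pow, hc] at h1
    have h00 := congrFun (congrFun h1 0) 0
    simp [Matrix.scalar_apply] at h00
    apply Units.ext
    rw [Units.val_pow_eq_pow_val, h00, Units.val_one]
  · intro h
    refine ⟨1, ?_, ?_⟩
    · rw [Matrix.diagonal_pow]
      have h1 : (ζ : K) ^ k = 1 := by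
        rw [← Units.val_pow_eq_pow_val, h, Units.val_one]
      have h2 : ((ζ⁻¹ : Kˣ) : K) ^ k = 1 := by
        rw [← Units.val_pow_eq_pow_val, inv_pow, h, inv_one, Units.val_one]
      ext i j
      fin_cases i <;> fin_cases j <;> simp [Matrix.scalar_apply, h1, h2]
    · rw [one_pow]
      simp

omit [Fintype K] in
theorem scalar_one_pow (a : K) (k : ℕ) :
    (Matrix.scalar (Fin 1) a) ^ k = Matrix.scalar (Fin 1) (a ^ k) := by
  rw [← map_pow]

omit [Fintype K] in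
theorem scalar_one_inj {a b : K} (h : Matrix.scalar (Fin 1) a = Matrix.scalar (Fin 1) b) :
    a = b := by
  have := congrFun (congrFun h 0) 0
  simpa [Matrix.scalar_apply] using this

/-- An element of order `p (q - 1) / d`. -/
theorem exists_orderOf_mixed (p : ℕ) [Fact p.Prime] [CharP K p] :
    ∃ g : Matrix.ProjectiveSpecialLinearGroup (Fin 3) K,
      orderOf g = p * (Fintype.card K - 1) / Nat.gcd 3 (Fintype.card K - 1) := by
  classical
  have hp : p.Prime := Fact.out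
  obtain ⟨ζ, hζ⟩ : ∃ ζ : Kˣ, orderOf ζ = Nat.card Kˣ := IsCyclic.exists_ofOrder_eq_natCard
  rw [Nat.card_units, Nat.card_eq_fintype_card] at hζ
  have hq2 : 2 ≤ Fintype.card K := Fintype.one_lt_card
  have hζ0 : (ζ : K) ≠ 0 := ζ.ne_zero
  have hdet : ((ζ : K) • (uMat : Matrix (Fin 2) (Fin 2) K)).det *
      (Matrix.scalar (Fin 1) (((ζ : K)⁻¹) ^ 2)).det = 1 := by
    rw [Matrix.det_smul, uMat_det, Matrix.scalar_apply, Matrix.det_diagonal, Fintype.card_fin,
      Fin.prod_univ_one]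
    field_simp
  refine ⟨(QuotientGroup.mk (blkSL _ _ hdet) :
    Matrix.ProjectiveSpecialLinearGroup (Fin (2 + 1)) K), ?_⟩
  apply orderOf_eq_of_pow_iff
  intro k
  rw [mk_blkSL_pow_eq_one_iff, Nat.mul_div_assoc _ (Nat.gcd_dvd_right _ _)]
  have hcopq : Nat.Coprime p (Fintype.card K - 1) := by
    rw [Nat.Prime.coprime_iff_not_dvd hp]
    intro h
    have h2 : p ∣ Fintype.card K := by
      obtain ⟨f, -, hq⟩ := FiniteField.card K p
      rw [hq]
      exact dvd_pow_self p f.pos.ne'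
    have h3 : p ∣ 1 := by
      have := Nat.dvd_sub h2 h
      rwa [Nat.sub_sub_self (by omega)] at this
    exact hp.one_lt.ne' (Nat.dvd_one.1 h3)
  have hcop : Nat.Coprime p ((Fintype.card K - 1) / Nat.gcd 3 (Fintype.card K - 1)) :=
    Nat.Coprime.coprime_dvd_right (Nat.div_dvd_of_dvd (Nat.gcd_dvd_right _ _)) hcopq
  have key : (ζ : K) ^ (3 * k) = 1 ↔
      (Fintype.card K - 1) / Nat.gcd 3 (Fintype.card K - 1) ∣ k := by
    rw [← Units.val_pow_eq_pow_val, Units.val_eq_one, ← orderOf_dvd_iff_pow_eq_one, hζ,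
      mul_comm 3 k, dvd_mul_iff_div_gcd _ _ _ (by omega), Nat.gcd_comm]
  constructor
  · rintro ⟨c, h1, h2⟩
    rw [smul_uMat_pow_eq_scalar_iff _ hζ0] at h1
    rw [scalar_one_pow] at h2
    have h3 := scalar_one_inj h2
    have h4 : (ζ : K) ^ (3 * k) = 1 := by
      have e : (ζ : K) ^ (3 * k) = (ζ : K) ^ k * ((ζ : K) ^ 2) ^ k := by ring
      rw [e, h1.2, ← h3, ← mul_pow, ← mul_pow, inv_mul_cancel₀ hζ0, one_pow, one_pow]
    apply hcop.mul_dvd_of_dvd_of_dvd
    · exact (CharP.cast_eq_zero_iff K p k).1 h1.1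
    · exact key.1 h4
  · intro h
    have h1 : p ∣ k := (Dvd.intro _ rfl).trans h
    have h2 := key.2 ((Dvd.intro_left _ rfl).trans h)
    refine ⟨(ζ : K) ^ k, ?_, ?_⟩
    · rw [smul_uMat_pow_eq_scalar_iff _ hζ0]
      exact ⟨(CharP.cast_eq_zero_iff K p k).2 h1, rfl⟩
    · rw [scalar_one_pow]
      congr 1
      have e : (ζ : K) ^ (3 * k) = (ζ : K) ^ k * ((ζ : K) ^ 2) ^ k := by ring
      rw [e] at h2
      have h5 : (((ζ : K)⁻¹) ^ 2) ^ k * ((ζ : K) ^ 2) ^ k = 1 := by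
        rw [← mul_pow, ← mul_pow, inv_mul_cancel₀ hζ0, one_pow, one_pow]
      have hne : ((ζ : K) ^ 2) ^ k ≠ 0 := pow_ne_zero _ (pow_ne_zero _ hζ0)
      apply mul_right_cancel₀ hne
      rw [h5, h2]

/-- An element of order `(q^2 - 1) / d`. -/
theorem exists_orderOf_quadratic :
    ∃ g : Matrix.ProjectiveSpecialLinearGroup (Fin 3) K,
      orderOf g = (Fintype.card K ^ 2 - 1) / Nat.gcd 3 (Fintype.card K - 1) := by
  classical
  have hq2 : 2 ≤ Fintype.card K := Fintype.one_lt_card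
  obtain ⟨Y, hY0, -, hY2⟩ := exists_singer (K := K) 2 (by norm_num)
  have hdet : Y.det * (Matrix.scalar (Fin 1) (Y.det)⁻¹).det = 1 := by
    rw [Matrix.scalar_apply, Matrix.det_diagonal, Fin.prod_univ_one,
      mul_inv_cancel₀ hY0]
  refine ⟨(QuotientGroup.mk (blkSL _ _ hdet) :
    Matrix.ProjectiveSpecialLinearGroup (Fin (2 + 1)) K), ?_⟩
  apply orderOf_eq_of_pow_iff
  intro k
  rw [mk_blkSL_pow_eq_one_iff]
  have hsum : ∑ i ∈ Finset.range 2, Fintype.card K ^ i + 1 = Fintype.card K + 2 := by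
    rw [Finset.sum_range_succ, Finset.sum_range_one]
    ring
  have hpos : 0 < Fintype.card K ^ 2 - 1 := by
    have : 2 ^ 2 ≤ Fintype.card K ^ 2 := Nat.pow_le_pow_left hq2 2
    omega
  have key := hY2 k
  rw [hsum, dvd_mul_iff_div_gcd _ _ _ hpos, gcd_sq_sub_one _ (by omega)] at key
  rw [← key]
  constructor
  · rintro ⟨c, h1, h2⟩
    rw [scalar_one_pow] at h2
    rw [h1, scalar_one_inj h2]
  · intro h
    exact ⟨_, h, scalar_one_pow _ _⟩

end Cfsg.Agent.Helper12.PSL3Spec
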