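import Mathlib
import Cfsg.Agent.Helper12.PSL3SpecF

set_option autoImplicit false

/-! Elements of `PSL_3(q)` of orders `(q^2 + q + 1) / d` and (for `p = 2`) `4`. -/

open Matrix

namespace Cfsg.Agent.Helper12.PSL3Spec

universe u

variable {K : Type u} [Field K]

/-- The image of `g ∈ SL_n` in `PSL_n` satisfies `ḡ^k = 1` iff `g^k` is scalar. -/
theorem mk_pow_eq_one_iff {n : ℕ} (g : Matrix.SpecialLinearGroup (Fin n) K) (k : ℕ) :
    (QuotientGroup.mk g : Matrix.ProjectiveSpecialLinearGroup (Fin n) K) ^ k = 1 ↔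
      ∃ c : K, (g : Matrix (Fin n) (Fin n) K) ^ k = Matrix.scalar (Fin n) c := by
  rw [← QuotientGroup.mk_pow, QuotientGroup.eq_one_iff, Matrix.SpecialLinearGroup.mem_center_iff]
  constructor
  · rintro ⟨c, -, hc⟩
    exact ⟨c, by rw [hc, Matrix.SpecialLinearGroup.coe_pow]⟩
  · rintro ⟨c, hc⟩
    have h2 : ((g ^ k : Matrix.SpecialLinearGroup (Fin n) K) : Matrix (Fin n) (Fin n) K) =
        Matrix.scalar (Fin n) c := by
      rw [Matrix.SpecialLinearGroup.coe_pow, hc]
    refine ⟨c, ?_, h2.symm⟩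
    have h3 := (g ^ k).2
    rw [h2, Matrix.scalar_apply, Matrix.det_diagonal, Finset.prod_const, Finset.card_univ] at h3
    exact h3

variable [Fintype K]

/-- An element of order `(q^2 + q + 1) / d`. -/
theorem exists_orderOf_cubic :
    ∃ g : Matrix.ProjectiveSpecialLinearGroup (Fin 3) K,
      orderOf g = (Fintype.card K ^ 2 + Fintype.card K + 1) / Nat.gcd 3 (Fintype.card K - 1) := by
  classical
  have hq2 : 2 ≤ Fintype.card K := Fintype.one_lt_card
  obtain ⟨Y, hY0, hY1, -⟩ := exists_singer (K := K) 3 (by norm_num)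
  have hdet : (Y ^ (Fintype.card K - 1)).det = 1 := by
    rw [Matrix.det_pow]
    exact FiniteField.pow_card_sub_one_eq_one _ hY0
  obtain ⟨g, hg⟩ : ∃ g : Matrix.SpecialLinearGroup (Fin 3) K,
      (g : Matrix (Fin 3) (Fin 3) K) = Y ^ (Fintype.card K - 1) := ⟨⟨_, hdet⟩, rfl⟩
  refine ⟨(QuotientGroup.mk g : Matrix.ProjectiveSpecialLinearGroup (Fin 3) K), ?_⟩
  apply orderOf_eq_of_pow_iff
  intro k
  rw [mk_pow_eq_one_iff, hg]
  rw [← pow_mul, hY1]
  have hfac : Fintype.card K ^ 3 - 1 =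
      (Fintype.card K - 1) * (Fintype.card K ^ 2 + Fintype.card K + 1) := by
    obtain ⟨n, hn⟩ : ∃ n, Fintype.card K = n + 1 := ⟨Fintype.card K - 1, by omega⟩
    rw [hn, Nat.add_sub_cancel]
    have : (n + 1) ^ 3 = n * ((n + 1) ^ 2 + (n + 1) + 1) + 1 := by ring
    omega
  have hpos : 0 < Fintype.card K - 1 := by omega
  rw [hfac, mul_assoc, Nat.mul_dvd_mul_iff_left hpos,
    dvd_mul_iff_div_gcd _ _ _ (by positivity), gcd_sq_add _ (by omega)]

/-- The regular unipotent element. -/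
def regU : Matrix (Fin 3) (Fin 3) K := !![1, 1, 0; 0, 1, 1; 0, 0, 1]

omit [Fintype K] in
theorem regU_det : (regU : Matrix (Fin 3) (Fin 3) K).det = 1 := by
  simp [regU, Matrix.det_fin_three]

/-- An element of order `4` in characteristic `2`. -/
theorem exists_orderOf_four [CharP K 2] :
    ∃ g : Matrix.ProjectiveSpecialLinearGroup (Fin 3) K, orderOf g = 4 := by
  have h2 : (2 : K) = 0 := by
    have := CharP.cast_eq_zero K 2
    exact_mod_cast this
  have hsq : (regU : Matrix (Fin 3) (Fin 3) K) ^ 2 = !![1, 0, 1; 0, 1, 0; 0, 0, 1] := by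
    rw [pow_two, regU]
    ext i j
    fin_cases i <;> fin_cases j <;>
      simp [Matrix.mul_apply, Fin.sum_univ_three] <;> linear_combination h2
  have h4 : (regU : Matrix (Fin 3) (Fin 3) K) ^ 4 = 1 := by
    have e : (regU : Matrix (Fin 3) (Fin 3) K) ^ 4 = (regU ^ 2) ^ 2 := by
      rw [← pow_mul]
    rw [e, hsq, pow_two]
    ext i j
    fin_cases i <;> fin_cases j <;>
      simp [Matrix.mul_apply, Fin.sum_univ_three] <;> linear_combination h2
  obtain ⟨g, hg⟩ : ∃ g : Matrix.SpecialLinearGroup (Fin 3) K,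
      (g : Matrix (Fin 3) (Fin 3) K) = regU := ⟨⟨_, regU_det⟩, rfl⟩
  refine ⟨(QuotientGroup.mk g : Matrix.ProjectiveSpecialLinearGroup (Fin 3) K), ?_⟩
  have e4 : (4 : ℕ) = 2 ^ (1 + 1) := by norm_num
  rw [e4]
  apply orderOf_eq_prime_pow
  · rw [pow_one, mk_pow_eq_one_iff, hg]
    rintro ⟨c, hc⟩
    rw [hsq] at hc
    have h02 := congrFun (congrFun hc 0) 2
    simp [Matrix.scalar_apply] at h02
  · rw [← e4, mk_pow_eq_one_iff, hg]
    refine ⟨1, ?_⟩
    rw [h4, map_one]

end Cfsg.Agent.Helper12.PSL3Spec
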