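import Mathlib
import Cfsg.Agent.Helper12.PSU3SpecB
import Cfsg.Agent.Helper28.Herm
import Cfsg.Agent.Helper28.GU

set_option autoImplicit false

/-! The spectrum of `PSU_3(q)`: the split case and the upper bound. -/

open Polynomial

namespace Cfsg.Agent.Helper12.PSU3Spec

universe u

variable {F : Type u} [Field F]

/-- If the characteristic polynomial of `g ∈ SU_n` divides `X^M - c`, the image of `g` in `PSU_n`
has order dividing `M`. -/
theorem orderOf_mk_dvd_psu {n q : ℕ} (g : Cfsg.SU n F q) (M : ℕ) (c : F)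
    (h : ((g : Matrix.SpecialLinearGroup (Fin n) F) : Matrix (Fin n) (Fin n) F).charpoly ∣
      (X ^ M - C c : F[X])) :
    orderOf (QuotientGroup.mk g : Cfsg.PSU n F q) ∣ M := by
  apply orderOf_dvd_of_pow_eq_one
  rw [← QuotientGroup.mk_pow, QuotientGroup.eq_one_iff, Subgroup.mem_center_iff]
  have h1 : aeval ((g : Matrix.SpecialLinearGroup (Fin n) F) : Matrix (Fin n) (Fin n) F)
      (X ^ M - C c : F[X]) = 0 := by
    obtain ⟨R, hR⟩ := h
    rw [hR, map_mul, Matrix.aeval_self_charpoly, zero_mul]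
  rw [map_sub, map_pow, aeval_X, aeval_C, sub_eq_zero] at h1
  have h2 : (((g ^ M : Cfsg.SU n F q) : Matrix.SpecialLinearGroup (Fin n) F) :
      Matrix (Fin n) (Fin n) F) = Matrix.scalar (Fin n) c := by
    rw [Subgroup.coe_pow, Matrix.SpecialLinearGroup.coe_pow, h1]
    rfl
  intro k
  apply Subtype.ext
  apply Subtype.ext
  rw [Subgroup.coe_mul, Subgroup.coe_mul, Matrix.SpecialLinearGroup.coe_mul,
    Matrix.SpecialLinearGroup.coe_mul, h2]
  exact ((Matrix.scalar_commute c (fun r => Commute.all c r)) _).symm.eq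

variable [Fintype F]

/-- A double root with the two roots swapped by `r ↦ r^(-q)` is a triple root. -/
theorem double_swap_eq (q : ℕ) (hF : Fintype.card F = q ^ 2) (u v : F) (huv : u * u * v = 1)
    (h1 : (u ^ q)⁻¹ = v) : u = v := by
  have hu0 : u ≠ 0 := by
    rintro rfl
    rw [zero_mul, zero_mul] at huv
    exact zero_ne_one huv
  have hv : v = (u ^ 2)⁻¹ := by
    apply eq_inv_of_mul_eq_one_right
    rw [← huv]
    ring
  have h2 : u ^ q = u ^ 2 := by
    rw [← inv_inj, h1, hv]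
  have h3 : u ^ (q ^ 2) = u ^ 4 := by
    rw [pow_two, pow_mul, h2, ← pow_mul, mul_comm, pow_mul, h2, ← pow_mul]
  rw [← hF, FiniteField.pow_card] at h3
  have h4 : u ^ 3 = 1 := by
    apply mul_left_cancel₀ hu0
    rw [mul_one, ← pow_succ']
    exact h3.symm
  rw [hv]
  apply eq_inv_of_mul_eq_one_right
  rw [← h4]
  ring

omit [Fintype F] in
/-- The double root case. -/
theorem double_root_pow_general (a c : F) (N : ℕ) (ha : a ^ N = 1) (hac : a * a * c = 1) :
    c ^ (N / Nat.gcd 3 N) = a ^ (N / Nat.gcd 3 N) := by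
  obtain ⟨m, hm⟩ : ∃ m, m = N / Nat.gcd 3 N := ⟨_, rfl⟩
  rw [← hm]
  have ha0 : a ≠ 0 := by
    rintro rfl
    rw [zero_mul, zero_mul] at hac
    exact zero_ne_one hac
  have hdm : Nat.gcd 3 N * m = N := by
    rw [hm]
    exact Nat.mul_div_cancel' (Nat.gcd_dvd_right _ _)
  have h3 : a ^ (3 * m) = 1 := by
    obtain ⟨e, he⟩ := Nat.gcd_dvd_left 3 N
    have : 3 * m = e * N := by
      conv_rhs => rw [← hdm]
      conv_lhs => rw [he]
      ring
    rw [this, mul_comm, pow_mul, ha, one_pow]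
  have h4 : c ^ m * a ^ (2 * m) = 1 := by
    rw [pow_mul, ← mul_pow]
    have : c * a ^ 2 = 1 := by rw [← hac]; ring
    rw [this, one_pow]
  have h5 : a ^ m * a ^ (2 * m) = 1 := by
    rw [← pow_add]
    have : m + 2 * m = 3 * m := by ring
    rw [this, h3]
  have hne : a ^ (2 * m) ≠ 0 := pow_ne_zero _ ha0
  apply mul_right_cancel₀ hne
  rw [h4, h5]

/-- The mixed case: roots `x, y, z` with `x y z = 1` and `z = y^(-q) ≠ y`. -/
theorem mixed_roots (q : ℕ) (hq1 : 1 ≤ q) (hF : Fintype.card F = q ^ 2) (x y z : F)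
    (hxyz : x * y * z = 1) (hyz : (y ^ q)⁻¹ = z) (hne : y ≠ z)
    (hx : (x ^ q)⁻¹ = x ∨ (x ^ q)⁻¹ = y ∨ (x ^ q)⁻¹ = z) :
    x ≠ y ∧ x ≠ z ∧
      x ^ ((q ^ 2 - 1) / Nat.gcd 3 (q + 1)) = y ^ ((q ^ 2 - 1) / Nat.gcd 3 (q + 1)) ∧
      z ^ ((q ^ 2 - 1) / Nat.gcd 3 (q + 1)) = y ^ ((q ^ 2 - 1) / Nat.gcd 3 (q + 1)) := by
  have hinv : ∀ r : F, (((r ^ q)⁻¹) ^ q)⁻¹ = r := by
    intro r
    rw [inv_pow, inv_inv, ← pow_mul, ← pow_two, ← hF, FiniteField.pow_card]
  have hzy : (z ^ q)⁻¹ = y := by rw [← hyz, hinv]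
  have hx0 : x ≠ 0 := by
    rintro rfl
    rw [zero_mul, zero_mul] at hxyz
    exact zero_ne_one hxyz
  have hy0 : y ≠ 0 := by
    rintro rfl
    rw [mul_zero, zero_mul] at hxyz
    exact zero_ne_one hxyz
  have hz0 : z ≠ 0 := by
    rintro rfl
    rw [mul_zero] at hxyz
    exact zero_ne_one hxyz
  have hxx : (x ^ q)⁻¹ = x := by
    rcases hx with h | h | h
    · exact h
    · exfalso
      have hxz : x = z := by rw [← hinv x, h, hyz]
      apply hne
      have := double_swap_eq q hF z y (by rw [← hxyz, hxz]; ring) hzy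
      exact this.symm
    · exfalso
      have hxy : x = y := by rw [← hinv x, h, hzy]
      apply hne
      exact double_swap_eq q hF y z (by rw [← hxyz, hxy]) hyz
  have hxy : x ≠ y := by
    intro h
    apply hne
    rw [← hyz, ← h, hxx, h]
  have hxz : x ≠ z := by
    intro h
    apply hne
    rw [← hzy, ← h, hxx, h]
  refine ⟨hxy, hxz, ?_⟩
  obtain ⟨m, hm⟩ : ∃ m, m = (q ^ 2 - 1) / Nat.gcd 3 (q + 1) := ⟨_, rfl⟩
  rw [← hm]
  have hq1' : q + 1 ∣ q ^ 2 - 1 := by
    have := Nat.sub_dvd_pow_sub_pow (q ^ 2) 1 1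
    have h2 : q ^ 2 - 1 = (q + 1) * (q - 1) := by
      obtain ⟨t, ht⟩ : ∃ t, q = t + 1 := ⟨q - 1, by omega⟩
      rw [ht]
      simp only [Nat.add_sub_cancel]
      have : (t + 1) ^ 2 = (t + 1 + 1) * t + 1 := by ring
      rw [this]
      simp
    rw [h2]
    exact dvd_mul_right _ _
  have hdq : Nat.gcd 3 (q + 1) ∣ q ^ 2 - 1 := (Nat.gcd_dvd_right _ _).trans hq1'
  have hdm : Nat.gcd 3 (q + 1) * m = q ^ 2 - 1 := by
    rw [hm]
    exact Nat.mul_div_cancel' hdq
  have hyq : y ^ (q ^ 2 - 1) = 1 := by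
    rw [← hF]
    exact FiniteField.pow_card_sub_one_eq_one y hy0
  have h3m : y ^ (3 * m) = 1 := by
    obtain ⟨e, he⟩ := Nat.gcd_dvd_left 3 (q + 1)
    have : 3 * m = e * (q ^ 2 - 1) := by
      conv_rhs => rw [← hdm]
      conv_lhs => rw [he]
      ring
    rw [this, mul_comm, pow_mul, hyq, one_pow]
  have hq1m : y ^ ((q + 1) * m) = 1 := by
    obtain ⟨e, he⟩ := Nat.gcd_dvd_right 3 (q + 1)
    have : (q + 1) * m = e * (q ^ 2 - 1) := by
      conv_rhs => rw [← hdm]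
      conv_lhs => rw [he]
      ring
    rw [this, mul_comm, pow_mul, hyq, one_pow]
  have hzm : z ^ m = y ^ m := by
    have h1 : z ^ m * y ^ (q * m) = 1 := by
      rw [pow_mul, ← mul_pow, ← hyz, inv_mul_cancel₀ (pow_ne_zero _ hy0), one_pow]
    have h2 : y ^ m * y ^ (q * m) = 1 := by
      rw [← pow_add, ← hq1m]
      congr 1
      ring
    apply mul_right_cancel₀ (pow_ne_zero (q * m) hy0)
    rw [h1, h2]
  refine ⟨?_, hzm⟩
  have h1 : x ^ m * (y ^ m * y ^ m) = 1 := by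
    have h0 : x ^ m * (z ^ m * y ^ m) = 1 := by
      rw [← mul_pow, ← mul_pow]
      have : x * (z * y) = 1 := by rw [← hxyz]; ring
      rw [this, one_pow]
    rwa [hzm] at h0
  have h2 : y ^ m * (y ^ m * y ^ m) = 1 := by
    rw [← pow_add, ← pow_add, ← h3m]
    congr 1
    ring
  apply mul_right_cancel₀ (mul_ne_zero (pow_ne_zero m hy0) (pow_ne_zero m hy0))
  rw [h1, h2]

end Cfsg.Agent.Helper12.PSU3Spec
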