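import Mathlib
import Cfsg.Agent.Helper12.PSU3SpecC

set_option autoImplicit false

/-! The spectrum of `PSU_3(q)`, `q` odd: the upper bound, assembled. -/

open Polynomial

namespace Cfsg.Agent.Helper12.PSU3Spec

universe u

variable {F : Type u} [Field F] [Fintype F]

/-- The order of every element of `PSU_3(q)`, `q` odd, divides one of the listed numbers. -/
theorem orderOf_mk_cases_psu (p : ℕ) [Fact p.Prime] [CharP F p] (hp2 : p ≠ 2) (q : ℕ)
    (hF : Fintype.card F = q ^ 2) (g : Cfsg.SU 3 F q) :
    orderOf (QuotientGroup.mk g : Cfsg.PSU 3 F q) ∣ q + 1 ∨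
      orderOf (QuotientGroup.mk g : Cfsg.PSU 3 F q) ∣ p * (q + 1) / Nat.gcd 3 (q + 1) ∨
      orderOf (QuotientGroup.mk g : Cfsg.PSU 3 F q) ∣ (q ^ 2 - 1) / Nat.gcd 3 (q + 1) ∨
      orderOf (QuotientGroup.mk g : Cfsg.PSU 3 F q) ∣ (q ^ 2 - q + 1) / Nat.gcd 3 (q + 1) := by
  have hp : p.Prime := Fact.out
  obtain ⟨σ, hσ, hσ2⟩ := Cfsg.Agent.Helper28.exists_frob hF
  obtain ⟨j, hq⟩ := exists_pow_eq p q hF
  have hq1 : 1 ≤ q := by
    rw [hq]
    exact Nat.one_le_pow _ _ hp.pos
  obtain ⟨M, hMdef⟩ : ∃ M : Matrix (Fin 3) (Fin 3) F,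
    M = ((g : Matrix.SpecialLinearGroup (Fin 3) F) : Matrix (Fin 3) (Fin 3) F) := ⟨_, rfl⟩
  have hM : M.transpose * M.map σ = 1 := by
    rw [hMdef]
    exact (Cfsg.Agent.Helper28.GUlib.preserves_iff σ hσ _).1 g.2
  have hMdet : M.det = 1 := by
    rw [hMdef]
    exact (g : Matrix.SpecialLinearGroup (Fin 3) F).2
  obtain ⟨χ, hχ⟩ : ∃ χ, χ = M.charpoly := ⟨_, rfl⟩
  have hχm : χ.Monic := by rw [hχ]; exact Matrix.charpoly_monic _
  have hχd : χ.natDegree = 3 := by
    rw [hχ, Matrix.charpoly_natDegree_eq_dim, Fintype.card_fin]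
  have hχ0 : χ.coeff 0 = -1 := by
    have h1 := Matrix.det_eq_sign_charpoly_coeff M
    rw [hMdet, Fintype.card_fin, ← hχ] at h1
    have : (-1 : F) ^ 3 = -1 := by norm_num
    rw [this] at h1
    linear_combination h1
  -- root symmetry in extensions
  have hsymL : ∀ (L : Type u) [Field L] [Algebra F L] (β : L), aeval β χ = 0 →
      aeval (β ^ q)⁻¹ χ = 0 := by
    intro L _ _ β hβ
    have hchar : CharP L p := charP_of_injective_algebraMap (algebraMap F L).injective p
    have h1 := root_symm σ (iterateFrobenius L p j) (by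
      intro x
      rw [iterateFrobenius_def, ← hq, hσ, map_pow]) M hM β (by rw [← hχ]; exact hβ)
    rw [iterateFrobenius_def, ← hq, ← hχ] at h1
    exact h1
  rcases PSL3Spec.cubic_cases χ hχm hχd with hirr | ⟨a, Q, hfac, hQm, hQd, hQ⟩
  · right; right; right
    have hfact : Fact (Irreducible χ) := ⟨hirr⟩
    have h1 : aeval (AdjoinRoot.root χ) χ = 0 := by
      rw [AdjoinRoot.aeval_eq, AdjoinRoot.mk_self]
    obtain ⟨c, hc⟩ := irreducible_cubic_dvd_unitary p q j hq hF χ hχm hirr hχd hχ0
      (hsymL (AdjoinRoot χ) _ h1)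
    rw [hχ, hMdef] at hc
    exact orderOf_mk_dvd_psu g _ c hc
  · rcases hQ with hQi | ⟨b, c, hQbc⟩
    · exfalso
      have hfact : Fact (Irreducible Q) := ⟨hQi⟩
      have h1 : aeval (AdjoinRoot.root Q) χ = 0 := by
        rw [hfac, map_mul, AdjoinRoot.aeval_eq Q, AdjoinRoot.mk_self, mul_zero]
      have h2 := hsymL (AdjoinRoot Q) _ h1
      rw [hfac] at h2
      exact linear_quadratic_false p q j hq hF a Q hQi hQd h2
    · rw [hQbc] at hfac
      have habc : a * (b * c) = 1 := by
        have h1 := hχ0
        rw [hfac, mul_coeff_zero, mul_coeff_zero, coeff_sub, coeff_sub, coeff_sub, coeff_X_zero,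
          coeff_C_zero, coeff_C_zero, coeff_C_zero] at h1
        linear_combination -h1
      have ha0 : a ≠ 0 := by
        rintro rfl
        rw [zero_mul] at habc
        exact zero_ne_one habc
      have hb0 : b ≠ 0 := by
        rintro rfl
        rw [zero_mul, mul_zero] at habc
        exact zero_ne_one habc
      have hc0 : c ≠ 0 := by
        rintro rfl
        rw [mul_zero, mul_zero] at habc
        exact zero_ne_one habc
      -- root symmetry in `F`
      have hroot : ∀ r : F, (r = a ∨ r = b ∨ r = c) →
          ((r ^ q)⁻¹ = a ∨ (r ^ q)⁻¹ = b ∨ (r ^ q)⁻¹ = c) := by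
        intro r hr
        have h1 : aeval r χ = 0 := by
          rw [hfac]
          rcases hr with h | h | h <;> simp [h]
        have h2 := hsymL F r h1
        rw [hfac] at h2
        simp only [map_mul, map_sub, aeval_X, aeval_C, Algebra.algebraMap_self, RingHom.id_apply,
          mul_eq_zero, sub_eq_zero] at h2
        exact h2
      have hfix : ∀ r : F, r ≠ 0 → (r ^ q)⁻¹ = r → r ^ (q + 1) = 1 := by
        intro r hr0 h
        rw [pow_succ]
        nth_rewrite 2 [← h]
        exact mul_inv_cancel₀ (pow_ne_zero _ hr0)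
      -- the double root case
      have hdouble : ∀ u v : F, u * u * v = 1 → u ^ (q + 1) = 1 →
          χ = (X - C u) * ((X - C u) * (X - C v)) →
          orderOf (QuotientGroup.mk g : Cfsg.PSU 3 F q) ∣ p * (q + 1) / Nat.gcd 3 (q + 1) := by
        intro u v huv hu hfac'
        have hor : u ≠ v ∨ 3 ≤ p := by
          right
          have := hp.two_le
          omega
        rw [Nat.mul_div_assoc _ (Nat.gcd_dvd_right _ _)]
        apply orderOf_mk_dvd_psu g _ ((u ^ ((q + 1) / Nat.gcd 3 (q + 1))) ^ p)
        rw [← hMdef, ← hχ, hfac', ← PSL3Spec.sub_C_pow_char]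
        exact PSL3Spec.sq_mul_dvd_pow u v _ p hp.two_le
          (double_root_pow_general u v (q + 1) hu huv) hor
      -- the mixed case
      have hmixed : ∀ x y z : F, x * y * z = 1 → (y ^ q)⁻¹ = z → y ≠ z →
          ((x ^ q)⁻¹ = x ∨ (x ^ q)⁻¹ = y ∨ (x ^ q)⁻¹ = z) →
          χ = (X - C x) * ((X - C y) * (X - C z)) →
          orderOf (QuotientGroup.mk g : Cfsg.PSU 3 F q) ∣ (q ^ 2 - 1) / Nat.gcd 3 (q + 1) := by
        intro x y z hxyz hyz hne hx hfac'
        obtain ⟨hxy, hxz, hxm, hzm⟩ := mixed_roots q hq1 hF x y z hxyz hyz hne hx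
        apply orderOf_mk_dvd_psu g _ (y ^ ((q ^ 2 - 1) / Nat.gcd 3 (q + 1)))
        rw [← hMdef, ← hχ, hfac']
        exact PSL3Spec.three_distinct_dvd x y z _ _ hxy hxz hne hxm rfl hzm
      have hra := hroot a (Or.inl rfl)
      have hrb := hroot b (Or.inr (Or.inl rfl))
      have hrc := hroot c (Or.inr (Or.inr rfl))
      by_cases hall : (a ^ q)⁻¹ = a ∧ (b ^ q)⁻¹ = b ∧ (c ^ q)⁻¹ = c
      · obtain ⟨hfa, hfb, hfc⟩ := hall
        have ha1 := hfix a ha0 hfa
        have hb1 := hfix b hb0 hfb
        have hc1 := hfix c hc0 hfc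
        by_cases hab : a = b
        · right; left
          apply hdouble a c _ ha1
          · rw [hfac, hab]
          · rw [← habc, hab]
            ring
        · by_cases hac : a = c
          · right; left
            apply hdouble a b _ ha1
            · rw [hfac, ← hac]
              ring
            · rw [← habc, ← hac]
              ring
          · by_cases hbc : b = c
            · right; left
              apply hdouble b a _ hb1
              · rw [hfac, ← hbc]
                ring
              · rw [← habc, ← hbc]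
                ring
            · left
              apply orderOf_mk_dvd_psu g _ 1
              rw [← hMdef, ← hχ, hfac]
              exact PSL3Spec.three_distinct_dvd a b c 1 _ hab hac hbc ha1 hb1 hc1
      · right; right; left
        by_cases hfa : (a ^ q)⁻¹ = a
        · by_cases hfb : (b ^ q)⁻¹ = b
          · have hfc : (c ^ q)⁻¹ ≠ c := fun h => hall ⟨hfa, hfb, h⟩
            rcases hrc with h | h | h
            · -- c ↦ a
              apply hmixed b c a (by rw [← habc]; ring) h (fun h' => hfc (by rw [h, h']))
                (Or.inl hfb)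
              rw [hfac]
              ring
            · apply hmixed a c b (by rw [← habc]; ring) h (fun h' => hfc (by rw [h, h']))
                (Or.inl hfa)
              rw [hfac]
              ring
            · exact absurd h hfc
          · rcases hrb with h | h | h
            · apply hmixed c b a (by rw [← habc]; ring) h (fun h' => hfb (by rw [h, h']))
                (hrc.elim (fun h => Or.inr (Or.inr h))
                  (fun h => h.elim (fun h => Or.inr (Or.inl h)) Or.inl))
              rw [hfac]
              ring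
            · exact absurd h hfb
            · apply hmixed a b c (by rw [← habc]; ring) h (fun h' => hfb (by rw [h, h']))
                (Or.inl hfa)
              rw [hfac]
        · rcases hra with h | h | h
          · exact absurd h hfa
          · apply hmixed c a b (by rw [← habc]; ring) h (fun h' => hfa (by rw [h, h']))
              (hrc.elim (fun h => Or.inr (Or.inl h))
                (fun h => h.elim (fun h => Or.inr (Or.inr h)) Or.inl))
            rw [hfac]
            ring
          · apply hmixed b a c (by rw [← habc]; ring) h (fun h' => hfa (by rw [h, h']))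
              (hrb.elim (fun h => Or.inr (Or.inl h))
                (fun h => h.elim Or.inl (fun h => Or.inr (Or.inr h))))
            rw [hfac]
            ring

end Cfsg.Agent.Helper12.PSU3Spec
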