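import Mathlib
import Cfsg.Agent.Helper12.PSU3SpecD
import Cfsg.Agent.Helper12.PSL3SpecF
import Cfsg.Agent.Helper2.UnitaryCenter
import Cfsg.Agent.Helper21.UJ1

set_option autoImplicit false

/-! The spectrum of `PSU_3(q)`: producing elements of `PSU_3(q)` of a given order from matrices
preserving some nondegenerate Hermitian form. -/

open Matrix

namespace Cfsg.Agent.Helper12.PSU3Spec

universe u

variable {F : Type u} [Field F]

theorem conj_pow_eq {n : Type*} [Fintype n] [DecidableEq n] {c cinv : Matrix n n F}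
    (h : cinv * c = 1) (h' : c * cinv = 1) (M : Matrix n n F) (k : ℕ) :
    (c * M * cinv) ^ k = c * M ^ k * cinv := by
  induction k with
  | zero => rw [pow_zero, pow_zero, Matrix.mul_one, h']
  | succ k ih =>
    rw [pow_succ, ih, pow_succ]
    calc c * M ^ k * cinv * (c * M * cinv) = c * M ^ k * (cinv * c) * M * cinv := by
          simp only [Matrix.mul_assoc]
      _ = c * (M ^ k * M) * cinv := by rw [h, Matrix.mul_one]; simp only [Matrix.mul_assoc]

theorem conj_scalar_iff {n : Type*} [Fintype n] [DecidableEq n] {c cinv : Matrix n n F}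
    (h : cinv * c = 1) (h' : c * cinv = 1) (M : Matrix n n F) (e : F) :
    c * M * cinv = Matrix.scalar n e ↔ M = Matrix.scalar n e := by
  constructor
  · intro hc
    have h1 : M = cinv * (c * M * cinv) * c := by
      calc M = (cinv * c) * M * (cinv * c) := by rw [h, Matrix.one_mul, Matrix.mul_one]
        _ = cinv * (c * M * cinv) * c := by simp only [Matrix.mul_assoc]
    rw [h1, hc, Matrix.mul_assoc, (Matrix.scalar_commute e (fun r => Commute.all e r) c).eq,
      ← Matrix.mul_assoc, h, Matrix.one_mul]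
  · intro hM
    rw [hM, ← (Matrix.scalar_commute e (fun r => Commute.all e r) c).eq, Matrix.mul_assoc, h',
      Matrix.mul_one]

variable [Fintype F] {q : ℕ}

/-- In `PSU_3`, `(mk g)^k = 1` iff `g^k` is a scalar matrix. -/
theorem mk_pow_eq_one_iff_psu (hF : Fintype.card F = q ^ 2) (g : Cfsg.SU 3 F q) (k : ℕ) :
    (QuotientGroup.mk g : Cfsg.PSU 3 F q) ^ k = 1 ↔
      ∃ c : F, ((g : Matrix.SpecialLinearGroup (Fin 3) F) : Matrix (Fin 3) (Fin 3) F) ^ k =
        Matrix.scalar (Fin 3) c := by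
  rw [← QuotientGroup.mk_pow, QuotientGroup.eq_one_iff, Subgroup.mem_center_iff]
  constructor
  · intro h
    have hg : ∀ h' ∈ Cfsg.SU 3 F q,
        h' * ((g ^ k : Cfsg.SU 3 F q) : Matrix.SpecialLinearGroup (Fin 3) F) =
          ((g ^ k : Cfsg.SU 3 F q) : Matrix.SpecialLinearGroup (Fin 3) F) * h' := by
      intro h' hh'
      have := h ⟨h', hh'⟩
      exact congrArg Subtype.val this
    have hoff := Cfsg.Agent.Helper2.Herm.central_offdiag hF _ hg
    have hdiag := Cfsg.Agent.Helper2.Herm.central_diag hF _ hg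
    refine ⟨((g ^ k : Cfsg.SU 3 F q) : Matrix.SpecialLinearGroup (Fin 3) F).1 0 0, ?_⟩
    rw [← Matrix.SpecialLinearGroup.coe_pow, ← Subgroup.coe_pow]
    ext i j
    by_cases hij : i = j
    · subst hij
      rw [Matrix.scalar_apply, Matrix.diagonal_apply_eq]
      exact hdiag i 0
    · rw [Matrix.scalar_apply, Matrix.diagonal_apply_ne _ hij]
      exact hoff i j hij
  · rintro ⟨c, hc⟩
    have h2 : (((g ^ k : Cfsg.SU 3 F q) : Matrix.SpecialLinearGroup (Fin 3) F) :
        Matrix (Fin 3) (Fin 3) F) = Matrix.scalar (Fin 3) c := by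
      rw [Subgroup.coe_pow, Matrix.SpecialLinearGroup.coe_pow, hc]
    intro k'
    apply Subtype.ext
    apply Subtype.ext
    rw [Subgroup.coe_mul, Subgroup.coe_mul, Matrix.SpecialLinearGroup.coe_mul,
      Matrix.SpecialLinearGroup.coe_mul, h2]
    exact ((Matrix.scalar_commute c (fun r => Commute.all c r)) _).symm.eq

/-- A matrix of determinant one preserving some nondegenerate Hermitian form, whose powers are
scalar exactly at the multiples of `N`, yields an element of `PSU_3(q)` of order `N`. -/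
theorem exists_orderOf_of_form (hF : Fintype.card F = q ^ 2) (σ : F →+* F)
    (hσ : ∀ x, σ x = x ^ q) (hσ2 : ∀ x, σ (σ x) = x)
    (U H Hinv : Matrix (Fin 3) (Fin 3) F) (hH1 : H * Hinv = 1) (hH2 : Hinv * H = 1)
    (hHs : Cfsg.Agent.Helper21.NS.cstar σ H = H)
    (hinv : Cfsg.Agent.Helper21.NS.cstar σ U * H * U = H) (hdet : U.det = 1) (N : ℕ)
    (hpow : ∀ k : ℕ, (∃ c : F, U ^ k = Matrix.scalar (Fin 3) c) ↔ N ∣ k) :
    ∃ x : Cfsg.PSU 3 F q, orderOf x = N := by
  obtain ⟨ξ0, hξ0⟩ := Cfsg.Agent.Helper21.NS.exists_pow_ne hF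
  have hξ0' : σ ξ0 ≠ ξ0 := by rw [hσ]; exact hξ0
  obtain ⟨c, cinv, hc1, hc2, hun⟩ := Cfsg.Agent.Helper21.UJ.exists_unitary_conj_of_form σ hσ2 ξ0
    hξ0' U H Hinv hH1 hH2 hHs hinv
  have hW : (c * U * cinv).transpose * (c * U * cinv).map σ = 1 :=
    (Cfsg.Agent.Helper21.UJ.unitary_iff_cstar σ _).2 hun
  have hWdet : (c * U * cinv).det = 1 := by
    rw [Matrix.det_mul, Matrix.det_mul, hdet, mul_one, ← Matrix.det_mul, hc1, Matrix.det_one]
  obtain ⟨g, hg⟩ : ∃ g : Matrix.SpecialLinearGroup (Fin 3) F,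
      (g : Matrix (Fin 3) (Fin 3) F) = c * U * cinv := ⟨⟨_, hWdet⟩, rfl⟩
  have hgSU : g ∈ Cfsg.SU 3 F q := by
    have h1 := (Cfsg.Agent.Helper28.GUlib.preserves_iff σ hσ (c * U * cinv)).2 hW
    rw [← hg] at h1
    exact h1
  refine ⟨QuotientGroup.mk (⟨g, hgSU⟩ : Cfsg.SU 3 F q), ?_⟩
  apply PSL3Spec.orderOf_eq_of_pow_iff
  intro k
  rw [mk_pow_eq_one_iff_psu hF, ← hpow k]
  change (∃ e : F, (g : Matrix (Fin 3) (Fin 3) F) ^ k = Matrix.scalar (Fin 3) e) ↔ _
  rw [hg, conj_pow_eq hc2 hc1]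
  constructor
  · rintro ⟨e, he⟩
    exact ⟨e, (conj_scalar_iff hc2 hc1 _ e).1 he⟩
  · rintro ⟨e, he⟩
    exact ⟨e, (conj_scalar_iff hc2 hc1 _ e).2 he⟩

end Cfsg.Agent.Helper12.PSU3Spec
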