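import Mathlib
import Cfsg.Agent.Helper12.PSU3SpecE

set_option autoImplicit false

/-! The spectrum of `PSU_3(q)`: elements of orders `q + 1`, `(q^2-1)/d` and `p(q+1)/d`. -/

open Matrix

namespace Cfsg.Agent.Helper12.PSU3Spec

universe u

variable {F : Type u} [Field F] [Fintype F] {q : ℕ}

/-- Diagonal matrices preserving a Hermitian form. -/
theorem exists_orderOf_diag (hF : Fintype.card F = q ^ 2) (σ : F →+* F)
    (hσ : ∀ x, σ x = x ^ q) (hσ2 : ∀ x, σ (σ x) = x) (u : Fin 3 → F)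
    (H Hinv : Matrix (Fin 3) (Fin 3) F) (hH1 : H * Hinv = 1) (hH2 : Hinv * H = 1)
    (hHs : Cfsg.Agent.Helper21.NS.cstar σ H = H)
    (hu : ∀ i j, σ (u i) * H i j * u j = H i j) (hdet : u 0 * u 1 * u 2 = 1) (N : ℕ)
    (hpow : ∀ k : ℕ, (u 0 ^ k = u 1 ^ k ∧ u 0 ^ k = u 2 ^ k) ↔ N ∣ k) :
    ∃ x : Cfsg.PSU 3 F q, orderOf x = N := by
  apply exists_orderOf_of_form hF σ hσ hσ2 (Matrix.diagonal u) H Hinv hH1 hH2 hHs
  · have h1 : Cfsg.Agent.Helper21.NS.cstar σ (Matrix.diagonal u) =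
        Matrix.diagonal (fun i => σ (u i)) := by
      unfold Cfsg.Agent.Helper21.NS.cstar
      rw [Matrix.diagonal_map (map_zero σ), Matrix.diagonal_transpose]
    rw [h1]
    ext i j
    rw [Matrix.mul_diagonal, Matrix.diagonal_mul]
    exact hu i j
  · rw [Matrix.det_diagonal, Fin.prod_univ_three]
    exact hdet
  · intro k
    rw [← hpow k, Matrix.diagonal_pow]
    constructor
    · rintro ⟨c, hc⟩
      have h1 : ∀ i, u i ^ k = c := by
        intro i
        have := congrFun (congrFun hc i) i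
        rw [Matrix.diagonal_apply_eq, Matrix.scalar_apply, Matrix.diagonal_apply_eq] at this
        exact this
      exact ⟨by rw [h1 0, h1 1], by rw [h1 0, h1 2]⟩
    · rintro ⟨h1, h2⟩
      refine ⟨u 0 ^ k, ?_⟩
      rw [Matrix.scalar_apply]
      congr 1
      ext i
      fin_cases i
      · rfl
      · exact h1.symm
      · exact h2.symm

/-- The Gram matrix of a hyperbolic plane plus an anisotropic line. -/
def Jmat (F : Type u) [Field F] : Matrix (Fin 3) (Fin 3) F := !![0, 1, 0; 1, 0, 0; 0, 0, 1]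

omit [Fintype F] in
theorem Jmat_mul_self : Jmat F * Jmat F = 1 := by
  ext i j
  fin_cases i <;> fin_cases j <;> simp [Jmat, Matrix.mul_apply, Fin.sum_univ_three]

omit [Fintype F] in
theorem cstar_Jmat (σ : F →+* F) : Cfsg.Agent.Helper21.NS.cstar σ (Jmat F) = Jmat F := by
  ext i j
  fin_cases i <;> fin_cases j <;> simp [Jmat, Cfsg.Agent.Helper21.NS.cstar]

/-- An element of order `q + 1` in the multiplicative group. -/
theorem exists_pow_eq_one_iff (hF : Fintype.card F = q ^ 2) :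
    ∃ z : F, z ≠ 0 ∧ ∀ k : ℕ, z ^ k = 1 ↔ q + 1 ∣ k := by
  have hc := Cfsg.Agent.Helper2.Herm.card_ker_norm hF
  obtain ⟨g, hg⟩ := IsCyclic.exists_ofOrder_eq_natCard
    (α := (powMonoidHom (q + 1) : Fˣ →* Fˣ).ker)
  rw [hc] at hg
  refine ⟨((g : Fˣ) : F), (g : Fˣ).ne_zero, fun k => ?_⟩
  have h1 : ((g : Fˣ) : F) ^ k = 1 ↔ g ^ k = 1 := by
    rw [← Units.val_pow_eq_pow_val, Units.val_eq_one, ← Subgroup.coe_pow, OneMemClass.coe_eq_one]
  rw [h1, ← orderOf_dvd_iff_pow_eq_one, hg]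

/-- A generator of the multiplicative group. -/
theorem exists_generator (hF : Fintype.card F = q ^ 2) :
    ∃ y : F, y ≠ 0 ∧ ∀ k : ℕ, y ^ k = 1 ↔ q ^ 2 - 1 ∣ k := by
  obtain ⟨g, hg⟩ := IsCyclic.exists_ofOrder_eq_natCard (α := Fˣ)
  rw [Cfsg.Agent.Helper2.Herm.card_units hF] at hg
  refine ⟨(g : F), g.ne_zero, fun k => ?_⟩
  rw [← hg, orderOf_dvd_iff_pow_eq_one, ← Units.val_pow_eq_pow_val, Units.val_eq_one]

/-- An element of order `q + 1`. -/
theorem exists_orderOf_a (hF : Fintype.card F = q ^ 2) :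
    ∃ x : Cfsg.PSU 3 F q, orderOf x = q + 1 := by
  obtain ⟨σ, hσ, hσ2⟩ := Cfsg.Agent.Helper28.exists_frob hF
  obtain ⟨z, hz0, hz⟩ := exists_pow_eq_one_iff hF
  have hz1 : z ^ (q + 1) = 1 := (hz _).2 dvd_rfl
  apply exists_orderOf_diag hF σ hσ hσ2 ![z, z⁻¹, 1] 1 1 (one_mul 1) (one_mul 1)
    (Cfsg.Agent.Helper21.NS.cstar_one σ)
  · intro i j
    by_cases hij : i = j
    · subst hij
      rw [Matrix.one_apply_eq, mul_one, hσ, ← pow_succ]
      fin_cases i
      · exact hz1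
      · simp [hz1]
      · simp
    · rw [Matrix.one_apply_ne hij, mul_zero, zero_mul]
  · simp [hz0]
  · intro k
    rw [← hz k]
    simp only [Matrix.cons_val_zero, Matrix.cons_val_one, Matrix.cons_val_two, Matrix.head_cons,
      Matrix.tail_cons, one_pow]
    constructor
    · rintro ⟨-, h⟩
      exact h
    · intro h
      rw [inv_pow, h, inv_one]
      exact ⟨rfl, rfl⟩

/-- An element of order `(q^2 - 1)/d`. -/
theorem exists_orderOf_c (hF : Fintype.card F = q ^ 2) :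
    ∃ x : Cfsg.PSU 3 F q, orderOf x = (q ^ 2 - 1) / Nat.gcd 3 (q + 1) := by
  obtain ⟨σ, hσ, hσ2⟩ := Cfsg.Agent.Helper28.exists_frob hF
  obtain ⟨y, hy0, hy⟩ := exists_generator hF
  have hq := Cfsg.Agent.Helper2.Herm.two_le_q hF
  have hσy0 : σ y ≠ 0 := (map_ne_zero σ).2 hy0
  apply exists_orderOf_diag hF σ hσ hσ2 ![y, (σ y)⁻¹, σ y * y⁻¹] (Jmat F) (Jmat F) Jmat_mul_self
    Jmat_mul_self (cstar_Jmat σ)
  · intro i j
    fin_cases i <;> fin_cases j <;> simp [Jmat, hσ2, hy0, hσy0]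
    field_simp
  · simp only [Matrix.cons_val_zero, Matrix.cons_val_one, Matrix.cons_val_two, Matrix.head_cons,
      Matrix.tail_cons]
    field_simp
  · intro k
    simp only [Matrix.cons_val_zero, Matrix.cons_val_one, Matrix.cons_val_two, Matrix.head_cons,
      Matrix.tail_cons]
    have hA : (y ^ k = ((σ y)⁻¹) ^ k) ↔ y ^ ((q + 1) * k) = 1 := by
      rw [inv_pow, ← mul_eq_one_iff_eq_inv₀ (pow_ne_zero _ hσy0), ← mul_pow, hσ, ← pow_succ',
        pow_mul]
    have hB : y ^ ((q + 1) * k) = 1 → ((y ^ k = (σ y * y⁻¹) ^ k) ↔ y ^ (3 * k) = 1) := by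
      intro h
      rw [mul_pow, inv_pow, eq_mul_inv_iff_mul_eq₀ (pow_ne_zero _ hy0), hσ]
      constructor
      · intro h2
        calc y ^ (3 * k) = y ^ k * y ^ k * y ^ k := by ring
          _ = (y ^ q) ^ k * y ^ k := by rw [h2]
          _ = y ^ ((q + 1) * k) := by ring
          _ = 1 := h
      · intro h2
        apply mul_right_cancel₀ (pow_ne_zero k hy0)
        calc y ^ k * y ^ k * y ^ k = y ^ (3 * k) := by ring
          _ = 1 := h2
          _ = y ^ ((q + 1) * k) := h.symm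
          _ = (y ^ q) ^ k * y ^ k := by ring
    have hq1' : q + 1 ∣ q ^ 2 - 1 := by
      rw [Cfsg.Agent.Helper2.Herm.factor hq]
      exact dvd_mul_right _ _
    have hdq : Nat.gcd 3 (q + 1) ∣ q ^ 2 - 1 := (Nat.gcd_dvd_right _ _).trans hq1'
    obtain ⟨m, hm⟩ : ∃ m, m = (q ^ 2 - 1) / Nat.gcd 3 (q + 1) := ⟨_, rfl⟩
    rw [← hm]
    have hdm : Nat.gcd 3 (q + 1) * m = q ^ 2 - 1 := by
      rw [hm]
      exact Nat.mul_div_cancel' hdq
    have hd0 : 0 < Nat.gcd 3 (q + 1) := Nat.gcd_pos_of_pos_left _ (by norm_num)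
    constructor
    · rintro ⟨h1, h2⟩
      have hA' := hA.1 h1
      have hB' := (hB hA').1 h2
      have h3 := Nat.dvd_gcd ((hy _).1 hA') ((hy _).1 hB')
      rw [Nat.gcd_mul_right, Nat.gcd_comm, ← hdm] at h3
      exact (Nat.mul_dvd_mul_iff_left hd0).1 h3
    · rintro ⟨t, ht⟩
      have hA' : y ^ ((q + 1) * k) = 1 := by
        rw [hy]
        obtain ⟨e, he⟩ := Nat.gcd_dvd_right 3 (q + 1)
        refine ⟨e * t, ?_⟩
        rw [ht, ← hdm]
        conv_lhs => rw [he]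
        ring
      have hB' : y ^ (3 * k) = 1 := by
        rw [hy]
        obtain ⟨e, he⟩ := Nat.gcd_dvd_left 3 (q + 1)
        refine ⟨e * t, ?_⟩
        rw [ht, ← hdm]
        conv_lhs => rw [he]
        ring
      exact ⟨hA.2 hA', (hB hA').2 hB'⟩

end Cfsg.Agent.Helper12.PSU3Spec
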