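import Mathlib
import Cfsg.Agent.Helper12.PSU3SpecF

set_option autoImplicit false

/-! The spectrum of `PSU_3(q)`: an element of order `p(q+1)/d`. -/

open Matrix

namespace Cfsg.Agent.Helper12.PSU3Spec

universe u

variable {F : Type u} [Field F]

/-- The matrix `z (1 + λ E_{01}) ⊕ w`. -/
def tMat (z l w : F) : Matrix (Fin 3) (Fin 3) F := !![z, z * l, 0; 0, z, 0; 0, 0, w]

theorem tMat_pow (z l w : F) (k : ℕ) :
    tMat z l w ^ k = !![z ^ k, (k : F) * z ^ k * l, 0; 0, z ^ k, 0; 0, 0, w ^ k] := by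
  induction k with
  | zero =>
    ext i j
    fin_cases i <;> fin_cases j <;> simp
  | succ k ih =>
    rw [pow_succ, ih]
    ext i j
    fin_cases i <;> fin_cases j <;>
      simp [tMat, Matrix.mul_apply, Fin.sum_univ_three] <;> ring

theorem tMat_det (z l w : F) : (tMat z l w).det = z * z * w := by
  rw [Matrix.det_fin_three]
  simp [tMat]

theorem tMat_form (σ : F →+* F) (z l w : F) (hz : σ z * z = 1) (hw : σ w * w = 1)
    (hl : σ l = -l) :
    Cfsg.Agent.Helper21.NS.cstar σ (tMat z l w) * Jmat F * tMat z l w = Jmat F := by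
  ext i j
  fin_cases i <;> fin_cases j <;>
    simp [tMat, Jmat, Cfsg.Agent.Helper21.NS.cstar, Matrix.mul_apply, Fin.sum_univ_three, hz, hw, hl]
  linear_combination (l - l) * hz

theorem tMat_pow_scalar_iff (z l w : F) (hz : z ≠ 0) (hl : l ≠ 0) (k : ℕ) :
    (∃ c : F, tMat z l w ^ k = Matrix.scalar (Fin 3) c) ↔ ((k : F) = 0 ∧ z ^ k = w ^ k) := by
  rw [tMat_pow]
  constructor
  · rintro ⟨c, hc⟩
    have h01 := congrFun (congrFun hc 0) 1
    have h00 := congrFun (congrFun hc 0) 0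
    have h22 := congrFun (congrFun hc 2) 2
    simp at h01 h00 h22
    refine ⟨?_, by rw [h00, h22]⟩
    rcases h01 with (h | h) | h
    · exact h
    · exact absurd h.1 hz
    · exact absurd h hl
  · rintro ⟨h1, h2⟩
    refine ⟨z ^ k, ?_⟩
    ext i j
    fin_cases i <;> fin_cases j <;> simp [h1, h2]

variable [Fintype F] {q : ℕ}

/-- An element of order `p(q+1)/d`. -/
theorem exists_orderOf_b (p : ℕ) [Fact p.Prime] [CharP F p] (hF : Fintype.card F = q ^ 2) :
    ∃ x : Cfsg.PSU 3 F q, orderOf x = p * (q + 1) / Nat.gcd 3 (q + 1) := by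
  have hp : p.Prime := Fact.out
  obtain ⟨σ, hσ, hσ2⟩ := Cfsg.Agent.Helper28.exists_frob hF
  obtain ⟨z, hz0, hz⟩ := exists_pow_eq_one_iff hF
  have hz1 : z ^ (q + 1) = 1 := (hz _).2 dvd_rfl
  obtain ⟨ξ0, hξ0⟩ := Cfsg.Agent.Helper21.NS.exists_pow_ne hF
  obtain ⟨j, hqj⟩ := exists_pow_eq p q hF
  have hq := Cfsg.Agent.Helper2.Herm.two_le_q hF
  have hσz : σ z * z = 1 := by rw [hσ, ← pow_succ]; exact hz1
  obtain ⟨l, hldef⟩ : ∃ l, l = ξ0 - σ ξ0 := ⟨_, rfl⟩
  have hl0 : l ≠ 0 := by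
    rw [hldef, sub_ne_zero, hσ]
    exact fun h => hξ0 h.symm
  have hσl : σ l = -l := by
    rw [hldef, map_sub, hσ2]
    ring
  obtain ⟨w, hwdef⟩ : ∃ w, w = (z * z)⁻¹ := ⟨_, rfl⟩
  have hzzw : z * z * w = 1 := by
    rw [hwdef, mul_inv_cancel₀ (mul_ne_zero hz0 hz0)]
  have hσw : σ w * w = 1 := by
    rw [hwdef, map_inv₀, map_mul, ← mul_inv]
    have : σ z * σ z * (z * z) = (σ z * z) * (σ z * z) := by ring
    rw [this, hσz, one_mul, inv_one]
  apply exists_orderOf_of_form hF σ hσ hσ2 (tMat z l w) (Jmat F) (Jmat F) Jmat_mul_self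
    Jmat_mul_self (cstar_Jmat σ) (tMat_form σ z l w hσz hσw hσl)
  · rw [tMat_det, hzzw]
  · intro k
    rw [tMat_pow_scalar_iff z l w hz0 hl0, CharP.cast_eq_zero_iff F p k,
      Nat.mul_div_assoc _ (Nat.gcd_dvd_right _ _)]
    have h3 : z ^ k = w ^ k ↔ (q + 1) / Nat.gcd 3 (q + 1) ∣ k := by
      rw [Nat.gcd_comm, ← PSL3Spec.dvd_mul_iff_div_gcd (q + 1) 3 k (by omega), ← hz]
      have h4 : z ^ (k * 3) = z ^ k * (z * z) ^ k := by ring
      rw [h4, hwdef, inv_pow, mul_eq_one_iff_eq_inv₀ (pow_ne_zero _ (mul_ne_zero hz0 hz0))]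
    rw [h3]
    have hcop : Nat.Coprime p ((q + 1) / Nat.gcd 3 (q + 1)) := by
      have h5 : Nat.Coprime p (q + 1) := by
        rw [Nat.Prime.coprime_iff_not_dvd hp]
        intro h
        have hj0 : j ≠ 0 := by
          rintro rfl
          rw [pow_zero] at hqj
          omega
        have h6 : p ∣ q := by
          rw [hqj]
          exact dvd_pow_self p hj0
        have h7 : p ∣ 1 := (Nat.dvd_add_right h6).1 h
        exact hp.one_lt.ne' (Nat.dvd_one.1 h7)
      exact Nat.Coprime.coprime_dvd_right (Nat.div_dvd_of_dvd (Nat.gcd_dvd_right _ _)) h5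
    constructor
    · rintro ⟨h1, h2⟩
      exact hcop.mul_dvd_of_dvd_of_dvd h1 h2
    · intro h
      exact ⟨(dvd_mul_right _ _).trans h, (dvd_mul_left _ _).trans h⟩

end Cfsg.Agent.Helper12.PSU3Spec
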