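import Mathlib
import Cfsg.Agent.Helper21.NS2

set_option autoImplicit false

/-! The Hermitian trace form of a cubic extension, in coordinates. -/

open Matrix

namespace Cfsg.Agent.Helper12.PSU3Spec

universe u v

variable {F : Type u} [Field F] {L : Type v} [Field L] [Algebra F L]

/-- The Gram matrix of the form `(x, y) ↦ tr(ψ(x) y)`. -/
noncomputable def gram (ψ : L →+* L) {n : Type*} (b : Module.Basis n F L) : Matrix n n F :=
  Matrix.of fun i j => Algebra.trace F L (ψ (b i) * b j)

theorem gram_apply (ψ : L →+* L) {n : Type*} (b : Module.Basis n F L) (i j : n) :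
    gram ψ b i j = Algebra.trace F L (ψ (b i) * b j) := rfl

variable {n : Type*} [Fintype n] [DecidableEq n] (σ : F →+* F) (ψ : L →+* L)
  (b : Module.Basis n F L)
  (hψ : ∀ c : F, ψ (algebraMap F L c) = algebraMap F L (σ c))
  (hψ2 : ∀ x : L, ψ (ψ x) = x)
  (htr : ∀ t : L, σ (Algebra.trace F L t) = Algebra.trace F L (ψ t))

omit [DecidableEq n] in
include hψ in
theorem gram_expand (x y : L) :
    Algebra.trace F L (ψ x * y) =
      ∑ k, ∑ l, σ (b.repr x k) * gram ψ b k l * b.repr y l := by
  conv_lhs => rw [← b.sum_repr x, ← b.sum_repr y]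
  rw [map_sum, Finset.sum_mul, map_sum]
  apply Finset.sum_congr rfl
  intro k _
  rw [Finset.mul_sum, map_sum]
  apply Finset.sum_congr rfl
  intro l _
  rw [Algebra.smul_def, Algebra.smul_def, map_mul ψ, hψ]
  have h1 : algebraMap F L (σ (b.repr x k)) * ψ (b k) * (algebraMap F L (b.repr y l) * b l) =
      (σ (b.repr x k) * b.repr y l) • (ψ (b k) * b l) := by
    rw [Algebra.smul_def, map_mul]
    ring
  rw [h1, map_smul, smul_eq_mul, gram_apply]
  ring

omit [Fintype n] [DecidableEq n] in
include hψ2 htr in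
theorem cstar_gram : Cfsg.Agent.Helper21.NS.cstar σ (gram ψ b) = gram ψ b := by
  ext i j
  unfold Cfsg.Agent.Helper21.NS.cstar
  rw [Matrix.transpose_apply, Matrix.map_apply, gram_apply, gram_apply, htr, map_mul, hψ2,
    mul_comm]

include hψ in
theorem gram_isometry (α : L) (hα : ψ α * α = 1) :
    Cfsg.Agent.Helper21.NS.cstar σ (Algebra.leftMulMatrix b α) * gram ψ b *
      Algebra.leftMulMatrix b α = gram ψ b := by
  ext i j
  rw [Matrix.mul_apply]
  simp_rw [Matrix.mul_apply]
  have h1 : gram ψ b i j = Algebra.trace F L (ψ (α * b i) * (α * b j)) := by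
    rw [gram_apply]
    congr 1
    rw [map_mul]
    calc ψ (b i) * b j = (ψ α * α) * (ψ (b i) * b j) := by rw [hα, one_mul]
      _ = ψ α * ψ (b i) * (α * b j) := by ring
  rw [h1, gram_expand σ ψ b hψ, Finset.sum_comm]
  apply Finset.sum_congr rfl
  intro l _
  rw [Finset.sum_mul]
  apply Finset.sum_congr rfl
  intro k _
  unfold Cfsg.Agent.Helper21.NS.cstar
  rw [Matrix.transpose_apply, Matrix.map_apply, Algebra.leftMulMatrix_eq_repr_mul,
    Algebra.leftMulMatrix_eq_repr_mul]

include hψ2 htr in
theorem gram_det_ne_zero [FiniteDimensional F L] [Algebra.IsSeparable F L] :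
    (gram ψ b).det ≠ 0 := by
  intro h0
  obtain ⟨v, hv0, hv⟩ := Matrix.exists_mulVec_eq_zero_iff.2 h0
  obtain ⟨y, hy⟩ : ∃ y : L, y = ∑ j, v j • b j := ⟨_, rfl⟩
  have h1 : ∀ i, Algebra.trace F L (ψ (b i) * y) = 0 := by
    intro i
    have h2 := congrFun hv i
    rw [Matrix.mulVec, dotProduct] at h2
    rw [hy, Finset.mul_sum, map_sum]
    rw [Pi.zero_apply] at h2
    rw [← h2]
    apply Finset.sum_congr rfl
    intro j _
    rw [mul_smul_comm, map_smul, smul_eq_mul, mul_comm]
    rfl
  have h2 : ∀ i, Algebra.trace F L (b i * ψ y) = 0 := by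
    intro i
    have h3 := congrArg σ (h1 i)
    rw [htr, map_mul, hψ2, map_zero] at h3
    exact h3
  have h3 : ψ y = 0 := by
    apply (traceForm_nondegenerate F L).2
    intro x
    have h4 : (Algebra.trace F L) ∘ₗ (LinearMap.mulRight F (ψ y)) = 0 := by
      apply b.ext
      intro i
      rw [LinearMap.comp_apply, LinearMap.mulRight_apply, LinearMap.zero_apply]
      exact h2 i
    have h5 := LinearMap.congr_fun h4 x
    rw [LinearMap.comp_apply, LinearMap.mulRight_apply, LinearMap.zero_apply] at h5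
    rw [Algebra.traceForm_apply]
    exact h5
  have h4 : y = 0 := (map_eq_zero ψ).1 h3
  rw [hy] at h4
  apply hv0
  ext j
  exact Fintype.linearIndependent_iff.1 b.linearIndependent v h4 j

end Cfsg.Agent.Helper12.PSU3Spec
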