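import Mathlib
import Cfsg.Agent.Helper12.PSU3SpecG
import Cfsg.Agent.Helper12.PSU3SpecH

set_option autoImplicit false

/-! The spectrum of `PSU_3(q)`: an element of order `(q^2-q+1)/d`. -/

open Matrix

namespace Cfsg.Agent.Helper12.PSU3Spec

universe u

/-- An element of prescribed order in a finite field. -/
theorem exists_pow_eq_one_iff_of_dvd {L : Type*} [Field L] [Finite L] (N : ℕ)
    (hN : N ∣ Nat.card L - 1) : ∃ α : L, α ≠ 0 ∧ ∀ k : ℕ, α ^ k = 1 ↔ N ∣ k := by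
  obtain ⟨ω, hω⟩ : ∃ ω : Lˣ, orderOf ω = Nat.card Lˣ := IsCyclic.exists_ofOrder_eq_natCard
  rw [Nat.card_units] at hω
  obtain ⟨e, he⟩ := hN
  have hcard : 1 < Nat.card L := Finite.one_lt_card
  have he0 : 0 < e := by
    rcases Nat.eq_zero_or_pos e with h | h
    · rw [h, mul_zero] at he
      omega
    · exact h
  refine ⟨((ω ^ e : Lˣ) : L), (ω ^ e).ne_zero, fun k => ?_⟩
  rw [← Units.val_pow_eq_pow_val, Units.val_eq_one, ← pow_mul, ← orderOf_dvd_iff_pow_eq_one, hω,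
    he, mul_comm N e]
  exact Nat.mul_dvd_mul_iff_left he0

section arith

variable (q : ℕ)

theorem arith_mul_one (hq : 1 ≤ q) : (q ^ 2 - q + 1) * (q + 1) = q ^ 3 + 1 := by
  have hle : q ≤ q ^ 2 := by nlinarith
  zify [hle]
  ring

theorem arith_mul_two (hq : 1 ≤ q) : (q ^ 2 - q + 1) * (q ^ 2 + q + 1) = q ^ 4 + q ^ 2 + 1 := by
  have hle : q ≤ q ^ 2 := by nlinarith
  zify [hle]
  ring

theorem arith_dvd_card (hq : 1 ≤ q) : q ^ 2 - q + 1 ∣ (q ^ 2) ^ 3 - 1 := by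
  have h1 : (q ^ 2) ^ 3 - 1 = (q ^ 3 + 1) * (q ^ 3 - 1) := by
    have : (q ^ 2) ^ 3 - 1 = (q ^ 3) ^ 2 - 1 ^ 2 := by
      rw [one_pow, ← pow_mul, ← pow_mul]
    rw [this, Nat.sq_sub_sq]
  rw [h1, ← arith_mul_one q hq, mul_assoc]
  exact dvd_mul_right _ _

theorem arith_gcd (hq : 2 ≤ q) : Nat.gcd (q ^ 2 - q + 1) (q ^ 2 - 1) = Nat.gcd 3 (q + 1) := by
  have hle : q ≤ q ^ 2 := by nlinarith
  have h1 : q ^ 2 - 1 = (q + 1) * (q - 1) := Cfsg.Agent.Helper2.Herm.factor hq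
  have h2 : q ^ 2 - q + 1 = 1 + (q - 1) * q := by
    have : (1 : ℕ) ≤ q := by omega
    zify [hle, this]
    ring
  have h3 : q ^ 2 - q + 1 = (q + 1) * (q - 2) + 3 := by
    zify [hle, hq]
    ring
  have hcop : Nat.Coprime (q - 1) (q ^ 2 - q + 1) := by
    rw [Nat.coprime_comm, h2, Nat.coprime_add_mul_left_left]
    exact Nat.coprime_one_left _
  rw [h1, hcop.gcd_mul_right_cancel_right, h3, Nat.gcd_mul_left_add_left]

end arith

variable {F : Type u} [Field F] [Fintype F] {q : ℕ}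

/-- The `q^3`-Frobenius of a cubic extension of `F_{q^2}` extends `x ↦ x^q` and is compatible
with the trace. -/
theorem exists_psi {L : Type*} [Field L] [Algebra F L] [FiniteDimensional F L] (p : ℕ)
    [Fact p.Prime] [CharP F p] (hF : Fintype.card F = q ^ 2) (hL : Module.finrank F L = 3)
    (σ : F →+* F) (hσ : ∀ x, σ x = x ^ q) :
    ∃ ψ : L →+* L, (∀ x, ψ x = x ^ (q ^ 3)) ∧
      (∀ c : F, ψ (algebraMap F L c) = algebraMap F L (σ c)) ∧ (∀ x, ψ (ψ x) = x) ∧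
      (∀ t : L, σ (Algebra.trace F L t) = Algebra.trace F L (ψ t)) := by
  obtain ⟨j, hqj⟩ := exists_pow_eq p q hF
  have hfinL : Finite L := Module.finite_of_finite F
  have hchar : CharP L p := charP_of_injective_algebraMap (algebraMap F L).injective p
  have hcardL : Nat.card L = (q ^ 2) ^ 3 := by
    rw [Module.natCard_eq_pow_finrank (K := F) (V := L), hL, Nat.card_eq_fintype_card, hF]
  have hpowL : ∀ x : L, x ^ ((q ^ 2) ^ 3) = x := by
    intro x
    let _ := Fintype.ofFinite L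
    rw [← hcardL, Nat.card_eq_fintype_card]
    exact FiniteField.pow_card x
  have hdef : ∀ x : L, iterateFrobenius L p (3 * j) x = x ^ (q ^ 3) := by
    intro x
    rw [iterateFrobenius_def, hqj, ← pow_mul]
    congr 2
    ring
  have hφ : ∀ x : L, iterateFrobenius L p j x = x ^ q := by
    intro x
    rw [iterateFrobenius_def, hqj]
  refine ⟨iterateFrobenius L p (3 * j), hdef, ?_, ?_, ?_⟩
  · intro c
    rw [hdef, hσ, ← map_pow]
    congr 1
    have : q ^ 3 = q ^ 2 * q := by ring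
    rw [this, pow_mul, ← hF, FiniteField.pow_card]
  · intro x
    rw [hdef, hdef, ← pow_mul]
    have : q ^ 3 * q ^ 3 = (q ^ 2) ^ 3 := by ring
    rw [this, hpowL]
  · intro t
    apply (algebraMap F L).injective
    rw [hσ, map_pow, FiniteField.algebraMap_trace_eq_sum_pow, FiniteField.algebraMap_trace_eq_sum_pow,
      hL, Nat.card_eq_fintype_card, hF, ← hφ, map_sum]
    simp only [hφ, hdef]
    have e1 : (t ^ ((q ^ 2) ^ 0)) ^ q = (t ^ (q ^ 3)) ^ ((q ^ 2) ^ 2) := by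
      rw [pow_zero, pow_one, ← pow_mul]
      have : q ^ 3 * (q ^ 2) ^ 2 = (q ^ 2) ^ 3 * q := by ring
      rw [this, pow_mul, hpowL]
    have e2 : (t ^ ((q ^ 2) ^ 1)) ^ q = (t ^ (q ^ 3)) ^ ((q ^ 2) ^ 0) := by
      have h1 : (t ^ ((q ^ 2) ^ 1)) ^ q = t ^ ((q ^ 2) ^ 1 * q) := (pow_mul t _ _).symm
      have h2 : (t ^ (q ^ 3)) ^ ((q ^ 2) ^ 0) = t ^ (q ^ 3 * (q ^ 2) ^ 0) := (pow_mul t _ _).symm
      rw [h1, h2]
      have : (q ^ 2) ^ 1 * q = q ^ 3 * (q ^ 2) ^ 0 := by ring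
      rw [this]
    have e3 : (t ^ ((q ^ 2) ^ 2)) ^ q = (t ^ (q ^ 3)) ^ ((q ^ 2) ^ 1) := by
      have h1 : (t ^ ((q ^ 2) ^ 2)) ^ q = t ^ ((q ^ 2) ^ 2 * q) := (pow_mul t _ _).symm
      have h2 : (t ^ (q ^ 3)) ^ ((q ^ 2) ^ 1) = t ^ (q ^ 3 * (q ^ 2) ^ 1) := (pow_mul t _ _).symm
      rw [h1, h2]
      have : (q ^ 2) ^ 2 * q = q ^ 3 * (q ^ 2) ^ 1 := by ring
      rw [this]
    rw [Finset.sum_range_succ, Finset.sum_range_succ, Finset.sum_range_one, Finset.sum_range_succ,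
      Finset.sum_range_succ, Finset.sum_range_one, e1, e2, e3]
    ring

/-- An element of order `(q^2 - q + 1)/d`. -/
theorem exists_orderOf_d (p : ℕ) [Fact p.Prime] [CharP F p] (hF : Fintype.card F = q ^ 2) :
    ∃ x : Cfsg.PSU 3 F q, orderOf x = (q ^ 2 - q + 1) / Nat.gcd 3 (q + 1) := by
  obtain ⟨σ, hσ, hσ2⟩ := Cfsg.Agent.Helper28.exists_frob hF
  have hq := Cfsg.Agent.Helper2.Herm.two_le_q hF
  have hq1 : 1 ≤ q := by omega
  let L := FiniteField.Extension F p 3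
  have hfr : Module.finrank F L = 3 := FiniteField.finrank_extension F p 3
  let b : Module.Basis (Fin 3) F L := Module.finBasisOfFinrankEq F L hfr
  obtain ⟨ψ, hψdef, hψ, hψ2, htr⟩ := exists_psi (L := L) p hF hfr σ hσ
  have hft : Fintype L := Fintype.ofFinite L
  have hcardL : Nat.card L = (q ^ 2) ^ 3 := by
    rw [Module.natCard_eq_pow_finrank (K := F) (V := L), hfr, Nat.card_eq_fintype_card, hF]
  obtain ⟨α, hα0, hα⟩ := exists_pow_eq_one_iff_of_dvd (L := L) (q ^ 2 - q + 1)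
    (by rw [hcardL]; exact arith_dvd_card q hq1)
  have hα1 : ψ α * α = 1 := by
    rw [hψdef, ← pow_succ, hα, ← arith_mul_one q hq1]
    exact dvd_mul_right _ _
  have hHdet := gram_det_ne_zero σ ψ b hψ2 htr
  let Lm : L →ₐ[F] Matrix (Fin 3) (Fin 3) F := Algebra.leftMulMatrix b
  have hinj : Function.Injective Lm := Algebra.leftMulMatrix_injective b
  have hsc : ∀ c : F, Lm (algebraMap F L c) = Matrix.scalar (Fin 3) c := by
    intro c
    rw [AlgHom.commutes]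
    rfl
  apply exists_orderOf_of_form hF σ hσ hσ2 (Lm α) (gram ψ b) (gram ψ b)⁻¹
    (Matrix.mul_nonsing_inv _ (isUnit_iff_ne_zero.2 hHdet))
    (Matrix.nonsing_inv_mul _ (isUnit_iff_ne_zero.2 hHdet))
    (cstar_gram σ ψ b hψ2 htr) (gram_isometry σ ψ b hψ α hα1)
  · change (Algebra.leftMulMatrix b α).det = 1
    rw [← Algebra.norm_eq_matrix_det b α]
    apply (algebraMap F L).injective
    rw [FiniteField.algebraMap_norm_eq_pow_sum, hfr, Nat.card_eq_fintype_card, hF, map_one, hα,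
      Finset.sum_range_succ, Finset.sum_range_succ, Finset.sum_range_one]
    have : (q ^ 2) ^ 0 + (q ^ 2) ^ 1 + (q ^ 2) ^ 2 = q ^ 4 + q ^ 2 + 1 := by ring
    rw [this, ← arith_mul_two q hq1]
    exact dvd_mul_right _ _
  · intro k
    have hN0 : 0 < q ^ 2 - q + 1 := by omega
    rw [← arith_gcd q hq, ← PSL3Spec.dvd_mul_iff_div_gcd (q ^ 2 - q + 1) (q ^ 2 - 1) k hN0, ← hα,
      ← map_pow]
    have hq2 : 1 ≤ q ^ 2 := Nat.one_le_pow _ _ (by omega)
    have hsplit : k * q ^ 2 = k + k * (q ^ 2 - 1) := by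
      obtain ⟨t, ht⟩ : ∃ t, q ^ 2 = t + 1 := ⟨q ^ 2 - 1, by omega⟩
      rw [ht]
      simp only [Nat.add_sub_cancel]
      ring
    have hαk0 : α ^ k ≠ 0 := pow_ne_zero _ hα0
    constructor
    · rintro ⟨c, hc⟩
      rw [← hsc] at hc
      have h1 := hinj hc
      have h2 : (α ^ k) ^ (q ^ 2) = α ^ k := by
        rw [h1, ← map_pow, ← hF, FiniteField.pow_card]
      rw [← pow_mul, hsplit, pow_add] at h2
      exact mul_left_cancel₀ hαk0 (by rw [h2, mul_one])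
    · intro h
      have h2 : (α ^ k) ^ (q ^ 2) = α ^ k := by
        rw [← pow_mul, hsplit, pow_add, h, mul_one]
      obtain ⟨c, hc⟩ := Cfsg.Agent.Helper13.exists_of_pow_card_eq (algebraMap F L) hF _ h2
      exact ⟨c, by rw [← hc, hsc]⟩

end Cfsg.Agent.Helper12.PSU3Spec
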