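import Mathlib
import Cfsg.Agent.Helper12.PSUCommD
import Cfsg.Agent.Helper28.Herm

set_option autoImplicit false

/-! Elements of `PSU_m(q)` commuting with an element of order `p`: assembly. -/

namespace Cfsg.Agent.Helper12.PSUComm

universe u

variable {F : Type u} [Field F] [Fintype F]

theorem primeFactors_subset (p : ℕ) [Fact p.Prime] [CharP F p] (m q : ℕ) (hm : 4 ≤ m)
    (hF : Fintype.card F = q ^ 2) (a b : Cfsg.PSU m F q) (ha : orderOf a = p)
    (hab : Commute a b) :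
    (orderOf b).primeFactors ⊆ (Nat.card ↥(Cfsg.SU (m - 2) F q)).primeFactors := by
  classical
  have hp : p.Prime := Fact.out
  have hq2 := Cfsg.Agent.Helper2.Herm.two_le_q hF
  obtain ⟨k, hk⟩ := PSU3Spec.exists_pow_eq p q hF
  obtain ⟨σ, hσ, _⟩ := Cfsg.Agent.Helper28.exists_frob hF
  have hk0 : k ≠ 0 := by
    intro h
    rw [h, pow_zero] at hk
    omega
  have hpq : p ∣ q := by
    rw [hk]
    exact dvd_pow_self p hk0
  have hcard0 : Nat.card ↥(Cfsg.SU (m - 2) F q) ≠ 0 := Nat.card_pos.ne'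
  intro s hs
  rw [Nat.mem_primeFactors] at hs ⊢
  obtain ⟨hsp, hsdvd, hb0⟩ := hs
  refine ⟨hsp, ?_, hcard0⟩
  by_cases hsp' : s = p
  · rw [hsp']
    exact char_dvd_card_SU p hF (m - 2) (by omega)
  by_cases hsq1 : s ∣ q + 1
  · apply dvd_card_SU_of_dvd hF (m - 2) (by omega) s 1 le_rfl (by omega)
    rw [pow_one]
    have : -(q : ℤ) - 1 = -((q + 1 : ℕ) : ℤ) := by push_cast; ring
    rw [this, dvd_neg, Int.natCast_dvd_natCast]
    exact hsq1
  -- the centre
  have hZcard : Nat.card (Subgroup.center (Cfsg.SU m F q)) = Nat.gcd m (q + 1) :=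
    Cfsg.Agent.Helper2.Herm.card_center_SU hF m (by omega)
  have hZdvd : Nat.card (Subgroup.center (Cfsg.SU m F q)) ∣ q + 1 := by
    rw [hZcard]
    exact Nat.gcd_dvd_right _ _
  have hpZ : p.Coprime (Nat.card (Subgroup.center (Cfsg.SU m F q))) := by
    apply Nat.Coprime.coprime_dvd_right hZdvd
    rw [Nat.Prime.coprime_iff_not_dvd hp]
    intro h
    have h1 : p ∣ 1 := (Nat.dvd_add_right hpq).1 h
    exact hp.one_lt.ne' (Nat.dvd_one.1 h1)
  have hsZ : s.Coprime (Nat.card (Subgroup.center (Cfsg.SU m F q))) := by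
    apply Nat.Coprime.coprime_dvd_right hZdvd
    rw [Nat.Prime.coprime_iff_not_dvd hsp]
    exact hsq1
  -- the power of `b` of order `s`
  obtain ⟨b', hb'⟩ : ∃ b' : Cfsg.PSU m F q, b' = b ^ (orderOf b / s) := ⟨_, rfl⟩
  have hb's : orderOf b' = s := by
    rw [hb']
    exact orderOf_pow_orderOf_div hb0 hsdvd
  have hab' : Commute a b' := by
    rw [hb']
    exact hab.pow_right _
  obtain ⟨a₁, ha₁, ha₁o⟩ := exists_lift_orderOf (Subgroup.center (Cfsg.SU m F q)) a p ha hpZ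
  obtain ⟨b₁, hb₁, hb₁o⟩ := exists_lift_orderOf (Subgroup.center (Cfsg.SU m F q)) b' s hb's hsZ
  have hcomm : Commute a₁ b₁ := by
    apply commute_of_commute_mk (Subgroup.center (Cfsg.SU m F q)) le_rfl
    · rw [ha₁, hb₁]
      exact hab'
    · rw [hb₁o]
      exact hsZ
  -- matrices
  obtain ⟨U, hU⟩ : ∃ U : Matrix (Fin m) (Fin m) F,
      U = ((a₁ : Matrix.SpecialLinearGroup (Fin m) F) : Matrix (Fin m) (Fin m) F) := ⟨_, rfl⟩
  obtain ⟨M, hMd⟩ : ∃ M : Matrix (Fin m) (Fin m) F,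
      M = ((b₁ : Matrix.SpecialLinearGroup (Fin m) F) : Matrix (Fin m) (Fin m) F) := ⟨_, rfl⟩
  have hcoe_pow : ∀ (g : Cfsg.SU m F q) (t : ℕ),
      (((g ^ t : Cfsg.SU m F q) : Matrix.SpecialLinearGroup (Fin m) F) :
        Matrix (Fin m) (Fin m) F) =
      ((g : Matrix.SpecialLinearGroup (Fin m) F) : Matrix (Fin m) (Fin m) F) ^ t := by
    intro g t
    rw [Subgroup.coe_pow, Matrix.SpecialLinearGroup.coe_pow]
  have hne_one : ∀ g : Cfsg.SU m F q,
      ((g : Matrix.SpecialLinearGroup (Fin m) F) : Matrix (Fin m) (Fin m) F) = 1 → g = 1 := by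
    intro g h
    apply Subtype.ext
    apply Subtype.ext
    rw [h]
    rfl
  have hM : M.transpose * M.map σ = 1 := by
    rw [hMd]
    exact (Cfsg.Agent.Helper28.GUlib.preserves_iff σ hσ _).1 b₁.2
  have hMs : M ^ s = 1 := by
    rw [hMd, ← hcoe_pow, ← hb₁o, pow_orderOf_eq_one]
    rfl
  have hM1 : M ≠ 1 := by
    intro h
    rw [hMd] at h
    have h1 := hne_one b₁ h
    rw [h1, orderOf_one] at hb₁o
    exact hsp.one_lt.ne hb₁o
  have hU1 : U ≠ 1 := by
    intro h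
    rw [hU] at h
    have h1 := hne_one a₁ h
    rw [h1, orderOf_one] at ha₁o
    exact hp.one_lt.ne ha₁o
  have hUp : U ^ p = 1 := by
    rw [hU, ← hcoe_pow, ← ha₁o, pow_orderOf_eq_one]
    rfl
  have hUn : IsNilpotent (U - 1) := by
    have : Nonempty (Fin m) := ⟨⟨0, by omega⟩⟩
    refine ⟨p, ?_⟩
    rw [sub_pow_char_of_commute p (Commute.one_right U), hUp, one_pow, sub_self]
  have hMU : Commute M U := by
    have h1 : b₁ * a₁ = a₁ * b₁ := hcomm.eq.symm
    have h2 := congrArg (fun g : Cfsg.SU m F q =>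
      ((g : Matrix.SpecialLinearGroup (Fin m) F) : Matrix (Fin m) (Fin m) F)) h1
    simp only [Subgroup.coe_mul, Matrix.SpecialLinearGroup.coe_mul] at h2
    rw [hMd, hU]
    exact h2
  obtain ⟨j, hj1, hj2, hj⟩ := exists_dvd_of_commute_unipotent p q k hk σ hσ (by omega) M U hM s
    hsp hsp' hMs hM1 hU1 hUn hMU
  exact dvd_card_SU_of_dvd hF (m - 2) (by omega) s j hj1 hj2 hj

end Cfsg.Agent.Helper12.PSUComm
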