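import Mathlib
import Cfsg.Prelude.Def_BaumannBlocks
import Cfsg.Agent.Helper15.CL3

/-! # Pushing up with centrally large subgroups: the abstract offender lemma (Lemma A)

Blueprint: `departures/helper12_S2990_blueprint.md`, §1.  `P` is any finite group (in use `↥S`),
`V` an abelian subgroup, `U = C_P(V)`, `Q` a minimal centrally large subgroup that is *not an
over-offender* on `V`.  Then `Q = (Q ∩ U) Z(Q)` and `T = (Q ∩ U) V` is a minimal centrally large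
subgroup inside `U`. -/

set_option autoImplicit false

namespace Cfsg.Agent.Helper12.PU

open Subgroup Cfsg.Agent.Helper15
open scoped Pointwise

variable {P : Type*} [Group P]

/-- pure arithmetic behind (A1) -/
theorem arith_A1 (a v y s i c q : ℕ) (ha : 0 < a) (hy : 0 < y) (hi : 0 < i)
    (h1 : v * y ≤ s * i) (h2 : s ≤ c) (h3 : a * c ≤ q * y) (h4 : q * i ≤ v * a) :
    a * c = q * y ∧ s = c ∧ q * i = v * a ∧ v * y = s * i := by
  have c1 : a * (v * y) ≤ a * (s * i) := Nat.mul_le_mul_left _ h1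
  have c2 : a * (s * i) ≤ a * (c * i) := Nat.mul_le_mul_left _ (Nat.mul_le_mul_right _ h2)
  have c3 : a * (c * i) ≤ q * y * i := by
    calc a * (c * i) = a * c * i := by ring
      _ ≤ q * y * i := Nat.mul_le_mul_right _ h3
  have c4 : q * y * i ≤ a * (v * y) := by
    calc q * y * i = q * i * y := by ring
      _ ≤ v * a * y := Nat.mul_le_mul_right _ h4
      _ = a * (v * y) := by ring
  have e1 : a * (v * y) = a * (s * i) := le_antisymm c1 (c2.trans (c3.trans c4))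
  have e2 : a * (s * i) = a * (c * i) := le_antisymm c2 (c3.trans (c4.trans c1))
  have e3 : a * (c * i) = q * y * i := le_antisymm c3 (c4.trans (c1.trans c2))
  have e4 : q * y * i = a * (v * y) := le_antisymm c4 (c1.trans (c2.trans c3))
  have r1 : v * y = s * i := Nat.eq_of_mul_eq_mul_left ha e1
  have r2 : s = c := by
    have := Nat.eq_of_mul_eq_mul_left ha e2
    exact Nat.eq_of_mul_eq_mul_right hi this
  have r3 : a * c = q * y := by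
    have : a * c * i = q * y * i := by rw [← e3]; ring
    exact Nat.eq_of_mul_eq_mul_right hi this
  have r4 : q * i = v * a := by
    have : q * i * y = v * a * y := by
      calc q * i * y = q * y * i := by ring
        _ = a * (v * y) := e4
        _ = v * a * y := by ring
    exact Nat.eq_of_mul_eq_mul_right hy this
  exact ⟨r3, r2, r4, r1⟩

/-- pure arithmetic behind (A4) -/
theorem arith_A4 (a v y y0 i q t z' zt : ℕ) (hq : 0 < q) (hi : 0 < i) (ht : 0 < t)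
    (hv : 0 < v) (hy0 : 0 < y0)
    (h1 : a * v ≤ t * i) (h2 : v * y0 ≤ z' * i) (h3 : z' ≤ zt) (h4 : t * zt ≤ q * y)
    (h5 : a * y = q * y0) (h6 : q * i = v * a) :
    t * zt = q * y ∧ t = q ∧ zt = y ∧ z' = zt := by
  have hL : a * v * (v * y0) = q * y * (i * i) := by
    calc a * v * (v * y0) = (v * a) * v * y0 := by ring
      _ = q * i * v * y0 := by rw [h6]
      _ = i * v * (q * y0) := by ring
      _ = i * v * (a * y) := by rw [h5]
      _ = i * y * (v * a) := by ring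
      _ = i * y * (q * i) := by rw [h6]
      _ = q * y * (i * i) := by ring
  have c1 : a * v * (v * y0) ≤ t * i * (z' * i) := Nat.mul_le_mul h1 h2
  have c2 : t * i * (z' * i) ≤ t * i * (zt * i) :=
    Nat.mul_le_mul_left _ (Nat.mul_le_mul_right _ h3)
  have c3 : t * i * (zt * i) ≤ q * y * (i * i) := by
    calc t * i * (zt * i) = t * zt * (i * i) := by ring
      _ ≤ q * y * (i * i) := Nat.mul_le_mul_right _ h4
  have hii : 0 < i * i := Nat.mul_pos hi hi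
  have hti : 0 < t * i := Nat.mul_pos ht hi
  have e3 : t * i * (zt * i) = q * y * (i * i) :=
    le_antisymm c3 (hL ▸ (c1.trans c2))
  have e2 : t * i * (z' * i) = t * i * (zt * i) :=
    le_antisymm c2 (e3 ▸ (hL ▸ c1))
  have e1 : a * v * (v * y0) = t * i * (z' * i) :=
    le_antisymm c1 (hL ▸ (c2.trans c3))
  have r1 : t * zt = q * y := by
    have : t * zt * (i * i) = q * y * (i * i) := by rw [← e3]; ring
    exact Nat.eq_of_mul_eq_mul_right hii this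
  have r4 : z' = zt := by
    have := Nat.eq_of_mul_eq_mul_left hti e2
    exact Nat.eq_of_mul_eq_mul_right hi this
  have hvy0 : 0 < v * y0 := Nat.mul_pos hv hy0
  have r5 : a * v = t * i := by
    by_contra hne
    have hlt : a * v < t * i := lt_of_le_of_ne h1 hne
    have : a * v * (v * y0) < t * i * (z' * i) :=
      calc a * v * (v * y0) < t * i * (v * y0) := Nat.mul_lt_mul_of_pos_right hlt hvy0
        _ ≤ t * i * (z' * i) := Nat.mul_le_mul_left _ h2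
    omega
  have r2 : t = q := by
    have : t * i = q * i := by rw [← r5, h6]; ring
    exact Nat.eq_of_mul_eq_mul_right hi this
  have r3 : zt = y := by
    rw [r2] at r1
    exact Nat.eq_of_mul_eq_mul_left hq r1
  exact ⟨r1, r2, r3, r4⟩

/-- Hypotheses of Lemma A: `V` abelian, `U = C_P(V)`, `Q` minimal centrally large, and `Q` is not an
over-offender on `V`. -/
structure LA (V U Q : Subgroup P) : Prop where
  uEq : U = cz V
  vab : V ≤ cz V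
  mcl : Cfsg.IsMinimalCentrallyLarge Q
  noo : Nat.card Q * Nat.card ↥(V ⊓ cz Q) ≤ Nat.card V * Nat.card ↥(Q ⊓ U)

namespace LA

variable {V U Q : Subgroup P}

theorem v_le_u (h : LA V U Q) : V ≤ U := by rw [h.uEq]; exact h.vab

theorem czq_le (h : LA V U Q) [Finite P] : cz Q ≤ Q := by
  have := (cl_imp Q h.mcl.1).2
  rw [this]; exact inf_le_left

theorem q_large (h : LA V U Q) [Finite P] : Cfsg.IsCentralizerLarge Q := (cl_imp Q h.mcl.1).1

theorem v_le_czq1 (h : LA V U Q) : V ≤ cz (Q ⊓ U) := by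
  apply le_cz_comm
  rw [← h.uEq]; exact inf_le_right

theorem vy_le (h : LA V U Q) : V ⊔ cz Q ≤ cz (Q ⊓ U) :=
  sup_le h.v_le_czq1 (cz_anti inf_le_left)

/-- (A1) the counting squeeze -/
theorem a1 (h : LA V U Q) [Finite P] :
    Cfsg.IsCentralizerLarge (Q ⊓ U) ∧ cz (Q ⊓ U) = V ⊔ cz Q ∧
    Nat.card Q * Nat.card ↥(V ⊓ cz Q) = Nat.card V * Nat.card ↥(Q ⊓ U) ∧
    Nat.card V * Nat.card ↥(cz Q) = Nat.card ↥(V ⊔ cz Q) * Nat.card ↥(V ⊓ cz Q) := by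
  have h1 := card_mul_card_le_sup_mul_inf V (cz Q)
  have h2 : Nat.card ↥(V ⊔ cz Q) ≤ Nat.card ↥(cz (Q ⊓ U)) := Helper15.card_le_of_le h.vy_le
  have h3 : Nat.card ↥(Q ⊓ U) * Nat.card ↥(cz (Q ⊓ U)) ≤ Nat.card Q * Nat.card ↥(cz Q) := by
    have := cdm_le_max (Q ⊓ U)
    have hq := h.q_large
    rw [isCentralizerLarge_iff] at hq
    rw [← hq] at this
    exact this
  obtain ⟨r1, r2, r3, r4⟩ := arith_A1 (Nat.card ↥(Q ⊓ U)) (Nat.card V) (Nat.card ↥(cz Q))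
    (Nat.card ↥(V ⊔ cz Q)) (Nat.card ↥(V ⊓ cz Q)) (Nat.card ↥(cz (Q ⊓ U))) (Nat.card Q)
    Nat.card_pos Nat.card_pos Nat.card_pos h1 h2 h3 h.noo
  refine ⟨?_, ?_, r3, r4⟩
  · rw [isCentralizerLarge_iff]
    have hq := h.q_large
    rw [isCentralizerLarge_iff] at hq
    rw [← hq]
    exact r1
  · exact (eq_of_le_of_card_ge' h.vy_le (le_of_eq r2.symm)).symm

theorem q1_large (h : LA V U Q) [Finite P] : Cfsg.IsCentralizerLarge (Q ⊓ U) := h.a1.1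

theorem cz_q1 (h : LA V U Q) [Finite P] : cz (Q ⊓ U) = V ⊔ cz Q := h.a1.2.1

theorem coe_vy (h : LA V U Q) [Finite P] :
    ((V ⊔ cz Q : Subgroup P) : Set P) = (V : Set P) * (cz Q : Set P) :=
  coe_sup_eq_mul_of_card_eq V (cz Q) h.a1.2.2.2

/-- (A2) `Q = (Q ∩ U) Z(Q)` -/
theorem q_eq (h : LA V U Q) [Finite P] : (Q ⊓ U) ⊔ cz Q = Q := by
  have hl := h.q1_large
  obtain ⟨hc1, hc2⟩ := cd_centralizer (Q ⊓ U) hl
  obtain ⟨-, -, hcard, -, -⟩ := cd_lattice (Q ⊓ U) (cz (Q ⊓ U)) hl hc1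
  have hcoe := coe_sup_eq_mul_of_card_eq (Q ⊓ U) (cz (Q ⊓ U)) hcard
  have hRcl : Cfsg.IsCentrallyLarge ((Q ⊓ U) ⊔ cz (Q ⊓ U)) := by
    rw [isCentrallyLarge_iff, max_eq_max]
    exact clm_sup_cz (Q ⊓ U) hl
  have hmain := mcl_eq_inf_sup_center Q ((Q ⊓ U) ⊔ cz (Q ⊓ U)) h.mcl hRcl
  apply le_antisymm (sup_le inf_le_left h.czq_le)
  have hle : Q ⊓ ((Q ⊓ U) ⊔ cz (Q ⊓ U)) ≤ (Q ⊓ U) ⊔ cz Q := by
    rintro x ⟨hxQ, hxR⟩
    have hxR' : x ∈ (((Q ⊓ U) ⊔ cz (Q ⊓ U) : Subgroup P) : Set P) := hxR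
    rw [hcoe] at hxR'
    obtain ⟨a, ha, w, hw, rfl⟩ := hxR'
    have hw' : w ∈ ((V ⊔ cz Q : Subgroup P) : Set P) := by
      have : w ∈ cz (Q ⊓ U) := hw
      rw [h.cz_q1] at this; exact this
    rw [h.coe_vy] at hw'
    obtain ⟨v, hv, y, hy, rfl⟩ := hw'
    have haQ : a ∈ Q := (show a ∈ Q ⊓ U from ha).1
    have haU : a ∈ U := (show a ∈ Q ⊓ U from ha).2
    have hyQ : y ∈ Q := h.czq_le hy
    have hvQ : v ∈ Q := by
      have : v = a⁻¹ * (a * (v * y)) * y⁻¹ := by group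
      rw [this]
      exact Q.mul_mem (Q.mul_mem (Q.inv_mem haQ) hxQ) (Q.inv_mem hyQ)
    have hvU : v ∈ U := h.v_le_u hv
    have hav : a * v ∈ Q ⊓ U := ⟨Q.mul_mem haQ hvQ, U.mul_mem haU hvU⟩
    have : a * (v * y) = (a * v) * y := by group
    show a * (v * y) ∈ (Q ⊓ U) ⊔ cz Q
    rw [this]
    exact ((Q ⊓ U) ⊔ cz Q).mul_mem (le_sup_left (a := Q ⊓ U) hav) (le_sup_right (b := cz Q) hy)
  calc Q = (Q ⊓ ((Q ⊓ U) ⊔ cz (Q ⊓ U))) ⊔ cz Q := hmain.symm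
    _ ≤ ((Q ⊓ U) ⊔ cz Q) ⊔ cz Q := sup_le_sup_right hle _
    _ = (Q ⊓ U) ⊔ cz Q := by rw [sup_assoc, sup_idem]

/-- (A3) `Q ∩ V = C_V(Q)` -/
theorem inf_v (h : LA V U Q) [Finite P] : Q ⊓ V = V ⊓ cz Q := by
  apply le_antisymm
  · rintro x ⟨hxQ, hxV⟩
    refine ⟨hxV, ?_⟩
    have h1 : x ∈ cz (Q ⊓ U) := h.v_le_czq1 hxV
    have h2 : x ∈ cz (cz Q) := le_cz_cz Q hxQ
    have h3 : x ∈ cz ((Q ⊓ U) ⊔ cz Q) := by rw [cz_sup]; exact ⟨h1, h2⟩
    rw [h.q_eq] at h3; exact h3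
  · rintro x ⟨hxV, hxY⟩
    exact ⟨h.czq_le hxY, hxV⟩

theorem q1_inf_v (h : LA V U Q) [Finite P] : (Q ⊓ U) ⊓ V = V ⊓ cz Q := by
  rw [← h.inf_v]
  apply le_antisymm
  · exact inf_le_inf_right _ inf_le_left
  · rintro x ⟨hxQ, hxV⟩
    exact ⟨⟨hxQ, h.v_le_u hxV⟩, hxV⟩

theorem v_inf_y0 (h : LA V U Q) : V ⊓ (cz Q ⊓ U) = V ⊓ cz Q := by
  apply le_antisymm
  · exact inf_le_inf_left _ inf_le_left
  · rintro x ⟨hxV, hxY⟩
    exact ⟨hxV, hxY, h.v_le_u hxV⟩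

theorem q1_inf_y (h : LA V U Q) [Finite P] : (Q ⊓ U) ⊓ cz Q = cz Q ⊓ U := by
  apply le_antisymm
  · rintro x ⟨⟨_, hxU⟩, hxY⟩
    exact ⟨hxY, hxU⟩
  · rintro x ⟨hxY, hxU⟩
    exact ⟨⟨h.czq_le hxY, hxU⟩, hxY⟩

theorem z'_le (h : LA V U Q) [Finite P] :
    V ⊔ (cz Q ⊓ U) ≤ ((Q ⊓ U) ⊔ V) ⊓ cz ((Q ⊓ U) ⊔ V) := by
  have hy0 : cz Q ⊓ U ≤ Q ⊓ U := inf_le_inf_right _ h.czq_le
  apply le_inf
  · exact sup_le le_sup_right (hy0.trans le_sup_left)
  · rw [cz_sup]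
    apply sup_le
    · exact le_inf h.v_le_czq1 h.vab
    · apply le_inf
      · exact inf_le_left.trans (cz_anti inf_le_left)
      · rw [← h.uEq]; exact inf_le_right

/-- (A4) `T = (Q ∩ U) V` is centrally large, of the same order as `Q`, with centre `V (Z(Q) ∩ U)` -/
theorem a4 (h : LA V U Q) [Finite P] :
    Cfsg.IsCentrallyLarge ((Q ⊓ U) ⊔ V) ∧ Nat.card ↥((Q ⊓ U) ⊔ V) = Nat.card Q ∧
    Nat.card ↥(((Q ⊓ U) ⊔ V) ⊓ cz ((Q ⊓ U) ⊔ V)) = Nat.card ↥(cz Q) ∧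
    ((Q ⊓ U) ⊔ V) ⊓ cz ((Q ⊓ U) ⊔ V) = V ⊔ (cz Q ⊓ U) := by
  have h1 : Nat.card ↥(Q ⊓ U) * Nat.card V ≤
      Nat.card ↥((Q ⊓ U) ⊔ V) * Nat.card ↥(V ⊓ cz Q) := by
    have := card_mul_card_le_sup_mul_inf (Q ⊓ U) V
    rwa [h.q1_inf_v] at this
  have h2 : Nat.card V * Nat.card ↥(cz Q ⊓ U) ≤
      Nat.card ↥(V ⊔ (cz Q ⊓ U)) * Nat.card ↥(V ⊓ cz Q) := by
    have := card_mul_card_le_sup_mul_inf V (cz Q ⊓ U)
    rwa [h.v_inf_y0] at this
  have h3 : Nat.card ↥(V ⊔ (cz Q ⊓ U)) ≤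
      Nat.card ↥(((Q ⊓ U) ⊔ V) ⊓ cz ((Q ⊓ U) ⊔ V)) := Helper15.card_le_of_le h.z'_le
  have hmaxQ : Nat.card Q * Nat.card ↥(cz Q) = Cfsg.maxCentralProduct P := by
    have hq := h.q_large
    rw [isCentralizerLarge_iff] at hq
    rw [max_eq_max, ← hq]
    rfl
  have h4 : Nat.card ↥((Q ⊓ U) ⊔ V) * Nat.card ↥(((Q ⊓ U) ⊔ V) ⊓ cz ((Q ⊓ U) ⊔ V)) ≤
      Nat.card Q * Nat.card ↥(cz Q) := by
    rw [hmaxQ]; exact clm_le_max _
  have h5 : Nat.card ↥(Q ⊓ U) * Nat.card ↥(cz Q) = Nat.card Q * Nat.card ↥(cz Q ⊓ U) := by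
    obtain ⟨hc1, -⟩ := cd_centralizer Q h.q_large
    obtain ⟨-, -, hcard, -, -⟩ := cd_lattice (Q ⊓ U) (cz Q) h.q1_large hc1
    rw [h.q_eq, h.q1_inf_y] at hcard
    exact hcard
  have h6 := h.a1.2.2.1
  obtain ⟨r1, r2, r3, r4⟩ := arith_A4 (Nat.card ↥(Q ⊓ U)) (Nat.card V) (Nat.card ↥(cz Q))
    (Nat.card ↥(cz Q ⊓ U)) (Nat.card ↥(V ⊓ cz Q)) (Nat.card Q) (Nat.card ↥((Q ⊓ U) ⊔ V))
    (Nat.card ↥(V ⊔ (cz Q ⊓ U))) (Nat.card ↥(((Q ⊓ U) ⊔ V) ⊓ cz ((Q ⊓ U) ⊔ V)))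
    Nat.card_pos Nat.card_pos Nat.card_pos Nat.card_pos Nat.card_pos h1 h2 h3 h4 h5 h6
  refine ⟨?_, r2, r3, ?_⟩
  · rw [isCentrallyLarge_iff]
    unfold clm
    rw [r1, hmaxQ]
  · exact (eq_of_le_of_card_ge' h.z'_le (le_of_eq r4.symm)).symm

theorem t_le (h : LA V U Q) : (Q ⊓ U) ⊔ V ≤ U := sup_le inf_le_right h.v_le_u

/-- `T = (Q ∩ U) V` is a minimal centrally large subgroup. -/
theorem t_mcl (h : LA V U Q) [Finite P] : Cfsg.IsMinimalCentrallyLarge ((Q ⊓ U) ⊔ V) := by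
  obtain ⟨hcl, hcard, -, -⟩ := h.a4
  obtain ⟨R, hRT, hR⟩ := exists_mcl_le _ hcl
  have h1 := (mcl_card_eq R Q hR h.mcl).1
  have : R = (Q ⊓ U) ⊔ V := eq_of_le_of_card_ge' hRT (by rw [hcard, h1])
  rw [← this]; exact hR

end LA

/-- A centrally large subgroup with the order and centre order of a minimal one is minimal. -/
theorem mcl_of_card_eq [Finite P] {X X' : Subgroup P} (hX : Cfsg.IsMinimalCentrallyLarge X)
    (h1 : Nat.card X' = Nat.card X)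
    (h2 : Nat.card ↥(X' ⊓ cz X') = Nat.card ↥(X ⊓ cz X)) :
    Cfsg.IsMinimalCentrallyLarge X' := by
  have hcl : Cfsg.IsCentrallyLarge X' := by
    have := hX.1
    rw [isCentrallyLarge_iff] at this ⊢
    unfold clm at this ⊢
    rw [h1, h2, this]
  obtain ⟨R, hRT, hR⟩ := exists_mcl_le _ hcl
  have h3 := (mcl_card_eq R X hR hX).1
  have : R = X' := eq_of_le_of_card_ge' hRT (by rw [h1, h3])
  rw [← this]; exact hR

end Cfsg.Agent.Helper12.PU
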