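import Mathlib
import Cfsg.Prelude.Def_BaumannBlocks
import Cfsg.Agent.Helper1.PGroup
import Cfsg.Agent.Helper14.Frattini

/-! # Pushing up with centrally large subgroups: `Ω₁`, `℧¹` of abelian subgroups and Frattini subgroups

Blueprint: `departures/helper12_S2990_blueprint.md`, §4. -/

set_option autoImplicit false

namespace Cfsg.Agent.Helper12.PU

open Subgroup
open scoped commutatorElement

variable {P : Type*} [Group P]

/-- the `p`-th power endomorphism of an abelian subgroup -/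
def powHom (A : Subgroup P) (hA : ∀ x ∈ A, ∀ y ∈ A, x * y = y * x) (p : ℕ) : ↥A →* ↥A where
  toFun x := x ^ p
  map_one' := one_pow p
  map_mul' a b := (show Commute a b from Subtype.ext (hA a a.2 b b.2)).mul_pow p

theorem mem_omegaOne_iff {A : Subgroup P} (hA : ∀ x ∈ A, ∀ y ∈ A, x * y = y * x) (p : ℕ) {x : P} :
    x ∈ Cfsg.omegaOne p A ↔ x ∈ A ∧ x ^ p = 1 := by
  unfold Cfsg.omegaOne
  constructor
  · intro hx
    induction hx using Subgroup.closure_induction with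
    | mem y hy => exact hy
    | one => exact ⟨A.one_mem, one_pow p⟩
    | mul a b _ _ ha hb =>
      refine ⟨A.mul_mem ha.1 hb.1, ?_⟩
      rw [(show Commute a b from hA a ha.1 b hb.1).mul_pow, ha.2, hb.2, one_mul]
    | inv a _ ha => exact ⟨A.inv_mem ha.1, by rw [inv_pow, ha.2, inv_one]⟩
  · intro hx
    exact Subgroup.subset_closure hx

theorem mem_powerClosure_one_iff {A : Subgroup P} (hA : ∀ x ∈ A, ∀ y ∈ A, x * y = y * x) (p : ℕ)
    {y : P} : y ∈ Cfsg.powerClosure p 1 A ↔ ∃ x ∈ A, y = x ^ p := by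
  unfold Cfsg.powerClosure
  constructor
  · intro hy
    induction hy using Subgroup.closure_induction with
    | mem z hz =>
      obtain ⟨x, hx, rfl⟩ := hz
      exact ⟨x, hx, by rw [pow_one]⟩
    | one => exact ⟨1, A.one_mem, by simp⟩
    | mul a b _ _ ha hb =>
      obtain ⟨a', ha', rfl⟩ := ha
      obtain ⟨b', hb', rfl⟩ := hb
      exact ⟨a' * b', A.mul_mem ha' hb',
        ((show Commute a' b' from hA a' ha' b' hb').mul_pow p).symm⟩
    | inv a _ ha =>
      obtain ⟨a', ha', rfl⟩ := ha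
      exact ⟨a'⁻¹, A.inv_mem ha', by rw [inv_pow]⟩
  · rintro ⟨x, hx, rfl⟩
    exact Subgroup.subset_closure ⟨x, hx, by rw [pow_one]⟩

theorem omegaOne_eq_map_ker {A : Subgroup P} (hA : ∀ x ∈ A, ∀ y ∈ A, x * y = y * x) (p : ℕ) :
    Cfsg.omegaOne p A = (powHom A hA p).ker.map A.subtype := by
  ext x
  rw [mem_omegaOne_iff hA]
  constructor
  · rintro ⟨hx, hx1⟩
    refine ⟨⟨x, hx⟩, ?_, rfl⟩
    show (⟨x, hx⟩ : ↥A) ∈ (powHom A hA p).ker
    rw [MonoidHom.mem_ker]
    exact Subtype.ext hx1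
  · rintro ⟨a, ha, rfl⟩
    have ha' : a ∈ (powHom A hA p).ker := ha
    rw [MonoidHom.mem_ker] at ha'
    exact ⟨a.2, congrArg Subtype.val ha'⟩

theorem powerClosure_eq_map_range {A : Subgroup P} (hA : ∀ x ∈ A, ∀ y ∈ A, x * y = y * x)
    (p : ℕ) : Cfsg.powerClosure p 1 A = (powHom A hA p).range.map A.subtype := by
  ext y
  rw [mem_powerClosure_one_iff hA]
  constructor
  · rintro ⟨x, hx, rfl⟩
    exact ⟨⟨x, hx⟩ ^ p, ⟨⟨x, hx⟩, rfl⟩, rfl⟩
  · rintro ⟨_, ⟨a, rfl⟩, rfl⟩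
    exact ⟨a, a.2, rfl⟩

/-- `|Ω₁(A)| · |℧¹(A)| = |A|` for an abelian subgroup -/
theorem card_omegaOne_mul_card_powerClosure [Finite P] {A : Subgroup P}
    (hA : ∀ x ∈ A, ∀ y ∈ A, x * y = y * x) (p : ℕ) :
    Nat.card ↥(Cfsg.omegaOne p A) * Nat.card ↥(Cfsg.powerClosure p 1 A) = Nat.card A := by
  rw [omegaOne_eq_map_ker hA, powerClosure_eq_map_range hA, card_subtype, card_subtype]
  have h1 := Subgroup.card_eq_card_quotient_mul_card_subgroup (powHom A hA p).ker
  have h2 : Nat.card (↥A ⧸ (powHom A hA p).ker) = Nat.card ↥(powHom A hA p).range :=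
    Nat.card_congr (QuotientGroup.quotientKerEquivRange (powHom A hA p)).toEquiv
  rw [h1, h2, Nat.mul_comm]

/-- (O2) the counting step comparing `Ω₁` of two abelian subgroups of the same order -/
theorem pow_eq_of_card_omegaOne_le [Finite P] {Y W Y0 : Subgroup P} (p : ℕ)
    (hY : ∀ x ∈ Y, ∀ y ∈ Y, x * y = y * x) (hW : ∀ x ∈ W, ∀ y ∈ W, x * y = y * x)
    (hY0 : Y0 ≤ Y) (hcard : Nat.card W = Nat.card Y)
    (hpow : ∀ w ∈ W, ∃ y0 ∈ Y0, w ^ p = y0 ^ p)
    (hle : Nat.card ↥(Cfsg.omegaOne p W) ≤ Nat.card ↥(Cfsg.omegaOne p Y)) :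
    Nat.card ↥(Cfsg.omegaOne p W) = Nat.card ↥(Cfsg.omegaOne p Y) ∧
      ∀ y ∈ Y, ∃ y0 ∈ Y0, y ^ p = y0 ^ p := by
  have hY0c : ∀ x ∈ Y0, ∀ y ∈ Y0, x * y = y * x := fun x hx y hy => hY x (hY0 hx) y (hY0 hy)
  have h1 : Cfsg.powerClosure p 1 W ≤ Cfsg.powerClosure p 1 Y0 := by
    intro y hy
    rw [mem_powerClosure_one_iff hW] at hy
    obtain ⟨w, hw, rfl⟩ := hy
    obtain ⟨y0, hy0, h⟩ := hpow w hw
    rw [mem_powerClosure_one_iff hY0c]
    exact ⟨y0, hy0, h⟩
  have h2 : Cfsg.powerClosure p 1 Y0 ≤ Cfsg.powerClosure p 1 Y := by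
    intro y hy
    rw [mem_powerClosure_one_iff hY0c] at hy
    obtain ⟨y0, hy0, rfl⟩ := hy
    rw [mem_powerClosure_one_iff hY]
    exact ⟨y0, hY0 hy0, rfl⟩
  have c1 : Nat.card ↥(Cfsg.powerClosure p 1 W) ≤ Nat.card ↥(Cfsg.powerClosure p 1 Y0) :=
    Subgroup.card_le_of_le h1
  have c2 : Nat.card ↥(Cfsg.powerClosure p 1 Y0) ≤ Nat.card ↥(Cfsg.powerClosure p 1 Y) :=
    Subgroup.card_le_of_le h2
  have e1 := card_omegaOne_mul_card_powerClosure hW p
  have e2 := card_omegaOne_mul_card_powerClosure hY p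
  rw [hcard, ← e2] at e1
  set a := Nat.card ↥(Cfsg.omegaOne p W)
  set b := Nat.card ↥(Cfsg.powerClosure p 1 W)
  set c := Nat.card ↥(Cfsg.omegaOne p Y)
  set d := Nat.card ↥(Cfsg.powerClosure p 1 Y)
  set b0 := Nat.card ↥(Cfsg.powerClosure p 1 Y0)
  have hapos : 0 < a := Nat.card_pos
  have hdpos : 0 < d := Nat.card_pos
  have hbd : b ≤ d := c1.trans c2
  have hac : a = c := by
    by_contra hne
    have hlt : a < c := lt_of_le_of_ne hle hne
    have : a * b < c * d :=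
      calc a * b ≤ a * d := Nat.mul_le_mul_left _ hbd
        _ < c * d := Nat.mul_lt_mul_of_pos_right hlt hdpos
    omega
  have hbd' : b = d := by
    rw [hac] at e1
    exact Nat.eq_of_mul_eq_mul_left (hac ▸ hapos) e1
  have hb0d : b0 = d := le_antisymm c2 (hbd' ▸ c1)
  refine ⟨hac, ?_⟩
  have heq : Cfsg.powerClosure p 1 Y0 = Cfsg.powerClosure p 1 Y := by
    have : (Cfsg.powerClosure p 1 Y0 : Set P) = Cfsg.powerClosure p 1 Y := by
      apply Set.eq_of_subset_of_ncard_le (by exact_mod_cast h2) _ (Set.toFinite _)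
      simpa [← Nat.card_coe_set_eq] using (le_of_eq hb0d.symm)
    exact SetLike.coe_injective this
  intro y hy
  have : y ^ p ∈ Cfsg.powerClosure p 1 Y := by
    rw [mem_powerClosure_one_iff hY]; exact ⟨y, hy, rfl⟩
  rw [← heq, mem_powerClosure_one_iff hY0c] at this
  exact this

/-- `Φ(X)` as a subgroup of the ambient group -/
def frat (X : Subgroup P) : Subgroup P := (frattini ↥X).map X.subtype

theorem frat_le (X : Subgroup P) : frat X ≤ X := map_subtype_le _

theorem commutator_mem_frat [Finite P] {p : ℕ} [Fact p.Prime] (hP : IsPGroup p P)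
    {X : Subgroup P} {a b : P} (ha : a ∈ X) (hb : b ∈ X) : ⁅a, b⁆ ∈ frat X := by
  have hX : IsPGroup p ↥X := hP.to_subgroup X
  refine ⟨⁅(⟨a, ha⟩ : ↥X), ⟨b, hb⟩⁆, ?_, rfl⟩
  apply Cfsg.Agent.Helper1.IsPGroup.commutator_le_frattini hX
  exact Subgroup.commutator_mem_commutator (Subgroup.mem_top _) (Subgroup.mem_top _)

theorem pow_mem_frat [Finite P] {p : ℕ} [Fact p.Prime] (hP : IsPGroup p P)
    {X : Subgroup P} {a : P} (ha : a ∈ X) : a ^ p ∈ frat X := by
  have hX : IsPGroup p ↥X := hP.to_subgroup X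
  exact ⟨(⟨a, ha⟩ : ↥X) ^ p, Cfsg.Agent.Helper1.IsPGroup.pow_mem_frattini hX _, rfl⟩

/-- a subgroup of `X` containing all commutators and `p`-th powers of `X` contains `Φ(X)` -/
theorem frat_le_of_elemAb [Finite P] {p : ℕ} [Fact p.Prime] {X K : Subgroup P}
    (hcomm : ∀ a ∈ X, ∀ b ∈ X, ⁅a, b⁆ ∈ K) (hpow : ∀ a ∈ X, a ^ p ∈ K) : frat X ≤ K := by
  have := Cfsg.Agent.Helper14.frattini_le_of_elemAb (P := ↥X) p (K.subgroupOf X)
    (fun a b => by
      rw [mem_subgroupOf]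
      exact hcomm a a.2 b b.2)
    (fun a => by
      rw [mem_subgroupOf]
      exact hpow a a.2)
  rintro _ ⟨x, hx, rfl⟩
  exact this hx

theorem frat_mono [Finite P] {p : ℕ} [Fact p.Prime] (hP : IsPGroup p P) {X1 X : Subgroup P}
    (h : X1 ≤ X) : frat X1 ≤ frat X :=
  frat_le_of_elemAb (p := p) (fun _ ha _ hb => commutator_mem_frat hP (h ha) (h hb))
    (fun _ ha => pow_mem_frat hP (h ha))

/-- (O3) `Φ(X₁ C) = Φ(X₁)` if `C` is central in `X = X₁ C` and `p`-th powers of elements of `C` are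
`p`-th powers of elements of `X₁` -/
theorem frat_eq_of_central_mul [Finite P] {p : ℕ} [Fact p.Prime] (hP : IsPGroup p P)
    {X X1 C : Subgroup P} (h1 : X1 ≤ X)
    (hdec : ∀ x ∈ X, ∃ a ∈ X1, ∃ c ∈ C, x = a * c)
    (hC : ∀ c ∈ C, ∀ x ∈ X, c * x = x * c)
    (hpow : ∀ c ∈ C, ∃ y ∈ X1, c ^ p = y ^ p) : frat X = frat X1 := by
  apply le_antisymm _ (frat_mono hP h1)
  apply frat_le_of_elemAb (p := p)
  · intro x hx y hy
    obtain ⟨a, ha, c, hc, rfl⟩ := hdec x hx
    obtain ⟨b, hb, d, hd, rfl⟩ := hdec y hy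
    have hcX : ∀ z ∈ X, c * z = z * c := hC c hc
    have hdX : ∀ z ∈ X, d * z = z * d := hC d hd
    have hcX' : c ∈ X := by
      have : c = a⁻¹ * (a * c) := by group
      rw [this]; exact X.mul_mem (X.inv_mem (h1 ha)) hx
    have hdX' : d ∈ X := by
      have : d = b⁻¹ * (b * d) := by group
      rw [this]; exact X.mul_mem (X.inv_mem (h1 hb)) hy
    have e : ⁅a * c, b * d⁆ = ⁅a, b⁆ := by
      rw [commutatorElement_def, commutatorElement_def]
      have k1 : c * b = b * c := hcX b (h1 hb)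
      have k2 : c * d = d * c := hcX d hdX'
      have k3 : d * a = a * d := hdX a (h1 ha)
      have k4 : c * a = a * c := hcX a (h1 ha)
      have k5 : d * b = b * d := hdX b (h1 hb)
      calc a * c * (b * d) * (a * c)⁻¹ * (b * d)⁻¹
          = a * (c * b) * d * c⁻¹ * a⁻¹ * d⁻¹ * b⁻¹ := by group
        _ = a * (b * c) * d * c⁻¹ * a⁻¹ * d⁻¹ * b⁻¹ := by rw [k1]
        _ = a * b * (c * d) * c⁻¹ * a⁻¹ * d⁻¹ * b⁻¹ := by group
        _ = a * b * (d * c) * c⁻¹ * a⁻¹ * d⁻¹ * b⁻¹ := by rw [k2]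
        _ = a * b * (d * a⁻¹) * d⁻¹ * b⁻¹ := by group
        _ = a * b * (a⁻¹ * d) * d⁻¹ * b⁻¹ := by
            have : d * a⁻¹ = a⁻¹ * d :=
              ((show Commute d a from k3).inv_right).eq
            rw [this]
        _ = a * b * a⁻¹ * b⁻¹ := by group
    rw [e]
    exact commutator_mem_frat hP ha hb
  · intro x hx
    obtain ⟨a, ha, c, hc, rfl⟩ := hdec x hx
    have k4 : Commute a c := (hC c hc a (h1 ha)).symm
    rw [k4.mul_pow]
    obtain ⟨y, hy, hyc⟩ := hpow c hc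
    rw [hyc]
    exact (frat X1).mul_mem (pow_mem_frat hP ha) (pow_mem_frat hP hy)

/-- transport of `Φ` along an isomorphism of groups -/
theorem frattini_map_equiv {A B : Type*} [Group A] [Group B] (e : A ≃* B) :
    (frattini A).map e.toMonoidHom = frattini B := by
  apply le_antisymm
  · rw [Subgroup.map_le_iff_le_comap]
    exact frattini_le_comap_frattini_of_surjective e.surjective
  · intro b hb
    have h := frattini_le_comap_frattini_of_surjective (φ := e.symm.toMonoidHom) e.symm.surjective hb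
    refine ⟨e.symm b, h, ?_⟩
    simp

end Cfsg.Agent.Helper12.PU
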