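import Mathlib
import Cfsg.Prelude.Def_BaumannBlocks
import Cfsg.Agent.Helper12.PUA
import Cfsg.Agent.Helper12.PUO

/-! # Pushing up with centrally large subgroups: Lemma B (`Ω₁Z` and `Φ` of `Q` and `T`)

Blueprint: `departures/helper12_S2990_blueprint.md`, §4. -/

set_option autoImplicit false

namespace Cfsg.Agent.Helper12.PU

open Subgroup Cfsg.Agent.Helper15
open scoped Pointwise

variable {P : Type*} [Group P]

namespace LA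

variable {V U Q : Subgroup P}

/-- `Q = (Q ∩ U) Z(Q)` elementwise -/
theorem coe_q (h : LA V U Q) [Finite P] :
    (Q : Set P) = ((Q ⊓ U : Subgroup P) : Set P) * ((cz Q : Subgroup P) : Set P) := by
  obtain ⟨hc1, -⟩ := cd_centralizer Q h.q_large
  obtain ⟨-, -, hcard, -, -⟩ := cd_lattice (Q ⊓ U) (cz Q) h.q1_large hc1
  have := coe_sup_eq_mul_of_card_eq (Q ⊓ U) (cz Q) hcard
  rw [h.q_eq] at this
  exact this

/-- `T = (Q ∩ U) V` elementwise -/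
theorem coe_t (h : LA V U Q) [Finite P] :
    (((Q ⊓ U) ⊔ V : Subgroup P) : Set P) = ((Q ⊓ U : Subgroup P) : Set P) * (V : Set P) := by
  apply coe_sup_eq_mul_of_card_eq
  rw [h.q1_inf_v, h.a4.2.1, h.a1.2.2.1, Nat.mul_comm]

/-- `|V| |Z(Q) ∩ U| = |Z(Q)| |C_V(Q)|` -/
theorem card_v_y0 (h : LA V U Q) [Finite P] :
    Nat.card V * Nat.card ↥(cz Q ⊓ U) = Nat.card ↥(cz Q) * Nat.card ↥(V ⊓ cz Q) := by
  have h5 : Nat.card ↥(Q ⊓ U) * Nat.card ↥(cz Q) = Nat.card Q * Nat.card ↥(cz Q ⊓ U) := by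
    obtain ⟨hc1, -⟩ := cd_centralizer Q h.q_large
    obtain ⟨-, -, hcard, -, -⟩ := cd_lattice (Q ⊓ U) (cz Q) h.q1_large hc1
    rw [h.q_eq, h.q1_inf_y] at hcard
    exact hcard
  have h6 := h.a1.2.2.1
  have hpos : 0 < Nat.card ↥(Q ⊓ U) := Nat.card_pos
  apply Nat.eq_of_mul_eq_mul_left hpos
  calc Nat.card ↥(Q ⊓ U) * (Nat.card V * Nat.card ↥(cz Q ⊓ U))
      = (Nat.card V * Nat.card ↥(Q ⊓ U)) * Nat.card ↥(cz Q ⊓ U) := by ring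
    _ = (Nat.card Q * Nat.card ↥(V ⊓ cz Q)) * Nat.card ↥(cz Q ⊓ U) := by rw [h6]
    _ = (Nat.card Q * Nat.card ↥(cz Q ⊓ U)) * Nat.card ↥(V ⊓ cz Q) := by ring
    _ = (Nat.card ↥(Q ⊓ U) * Nat.card ↥(cz Q)) * Nat.card ↥(V ⊓ cz Q) := by rw [h5]
    _ = Nat.card ↥(Q ⊓ U) * (Nat.card ↥(cz Q) * Nat.card ↥(V ⊓ cz Q)) := by ring

/-- `Z(T) = V (Z(Q) ∩ U)` elementwise -/
theorem coe_w (h : LA V U Q) [Finite P] :
    ((V ⊔ (cz Q ⊓ U) : Subgroup P) : Set P) = (V : Set P) * ((cz Q ⊓ U : Subgroup P) : Set P) := by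
  apply coe_sup_eq_mul_of_card_eq
  rw [h.v_inf_y0, h.card_v_y0]
  congr 1
  rw [← h.a4.2.2.2]
  exact h.a4.2.2.1.symm

theorem y_comm (h : LA V U Q) [Finite P] : ∀ x ∈ cz Q, ∀ y ∈ cz Q, x * y = y * x := by
  intro x hx y hy
  exact (Subgroup.mem_centralizer_iff.mp hy x (h.czq_le hx))

theorem w_comm (X : Subgroup P) : ∀ x ∈ X ⊓ cz X, ∀ y ∈ X ⊓ cz X, x * y = y * x := by
  intro x hx y hy
  exact (Subgroup.mem_centralizer_iff.mp hy.2 x hx.1)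

/-- Lemma B: if `|Ω₁Z(T)| ≤ |Ω₁Z(Q)|` and `p`-th powers of `V` are `p`-th powers of `Z(Q) ∩ U`, then
`|Ω₁Z(T)| = |Ω₁Z(Q)|` and `Φ(T) = Φ(Q)`. -/
theorem lemmaB (h : LA V U Q) [Finite P] {p : ℕ} [Fact p.Prime] (hP : IsPGroup p P)
    (hpowV : ∀ v ∈ V, ∃ z ∈ cz Q ⊓ U, v ^ p = z ^ p)
    (hmax : Nat.card ↥(Cfsg.omegaOneCenter p ((Q ⊓ U) ⊔ V)) ≤
      Nat.card ↥(Cfsg.omegaOneCenter p Q)) :
    Nat.card ↥(Cfsg.omegaOneCenter p ((Q ⊓ U) ⊔ V)) = Nat.card ↥(Cfsg.omegaOneCenter p Q) ∧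
      frat ((Q ⊓ U) ⊔ V) = frat Q := by
  have hQY : Q ⊓ cz Q = cz Q := inf_eq_right.mpr h.czq_le
  have hTW : ((Q ⊓ U) ⊔ V) ⊓ cz ((Q ⊓ U) ⊔ V) = V ⊔ (cz Q ⊓ U) := h.a4.2.2.2
  have hWc : ∀ x ∈ V ⊔ (cz Q ⊓ U), ∀ y ∈ V ⊔ (cz Q ⊓ U), x * y = y * x := by
    rw [← hTW]; exact w_comm _
  have hcard : Nat.card ↥(V ⊔ (cz Q ⊓ U)) = Nat.card ↥(cz Q) := by
    rw [← hTW]; exact h.a4.2.2.1
  have hpowW : ∀ w ∈ V ⊔ (cz Q ⊓ U), ∃ y0 ∈ cz Q ⊓ U, w ^ p = y0 ^ p := by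
    intro w hw
    have hw' : w ∈ ((V ⊔ (cz Q ⊓ U) : Subgroup P) : Set P) := hw
    rw [h.coe_w] at hw'
    obtain ⟨v, hv, y, hy, rfl⟩ := hw'
    obtain ⟨z, hz, hvz⟩ := hpowV v hv
    refine ⟨z * y, (cz Q ⊓ U).mul_mem hz hy, ?_⟩
    have c1 : Commute v y :=
      hWc v (le_sup_left (a := V) hv) y (le_sup_right (b := cz Q ⊓ U) hy)
    have c2 : Commute z y := h.y_comm z hz.1 y hy.1
    show (v * y) ^ p = (z * y) ^ p
    rw [c1.mul_pow, c2.mul_pow, hvz]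
  unfold Cfsg.omegaOneCenter at hmax ⊢
  rw [hQY, hTW] at hmax ⊢
  obtain ⟨r1, r2⟩ := pow_eq_of_card_omegaOne_le p h.y_comm hWc (inf_le_left : cz Q ⊓ U ≤ cz Q)
    hcard hpowW hmax
  refine ⟨r1, ?_⟩
  have hy0q1 : cz Q ⊓ U ≤ Q ⊓ U := inf_le_inf_right _ h.czq_le
  have e1 : frat Q = frat (Q ⊓ U) := by
    apply frat_eq_of_central_mul hP (inf_le_left : Q ⊓ U ≤ Q) (C := cz Q)
    · intro x hx
      have hx' : x ∈ (Q : Set P) := hx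
      rw [h.coe_q] at hx'
      obtain ⟨a, ha, c, hc, rfl⟩ := hx'
      exact ⟨a, ha, c, hc, rfl⟩
    · intro c hc x hx
      exact (Subgroup.mem_centralizer_iff.mp hc x hx).symm
    · intro c hc
      obtain ⟨y0, hy0, hcy⟩ := r2 c hc
      exact ⟨y0, hy0q1 hy0, hcy⟩
  have e2 : frat ((Q ⊓ U) ⊔ V) = frat (Q ⊓ U) := by
    apply frat_eq_of_central_mul hP (le_sup_left : Q ⊓ U ≤ (Q ⊓ U) ⊔ V) (C := V)
    · intro x hx
      have hx' : x ∈ (((Q ⊓ U) ⊔ V : Subgroup P) : Set P) := hx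
      rw [h.coe_t] at hx'
      obtain ⟨a, ha, c, hc, rfl⟩ := hx'
      exact ⟨a, ha, c, hc, rfl⟩
    · intro c hc x hx
      have hc' : c ∈ ((Q ⊓ U) ⊔ V) ⊓ cz ((Q ⊓ U) ⊔ V) := by
        rw [hTW]; exact le_sup_left (a := V) hc
      exact (Subgroup.mem_centralizer_iff.mp hc'.2 x hx).symm
    · intro c hc
      obtain ⟨z, hz, hcz⟩ := hpowV c hc
      exact ⟨z, hy0q1 hz, hcz⟩
  rw [e1, e2]

end LA

/-- `|Ω₁Z|` is an isomorphism invariant (one inequality) -/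
theorem card_omegaOneCenter_le_of_equiv [Finite P] (p : ℕ) {X X' : Subgroup P} (e : ↥X ≃* ↥X') :
    Nat.card ↥(Cfsg.omegaOneCenter p X) ≤ Nat.card ↥(Cfsg.omegaOneCenter p X') := by
  unfold Cfsg.omegaOneCenter
  have hmX : ∀ x : ↥(Cfsg.omegaOne p (X ⊓ cz X)), (x : P) ∈ X :=
    fun x => ((mem_omegaOne_iff (LA.w_comm X) p).mp x.2).1.1
  have hmC : ∀ x : ↥(Cfsg.omegaOne p (X ⊓ cz X)), (x : P) ∈ cz X :=
    fun x => ((mem_omegaOne_iff (LA.w_comm X) p).mp x.2).1.2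
  have hmP : ∀ x : ↥(Cfsg.omegaOne p (X ⊓ cz X)), (x : P) ^ p = 1 :=
    fun x => ((mem_omegaOne_iff (LA.w_comm X) p).mp x.2).2
  have hf : ∀ x : ↥(Cfsg.omegaOne p (X ⊓ cz X)),
      ((e ⟨(x : P), hmX x⟩ : ↥X') : P) ∈ Cfsg.omegaOne p (X' ⊓ cz X') := by
    intro x
    rw [mem_omegaOne_iff (LA.w_comm X') p]
    refine ⟨⟨(e ⟨(x : P), hmX x⟩).2, ?_⟩, ?_⟩
    · show ((e ⟨(x : P), hmX x⟩ : ↥X') : P) ∈ cz X'
      rw [Subgroup.mem_centralizer_iff]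
      intro y' hy'
      obtain ⟨y, hy⟩ := e.surjective ⟨y', hy'⟩
      have hc : (y : P) * (x : P) = (x : P) * (y : P) :=
        Subgroup.mem_centralizer_iff.mp (hmC x) (y : P) y.2
      have hc' : y * ⟨(x : P), hmX x⟩ = ⟨(x : P), hmX x⟩ * y := Subtype.ext hc
      have h3 : e y * e ⟨(x : P), hmX x⟩ = e ⟨(x : P), hmX x⟩ * e y := by
        rw [← map_mul, ← map_mul, hc']
      rw [hy] at h3
      exact congrArg Subtype.val h3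
    · have h1 : (⟨(x : P), hmX x⟩ : ↥X) ^ p = 1 := Subtype.ext (hmP x)
      have h2 : (e ⟨(x : P), hmX x⟩) ^ p = 1 := by rw [← map_pow, h1, map_one]
      exact congrArg Subtype.val h2
  apply Nat.card_le_card_of_injective
    (fun x : ↥(Cfsg.omegaOne p (X ⊓ cz X)) =>
      (⟨((e ⟨(x : P), hmX x⟩ : ↥X') : P), hf x⟩ : ↥(Cfsg.omegaOne p (X' ⊓ cz X'))))
  intro x y hxy
  have h1 : ((e ⟨(x : P), hmX x⟩ : ↥X') : P) = ((e ⟨(y : P), hmX y⟩ : ↥X') : P) :=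
    congrArg (fun t : ↥(Cfsg.omegaOne p (X' ⊓ cz X')) => (t : P)) hxy
  have h2 : (⟨(x : P), hmX x⟩ : ↥X) = ⟨(y : P), hmX y⟩ := e.injective (Subtype.ext h1)
  have h3 : (x : P) = (y : P) := congrArg (fun t : ↥X => (t : P)) h2
  exact Subtype.ext h3

theorem card_omegaOneCenter_of_equiv [Finite P] (p : ℕ) {X X' : Subgroup P} (e : ↥X ≃* ↥X') :
    Nat.card ↥(Cfsg.omegaOneCenter p X') = Nat.card ↥(Cfsg.omegaOneCenter p X) :=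
  le_antisymm (card_omegaOneCenter_le_of_equiv p e.symm) (card_omegaOneCenter_le_of_equiv p e)

end Cfsg.Agent.Helper12.PU
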