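import Mathlib
import Cfsg.Prelude.Def_BaumannBlocks
import Cfsg.Agent.Helper12.PUA
import Cfsg.Agent.Helper28.S2768ASM
import Cfsg.Agent.Helper1.S2768VF2
import Cfsg.Agent.Helper3.S2768NOO
import Cfsg.Agent.Helper6.S2768CASE2A

/-! # Pushing up with centrally large subgroups: the group-level glue

Blueprint: `departures/helper12_S2990_blueprint.md`, §0, §2, §3. -/

set_option autoImplicit false

namespace Cfsg.Agent.Helper12.PU

open Subgroup Cfsg.Agent.Helper15

section iso

variable {P : Type*} [Group P]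

/-- isomorphic subgroups have the same order and the same centre order -/
theorem card_center_of_equiv {X X' : Subgroup P} (e : ↥X ≃* ↥X') :
    Nat.card X' = Nat.card X ∧ Nat.card ↥(X' ⊓ cz X') = Nat.card ↥(X ⊓ cz X) := by
  refine ⟨(Nat.card_congr e.toEquiv).symm, ?_⟩
  rw [← card_center_eq, ← card_center_eq]
  exact (Nat.card_congr (Subgroup.centerCongr e).toEquiv).symm

theorem mcl_of_equiv [Finite P] {X X' : Subgroup P} (hX : Cfsg.IsMinimalCentrallyLarge X)
    (e : ↥X ≃* ↥X') : Cfsg.IsMinimalCentrallyLarge X' := by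
  obtain ⟨h1, h2⟩ := card_center_of_equiv e
  exact mcl_of_card_eq hX h1 h2

theorem mcl_map_equiv [Finite P] {X : Subgroup P} (hX : Cfsg.IsMinimalCentrallyLarge X)
    (ϕ : P ≃* P) : Cfsg.IsMinimalCentrallyLarge (X.map ϕ.toMonoidHom) :=
  mcl_of_equiv hX (X.equivMapOfInjective ϕ.toMonoidHom ϕ.injective)

/-- the derived subgroup of a minimal centrally large subgroup is characteristic -/
theorem commutator_mcl_characteristic [Finite P] {Q : Subgroup P}
    (hQ : Cfsg.IsMinimalCentrallyLarge Q) : (⁅Q, Q⁆).Characteristic := by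
  rw [Subgroup.characteristic_iff_map_eq]
  intro ϕ
  rw [Subgroup.map_commutator]
  exact mcl_commutator_eq _ _ (mcl_map_equiv hQ ϕ) hQ

theorem normal_of_le_center {G : Type*} [Group G] {H : Subgroup G} (h : H ≤ Subgroup.center G) :
    H.Normal := by
  refine ⟨fun n hn g => ?_⟩
  have := Subgroup.mem_center_iff.mp (h hn) g
  have : g * n * g⁻¹ = n := by rw [this]; group
  rw [this]; exact hn

theorem normal_of_map_conj_le {G : Type*} [Group G] {H : Subgroup G}
    (h : ∀ g : G, H.map (MulAut.conj g).toMonoidHom ≤ H) : H.Normal := by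
  refine ⟨fun n hn g => ?_⟩
  apply h g
  exact ⟨n, hn, by simp [MulAut.conj_apply]⟩

end iso

section conj

variable {G : Type*} [Group G]

/-- conjugate by `g` of a subgroup of `↥S`, cut back to `S` -/
def cjS (S : Subgroup G) (g : G) (X : Subgroup ↥S) : Subgroup ↥S :=
  ((X.map S.subtype).map (MulAut.conj g).toMonoidHom).subgroupOf S

variable {S N : Subgroup G}

theorem map_conj_le_of_normal (hN : N.Normal) {H : Subgroup G} (hH : H ≤ N) (g : G) :
    H.map (MulAut.conj g).toMonoidHom ≤ N := by
  rintro _ ⟨x, hx, rfl⟩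
  exact hN.conj_mem x (hH hx) g

theorem map_subtype_le_of_le {X : Subgroup ↥S} (hX : X ≤ N.subgroupOf S) :
    X.map S.subtype ≤ N := by
  rintro _ ⟨x, hx, rfl⟩
  exact hX hx

theorem map_cjS (hN : N.Normal) (hNS : N ≤ S) {X : Subgroup ↥S} (hX : X ≤ N.subgroupOf S)
    (g : G) :
    (cjS S g X).map S.subtype = (X.map S.subtype).map (MulAut.conj g).toMonoidHom := by
  unfold cjS
  apply map_subgroupOf_eq_of_le
  exact (map_conj_le_of_normal hN (map_subtype_le_of_le hX) g).trans hNS

theorem cjS_le (hN : N.Normal) {X : Subgroup ↥S} (hX : X ≤ N.subgroupOf S) (g : G) :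
    cjS S g X ≤ N.subgroupOf S := by
  intro x hx
  have h1 : (x : G) ∈ (X.map S.subtype).map (MulAut.conj g).toMonoidHom := hx
  exact map_conj_le_of_normal hN (map_subtype_le_of_le hX) g h1

theorem nonempty_cjS_equiv (hN : N.Normal) (hNS : N ≤ S) {X : Subgroup ↥S}
    (hX : X ≤ N.subgroupOf S) (g : G) : Nonempty (↥X ≃* ↥(cjS S g X)) := by
  have hle : (X.map S.subtype).map (MulAut.conj g).toMonoidHom ≤ S :=
    (map_conj_le_of_normal hN (map_subtype_le_of_le hX) g).trans hNS
  exact ⟨((X.equivMapOfInjective S.subtype S.subtype_injective).trans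
    ((X.map S.subtype).equivMapOfInjective (MulAut.conj g).toMonoidHom
      (MulAut.conj g).injective)).trans (subgroupOfEquivOfLe hle).symm⟩

theorem mcl_cjS [Finite G] (hN : N.Normal) (hNS : N ≤ S) {X : Subgroup ↥S}
    (hX : X ≤ N.subgroupOf S) (hm : Cfsg.IsMinimalCentrallyLarge X) (g : G) :
    Cfsg.IsMinimalCentrallyLarge (cjS S g X) := by
  obtain ⟨e⟩ := nonempty_cjS_equiv hN hNS hX g
  exact mcl_of_equiv hm e

theorem map_commutator_cjS (hN : N.Normal) (hNS : N ≤ S) {X : Subgroup ↥S}
    (hX : X ≤ N.subgroupOf S) (g : G) :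
    (⁅cjS S g X, cjS S g X⁆).map S.subtype =
      ((⁅X, X⁆).map S.subtype).map (MulAut.conj g).toMonoidHom := by
  rw [Subgroup.map_commutator, map_cjS hN hNS hX g, Subgroup.map_commutator,
    Subgroup.map_commutator]

end conj

section main

open Cfsg.Agent.S2768P

variable {G : Type*} [Group G] [Finite G] {p : ℕ} [Fact p.Prime]

/-- the hypotheses of Lemma A hold in `↥S` for `V = ⟨Z(S)^G⟩`, `U = O_p(G)` -/
theorem la_of_basic (S : Sylow p G) (M : Subgroup G) (hb : Basic p S M)
    (hZ : ¬ (Z (S : Subgroup G)).Normal) (Q : Subgroup ↥(S : Subgroup G))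
    (hQ : Cfsg.IsMinimalCentrallyLarge Q) :
    LA ((V (S : Subgroup G)).subgroupOf (S : Subgroup G))
      ((Cfsg.pCore p G).subgroupOf (S : Subgroup G)) Q := by
  have hUS : Cfsg.pCore p G ≤ (S : Subgroup G) := Cfsg.Agent.Helper14.pCore_le_sylow p S
  obtain ⟨hVU, hUC, -, -⟩ := VF1 S M hb
  have hVS : V (S : Subgroup G) ≤ (S : Subgroup G) := hVU.trans hUS
  have hVF2 := VF2 S M hb hZ
  have huEq : (Cfsg.pCore p G).subgroupOf (S : Subgroup G) =
      cz ((V (S : Subgroup G)).subgroupOf (S : Subgroup G)) := by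
    ext x
    rw [mem_subgroupOf, Subgroup.mem_centralizer_iff]
    constructor
    · intro hx w hw
      have h1 := Subgroup.mem_centralizer_iff.mp (hUC hx) (w : G) hw
      exact Subtype.ext h1
    · intro hx
      rw [← hVF2]
      refine ⟨x.2, Subgroup.mem_centralizer_iff.mpr ?_⟩
      intro v hv
      have := hx ⟨v, hVS hv⟩ hv
      exact congrArg Subtype.val this
  refine ⟨huEq, ?_, hQ, ?_⟩
  · rw [← huEq]
    exact subgroupOf_mono _ hVU
  · have hnoo := NOO S M hb hZ (Q.map (S : Subgroup G).subtype) (map_subtype_le Q)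
    have e1 : Nat.card ↥(Q.map (S : Subgroup G).subtype) = Nat.card Q := card_subtype _ _
    have e2 : Nat.card ↥((V (S : Subgroup G)).subgroupOf (S : Subgroup G)) =
        Nat.card ↥(V (S : Subgroup G)) := Nat.card_congr (subgroupOfEquivOfLe hVS).toEquiv
    have e3 : ((V (S : Subgroup G)).subgroupOf (S : Subgroup G) ⊓ cz Q).map
        (S : Subgroup G).subtype =
        V (S : Subgroup G) ⊓ centralizer ((Q.map (S : Subgroup G).subtype : Subgroup G) : Set G) := by
      ext y
      constructor
      · rintro ⟨x, ⟨hx1, hx2⟩, rfl⟩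
        refine ⟨hx1, Subgroup.mem_centralizer_iff.mpr ?_⟩
        rintro _ ⟨q, hq, rfl⟩
        have := Subgroup.mem_centralizer_iff.mp hx2 q hq
        exact congrArg Subtype.val this
      · rintro ⟨hy1, hy2⟩
        refine ⟨⟨y, hVS hy1⟩, ⟨hy1, Subgroup.mem_centralizer_iff.mpr ?_⟩, rfl⟩
        intro q hq
        have := Subgroup.mem_centralizer_iff.mp hy2 (q : G) ⟨q, hq, rfl⟩
        exact Subtype.ext this
    have e4 : (Q ⊓ (Cfsg.pCore p G).subgroupOf (S : Subgroup G)).map (S : Subgroup G).subtype =
        Q.map (S : Subgroup G).subtype ⊓ Cfsg.pCore p G := by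
      ext y
      constructor
      · rintro ⟨x, ⟨hx1, hx2⟩, rfl⟩
        exact ⟨⟨x, hx1, rfl⟩, hx2⟩
      · rintro ⟨⟨q, hq, rfl⟩, hy2⟩
        exact ⟨q, ⟨hq, hy2⟩, rfl⟩
    rw [← e1, e2, ← card_subtype _ ((V (S : Subgroup G)).subgroupOf (S : Subgroup G) ⊓ cz Q), e3,
      ← card_subtype _ (Q ⊓ (Cfsg.pCore p G).subgroupOf (S : Subgroup G)), e4]
    exact hnoo

/-- a normal subgroup not meeting `S` inside `O_p(G)` generates `G` together with `S` -/
theorem sup_eq_top_of_not_le (S : Sylow p G) (M : Subgroup G) (hb : Basic p S M)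
    (N : Subgroup G) (hN : N.Normal) {y : G} (hyN : y ∈ N) (hyS : y ∈ (S : Subgroup G))
    (hyU : y ∉ Cfsg.pCore p G) : N ⊔ (S : Subgroup G) = ⊤ := by
  by_contra hne
  have hle : N ⊔ (S : Subgroup G) ≤ M := hb.proper_le _ le_sup_right hne
  obtain ⟨g, -, hg⟩ := SetLike.exists_of_lt (lt_top_iff_ne_top.mpr hb.M_ne_top)
  apply hyU
  rw [← hb.lemmaA g hg]
  refine ⟨hyS, ?_⟩
  show y ∈ cj g M
  rw [NOO_aux_mem_cj]
  apply hle
  apply le_sup_left (a := N)
  have := hN.conj_mem y hyN g⁻¹
  simpa using this

/-- from the frozen pushing-up hypothesis to helper28's `Basic` -/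
theorem exists_basic {S : Subgroup G} (hE : Cfsg.IsPushingUpSituation p S) :
    ∃ (P : Sylow p G) (M : Subgroup G), (P : Subgroup G) = S ∧ Basic p P M := by
  obtain ⟨-, ⟨P, hP⟩, hE1, hE2, K, hK, F, hFf, hFt, n, hF, hE3⟩ := hE
  have hn : 1 ≤ n := by
    by_contra h
    have h0 : n = 0 := by omega
    subst h0
    have := Fintype.one_lt_card (α := F)
    rw [hF] at this
    simp at this
  subst hP
  obtain ⟨M, hyp⟩ := ASM_aux_hyp P hE1 hE2 K F n hn hF hE3
  exact ⟨P, M, rfl, ASM_aux_basic P M K hyp⟩

/-- the core of S2990 -/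
theorem s2990_core (S : Sylow p G) (M : Subgroup G) (hb : Basic p S M)
    (Q : Subgroup ↥(S : Subgroup G)) (hQ : Cfsg.IsMinimalCentrallyLarge Q) :
    (Z (S : Subgroup G) ⊓ (⁅Q, Q⁆).map (S : Subgroup G).subtype).Normal ∨
      ((Cfsg.minimalCentrallyLargeJoin ↥(S : Subgroup G)).map (S : Subgroup G).subtype).Normal := by
  have hUS : Cfsg.pCore p G ≤ (S : Subgroup G) := Cfsg.Agent.Helper14.pCore_le_sylow p S
  have hUn : (Cfsg.pCore p G).Normal := Cfsg.Agent.Helper14.pCore_normal p
  by_cases hZ : (Z (S : Subgroup G)).Normal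
  · left
    have := hZ
    have hCn : (centralizer ((Z (S : Subgroup G) : Subgroup G) : Set G)).Normal :=
      Subgroup.normal_centralizer
    have hSC : (S : Subgroup G) ≤ centralizer ((Z (S : Subgroup G) : Subgroup G) : Set G) := by
      intro s hs
      rw [mem_centralizer_iff]
      intro z hz
      have hz' : z ∈ (S : Subgroup G) ⊓ centralizer ((S : Subgroup G) : Set G) := hz
      exact (mem_centralizer_iff.mp (mem_inf.mp hz').2 s hs).symm
    have htop := CASE2A_aux_eq_top S M hb _ hCn hSC
    apply normal_of_le_center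
    intro x hx
    rw [Subgroup.mem_center_iff]
    intro g
    have hg : g ∈ centralizer ((Z (S : Subgroup G) : Subgroup G) : Set G) := by
      rw [htop]; exact Subgroup.mem_top g
    exact (mem_centralizer_iff.mp hg x hx.1).symm
  · by_cases hall : ∀ R : Subgroup ↥(S : Subgroup G), Cfsg.IsMinimalCentrallyLarge R →
        R ≤ (Cfsg.pCore p G).subgroupOf (S : Subgroup G)
    · right
      apply normal_of_map_conj_le
      intro g
      rw [Subgroup.map_map, Subgroup.map_le_iff_le_comap]
      unfold Cfsg.minimalCentrallyLargeJoin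
      apply sSup_le
      intro R hR
      rw [← Subgroup.map_le_iff_le_comap, ← Subgroup.map_map, ← map_cjS hUn hUS (hall R hR) g]
      apply Subgroup.map_mono
      exact le_sSup (mcl_cjS hUn hUS (hall R hR) hR g)
    · left
      push Not at hall
      obtain ⟨Q0, hQ0, hQ0U⟩ := hall
      have hla := la_of_basic S M hb hZ Q0 hQ0
      set T := (Q0 ⊓ (Cfsg.pCore p G).subgroupOf (S : Subgroup G)) ⊔
        (V (S : Subgroup G)).subgroupOf (S : Subgroup G) with hT
      have hTm : Cfsg.IsMinimalCentrallyLarge T := hla.t_mcl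
      have hTU : T ≤ (Cfsg.pCore p G).subgroupOf (S : Subgroup G) := hla.t_le
      set D := (⁅Q, Q⁆).map (S : Subgroup G).subtype with hD
      have hDT : D = (⁅T, T⁆).map (S : Subgroup G).subtype := by
        rw [hD, mcl_commutator_eq Q T hQ hTm]
      have hDn : D.Normal := by
        apply normal_of_map_conj_le
        intro g
        rw [hDT, ← map_commutator_cjS hUn hUS hTU g,
          mcl_commutator_eq _ T (mcl_cjS hUn hUS hTU hTm g) hTm]
      -- an element of `Z(Q0)` outside `U`
      have hY : ¬ cz Q0 ≤ (Cfsg.pCore p G).subgroupOf (S : Subgroup G) := by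
        intro hle
        apply hQ0U
        rw [← hla.q_eq]
        exact sup_le inf_le_right hle
      obtain ⟨y, hy, hyU⟩ := SetLike.not_le_iff_exists.mp hY
      have := hDn
      have hNn : (centralizer (D : Set G)).Normal := Subgroup.normal_centralizer
      have hyN : (y : G) ∈ centralizer (D : Set G) := by
        rw [mem_centralizer_iff]
        rintro _ ⟨d, hd, rfl⟩
        have hd' : d ∈ Q0 := by
          rw [mcl_commutator_eq Q Q0 hQ hQ0] at hd
          have hle' : ⁅Q0, Q0⁆ ≤ Q0 := by
            rw [Subgroup.commutator_le]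
            intro a ha b hb'
            rw [commutatorElement_def]
            exact Q0.mul_mem (Q0.mul_mem (Q0.mul_mem ha hb') (Q0.inv_mem ha)) (Q0.inv_mem hb')
          exact hle' hd
        have := Subgroup.mem_centralizer_iff.mp hy d hd'
        exact congrArg Subtype.val this
      have htop := sup_eq_top_of_not_le S M hb _ hNn hyN y.2 hyU
      apply normal_of_le_center
      intro x hx
      rw [Subgroup.mem_center_iff]
      intro g
      have hx1 : x ∈ (S : Subgroup G) ⊓ centralizer ((S : Subgroup G) : Set G) := hx.1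
      have hg : g ∈ centralizer ({x} : Set G) := by
        have hle : centralizer (D : Set G) ⊔ (S : Subgroup G) ≤ centralizer ({x} : Set G) := by
          apply sup_le
          · intro n hn
            rw [mem_centralizer_iff]
            intro z hz
            rw [Set.mem_singleton_iff] at hz
            subst hz
            exact (mem_centralizer_iff.mp hn z hx.2)
          · intro s hs
            rw [mem_centralizer_iff]
            intro z hz
            rw [Set.mem_singleton_iff] at hz
            subst hz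
            exact (mem_centralizer_iff.mp hx1.2 s hs).symm
        apply hle
        rw [htop]; exact Subgroup.mem_top g
      exact (mem_centralizer_iff.mp hg x rfl).symm

end main

end Cfsg.Agent.Helper12.PU
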