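import Mathlib
import Cfsg.Prelude.Def_BaumannBlocks
import Cfsg.Agent.Helper12.PUG
import Cfsg.Agent.Helper12.PUB
import Cfsg.Agent.Helper26.GenJ2

/-! # Pushing up with centrally large subgroups: the group-level glue for S2989

Blueprint: `departures/helper12_S2990_blueprint.md`, §4. -/

set_option autoImplicit false

namespace Cfsg.Agent.Helper12.PU

open Subgroup Cfsg.Agent.Helper15
open scoped commutatorElement

section conj2

variable {G : Type*} [Group G] {S N : Subgroup G}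

theorem exists_cjS_equiv (hN : N.Normal) (hNS : N ≤ S) {X : Subgroup ↥S}
    (hX : X ≤ N.subgroupOf S) (g : G) :
    ∃ e : ↥X ≃* ↥(cjS S g X),
      ∀ x : ↥X, (((e x : ↥(cjS S g X)) : ↥S) : G) = g * ((x : ↥S) : G) * g⁻¹ := by
  have hle : (X.map S.subtype).map (MulAut.conj g).toMonoidHom ≤ S :=
    (map_conj_le_of_normal hN (map_subtype_le_of_le hX) g).trans hNS
  refine ⟨((X.equivMapOfInjective S.subtype S.subtype_injective).trans
    ((X.map S.subtype).equivMapOfInjective (MulAut.conj g).toMonoidHom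
      (MulAut.conj g).injective)).trans (subgroupOfEquivOfLe hle).symm, fun x => ?_⟩
  rfl

theorem map_frat_cjS (hN : N.Normal) (hNS : N ≤ S) {X : Subgroup ↥S}
    (hX : X ≤ N.subgroupOf S) (g : G) :
    (frat (cjS S g X)).map S.subtype =
      ((frat X).map S.subtype).map (MulAut.conj g).toMonoidHom := by
  obtain ⟨e, he⟩ := exists_cjS_equiv hN hNS hX g
  unfold frat
  rw [← frattini_map_equiv e, Subgroup.map_map, Subgroup.map_map, Subgroup.map_map,
    Subgroup.map_map]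
  congr 1
  ext x
  simp only [MonoidHom.coe_comp, Function.comp_apply, Subgroup.coe_subtype, MulEquiv.coe_toMonoidHom,
    MulAut.conj_apply]
  exact he x

theorem card_omegaOneCenter_cjS [Finite G] (p : ℕ) (hN : N.Normal) (hNS : N ≤ S)
    {X : Subgroup ↥S} (hX : X ≤ N.subgroupOf S) (g : G) :
    Nat.card ↥(Cfsg.omegaOneCenter p (cjS S g X)) = Nat.card ↥(Cfsg.omegaOneCenter p X) := by
  obtain ⟨e⟩ := nonempty_cjS_equiv hN hNS hX g
  exact card_omegaOneCenter_of_equiv p e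

end conj2

section main2

open Cfsg.Agent.S2768P

variable {G : Type*} [Group G] [Finite G] {p : ℕ} [Fact p.Prime]

theorem z_comm (S : Subgroup G) : ∀ a ∈ Z S, ∀ b ∈ Z S, a * b = b * a := by
  intro a ha b hb
  exact (mem_centralizer_iff.mp hb.2 a ha.1)

theorem v_comm (S : Sylow p G) (M : Subgroup G) (hb : Basic p S M) :
    ∀ a ∈ V (S : Subgroup G), ∀ b ∈ V (S : Subgroup G), a * b = b * a := by
  obtain ⟨hVQ, hQV, -, -⟩ := VF1 S M hb
  intro a ha b hb'
  have h1 : a ∈ centralizer (V (S : Subgroup G) : Set G) := hQV (hVQ ha)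
  exact (Subgroup.mem_centralizer_iff.mp h1 b hb').symm

/-- `℧¹(Z(S))` is normal in `G` when `J~(S) = S` -/
theorem n0_normal (S : Sylow p G) (M : Subgroup G) (hb : Basic p S M)
    (hE₁ : centralizer (Cfsg.pCore p G : Set G) ≤ Cfsg.pCore p G)
    (hE₂ : ∃! M : Subgroup G, IsCoatom M ∧ (S : Subgroup G) ≤ M)
    (hJ : (S : Subgroup G) ≤ centralizer (Cfsg.centerThompsonAOf (S : Subgroup G) : Set G)) :
    (Cfsg.powerClosure p 1 (Z (S : Subgroup G))).Normal := by
  rcases Cfsg.Agent.Helper26.GenJ.pushing_up S hE₁ hE₂ with h | h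
  · exact h
  · exfalso
    have h1 : (S : Subgroup G) ⊓
        centralizer (Cfsg.centerThompsonAOf (S : Subgroup G) : Set G) = (S : Subgroup G) :=
      inf_eq_left.mpr hJ
    rw [h1] at h
    apply hb.S_ne_Q
    exact le_antisymm (Cfsg.Agent.Helper14.le_pCore p h S.isPGroup')
      (Cfsg.Agent.Helper14.pCore_le_sylow p S)

/-- `p`-th powers of elements of `V = ⟨Z(S)^G⟩` are `p`-th powers of elements of `Z(S)` -/
theorem powV (S : Sylow p G) (M : Subgroup G) (hb : Basic p S M)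
    (hN0 : (Cfsg.powerClosure p 1 (Z (S : Subgroup G))).Normal) :
    ∀ v ∈ V (S : Subgroup G), ∃ z ∈ Z (S : Subgroup G), v ^ p = z ^ p := by
  have hVn : (V (S : Subgroup G)).Normal := by
    unfold V; exact Subgroup.normalClosure_normal
  have hVc := v_comm S M hb
  let K : Subgroup G :=
    { carrier := {v | v ∈ V (S : Subgroup G) ∧ v ^ p ∈ Cfsg.powerClosure p 1 (Z (S : Subgroup G))}
      mul_mem' := by
        rintro a b ⟨ha, ha'⟩ ⟨hb1, hb'⟩
        refine ⟨(V (S : Subgroup G)).mul_mem ha hb1, ?_⟩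
        rw [(show Commute a b from hVc a ha b hb1).mul_pow]
        exact Subgroup.mul_mem _ ha' hb'
      one_mem' := ⟨Subgroup.one_mem _, by rw [one_pow]; exact Subgroup.one_mem _⟩
      inv_mem' := by
        rintro a ⟨ha, ha'⟩
        exact ⟨Subgroup.inv_mem _ ha, by rw [inv_pow]; exact Subgroup.inv_mem _ ha'⟩ }
  have hKn : K.Normal := by
    refine ⟨fun n hn g => ?_⟩
    obtain ⟨hn1, hn2⟩ := hn
    refine ⟨hVn.conj_mem n hn1 g, ?_⟩
    rw [conj_pow]
    exact hN0.conj_mem _ hn2 g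
  have hZK : (Z (S : Subgroup G) : Set G) ⊆ K := by
    intro z hz
    refine ⟨Subgroup.subset_normalClosure hz, ?_⟩
    exact Subgroup.subset_closure ⟨z, hz, by rw [pow_one]⟩
  have hVK : V (S : Subgroup G) ≤ K := by
    unfold V
    exact Subgroup.normalClosure_le_normal hZK
  intro v hv
  have := (hVK hv).2
  rw [mem_powerClosure_one_iff (z_comm _)] at this
  exact this

/-- the index set of `S_Φ` -/
def IsTopMCL (p : ℕ) {P : Type*} [Group P] (Q : Subgroup P) : Prop :=
  Cfsg.IsMinimalCentrallyLarge Q ∧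
    Nat.card ↥(Cfsg.omegaOneCenter p Q) = Cfsg.maxOmegaCenterOfMinimalCL p P

theorem card_omegaOneCenter_le_max {P : Type*} [Group P] [Finite P] (p : ℕ) {Q : Subgroup P}
    (hQ : Cfsg.IsMinimalCentrallyLarge Q) :
    Nat.card ↥(Cfsg.omegaOneCenter p Q) ≤ Cfsg.maxOmegaCenterOfMinimalCL p P := by
  unfold Cfsg.maxOmegaCenterOfMinimalCL
  apply le_csSup
  · refine ⟨Nat.card P, ?_⟩
    rintro k ⟨R, -, rfl⟩
    exact Subgroup.card_le_card_group _
  · exact ⟨Q, hQ, rfl⟩

theorem exists_isTopMCL {P : Type*} [Group P] [Finite P] (p : ℕ) :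
    ∃ Q : Subgroup P, IsTopMCL p Q := by
  have hne : {k : ℕ | ∃ Q : Subgroup P, Cfsg.IsMinimalCentrallyLarge Q ∧
      Nat.card ↥(Cfsg.omegaOneCenter p Q) = k}.Nonempty := by
    obtain ⟨Q₀, hQ₀⟩ := exists_cl (P := P)
    obtain ⟨R, -, hR⟩ := exists_mcl_le Q₀ hQ₀
    exact ⟨_, R, hR, rfl⟩
  have hbdd : BddAbove {k : ℕ | ∃ Q : Subgroup P, Cfsg.IsMinimalCentrallyLarge Q ∧
      Nat.card ↥(Cfsg.omegaOneCenter p Q) = k} := by
    refine ⟨Nat.card P, ?_⟩
    rintro k ⟨R, -, rfl⟩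
    exact Subgroup.card_le_card_group _
  obtain ⟨Q, hQ, hcard⟩ := Nat.sSup_mem hne hbdd
  exact ⟨Q, hQ, hcard⟩

theorem frattiniOfMinimalCLJoin_eq {P : Type*} [Group P] (p : ℕ) :
    Cfsg.frattiniOfMinimalCLJoin p P = ⨆ Q : {Q : Subgroup P // IsTopMCL p Q}, frat (Q : Subgroup P) :=
  rfl

theorem frat_le_join {P : Type*} [Group P] (p : ℕ) {Q : Subgroup P} (hQ : IsTopMCL p Q) :
    frat Q ≤ Cfsg.frattiniOfMinimalCLJoin p P := by
  rw [frattiniOfMinimalCLJoin_eq]
  exact le_iSup (fun Q : {Q : Subgroup P // IsTopMCL p Q} => frat (Q : Subgroup P)) ⟨Q, hQ⟩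

/-- the core of S2989, first part -/
theorem s2989_core (S : Sylow p G) (M : Subgroup G) (hb : Basic p S M)
    (hN0 : (Cfsg.powerClosure p 1 (Z (S : Subgroup G))).Normal)
    (hZ : ¬ (Z (S : Subgroup G)).Normal) :
    ((Cfsg.frattiniOfMinimalCLJoin p ↥(S : Subgroup G)).map (S : Subgroup G).subtype).Normal := by
  have hUS : Cfsg.pCore p G ≤ (S : Subgroup G) := Cfsg.Agent.Helper14.pCore_le_sylow p S
  have hUn : (Cfsg.pCore p G).Normal := Cfsg.Agent.Helper14.pCore_normal p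
  have hP : IsPGroup p ↥(S : Subgroup G) := S.isPGroup'
  obtain ⟨hVU, -, -, -⟩ := VF1 S M hb
  have hpV := powV S M hb hN0
  -- the case of a member inside `U`
  have key1 : ∀ (g : G) (R : Subgroup ↥(S : Subgroup G)), IsTopMCL p R →
      R ≤ (Cfsg.pCore p G).subgroupOf (S : Subgroup G) →
      ((frat R).map (S : Subgroup G).subtype).map (MulAut.conj g).toMonoidHom ≤
        (Cfsg.frattiniOfMinimalCLJoin p ↥(S : Subgroup G)).map (S : Subgroup G).subtype := by
    intro g R hR hRU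
    rw [← map_frat_cjS hUn hUS hRU g]
    apply Subgroup.map_mono
    apply frat_le_join
    refine ⟨mcl_cjS hUn hUS hRU hR.1 g, ?_⟩
    rw [card_omegaOneCenter_cjS p hUn hUS hRU g]
    exact hR.2
  apply normal_of_map_conj_le
  intro g
  rw [Subgroup.map_map, Subgroup.map_le_iff_le_comap, frattiniOfMinimalCLJoin_eq]
  apply iSup_le
  rintro ⟨Q, hQ⟩
  rw [← Subgroup.map_le_iff_le_comap, ← Subgroup.map_map, ← frattiniOfMinimalCLJoin_eq]
  show ((frat Q).map (S : Subgroup G).subtype).map (MulAut.conj g).toMonoidHom ≤ _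
  by_cases hQU : Q ≤ (Cfsg.pCore p G).subgroupOf (S : Subgroup G)
  · exact key1 g Q hQ hQU
  · have hla := la_of_basic S M hb hZ Q hQ.1
    have hTm := hla.t_mcl
    have hpowV : ∀ v ∈ (V (S : Subgroup G)).subgroupOf (S : Subgroup G),
        ∃ z ∈ cz Q ⊓ (Cfsg.pCore p G).subgroupOf (S : Subgroup G), v ^ p = z ^ p := by
      intro v hv
      obtain ⟨z, hz, hvz⟩ := hpV (v : G) hv
      have hzS : z ∈ (S : Subgroup G) := hz.1
      refine ⟨⟨z, hzS⟩, ⟨?_, ?_⟩, Subtype.ext hvz⟩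
      · show (⟨z, hzS⟩ : ↥(S : Subgroup G)) ∈ cz Q
        rw [Subgroup.mem_centralizer_iff]
        intro q _
        have := mem_centralizer_iff.mp hz.2 (q : G) q.2
        exact Subtype.ext this
      · show (⟨z, hzS⟩ : ↥(S : Subgroup G)) ∈ (Cfsg.pCore p G).subgroupOf (S : Subgroup G)
        rw [mem_subgroupOf]
        exact hVU (Subgroup.subset_normalClosure hz)
    have hmax : Nat.card ↥(Cfsg.omegaOneCenter p
        ((Q ⊓ (Cfsg.pCore p G).subgroupOf (S : Subgroup G)) ⊔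
          (V (S : Subgroup G)).subgroupOf (S : Subgroup G))) ≤
        Nat.card ↥(Cfsg.omegaOneCenter p Q) := by
      rw [hQ.2]
      exact card_omegaOneCenter_le_max p hTm
    obtain ⟨r1, r2⟩ := hla.lemmaB hP hpowV hmax
    rw [← r2]
    apply key1 g _ ⟨hTm, by rw [r1]; exact hQ.2⟩ hla.t_le

/-- the second part of S2989 (no group `G` needed) -/
theorem s2989_part2 {P : Type*} [Group P] [Finite P] (hP : IsPGroup p P)
    (h : Cfsg.frattiniOfMinimalCLJoin p P = ⊥) :
    (∀ Q : Subgroup P, Cfsg.IsMinimalCentrallyLarge Q ↔ Q ∈ Cfsg.maxAbelianSubgroups P) ∧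
      ∃ A ∈ Cfsg.maxAbelianSubgroups P, Cfsg.IsElementaryAbelian p A := by
  obtain ⟨Q, hQ⟩ := exists_isTopMCL (P := P) p
  have h1 : frat Q = ⊥ := by
    rw [eq_bot_iff, ← h]; exact frat_le_join p hQ
  have hcomm : ∀ a ∈ Q, ∀ b ∈ Q, a * b = b * a := by
    intro a ha b hb
    have : ⁅a, b⁆ ∈ frat Q := commutator_mem_frat hP ha hb
    rw [h1, Subgroup.mem_bot, commutatorElement_eq_one_iff_mul_comm] at this
    exact this
  have hpow : ∀ a ∈ Q, a ^ p = 1 := by
    intro a ha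
    have : a ^ p ∈ frat Q := pow_mem_frat hP ha
    rwa [h1, Subgroup.mem_bot] at this
  have hab : IsMulCommutative ↥Q := by
    rw [isMulCommutative_iff_le_cz]
    intro a ha
    rw [Subgroup.mem_centralizer_iff]
    intro b hb
    exact hcomm b hb a ha
  have hall := mcl_abelian Q hQ.1 hab
  exact ⟨hall, Q, (hall Q).mp hQ.1, hab, hpow⟩

end main2

end Cfsg.Agent.Helper12.PU
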