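import Mathlib
import Cfsg.Agent.Helper12.ParCentB
import Cfsg.Agent.Helper12.BNCntF

set_option autoImplicit false
set_option linter.unusedSectionVars false
set_option linter.unusedSimpArgs false
set_option linter.unusedVariables false

/-!
# The centraliser of `U_J` in `P_J` lies in `U`
-/

namespace Cfsg.Agent.Helper12.ParCent

open Cfsg Cfsg.Lie Cfsg.Agent.Helper2 Cfsg.Agent.Helper6 Cfsg.Agent.Helper2.Levi
  Cfsg.Agent.Helper12.BNSt Cfsg.Agent.Helper12.BNCnt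

variable {D : ChevalleyDatum} {F : Type*} [Field F]

/-- the centraliser of `U_J` in `P_J` -/
def cent (D : ChevalleyDatum) (F : Type*) [Field F] (J : Set ℕ) : Subgroup (GL D.Idx F) :=
  D.parabolicSubgroup F J ⊓ Subgroup.centralizer (D.unipotentRadical F J : Set (GL D.Idx F))

theorem mem_cent {J : Set ℕ} {c : GL D.Idx F} :
    c ∈ cent D F J ↔ c ∈ D.parabolicSubgroup F J ∧
      ∀ y ∈ D.unipotentRadical F J, c * y = y * c := by
  unfold cent
  rw [Subgroup.mem_inf, Subgroup.mem_centralizer_iff]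
  constructor
  · rintro ⟨h1, h2⟩
    exact ⟨h1, fun y hy => (h2 y hy).symm⟩
  · rintro ⟨h1, h2⟩
    exact ⟨h1, fun y hy => (h2 y hy).symm⟩

namespace CData

variable {C : List (List ℤ)} (X : CData D F C)
include X

/-- `P_J` normalises the centraliser of `U_J` -/
theorem conj_mem_cent (J : Set ℕ) {g c : GL D.Idx F} (hg : g ∈ D.parabolicSubgroup F J)
    (hc : c ∈ cent D F J) : g * c * g⁻¹ ∈ cent D F J := by
  rw [mem_cent] at hc ⊢
  refine ⟨Subgroup.mul_mem _ (Subgroup.mul_mem _ hg hc.1) (Subgroup.inv_mem _ hg), ?_⟩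
  intro y hy
  have hgN := X.L.parabolic_le_normalizer J (Subgroup.inv_mem _ hg)
  have hy' : g⁻¹ * y * g⁻¹⁻¹ ∈ D.unipotentRadical F J :=
    (Subgroup.mem_normalizer_iff.1 hgN y).1 hy
  rw [inv_inv] at hy'
  have := hc.2 _ hy'
  calc g * c * g⁻¹ * y = g * (c * (g⁻¹ * y * g)) * g⁻¹ := by group
    _ = g * ((g⁻¹ * y * g) * c) * g⁻¹ := by rw [this]
    _ = y * (g * c * g⁻¹) := by group

/-- the key contradiction: no product `b⁻¹ n_j` (`j ∈ J`) centralises `U_J` -/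
theorem not_cent_of_simple (J : Set ℕ) (hJ : ∃ i, i < D.rank ∧ i ∉ J) {j : ℕ} (hj : j < D.rank)
    (hjJ : j ∈ J) {b c : GL D.Idx F} (hb : b ∈ D.borelSubgroup F)
    (hn : nU X.L.Δ.hB (D.simple j) (one_ne_zero (α := F)) = b * c)
    (hc : ∀ y ∈ D.unipotentRadical F J, c * y = y * c) : False := by
  have Δ := X.L.Δ
  obtain ⟨i0, hi0, hi0J⟩ := hJ
  have hne : i0 ≠ j := fun e => hi0J (e ▸ hjJ)
  obtain ⟨r, s, hr, hr', -, -, hcr, -, hwr, -⟩ := exChk_spec X.ex hi0 hj hne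
  have hA := X.L.Δ.hAll j hj
  have hnin := X.not_inRootSub (J := J) hi0 hi0J hcr
  have hxr := X.xU_mem_radical hr hr' hnin (1 : F)
  -- `n x_r(1) n⁻¹ = b x_r(1) b⁻¹`
  have h1 : nU X.L.Δ.hB (D.simple j) (one_ne_zero (α := F)) * xU X.L.Δ.hB r 1 *
      (nU X.L.Δ.hB (D.simple j) (one_ne_zero (α := F)))⁻¹ =
      b * xU X.L.Δ.hB r 1 * b⁻¹ := by
    rw [hn]
    have := hc _ hxr
    calc b * c * xU X.L.Δ.hB r 1 * (b * c)⁻¹ = b * (c * xU X.L.Δ.hB r 1) * c⁻¹ * b⁻¹ := by group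
      _ = b * (xU X.L.Δ.hB r 1 * c) * c⁻¹ * b⁻¹ := by rw [this]
      _ = b * xU X.L.Δ.hB r 1 * b⁻¹ := by group
  rw [nU_conj_xU X.L.Δ.hB hA hr', mul_one] at h1
  set r' := wR D (D.simple j) r with hr'def
  set η : F := ((etaR D (D.simple j) r : ℤ) : F) with hη
  have hηne : η ≠ 0 := by
    intro h0
    have := etaR_sq (F := F) X.L.Δ.hB hA hr'
    rw [← hη, h0, mul_zero] at this
    exact zero_ne_one this
  have hr'lt : r' < D.nroots := wR_lt X.L.Δ.hB hA.hS.1 hA.hR hr'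
  -- decompose `b = u h`
  obtain ⟨u, hu, h, hh, rfl⟩ := X.exists_mul_of_mem_borel hb
  obtain ⟨cc, hcc, hv⟩ := exists_torMat_of_mem_diagonal X.L.Δ.hB X.L.Δ.hH hh
  have h2 := Helper2.Tw.conj_tor X.L.Δ hcc hv hr' (1 : F)
  rw [mul_one] at h2
  set χ : F := torChar D cc r with hχ
  have hχne : χ ≠ 0 := torChar_ne_zero hcc r
  have h3 : xU X.L.Δ.hB r' η = u * xU X.L.Δ.hB r χ * u⁻¹ := by
    rw [h1, ← h2]
    group
  have h4 := X.conj_mod hr hr' hu χ
  rw [← h3] at h4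
  -- `x_{r'}(η) ∈ U`
  have hmemU : xU X.L.Δ.hB r' η ∈ D.posUnipotent F := by
    rw [h3]
    exact Subgroup.mul_mem _ (Subgroup.mul_mem _ hu
      (X.L.Δ.xU_pos_mem (((X.L.Δ.hsign r hr').1).2 hr) χ)) (Subgroup.inv_mem _ hu)
  have hr'N : D.nroots / 2 ≤ r' := by
    by_contra hcon
    rw [not_le] at hcon
    exact hηne (X.L.Δ.eq_zero_of_xU_neg_mem_borel hr'lt hcon
      (X.L.Δ.posUnipotent_le_borel hmemU))
  rcases Nat.lt_trichotomy r' r with hlt | heq | hgt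
  · -- `x_{r'}(η) = x_r(χ) v ∈ U_{r'+1}`
    have h5 : xU X.L.Δ.hB r' η ∈ Uge D F (r' + 1) := by
      have e : xU X.L.Δ.hB r' η =
          xU X.L.Δ.hB r χ * ((xU X.L.Δ.hB r χ)⁻¹ * xU X.L.Δ.hB r' η) := by group
      rw [e]
      exact Subgroup.mul_mem _ (xU_mem_Uge X.L.Δ.hB (by omega) hr' χ)
        (Uge_mono (by omega) h4)
    exact hηne (X.eq_zero_of_mem hr'N hr'lt h5)
  · exact hwr heq
  · -- `x_r(χ) = x_{r'}(η) v⁻¹ ∈ U_{r+1}`
    have h5 : xU X.L.Δ.hB r χ ∈ Uge D F (r + 1) := by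
      have e : xU X.L.Δ.hB r χ =
          xU X.L.Δ.hB r' η * ((xU X.L.Δ.hB r χ)⁻¹ * xU X.L.Δ.hB r' η)⁻¹ := by group
      rw [e]
      exact Subgroup.mul_mem _ (xU_mem_Uge X.L.Δ.hB (by omega) hr'lt η)
        (Subgroup.inv_mem _ h4)
    exact hχne (X.eq_zero_of_mem hr hr' h5)

/-- the centraliser of `U_J` in `P_J` lies in `B` -/
theorem cent_le_borel (J : Set ℕ) (hJ : ∃ i, i < D.rank ∧ i ∉ J) :
    cent D F J ≤ D.borelSubgroup F := by
  have Δ := X.L.Δ
  have hBP : D.borelSubgroup F ≤ D.parabolicSubgroup F J := by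
    unfold ChevalleyDatum.parabolicSubgroup; exact le_sup_left
  have hPG : D.parabolicSubgroup F J ≤ D.group F := parabolic_le_group X.L.Δ J
  have hnorm : D.borelSubgroup F ≤ Subgroup.normalizer (cent D F J : Set (GL D.Idx F)) := by
    intro g hg
    rw [Subgroup.mem_normalizer_iff]
    intro x
    constructor
    · intro hx
      exact X.conj_mem_cent J (hBP hg) hx
    · intro hx
      have := X.conj_mem_cent J (Subgroup.inv_mem _ (hBP hg)) hx
      have e : g⁻¹ * (g * x * g⁻¹) * g⁻¹⁻¹ = x := by group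
      rwa [e] at this
  set M : Subgroup ↥(D.group F) := (D.borelSubgroup F ⊔ cent D F J).subgroupOf (D.group F)
    with hM
  have hBM : X.L.Δ.bnPair.B ≤ M := by
    intro g hg
    rw [hM, Subgroup.mem_subgroupOf]
    exact Subgroup.mem_sup_left (Subgroup.mem_subgroupOf.1 hg)
  have heq := BN.eq_parabolic_of_le (P := X.L.Δ.bnPair) M hBM
  have hMP : M ≤ X.L.Δ.bnPair.parabolic (genSet J) := by
    rw [parabolic_genSet X.L.Δ J, hM]
    intro g hg
    rw [Subgroup.mem_subgroupOf] at hg ⊢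
    exact (sup_le hBP (inf_le_left : cent D F J ≤ _)) hg
  have hempty : X.L.Δ.bnPair.S ∩ (M : Set ↥(D.group F)) = ∅ := by
    ext s
    simp only [Set.mem_inter_iff, SetLike.mem_coe, Set.mem_empty_iff_false, iff_false, not_and]
    intro hsS hsM
    have hsJ : s ∈ genSet (D := D) (F := F) J :=
      BN.mem_of_mem_parabolic (genSet_subset J) hsS (hMP hsM)
    obtain ⟨j, hjJ, hj, hsv⟩ := hsJ
    have hs' : (s : GL D.Idx F) = nU X.L.Δ.hB (D.simple j) (one_ne_zero (α := F)) :=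
      X.L.Δ.coe_of_mem_Sset hsv
    rw [hM, Subgroup.mem_subgroupOf] at hsM
    have hsM' : (s : GL D.Idx F) ∈ ((D.borelSubgroup F ⊔ cent D F J : Subgroup (GL D.Idx F)) :
        Set (GL D.Idx F)) := hsM
    rw [Subgroup.coe_mul_of_left_le_normalizer_right _ _ hnorm, Set.mem_mul] at hsM'
    obtain ⟨b, hb, c, hc, hbc⟩ := hsM'
    exact X.not_cent_of_simple J hJ hj hjJ hb (by rw [← hs', hbc]) (mem_cent.1 hc).2
  rw [hempty] at heq
  intro c hc
  have hcG : c ∈ D.group F := hPG (mem_cent.1 hc).1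
  have hcM : (⟨c, hcG⟩ : ↥(D.group F)) ∈ M := by
    rw [hM, Subgroup.mem_subgroupOf]
    exact Subgroup.mem_sup_right hc
  rw [heq] at hcM
  unfold BNPair.parabolic at hcM
  rw [Subgroup.closure_empty, sup_bot_eq] at hcM
  exact Subgroup.mem_subgroupOf.1 hcM

/-- the centraliser of `U_J` in `P_J` lies in `U` -/
theorem cent_le_posUnipotent (J : Set ℕ) (hJ : ∃ i, i < D.rank ∧ i ∉ J) :
    cent D F J ≤ D.posUnipotent F := by
  intro c hc
  exact X.mem_posUnipotent J hJ (X.cent_le_borel J hJ hc) (mem_cent.1 hc).2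

end CData

end Cfsg.Agent.Helper12.ParCent
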