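import Mathlib
import Cfsg.Agent.S1027
import Cfsg.Agent.Helper7.TransvCent
import Cfsg.Agent.Helper12.ParCentC

set_option autoImplicit false
set_option linter.unusedSectionVars false
set_option linter.unusedSimpArgs false
set_option linter.unusedVariables false

/-!
# `F*(P_J)` is a `p`-group for the proper standard parabolic subgroups of the tabulated
Chevalley groups
-/

namespace Cfsg.Agent.Helper12.ParCent

open Cfsg Cfsg.Lie Cfsg.Agent.Helper2 Cfsg.Agent.Helper6 Cfsg.Agent.Helper2.Levi

set_option maxRecDepth 100000 in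
theorem posOrdChk2_G2 : posOrdChk2 chevG2 (chevG2.nroots / 2) = true := by decide +kernel
set_option maxRecDepth 100000 in
theorem posOrdChk2_B2 : posOrdChk2 chevB2 (chevB2.nroots / 2) = true := by decide +kernel
set_option maxRecDepth 100000 in
theorem posOrdChk2_D4 : posOrdChk2 chevD4 (chevD4.nroots / 2) = true := by decide +kernel
set_option maxRecDepth 100000 in
theorem posOrdChk2_F4 : posOrdChk2 chevF4 (chevF4.nroots / 2) = true := by decide +kernel
set_option maxRecDepth 100000 in
theorem posOrdChk2_E6 : posOrdChk2 chevE6 (chevE6.nroots / 2) = true := by decide +kernel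
set_option maxRecDepth 100000 in
theorem posOrdChk2_E7 : posOrdChk2 chevE7 (chevE7.nroots / 2) = true := by decide +kernel
set_option maxRecDepth 100000 in
theorem posOrdChk2_E8 : posOrdChk2 chevE8 (chevE8.nroots / 2) = true := by decide +kernel

set_option maxRecDepth 100000 in
theorem exChk_G2 : exChk chevG2 = true := by decide +kernel
set_option maxRecDepth 100000 in
theorem exChk_B2 : exChk chevB2 = true := by decide +kernel
set_option maxRecDepth 100000 in
theorem exChk_D4 : exChk chevD4 = true := by decide +kernel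
set_option maxRecDepth 100000 in
theorem exChk_F4 : exChk chevF4 = true := by decide +kernel
set_option maxRecDepth 100000 in
theorem exChk_E6 : exChk chevE6 = true := by decide +kernel
set_option maxRecDepth 100000 in
theorem exChk_E7 : exChk chevE7 = true := by decide +kernel
set_option maxRecDepth 100000 in
theorem exChk_E8 : exChk chevE8 = true := by decide +kernel

variable {D : ChevalleyDatum} {F : Type*} [Field F]

/-- the centraliser of `U_J` in `P_J` lies in `U`, for the tabulated data -/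
theorem cent_le_of_tabulated (hD : IsTabulated D) (J : Set ℕ) (hJ : ∃ i, i < D.rank ∧ i ∉ J) :
    cent D F J ≤ D.posUnipotent F := by
  have Δ := bnData_of_tabulated F hD
  have hO := ordOK_of_tabulated hD
  have hD' := hD
  simp only [IsTabulated, List.mem_cons, List.not_mem_nil, or_false] at hD'
  rcases hD' with rfl | rfl | rfl | rfl | rfl | rfl | rfl
  · exact (⟨⟨Δ, signChk_G2⟩, posOrdChk2_G2, exChk_G2, hO⟩ :
      CData chevG2 F cG2).cent_le_posUnipotent J hJ
  · exact (⟨⟨Δ, signChk_B2⟩, posOrdChk2_B2, exChk_B2, hO⟩ :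
      CData chevB2 F cB2).cent_le_posUnipotent J hJ
  · exact (⟨⟨Δ, signChk_D4⟩, posOrdChk2_D4, exChk_D4, hO⟩ :
      CData chevD4 F cD4).cent_le_posUnipotent J hJ
  · exact (⟨⟨Δ, signChk_F4⟩, posOrdChk2_F4, exChk_F4, hO⟩ :
      CData chevF4 F cF4).cent_le_posUnipotent J hJ
  · exact (⟨⟨Δ, signChk_E6⟩, posOrdChk2_E6, exChk_E6, hO⟩ :
      CData chevE6 F cE6).cent_le_posUnipotent J hJ
  · exact (⟨⟨Δ, signChk_E7⟩, posOrdChk2_E7, exChk_E7, hO⟩ :
      CData chevE7 F cE7).cent_le_posUnipotent J hJ
  · exact (⟨⟨Δ, signChk_E8⟩, posOrdChk2_E8, exChk_E8, hO⟩ :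
      CData chevE8 F cE8).cent_le_posUnipotent J hJ

/-- `U` is a `p`-group -/
theorem isPGroup_posUnipotent [Fintype F] (p : ℕ) [Fact p.Prime] [CharP F p]
    (hD : IsTabulated D) : IsPGroup p (D.posUnipotent F) := by
  obtain ⟨k, -, hk⟩ := FiniteField.card F p
  have h1 := Cfsg.Agent.S1027.result (F := F) D hD
  apply IsPGroup.of_card (n := (k : ℕ) * (D.nroots / 2))
  rw [h1, hk, pow_mul]

/-- `F*(P_J)` is a `p`-group for a proper standard parabolic subgroup -/
theorem isPGroup_fstar_parabolic [Fintype F] (p : ℕ) [Fact p.Prime] [CharP F p]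
    (hD : IsTabulated D) (J : Set ℕ) (hJ : ∃ i, i < D.rank ∧ i ∉ J) :
    IsPGroup p ↥(Cfsg.generalizedFittingSubgroup ↥(D.parabolicSubgroup F J)) := by
  classical
  have hU := isPGroup_posUnipotent (F := F) p hD
  have hcent := cent_le_of_tabulated (F := F) hD J hJ
  have hlevi := levi_of_tabulated (F := F) hD J
  have hUJ : D.unipotentRadical F J ≤ D.posUnipotent F := unipotentRadical_le_posUnipotent J
  set PJ := D.parabolicSubgroup F J with hPJ
  -- the two normal `p`-subgroups
  set Q1 : Subgroup ↥PJ := (D.unipotentRadical F J).subgroupOf PJ with hQ1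
  set Q2 : Subgroup ↥PJ := (cent D F J).subgroupOf PJ with hQ2
  have hQ1n : Q1.Normal := by
    constructor
    intro x hx g
    rw [hQ1, Subgroup.mem_subgroupOf] at hx ⊢
    have hgN := hlevi.1 g.2
    have := (Subgroup.mem_normalizer_iff.1 hgN (x : GL D.Idx F)).1 hx
    simpa using this
  have hQ2n : Q2.Normal := by
    have Δ := bnData_of_tabulated F hD
    constructor
    intro x hx g
    rw [hQ2, Subgroup.mem_subgroupOf] at hx ⊢
    -- `P_J` normalises the centraliser of the normal subgroup `U_J`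
    rw [mem_cent] at hx ⊢
    refine ⟨(g * x * g⁻¹).2, ?_⟩
    intro y hy
    have hgN := hlevi.1 (Subgroup.inv_mem _ g.2)
    have hy' : (g : GL D.Idx F)⁻¹ * y * (g : GL D.Idx F)⁻¹⁻¹ ∈ D.unipotentRadical F J :=
      (Subgroup.mem_normalizer_iff.1 hgN y).1 hy
    rw [inv_inv] at hy'
    have := hx.2 _ hy'
    simp only [Subgroup.coe_mul, Subgroup.coe_inv]
    calc (g : GL D.Idx F) * x * (g : GL D.Idx F)⁻¹ * y =
        g * ((x : GL D.Idx F) * ((g : GL D.Idx F)⁻¹ * y * g)) * (g : GL D.Idx F)⁻¹ := by group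
      _ = g * (((g : GL D.Idx F)⁻¹ * y * g) * x) * (g : GL D.Idx F)⁻¹ := by rw [this]
      _ = y * ((g : GL D.Idx F) * x * (g : GL D.Idx F)⁻¹) := by group
  have hQ1p : IsPGroup p Q1 :=
    (hU.to_le hUJ).comap_of_injective PJ.subtype (Subgroup.subtype_injective _)
  have hQ2p : IsPGroup p Q2 :=
    (hU.to_le hcent).comap_of_injective PJ.subtype (Subgroup.subtype_injective _)
  have hQp : IsPGroup p (Q1 ⊔ Q2 : Subgroup ↥PJ) := IsPGroup.to_sup_of_normal_right hQ1p hQ2p
  have hQn : (Q1 ⊔ Q2 : Subgroup ↥PJ).Normal := Subgroup.sup_normal Q1 Q2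
  have hC : Subgroup.centralizer ((Q1 ⊔ Q2 : Subgroup ↥PJ) : Set ↥PJ) ≤ Q1 ⊔ Q2 := by
    intro x hx
    apply Subgroup.mem_sup_right
    rw [hQ2, Subgroup.mem_subgroupOf, mem_cent]
    refine ⟨x.2, fun y hy => ?_⟩
    have hyP : y ∈ PJ := by
      rw [← hlevi.2.1]
      exact Subgroup.mem_sup_left hy
    have hy1 : (⟨y, hyP⟩ : ↥PJ) ∈ Q1 ⊔ Q2 := by
      apply Subgroup.mem_sup_left
      rw [hQ1, Subgroup.mem_subgroupOf]
      exact hy
    have := Subgroup.mem_centralizer_iff.1 hx _ hy1
    have := congrArg Subtype.val this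
    simpa using this.symm
  have h := Cfsg.Agent.Helper7.generalizedFitting_eq_pCore_of_centralizer_le (p := p) hQn hQp hC
  rw [h]
  exact Cfsg.Agent.Helper14.pCore_isPGroup p

end Cfsg.Agent.Helper12.ParCent
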