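import Mathlib

set_option autoImplicit false

namespace Cfsg.Agent.Helper12.PrimeOrderLin

open Module

variable {F V : Type*} [Field F] [Fintype F] [AddCommGroup V] [Module F V] [FiniteDimensional F V]

/-- An endomorphism `B` with `B ^ r = 1` (`r` prime) acting without nonzero fixed vectors on an
invariant subspace `S` forces `r ∣ q ^ dim S - 1`. -/
theorem dvd_pow_finrank_sub_one (B : Module.End F V) (r : ℕ) [hr : Fact r.Prime]
    (hB : B ^ r = 1) (S : Submodule F V) (hS : ∀ v ∈ S, B v ∈ S)
    (hfix : ∀ v ∈ S, B v = v → v = 0) :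
    r ∣ Fintype.card F ^ finrank F S - 1 := by
  classical
  have : Finite V := Module.finite_of_finite F
  have : Fintype S := Fintype.ofFinite S
  let f : Function.End S := fun v => ⟨B v.1, hS v.1 v.2⟩
  have hfpow : ∀ k : ℕ, ∀ v : S, ((f ^ k) v : V) = (B ^ k) v.1 := by
    intro k
    induction k with
    | zero => intro v; rfl
    | succ k ih =>
      intro v
      rw [pow_succ', pow_succ']
      change ((f ((f ^ k) v) : S) : V) = B ((B ^ k) v.1)
      rw [← ih v]
  have hf : f ^ r ^ 1 = 1 := by
    rw [pow_one]
    funext v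
    apply Subtype.ext
    rw [hfpow, hB]
    rfl
  have h1 := Equiv.Perm.card_fixedPoints_modEq (p := r) (n := 1) hf
  have h2 : Fintype.card (Function.fixedPoints f) = 1 := by
    rw [Fintype.card_eq_one_iff]
    refine ⟨⟨0, ?_⟩, ?_⟩
    · change f 0 = 0
      apply Subtype.ext
      change B (0 : V) = 0
      simp
    · rintro ⟨v, hv⟩
      apply Subtype.ext
      apply Subtype.ext
      change (v : V) = 0
      apply hfix v.1 v.2
      have := congrArg Subtype.val hv
      exact this
  rw [h2, Module.card_eq_pow_finrank (K := F) (V := S)] at h1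
  have h3 : 1 ≤ Fintype.card F ^ finrank F S := Nat.one_le_pow _ _ Fintype.card_pos
  exact (Nat.modEq_iff_dvd' h3).mp h1.symm

end Cfsg.Agent.Helper12.PrimeOrderLin
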