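import Cfsg.Agent.Helper12.PrimeOrderLinA

set_option autoImplicit false

namespace Cfsg.Agent.Helper12.PrimeOrderLin

open Module

variable {F V : Type*} [Field F] [AddCommGroup V] [Module F V]

/-- The averaging sum `Φ = 1 + B + ⋯ + B^(r-1)`. -/
noncomputable def avg (B : Module.End F V) (r : ℕ) : Module.End F V :=
  ∑ i ∈ Finset.range r, B ^ i

theorem mul_avg (B : Module.End F V) (r : ℕ) (hB : B ^ r = 1) : B * avg B r = avg B r := by
  have h := mul_geom_sum B r
  rw [hB, sub_self, sub_mul, one_mul, sub_eq_zero] at h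
  exact h

theorem avg_mul (B : Module.End F V) (r : ℕ) (hB : B ^ r = 1) : avg B r * B = avg B r := by
  have h := geom_sum_mul B r
  rw [hB, sub_self, mul_sub, mul_one, sub_eq_zero] at h
  exact h

theorem commute_avg (N B : Module.End F V) (r : ℕ) (hNB : Commute N B) : Commute N (avg B r) := by
  unfold avg
  exact Commute.sum_right _ _ _ (fun i _ => hNB.pow_right i)

theorem avg_apply_of_fixed (B : Module.End F V) (r : ℕ) (v : V) (hv : B v = v) :
    avg B r v = (r : F) • v := by
  unfold avg
  rw [LinearMap.sum_apply]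
  have h0 : ∀ i : ℕ, (B ^ i) v = v := by
    intro i
    induction i with
    | zero => rfl
    | succ i ih => rw [pow_succ, Module.End.mul_apply, hv, ih]
  have : ∀ i ∈ Finset.range r, (B ^ i) v = v := fun i _ => h0 i
  rw [Finset.sum_congr rfl this, Finset.sum_const, Finset.card_range, Nat.cast_smul_eq_nsmul]

theorem fixed_avg (B : Module.End F V) (r : ℕ) (hB : B ^ r = 1) (v : V) :
    B (avg B r v) = avg B r v := by
  rw [← Module.End.mul_apply, mul_avg B r hB]

theorem sub_mem_ker_avg (B : Module.End F V) (r : ℕ) (hB : B ^ r = 1) (hrF : (r : F) ≠ 0) (v : V) :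
    v - (r : F)⁻¹ • avg B r v ∈ LinearMap.ker (avg B r) := by
  rw [LinearMap.mem_ker, map_sub, map_smul, avg_apply_of_fixed B r _ (fixed_avg B r hB v),
    smul_smul, inv_mul_cancel₀ hrF, one_smul, sub_self]

theorem eq_zero_of_fixed_of_mem_ker (B : Module.End F V) (r : ℕ) (hrF : (r : F) ≠ 0) (v : V)
    (hv : v ∈ LinearMap.ker (avg B r)) (hfix : B v = v) : v = 0 := by
  rw [LinearMap.mem_ker, avg_apply_of_fixed B r v hfix] at hv
  exact (smul_eq_zero.mp hv).resolve_left hrF

theorem map_mem_ker_avg (N B : Module.End F V) (r : ℕ) (hNB : Commute N B) (v : V)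
    (hv : v ∈ LinearMap.ker (avg B r)) : N v ∈ LinearMap.ker (avg B r) := by
  rw [LinearMap.mem_ker] at hv ⊢
  have h := (commute_avg N B r hNB).eq
  have : avg B r (N v) = N (avg B r v) := by
    rw [← Module.End.mul_apply, ← Module.End.mul_apply, h]
  rw [this, hv, map_zero]

end Cfsg.Agent.Helper12.PrimeOrderLin
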