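import Cfsg.Agent.Helper12.PrimeOrderLinB

set_option autoImplicit false

namespace Cfsg.Agent.Helper12.PrimeOrderLin

open Module

variable {F V : Type*} [Field F] [AddCommGroup V] [Module F V]

theorem pow_mem_of_invariant (N : Module.End F V) (W : Submodule F V)
    (hW : ∀ v ∈ W, N v ∈ W) (k : ℕ) (v : V) (hv : v ∈ W) : (N ^ k) v ∈ W := by
  induction k with
  | zero => exact hv
  | succ k ih =>
    rw [pow_succ', Module.End.mul_apply]
    exact hW _ ih

/-- For nilpotent `N` preserving `W` with `N W ≠ 0`, the subspace `ker N ∩ W ∩ N W` is nonzero. -/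
theorem ker_inf_map_ne_bot (N : Module.End F V) (hN : IsNilpotent N) (W : Submodule F V)
    (hW : ∀ v ∈ W, N v ∈ W) (hNW : Submodule.map N W ≠ ⊥) :
    (LinearMap.ker N ⊓ W) ⊓ Submodule.map N W ≠ ⊥ := by
  classical
  obtain ⟨k, hk⟩ := hN
  have hex : ∃ k : ℕ, Submodule.map (N ^ k) W = ⊥ := ⟨k, by rw [hk]; exact Submodule.map_zero W⟩
  set k0 := Nat.find hex with hk0
  have hP : Submodule.map (N ^ k0) W = ⊥ := Nat.find_spec hex
  have h0 : k0 ≠ 0 := by
    intro h
    rw [h, pow_zero] at hP
    apply hNW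
    have hWb : W = ⊥ := by
      rw [← hP]
      exact (Submodule.map_id W).symm
    rw [hWb, Submodule.map_bot]
  have h1 : k0 ≠ 1 := by
    intro h
    rw [h, pow_one] at hP
    exact hNW hP
  obtain ⟨k1, hk1⟩ : ∃ k1, k0 = k1 + 2 := ⟨k0 - 2, by omega⟩
  have hnot : ¬ Submodule.map (N ^ (k1 + 1)) W = ⊥ := Nat.find_min hex (by omega)
  rw [Submodule.eq_bot_iff] at hnot
  push Not at hnot
  obtain ⟨u, hu, hu0⟩ := hnot
  obtain ⟨w, hw, rfl⟩ := hu
  intro hbot
  apply hu0
  have hmem : (N ^ (k1 + 1)) w ∈ (LinearMap.ker N ⊓ W) ⊓ Submodule.map N W := by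
    refine ⟨⟨?_, pow_mem_of_invariant N W hW _ w hw⟩, ?_⟩
    · change (N ^ (k1 + 1)) w ∈ LinearMap.ker N
      rw [LinearMap.mem_ker, ← Module.End.mul_apply, ← pow_succ']
      have : (N ^ (k1 + 1 + 1)) w ∈ Submodule.map (N ^ k0) W := by
        rw [hk1]
        exact Submodule.mem_map_of_mem hw
      rw [hP] at this
      exact (Submodule.mem_bot F).mp this
    · rw [pow_succ', Module.End.mul_apply]
      exact Submodule.mem_map_of_mem (pow_mem_of_invariant N W hW _ w hw)
  rw [hbot] at hmem
  exact (Submodule.mem_bot F).mp hmem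

theorem two_mul_finrank_ker_inf_map_le [FiniteDimensional F V] (N : Module.End F V)
    (W : Submodule F V) :
    2 * finrank F ((LinearMap.ker N ⊓ W) ⊓ Submodule.map N W : Submodule F V) ≤ finrank F W := by
  have h1 := LinearMap.finrank_range_add_finrank_ker (N.domRestrict W)
  rw [LinearMap.range_domRestrict, LinearMap.ker_domRestrict] at h1
  have h2 : finrank F ((LinearMap.ker N).comap W.subtype) = finrank F (W ⊓ LinearMap.ker N : Submodule F V) := by
    rw [← Submodule.finrank_map_subtype_eq W, Submodule.map_comap_subtype]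
  rw [h2] at h1
  have h3 : finrank F ((LinearMap.ker N ⊓ W) ⊓ Submodule.map N W : Submodule F V) ≤
      finrank F (Submodule.map N W) := Submodule.finrank_mono inf_le_right
  have h4 : finrank F ((LinearMap.ker N ⊓ W) ⊓ Submodule.map N W : Submodule F V) ≤
      finrank F (W ⊓ LinearMap.ker N : Submodule F V) := by
    apply Submodule.finrank_mono
    rw [inf_comm W]
    exact inf_le_left
  omega

end Cfsg.Agent.Helper12.PrimeOrderLin
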