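import Cfsg.Agent.Helper12.PrimeOrderLinC

set_option autoImplicit false

namespace Cfsg.Agent.Helper12.PrimeOrderLin

open Module

variable {F V : Type*} [Field F] [AddCommGroup V] [Module F V]

/-- A nilpotent endomorphism preserving a subspace of dimension `≤ 1` kills it. -/
theorem nilpotent_apply_eq_zero_of_finrank_le_one [FiniteDimensional F V] (N : Module.End F V)
    (hN : IsNilpotent N) (X : Submodule F V) (hX : ∀ v ∈ X, N v ∈ X) (hdim : finrank F X ≤ 1)
    (w : V) (hw : w ∈ X) : N w = 0 := by
  by_cases hw0 : w = 0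
  · rw [hw0, map_zero]
  have h1 : finrank F X = 1 := by
    have : X ≠ ⊥ := fun h => hw0 ((Submodule.mem_bot F).mp (h ▸ hw))
    have := Submodule.one_le_finrank_iff.mpr this
    omega
  have hw0' : (⟨w, hw⟩ : X) ≠ 0 := fun h => hw0 (congrArg Subtype.val h)
  obtain ⟨c, hc⟩ := (finrank_eq_one_iff_of_nonzero' (⟨w, hw⟩ : X) hw0').mp h1 ⟨N w, hX w hw⟩
  have hc' : c • w = N w := congrArg Subtype.val hc
  have hpow : ∀ k : ℕ, (N ^ k) w = c ^ k • w := by
    intro k
    induction k with
    | zero => simp
    | succ k ih =>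
      rw [pow_succ', Module.End.mul_apply, ih, map_smul, ← hc', smul_smul, pow_succ]
  obtain ⟨k, hk⟩ := hN
  have := hpow k
  rw [hk, LinearMap.zero_apply] at this
  have hck : c ^ k = 0 := (smul_eq_zero.mp this.symm).resolve_right hw0
  have hc0 : c = 0 := eq_zero_of_pow_eq_zero hck
  rw [← hc', hc0, zero_smul]

/-- Key lemma: `N ≠ 0` nilpotent commuting with `B`, `B ^ r = 1`, `B ≠ 1`, `r` prime different
from the characteristic, `dim V ≥ 4`: then `r ∣ q ^ j - 1` for some `1 ≤ j ≤ dim V - 2`. -/
theorem exists_dvd_pow_sub_one [Fintype F] [FiniteDimensional F V] (N B : Module.End F V)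
    (hNB : Commute N B) (hN : IsNilpotent N) (hN0 : N ≠ 0) (r : ℕ) [hr : Fact r.Prime]
    (hrF : (r : F) ≠ 0) (hB : B ^ r = 1) (hB1 : B ≠ 1) (hdim : 4 ≤ finrank F V) :
    ∃ j, 1 ≤ j ∧ j + 2 ≤ finrank F V ∧ r ∣ Fintype.card F ^ j - 1 := by
  have hWB : ∀ v ∈ LinearMap.ker (avg B r), B v ∈ LinearMap.ker (avg B r) :=
    fun v hv => map_mem_ker_avg B B r (Commute.refl B) v hv
  have hWN : ∀ v ∈ LinearMap.ker (avg B r), N v ∈ LinearMap.ker (avg B r) :=
    fun v hv => map_mem_ker_avg N B r hNB v hv
  have hfix : ∀ v ∈ LinearMap.ker (avg B r), B v = v → v = 0 :=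
    fun v hv h => eq_zero_of_fixed_of_mem_ker B r hrF v hv h
  have hW0 : LinearMap.ker (avg B r) ≠ ⊥ := by
    intro h
    apply hB1
    apply LinearMap.ext
    intro v
    have h1 := sub_mem_ker_avg B r hB hrF v
    rw [h] at h1
    have h2 : v = (r : F)⁻¹ • avg B r v := sub_eq_zero.mp ((Submodule.mem_bot F).mp h1)
    rw [Module.End.one_apply]
    conv_lhs => rw [h2]
    rw [map_smul, fixed_avg B r hB v, ← h2]
  by_cases hsmall : finrank F (LinearMap.ker (avg B r)) + 2 ≤ finrank F V
  · exact ⟨finrank F (LinearMap.ker (avg B r)), Submodule.one_le_finrank_iff.mpr hW0, hsmall,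
      dvd_pow_finrank_sub_one B r hB _ hWB hfix⟩
  · push Not at hsmall
    by_cases hNW : Submodule.map N (LinearMap.ker (avg B r)) = ⊥
    · exfalso
      apply hN0
      apply LinearMap.ext
      intro v
      rw [LinearMap.zero_apply]
      have h1 := sub_mem_ker_avg B r hB hrF v
      have h2 : N (v - (r : F)⁻¹ • avg B r v) = 0 := by
        have : N (v - (r : F)⁻¹ • avg B r v) ∈ Submodule.map N (LinearMap.ker (avg B r)) :=
          Submodule.mem_map_of_mem h1
        rw [hNW] at this
        exact (Submodule.mem_bot F).mp this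
      -- the fixed space of B has dimension ≤ 1
      have hdisj : Disjoint (LinearMap.ker (B - 1)) (LinearMap.ker (avg B r)) := by
        rw [Submodule.disjoint_def]
        intro x hx1 hx2
        apply hfix x hx2
        rw [LinearMap.mem_ker, LinearMap.sub_apply, Module.End.one_apply, sub_eq_zero] at hx1
        exact hx1
      have hle := Submodule.finrank_add_finrank_le_of_disjoint hdisj
      have hFx : finrank F (LinearMap.ker (B - 1)) ≤ 1 := by omega
      have hFxN : ∀ x ∈ LinearMap.ker (B - 1), N x ∈ LinearMap.ker (B - 1) := by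
        intro x hx
        rw [LinearMap.mem_ker, LinearMap.sub_apply, Module.End.one_apply, sub_eq_zero] at hx ⊢
        rw [← Module.End.mul_apply, ← hNB.eq, Module.End.mul_apply, hx]
      have hw : avg B r v ∈ LinearMap.ker (B - 1) := by
        rw [LinearMap.mem_ker, LinearMap.sub_apply, Module.End.one_apply, sub_eq_zero]
        exact fixed_avg B r hB v
      have h3 := nilpotent_apply_eq_zero_of_finrank_le_one N hN _ hFxN hFx _ hw
      have h4 : v = (v - (r : F)⁻¹ • avg B r v) + (r : F)⁻¹ • avg B r v := by abel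
      rw [h4, map_add, h2, map_smul, h3, smul_zero, add_zero]
    · have hS0 := ker_inf_map_ne_bot N hN _ hWN hNW
      have hS2 := two_mul_finrank_ker_inf_map_le N (LinearMap.ker (avg B r))
      have hWle : finrank F (LinearMap.ker (avg B r)) ≤ finrank F V := Submodule.finrank_le _
      refine ⟨finrank F ((LinearMap.ker N ⊓ LinearMap.ker (avg B r)) ⊓
          Submodule.map N (LinearMap.ker (avg B r)) : Submodule F V),
        Submodule.one_le_finrank_iff.mpr hS0, by omega,
        dvd_pow_finrank_sub_one B r hB _ ?_ ?_⟩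
      · rintro v ⟨⟨hv1, hv2⟩, hv3⟩
        refine ⟨⟨?_, hWB v hv2⟩, ?_⟩
        · change B v ∈ LinearMap.ker N
          change v ∈ LinearMap.ker N at hv1
          rw [LinearMap.mem_ker] at hv1 ⊢
          rw [← Module.End.mul_apply, hNB.eq, Module.End.mul_apply, hv1, map_zero]
        · obtain ⟨w, hw, rfl⟩ := hv3
          have : B (N w) = N (B w) := by
            rw [← Module.End.mul_apply, ← Module.End.mul_apply, hNB.eq]
          rw [this]
          exact Submodule.mem_map_of_mem (hWB w hw)
      · rintro v ⟨⟨_, hv2⟩, _⟩ h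
        exact hfix v hv2 h

end Cfsg.Agent.Helper12.PrimeOrderLin
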