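import Mathlib
import Cfsg.Agent.Helper12.PslGraphB

set_option autoImplicit false

/-! The exceptional case: `PSL_3(q)` with `3 ∣ q - 1`, `9 ∤ q - 1` has no element of order `3p`. -/

open Polynomial

namespace Cfsg.Agent.Helper12.PslGraph

open Cfsg.Agent.Helper12.SpPrime

universe u

variable {K : Type u} [Field K]

theorem monic_deg_one_eq {h : K[X]} (hm : h.Monic) (hd : h.natDegree = 1) :
    ∃ α : K, h = X - C α := by
  refine ⟨-h.coeff 0, ?_⟩
  rw [map_neg, sub_neg_eq_add]
  exact hm.eq_X_add_C hd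

/-- A non-scalar `3 × 3` matrix of determinant one whose cube is the scalar `ζ`, over a field in
which every ninth root of unity is a cube root of unity, has characteristic polynomial
`X ^ 3 - ζ`. -/
theorem charpoly_eq_of_cube_scalar (h3 : (3 : K) ≠ 0) (h9 : ∀ α : K, α ^ 9 = 1 → α ^ 3 = 1)
    (A : Matrix (Fin 3) (Fin 3) K) (hdet : A.det = 1) (ζ : K) (hζ : ζ ^ 3 = 1)
    (hA : A ^ 3 = Matrix.scalar (Fin 3) ζ) (hns : ∀ α : K, A ≠ Matrix.scalar (Fin 3) α) :
    A.charpoly = X ^ 3 - C ζ := by
  have hζ0 : ζ ≠ 0 := by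
    rintro rfl
    rw [zero_pow (by norm_num)] at hζ
    exact zero_ne_one hζ
  have hN : aeval A (X ^ 3 - C ζ : K[X]) = 0 := by
    rw [map_sub, map_pow, aeval_X, aeval_C, hA]
    simp [Algebra.algebraMap_eq_smul_one, Matrix.scalar_apply, Matrix.smul_one_eq_diagonal]
  have hNm : (X ^ 3 - C ζ : K[X]).Monic := monic_X_pow_sub_C ζ (by norm_num)
  have hNd : (X ^ 3 - C ζ : K[X]).natDegree = 3 := natDegree_X_pow_sub_C
  have hsep : (X ^ 3 - C ζ : K[X]).Separable := by
    apply separable_X_pow_sub_C ζ _ hζ0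
    exact_mod_cast h3
  have hcm : A.charpoly.Monic := Matrix.charpoly_monic A
  have hcd : A.charpoly.natDegree = 3 := by
    rw [Matrix.charpoly_natDegree_eq_dim, Fintype.card_fin]
  have hint : IsIntegral K A := Matrix.isIntegral A
  have hgm : (minpoly K A).Monic := minpoly.monic hint
  have hgN : minpoly K A ∣ (X ^ 3 - C ζ : K[X]) := minpoly.dvd K A hN
  have hgc : minpoly K A ∣ A.charpoly := Matrix.minpoly_dvd_charpoly A
  have hgd : (minpoly K A).natDegree ≤ 3 := by
    have := natDegree_le_of_dvd hgN hNm.ne_zero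
    rwa [hNd] at this
  have hgpos : 0 < (minpoly K A).natDegree := minpoly.natDegree_pos hint
  obtain ⟨h, hh⟩ := hgN
  have hhm : h.Monic := by
    have := hNm
    rw [hh] at this
    exact hgm.of_mul_monic_left this
  have hdeg : (minpoly K A).natDegree + h.natDegree = 3 := by
    rw [← hgm.natDegree_mul hhm, ← hh, hNd]
  -- the minimal polynomial has degree three
  have hg3 : (minpoly K A).natDegree = 3 := by
    by_contra hne
    have hcases : (minpoly K A).natDegree = 1 ∨ (minpoly K A).natDegree = 2 := by omega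
    rcases hcases with h1 | h2
    · obtain ⟨α, hα⟩ := monic_deg_one_eq hgm h1
      have := minpoly.aeval K A
      rw [hα, map_sub, aeval_X, aeval_C, sub_eq_zero] at this
      apply hns α
      rw [this]
      simp [Algebra.algebraMap_eq_smul_one, Matrix.scalar_apply, Matrix.smul_one_eq_diagonal]
    · have hh1 : h.natDegree = 1 := by omega
      obtain ⟨α, hα⟩ := monic_deg_one_eq hhm hh1
      have hα3 : α ^ 3 = ζ := by
        have := congrArg (eval α) hh
        rw [hα, eval_mul, eval_sub, eval_sub, eval_X, eval_C, eval_C, eval_pow, eval_X, sub_self,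
          mul_zero, sub_eq_zero] at this
        exact this
      have hα9 : α ^ 9 = 1 := by
        rw [show 9 = 3 * 3 from rfl, pow_mul, hα3, hζ]
      have hζ1 : ζ = 1 := by rw [← hα3, h9 α hα9]
      -- the characteristic polynomial is `g * (X - β)`
      obtain ⟨h', hh'⟩ := hgc
      have hh'm : h'.Monic := by
        have := hcm
        rw [hh'] at this
        exact hgm.of_mul_monic_left this
      have hdeg' : (minpoly K A).natDegree + h'.natDegree = 3 := by
        rw [← hgm.natDegree_mul hh'm, ← hh', hcd]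
      obtain ⟨β, hβ⟩ := monic_deg_one_eq hh'm (by omega)
      have hβg : (X - C β : K[X]) ∣ minpoly K A := by
        apply dvd_of_irreducible_dvd_charpoly_gen A _ (minpoly.aeval K A) _ (irreducible_X_sub_C β)
        rw [hh', hβ]
        exact Dvd.intro_left _ rfl
      obtain ⟨h'', hh''⟩ := hβg
      have hh''m : h''.Monic := by
        have := hgm
        rw [hh''] at this
        exact (monic_X_sub_C β).of_mul_monic_left this
      have hdeg'' : 1 + h''.natDegree = 2 := by
        rw [← natDegree_X_sub_C β, ← (monic_X_sub_C β).natDegree_mul hh''m, ← hh'', h2]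
      obtain ⟨γ, hγ⟩ := monic_deg_one_eq hh''m (by omega)
      -- determinant
      have hd1 : β * β * γ = 1 := by
        have := Matrix.det_eq_sign_charpoly_coeff A
        rw [hdet, hh', hh'', hγ, hβ, Fintype.card_fin, coeff_zero_eq_eval_zero] at this
        simp only [eval_mul, eval_sub, eval_X, eval_C] at this
        linear_combination -this
      have hd2 : α * β * γ = 1 := by
        have := congrArg (eval 0) hh
        rw [hα, hh'', hγ, hζ1] at this
        simp only [eval_mul, eval_sub, eval_X, eval_C, eval_pow] at this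
        linear_combination this
      have hβγ : β * γ ≠ 0 := by
        intro h0
        rw [mul_assoc, h0, mul_zero] at hd1
        exact zero_ne_one hd1
      have hαβ : α = β := by
        have : (α - β) * (β * γ) = 0 := by linear_combination hd2 - hd1
        rcases mul_eq_zero.1 this with h5 | h5
        · exact sub_eq_zero.1 h5
        · exact absurd h5 hβγ
      -- contradiction with separability
      have hsq : Squarefree (X ^ 3 - C ζ : K[X]) := hsep.squarefree
      have hdd : (X - C α) * (X - C α) ∣ (X ^ 3 - C ζ : K[X]) := by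
        rw [hh, hα, hh'', hαβ]
        exact ⟨X - C γ, by rw [hγ]; ring⟩
      have := hsq _ hdd
      exact (irreducible_X_sub_C α).not_isUnit this
  -- conclusion
  have h1 : minpoly K A = X ^ 3 - C ζ := by
    have hh0 : h.natDegree = 0 := by omega
    have : h = 1 := by
      rw [eq_C_of_natDegree_eq_zero hh0] at hhm ⊢
      rw [Monic, leadingCoeff_C] at hhm
      rw [hhm, map_one]
    rw [hh, this, mul_one]
  obtain ⟨h', hh'⟩ := hgc
  have hh'm : h'.Monic := by
    have := hcm
    rw [hh'] at this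
    exact hgm.of_mul_monic_left this
  have hdeg' : (minpoly K A).natDegree + h'.natDegree = 3 := by
    rw [← hgm.natDegree_mul hh'm, ← hh', hcd]
  have hh0 : h'.natDegree = 0 := by omega
  have : h' = 1 := by
    rw [eq_C_of_natDegree_eq_zero hh0] at hh'm ⊢
    rw [Monic, leadingCoeff_C] at hh'm
    rw [hh'm, map_one]
  rw [hh', this, mul_one, h1]

/-- A lift of an element of `PSL_n(q)` of order divisible by `p` cannot have a squarefree
characteristic polynomial. -/
theorem not_squarefree_of_dvd_orderOf [Fintype K] (p : ℕ) [Fact p.Prime] [CharP K p] (n : ℕ)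
    (x : Matrix.SpecialLinearGroup (Fin n) K) (hpx : p ∣ orderOf x) :
    ¬ Squarefree (x : Matrix (Fin n) (Fin n) K).charpoly := by
  intro hsq
  have hp : p.Prime := Fact.out
  have hfin : Finite (Matrix.SpecialLinearGroup (Fin n) K) := inferInstance
  have hNpos : 0 < orderOf x := orderOf_pos x
  obtain ⟨m, hm⟩ := hpx
  have hpow : (x : Matrix (Fin n) (Fin n) K) ^ (m * p) = 1 := by
    have h1 : x ^ (m * p) = 1 := by rw [mul_comm, ← hm]; exact pow_orderOf_eq_one x
    rw [← Matrix.SpecialLinearGroup.coe_pow, h1]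
    rfl
  have h4 := pow_eq_one_of_squarefree p _ hsq m hpow
  have h5 : x ^ m = 1 := by
    apply Subtype.ext
    rw [Matrix.SpecialLinearGroup.coe_pow, h4]
    rfl
  have h6 := orderOf_dvd_of_pow_eq_one h5
  have hm0 : 0 < m := by
    rcases Nat.eq_zero_or_pos m with h | h
    · rw [h, mul_zero] at hm
      omega
    · exact h
  have := Nat.le_of_dvd hm0 h6
  have := hp.two_le
  nlinarith

variable [Fintype K]

theorem psl3_orderOf_ne (p : ℕ) [Fact p.Prime] [CharP K p] (hp3 : p ≠ 3)
    (h9 : ¬ 9 ∣ Fintype.card K - 1) (g : Matrix.ProjectiveSpecialLinearGroup (Fin 3) K) :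
    orderOf g ≠ 3 * p := by
  intro hgo
  have hp : p.Prime := Fact.out
  obtain ⟨x, rfl⟩ := QuotientGroup.mk_surjective g
  obtain ⟨f, -, hq⟩ := FiniteField.card K p
  obtain ⟨f', hf'⟩ : ∃ f', (f : ℕ) = f' + 1 := ⟨(f : ℕ) - 1, by have := f.pos; omega⟩
  -- the image of `x ^ q` has order three
  have hy : orderOf ((QuotientGroup.mk x : Matrix.ProjectiveSpecialLinearGroup (Fin 3) K) ^ p)
      = 3 := by
    rw [orderOf_pow_of_dvd hp.ne_zero (by rw [hgo]; exact Dvd.intro_left _ rfl), hgo,
      Nat.mul_div_cancel _ hp.pos]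
  have hsq3 : orderOf ((QuotientGroup.mk (x ^ Fintype.card K) :
      Matrix.ProjectiveSpecialLinearGroup (Fin 3) K)) = 3 := by
    rw [QuotientGroup.mk_pow, hq, hf', pow_succ', pow_mul]
    have hcop : (orderOf ((QuotientGroup.mk x :
        Matrix.ProjectiveSpecialLinearGroup (Fin 3) K) ^ p)).Coprime (p ^ f') := by
      rw [hy]
      exact ((Nat.coprime_primes Nat.prime_three hp).2 (Ne.symm hp3)).pow_right _
    rw [hcop.orderOf_pow, hy]
  obtain ⟨s, hs⟩ : ∃ s, s = x ^ Fintype.card K := ⟨_, rfl⟩
  rw [← hs] at hsq3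
  -- `s ^ 3` is a scalar, `s` is not
  have hs3 : s ^ 3 ∈ Subgroup.center (Matrix.SpecialLinearGroup (Fin 3) K) := by
    rw [← QuotientGroup.eq_one_iff, QuotientGroup.mk_pow]
    have := pow_orderOf_eq_one (QuotientGroup.mk s : Matrix.ProjectiveSpecialLinearGroup (Fin 3) K)
    rwa [hsq3] at this
  have hsZ : s ∉ Subgroup.center (Matrix.SpecialLinearGroup (Fin 3) K) := by
    intro h
    have h1 : (QuotientGroup.mk s : Matrix.ProjectiveSpecialLinearGroup (Fin 3) K) = 1 :=
      (QuotientGroup.eq_one_iff s).2 h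
    rw [h1, orderOf_one] at hsq3
    omega
  rw [Matrix.SpecialLinearGroup.mem_center_iff] at hs3
  obtain ⟨ζ, hζ, hsζ⟩ := hs3
  rw [Fintype.card_fin] at hζ
  have hA : (s : Matrix (Fin 3) (Fin 3) K) ^ 3 = Matrix.scalar (Fin 3) ζ := by
    rw [hsζ, Matrix.SpecialLinearGroup.coe_pow]
  have hns : ∀ α : K, (s : Matrix (Fin 3) (Fin 3) K) ≠ Matrix.scalar (Fin 3) α := by
    intro α hα
    apply hsZ
    rw [Matrix.SpecialLinearGroup.mem_center_iff]
    refine ⟨α, ?_, hα.symm⟩
    have hdet : (s : Matrix (Fin 3) (Fin 3) K).det = 1 := s.2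
    rw [hα, Matrix.scalar_apply, Matrix.det_diagonal, Finset.prod_const, Finset.card_univ] at hdet
    exact hdet
  have h3K : (3 : K) ≠ 0 := by
    intro h
    have h1 : ((3 : ℕ) : K) = 0 := by exact_mod_cast h
    rw [CharP.cast_eq_zero_iff K p] at h1
    exact hp3 ((Nat.prime_dvd_prime_iff_eq hp Nat.prime_three).1 h1)
  have h9' : ∀ α : K, α ^ 9 = 1 → α ^ 3 = 1 := by
    intro α hα
    have hα0 : α ≠ 0 := by
      rintro rfl
      rw [zero_pow (by norm_num)] at hα
      exact zero_ne_one hα
    have h1 : α ^ (Fintype.card K - 1) = 1 := FiniteField.pow_card_sub_one_eq_one α hα0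
    have h2 : α ^ Nat.gcd 9 (Fintype.card K - 1) = 1 := pow_gcd_eq_one.2 ⟨hα, h1⟩
    have hd : Nat.gcd 9 (Fintype.card K - 1) ∣ 3 ^ 2 := Nat.gcd_dvd_left _ _
    obtain ⟨j, hj, hdj⟩ := (Nat.dvd_prime_pow Nat.prime_three).1 hd
    have hj1 : j ≤ 1 := by
      by_contra hcon
      have hj2 : j = 2 := by omega
      apply h9
      have := Nat.gcd_dvd_right 9 (Fintype.card K - 1)
      rw [hdj, hj2] at this
      exact this
    have hd3 : Nat.gcd 9 (Fintype.card K - 1) ∣ 3 := by
      rw [hdj]
      interval_cases j <;> norm_num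
    obtain ⟨c, hc⟩ := hd3
    rw [hc, pow_mul, h2, one_pow]
  have hcp := charpoly_eq_of_cube_scalar h3K h9' _ s.2 ζ hζ hA hns
  have hζ0 : ζ ≠ 0 := by
    rintro rfl
    rw [zero_pow (by norm_num)] at hζ
    exact zero_ne_one hζ
  have hsq : Squarefree (s : Matrix (Fin 3) (Fin 3) K).charpoly := by
    rw [hcp]
    apply Separable.squarefree
    apply separable_X_pow_sub_C ζ _ hζ0
    exact_mod_cast h3K
  rw [hs, Matrix.SpecialLinearGroup.coe_pow, FiniteField.Matrix.charpoly_pow_card] at hsq
  apply not_squarefree_of_dvd_orderOf p 3 x _ hsq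
  have h1 : orderOf (QuotientGroup.mk x : Matrix.ProjectiveSpecialLinearGroup (Fin 3) K) ∣
      orderOf x := orderOf_map_dvd (QuotientGroup.mk' _) _
  rw [hgo] at h1
  exact (Dvd.intro_left _ rfl).trans h1

end Cfsg.Agent.Helper12.PslGraph
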