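import Mathlib
import Cfsg.Agent.Helper12.PslGraphD
import Cfsg.Agent.Helper2.SLCard

set_option autoImplicit false

/-! Elements of order `r * p` in `PSL_n(q)`: the constructions. -/

open Matrix

namespace Cfsg.Agent.Helper12.PslGraph

universe u

variable {K : Type u} [Field K]

/-- the block element `diag(u, y)` with `y` of order `r` in `SL_m(q)` -/
theorem exists_psl_of_sl_elt (p : ℕ) [Fact p.Prime] [CharP K p] (m r : ℕ) (hr : r.Prime)
    (hrp : r ≠ p) (y : Matrix.SpecialLinearGroup (Fin m) K) (hy : orderOf y = r) :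
    ∃ g : Matrix.ProjectiveSpecialLinearGroup (Fin (2 + m)) K, orderOf g = r * p := by
  have hp : p.Prime := Fact.out
  have hdet : (uMat : Matrix (Fin 2) (Fin 2) K).det * (y : Matrix (Fin m) (Fin m) K).det = 1 := by
    rw [uMat_det, y.2, one_mul]
  refine ⟨QuotientGroup.mk (blkSL uMat (y : Matrix (Fin m) (Fin m) K) hdet), ?_⟩
  apply orderOf_eq_mul_of_pow_iff _ r p hr hp hrp
  intro d
  rw [mk_blkSL_pow_eq_one_iff]
  have hu : ∀ ζ : K, (uMat : Matrix (Fin 2) (Fin 2) K) ^ d = Matrix.scalar (Fin 2) ζ ↔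
      (d : K) = 0 ∧ 1 = ζ := by
    intro ζ
    have := smul_uMat_pow_eq_scalar_iff (1 : K) one_ne_zero d ζ
    rwa [one_smul, one_pow] at this
  have hyd : (y : Matrix (Fin m) (Fin m) K) ^ d = 1 ↔ r ∣ d := by
    rw [← hy, orderOf_dvd_iff_pow_eq_one]
    constructor
    · intro h
      apply Subtype.ext
      rw [Matrix.SpecialLinearGroup.coe_pow, h]
      rfl
    · intro h
      rw [← Matrix.SpecialLinearGroup.coe_pow, h]
      rfl
  constructor
  · rintro ⟨ζ, h1, h2⟩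
    obtain ⟨hd, hζ⟩ := (hu ζ).1 h1
    refine ⟨(CharP.cast_eq_zero_iff K p d).1 hd, ?_⟩
    rw [← hyd, h2, ← hζ, map_one]
  · rintro ⟨h1, h2⟩
    refine ⟨1, (hu 1).2 ⟨(CharP.cast_eq_zero_iff K p d).2 h1, rfl⟩, ?_⟩
    rw [map_one]
    exact hyd.2 h2

/-- the element `diag(a u, a⁻²)` of `SL_3(q)` -/
theorem exists_psl3 (p : ℕ) [Fact p.Prime] [CharP K p] (r : ℕ) (hr : r.Prime)
    (hrp : r ≠ p) (a : K) (ha : a ≠ 0) (hord : orderOf (a ^ 3) = r) :
    ∃ g : Matrix.ProjectiveSpecialLinearGroup (Fin (2 + 1)) K, orderOf g = r * p := by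
  have hp : p.Prime := Fact.out
  have hdet : (a • (uMat : Matrix (Fin 2) (Fin 2) K)).det *
      (Matrix.scalar (Fin 1) (a⁻¹ * a⁻¹)).det = 1 := by
    rw [Matrix.det_smul, uMat_det, Matrix.scalar_apply, Matrix.det_diagonal, Finset.prod_const,
      Finset.card_univ, Fintype.card_fin, Fintype.card_fin]
    field_simp
  refine ⟨QuotientGroup.mk (blkSL (a • uMat) (Matrix.scalar (Fin 1) (a⁻¹ * a⁻¹)) hdet), ?_⟩
  apply orderOf_eq_mul_of_pow_iff _ r p hr hp hrp
  intro d
  rw [mk_blkSL_pow_eq_one_iff]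
  have hb : a ^ d ≠ 0 := pow_ne_zero d ha
  have hkey : a ^ d = (a⁻¹ * a⁻¹) ^ d ↔ r ∣ d := by
    rw [← hord, orderOf_dvd_iff_pow_eq_one, ← pow_mul, mul_comm 3 d, pow_mul, mul_pow, inv_pow]
    constructor
    · intro h
      field_simp at h
      linear_combination h
    · intro h
      field_simp
      linear_combination h
  constructor
  · rintro ⟨ζ, h1, h2⟩
    obtain ⟨hd, hζ⟩ := (smul_uMat_pow_eq_scalar_iff a ha d ζ).1 h1
    refine ⟨(CharP.cast_eq_zero_iff K p d).1 hd, ?_⟩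
    rw [← map_pow] at h2
    have h3 := Matrix.scalar_inj.1 h2
    rw [← hkey, hζ, h3]
  · rintro ⟨h1, h2⟩
    refine ⟨a ^ d, (smul_uMat_pow_eq_scalar_iff a ha d _).2
      ⟨(CharP.cast_eq_zero_iff K p d).2 h1, rfl⟩, ?_⟩
    rw [← map_pow, ← hkey.2 h2]

variable [Fintype K]

/-- an element of the field whose cube has order `r` -/
theorem exists_cube_order (r : ℕ) (hr : r.Prime) (hrq : r ∣ Fintype.card K - 1)
    (h39 : r ≠ 3 ∨ 9 ∣ Fintype.card K - 1) : ∃ a : K, a ≠ 0 ∧ orderOf (a ^ 3) = r := by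
  obtain ⟨ω, hω⟩ : ∃ ω : Kˣ, orderOf ω = Nat.card Kˣ := IsCyclic.exists_ofOrder_eq_natCard
  rw [Cfsg.Agent.Helper2.card_units_field] at hω
  have hq : 0 < Fintype.card K - 1 := by
    have := Fintype.one_lt_card (α := K)
    omega
  obtain ⟨N, hN⟩ : ∃ N, N = if r = 3 then 9 else r := ⟨_, rfl⟩
  have hNq : N ∣ Fintype.card K - 1 := by
    rw [hN]
    split_ifs with h
    · rcases h39 with h' | h'
      · exact absurd h h'
      · exact h'
    · exact hrq
  have hNpos : 0 < N := Nat.pos_of_dvd_of_pos hNq hq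
  obtain ⟨c, hc⟩ := hNq
  have hc0 : c ≠ 0 := by
    rintro rfl
    rw [mul_zero] at hc
    omega
  have hb : orderOf (ω ^ c) = N := by
    rw [orderOf_pow_of_dvd hc0 (by rw [hω, hc]; exact Dvd.intro_left _ rfl), hω, hc,
      Nat.mul_div_cancel _ (Nat.pos_of_ne_zero hc0)]
  refine ⟨((ω ^ c : Kˣ) : K), Units.ne_zero _, ?_⟩
  rw [← Units.val_pow_eq_pow_val, orderOf_units, orderOf_pow, hb, hN]
  split_ifs with h
  · rw [h]
    norm_num
  · rw [(Nat.coprime_primes hr Nat.prime_three).2 h]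
    exact Nat.div_one r

/-- `r` divides the order of `SL_m(q)` -/
theorem prime_dvd_card_SL (r : ℕ) (hr : r.Prime) (m k : ℕ) (hk1 : 1 ≤ k)
    (hk : r ∣ Fintype.card K ^ k - 1)
    (h : (¬ r ∣ Fintype.card K - 1 ∧ k ≤ m) ∨ (r ∣ Fintype.card K - 1 ∧ 2 ≤ m)) :
    r ∣ Nat.card (Matrix.SpecialLinearGroup (Fin m) K) := by
  have hm1 : 1 ≤ m := by rcases h with h | h <;> omega
  have hne : Nonempty (Fin m) := ⟨⟨0, hm1⟩⟩
  have h1 := Cfsg.Agent.Helper2.card_SL_mul_card_units (ι := Fin m) (F := K)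
  rw [Cfsg.Agent.Helper2.card_units_field, Matrix.card_GL_field] at h1
  have hq1 : 1 ≤ Fintype.card K := Fintype.card_pos
  rcases h with ⟨hnd, hkm⟩ | ⟨hd, hm2⟩
  · have h2 : r ∣ ∏ i : Fin m, (Fintype.card K ^ m - Fintype.card K ^ (i : ℕ)) := by
      apply Dvd.dvd.trans _ (Finset.dvd_prod_of_mem _ (Finset.mem_univ (⟨m - k, by omega⟩ : Fin m)))
      have : Fintype.card K ^ m - Fintype.card K ^ (m - k) =
          Fintype.card K ^ (m - k) * (Fintype.card K ^ k - 1) := by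
        rw [Nat.mul_sub, mul_one, ← pow_add]
        congr 2
        omega
      rw [this]
      exact Dvd.dvd.mul_left hk _
    rw [← h1] at h2
    rcases (Nat.Prime.dvd_mul hr).1 h2 with h3 | h3
    · exact h3
    · exact absurd h3 hnd
  · obtain ⟨m', rfl⟩ : ∃ m', m = m' + 2 := ⟨m - 2, by omega⟩
    rw [Fin.prod_univ_succ, Fin.prod_univ_succ] at h1
    simp only [Fin.val_zero, pow_zero, Fin.val_succ, zero_add, pow_one] at h1
    have hd1 : Fintype.card K - 1 ∣ Fintype.card K ^ (m' + 2) - 1 := by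
      have := Nat.sub_dvd_pow_sub_pow (Fintype.card K) 1 (m' + 2)
      rwa [one_pow] at this
    have hd2 : Fintype.card K - 1 ∣ Fintype.card K ^ (m' + 2) - Fintype.card K := by
      have : Fintype.card K ^ (m' + 2) - Fintype.card K =
          Fintype.card K * (Fintype.card K ^ (m' + 1) - 1) := by
        rw [Nat.mul_sub, mul_one, ← pow_succ']
      rw [this]
      apply Dvd.dvd.mul_left
      have := Nat.sub_dvd_pow_sub_pow (Fintype.card K) 1 (m' + 1)
      rwa [one_pow] at this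
    obtain ⟨c1, hc1⟩ := hd1
    obtain ⟨c2, hc2⟩ := hd2
    rw [hc1, hc2] at h1
    have hqpos : 0 < Fintype.card K - 1 := by
      have := Fintype.one_lt_card (α := K)
      omega
    have h3 : Nat.card (Matrix.SpecialLinearGroup (Fin (m' + 2)) K) =
        (Fintype.card K - 1) * (c1 * c2 *
          ∏ i : Fin m', (Fintype.card K ^ (m' + 2) - Fintype.card K ^ ((i : ℕ) + 1 + 1))) := by
      apply Nat.eq_of_mul_eq_mul_right hqpos
      rw [h1]
      ring
    rw [h3]
    exact Dvd.dvd.mul_right hd _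

end Cfsg.Agent.Helper12.PslGraph
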