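import Mathlib
import Cfsg.Agent.Helper12.PslGraphB
import Cfsg.Agent.Helper2.SLCard

set_option autoImplicit false

/-! Block embeddings of general linear groups, Singer-type elements, and passing from `GL_n` to
`PSL_n` for elements of order prime to `q - 1`. -/

open Matrix

namespace Cfsg.Agent.Helper12.PslGraph

universe u

variable {K : Type u} [Field K]

/-- the block-diagonal monoid homomorphism on matrices -/
def blkMatHom (a b : ℕ) :
    Matrix (Fin a) (Fin a) K × Matrix (Fin b) (Fin b) K →* Matrix (Fin (a + b)) (Fin (a + b)) K where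
  toFun g := Matrix.reindex finSumFinEquiv finSumFinEquiv (Matrix.fromBlocks g.1 0 0 g.2)
  map_one' := by
    show Matrix.reindex finSumFinEquiv finSumFinEquiv (Matrix.fromBlocks (1 : Matrix (Fin a) (Fin a) K)
      0 0 (1 : Matrix (Fin b) (Fin b) K)) = 1
    rw [Matrix.fromBlocks_one]
    simp
  map_mul' g h := by
    show Matrix.reindex finSumFinEquiv finSumFinEquiv
        (Matrix.fromBlocks (g.1 * h.1) 0 0 (g.2 * h.2)) =
      Matrix.reindex finSumFinEquiv finSumFinEquiv (Matrix.fromBlocks g.1 0 0 g.2) *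
        Matrix.reindex finSumFinEquiv finSumFinEquiv (Matrix.fromBlocks h.1 0 0 h.2)
    simp only [Matrix.reindex_apply, Matrix.submatrix_mul_equiv, Matrix.fromBlocks_multiply]
    simp

theorem blkMatHom_injective (a b : ℕ) : Function.Injective (blkMatHom (K := K) a b) := by
  intro g h hgh
  have h1 := (Matrix.reindex finSumFinEquiv finSumFinEquiv).injective hgh
  have h2 := Matrix.fromBlocks_inj.1 h1
  exact Prod.ext h2.1 h2.2.2.2

/-- the block embedding `GL_a × GL_b → GL_{a+b}` -/
def blkGL (a b : ℕ) : GL (Fin a) K × GL (Fin b) K →* GL (Fin (a + b)) K :=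
  (Units.map (blkMatHom (K := K) a b)).comp
    (MulEquiv.prodUnits (M := Matrix (Fin a) (Fin a) K) (N := Matrix (Fin b) (Fin b) K)).symm.toMonoidHom

theorem blkGL_injective (a b : ℕ) : Function.Injective (blkGL (K := K) a b) := by
  intro g h hgh
  have h1 : Function.Injective (Units.map (blkMatHom (K := K) a b)) :=
    Units.map_injective (blkMatHom_injective a b)
  have := h1 hgh
  exact (MulEquiv.prodUnits (M := Matrix (Fin a) (Fin a) K)
    (N := Matrix (Fin b) (Fin b) K)).symm.injective this

variable [Fintype K]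

/-- Singer-type elements: every divisor of `q ^ l - 1` is the order of an element of `GL_l(q)`. -/
theorem exists_gl_orderOf (l N : ℕ) (hl : 1 ≤ l) (hN : N ∣ Fintype.card K ^ l - 1) :
    ∃ g : GL (Fin l) K, orderOf g = N := by
  classical
  obtain ⟨p, hp⟩ := CharP.exists K
  have hpp : Fact p.Prime := ⟨CharP.char_is_prime K p⟩
  have hne : NeZero l := ⟨by omega⟩
  let L := FiniteField.Extension K p l
  have hfr : Module.finrank K L = l := FiniteField.finrank_extension K p l
  let b : Module.Basis (Fin l) K L := Module.finBasisOfFinrankEq K L hfr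
  have hfin : Fintype L := Fintype.ofFinite L
  obtain ⟨ω, hω⟩ : ∃ ω : Lˣ, orderOf ω = Nat.card Lˣ := IsCyclic.exists_ofOrder_eq_natCard
  have hcardL : Nat.card Lˣ = Fintype.card K ^ l - 1 := by
    rw [Nat.card_units, FiniteField.natCard_extension, Nat.card_eq_fintype_card]
  rw [hcardL] at hω
  have hqpos : 0 < Fintype.card K ^ l - 1 := by
    have h2 : 2 ≤ Fintype.card K := Fintype.one_lt_card
    have : 2 ^ 1 ≤ Fintype.card K ^ l :=
      le_trans (Nat.pow_le_pow_left h2 1) (Nat.pow_le_pow_right (by omega) hl)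
    omega
  obtain ⟨c, hc⟩ := hN
  have hc0 : c ≠ 0 := by
    rintro rfl
    rw [mul_zero] at hc
    omega
  have hb : orderOf (ω ^ c) = N := by
    rw [orderOf_pow_of_dvd hc0 (by rw [hω, hc]; exact Dvd.intro_left _ rfl), hω, hc,
      Nat.mul_div_cancel _ (Nat.pos_of_ne_zero hc0)]
  let Lm : L →ₐ[K] Matrix (Fin l) (Fin l) K := Algebra.leftMulMatrix b
  have hinj : Function.Injective (Units.map (Lm : L →* Matrix (Fin l) (Fin l) K)) :=
    Units.map_injective (Algebra.leftMulMatrix_injective b)
  refine ⟨Units.map (Lm : L →* Matrix (Fin l) (Fin l) K) (ω ^ c), ?_⟩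
  rw [orderOf_injective _ hinj, hb]

/-- an element of `GL_n(q)` of order prime to `q - 1` gives an element of `PSL_n(q)` of the same
order -/
theorem exists_psl_of_gl (n N : ℕ) (hN : N.Coprime (Fintype.card K - 1)) (z : GL (Fin n) K)
    (hz : orderOf z = N) :
    ∃ g : Matrix.ProjectiveSpecialLinearGroup (Fin n) K, orderOf g = N := by
  have hdet : Matrix.GeneralLinearGroup.det z = 1 := by
    have h1 : (Matrix.GeneralLinearGroup.det z) ^ N = 1 := by
      rw [← map_pow, ← hz, pow_orderOf_eq_one, map_one]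
    have h2 : (Matrix.GeneralLinearGroup.det z) ^ (Fintype.card K - 1) = 1 := by
      rw [← Cfsg.Agent.Helper2.card_units_field]
      exact pow_card_eq_one'
    have h3 := pow_gcd_eq_one.2 ⟨h1, h2⟩
    rw [hN, pow_one] at h3
    exact h3
  have hdet' : (z : Matrix (Fin n) (Fin n) K).det = 1 := by
    have := congrArg Units.val hdet
    exact this
  obtain ⟨x, hx⟩ : ∃ x : Matrix.SpecialLinearGroup (Fin n) K,
      Matrix.SpecialLinearGroup.toGL x = z :=
    ⟨⟨(z : Matrix (Fin n) (Fin n) K), hdet'⟩, Units.ext rfl⟩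
  have hxo : orderOf x = N := by
    rw [← orderOf_injective _ Matrix.SpecialLinearGroup.toGL_injective, hx, hz]
  refine ⟨QuotientGroup.mk x, ?_⟩
  apply Nat.dvd_antisymm
  · rw [← hxo]
    exact orderOf_map_dvd (QuotientGroup.mk' _) _
  · have h1 : (QuotientGroup.mk x : Matrix.ProjectiveSpecialLinearGroup (Fin n) K) ^
        orderOf (QuotientGroup.mk x : Matrix.ProjectiveSpecialLinearGroup (Fin n) K) = 1 :=
      pow_orderOf_eq_one _
    rw [← QuotientGroup.mk_pow, QuotientGroup.eq_one_iff] at h1
    have h2 := center_pow_gcd n _ h1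
    rw [← pow_mul] at h2
    have h3 := orderOf_dvd_of_pow_eq_one h2
    rw [hxo] at h3
    have hcop : N.Coprime (Nat.gcd n (Fintype.card K - 1)) :=
      Nat.Coprime.coprime_dvd_right (Nat.gcd_dvd_right _ _) hN
    exact hcop.dvd_of_dvd_mul_right h3

end Cfsg.Agent.Helper12.PslGraph
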