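import Mathlib
import Cfsg.Agent.Helper12.PslGraphF
import Cfsg.Agent.Helper12.PslGraphG

set_option autoImplicit false

/-! Elements of order `r * s` in `PSL_n(q)`. -/

open Matrix

namespace Cfsg.Agent.Helper12.PslGraph

universe u

variable {K : Type u} [Field K] [Fintype K]

theorem dvd_card_pow_orderOf_sub_one (r : ℕ) :
    r ∣ Fintype.card K ^ orderOf ((Fintype.card K : ℕ) : ZMod r) - 1 := by
  have hq1 : 1 ≤ Fintype.card K := Fintype.card_pos
  rw [← ZMod.natCast_eq_zero_iff, Nat.cast_sub (Nat.one_le_pow _ _ hq1), Nat.cast_pow,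
    Nat.cast_one, pow_orderOf_eq_one, sub_self]

theorem orderOf_eq_one_iff_dvd (r : ℕ) :
    orderOf ((Fintype.card K : ℕ) : ZMod r) = 1 ↔ r ∣ Fintype.card K - 1 := by
  have hq1 : 1 ≤ Fintype.card K := Fintype.card_pos
  rw [orderOf_eq_one_iff, ← ZMod.natCast_eq_zero_iff, Nat.cast_sub hq1, Nat.cast_one, sub_eq_zero]

/-- a prime different from the characteristic dividing the order of `PSL_n(q)` has
`ord_s(q) ≤ n` -/
theorem orderOf_le_of_dvd_card_psl (p : ℕ) [Fact p.Prime] [CharP K p] (n s : ℕ) (hn : 1 ≤ n)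
    (hs : s.Prime) (hsp : s ≠ p)
    (hsG : s ∣ Nat.card (Matrix.ProjectiveSpecialLinearGroup (Fin n) K)) :
    orderOf ((Fintype.card K : ℕ) : ZMod s) ≤ n := by
  have hp : p.Prime := Fact.out
  have hne : Nonempty (Fin n) := ⟨⟨0, hn⟩⟩
  have h1 : s ∣ Nat.card (Matrix.SpecialLinearGroup (Fin n) K) := by
    rw [Subgroup.card_eq_card_quotient_mul_card_subgroup
      (Subgroup.center (Matrix.SpecialLinearGroup (Fin n) K))]
    exact Dvd.dvd.mul_right hsG _
  have h2 : s ∣ Nat.card (GL (Fin n) K) := by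
    rw [← Cfsg.Agent.Helper2.card_SL_mul_card_units]
    exact Dvd.dvd.mul_right h1 _
  rw [Matrix.card_GL_field, Prime.dvd_finsetProd_iff (Nat.prime_iff.1 hs)] at h2
  obtain ⟨i, -, hi⟩ := h2
  have hfac : Fintype.card K ^ n - Fintype.card K ^ (i : ℕ) =
      Fintype.card K ^ (i : ℕ) * (Fintype.card K ^ (n - (i : ℕ)) - 1) := by
    rw [Nat.mul_sub, mul_one, ← pow_add]
    congr 2
    have := i.2
    omega
  rw [hfac] at hi
  have hsq : ¬ s ∣ Fintype.card K ^ (i : ℕ) := by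
    intro h
    have h3 := hs.dvd_of_dvd_pow h
    obtain ⟨f, -, hq⟩ := FiniteField.card K p
    rw [hq] at h3
    exact hsp ((Nat.prime_dvd_prime_iff_eq hs hp).1 (hs.dvd_of_dvd_pow h3))
  have h4 : s ∣ Fintype.card K ^ (n - (i : ℕ)) - 1 :=
    ((Nat.Prime.dvd_mul hs).1 hi).resolve_left hsq
  have hq1 : 1 ≤ Fintype.card K ^ (n - (i : ℕ)) := Nat.one_le_pow _ _ Fintype.card_pos
  rw [← ZMod.natCast_eq_zero_iff, Nat.cast_sub hq1, Nat.cast_pow, Nat.cast_one, sub_eq_zero] at h4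
  have h5 := orderOf_dvd_of_pow_eq_one h4
  have hpos : 0 < n - (i : ℕ) := by
    have := i.2
    omega
  exact le_trans (Nat.le_of_dvd hpos h5) (Nat.sub_le _ _)

/-- existence of an element of order `r * s` in `GL_n(q)` -/
theorem exists_gl_orderOf_mul (n r s k l : ℕ) (hr : r.Prime) (hs : s.Prime) (hrs : r ≠ s)
    (hk : k = orderOf ((Fintype.card K : ℕ) : ZMod r))
    (hl : l = orderOf ((Fintype.card K : ℕ) : ZMod s)) (hk1 : 1 ≤ k) (hl1 : 1 ≤ l)
    (hln : l ≤ n) (h : k + l ≤ n ∨ k ∣ l) : ∃ z : GL (Fin n) K, orderOf z = r * s := by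
  have hcop : r.Coprime s := (Nat.coprime_primes hr hs).2 hrs
  have hrk : r ∣ Fintype.card K ^ k - 1 := by rw [hk]; exact dvd_card_pow_orderOf_sub_one r
  have hsl : s ∣ Fintype.card K ^ l - 1 := by rw [hl]; exact dvd_card_pow_orderOf_sub_one s
  by_cases hkl : k + l ≤ n
  · obtain ⟨g₁, hg₁⟩ := exists_gl_orderOf (K := K) k r hk1 hrk
    obtain ⟨g₂, hg₂⟩ := exists_gl_orderOf (K := K) l s hl1 hsl
    obtain ⟨c, rfl⟩ : ∃ c, n = (k + l) + c := ⟨n - (k + l), by omega⟩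
    refine ⟨blkGL (k + l) c (blkGL k l (g₁, g₂), 1), ?_⟩
    rw [orderOf_injective _ (blkGL_injective _ _), Prod.orderOf,
      orderOf_injective _ (blkGL_injective _ _), Prod.orderOf, hg₁, hg₂, orderOf_one,
      hcop.lcm_eq_mul, Nat.lcm_one_right]
  · have hdvd : k ∣ l := h.resolve_left hkl
    have hrl : r ∣ Fintype.card K ^ l - 1 :=
      hrk.trans (Nat.pow_sub_one_dvd_pow_sub_one _ hdvd)
    have hrsl : r * s ∣ Fintype.card K ^ l - 1 := hcop.mul_dvd_of_dvd_of_dvd hrl hsl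
    obtain ⟨g, hg⟩ := exists_gl_orderOf (K := K) l (r * s) hl1 hrsl
    obtain ⟨c, rfl⟩ : ∃ c, n = l + c := ⟨n - l, by omega⟩
    refine ⟨blkGL l c (g, 1), ?_⟩
    rw [orderOf_injective _ (blkGL_injective _ _), Prod.orderOf, hg, orderOf_one,
      Nat.lcm_one_right]

end Cfsg.Agent.Helper12.PslGraph
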