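import Mathlib
import Cfsg.Agent.Helper10.QP74CONJ
import Cfsg.Agent.Helper19.QP74NIL
import Cfsg.Agent.Helper23.QP74TORUS
import Cfsg.Agent.Helper12.QPNONU
import Cfsg.Agent.Helper5.QPDECOMP

/-! Quadratic pairs, board `qp74pieces`, piece NUELT: the element `n_s = h_s σ h_s⁻¹ σ⁻¹ h_s⁻² = 1 + t_s ν`. -/

set_option autoImplicit false

noncomputable section

universe u v

namespace Cfsg.Agent.QP74

open Cfsg Cfsg.Agent.Helper25.QP Cfsg.Agent.Helper25.QuadPair Cfsg.Agent.QPP Polynomial

variable {k : Type u} [Field k] {M : Type v} [AddCommGroup M] [Module k M]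

local notation "GLkM" => LinearMap.GeneralLinearGroup k M

/-- two endomorphisms agreeing on three submodules that span `M` are equal -/
theorem NUELT_aux_ext3 (K B B' : Submodule k M) (h : K ⊔ (B ⊔ B') = ⊤) (f g : Module.End k M)
    (hK : ∀ m ∈ K, f m = g m) (hB : ∀ m ∈ B, f m = g m) (hB' : ∀ m ∈ B', f m = g m) : f = g := by
  apply LinearMap.ext
  intro m
  have hm : m ∈ K ⊔ (B ⊔ B') := by rw [h]; trivial
  obtain ⟨x, hx, y, hy, rfl⟩ := Submodule.mem_sup.mp hm
  obtain ⟨y1, hy1, y2, hy2, rfl⟩ := Submodule.mem_sup.mp hy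
  rw [map_add, map_add, map_add, map_add, hK x hx, hB y1 hy1, hB' y2 hy2]

/-- the geometric data of the pair `(b, b' = σ b σ⁻¹)` -/
structure Geo (a b : Module.End k M) : Prop where
  haa : a * a = 0
  hbb : b * b = 0
  hb'b' : cj a b * cj a b = 0
  top : (LinearMap.ker b ⊓ LinearMap.ker (cj a b)) ⊔ (LinearMap.range b ⊔ LinearMap.range (cj a b)) = ⊤
  disjKV : Disjoint (LinearMap.ker b ⊓ LinearMap.ker (cj a b)) (LinearMap.range b ⊔ LinearMap.range (cj a b))
  disjBB' : Disjoint (LinearMap.range b) (LinearMap.range (cj a b))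
  compl : IsCompl (LinearMap.ker (cj a b)) (LinearMap.range b)

theorem NUELT_aux_geo [FiniteDimensional k M] (hk2 : ringChar k ≠ 2) (hk3 : Nat.card k ≠ 3)
    {G : Subgroup GLkM} {d : ℕ} {a b : Module.End k M} (hmin : MinRank G d) (ha : QFam G a)
    (hb : Qd G d b) (hnil : ¬ IsNilpotent (a * b)) :
    Geo a b ∧ QPair G d b (cj a b) ∧ ¬ UnipPair b (cj a b) := by
  have haa : a * a = 0 := ha.1
  have hbb : b * b = 0 := hb.1.1
  have hb' : Qd G d (cj a b) := CONJ ha hb
  have hp : QPair G d b (cj a b) := ⟨hmin, hb, hb'⟩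
  have hnu : ¬ UnipPair b (cj a b) := fun h => hnil (NIL haa hbb h)
  obtain ⟨hopp, -, -⟩ := NONU hk2 hk3 hp hnu
  obtain ⟨hc, hd, -, -⟩ := DECOMP hopp hbb hb'.1.1
  exact ⟨⟨haa, hbb, hb'.1.1, hc.sup_eq_top, hc.disjoint, hd, hopp.2⟩, hp, hnu⟩

namespace Geo

variable {a b : Module.End k M}

theorem sigma_mem (g : Geo a b) {u : M} (hu : u ∈ LinearMap.range b) :
    u + a u ∈ LinearMap.range (cj a b) := (CONJ_range g.haa _).mpr ⟨u, hu, rfl⟩

theorem exists_of_mem (g : Geo a b) {u' : M} (hu' : u' ∈ LinearMap.range (cj a b)) :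
    ∃ u ∈ LinearMap.range b, u' = u + a u := (CONJ_range g.haa _).mp hu'

theorem a_sigma (g : Geo a b) (u : M) : a (u + a u) = a u := by
  rw [map_add, ← Module.End.mul_apply, g.haa]; simp

theorem range_le_ker (g : Geo a b) : LinearMap.range b ≤ LinearMap.ker b := by
  rintro _ ⟨m, rfl⟩
  rw [LinearMap.mem_ker, ← Module.End.mul_apply, g.hbb]; simp

theorem range'_le_ker' (g : Geo a b) : LinearMap.range (cj a b) ≤ LinearMap.ker (cj a b) := by
  rintro _ ⟨m, rfl⟩
  rw [LinearMap.mem_ker, ← Module.End.mul_apply, g.hb'b']; simp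

/-- `K₀` is `a`-invariant -/
theorem a_mem_K (g : Geo a b) {m : M} (hm : m ∈ LinearMap.ker b ⊓ LinearMap.ker (cj a b)) :
    a m ∈ LinearMap.ker b ⊓ LinearMap.ker (cj a b) := by
  obtain ⟨h1, h2⟩ := Submodule.mem_inf.mp hm
  rw [LinearMap.mem_ker] at h1
  rw [CONJ_ker g.haa, map_sub, h1, zero_sub, neg_eq_zero] at h2
  refine Submodule.mem_inf.mpr ⟨LinearMap.mem_ker.mpr h2, ?_⟩
  rw [CONJ_ker g.haa, ← Module.End.mul_apply a a, g.haa]
  simpa using h2

end Geo

theorem NUELT [FiniteDimensional k M] (hk2 : ringChar k ≠ 2) (hk3 : Nat.card k ≠ 3)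
    {G : Subgroup GLkM} {d : ℕ} {a b : Module.End k M} (hmin : MinRank G d) (ha : QFam G a)
    (hb : Qd G d b) (hnil : ¬ IsNilpotent (a * b)) (ν : Module.End k M)
    (hν1 : ∀ u ∈ LinearMap.range b, ν u = u + a u) (hν0 : ∀ m ∈ LinearMap.ker (cj a b), ν m = 0)
    (s : k) (hs : s ≠ 0) : InG G (1 + (2 * s⁻¹ ^ 2 * (s⁻¹ ^ 2 - 1)) • ν) := by
  obtain ⟨g, hp, hnu⟩ := NUELT_aux_geo hk2 hk3 hmin ha hb hnil
  obtain ⟨r, hr⟩ : ∃ r : k, r = s⁻¹ := ⟨_, rfl⟩
  have hrs : r * s = 1 := by rw [hr]; exact inv_mul_cancel₀ hs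
  have hr0 : r ≠ 0 := by rw [hr]; exact inv_ne_zero hs
  obtain ⟨h, hhG, hK, hB, hB'⟩ := TORUS hk2 hk3 hp hnu s hs
  obtain ⟨h₂, hh₂G, h₂K, h₂B, h₂B'⟩ := TORUS hk2 hk3 hp hnu r hr0
  have hrinv : r⁻¹ = s := by rw [hr]; exact inv_inv s
  rw [hrinv] at h₂B'
  rw [← hr] at hB'
  rw [← hr]
  -- the element
  have hσ : InG G (1 + a) := by simpa using ha.2 1
  have hσ' : InG G (1 - a) := by
    have := ha.2 (-1)
    simpa [sub_eq_add_neg] using this
  have hn : InG G ((h : Module.End k M) * (1 + a) * (h₂ : Module.End k M) * (1 - a) *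
      (h₂ : Module.End k M) * (h₂ : Module.End k M)) :=
    ((((InG.of_mem hhG).mul hσ).mul (InG.of_mem hh₂G)).mul hσ').mul (InG.of_mem hh₂G) |>.mul
      (InG.of_mem hh₂G)
  have heq : (h : Module.End k M) * (1 + a) * (h₂ : Module.End k M) * (1 - a) *
      (h₂ : Module.End k M) * (h₂ : Module.End k M) = 1 + (2 * r ^ 2 * (r ^ 2 - 1)) • ν := by
    apply NUELT_aux_ext3 _ _ _ g.top
    · -- on K₀
      intro m hm
      have ham := g.a_mem_K hm
      have hsub : m - a m ∈ LinearMap.ker b ⊓ LinearMap.ker (cj a b) := Submodule.sub_mem _ hm ham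
      simp only [Module.End.mul_apply, LinearMap.add_apply, LinearMap.sub_apply, Module.End.one_apply,
        LinearMap.smul_apply]
      rw [h₂K m hm, h₂K m hm, h₂K _ hsub, hν0 m hm.2]
      have e : m - a m + a (m - a m) = m := by
        rw [map_sub, ← Module.End.mul_apply a a, g.haa]; simp
      rw [e, hK m hm]; simp
    · -- on B
      intro u hu
      have hu' := g.sigma_mem hu
      have A1 : (h₂ : Module.End k M) u = r • u := h₂B u hu
      have A2 : (h₂ : Module.End k M) (u + a u) = s • (u + a u) := h₂B' _ hu'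
      have A3 : (h : Module.End k M) u = s • u := hB u hu
      have A4 : (h : Module.End k M) (u + a u) = r • (u + a u) := hB' _ hu'
      have A6 : a (a u) = 0 := by rw [← Module.End.mul_apply, g.haa]; simp
      have A2' : (h₂ : Module.End k M) (a u) = s • (u + a u) - r • u := by
        rw [← A2, ← A1, ← map_sub]; congr 1; abel
      have A4' : (h : Module.End k M) (a u) = r • (u + a u) - s • u := by
        rw [← A4, ← A3, ← map_sub]; congr 1; abel
      simp only [Module.End.mul_apply, LinearMap.add_apply, LinearMap.sub_apply, Module.End.one_apply,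
        LinearMap.smul_apply, map_sub, map_add, map_smul, A1, A2', A3, A4', A6, hν1 u hu, map_zero]
      match_scalars
      · rw [← hrinv]; field_simp; ring
      · rw [← hrinv]; field_simp; ring
    · -- on B'
      intro u' hu'
      obtain ⟨u, hu, rfl⟩ := g.exists_of_mem hu'
      have A1 : (h₂ : Module.End k M) u = r • u := h₂B u hu
      have A2 : (h₂ : Module.End k M) (u + a u) = s • (u + a u) := h₂B' _ hu'
      have A3 : (h : Module.End k M) u = s • u := hB u hu
      have A4 : (h : Module.End k M) (u + a u) = r • (u + a u) := hB' _ hu'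
      have A6 : a (a u) = 0 := by rw [← Module.End.mul_apply, g.haa]; simp
      have A2' : (h₂ : Module.End k M) (a u) = s • (u + a u) - r • u := by
        rw [← A2, ← A1, ← map_sub]; congr 1; abel
      have A4' : (h : Module.End k M) (a u) = r • (u + a u) - s • u := by
        rw [← A4, ← A3, ← map_sub]; congr 1; abel
      have hν : ν (u + a u) = 0 := hν0 _ (g.range'_le_ker' hu')
      have hν' : ν (a u) = - (u + a u) := by
        have e : ν (a u) = ν (u + a u) - ν u := by rw [← map_sub]; congr 1; abel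
        rw [e, hν, hν1 u hu]; abel
      simp only [Module.End.mul_apply, LinearMap.add_apply, LinearMap.sub_apply, Module.End.one_apply,
        LinearMap.smul_apply, map_sub, map_add, map_smul, A1, A2', A3, A4', A6, hν1 u hu, hν', map_zero]
      match_scalars
      · rw [← hrinv]; field_simp; ring
      · rw [← hrinv]; field_simp; ring
  rw [heq] at hn
  exact hn

end Cfsg.Agent.QP74

end
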