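import Mathlib
import Cfsg.Agent.Helper12.QP74NUELT
import Cfsg.Agent.Helper9.QP74NU

/-! Quadratic pairs, board `qp74pieces`, piece PEEL: peeling a root element off a quadratic element. -/

set_option autoImplicit false

noncomputable section

universe u v

namespace Cfsg.Agent.QP74

open Cfsg Cfsg.Agent.Helper25.QP Cfsg.Agent.Helper25.QuadPair Cfsg.Agent.QPP Polynomial

variable {k : Type u} [Field k] {M : Type v} [AddCommGroup M] [Module k M]

local notation "GLkM" => LinearMap.GeneralLinearGroup k M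

/-- the action of `a₁ = (1 - ν') ν (1 + ν')` -/
theorem PEEL_aux_a1 {a b ν ν' : Module.End k M} (g : Geo a b)
    (hν1 : ∀ u ∈ LinearMap.range b, ν u = u + a u) (hν0 : ∀ m ∈ LinearMap.ker (cj a b), ν m = 0)
    (hν'1 : ∀ u' ∈ LinearMap.range (cj a b), ν' u' = u' - a u')
    (hν'0 : ∀ m ∈ LinearMap.ker b, ν' m = 0) :
    (∀ m ∈ LinearMap.ker b ⊓ LinearMap.ker (cj a b), ((1 - ν') * ν * (1 + ν')) m = 0) ∧
    (∀ u ∈ LinearMap.range b, ((1 - ν') * ν * (1 + ν')) u = a u) ∧
    (∀ u' ∈ LinearMap.range (cj a b), ((1 - ν') * ν * (1 + ν')) u' = a u') := by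
  refine ⟨?_, ?_, ?_⟩
  · intro m hm
    obtain ⟨h1, h2⟩ := Submodule.mem_inf.mp hm
    simp only [Module.End.mul_apply, LinearMap.add_apply, LinearMap.sub_apply, Module.End.one_apply,
      hν'0 m h1, add_zero, hν0 m h2, map_zero, sub_zero]
  · intro u hu
    have hu' := g.sigma_mem hu
    simp only [Module.End.mul_apply, LinearMap.add_apply, LinearMap.sub_apply, Module.End.one_apply,
      hν'0 u (g.range_le_ker hu), add_zero, hν1 u hu, hν'1 _ hu', g.a_sigma]
    abel
  · intro u' hu'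
    obtain ⟨u, hu, rfl⟩ := g.exists_of_mem hu'
    have e1 : ν' (u + a u) = u := by rw [hν'1 _ hu', g.a_sigma]; abel
    rw [Module.End.mul_apply, Module.End.mul_apply, LinearMap.add_apply, Module.End.one_apply, e1,
      map_add ν, hν0 _ (g.range'_le_ker' hu'), hν1 u hu, zero_add, LinearMap.sub_apply,
      Module.End.one_apply, e1, g.a_sigma]
    abel

theorem PEEL [FiniteDimensional k M] (hk2 : ringChar k ≠ 2) (hk3 : Nat.card k ≠ 3)
    {G : Subgroup GLkM} {d : ℕ} {a b : Module.End k M} (hmin : MinRank G d) (ha : QFam G a)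
    (hb : Qd G d b) (hnil : ¬ IsNilpotent (a * b)) :
    ∃ a₁ a₀ : Module.End k M, a = a₁ + a₀ ∧ a₁ * a₀ = 0 ∧ a₀ * a₁ = 0 ∧ Qd G d a₁ ∧ QFam G a₀ ∧
      Module.finrank k (LinearMap.range a₀) + d = Module.finrank k (LinearMap.range a) := by
  obtain ⟨g, hp, hnu⟩ := NUELT_aux_geo hk2 hk3 hmin ha hb hnil
  have haa := g.haa
  obtain ⟨ν, hνq, hν1, hν0⟩ := NU hk2 hk3 hmin ha hb hnil
  -- the symmetric application
  have hb' : Qd G d (cj a b) := hp.qb
  have hnil' : ¬ IsNilpotent ((-a) * cj a b) := fun h => hnil (NIL' haa h)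
  obtain ⟨ν', hν'q, hν'1, hν'0⟩ := NU hk2 hk3 hmin ha.neg hb' hnil'
  rw [CONJ_back haa] at hν'0
  have hν'1' : ∀ u' ∈ LinearMap.range (cj a b), ν' u' = u' - a u' := by
    intro u' hu'
    rw [hν'1 u' hu', LinearMap.neg_apply, sub_eq_add_neg]
  -- a₁
  set a₁ : Module.End k M := (1 - ν') * ν * (1 + ν') with ha₁
  have hq₁ : QFam G a₁ := by
    have hin : InG G (1 + ν') := by simpa using hν'q.2 1
    refine hνq.conj hin ?_ ?_
    · have : (1 + ν') * (1 - ν') = 1 - ν' * ν' := by noncomm_ring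
      rw [this, hν'q.1, sub_zero]
    · have : (1 - ν') * (1 + ν') = 1 - ν' * ν' := by noncomm_ring
      rw [this, hν'q.1, sub_zero]
  obtain ⟨h1K, h1B, h1B'⟩ := PEEL_aux_a1 g hν1 hν0 hν'1' hν'0
  set a₀ : Module.End k M := a - a₁ with ha₀
  have h0K : ∀ m ∈ LinearMap.ker b ⊓ LinearMap.ker (cj a b), a₀ m = a m := fun m hm => by
    rw [ha₀, LinearMap.sub_apply, h1K m hm, sub_zero]
  have h0B : ∀ u ∈ LinearMap.range b, a₀ u = 0 := fun u hu => by
    rw [ha₀, LinearMap.sub_apply, h1B u hu, sub_self]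
  have h0B' : ∀ u ∈ LinearMap.range (cj a b), a₀ u = 0 := fun u hu => by
    rw [ha₀, LinearMap.sub_apply, h1B' u hu, sub_self]
  have hsum : a = a₁ + a₀ := by rw [ha₀]; abel
  -- a u ∈ V for u ∈ B, and a₀ (a u) = 0
  have h0aB : ∀ u ∈ LinearMap.range b, a₀ (a u) = 0 := fun u hu => by
    have : a u = (u + a u) - u := by abel
    rw [this, map_sub, h0B' _ (g.sigma_mem hu), h0B u hu, sub_zero]
  have h10 : a₁ * a₀ = 0 := by
    apply NUELT_aux_ext3 _ _ _ g.top
    · intro m hm
      rw [Module.End.mul_apply, h0K m hm, h1K _ (g.a_mem_K hm)]; simp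
    · intro u hu
      rw [Module.End.mul_apply, h0B u hu]; simp
    · intro u hu
      rw [Module.End.mul_apply, h0B' u hu]; simp
  have h01 : a₀ * a₁ = 0 := by
    apply NUELT_aux_ext3 _ _ _ g.top
    · intro m hm
      rw [Module.End.mul_apply, h1K m hm]; simp
    · intro u hu
      rw [Module.End.mul_apply, h1B u hu, h0aB u hu]; simp
    · intro u' hu'
      obtain ⟨u, hu, rfl⟩ := g.exists_of_mem hu'
      rw [Module.End.mul_apply, h1B' _ hu', g.a_sigma, h0aB u hu]; simp
  have haa₁ : a * a₁ = 0 := by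
    rw [hsum, add_mul, hq₁.1, h01, add_zero]
  have hq₀ : QFam G a₀ := by
    refine ⟨?_, fun c => ?_⟩
    · have : a₀ * a₀ = a * a - a * a₁ - a₁ * a₀ := by
        rw [ha₀]; noncomm_ring
      rw [this, haa, haa₁, h10]; simp
    · have e : (1 + c • a₀ : Module.End k M) = (1 + c • a) * (1 + (-c) • a₁) := by
        rw [mul_add, add_mul, add_mul, smul_mul_smul_comm, haa₁, ha₀]
        simp only [mul_one, one_mul, smul_zero, add_zero, smul_sub, neg_smul]
        abel
      rw [e]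
      exact (ha.2 c).mul (hq₁.2 (-c))
  -- ranges
  have hr1 : LinearMap.range a₁ = Submodule.map a (LinearMap.range b) := by
    apply le_antisymm
    · rintro _ ⟨m, rfl⟩
      have hm : m ∈ (LinearMap.ker b ⊓ LinearMap.ker (cj a b)) ⊔
          (LinearMap.range b ⊔ LinearMap.range (cj a b)) := by rw [g.top]; trivial
      obtain ⟨x, hx, y, hy, rfl⟩ := Submodule.mem_sup.mp hm
      obtain ⟨y1, hy1, y2, hy2, rfl⟩ := Submodule.mem_sup.mp hy
      obtain ⟨u2, hu2, rfl⟩ := g.exists_of_mem hy2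
      rw [map_add, map_add, h1K x hx, h1B y1 hy1, h1B' _ (g.sigma_mem hu2), g.a_sigma, zero_add,
        ← map_add]
      exact ⟨y1 + u2, Submodule.add_mem _ hy1 hu2, rfl⟩
    · rintro _ ⟨u, hu, rfl⟩
      exact ⟨u, h1B u hu⟩
  have hinj : ∀ u ∈ LinearMap.range b, a u = 0 → u = 0 := by
    intro u hu h0
    have h1 : u ∈ LinearMap.range (cj a b) := by
      have := g.sigma_mem hu
      rwa [h0, add_zero] at this
    exact (Submodule.disjoint_def.mp g.disjBB') u hu h1
  have hd1 : Module.finrank k (LinearMap.range a₁) = d := by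
    rw [hr1, ← hb.2]
    have hinj' : Function.Injective (a.domRestrict (LinearMap.range b)) := by
      rw [← LinearMap.ker_eq_bot, LinearMap.ker_eq_bot']
      rintro ⟨u, hu⟩ h0
      have := hinj u hu (by simpa [LinearMap.domRestrict_apply] using h0)
      exact Subtype.ext this
    have := LinearMap.finrank_range_of_inj hinj'
    rw [LinearMap.range_domRestrict] at this
    exact this
  have hr0K : LinearMap.range a₀ ≤ LinearMap.ker b ⊓ LinearMap.ker (cj a b) := by
    rintro _ ⟨m, rfl⟩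
    have hm : m ∈ (LinearMap.ker b ⊓ LinearMap.ker (cj a b)) ⊔
        (LinearMap.range b ⊔ LinearMap.range (cj a b)) := by rw [g.top]; trivial
    obtain ⟨x, hx, y, hy, rfl⟩ := Submodule.mem_sup.mp hm
    obtain ⟨y1, hy1, y2, hy2, rfl⟩ := Submodule.mem_sup.mp hy
    rw [map_add, map_add, h0K x hx, h0B y1 hy1, h0B' y2 hy2, add_zero, add_zero]
    exact g.a_mem_K hx
  have hr1V : LinearMap.range a₁ ≤ LinearMap.range b ⊔ LinearMap.range (cj a b) := by
    rw [hr1]
    rintro _ ⟨u, hu, rfl⟩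
    have : a u = (u + a u) - u := by abel
    rw [this]
    exact Submodule.sub_mem _ (Submodule.mem_sup_right (g.sigma_mem hu)) (Submodule.mem_sup_left hu)
  have hdisj : Disjoint (LinearMap.range a₁) (LinearMap.range a₀) :=
    (g.disjKV.mono hr0K hr1V).symm
  have hrsum : LinearMap.range a = LinearMap.range a₁ ⊔ LinearMap.range a₀ := by
    apply le_antisymm
    · rintro _ ⟨m, rfl⟩
      rw [hsum, LinearMap.add_apply]
      exact Submodule.add_mem _ (Submodule.mem_sup_left ⟨m, rfl⟩) (Submodule.mem_sup_right ⟨m, rfl⟩)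
    · apply sup_le
      · rw [hr1]
        rintro _ ⟨u, hu, rfl⟩
        exact ⟨u, rfl⟩
      · rintro _ ⟨m, rfl⟩
        have hm : m ∈ (LinearMap.ker b ⊓ LinearMap.ker (cj a b)) ⊔
            (LinearMap.range b ⊔ LinearMap.range (cj a b)) := by rw [g.top]; trivial
        obtain ⟨x, hx, y, hy, rfl⟩ := Submodule.mem_sup.mp hm
        obtain ⟨y1, hy1, y2, hy2, rfl⟩ := Submodule.mem_sup.mp hy
        rw [map_add, map_add, h0K x hx, h0B y1 hy1, h0B' y2 hy2, add_zero, add_zero]
        exact ⟨x, rfl⟩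
  refine ⟨a₁, a₀, hsum, h10, h01, ⟨hq₁, hd1⟩, hq₀, ?_⟩
  have := Submodule.finrank_sup_add_finrank_inf_eq (LinearMap.range a₁) (LinearMap.range a₀)
  rw [disjoint_iff.mp hdisj, finrank_bot, add_zero, ← hrsum, hd1] at this
  omega

end Cfsg.Agent.QP74

end
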