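import Mathlib
import Cfsg.Prelude.Def_Characters
import Cfsg.Agent.Helper24.QP889Defs
import Cfsg.Agent.Helper24.Product
import Cfsg.Agent.Helper24.Artin
import Cfsg.Agent.Helper8.Ind

/-!
S0889 piece PROJ: complex conjugate of an induced function times a class function is induced;
`conj a * b` is a character for characters `a`, `b` (any group).
-/

set_option autoImplicit false

namespace Cfsg.Agent.QP889

open Cfsg
open scoped ComplexConjugate

universe u

/-- Entrywise complex conjugate of a representation on a coordinate space. -/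
noncomputable def proj_conjRep {X : Type u} [Group X] {n : ℕ}
    (ρ : Representation ℂ X (Fin n → ℂ)) : Representation ℂ X (Fin n → ℂ) where
  toFun g := Matrix.toLin' ((LinearMap.toMatrix' (ρ g)).map (starRingEnd ℂ))
  map_one' := by
    rw [map_one]
    have h1 : LinearMap.toMatrix' (1 : Module.End ℂ (Fin n → ℂ)) = 1 := LinearMap.toMatrix'_one
    rw [h1, Matrix.map_one _ (map_zero _) (map_one _)]
    exact Matrix.toLin'_one
  map_mul' g h := by
    rw [map_mul]
    have h1 : LinearMap.toMatrix' (ρ g * ρ h) =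
        LinearMap.toMatrix' (ρ g) * LinearMap.toMatrix' (ρ h) := LinearMap.toMatrix'_mul _ _
    rw [h1, Matrix.map_mul, Matrix.toLin'_mul]
    rfl

theorem proj_conjRep_character {X : Type u} [Group X] {n : ℕ}
    (ρ : Representation ℂ X (Fin n → ℂ)) (g : X) :
    (proj_conjRep ρ).character g = conj (ρ.character g) := by
  unfold Representation.character
  have h1 : (proj_conjRep ρ) g =
      Matrix.toLin' ((LinearMap.toMatrix' (ρ g)).map (starRingEnd ℂ)) := rfl
  rw [h1, LinearMap.trace_eq_matrix_trace ℂ (Pi.basisFun ℂ (Fin n)),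
    LinearMap.trace_eq_matrix_trace ℂ (Pi.basisFun ℂ (Fin n)) (ρ g)]
  rw [LinearMap.toMatrix_eq_toMatrix', LinearMap.toMatrix'_toLin']
  unfold Matrix.trace
  rw [map_sum]
  rfl

theorem proj_isCharacter_conj {X : Type u} [Group X] (a : X → ℂ) (ha : IsCharacter X a) :
    IsCharacter X (fun x => conj (a x)) := by
  obtain ⟨n, ρ, rfl⟩ := ha
  refine ⟨n, proj_conjRep ρ, ?_⟩
  funext g
  exact proj_conjRep_character ρ g

theorem isCharacter_conj_mul {X : Type u} [Group X] (a b : X → ℂ)
    (ha : IsCharacter X a) (hb : IsCharacter X b) :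
    IsCharacter X (fun x => conj (a x) * b x) :=
  Cfsg.Agent.Helper24.IsCharacter.mul (proj_isCharacter_conj a ha) hb

theorem proj_conj_indFun {X : Type u} [Group X] [Fintype X] (T : Subgroup X) (σ : T → ℂ)
    (x : X) : conj (indFun T σ x) = indFun T (fun t : T => conj (σ t)) x := by
  rw [Cfsg.Agent.Helper8.indFun_def, Cfsg.Agent.Helper8.indFun_def, map_mul, map_sum, map_inv₀,
    Complex.conj_natCast]
  congr 1
  refine Finset.sum_congr rfl ?_
  intro y _
  by_cases hy : y⁻¹ * x * y ∈ T
  · rw [Cfsg.Agent.Helper8.ebz_mem T σ hy, Cfsg.Agent.Helper8.ebz_mem T _ hy]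
  · rw [Cfsg.Agent.Helper8.ebz_not_mem T σ hy, Cfsg.Agent.Helper8.ebz_not_mem T _ hy, map_zero]

theorem conj_indFun_mul {X : Type u} [Group X] [Fintype X] (T : Subgroup X) (σ : T → ℂ)
    (f : X → ℂ) (hf : IsClassFunction X f) :
    (fun x => conj (indFun T σ x) * f x) = indFun T (fun t : T => conj (σ t) * f t) := by
  have h := Cfsg.Agent.Helper24.indFun_mul_restrict T (fun t : T => conj (σ t)) f hf
  have h2 : ((fun t : T => conj (σ t)) * fun c : T => f c) = fun t : T => conj (σ t) * f t := rfl
  rw [h2] at h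
  rw [h]
  funext x
  rw [Pi.mul_apply, proj_conj_indFun]

end Cfsg.Agent.QP889
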