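import Mathlib
import Cfsg.Prelude.Def_Characters
import Cfsg.Agent.Helper24.QP889Defs
import Cfsg.Agent.Helper24.Restrict
import Cfsg.Agent.Helper24.Regular
import Cfsg.Agent.Helper8.UniformDegree
import Cfsg.Agent.Helper12.QP889PROJ

/-!
S0889 piece RHOIRR: if `conj a * b` is irreducible (for characters `a`, `b`) then `a` is irreducible.
-/

set_option autoImplicit false

namespace Cfsg.Agent.QP889

open Cfsg Cfsg.Agent.Helper24
open scoped ComplexConjugate

universe u

/-- A nonzero character is the sum of an irreducible character and a character. -/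
theorem rhoirr_split {X : Type u} [Group X] [Finite X] (a : X → ℂ) (ha : IsCharacter X a)
    (h0 : a ≠ 0) : ∃ (σ δ : X → ℂ), IsIrrCharacter X σ ∧ IsCharacter X δ ∧ a = σ + δ := by
  obtain ⟨m, hm⟩ := isCharacter_iff_exists_multiset.mp ha
  rcases Multiset.empty_or_exists_mem m with hm0 | ⟨ψ, hψ⟩
  · exfalso
    apply h0
    rw [hm, hm0]
    simp
  · obtain ⟨m', rfl⟩ := Multiset.exists_cons_of_mem hψ
    refine ⟨ψ.1, (m'.map (fun ψ : IrrCharacter X => (ψ : X → ℂ))).sum, ψ.2,
      isCharacter_iff_exists_multiset.mpr ⟨m', rfl⟩, ?_⟩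
    rw [hm, Multiset.map_cons, Multiset.sum_cons]

/-- Two characters adding up to an irreducible character: one of them has degree zero. -/
theorem rhoirr_sum_irr {X : Type u} [Group X] [Fintype X] (A B c : X → ℂ)
    (hA : IsCharacter X A) (hB : IsCharacter X B) (hc : IsIrrCharacter X c) (hsum : c = A + B) :
    A 1 = 0 ∨ B 1 = 0 := by
  classical
  haveI : Fintype (IrrCharacter X) := Fintype.ofFinite _
  obtain ⟨nA, hnA⟩ := isCharacter_one hA
  obtain ⟨nB, hnB⟩ := isCharacter_one hB
  have hdeg : (irrDeg ⟨c, hc⟩ : ℂ) = nA + nB := by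
    rw [← irrDeg_spec ⟨c, hc⟩]
    show c 1 = _
    rw [hsum, Pi.add_apply, hnA, hnB]
  have hdeg' : irrDeg ⟨c, hc⟩ = nA + nB := by exact_mod_cast hdeg
  have h1 : classInner c c = 1 := classInner_irr_self ⟨c, hc⟩
  have h2 : classInner A c + classInner B c = 1 := by
    rw [← classInner_add_left, ← hsum, h1]
  by_cases hAc : classInner A c = 0
  · have hBc : classInner B c ≠ 0 := by
      rw [hAc, zero_add] at h2
      rw [h2]
      exact one_ne_zero
    have hle := irrDeg_le_of_constituent hB ⟨c, hc⟩ hBc nB hnB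
    left
    rw [hnA]
    have : nA = 0 := by omega
    rw [this]
    simp
  · have hle := irrDeg_le_of_constituent hA ⟨c, hc⟩ hAc nA hnA
    right
    rw [hnB]
    have : nB = 0 := by omega
    rw [this]
    simp

theorem irr_of_conj_mul_irr {X : Type u} [Group X] [Fintype X] (a b : X → ℂ)
    (ha : IsCharacter X a) (hb : IsCharacter X b)
    (h : IsIrrCharacter X (fun x => conj (a x) * b x)) : IsIrrCharacter X a := by
  have hc1 : conj (a 1) * b 1 ≠ 0 := irr_one_ne_zero ⟨_, h⟩
  have hb1 : b 1 ≠ 0 := right_ne_zero_of_mul hc1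
  have ha0 : a ≠ 0 := by
    intro h0
    apply hc1
    rw [h0]
    simp
  obtain ⟨σ, δ, hσ, hδ, rfl⟩ := rhoirr_split a ha ha0
  have hsum : (fun x => conj ((σ + δ) x) * b x) =
      (fun x => conj (σ x) * b x) + (fun x => conj (δ x) * b x) := by
    funext x
    rw [Pi.add_apply, Pi.add_apply, map_add, add_mul]
  have hA := isCharacter_conj_mul σ b (IsIrrCharacter.isCharacter hσ) hb
  have hB := isCharacter_conj_mul δ b hδ hb
  rcases rhoirr_sum_irr _ _ _ hA hB h hsum with h1 | h1
  · exfalso
    have hσ1 : σ 1 ≠ 0 := irr_one_ne_zero ⟨σ, hσ⟩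
    rcases mul_eq_zero.mp h1 with h2 | h2
    · exact hσ1 ((map_eq_zero _).mp h2)
    · exact hb1 h2
  · have hδ1 : δ 1 = 0 := by
      rcases mul_eq_zero.mp h1 with h2 | h2
      · exact (map_eq_zero _).mp h2
      · exact absurd h2 hb1
    have := Cfsg.Agent.Helper8.isCharacter_eq_zero_of_apply_one hδ hδ1
    rw [this, add_zero]
    exact hσ

end Cfsg.Agent.QP889
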