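import Mathlib
import Cfsg.Agent.Helper2.Transvec

set_option autoImplicit false

/-! Generation of `SL₃(F)` by two conjugate regular unipotent elements: basic tools.
`E a b` is the matrix `1 + a E₁₂ + b E₁₃` (all transvections with centre `e₁`). -/

open Matrix

namespace Cfsg.Agent.Helper12.RU3

variable {F : Type*} [Field F]

/-- The matrix `1 + a E₁₂ + b E₁₃`. -/
def EM (a b : F) : Matrix (Fin 3) (Fin 3) F := !![1, a, b; 0, 1, 0; 0, 0, 1]

theorem EM_det (a b : F) : (EM a b).det = 1 := by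
  simp [EM, Matrix.det_fin_three]

/-- `1 + a E₁₂ + b E₁₃` in `SL₃(F)`. -/
def E (a b : F) : SpecialLinearGroup (Fin 3) F := ⟨EM a b, EM_det a b⟩

@[simp] theorem E_coe (a b : F) : (E a b : Matrix (Fin 3) (Fin 3) F) = EM a b := rfl

theorem E_mul (a b a' b' : F) : E a b * E a' b' = E (a + a') (b + b') := by
  apply Subtype.ext
  show EM a b * EM a' b' = EM (a + a') (b + b')
  ext i j
  fin_cases i <;> fin_cases j <;> simp [EM, Matrix.mul_apply, Fin.sum_univ_three, add_comm]

theorem E_zero : E (0 : F) 0 = 1 := by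
  apply Subtype.ext
  show EM (0 : F) 0 = 1
  ext i j
  fin_cases i <;> fin_cases j <;> simp [EM]

theorem E_inv (a b : F) : (E a b)⁻¹ = E (-a) (-b) := by
  apply inv_eq_of_mul_eq_one_right
  rw [E_mul, add_neg_cancel, add_neg_cancel, E_zero]

/-- Conjugating `E a b` by a matrix fixing the line `⟨e₁⟩`. -/
theorem conj_E (gm : SpecialLinearGroup (Fin 3) F)
    (h10 : (gm : Matrix (Fin 3) (Fin 3) F) 1 0 = 0) (h20 : (gm : Matrix (Fin 3) (Fin 3) F) 2 0 = 0)
    (a b a' b' : F)
    (h1 : a' * (gm : Matrix (Fin 3) (Fin 3) F) 1 1 + b' * (gm : Matrix (Fin 3) (Fin 3) F) 2 1 =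
      (gm : Matrix (Fin 3) (Fin 3) F) 0 0 * a)
    (h2 : a' * (gm : Matrix (Fin 3) (Fin 3) F) 1 2 + b' * (gm : Matrix (Fin 3) (Fin 3) F) 2 2 =
      (gm : Matrix (Fin 3) (Fin 3) F) 0 0 * b) :
    gm * E a b * gm⁻¹ = E a' b' := by
  rw [mul_inv_eq_iff_eq_mul]
  apply Subtype.ext
  show (gm : Matrix (Fin 3) (Fin 3) F) * EM a b = EM a' b' * (gm : Matrix (Fin 3) (Fin 3) F)
  ext i j
  fin_cases i <;> fin_cases j <;>
    simp [EM, Matrix.mul_apply, Fin.sum_univ_three, h10, h20] <;>
    first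
      | linear_combination h1
      | linear_combination h2
      | linear_combination -h1
      | linear_combination -h2

/-- The set of `(a, b)` with `E a b ∈ H`, as an additive subgroup. -/
def Mgrp (H : Subgroup (SpecialLinearGroup (Fin 3) F)) : AddSubgroup (F × F) where
  carrier := {r | E r.1 r.2 ∈ H}
  zero_mem' := by
    show E (0 : F) 0 ∈ H
    rw [E_zero]; exact H.one_mem
  add_mem' := by
    intro r r' hr hr'
    show E (r.1 + r'.1) (r.2 + r'.2) ∈ H
    rw [← E_mul]; exact H.mul_mem hr hr'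
  neg_mem' := by
    intro r hr
    show E (-r.1) (-r.2) ∈ H
    rw [← E_inv]; exact H.inv_mem hr

theorem mem_Mgrp {H : Subgroup (SpecialLinearGroup (Fin 3) F)} {r : F × F} :
    r ∈ Mgrp H ↔ E r.1 r.2 ∈ H := Iff.rfl

/-- Transport along conjugation by an element of `H` fixing `⟨e₁⟩`. -/
theorem Mgrp_conj {H : Subgroup (SpecialLinearGroup (Fin 3) F)}
    (gm : SpecialLinearGroup (Fin 3) F) (hg : gm ∈ H)
    (h10 : (gm : Matrix (Fin 3) (Fin 3) F) 1 0 = 0) (h20 : (gm : Matrix (Fin 3) (Fin 3) F) 2 0 = 0)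
    (a b a' b' : F)
    (h1 : a' * (gm : Matrix (Fin 3) (Fin 3) F) 1 1 + b' * (gm : Matrix (Fin 3) (Fin 3) F) 2 1 =
      (gm : Matrix (Fin 3) (Fin 3) F) 0 0 * a)
    (h2 : a' * (gm : Matrix (Fin 3) (Fin 3) F) 1 2 + b' * (gm : Matrix (Fin 3) (Fin 3) F) 2 2 =
      (gm : Matrix (Fin 3) (Fin 3) F) 0 0 * b) :
    (a, b) ∈ Mgrp H ↔ (a', b') ∈ Mgrp H := by
  have key := conj_E gm h10 h20 a b a' b' h1 h2
  constructor
  · intro h
    show E a' b' ∈ H
    rw [← key]
    exact H.mul_mem (H.mul_mem hg h) (H.inv_mem hg)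
  · intro h
    show E a b ∈ H
    have : E a b = gm⁻¹ * E a' b' * gm := by
      rw [← key]; group
    rw [this]
    exact H.mul_mem (H.mul_mem (H.inv_mem hg) h) hg

/-! ### The second generator `v` and the criterion `H = ⊤` -/

/-- The matrix of `v` (inverse of the companion matrix of `(X - 1)³`). -/
def vM : Matrix (Fin 3) (Fin 3) F := !![3, 1, 0; -3, 0, 1; 1, 0, 0]

theorem vM_det : (vM : Matrix (Fin 3) (Fin 3) F).det = 1 := by
  simp [vM, Matrix.det_fin_three]

/-- `v` as an element of `SL₃(F)`. -/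
def vS : SpecialLinearGroup (Fin 3) F := ⟨vM, vM_det⟩

/-- Change of basis to `(-e₁, v e₁, v² e₁)`. -/
def PM : Matrix (Fin 3) (Fin 3) F := !![-1, 3, 6; 0, -3, -8; 0, 1, 3]

theorem PM_det : (PM : Matrix (Fin 3) (Fin 3) F).det = 1 := by
  simp [PM, Matrix.det_fin_three]; ring

def PS : SpecialLinearGroup (Fin 3) F := ⟨PM, PM_det⟩

def QM1 : Matrix (Fin 3) (Fin 3) F := !![0, 1, 3; -1, 0, -3; 0, 0, 1]

theorem QM1_det : (QM1 : Matrix (Fin 3) (Fin 3) F).det = 1 := by
  simp [QM1, Matrix.det_fin_three]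

def QS1 : SpecialLinearGroup (Fin 3) F := ⟨QM1, QM1_det⟩

def QM2 : Matrix (Fin 3) (Fin 3) F := !![0, 0, 1; 0, 1, 0; -1, 0, 0]

theorem QM2_det : (QM2 : Matrix (Fin 3) (Fin 3) F).det = 1 := by
  simp [QM2, Matrix.det_fin_three]

def QS2 : SpecialLinearGroup (Fin 3) F := ⟨QM2, QM2_det⟩

theorem vS_mul_QS1 : (vS : SpecialLinearGroup (Fin 3) F) * QS1 = PS := by
  apply Subtype.ext
  show (vM : Matrix (Fin 3) (Fin 3) F) * QM1 = PM
  ext i j
  fin_cases i <;> fin_cases j <;>
    simp [vM, QM1, PM, Matrix.mul_apply, Fin.sum_univ_three] <;> ring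

theorem vS_mul_QS2 : (vS : SpecialLinearGroup (Fin 3) F) * QS2 = QS1 := by
  apply Subtype.ext
  show (vM : Matrix (Fin 3) (Fin 3) F) * QM2 = QM1
  ext i j
  fin_cases i <;> fin_cases j <;>
    simp [vM, QM1, QM2, Matrix.mul_apply, Fin.sum_univ_three]

theorem conj_mem_aux (H : Subgroup (SpecialLinearGroup (Fin 3) F))
    (W Q P τ : SpecialLinearGroup (Fin 3) F) (hW : W ∈ H) (hP : W * Q = P) (a b : F)
    (hE : E a b ∈ H) (hQ : Q * τ = E a b * Q) : P * τ * P⁻¹ ∈ H := by
  subst hP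
  have : W * Q * τ * (W * Q)⁻¹ = W * E a b * W⁻¹ := by
    rw [_root_.mul_inv_rev, mul_assoc W Q τ, hQ]
    group
  rw [this]
  exact H.mul_mem (H.mul_mem hW hE) (H.inv_mem hW)

theorem trans_aux (Qs : SpecialLinearGroup (Fin 3) F) (i j : Fin 3) (hij : i ≠ j)
    (c a b : F)
    (h : (Qs : Matrix (Fin 3) (Fin 3) F) * (1 + Matrix.single i j c) =
      EM a b * (Qs : Matrix (Fin 3) (Fin 3) F)) :
    Qs * SpecialLinearGroup.transvection hij c = E a b * Qs := by
  apply Subtype.ext
  exact h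

/-- A subgroup of `SL₃(F)` containing `v` and all `E a b` is everything. -/
theorem eq_top_of_E_mem (H : Subgroup (SpecialLinearGroup (Fin 3) F))
    (hv : (vS : SpecialLinearGroup (Fin 3) F) ∈ H) (hE : ∀ a b : F, E a b ∈ H) : H = ⊤ := by
  have hv2 : (vS : SpecialLinearGroup (Fin 3) F) * vS ∈ H := H.mul_mem hv hv
  have hP1 : (vS : SpecialLinearGroup (Fin 3) F) * QS1 = PS := vS_mul_QS1
  have hP2 : (vS : SpecialLinearGroup (Fin 3) F) * vS * QS2 = PS := by
    rw [mul_assoc, vS_mul_QS2, vS_mul_QS1]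
  have key : ∀ A : SpecialLinearGroup (Fin 3) F, PS * A * PS⁻¹ ∈ H := by
    intro A
    refine Cfsg.Agent.Helper2.SL_transvection_induction
      (fun A => (PS : SpecialLinearGroup (Fin 3) F) * A * PS⁻¹ ∈ H) ?_ ?_ A
    · intro i j hij c
      fin_cases i <;> fin_cases j
      · exact absurd rfl hij
      · refine conj_mem_aux H 1 PS PS _ H.one_mem (one_mul _) (3 * c) (8 * c) (hE _ _) ?_
        refine trans_aux PS _ _ _ c _ _ ?_
        show PM * _ = _ * PM
        ext k l
        fin_cases k <;> fin_cases l <;>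
          simp [PM, EM, Matrix.mul_apply, Fin.sum_univ_three, Matrix.add_apply,
            Matrix.single_apply] <;> ring
      · refine conj_mem_aux H 1 PS PS _ H.one_mem (one_mul _) (-c) (-3 * c) (hE _ _) ?_
        refine trans_aux PS _ _ _ c _ _ ?_
        show PM * _ = _ * PM
        ext k l
        fin_cases k <;> fin_cases l <;>
          simp [PM, EM, Matrix.mul_apply, Fin.sum_univ_three, Matrix.add_apply,
            Matrix.single_apply] <;> ring
      · refine conj_mem_aux H vS QS1 PS _ hv hP1 (-c) (-3 * c) (hE _ _) ?_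
        refine trans_aux QS1 _ _ _ c _ _ ?_
        show QM1 * _ = _ * QM1
        ext k l
        fin_cases k <;> fin_cases l <;>
          simp [QM1, EM, Matrix.mul_apply, Fin.sum_univ_three, Matrix.add_apply,
            Matrix.single_apply] <;> ring
      · exact absurd rfl hij
      · refine conj_mem_aux H vS QS1 PS _ hv hP1 0 c (hE _ _) ?_
        refine trans_aux QS1 _ _ _ c _ _ ?_
        show QM1 * _ = _ * QM1
        ext k l
        fin_cases k <;> fin_cases l <;>
          simp [QM1, EM, Matrix.mul_apply, Fin.sum_univ_three, Matrix.add_apply,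
            Matrix.single_apply] <;> ring
      · refine conj_mem_aux H (vS * vS) QS2 PS _ hv2 hP2 0 (-c) (hE _ _) ?_
        refine trans_aux QS2 _ _ _ c _ _ ?_
        show QM2 * _ = _ * QM2
        ext k l
        fin_cases k <;> fin_cases l <;>
          simp [QM2, EM, Matrix.mul_apply, Fin.sum_univ_three, Matrix.add_apply,
            Matrix.single_apply] <;> ring
      · refine conj_mem_aux H (vS * vS) QS2 PS _ hv2 hP2 c 0 (hE _ _) ?_
        refine trans_aux QS2 _ _ _ c _ _ ?_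
        show QM2 * _ = _ * QM2
        ext k l
        fin_cases k <;> fin_cases l <;>
          simp [QM2, EM, Matrix.mul_apply, Fin.sum_univ_three, Matrix.add_apply,
            Matrix.single_apply] <;> ring
      · exact absurd rfl hij
    · intro A B hA hB
      have : (PS : SpecialLinearGroup (Fin 3) F) * (A * B) * PS⁻¹ =
          (PS * A * PS⁻¹) * (PS * B * PS⁻¹) := by group
      rw [this]
      exact H.mul_mem hA hB
  rw [eq_top_iff]
  intro B _
  have := key (PS⁻¹ * B * PS)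
  have e : (PS : SpecialLinearGroup (Fin 3) F) * (PS⁻¹ * B * PS) * PS⁻¹ = B := by group
  rwa [e] at this

end Cfsg.Agent.Helper12.RU3
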