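import Mathlib
import Cfsg.Agent.Helper12.RU3A

set_option autoImplicit false

/-! The scalars preserving `Mgrp H` form a subfield; if it is everything and `Mgrp H` contains two
independent vectors, then `H` contains all `E a b`. -/

open Matrix

namespace Cfsg.Agent.Helper12.RU3

variable {F : Type*} [Field F]

/-- The scalars `c` with `c • Mgrp H ⊆ Mgrp H`. -/
def Sset (H : Subgroup (SpecialLinearGroup (Fin 3) F)) : Set F :=
  {c | ∀ a b : F, (a, b) ∈ Mgrp H → (c * a, c * b) ∈ Mgrp H}

theorem Sset_one (H : Subgroup (SpecialLinearGroup (Fin 3) F)) : (1 : F) ∈ Sset H := by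
  intro a b h; simpa using h

theorem Sset_zero (H : Subgroup (SpecialLinearGroup (Fin 3) F)) : (0 : F) ∈ Sset H := by
  intro a b _
  have : ((0 : F) * a, (0 : F) * b) = (0 : F × F) := by simp
  rw [this]; exact (Mgrp H).zero_mem

theorem Sset_add (H : Subgroup (SpecialLinearGroup (Fin 3) F)) {c d : F}
    (hc : c ∈ Sset H) (hd : d ∈ Sset H) : c + d ∈ Sset H := by
  intro a b h
  have : ((c + d) * a, (c + d) * b) = (c * a, c * b) + (d * a, d * b) := by
    simp [add_mul]
  rw [this]; exact (Mgrp H).add_mem (hc a b h) (hd a b h)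

theorem Sset_neg (H : Subgroup (SpecialLinearGroup (Fin 3) F)) {c : F}
    (hc : c ∈ Sset H) : -c ∈ Sset H := by
  intro a b h
  have : ((-c) * a, (-c) * b) = -(c * a, c * b) := by simp
  rw [this]; exact (Mgrp H).neg_mem (hc a b h)

theorem Sset_mul (H : Subgroup (SpecialLinearGroup (Fin 3) F)) {c d : F}
    (hc : c ∈ Sset H) (hd : d ∈ Sset H) : c * d ∈ Sset H := by
  intro a b h
  have : ((c * d) * a, (c * d) * b) = (c * (d * a), c * (d * b)) := by
    simp [mul_assoc]
  rw [this]; exact hc _ _ (hd a b h)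

theorem Sset_pow (H : Subgroup (SpecialLinearGroup (Fin 3) F)) {c : F}
    (hc : c ∈ Sset H) (n : ℕ) : c ^ n ∈ Sset H := by
  induction n with
  | zero => simpa using Sset_one H
  | succ n ih => rw [pow_succ]; exact Sset_mul H ih hc

theorem Sset_inv [Fintype F] (H : Subgroup (SpecialLinearGroup (Fin 3) F)) {c : F}
    (hc : c ∈ Sset H) : c⁻¹ ∈ Sset H := by
  by_cases h0 : c = 0
  · subst h0; simpa using Sset_zero H
  · have hq : 2 ≤ Fintype.card F := Fintype.one_lt_card
    have h1 : c ^ (Fintype.card F - 1) = 1 := FiniteField.pow_card_sub_one_eq_one c h0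
    have h2 : c⁻¹ = c ^ (Fintype.card F - 2) := by
      rw [inv_eq_iff_eq_inv, eq_comm, inv_eq_of_mul_eq_one_left]
      rw [← pow_succ']
      have : Fintype.card F - 2 + 1 = Fintype.card F - 1 := by omega
      rw [this, h1]
    rw [h2]; exact Sset_pow H hc _

/-- The scalars preserving `Mgrp H`, as a subfield. -/
def Sfield [Fintype F] (H : Subgroup (SpecialLinearGroup (Fin 3) F)) : Subfield F where
  carrier := Sset H
  mul_mem' := fun hc hd => Sset_mul H hc hd
  one_mem' := Sset_one H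
  add_mem' := fun hc hd => Sset_add H hc hd
  zero_mem' := Sset_zero H
  neg_mem' := fun hc => Sset_neg H hc
  inv_mem' := fun _ hc => Sset_inv H hc

theorem mem_Sfield [Fintype F] {H : Subgroup (SpecialLinearGroup (Fin 3) F)} {c : F} :
    c ∈ Sfield H ↔ ∀ a b : F, (a, b) ∈ Mgrp H → (c * a, c * b) ∈ Mgrp H := Iff.rfl

/-- If all scalars preserve `Mgrp H` and it contains two independent vectors, then `H` contains
all `E a b`. -/
theorem E_mem_of_indep [Fintype F] (H : Subgroup (SpecialLinearGroup (Fin 3) F))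
    (hS : Sfield H = ⊤) (a₁ b₁ a₂ b₂ : F) (h1 : (a₁, b₁) ∈ Mgrp H) (h2 : (a₂, b₂) ∈ Mgrp H)
    (hdet : a₁ * b₂ - b₁ * a₂ ≠ 0) (a b : F) : E a b ∈ H := by
  have hall : ∀ c : F, c ∈ Sfield H := fun c => by rw [hS]; trivial
  set x := (a * b₂ - b * a₂) / (a₁ * b₂ - b₁ * a₂) with hx
  set y := (b * a₁ - a * b₁) / (a₁ * b₂ - b₁ * a₂) with hy
  have e : (a, b) = (x * a₁, x * b₁) + (y * a₂, y * b₂) := by
    ext
    · simp only [Prod.fst_add, hx, hy]
      rw [div_mul_eq_mul_div, div_mul_eq_mul_div, ← add_div, eq_div_iff hdet]; ring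
    · simp only [Prod.snd_add, hx, hy]
      rw [div_mul_eq_mul_div, div_mul_eq_mul_div, ← add_div, eq_div_iff hdet]; ring
  have : (a, b) ∈ Mgrp H := by
    rw [e]
    exact (Mgrp H).add_mem (hall x a₁ b₁ h1) (hall y a₂ b₂ h2)
  exact this

end Cfsg.Agent.Helper12.RU3
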