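import Mathlib

set_option autoImplicit false

/-! Finite-field lemmas: subfields containing (powers of) a generator of the unit group. -/

namespace Cfsg.Agent.Helper12.RU3

variable {F : Type*} [Field F] [Fintype F]

theorem exists_gen : ∃ δ : Fˣ, ∀ x : Fˣ, x ∈ Subgroup.zpowers δ :=
  IsCyclic.exists_generator

theorem orderOf_gen (δ : Fˣ) (hδ : ∀ x : Fˣ, x ∈ Subgroup.zpowers δ) :
    orderOf δ = Fintype.card F - 1 := by
  rw [orderOf_eq_card_of_forall_mem_zpowers hδ, Nat.card_units, Nat.card_eq_fintype_card]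

/-- A subfield containing a generator of `Fˣ` is everything. -/
theorem subfield_eq_top_of_gen_mem (δ : Fˣ) (hδ : ∀ x : Fˣ, x ∈ Subgroup.zpowers δ)
    (K : Subfield F) (hK : (δ : F) ∈ K) : K = ⊤ := by
  rw [eq_top_iff]
  intro x _
  by_cases hx : x = 0
  · subst hx; exact K.zero_mem
  · obtain ⟨k, hk⟩ := Subgroup.mem_zpowers_iff.1 (hδ (Units.mk0 x hx))
    have : x = (δ : F) ^ k := by
      have := congrArg (fun u : Fˣ => (u : F)) hk
      simp only [Units.val_zpow_eq_zpow_val, Units.val_mk0] at this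
      exact this.symm
    rw [this]
    exact zpow_mem hK k

theorem pow_eq_one_of_mem_subfield (K : Subfield F) (x : F) (hx : x ∈ K) (hx0 : x ≠ 0) :
    x ^ (Nat.card K - 1) = 1 := by
  classical
  haveI : Fintype K := Fintype.ofFinite K
  have h := FiniteField.pow_card_sub_one_eq_one (⟨x, hx⟩ : K)
    (fun h => hx0 (by simpa using congrArg Subtype.val h))
  rw [Nat.card_eq_fintype_card]
  have := congrArg Subtype.val h
  simpa using this

theorem card_eq_pow_subfield (K : Subfield F) :
    ∃ d : ℕ, Fintype.card F = (Nat.card K) ^ d := by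
  classical
  haveI : Fintype K := Fintype.ofFinite K
  refine ⟨Module.finrank K F, ?_⟩
  rw [Nat.card_eq_fintype_card]
  exact Module.card_eq_pow_finrank (K := K) (V := F)

theorem subfield_eq_top_of_card (K : Subfield F) (h : Nat.card K = Fintype.card F) : K = ⊤ := by
  classical
  haveI : Fintype K := Fintype.ofFinite K
  rw [Nat.card_eq_fintype_card] at h
  have hb : Function.Bijective (Subtype.val : K → F) :=
    (Fintype.bijective_iff_injective_and_card _).2 ⟨Subtype.val_injective, h⟩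
  rw [eq_top_iff]
  intro x _
  obtain ⟨y, hy⟩ := hb.2 x
  rw [← hy]; exact y.2

/-- A subfield containing the cube of a generator of `Fˣ` is everything, if `|F| > 4`. -/
theorem subfield_eq_top_of_gen_cube_mem (δ : Fˣ) (hδ : ∀ x : Fˣ, x ∈ Subgroup.zpowers δ)
    (hq : 4 < Fintype.card F) (K : Subfield F) (hK : (δ : F) ^ 3 ∈ K) : K = ⊤ := by
  obtain ⟨d, hd⟩ := card_eq_pow_subfield K
  set m := Nat.card K with hm
  have hm2 : 2 ≤ m := by
    haveI : Fintype K := Fintype.ofFinite K
    rw [hm, Nat.card_eq_fintype_card]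
    exact Fintype.one_lt_card
  have h1 := pow_eq_one_of_mem_subfield K ((δ : F) ^ 3) hK (pow_ne_zero _ δ.ne_zero)
  rw [← pow_mul] at h1
  have h2 : δ ^ (3 * (m - 1)) = 1 := by
    apply Units.ext
    rw [Units.val_pow_eq_pow_val, Units.val_one]; exact h1
  have h3 : Fintype.card F - 1 ∣ 3 * (m - 1) := by
    rw [← orderOf_gen δ hδ]; exact orderOf_dvd_of_pow_eq_one h2
  have h4 : Fintype.card F - 1 ≤ 3 * (m - 1) := Nat.le_of_dvd (by omega) h3
  apply subfield_eq_top_of_card
  rw [← hm]
  rcases Nat.lt_or_ge d 2 with hd2 | hd2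
  · interval_cases d
    · rw [pow_zero] at hd; omega
    · rw [pow_one] at hd; exact hd.symm
  · exfalso
    have h5 : m ^ 2 ≤ m ^ d := Nat.pow_le_pow_right (by omega) hd2
    rw [← hd] at h5
    have h6 : m ≤ 2 := by
      by_contra hcon
      push Not at hcon
      obtain ⟨j, hj⟩ : ∃ j, m = j + 3 := ⟨m - 3, by omega⟩
      have h7 : m ^ 2 = m * m := sq m
      have h8 : m - 1 = j + 2 := by omega
      rw [h8] at h4
      rw [h7, hj] at h5
      have h9 : Fintype.card F ≤ 3 * (j + 2) + 1 := by omega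
      nlinarith
    have hm' : m = 2 := le_antisymm h6 hm2
    rw [hm'] at h3
    have : Fintype.card F - 1 ≤ 3 := Nat.le_of_dvd (by norm_num) (by simpa using h3)
    omega

/-- In characteristic `3`, a subfield containing `x ^ 9` contains `x`. -/
theorem mem_of_pow_nine_mem [CharP F 3] (K : Subfield F) (x : F) (hx : x ^ 9 ∈ K) : x ∈ K := by
  have h3 : 3 ∣ Fintype.card F := by
    have : ((Fintype.card F : ℕ) : F) = 0 := Nat.cast_card_eq_zero F
    exact (CharP.cast_eq_zero_iff F 3 _).1 this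
  obtain ⟨k, hk⟩ := h3
  have hq2 : x ^ (Fintype.card F ^ 2) = x := by
    rw [sq, pow_mul, FiniteField.pow_card, FiniteField.pow_card]
  have e : Fintype.card F ^ 2 = 9 * (k * k) := by rw [hk]; ring
  rw [e, pow_mul] at hq2
  rw [← hq2]
  exact pow_mem hx _

theorem arith_aux (p n : ℕ) (hp : p.Prime) (hn : 2 ≤ n) (h4 : p ^ n ≠ 4)
    (hdvd : p ^ n - 1 ∣ 9 * (p - 1)) : False := by
  have hp2 : 2 ≤ p := hp.two_le
  have h1 : p ^ n - 1 ≤ 9 * (p - 1) := Nat.le_of_dvd (by omega) hdvd
  have h2 : p ^ 2 ≤ p ^ n := Nat.pow_le_pow_right (by omega) hn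
  have h3 : p ≤ 8 := by
    by_contra hcon
    push Not at hcon
    have : p ^ 2 = p * p := sq p
    obtain ⟨j, rfl⟩ : ∃ j, p = j + 9 := ⟨p - 9, by omega⟩
    have h5 : (j + 9) * (j + 9) ≤ 9 * (j + 9 - 1) + 1 := by omega
    have h6 : j + 9 - 1 = j + 8 := by omega
    rw [h6] at h5
    nlinarith
  have hbound : ∀ k : ℕ, p ^ k ≤ 9 * (p - 1) + 1 → k ≤ n → p ^ k ≤ p ^ n :=
    fun k _ hk => Nat.pow_le_pow_right (by omega) hk
  interval_cases p
  · -- p = 2
    have hn3 : n ≤ 3 := by
      by_contra hcon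
      push Not at hcon
      have : 2 ^ 4 ≤ 2 ^ n := Nat.pow_le_pow_right (by norm_num) hcon
      omega
    interval_cases n
    · exact h4 (by norm_num)
    · norm_num at hdvd
  · -- p = 3
    have hn3 : n ≤ 2 := by
      by_contra hcon
      push Not at hcon
      have : 3 ^ 3 ≤ 3 ^ n := Nat.pow_le_pow_right (by norm_num) hcon
      omega
    interval_cases n
    norm_num at hdvd
  · exact absurd hp (by norm_num)
  · -- p = 5
    have hn3 : n ≤ 2 := by
      by_contra hcon
      push Not at hcon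
      have : 5 ^ 3 ≤ 5 ^ n := Nat.pow_le_pow_right (by norm_num) hcon
      omega
    interval_cases n
    norm_num at hdvd
  · exact absurd hp (by norm_num)
  · -- p = 7
    have hn3 : n ≤ 2 := by
      by_contra hcon
      push Not at hcon
      have : 7 ^ 3 ≤ 7 ^ n := Nat.pow_le_pow_right (by norm_num) hcon
      omega
    interval_cases n
    norm_num at hdvd
  · exact absurd hp (by norm_num)

/-- Either `F` is a prime field (every subfield is everything), or the ninth power of a generator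
of `Fˣ` does not lie in the prime subfield (`|F| ≠ 4`). -/
theorem prime_or_gen_pow_nine (h4 : Fintype.card F ≠ 4) :
    (∀ K : Subfield F, K = ⊤) ∨
      (4 < Fintype.card F ∧
        ∀ δ : Fˣ, (∀ x : Fˣ, x ∈ Subgroup.zpowers δ) → (δ : F) ^ 9 ∉ (⊥ : Subfield F)) := by
  obtain ⟨p, hchar⟩ := CharP.exists F
  haveI := hchar
  haveI hpf : Fact p.Prime := ⟨CharP.char_is_prime F p⟩
  obtain ⟨n, hp, hn⟩ := FiniteField.card F p
  rcases Nat.lt_or_ge (n : ℕ) 2 with hn2 | hn2
  · left
    have hn1 : (n : ℕ) = 1 := by have := n.pos; omega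
    rw [hn1, pow_one] at hn
    have hbot : (⊥ : Subfield F) = ⊤ := by
      rw [eq_top_iff]
      intro x _
      rw [Subfield.mem_bot_iff_pow_eq_self F p, ← hn, FiniteField.pow_card]
    intro K
    rw [eq_top_iff, ← hbot]
    exact bot_le
  · right
    refine ⟨?_, ?_⟩
    · have h1 : p ^ 2 ≤ p ^ (n : ℕ) := Nat.pow_le_pow_right hp.pos hn2
      have h2 : 2 ^ 2 ≤ p ^ 2 := Nat.pow_le_pow_left hp.two_le 2
      rw [hn] at h4 ⊢
      omega
    intro δ hδ hmem
    rw [Subfield.mem_bot_iff_pow_eq_self F p] at hmem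
    have h1 : δ ^ (9 * (p - 1)) = 1 := by
      apply Units.ext
      rw [Units.val_pow_eq_pow_val, Units.val_one]
      have h9 : (δ : F) ^ 9 ≠ 0 := pow_ne_zero _ δ.ne_zero
      have : (δ : F) ^ 9 * (δ : F) ^ (9 * (p - 1)) = (δ : F) ^ 9 * 1 := by
        rw [mul_one, ← pow_add]
        have hp1 : 1 ≤ p := hp.one_lt.le
        have : 9 + 9 * (p - 1) = 9 * p := by omega
        rw [this, pow_mul]; exact hmem
      exact mul_left_cancel₀ h9 this
    have h2 : Fintype.card F - 1 ∣ 9 * (p - 1) := by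
      rw [← orderOf_gen δ hδ]; exact orderOf_dvd_of_pow_eq_one h1
    rw [hn] at h2 h4
    exact arith_aux p n hp hn2 h4 h2

theorem card_eq_two_of_prime_of_two_eq_zero (hA : ∀ K : Subfield F, K = ⊤) (h2 : (2 : F) = 0) :
    Fintype.card F = 2 := by
  haveI : CharP F 2 := CharTwo.of_one_ne_zero_of_two_eq_zero one_ne_zero h2
  haveI : Fact (Nat.Prime 2) := ⟨Nat.prime_two⟩
  have hall : ∀ x : F, x = 0 ∨ x = 1 := by
    intro x
    have hx : x ∈ (⊥ : Subfield F) := by rw [hA ⊥]; trivial
    rw [Subfield.mem_bot_iff_pow_eq_self F 2] at hx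
    have : x * (x - 1) = 0 := by linear_combination hx
    rcases mul_eq_zero.1 this with h | h
    · exact Or.inl h
    · exact Or.inr (sub_eq_zero.1 h)
  rw [← Nat.card_eq_fintype_card, Nat.card_eq_two_iff]
  refine ⟨0, 1, zero_ne_one, ?_⟩
  ext x
  simp only [Set.mem_insert_iff, Set.mem_singleton_iff, Set.mem_univ, iff_true]
  exact hall x

end Cfsg.Agent.Helper12.RU3
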