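import Mathlib
import Cfsg.Agent.Helper12.RU3A

set_option autoImplicit false
set_option linter.unusedTactic false
set_option linter.unreachableTactic false
set_option linter.unusedSimpArgs false

/-! The two-parameter family of pairs of regular unipotent elements `u = u(g, b)`, `v`,
with `t = u v` and `u' = v u v⁻¹` both fixing the line `⟨e₁⟩`. -/

open Matrix

namespace Cfsg.Agent.Helper12.RU3

variable {F : Type*} [Field F]

/-- The first generator `u = t y`. -/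
def uM (g b : F) : Matrix (Fin 3) (Fin 3) F :=
  !![2 + 3 * g, 0, -g⁻¹ - 6 - 9 * g; b, 1, 3 - 3 * b; g, 0, -3 * g]

/-- `t = u v`. -/
def tM (g b : F) : Matrix (Fin 3) (Fin 3) F :=
  !![-g⁻¹, 2 + 3 * g, 0; 0, b, 1; 0, g, 0]

/-- `u' = v u v⁻¹`. -/
def upM (g b : F) : Matrix (Fin 3) (Fin 3) F :=
  !![1, -3 * g⁻¹ - 15 - 3 * b - 27 * g, -9 * g⁻¹ - 42 - 8 * b - 72 * g;
     0, 3 * g⁻¹ + 18 + 24 * g, 9 * g⁻¹ + 48 + 64 * g;
     0, -g⁻¹ - 6 - 9 * g, -3 * g⁻¹ - 16 - 24 * g]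

/-- The conjugating matrix: `G u G⁻¹ = v` when `c ^ 3 = g (b + 3 g)`. -/
def GM (g b c : F) : Matrix (Fin 3) (Fin 3) F :=
  !![c⁻¹ ^ 2 * (g * (b + 3 * g)), c⁻¹ ^ 2 * g, c⁻¹ ^ 2 * (3 * g - 3 * g * b - 9 * g ^ 2);
     0, c⁻¹ ^ 2 * (-2 * g), c⁻¹ ^ 2 * (-b - 9 * g);
     0, c⁻¹ ^ 2 * g, c⁻¹ ^ 2 * (3 * g)]

theorem uM_det (g b : F) (hg : g ≠ 0) : (uM g b).det = 1 := by
  rw [Matrix.det_fin_three]
  simp [uM]
  field_simp
  ring

theorem tM_det (g b : F) (hg : g ≠ 0) : (tM g b).det = 1 := by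
  rw [Matrix.det_fin_three]
  simp [tM]
  field_simp

theorem upM_det (g b : F) (hg : g ≠ 0) : (upM g b).det = 1 := by
  rw [Matrix.det_fin_three]
  simp [upM]
  field_simp
  ring

theorem GM_det (g b c : F) (hc : c ≠ 0) (hc3 : c ^ 3 = g * (b + 3 * g)) :
    (GM g b c).det = 1 := by
  rw [Matrix.det_fin_three]
  simp [GM]
  field_simp
  have : c ^ 6 = (g * (b + 3 * g)) ^ 2 := by rw [← hc3]; ring
  linear_combination (-1 : F) * this

theorem uM_mul_vM (g b : F) : uM g b * vM = tM g b := by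
  ext i j
  fin_cases i <;> fin_cases j <;>
    simp [uM, vM, tM, Matrix.mul_apply, Fin.sum_univ_three] <;> ring

theorem vM_mul_uM (g b : F) (hg : g ≠ 0) : vM * uM g b = upM g b * vM := by
  ext i j
  fin_cases i <;> fin_cases j <;>
    simp [uM, vM, upM, Matrix.mul_apply, Fin.sum_univ_three] <;> field_simp <;> ring

theorem GM_mul_uM (g b c : F) (hg : g ≠ 0) : GM g b c * uM g b = vM * GM g b c := by
  ext i j
  fin_cases i <;> fin_cases j <;>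
    simp [uM, vM, GM, Matrix.mul_apply, Fin.sum_univ_three] <;> field_simp <;> ring

theorem uM_sub_one_pow_three (g b : F) (hg : g ≠ 0) : (uM g b - 1) ^ 3 = 0 := by
  rw [pow_succ, pow_two]
  ext i j
  fin_cases i <;> fin_cases j <;>
    simp [uM, Matrix.mul_apply, Fin.sum_univ_three, Matrix.sub_apply] <;> field_simp <;> ring

theorem uM_sub_one_sq_apply (g b : F) (hg : g ≠ 0) :
    ((uM g b - 1) ^ 2 : Matrix (Fin 3) (Fin 3) F) 1 0 = b + 3 * g := by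
  rw [pow_two]
  simp [uM, Matrix.mul_apply, Fin.sum_univ_three, Matrix.sub_apply]
  ring

/-! ### The elements of `SL₃(F)` -/

def uS (g b : F) (hg : g ≠ 0) : SpecialLinearGroup (Fin 3) F := ⟨uM g b, uM_det g b hg⟩

def tS (g b : F) (hg : g ≠ 0) : SpecialLinearGroup (Fin 3) F := ⟨tM g b, tM_det g b hg⟩

def upS (g b : F) (hg : g ≠ 0) : SpecialLinearGroup (Fin 3) F := ⟨upM g b, upM_det g b hg⟩

def GS (g b c : F) (hc : c ≠ 0) (hc3 : c ^ 3 = g * (b + 3 * g)) : SpecialLinearGroup (Fin 3) F :=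
  ⟨GM g b c, GM_det g b c hc hc3⟩

theorem GS_conj (g b c : F) (hg : g ≠ 0) (hc : c ≠ 0) (hc3 : c ^ 3 = g * (b + 3 * g)) :
    GS g b c hc hc3 * uS g b hg * (GS g b c hc hc3)⁻¹ = vS := by
  rw [mul_inv_eq_iff_eq_mul]
  apply Subtype.ext
  exact GM_mul_uM g b c hg

theorem uS_mul_vS (g b : F) (hg : g ≠ 0) : uS g b hg * vS = tS g b hg := by
  apply Subtype.ext
  exact uM_mul_vM g b

theorem vS_conj_uS (g b : F) (hg : g ≠ 0) : vS * uS g b hg * vS⁻¹ = upS g b hg := by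
  rw [mul_inv_eq_iff_eq_mul]
  apply Subtype.ext
  exact vM_mul_uM g b hg

theorem uS_nilpotent (g b : F) (hg : g ≠ 0) :
    IsNilpotent ((uS g b hg : Matrix (Fin 3) (Fin 3) F) - 1) :=
  ⟨3, uM_sub_one_pow_three g b hg⟩

theorem uS_sq_ne (g b : F) (hg : g ≠ 0) (hb : b + 3 * g ≠ 0) :
    ((uS g b hg : Matrix (Fin 3) (Fin 3) F) - 1) ^ (3 - 1) ≠ 0 := by
  intro h
  have h1 := uM_sub_one_sq_apply g b hg
  have h2 : ((uS g b hg : Matrix (Fin 3) (Fin 3) F) - 1) ^ 2 = 0 := h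
  have h3 : ((uM g b - 1) ^ 2 : Matrix (Fin 3) (Fin 3) F) = 0 := h2
  rw [h3] at h1
  exact hb (by simpa using h1.symm)

section closure

variable (g b c : F) (hg : g ≠ 0) (hc : c ≠ 0) (hc3 : c ^ 3 = g * (b + 3 * g))

/-- The subgroup generated by `u` and its conjugate `v = G u G⁻¹`. -/
def Hgrp : Subgroup (SpecialLinearGroup (Fin 3) F) :=
  Subgroup.closure {uS g b hg, GS g b c hc hc3 * uS g b hg * (GS g b c hc hc3)⁻¹}

theorem uS_mem : uS g b hg ∈ Hgrp g b c hg hc hc3 :=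
  Subgroup.subset_closure (by simp)

theorem vS_mem : (vS : SpecialLinearGroup (Fin 3) F) ∈ Hgrp g b c hg hc hc3 := by
  rw [← GS_conj g b c hg hc hc3]
  exact Subgroup.subset_closure (by simp)

theorem tS_mem : tS g b hg ∈ Hgrp g b c hg hc hc3 := by
  rw [← uS_mul_vS]
  exact Subgroup.mul_mem _ (uS_mem g b c hg hc hc3) (vS_mem g b c hg hc hc3)

theorem upS_mem : upS g b hg ∈ Hgrp g b c hg hc hc3 := by
  rw [← vS_conj_uS]
  exact Subgroup.mul_mem _ (Subgroup.mul_mem _ (vS_mem g b c hg hc hc3) (uS_mem g b c hg hc hc3))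
    (Subgroup.inv_mem _ (vS_mem g b c hg hc hc3))

/-- Right multiplication by the Levi part `A` of `u'` preserves `Mgrp`. -/
theorem Mgrp_opA (a₀ b₀ : F) :
    (a₀, b₀) ∈ Mgrp (Hgrp g b c hg hc hc3) ↔
      (a₀ * (3 * g⁻¹ + 18 + 24 * g) + b₀ * (-g⁻¹ - 6 - 9 * g),
        a₀ * (9 * g⁻¹ + 48 + 64 * g) + b₀ * (-3 * g⁻¹ - 16 - 24 * g)) ∈
        Mgrp (Hgrp g b c hg hc hc3) := by
  refine (Mgrp_conj (upS g b hg) (upS_mem g b c hg hc hc3) ?_ ?_ _ _ a₀ b₀ ?_ ?_).symm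
  · show upM g b 1 0 = 0
    simp [upM]
  · show upM g b 2 0 = 0
    simp [upM]
  · show a₀ * upM g b 1 1 + b₀ * upM g b 2 1 = upM g b 0 0 * _
    simp [upM]
  · show a₀ * upM g b 1 2 + b₀ * upM g b 2 2 = upM g b 0 0 * _
    simp [upM]

/-- The action of `t` on `Mgrp`. -/
theorem Mgrp_opT (a₀ b₀ : F) :
    (a₀, b₀) ∈ Mgrp (Hgrp g b c hg hc hc3) ↔
      (-g⁻¹ * b₀, (-g⁻¹ * a₀ + g⁻¹ * b₀ * b) * g⁻¹) ∈ Mgrp (Hgrp g b c hg hc hc3) := by
  refine Mgrp_conj (tS g b hg) (tS_mem g b c hg hc hc3) ?_ ?_ a₀ b₀ _ _ ?_ ?_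
  · show tM g b 1 0 = 0
    simp [tM]
  · show tM g b 2 0 = 0
    simp [tM]
  · show _ * tM g b 1 1 + _ * tM g b 2 1 = tM g b 0 0 * _
    simp [tM]
    field_simp
    ring
  · show _ * tM g b 1 2 + _ * tM g b 2 2 = tM g b 0 0 * _
    simp [tM]

theorem Hgrp_eq_top (hE : ∀ a₀ b₀ : F, E a₀ b₀ ∈ Hgrp g b c hg hc hc3) :
    Hgrp g b c hg hc hc3 = ⊤ :=
  eq_top_of_E_mem _ (vS_mem g b c hg hc hc3) hE

end closure

end Cfsg.Agent.Helper12.RU3
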