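import Mathlib
import Cfsg.Agent.Helper12.RU3B
import Cfsg.Agent.Helper12.RU3C
import Cfsg.Agent.Helper12.RU3D

set_option autoImplicit false
set_option linter.unusedTactic false
set_option linter.unreachableTactic false
set_option linter.unusedSimpArgs false

/-! The generic case (`char F ≠ 3`, `|F| ∉ {2, 4}`): `b = 0`, `g = 3 κ³`. -/

open Matrix

namespace Cfsg.Agent.Helper12.RU3

variable {F : Type*} [Field F]

section generic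

variable (g c : F) (hg : g ≠ 0) (hc : c ≠ 0) (hc3 : c ^ 3 = g * (0 + 3 * g))

/-- The commutator `[t², u']` is `E r₁`. -/
theorem comm_eq (g : F) (hg : g ≠ 0) :
    tM g 0 * tM g 0 * upM g 0 =
      EM (-3 * g⁻¹ ^ 4 - 18 * g⁻¹ ^ 3 - 63 * g⁻¹ ^ 2 - 111 * g⁻¹ - 96 - 9 * g)
        (-9 * g⁻¹ ^ 4 - 51 * g⁻¹ ^ 3 - 177 * g⁻¹ ^ 2 - 306 * g⁻¹ - 258 - 24 * g) *
        upM g 0 * (tM g 0 * tM g 0) := by
  ext i j
  fin_cases i <;> fin_cases j <;>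
    simp [tM, upM, EM, Matrix.mul_apply, Fin.sum_univ_three] <;> field_simp <;> ring

theorem r1_mem :
    (-3 * g⁻¹ ^ 4 - 18 * g⁻¹ ^ 3 - 63 * g⁻¹ ^ 2 - 111 * g⁻¹ - 96 - 9 * g,
      -9 * g⁻¹ ^ 4 - 51 * g⁻¹ ^ 3 - 177 * g⁻¹ ^ 2 - 306 * g⁻¹ - 258 - 24 * g) ∈
      Mgrp (Hgrp g 0 c hg hc hc3) := by
  rw [mem_Mgrp]
  have ht := tS_mem g 0 c hg hc hc3
  have hu := upS_mem g 0 c hg hc hc3
  have key : tS g 0 hg * tS g 0 hg * upS g 0 hg =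
      E (-3 * g⁻¹ ^ 4 - 18 * g⁻¹ ^ 3 - 63 * g⁻¹ ^ 2 - 111 * g⁻¹ - 96 - 9 * g)
        (-9 * g⁻¹ ^ 4 - 51 * g⁻¹ ^ 3 - 177 * g⁻¹ ^ 2 - 306 * g⁻¹ - 258 - 24 * g) *
        upS g 0 hg * (tS g 0 hg * tS g 0 hg) := by
    apply Subtype.ext
    exact comm_eq g hg
  have e : E (-3 * g⁻¹ ^ 4 - 18 * g⁻¹ ^ 3 - 63 * g⁻¹ ^ 2 - 111 * g⁻¹ - 96 - 9 * g)
        (-9 * g⁻¹ ^ 4 - 51 * g⁻¹ ^ 3 - 177 * g⁻¹ ^ 2 - 306 * g⁻¹ - 258 - 24 * g) =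
      tS g 0 hg * tS g 0 hg * upS g 0 hg * (tS g 0 hg * tS g 0 hg)⁻¹ * (upS g 0 hg)⁻¹ := by
    rw [key]; group
  rw [e]
  exact Subgroup.mul_mem _ (Subgroup.mul_mem _ (Subgroup.mul_mem _ (Subgroup.mul_mem _ ht ht) hu)
    (Subgroup.inv_mem _ (Subgroup.mul_mem _ ht ht))) (Subgroup.inv_mem _ hu)

/-- `ρ = g⁻³` preserves `Mgrp`. -/
theorem rho_mem_Sset : g⁻¹ ^ 3 ∈ Sset (Hgrp g 0 c hg hc hc3) := by
  intro a₀ b₀ h
  have h1 := (Mgrp_opT g 0 c hg hc hc3 a₀ b₀).1 h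
  have h2 := (Mgrp_opT g 0 c hg hc hc3 _ _).1 h1
  convert h2 using 2 <;> ring

/-- `c₁ = g⁻³ - 3 g⁻² - 39 g⁻¹ - 64` preserves `Mgrp`. -/
theorem c1_mem_Sset :
    g⁻¹ ^ 3 - 3 * g⁻¹ ^ 2 - 39 * g⁻¹ - 64 ∈ Sset (Hgrp g 0 c hg hc hc3) := by
  intro a₀ b₀ h
  -- r A Θ
  have hA := (Mgrp_opA g 0 c hg hc hc3 a₀ b₀).1 h
  have hAT := (Mgrp_opT g 0 c hg hc hc3 _ _).1 hA
  -- r Θ A
  have hT := (Mgrp_opT g 0 c hg hc hc3 a₀ b₀).1 h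
  have hTA := (Mgrp_opA g 0 c hg hc hc3 _ _).1 hT
  have hsum := (Mgrp (Hgrp g 0 c hg hc hc3)).sub_mem
    ((Mgrp (Hgrp g 0 c hg hc hc3)).sub_mem ((Mgrp (Hgrp g 0 c hg hc hc3)).add_mem hAT hTA) hT) hT
  convert hsum using 1
  ext
  · simp only [Prod.fst_sub, Prod.fst_add]
    field_simp
    ring
  · simp only [Prod.snd_sub, Prod.snd_add]
    field_simp
    ring

theorem generic_top [Fintype F] (h3 : (3 : F) ≠ 0) (hρ : g⁻¹ ^ 3 ≠ 1)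
    (hK : ∀ K : Subfield F, g⁻¹ ^ 3 ∈ K → g⁻¹ ^ 3 - 3 * g⁻¹ ^ 2 - 39 * g⁻¹ - 64 ∈ K → K = ⊤) :
    Hgrp g 0 c hg hc hc3 = ⊤ := by
  have hS : Sfield (Hgrp g 0 c hg hc hc3) = ⊤ :=
    hK _ (rho_mem_Sset g c hg hc hc3) (c1_mem_Sset g c hg hc hc3)
  have h1 := r1_mem g c hg hc hc3
  have h2 := (Mgrp_opA g 0 c hg hc hc3 _ _).1 h1
  apply Hgrp_eq_top
  intro a₀ b₀
  refine E_mem_of_indep _ hS _ _ _ _ h1 h2 ?_ a₀ b₀
  have e : (-3 * g⁻¹ ^ 4 - 18 * g⁻¹ ^ 3 - 63 * g⁻¹ ^ 2 - 111 * g⁻¹ - 96 - 9 * g) *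
        ((-3 * g⁻¹ ^ 4 - 18 * g⁻¹ ^ 3 - 63 * g⁻¹ ^ 2 - 111 * g⁻¹ - 96 - 9 * g) *
            (9 * g⁻¹ + 48 + 64 * g) +
          (-9 * g⁻¹ ^ 4 - 51 * g⁻¹ ^ 3 - 177 * g⁻¹ ^ 2 - 306 * g⁻¹ - 258 - 24 * g) *
            (-3 * g⁻¹ - 16 - 24 * g)) -
      (-9 * g⁻¹ ^ 4 - 51 * g⁻¹ ^ 3 - 177 * g⁻¹ ^ 2 - 306 * g⁻¹ - 258 - 24 * g) *
        ((-3 * g⁻¹ ^ 4 - 18 * g⁻¹ ^ 3 - 63 * g⁻¹ ^ 2 - 111 * g⁻¹ - 96 - 9 * g) *
            (3 * g⁻¹ + 18 + 24 * g) +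
          (-9 * g⁻¹ ^ 4 - 51 * g⁻¹ ^ 3 - 177 * g⁻¹ ^ 2 - 306 * g⁻¹ - 258 - 24 * g) *
            (-g⁻¹ - 6 - 9 * g)) = 3 * 3 * g * (g⁻¹ ^ 3 - 1) ^ 2 := by
    field_simp
    ring
  rw [e]
  exact mul_ne_zero (mul_ne_zero (mul_ne_zero h3 h3) hg) (pow_ne_zero _ (sub_ne_zero.2 hρ))

end generic

section kappa

variable [Fintype F]

theorem natCast_mem_bot (n : ℕ) : (n : F) ∈ (⊥ : Subfield F) := natCast_mem _ n

/-- The choice of the parameter `g = 3 κ³`. -/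
theorem exists_good_g (h3 : (3 : F) ≠ 0) (hq2 : Fintype.card F ≠ 2) (hq4 : Fintype.card F ≠ 4) :
    ∃ g c : F, g ≠ 0 ∧ c ≠ 0 ∧ c ^ 3 = g * (0 + 3 * g) ∧ g⁻¹ ^ 3 ≠ 1 ∧
      ∀ K : Subfield F, g⁻¹ ^ 3 ∈ K → g⁻¹ ^ 3 - 3 * g⁻¹ ^ 2 - 39 * g⁻¹ - 64 ∈ K → K = ⊤ := by
  rcases prime_or_gen_pow_nine hq4 with hA | ⟨hq, hB⟩
  · -- prime field
    by_cases h27 : (27 : F) = 1
    · have h2 : (2 : F) ≠ 0 := fun h2 => hq2 (card_eq_two_of_prime_of_two_eq_zero hA h2)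
      refine ⟨3 * 2 ^ 3, 3 * 2 ^ 2, mul_ne_zero h3 (pow_ne_zero _ h2),
        mul_ne_zero h3 (pow_ne_zero _ h2), by ring, ?_, fun K _ _ => hA K⟩
      intro h
      have h24 : ((3 : F) * 2 ^ 3) ^ 3 = 1 := by
        have := inv_eq_one.1 (by rw [← inv_pow]; exact h : (((3 : F) * 2 ^ 3) ^ 3)⁻¹ = 1)
        exact this
      have : (1 : F) = 0 := by linear_combination (1595 : F) * h27 - 3 * h24
      exact one_ne_zero this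
    · refine ⟨3 * 1 ^ 3, 3 * 1 ^ 2, by simpa using h3, by simpa using h3, by ring, ?_,
        fun K _ _ => hA K⟩
      intro h
      have h1 : ((3 : F) * 1 ^ 3) ^ 3 = 1 := by
        have := inv_eq_one.1 (by rw [← inv_pow]; exact h : (((3 : F) * 1 ^ 3) ^ 3)⁻¹ = 1)
        exact this
      apply h27
      linear_combination h1
  · -- non-prime field
    obtain ⟨δ, hδ⟩ := exists_gen (F := F)
    have hδ0 : (δ : F) ≠ 0 := δ.ne_zero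
    have h9 := hB δ hδ
    set g : F := 3 * (δ : F) ^ 3 with hgdef
    have hg : g ≠ 0 := mul_ne_zero h3 (pow_ne_zero _ hδ0)
    have h27 : (27 : F) ≠ 0 := by
      have : (27 : F) = 3 * 3 * 3 := by norm_num
      rw [this]; exact mul_ne_zero (mul_ne_zero h3 h3) h3
    -- `ρ` in the prime field is impossible
    have hρbot : g⁻¹ ^ 3 ∉ (⊥ : Subfield F) := by
      intro h
      apply h9
      have h1 : (g⁻¹ ^ 3)⁻¹ ∈ (⊥ : Subfield F) := inv_mem h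
      have h2 : (27 : F)⁻¹ ∈ (⊥ : Subfield F) := inv_mem (by exact_mod_cast natCast_mem_bot (F := F) 27)
      have e : (δ : F) ^ 9 = (27 : F)⁻¹ * (g⁻¹ ^ 3)⁻¹ := by
        rw [hgdef]; field_simp; ring
      rw [e]; exact mul_mem h2 h1
    refine ⟨g, 3 * (δ : F) ^ 2, hg, mul_ne_zero h3 (pow_ne_zero _ hδ0), by rw [hgdef]; ring, ?_, ?_⟩
    · intro h
      exact hρbot (by rw [h]; exact one_mem _)
    · intro K hρK hc1K
      -- e = 3 h² + 39 h ∈ K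
      have he : 3 * g⁻¹ ^ 2 + 39 * g⁻¹ ∈ K := by
        have : 3 * g⁻¹ ^ 2 + 39 * g⁻¹ =
            g⁻¹ ^ 3 - (g⁻¹ ^ 3 - 3 * g⁻¹ ^ 2 - 39 * g⁻¹ - 64) - ((64 : ℕ) : F) := by
          push_cast; ring
        rw [this]
        exact sub_mem (sub_mem hρK hc1K) (natCast_mem _ _)
      by_cases h507 : 3 * g⁻¹ ^ 2 + 39 * g⁻¹ + 507 = 0
      · exfalso
        apply hρbot
        have h0 : g⁻¹ ^ 2 + 13 * g⁻¹ + 169 = 0 := by
          have : 3 * (g⁻¹ ^ 2 + 13 * g⁻¹ + 169) = 0 := by linear_combination h507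
          rcases mul_eq_zero.1 this with h | h
          · exact absurd h h3
          · exact h
        have h1 : g⁻¹ ^ 3 = ((2197 : ℕ) : F) := by
          push_cast
          linear_combination (g⁻¹ - 13) * h0
        rw [h1]; exact natCast_mem _ _
      · have hh : g⁻¹ ∈ K := by
          have e : g⁻¹ = (13 * (3 * g⁻¹ ^ 2 + 39 * g⁻¹) + 3 * g⁻¹ ^ 3) /
              (3 * g⁻¹ ^ 2 + 39 * g⁻¹ + 507) := by
            rw [eq_div_iff h507]; ring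
          rw [e]
          refine div_mem (add_mem (mul_mem ?_ he) (mul_mem ?_ hρK)) (add_mem he ?_)
          · exact_mod_cast natCast_mem K 13
          · exact_mod_cast natCast_mem K 3
          · exact_mod_cast natCast_mem K 507
        have hgK : g ∈ K := by
          have := inv_mem hh
          rwa [inv_inv] at this
        have h3K : (3 : F)⁻¹ ∈ K := inv_mem (by exact_mod_cast natCast_mem K 3)
        have hδ3 : (δ : F) ^ 3 ∈ K := by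
          have e : (δ : F) ^ 3 = (3 : F)⁻¹ * g := by rw [hgdef]; field_simp
          rw [e]; exact mul_mem h3K hgK
        exact subfield_eq_top_of_gen_cube_mem δ hδ hq K hδ3

/-- The generic case of the theorem. -/
theorem generic_case (h3 : (3 : F) ≠ 0) (hq2 : Fintype.card F ≠ 2) (hq4 : Fintype.card F ≠ 4) :
    ∃ u g : SpecialLinearGroup (Fin 3) F,
      IsNilpotent ((u : Matrix (Fin 3) (Fin 3) F) - 1) ∧
      ((u : Matrix (Fin 3) (Fin 3) F) - 1) ^ (3 - 1) ≠ 0 ∧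
      Subgroup.closure ({u, g * u * g⁻¹} : Set (SpecialLinearGroup (Fin 3) F)) = ⊤ := by
  obtain ⟨g, c, hg, hc, hc3, hρ, hK⟩ := exists_good_g h3 hq2 hq4
  refine ⟨uS g 0 hg, GS g 0 c hc hc3, uS_nilpotent g 0 hg, uS_sq_ne g 0 hg ?_, ?_⟩
  · rw [zero_add]; exact mul_ne_zero h3 hg
  · exact generic_top g c hg hc hc3 h3 hρ hK

end kappa

end Cfsg.Agent.Helper12.RU3
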