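import Mathlib
import Cfsg.Agent.Helper12.RU3B
import Cfsg.Agent.Helper12.RU3C
import Cfsg.Agent.Helper12.RU3D

set_option autoImplicit false
set_option linter.unusedTactic false
set_option linter.unreachableTactic false
set_option linter.unusedSimpArgs false

/-! The case of characteristic `3`: `b = -λ`, `g = -λ²`, `c = λ`. -/

open Matrix

namespace Cfsg.Agent.Helper12.RU3

variable {F : Type*} [Field F]

section char3

/-- `t` in characteristic `3`. -/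
def t3M (l : F) : Matrix (Fin 3) (Fin 3) F :=
  !![l⁻¹ ^ 2, -1, 0; 0, -l, 1; 0, -l ^ 2, 0]

/-- `u'` in characteristic `3`. -/
def up3M (l : F) : Matrix (Fin 3) (Fin 3) F :=
  !![1, 0, -l; 0, 0, -l ^ 2; 0, l⁻¹ ^ 2, -1]

theorem tM_eq_t3M (l : F) (hl : l ≠ 0) (h3 : (3 : F) = 0) : tM (-l ^ 2) (-l) = t3M l := by
  ext i j
  fin_cases i <;> fin_cases j <;> simp [tM, t3M]
  linear_combination (1 - l ^ 2) * h3

theorem upM_eq_up3M (l : F) (hl : l ≠ 0) (h3 : (3 : F) = 0) : upM (-l ^ 2) (-l) = up3M l := by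
  have hg : (-l ^ 2)⁻¹ = -l⁻¹ ^ 2 := by field_simp
  ext i j
  fin_cases i <;> fin_cases j <;> simp only [upM, up3M, hg] <;> simp
  · linear_combination (l⁻¹ ^ 2 - 5 + l + 9 * l ^ 2) * h3
  · linear_combination (3 * l⁻¹ ^ 2 - 14 + 3 * l + 24 * l ^ 2) * h3
  · linear_combination (-l⁻¹ ^ 2 + 6 - 8 * l ^ 2) * h3
  · linear_combination (-3 * l⁻¹ ^ 2 + 16 - 21 * l ^ 2) * h3
  · linear_combination (-2 + 3 * l ^ 2) * h3
  · linear_combination (l⁻¹ ^ 2 - 5 + 8 * l ^ 2) * h3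

theorem comm3_eq (l : F) (hl : l ≠ 0) :
    t3M l * t3M l * t3M l * up3M l =
      EM (l⁻¹ * (l⁻¹ ^ 3 - 1) ^ 3) 0 * up3M l * (t3M l * t3M l * t3M l) := by
  ext i j
  fin_cases i <;> fin_cases j <;>
    simp [t3M, up3M, EM, Matrix.mul_apply, Fin.sum_univ_three] <;> field_simp <;> ring

variable (l : F) (hl : l ≠ 0) (h3 : (3 : F) = 0)

theorem g3_ne (l : F) (hl : l ≠ 0) : -l ^ 2 ≠ 0 := neg_ne_zero.2 (pow_ne_zero _ hl)

theorem hc3_char3 (l : F) (h3 : (3 : F) = 0) : l ^ 3 = -l ^ 2 * (-l + 3 * -l ^ 2) := by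
  linear_combination (-l ^ 4) * h3

theorem r1_mem_char3 :
    (l⁻¹ * (l⁻¹ ^ 3 - 1) ^ 3, (0 : F)) ∈
      Mgrp (Hgrp (-l ^ 2) (-l) l (g3_ne l hl) hl (hc3_char3 l h3)) := by
  rw [mem_Mgrp]
  have ht := tS_mem (-l ^ 2) (-l) l (g3_ne l hl) hl (hc3_char3 l h3)
  have hu := upS_mem (-l ^ 2) (-l) l (g3_ne l hl) hl (hc3_char3 l h3)
  set T := tS (-l ^ 2) (-l) (g3_ne l hl) with hT
  set U := upS (-l ^ 2) (-l) (g3_ne l hl) with hU
  have key : T * T * T * U = E (l⁻¹ * (l⁻¹ ^ 3 - 1) ^ 3) 0 * U * (T * T * T) := by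
    apply Subtype.ext
    show tM (-l ^ 2) (-l) * tM (-l ^ 2) (-l) * tM (-l ^ 2) (-l) * upM (-l ^ 2) (-l) =
      EM (l⁻¹ * (l⁻¹ ^ 3 - 1) ^ 3) 0 * upM (-l ^ 2) (-l) *
        (tM (-l ^ 2) (-l) * tM (-l ^ 2) (-l) * tM (-l ^ 2) (-l))
    rw [tM_eq_t3M l hl h3, upM_eq_up3M l hl h3]
    exact comm3_eq l hl
  have e : E (l⁻¹ * (l⁻¹ ^ 3 - 1) ^ 3) 0 = T * T * T * U * (T * T * T)⁻¹ * U⁻¹ := by
    rw [key]; group
  rw [e]
  have hT3 := Subgroup.mul_mem _ (Subgroup.mul_mem _ ht ht) ht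
  exact Subgroup.mul_mem _ (Subgroup.mul_mem _ (Subgroup.mul_mem _ hT3 hu)
    (Subgroup.inv_mem _ hT3)) (Subgroup.inv_mem _ hu)

/-- `ρ = λ⁻⁹` preserves `Mgrp`. -/
theorem rho_mem_Sset_char3 :
    l⁻¹ ^ 9 ∈ Sset (Hgrp (-l ^ 2) (-l) l (g3_ne l hl) hl (hc3_char3 l h3)) := by
  intro a₀ b₀ h
  have h1 := (Mgrp_opT (-l ^ 2) (-l) l (g3_ne l hl) hl (hc3_char3 l h3) a₀ b₀).1 h
  have h2 := (Mgrp_opT (-l ^ 2) (-l) l (g3_ne l hl) hl (hc3_char3 l h3) _ _).1 h1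
  have h4 := (Mgrp_opT (-l ^ 2) (-l) l (g3_ne l hl) hl (hc3_char3 l h3) _ _).1 h2
  convert h4 using 2 <;> field_simp <;> ring

theorem char3_top [Fintype F] (hl3 : l⁻¹ ^ 3 ≠ 1)
    (hK : ∀ K : Subfield F, l⁻¹ ^ 9 ∈ K → K = ⊤) :
    Hgrp (-l ^ 2) (-l) l (g3_ne l hl) hl (hc3_char3 l h3) = ⊤ := by
  have hS : Sfield (Hgrp (-l ^ 2) (-l) l (g3_ne l hl) hl (hc3_char3 l h3)) = ⊤ :=
    hK _ (rho_mem_Sset_char3 l hl h3)
  have h1 := r1_mem_char3 l hl h3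
  have h2 := (Mgrp_opA (-l ^ 2) (-l) l (g3_ne l hl) hl (hc3_char3 l h3) _ _).1 h1
  apply Hgrp_eq_top
  intro a₀ b₀
  refine E_mem_of_indep _ hS _ _ _ _ h1 h2 ?_ a₀ b₀
  have hg : (-l ^ 2)⁻¹ = -l⁻¹ ^ 2 := by field_simp
  have e : l⁻¹ * (l⁻¹ ^ 3 - 1) ^ 3 *
        (l⁻¹ * (l⁻¹ ^ 3 - 1) ^ 3 * (9 * (-l ^ 2)⁻¹ + 48 + 64 * -l ^ 2) +
          0 * (-3 * (-l ^ 2)⁻¹ - 16 - 24 * -l ^ 2)) -
      0 * (l⁻¹ * (l⁻¹ ^ 3 - 1) ^ 3 * (3 * (-l ^ 2)⁻¹ + 18 + 24 * -l ^ 2) +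
          0 * (-(-l ^ 2)⁻¹ - 6 - 9 * -l ^ 2)) =
      (l⁻¹ * (l⁻¹ ^ 3 - 1) ^ 3) ^ 2 * (-l ^ 2) := by
    rw [hg]
    linear_combination ((l⁻¹ * (l⁻¹ ^ 3 - 1) ^ 3) ^ 2 * (-3 * l⁻¹ ^ 2 + 16 - 21 * l ^ 2)) * h3
  rw [e]
  exact mul_ne_zero (pow_ne_zero _ (mul_ne_zero (inv_ne_zero hl)
    (pow_ne_zero _ (sub_ne_zero.2 hl3)))) (g3_ne l hl)

theorem charP_three_of (h3 : (3 : F) = 0) : CharP F 3 := by
  haveI := ringChar.charP F
  have hdvd : ringChar F ∣ 3 := (CharP.cast_eq_zero_iff F (ringChar F) 3).1 (by exact_mod_cast h3)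
  have hne : ringChar F ≠ 1 := CharP.ringChar_ne_one
  rcases (Nat.dvd_prime Nat.prime_three).1 hdvd with h | h
  · exact absurd h hne
  · rw [← h]; infer_instance

/-- The theorem in characteristic `3`. -/
theorem char3_case [Fintype F] (h3 : (3 : F) = 0) :
    ∃ u g : SpecialLinearGroup (Fin 3) F,
      IsNilpotent ((u : Matrix (Fin 3) (Fin 3) F) - 1) ∧
      ((u : Matrix (Fin 3) (Fin 3) F) - 1) ^ (3 - 1) ≠ 0 ∧
      Subgroup.closure ({u, g * u * g⁻¹} : Set (SpecialLinearGroup (Fin 3) F)) = ⊤ := by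
  haveI := charP_three_of h3
  obtain ⟨δ, hδ⟩ := exists_gen (F := F)
  set l : F := (δ : F) with hldef
  have hl : l ≠ 0 := δ.ne_zero
  have h3dvd : 3 ∣ Fintype.card F := by
    have : ((Fintype.card F : ℕ) : F) = 0 := Nat.cast_card_eq_zero F
    exact (CharP.cast_eq_zero_iff F 3 _).1 this
  have hl3 : l⁻¹ ^ 3 ≠ 1 := by
    intro h
    have h1 : l ^ 3 = 1 := by
      have := inv_eq_one.1 (by rw [← inv_pow]; exact h : (l ^ 3)⁻¹ = 1)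
      exact this
    have h2 : δ ^ 3 = 1 := by
      apply Units.ext
      rw [Units.val_pow_eq_pow_val, Units.val_one]; exact h1
    have h4 : Fintype.card F - 1 ∣ 3 := by
      rw [← orderOf_gen δ hδ]; exact orderOf_dvd_of_pow_eq_one h2
    have h5 : Fintype.card F - 1 ≤ 3 := Nat.le_of_dvd (by norm_num) h4
    have h6 : 2 ≤ Fintype.card F := Fintype.one_lt_card
    obtain ⟨k, hk⟩ := h3dvd
    have : Fintype.card F = 3 := by omega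
    rw [this] at h4
    norm_num at h4
  have hK : ∀ K : Subfield F, l⁻¹ ^ 9 ∈ K → K = ⊤ := by
    intro K h
    have h1 : l⁻¹ ∈ K := mem_of_pow_nine_mem K _ h
    have h2 : l ∈ K := by
      have := inv_mem h1
      rwa [inv_inv] at this
    exact subfield_eq_top_of_gen_mem δ hδ K h2
  refine ⟨uS (-l ^ 2) (-l) (g3_ne l hl), GS (-l ^ 2) (-l) l hl (hc3_char3 l h3),
    uS_nilpotent _ _ _, uS_sq_ne _ _ _ ?_, char3_top l hl h3 hl3 hK⟩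
  have : -l + 3 * -l ^ 2 = -l := by linear_combination (-l ^ 2) * h3
  rw [this]
  exact neg_ne_zero.2 hl

end char3

end Cfsg.Agent.Helper12.RU3
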