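import Mathlib
import Cfsg.Agent.Helper12.RU3B
import Cfsg.Agent.Helper12.RU3C
import Cfsg.Agent.Helper12.RU3D

set_option autoImplicit false
set_option linter.unusedTactic false
set_option linter.unreachableTactic false
set_option linter.unusedSimpArgs false

/-! The fields with `2` and `4` elements. -/

open Matrix

namespace Cfsg.Agent.Helper12.RU3

variable {F : Type*} [Field F]

section card2

theorem hc3_two (h2 : (2 : F) = 0) : (1 : F) ^ 3 = 1 * (0 + 3 * 1) := by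
  linear_combination (-1 : F) * h2

theorem tM_sq_two : tM (1 : F) 0 * tM (1 : F) 0 = EM (-5) 5 := by
  ext i j
  fin_cases i <;> fin_cases j <;>
    simp [tM, EM, Matrix.mul_apply, Fin.sum_univ_three] <;> norm_num

theorem card2_top [Fintype F] (h2 : (2 : F) = 0) (hA : ∀ K : Subfield F, K = ⊤) :
    Hgrp (1 : F) 0 1 one_ne_zero one_ne_zero (hc3_two h2) = ⊤ := by
  have hS : Sfield (Hgrp (1 : F) 0 1 one_ne_zero one_ne_zero (hc3_two h2)) = ⊤ := hA _
  have ht := tS_mem (1 : F) 0 1 one_ne_zero one_ne_zero (hc3_two h2)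
  have h1 : ((-5 : F), (5 : F)) ∈ Mgrp (Hgrp (1 : F) 0 1 one_ne_zero one_ne_zero (hc3_two h2)) := by
    rw [mem_Mgrp]
    have e : E (-5 : F) 5 = tS (1 : F) 0 one_ne_zero * tS (1 : F) 0 one_ne_zero := by
      apply Subtype.ext
      exact tM_sq_two.symm
    rw [e]
    exact Subgroup.mul_mem _ ht ht
  have h2' := (Mgrp_opA (1 : F) 0 1 one_ne_zero one_ne_zero (hc3_two h2) _ _).1 h1
  apply Hgrp_eq_top
  intro a₀ b₀
  refine E_mem_of_indep _ hS _ _ _ _ h1 h2' ?_ a₀ b₀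
  have e : (-5 : F) * (-5 * (9 * (1 : F)⁻¹ + 48 + 64 * 1) + 5 * (-3 * (1 : F)⁻¹ - 16 - 24 * 1)) -
      5 * (-5 * (3 * (1 : F)⁻¹ + 18 + 24 * 1) + 5 * (-(1 : F)⁻¹ - 6 - 9 * 1)) = 1 := by
    rw [inv_one]
    linear_combination (2812 : F) * h2
  rw [e]
  exact one_ne_zero

theorem card2_case [Fintype F] (hq : Fintype.card F = 2) :
    ∃ u g : SpecialLinearGroup (Fin 3) F,
      IsNilpotent ((u : Matrix (Fin 3) (Fin 3) F) - 1) ∧
      ((u : Matrix (Fin 3) (Fin 3) F) - 1) ^ (3 - 1) ≠ 0 ∧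
      Subgroup.closure ({u, g * u * g⁻¹} : Set (SpecialLinearGroup (Fin 3) F)) = ⊤ := by
  have h2 : (2 : F) = 0 := by
    have : ((Fintype.card F : ℕ) : F) = 0 := Nat.cast_card_eq_zero F
    rw [hq] at this
    exact_mod_cast this
  have hA : ∀ K : Subfield F, K = ⊤ := by
    rcases prime_or_gen_pow_nine (F := F) (by omega) with h | ⟨h, _⟩
    · exact h
    · omega
  refine ⟨uS (1 : F) 0 one_ne_zero, GS (1 : F) 0 1 one_ne_zero (hc3_two h2),
    uS_nilpotent _ _ _, uS_sq_ne _ _ _ ?_, card2_top h2 hA⟩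
  have : (0 : F) + 3 * 1 = 1 := by linear_combination h2
  rw [this]
  exact one_ne_zero

end card2

section card4

variable (w : F) (h2 : (2 : F) = 0) (hw : w ^ 2 + w + 1 = 0)

theorem w_ne_zero (w : F) (hw : w ^ 2 + w + 1 = 0) : w ≠ 0 := by
  rintro rfl
  simp at hw

theorem w_inv (w : F) (h2 : (2 : F) = 0) (hw : w ^ 2 + w + 1 = 0) : w⁻¹ = w + 1 := by
  rw [inv_eq_iff_eq_inv, eq_comm, inv_eq_of_mul_eq_one_left]
  linear_combination hw - h2

theorem hc3_four (w : F) (h2 : (2 : F) = 0) (hw : w ^ 2 + w + 1 = 0) :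
    (1 : F) ^ 3 = w * (1 + 3 * w) := by
  linear_combination (-3 : F) * hw + (2 + w) * h2

/-- `u'` over the field with four elements. -/
def up4M (w : F) : Matrix (Fin 3) (Fin 3) F :=
  !![1, 1, w + 1; 0, w + 1, w + 1; 0, 1, w + 1]

theorem upM_eq_up4M (w : F) (h2 : (2 : F) = 0) (hw : w ^ 2 + w + 1 = 0) :
    upM w 1 = up4M w := by
  have hi := w_inv w h2 hw
  ext i j
  fin_cases i <;> fin_cases j <;> simp only [upM, up4M, hi] <;> simp
  · linear_combination (-15 * w - 11) * h2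
  · linear_combination (-41 * w - 30) * h2
  · linear_combination (13 * w + 10) * h2
  · linear_combination (36 * w + 28) * h2
  · linear_combination (-5 * w - 4) * h2
  · linear_combination (-14 * w - 10) * h2

theorem up4M_sq (w : F) (h2 : (2 : F) = 0) (hw : w ^ 2 + w + 1 = 0) :
    up4M w * up4M w = EM 1 w := by
  ext i j
  fin_cases i <;> fin_cases j <;>
    simp [up4M, EM, Matrix.mul_apply, Fin.sum_univ_three]
  · linear_combination (1 + w) * h2
  · linear_combination hw + (1 + w) * h2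
  · linear_combination hw + w * h2
  · linear_combination (1 + 2 * w + w ^ 2) * h2
  · linear_combination (1 + w) * h2
  · linear_combination hw + w * h2

theorem r1_mem_four :
    ((1 : F), w) ∈ Mgrp (Hgrp w 1 1 (w_ne_zero w hw) one_ne_zero (hc3_four w h2 hw)) := by
  rw [mem_Mgrp]
  have hu := upS_mem w 1 1 (w_ne_zero w hw) one_ne_zero (hc3_four w h2 hw)
  have e : E (1 : F) w = upS w 1 (w_ne_zero w hw) * upS w 1 (w_ne_zero w hw) := by
    apply Subtype.ext
    show EM 1 w = upM w 1 * upM w 1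
    rw [upM_eq_up4M w h2 hw, up4M_sq w h2 hw]
  rw [e]
  exact Subgroup.mul_mem _ hu hu

/-- `ω` preserves `Mgrp`. -/
theorem w_mem_Sset :
    w ∈ Sset (Hgrp w 1 1 (w_ne_zero w hw) one_ne_zero (hc3_four w h2 hw)) := by
  intro a₀ b₀ h
  have hi := w_inv w h2 hw
  have h1 := (Mgrp_opT w 1 1 (w_ne_zero w hw) one_ne_zero (hc3_four w h2 hw) a₀ b₀).1 h
  have h2' : (-w * a₀ - w ^ 2 * b₀, -w * a₀) ∈
      Mgrp (Hgrp w 1 1 (w_ne_zero w hw) one_ne_zero (hc3_four w h2 hw)) := by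
    refine (Mgrp_opT w 1 1 (w_ne_zero w hw) one_ne_zero (hc3_four w h2 hw) _ _).2 ?_
    convert h using 2
    · have hw0 := w_ne_zero w hw
      field_simp
    · have hw0 := w_ne_zero w hw
      field_simp
      ring
  have hsum := (Mgrp _).add_mem h1 h2'
  convert hsum using 1
  ext
  · simp only [Prod.fst_add, hi]
    linear_combination (-b₀) * hw + (-w * a₀ - b₀) * h2 + (-b₀ * w) * h2 +
      (2 * w * a₀ + 2 * w * b₀ + w ^ 2 * b₀ + 2 * b₀) * h2
  · simp only [Prod.snd_add, hi]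
    linear_combination (-a₀ + b₀) * hw + (b₀ - w * a₀ + b₀ * w) * h2 +
      (-2 * w * b₀ + 3 * w * a₀ - w ^ 2 * b₀ + w ^ 2 * a₀ - 2 * b₀ + a₀) * h2

theorem card4_top [Fintype F]
    (hK : ∀ K : Subfield F, w ∈ K → K = ⊤) :
    Hgrp w 1 1 (w_ne_zero w hw) one_ne_zero (hc3_four w h2 hw) = ⊤ := by
  have hS : Sfield (Hgrp w 1 1 (w_ne_zero w hw) one_ne_zero (hc3_four w h2 hw)) = ⊤ :=
    hK _ (w_mem_Sset w h2 hw)
  have h1 := r1_mem_four w h2 hw
  have h2' := (Mgrp_opT w 1 1 (w_ne_zero w hw) one_ne_zero (hc3_four w h2 hw) _ _).1 h1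
  apply Hgrp_eq_top
  intro a₀ b₀
  refine E_mem_of_indep _ hS _ _ _ _ h1 h2' ?_ a₀ b₀
  have hi := w_inv w h2 hw
  have e : (1 : F) * ((-w⁻¹ * 1 + w⁻¹ * w * 1) * w⁻¹) - w * (-w⁻¹ * w) = w ^ 2 := by
    rw [hi]
    linear_combination hw + (w ^ 3 - w - 1) * h2
  rw [e]
  exact pow_ne_zero _ (w_ne_zero w hw)

end card4

theorem card4_case [Fintype F] (hq : Fintype.card F = 4) :
    ∃ u g : SpecialLinearGroup (Fin 3) F,
      IsNilpotent ((u : Matrix (Fin 3) (Fin 3) F) - 1) ∧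
      ((u : Matrix (Fin 3) (Fin 3) F) - 1) ^ (3 - 1) ≠ 0 ∧
      Subgroup.closure ({u, g * u * g⁻¹} : Set (SpecialLinearGroup (Fin 3) F)) = ⊤ := by
  have h4 : (4 : F) = 0 := by
    have : ((Fintype.card F : ℕ) : F) = 0 := Nat.cast_card_eq_zero F
    rw [hq] at this
    exact_mod_cast this
  have h2 : (2 : F) = 0 := by
    have : (2 : F) * 2 = 0 := by linear_combination h4
    rcases mul_eq_zero.1 this with h | h <;> exact h
  obtain ⟨δ, hδ⟩ := exists_gen (F := F)
  have hord : orderOf δ = 3 := by rw [orderOf_gen δ hδ, hq]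
  have hδ3 : (δ : F) ^ 3 = 1 := by
    have := pow_orderOf_eq_one δ
    rw [hord] at this
    have := congrArg (fun u : Fˣ => (u : F)) this
    simpa using this
  have hδ1 : (δ : F) ≠ 1 := by
    intro h
    have : δ = 1 := Units.ext (by simpa using h)
    rw [this, orderOf_one] at hord
    omega
  have hw : (δ : F) ^ 2 + (δ : F) + 1 = 0 := by
    have : ((δ : F) - 1) * ((δ : F) ^ 2 + (δ : F) + 1) = 0 := by linear_combination hδ3
    rcases mul_eq_zero.1 this with h | h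
    · exact absurd (sub_eq_zero.1 h) hδ1
    · exact h
  have hK : ∀ K : Subfield F, (δ : F) ∈ K → K = ⊤ :=
    fun K h => subfield_eq_top_of_gen_mem δ hδ K h
  refine ⟨uS (δ : F) 1 (w_ne_zero _ hw), GS (δ : F) 1 1 one_ne_zero (hc3_four _ h2 hw),
    uS_nilpotent _ _ _, uS_sq_ne _ _ _ ?_, card4_top (δ : F) h2 hw hK⟩
  have : (1 : F) + 3 * (δ : F) = (δ : F) ^ 2 := by
    linear_combination (-1 : F) * hw + (1 + 2 * (δ : F)) * h2
  rw [this]
  exact pow_ne_zero _ δ.ne_zero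

end Cfsg.Agent.Helper12.RU3
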