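import Mathlib
import Cfsg.Agent.Helper2.Transvec

set_option autoImplicit false
set_option linter.unusedSectionVars false

/-! General transvections `1 + v φ` in `SL_n(F)` and a generation criterion:
a subgroup `H` containing *all* transvections with a given covector `φ`, for a family of
covectors that is closed under the action of `H`, is everything as soon as the standard
covectors are reached. -/

open Matrix

namespace Cfsg.Agent.Helper12.TVG

variable {ι : Type*} [Fintype ι] [DecidableEq ι] {F : Type*} [Field F]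

/-- The matrix `1 + v φ` (`v` a column vector, `φ` a row vector). -/
def TM (v φ : ι → F) : Matrix ι ι F := 1 + vecMulVec v φ

theorem det_TM (v φ : ι → F) (h : φ ⬝ᵥ v = 0) : (TM v φ).det = 1 := by
  unfold TM
  rw [vecMulVec_eq (ι := Unit), det_one_add_replicateCol_mul_replicateRow, h, add_zero]

theorem TM_mul_TM (v w φ : ι → F) (h : φ ⬝ᵥ w = 0) : TM v φ * TM w φ = TM (v + w) φ := by
  unfold TM
  simp only [add_mul, mul_add, one_mul, mul_one]
  rw [vecMulVec_mul_vecMulVec, h, zero_smul, vecMulVec_zero, add_zero, add_vecMulVec]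
  abel

theorem TM_zero (φ : ι → F) : TM (0 : ι → F) φ = 1 := by
  unfold TM; rw [zero_vecMulVec, add_zero]

theorem TM_zero_right (v : ι → F) : TM v (0 : ι → F) = 1 := by
  unfold TM; rw [vecMulVec_zero, add_zero]

theorem coe_mul_inv (g : SpecialLinearGroup ι F) :
    (g : Matrix ι ι F) * ((g⁻¹ : SpecialLinearGroup ι F) : Matrix ι ι F) = 1 := by
  have := congrArg (fun x : SpecialLinearGroup ι F => (x : Matrix ι ι F)) (mul_inv_cancel g)
  exact this

theorem coe_inv_mul (g : SpecialLinearGroup ι F) :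
    ((g⁻¹ : SpecialLinearGroup ι F) : Matrix ι ι F) * (g : Matrix ι ι F) = 1 := by
  have := congrArg (fun x : SpecialLinearGroup ι F => (x : Matrix ι ι F)) (inv_mul_cancel g)
  exact this

/-- `A` is the matrix of an element of `H`. -/
def InH (H : Subgroup (SpecialLinearGroup ι F)) (A : Matrix ι ι F) : Prop :=
  ∃ g ∈ H, (g : Matrix ι ι F) = A

theorem InH_coe {H : Subgroup (SpecialLinearGroup ι F)} {g : SpecialLinearGroup ι F} (hg : g ∈ H) :
    InH H (g : Matrix ι ι F) := ⟨g, hg, rfl⟩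

theorem InH_one (H : Subgroup (SpecialLinearGroup ι F)) : InH H (1 : Matrix ι ι F) :=
  ⟨1, H.one_mem, rfl⟩

theorem InH_mul {H : Subgroup (SpecialLinearGroup ι F)} {A B : Matrix ι ι F}
    (hA : InH H A) (hB : InH H B) : InH H (A * B) := by
  obtain ⟨g, hg, rfl⟩ := hA
  obtain ⟨k, hk, rfl⟩ := hB
  exact ⟨g * k, H.mul_mem hg hk, rfl⟩

/-- A right inverse of the matrix of an element of `H` is the matrix of an element of `H`. -/
theorem InH_of_mul_eq_one {H : Subgroup (SpecialLinearGroup ι F)} {A B : Matrix ι ι F}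
    (hA : InH H A) (hAB : A * B = 1) : InH H B := by
  obtain ⟨g, hg, rfl⟩ := hA
  have hdet : B.det = 1 := by
    have := congrArg Matrix.det hAB
    rw [det_mul, g.det_coe, one_mul, det_one] at this
    exact this
  let b : SpecialLinearGroup ι F := ⟨B, hdet⟩
  have hb : g * b = 1 := by
    apply Subtype.ext
    exact hAB
  refine ⟨b, ?_, rfl⟩
  rw [← inv_eq_of_mul_eq_one_right hb]
  exact H.inv_mem hg

/-- If `g A = B g` with `g ∈ H` and `A ∈ H` then `B ∈ H`. -/
theorem InH_of_conj {H : Subgroup (SpecialLinearGroup ι F)} {g : SpecialLinearGroup ι F}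
    (hg : g ∈ H) {A B : Matrix ι ι F} (hA : InH H A)
    (h : (g : Matrix ι ι F) * A = B * (g : Matrix ι ι F)) : InH H B := by
  obtain ⟨a, ha, rfl⟩ := hA
  refine ⟨g * a * g⁻¹, H.mul_mem (H.mul_mem hg ha) (H.inv_mem hg), ?_⟩
  have hdet : B.det = 1 := by
    have := congrArg Matrix.det h
    rw [det_mul, det_mul, g.det_coe, a.det_coe, one_mul, mul_one] at this
    exact this.symm
  let b : SpecialLinearGroup ι F := ⟨B, hdet⟩
  have h1 : g * a = b * g := by
    apply Subtype.ext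
    exact h
  rw [h1, mul_inv_cancel_right]

/-- Conjugating a transvection. -/
theorem InH_conj_TM {H : Subgroup (SpecialLinearGroup ι F)} {g : SpecialLinearGroup ι F}
    (hg : g ∈ H) (v φ ψ : ι → F) (hψ : ψ ᵥ* (g : Matrix ι ι F) = φ)
    (h : InH H (TM v φ)) : InH H (TM ((g : Matrix ι ι F) *ᵥ v) ψ) := by
  refine InH_of_conj hg h ?_
  unfold TM
  rw [mul_add, add_mul, mul_one, one_mul, mul_vecMulVec, vecMulVec_mul, hψ]

theorem InH_TM_neg {H : Subgroup (SpecialLinearGroup ι F)} (v φ : ι → F) (hv : φ ⬝ᵥ v = 0)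
    (h : InH H (TM v φ)) : InH H (TM (-v) φ) := by
  refine InH_of_mul_eq_one h ?_
  rw [TM_mul_TM _ _ _ (by rw [dotProduct_neg, hv, neg_zero]), add_neg_cancel, TM_zero]


/-- The transvection `1 + v φ` as an element of `SL_n(F)`. -/
def TS (v φ : ι → F) (h : φ ⬝ᵥ v = 0) : SpecialLinearGroup ι F := ⟨TM v φ, det_TM v φ h⟩

theorem TS_coe (v φ : ι → F) (h : φ ⬝ᵥ v = 0) :
    ((TS v φ h : SpecialLinearGroup ι F) : Matrix ι ι F) = TM v φ := rfl

theorem TS_inv_coe (v φ : ι → F) (h : φ ⬝ᵥ v = 0) :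
    (((TS v φ h)⁻¹ : SpecialLinearGroup ι F) : Matrix ι ι F) = TM (-v) φ := by
  have h' : φ ⬝ᵥ (-v) = 0 := by rw [dotProduct_neg, h, neg_zero]
  have : (TS v φ h)⁻¹ = TS (-v) φ h' := by
    apply inv_eq_of_mul_eq_one_right
    apply Subtype.ext
    show TM v φ * TM (-v) φ = 1
    rw [TM_mul_TM _ _ _ h', add_neg_cancel, TM_zero]
  rw [this]; rfl

/-- A matrix fixing the covector `φ` moves the transvection `1 + v φ` across. -/
theorem mul_TM_of_fix (A : Matrix ι ι F) (v φ : ι → F) (hφ : φ ᵥ* A = φ) :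
    A * TM v φ = TM (A *ᵥ v) φ * A := by
  unfold TM
  rw [mul_add, add_mul, mul_one, one_mul, mul_vecMulVec, vecMulVec_mul, hφ]

theorem InH_of_mul_coe {H : Subgroup (SpecialLinearGroup ι F)} {A : Matrix ι ι F}
    {g : SpecialLinearGroup ι F} (hg : g ∈ H) (h : InH H (A * (g : Matrix ι ι F))) : InH H A := by
  obtain ⟨x, hx, hxc⟩ := h
  refine ⟨x * g⁻¹, H.mul_mem hx (H.inv_mem hg), ?_⟩
  show (x : Matrix ι ι F) * ((g⁻¹ : SpecialLinearGroup ι F) : Matrix ι ι F) = A
  rw [hxc, Matrix.mul_assoc, coe_mul_inv, Matrix.mul_one]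

theorem conj_mulVec (g u : SpecialLinearGroup ι F) (x x' y' y : ι → F)
    (h1 : (g : Matrix ι ι F) *ᵥ x' = x) (h2 : (u : Matrix ι ι F) *ᵥ x' = y')
    (h3 : (g : Matrix ι ι F) *ᵥ y' = y) :
    ((g * u * g⁻¹ : SpecialLinearGroup ι F) : Matrix ι ι F) *ᵥ x = y := by
  show ((g : Matrix ι ι F) * (u : Matrix ι ι F) *
    ((g⁻¹ : SpecialLinearGroup ι F) : Matrix ι ι F)) *ᵥ x = y
  rw [← h1, mulVec_mulVec, Matrix.mul_assoc, Matrix.mul_assoc, coe_inv_mul, Matrix.mul_one,
    ← mulVec_mulVec, h2, h3]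

theorem conj_vecMul (g u : SpecialLinearGroup ι F) (x x' y' y : ι → F)
    (h1 : x ᵥ* (g : Matrix ι ι F) = x') (h2 : x' ᵥ* (u : Matrix ι ι F) = y')
    (h3 : y ᵥ* (g : Matrix ι ι F) = y') :
    x ᵥ* ((g * u * g⁻¹ : SpecialLinearGroup ι F) : Matrix ι ι F) = y := by
  show x ᵥ* ((g : Matrix ι ι F) * (u : Matrix ι ι F) *
    ((g⁻¹ : SpecialLinearGroup ι F) : Matrix ι ι F)) = y
  rw [← vecMul_vecMul, ← vecMul_vecMul, h1, h2, ← h3, vecMul_vecMul, coe_mul_inv, vecMul_one]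

theorem single_comp_perm (σ : Equiv.Perm ι) (k : ι) (a : F) :
    (Pi.single k a : ι → F) ∘ σ = Pi.single (σ.symm k) a := by
  funext i
  simp only [Function.comp_apply, Pi.single_apply]
  by_cases h : σ i = k
  · rw [if_pos h, if_pos (by rw [← h, Equiv.symm_apply_apply])]
  · rw [if_neg h, if_neg (by intro h'; apply h; rw [h', Equiv.apply_symm_apply])]

/-- The additive group of vectors `v` in the kernel of `φ` with `1 + v φ ∈ H`. -/
def Mod (H : Subgroup (SpecialLinearGroup ι F)) (φ : ι → F) : AddSubgroup (ι → F) where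
  carrier := {v | φ ⬝ᵥ v = 0 ∧ InH H (TM v φ)}
  zero_mem' := ⟨dotProduct_zero _, by rw [TM_zero]; exact InH_one H⟩
  add_mem' := by
    rintro v w ⟨hv, hv'⟩ ⟨hw, hw'⟩
    refine ⟨by rw [dotProduct_add, hv, hw, add_zero], ?_⟩
    rw [← TM_mul_TM _ _ _ hw]
    exact InH_mul hv' hw'
  neg_mem' := by
    rintro v ⟨hv, hv'⟩
    exact ⟨by rw [dotProduct_neg, hv, neg_zero], InH_TM_neg v φ hv hv'⟩

theorem mem_Mod {H : Subgroup (SpecialLinearGroup ι F)} {φ v : ι → F} :
    v ∈ Mod H φ ↔ φ ⬝ᵥ v = 0 ∧ InH H (TM v φ) := Iff.rfl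

/-- An element of `H` fixing the covector `φ` acts on `Mod H φ`. -/
theorem Mod_act {H : Subgroup (SpecialLinearGroup ι F)} {g : SpecialLinearGroup ι F}
    (hg : g ∈ H) {φ : ι → F} (hφ : φ ᵥ* (g : Matrix ι ι F) = φ) {v : ι → F}
    (hv : v ∈ Mod H φ) : (g : Matrix ι ι F) *ᵥ v ∈ Mod H φ := by
  refine ⟨?_, InH_conj_TM hg v φ φ hφ hv.2⟩
  rw [dotProduct_mulVec, hφ, hv.1]

/-- Transfer along conjugation: from `v ∈ Mod H φ` to `g v ∈ Mod H ψ` when `ψ g = φ`. -/
theorem Mod_conj {H : Subgroup (SpecialLinearGroup ι F)} {g : SpecialLinearGroup ι F}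
    (hg : g ∈ H) {φ ψ : ι → F} (hψ : ψ ᵥ* (g : Matrix ι ι F) = φ) {v : ι → F}
    (hv : v ∈ Mod H φ) : (g : Matrix ι ι F) *ᵥ v ∈ Mod H ψ := by
  refine ⟨?_, InH_conj_TM hg v φ ψ hψ hv.2⟩
  rw [dotProduct_mulVec, hψ, hv.1]

/-- The key step: a transvection `1 + w ψ ∈ H` with `φ w = 0` acts on `Mod H φ`. -/
theorem Mod_transvect {H : Subgroup (SpecialLinearGroup ι F)} {φ ψ v w : ι → F}
    (hw : w ∈ Mod H ψ) (hφw : φ ⬝ᵥ w = 0) (hv : v ∈ Mod H φ) :
    (ψ ⬝ᵥ v) • w ∈ Mod H φ := by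
  obtain ⟨y, hy, hyc⟩ := hw.2
  have hφy : φ ᵥ* (y : Matrix ι ι F) = φ := by
    rw [hyc]; unfold TM
    rw [vecMul_add, vecMul_one, vecMul_vecMulVec, hφw, zero_smul, add_zero]
  have h1 := Mod_act hy hφy hv
  have h2 : (y : Matrix ι ι F) *ᵥ v = v + (ψ ⬝ᵥ v) • w := by
    rw [hyc]; unfold TM
    rw [add_mulVec, one_mulVec, vecMulVec_mulVec, op_smul_eq_smul]
  rw [h2] at h1
  have := (Mod H φ).sub_mem h1 hv
  rwa [add_sub_cancel_left] at this

/-! ### Covectors with a full transvection group -/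

/-- The covectors `φ` all of whose transvections `1 + v φ` lie in `H`. -/
def Cov (H : Subgroup (SpecialLinearGroup ι F)) : Set (ι → F) :=
  {φ | ∀ v, φ ⬝ᵥ v = 0 → InH H (TM v φ)}

theorem Cov_zero (H : Subgroup (SpecialLinearGroup ι F)) : (0 : ι → F) ∈ Cov H := by
  intro v _
  rw [TM_zero_right]; exact InH_one H

theorem Cov_act {H : Subgroup (SpecialLinearGroup ι F)} {g : SpecialLinearGroup ι F}
    (hg : g ∈ H) {φ : ι → F} (hφ : φ ∈ Cov H) : φ ᵥ* (g : Matrix ι ι F) ∈ Cov H := by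
  intro v hv
  -- `g⁻¹ (1 + (g v) φ) g = 1 + v (φ g)`
  have h1 : InH H (TM ((g : Matrix ι ι F) *ᵥ v) φ) := hφ _ (by rw [dotProduct_mulVec]; exact hv)
  have hg' : g⁻¹ ∈ H := H.inv_mem hg
  have h2 := InH_conj_TM hg' ((g : Matrix ι ι F) *ᵥ v) φ (φ ᵥ* (g : Matrix ι ι F)) (by
    rw [vecMul_vecMul]
    rw [coe_mul_inv, vecMul_one]) h1
  have h3 : ((g⁻¹ : SpecialLinearGroup ι F) : Matrix ι ι F) *ᵥ ((g : Matrix ι ι F) *ᵥ v) = v := by
    rw [mulVec_mulVec]
    rw [coe_inv_mul, one_mulVec]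
  rwa [h3] at h2

theorem Cov_smul {H : Subgroup (SpecialLinearGroup ι F)} {φ : ι → F} (hφ : φ ∈ Cov H) (s : F) :
    s • φ ∈ Cov H := by
  intro v hv
  by_cases hs : s = 0
  · subst hs; rw [zero_smul, TM_zero_right]; exact InH_one H
  · have hv' : φ ⬝ᵥ v = 0 := by
      rw [smul_dotProduct, smul_eq_mul] at hv
      exact (mul_eq_zero.mp hv).resolve_left hs
    have h1 := hφ (s • v) (by rw [dotProduct_smul, hv', smul_zero])
    have : TM (s • v) φ = TM v (s • φ) := by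
      unfold TM
      rw [smul_vecMulVec, vecMulVec_smul]
    rwa [this] at h1

theorem Cov_add {H : Subgroup (SpecialLinearGroup ι F)} {φ ψ : ι → F}
    (hφ : φ ∈ Cov H) (hψ : ψ ∈ Cov H) : φ + ψ ∈ Cov H := by
  by_cases hex : ∃ v₁, ψ ⬝ᵥ v₁ = 0 ∧ φ ⬝ᵥ v₁ ≠ 0
  · obtain ⟨v₁, h1, h2⟩ := hex
    -- `h = 1 + (s v₁) ψ ∈ H` with `φ h = φ + ψ`
    set s : F := (φ ⬝ᵥ v₁)⁻¹ with hs
    obtain ⟨y, hy, hyc⟩ := hψ (s • v₁) (by rw [dotProduct_smul, h1, smul_zero])
    have : φ ᵥ* (y : Matrix ι ι F) = φ + ψ := by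
      rw [hyc]; unfold TM
      rw [vecMul_add, vecMul_one, vecMul_vecMulVec, dotProduct_smul, smul_eq_mul, hs,
        inv_mul_cancel₀ h2, one_smul]
    rw [← this]
    exact Cov_act hy hφ
  · push Not at hex
    intro v hv
    by_cases hs : φ ⬝ᵥ v = 0
    · have hs' : ψ ⬝ᵥ v = 0 := by
        rw [add_dotProduct, hs, zero_add] at hv; exact hv
      have : TM v (φ + ψ) = TM v φ * TM v ψ := by
        unfold TM
        simp only [add_mul, mul_add, one_mul, mul_one]
        rw [vecMulVec_mul_vecMulVec, hs, zero_smul, vecMulVec_zero, add_zero, vecMulVec_add]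
        abel
      rw [this]
      exact InH_mul (hφ v hs) (hψ v hs')
    · -- then `φ + ψ = 0`
      have hψv : ψ ⬝ᵥ v = -(φ ⬝ᵥ v) := by
        rw [add_dotProduct] at hv
        exact eq_neg_of_add_eq_zero_right hv
      have hψv0 : ψ ⬝ᵥ v ≠ 0 := by rw [hψv]; exact neg_ne_zero.mpr hs
      have hall : ∀ x : ι → F, (φ + ψ) ⬝ᵥ x = 0 := by
        intro x
        have hx : ψ ⬝ᵥ (x - ((ψ ⬝ᵥ x) / (ψ ⬝ᵥ v)) • v) = 0 := by
          rw [dotProduct_sub, dotProduct_smul, smul_eq_mul, div_mul_cancel₀ _ hψv0, sub_self]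
        have := hex _ hx
        rw [dotProduct_sub, dotProduct_smul, smul_eq_mul, sub_eq_zero] at this
        rw [add_dotProduct, this, hψv]
        field_simp
        ring
      have h0 : φ + ψ = 0 := by
        funext i
        have := hall (Pi.single i 1)
        rwa [dotProduct_single, mul_one] at this
      rw [h0, TM_zero_right]; exact InH_one H

theorem Cov_neg {H : Subgroup (SpecialLinearGroup ι F)} {φ : ι → F} (hφ : φ ∈ Cov H) :
    -φ ∈ Cov H := by
  have := Cov_smul hφ (-1)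
  rwa [neg_one_smul] at this

theorem Cov_sub {H : Subgroup (SpecialLinearGroup ι F)} {φ ψ : ι → F}
    (hφ : φ ∈ Cov H) (hψ : ψ ∈ Cov H) : φ - ψ ∈ Cov H := by
  rw [sub_eq_add_neg]; exact Cov_add hφ (Cov_neg hψ)

/-- If `Mod H φ` is the whole kernel of `φ`, then `φ ∈ Cov H`. -/
theorem mem_Cov_of_Mod {H : Subgroup (SpecialLinearGroup ι F)} {φ : ι → F}
    (h : ∀ v, φ ⬝ᵥ v = 0 → v ∈ Mod H φ) : φ ∈ Cov H :=
  fun v hv => (h v hv).2

/-- Generation criterion: all standard covectors lie in `Cov H`. -/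
theorem eq_top_of_Cov [Nontrivial ι] {H : Subgroup (SpecialLinearGroup ι F)}
    (h : ∀ j : ι, (Pi.single j 1 : ι → F) ∈ Cov H) : H = ⊤ := by
  rw [eq_top_iff]
  intro A _
  refine Cfsg.Agent.Helper2.SL_transvection_induction (fun A => A ∈ H) ?_
    (fun A B hA hB => H.mul_mem hA hB) A
  intro i j hij c
  obtain ⟨g, hg, hgc⟩ := h j (Pi.single i c) (by
    rw [dotProduct_single, Pi.single_apply, if_neg hij, zero_mul])
  have : g = SpecialLinearGroup.transvection hij c := by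
    apply Subtype.ext
    rw [hgc, SpecialLinearGroup.transvection_coe]
    unfold TM
    congr 1
    ext a b
    simp only [vecMulVec_apply, Pi.single_apply, Matrix.single_apply]
    by_cases ha : i = a <;> by_cases hb : j = b <;> simp [ha, hb, eq_comm]
  rw [← this]; exact hg

end Cfsg.Agent.Helper12.TVG
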