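import Mathlib
import Cfsg.Agent.Helper12.TVG

set_option autoImplicit false
set_option linter.unusedSectionVars false

/-! The standard regular unipotent element `1 + N` of `SL_n(F)`, `N = ∑ E_{i,i+1}`. -/

open Matrix

namespace Cfsg.Agent.Helper12.RUN

variable {F : Type*} [Field F] {n : ℕ}

/-- The nilpotent shift `N = ∑ E_{i,i+1}`. -/
def NM (n : ℕ) (F : Type*) [Field F] : Matrix (Fin n) (Fin n) F :=
  Matrix.of fun i j => if j.val = i.val + 1 then 1 else 0

theorem NM_apply (i j : Fin n) : NM n F i j = if j.val = i.val + 1 then 1 else 0 := rfl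

theorem NM_pow (k : ℕ) :
    (NM n F) ^ k = Matrix.of fun i j : Fin n => if j.val = i.val + k then (1 : F) else 0 := by
  induction k with
  | zero =>
    ext i j
    simp only [pow_zero, Matrix.one_apply, Matrix.of_apply, add_zero, Fin.ext_iff]
    by_cases h : i.val = j.val
    · rw [if_pos h, if_pos h.symm]
    · rw [if_neg h, if_neg (fun h' => h h'.symm)]
  | succ k ih =>
    rw [pow_succ, ih]
    ext i j
    simp only [Matrix.mul_apply, Matrix.of_apply, NM_apply]
    by_cases h : j.val = i.val + (k + 1)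
    · rw [if_pos h]
      have hl : i.val + k < n := by have := j.isLt; omega
      rw [Finset.sum_eq_single (⟨i.val + k, hl⟩ : Fin n)]
      · rw [if_pos rfl, if_pos (by show j.val = i.val + k + 1; omega), mul_one]
      · intro b _ hb
        have : ¬ (b.val = i.val + k) := fun h' => hb (Fin.ext h')
        rw [if_neg this, zero_mul]
      · intro h'; exact absurd (Finset.mem_univ _) h'
    · rw [if_neg h]
      apply Finset.sum_eq_zero
      intro b _
      by_cases h1 : b.val = i.val + k
      · have : ¬ (j.val = b.val + 1) := by omega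
        rw [if_neg this, mul_zero]
      · rw [if_neg h1, zero_mul]

theorem NM_pow_n : (NM n F) ^ n = 0 := by
  rw [NM_pow]
  ext i j
  simp only [Matrix.of_apply, Matrix.zero_apply]
  have := j.isLt
  rw [if_neg (by omega)]

theorem NM_isNilpotent : IsNilpotent (NM n F) := ⟨n, NM_pow_n⟩

theorem NM_pow_pred_ne_zero (hn : 1 ≤ n) : (NM n F) ^ (n - 1) ≠ 0 := by
  rw [NM_pow]
  intro h
  have := congrFun (congrFun h ⟨0, by omega⟩) ⟨n - 1, by omega⟩
  simp only [Matrix.of_apply, Matrix.zero_apply] at this
  rw [if_pos (by simp)] at this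
  exact one_ne_zero this

/-- The standard regular unipotent matrix. -/
def uM (n : ℕ) (F : Type*) [Field F] : Matrix (Fin n) (Fin n) F := 1 + NM n F

theorem uM_det : (uM n F).det = 1 := by
  have h : (uM n F).BlockTriangular id := by
    intro i j hij
    have hij' : j.val < i.val := hij
    unfold uM
    rw [Matrix.add_apply, Matrix.one_apply, NM_apply, if_neg (by
      intro h; rw [h] at hij'; exact lt_irrefl _ hij'), if_neg (by omega), add_zero]
  rw [Matrix.det_of_isUpperTriangular h]
  apply Finset.prod_eq_one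
  intro i _
  unfold uM
  rw [Matrix.add_apply, Matrix.one_apply_eq, NM_apply, if_neg (by omega), add_zero]

/-- The standard regular unipotent element of `SL_n(F)`. -/
def uS (n : ℕ) (F : Type*) [Field F] : SpecialLinearGroup (Fin n) F := ⟨uM n F, uM_det⟩

theorem uS_coe : ((uS n F : SpecialLinearGroup (Fin n) F) : Matrix (Fin n) (Fin n) F) = uM n F := rfl

theorem uS_sub_one : ((uS n F : SpecialLinearGroup (Fin n) F) : Matrix (Fin n) (Fin n) F) - 1
    = NM n F := by
  rw [uS_coe]; unfold uM; rw [add_sub_cancel_left]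

theorem uS_regular (hn : 1 ≤ n) :
    IsNilpotent (((uS n F : SpecialLinearGroup (Fin n) F) : Matrix (Fin n) (Fin n) F) - 1) ∧
    (((uS n F : SpecialLinearGroup (Fin n) F) : Matrix (Fin n) (Fin n) F) - 1) ^ (n - 1) ≠ 0 := by
  rw [uS_sub_one]
  exact ⟨NM_isNilpotent, NM_pow_pred_ne_zero hn⟩

/-! ### Action on basis vectors -/

theorem NM_mulVec_single_succ (k : Fin n) (h : k.val + 1 < n) (a : F) :
    NM n F *ᵥ Pi.single (⟨k.val + 1, h⟩ : Fin n) a = Pi.single k a := by
  rw [mulVec_single]
  funext i
  simp only [Pi.smul_apply, Matrix.col_apply, NM_apply, MulOpposite.smul_eq_mul_unop,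
    MulOpposite.unop_op, Pi.single_apply]
  by_cases hik : i = k
  · subst hik; rw [if_pos rfl, if_pos rfl, one_mul]
  · rw [if_neg hik, if_neg (by
      intro h'; apply hik; apply Fin.ext; omega), zero_mul]

theorem NM_mulVec_single_zero (k : Fin n) (hk : k.val = 0) (a : F) :
    NM n F *ᵥ Pi.single k a = 0 := by
  rw [mulVec_single]
  funext i
  simp only [Pi.smul_apply, Matrix.col_apply, NM_apply, MulOpposite.smul_eq_mul_unop,
    MulOpposite.unop_op, Pi.zero_apply]
  rw [if_neg (by omega), zero_mul]

theorem single_vecMul_NM_succ (k : Fin n) (h : k.val + 1 < n) (a : F) :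
    Pi.single k a ᵥ* NM n F = Pi.single (⟨k.val + 1, h⟩ : Fin n) a := by
  rw [single_vecMul]
  funext j
  simp only [Pi.smul_apply, Matrix.row_apply, NM_apply, smul_eq_mul, Pi.single_apply]
  by_cases hj : j = ⟨k.val + 1, h⟩
  · subst hj; rw [if_pos rfl, if_pos rfl, mul_one]
  · rw [if_neg hj, if_neg (by
      intro h'; apply hj; apply Fin.ext; simp only; omega), mul_zero]

theorem single_vecMul_NM_last (k : Fin n) (hk : k.val + 1 = n) (a : F) :
    Pi.single k a ᵥ* NM n F = 0 := by
  rw [single_vecMul]
  funext j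
  simp only [Pi.smul_apply, Matrix.row_apply, NM_apply, smul_eq_mul, Pi.zero_apply]
  have := j.isLt
  rw [if_neg (by omega), mul_zero]

theorem uM_mulVec (v : Fin n → F) : uM n F *ᵥ v = v + NM n F *ᵥ v := by
  unfold uM; rw [add_mulVec, one_mulVec]

theorem vecMul_uM (φ : Fin n → F) : φ ᵥ* uM n F = φ + φ ᵥ* NM n F := by
  unfold uM; rw [vecMul_add, vecMul_one]

end Cfsg.Agent.Helper12.RUN
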