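import Mathlib
import Cfsg.Agent.Helper12.TVG
import Cfsg.Agent.Helper12.RUNA

set_option autoImplicit false
set_option linter.unusedSectionVars false

/-! `SL_n(F)`, `n ≥ 4`, is generated by three conjugates of the standard regular unipotent
element `u = 1 + N`: `u`, `g₂ u g₂⁻¹ = (1 + c E_{1n}) u` and `P u P⁻¹` for a suitable
permutation matrix `P` (a 3-cycle). -/

open Matrix

namespace Cfsg.Agent.Helper12.RUN

open Cfsg.Agent.Helper12.TVG

variable {F : Type*} [Field F] {m : ℕ}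

/-- Index `1` (1-based). -/
def i0 (m : ℕ) : Fin (m + 4) := ⟨0, by omega⟩
/-- Index `2` (1-based). -/
def i1 (m : ℕ) : Fin (m + 4) := ⟨1, by omega⟩
/-- Index `n - 2` (1-based). -/
def iA (m : ℕ) : Fin (m + 4) := ⟨m + 1, by omega⟩
/-- Index `n - 1` (1-based). -/
def iB (m : ℕ) : Fin (m + 4) := ⟨m + 2, by omega⟩
/-- Index `n` (1-based). -/
def iL (m : ℕ) : Fin (m + 4) := ⟨m + 3, by omega⟩

theorem i0_ne_iA : i0 m ≠ iA m := by intro h; have := congrArg Fin.val h; simp [i0, iA] at this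
theorem i0_ne_iB : i0 m ≠ iB m := by intro h; have := congrArg Fin.val h; simp [i0, iB] at this
theorem i0_ne_iL : i0 m ≠ iL m := by intro h; have := congrArg Fin.val h; simp [i0, iL] at this
theorem i1_ne_iL : i1 m ≠ iL m := by intro h; have := congrArg Fin.val h; simp [i1, iL] at this
theorem iA_ne_iB : iA m ≠ iB m := by intro h; have := congrArg Fin.val h; simp [iA, iB] at this
theorem iA_ne_iL : iA m ≠ iL m := by intro h; have := congrArg Fin.val h; simp [iA, iL] at this
theorem iB_ne_iL : iB m ≠ iL m := by intro h; have := congrArg Fin.val h; simp [iB, iL] at this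

/-- The 3-cycle `1 ↦ n ↦ n-2 ↦ 1`. -/
def sig (m : ℕ) : Equiv.Perm (Fin (m + 4)) := Equiv.swap (i0 m) (iA m) * Equiv.swap (i0 m) (iL m)

theorem sig_i0 : sig m (i0 m) = iL m := by
  unfold sig
  rw [Equiv.Perm.mul_apply, Equiv.swap_apply_left,
    Equiv.swap_apply_of_ne_of_ne i0_ne_iL.symm iA_ne_iL.symm]

theorem sig_iL : sig m (iL m) = iA m := by
  unfold sig
  rw [Equiv.Perm.mul_apply, Equiv.swap_apply_right, Equiv.swap_apply_left]

theorem sig_iA : sig m (iA m) = i0 m := by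
  unfold sig
  rw [Equiv.Perm.mul_apply, Equiv.swap_apply_of_ne_of_ne i0_ne_iA.symm iA_ne_iL,
    Equiv.swap_apply_right]

theorem sig_iB : sig m (iB m) = iB m := by
  unfold sig
  rw [Equiv.Perm.mul_apply, Equiv.swap_apply_of_ne_of_ne i0_ne_iB.symm iB_ne_iL,
    Equiv.swap_apply_of_ne_of_ne i0_ne_iB.symm iA_ne_iB.symm]

theorem sig_sign : Equiv.Perm.sign (sig m) = 1 := by
  unfold sig
  rw [Equiv.Perm.sign_mul, Equiv.Perm.sign_swap i0_ne_iA, Equiv.Perm.sign_swap i0_ne_iL]
  rfl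

/-- The permutation matrix of `sig`, in `SL_n(F)`. -/
def PS (m : ℕ) (F : Type*) [Field F] : SpecialLinearGroup (Fin (m + 4)) F :=
  ⟨(sig m).permMatrix F, by rw [det_permutation, sig_sign]; simp⟩

theorem PS_coe : ((PS m F : SpecialLinearGroup (Fin (m + 4)) F) : Matrix _ _ F)
    = (sig m).permMatrix F := rfl

theorem PS_mulVec_single (j k : Fin (m + 4)) (h : sig m k = j) (a : F) :
    ((PS m F : SpecialLinearGroup (Fin (m + 4)) F) : Matrix _ _ F) *ᵥ Pi.single j a
      = Pi.single k a := by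
  rw [PS_coe, permMatrix_mulVec, single_comp_perm, ← h, Equiv.symm_apply_apply]

theorem single_vecMul_PS (j k : Fin (m + 4)) (h : sig m k = j) (a : F) :
    Pi.single k a ᵥ* ((PS m F : SpecialLinearGroup (Fin (m + 4)) F) : Matrix _ _ F)
      = Pi.single j a := by
  rw [PS_coe, vecMul_permMatrix, single_comp_perm, Equiv.symm_symm, h]

/-- The third generator `z = P u P⁻¹`. -/
def zS (m : ℕ) (F : Type*) [Field F] : SpecialLinearGroup (Fin (m + 4)) F :=
  PS m F * uS (m + 4) F * (PS m F)⁻¹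

theorem iL_eq : iL m = ⟨(iB m).val + 1, by simp [iB]⟩ := by
  apply Fin.ext; simp [iL, iB]

theorem iB_eq : iB m = ⟨(iA m).val + 1, by simp [iA]⟩ := by
  apply Fin.ext; simp [iB, iA]

theorem i1_eq : i1 m = ⟨(i0 m).val + 1, by simp [i0]⟩ := by
  apply Fin.ext; simp [i1, i0]

theorem uM_mulVec_iL (a : F) :
    uM (m + 4) F *ᵥ Pi.single (iL m) a = Pi.single (iL m) a + Pi.single (iB m) a := by
  rw [uM_mulVec]
  congr 1
  rw [iL_eq]
  exact NM_mulVec_single_succ (iB m) _ a

theorem vecMul_uM_iL (a : F) :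
    Pi.single (iL m) a ᵥ* uM (m + 4) F = Pi.single (iL m) a := by
  rw [vecMul_uM, single_vecMul_NM_last _ (by simp [iL]), add_zero]

theorem vecMul_uM_iA (a : F) :
    Pi.single (iA m) a ᵥ* uM (m + 4) F = Pi.single (iA m) a + Pi.single (iB m) a := by
  rw [vecMul_uM, single_vecMul_NM_succ (iA m) (by simp [iA]), ← iB_eq]

theorem vecMul_uM_iB (a : F) :
    Pi.single (iB m) a ᵥ* uM (m + 4) F = Pi.single (iB m) a + Pi.single (iL m) a := by
  rw [vecMul_uM, single_vecMul_NM_succ (iB m) (by simp [iB]), ← iL_eq]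

theorem NM_mulVec_iB (a : F) : NM (m + 4) F *ᵥ Pi.single (iB m) a = Pi.single (iA m) a := by
  rw [iB_eq]
  exact NM_mulVec_single_succ (iA m) _ a

theorem NM_mulVec_i0 (a : F) : NM (m + 4) F *ᵥ Pi.single (i0 m) a = 0 :=
  NM_mulVec_single_zero (i0 m) rfl a

/-! ### The action of `z` -/

theorem zS_mulVec_i0 (b : F) :
    ((zS m F : SpecialLinearGroup (Fin (m + 4)) F) : Matrix _ _ F) *ᵥ Pi.single (i0 m) b
      = Pi.single (i0 m) b + Pi.single (iB m) b := by
  unfold zS
  refine conj_mulVec _ _ _ (Pi.single (iL m) b) (Pi.single (iL m) b + Pi.single (iB m) b) _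
    (PS_mulVec_single _ _ sig_i0 b) (by rw [uS_coe]; exact uM_mulVec_iL b) ?_
  rw [mulVec_add, PS_mulVec_single _ _ sig_i0 b, PS_mulVec_single _ _ sig_iB b]

theorem vecMul_zS_iL :
    Pi.single (iL m) (1 : F) ᵥ* ((zS m F : SpecialLinearGroup (Fin (m + 4)) F) : Matrix _ _ F)
      = Pi.single (iL m) 1 + Pi.single (iB m) 1 := by
  unfold zS
  refine conj_vecMul _ _ _ (Pi.single (iA m) 1) (Pi.single (iA m) 1 + Pi.single (iB m) 1) _
    (single_vecMul_PS _ _ sig_iL 1) (by rw [uS_coe]; exact vecMul_uM_iA 1) ?_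
  rw [add_vecMul, single_vecMul_PS _ _ sig_iL 1, single_vecMul_PS _ _ sig_iB 1]

theorem vecMul_zS_iB :
    Pi.single (iB m) (1 : F) ᵥ* ((zS m F : SpecialLinearGroup (Fin (m + 4)) F) : Matrix _ _ F)
      = Pi.single (iB m) 1 + Pi.single (i0 m) 1 := by
  unfold zS
  refine conj_vecMul _ _ _ (Pi.single (iB m) 1) (Pi.single (iB m) 1 + Pi.single (iL m) 1) _
    (single_vecMul_PS _ _ sig_iB 1) (by rw [uS_coe]; exact vecMul_uM_iB 1) ?_
  rw [add_vecMul, single_vecMul_PS _ _ sig_iB 1, single_vecMul_PS _ _ sig_i0 1]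

theorem vecMul_zS_i0 :
    Pi.single (i0 m) (1 : F) ᵥ* ((zS m F : SpecialLinearGroup (Fin (m + 4)) F) : Matrix _ _ F)
      = Pi.single (i0 m) 1 := by
  unfold zS
  exact conj_vecMul _ _ _ (Pi.single (iL m) 1) (Pi.single (iL m) 1) _
    (single_vecMul_PS _ _ sig_i0 1) (by rw [uS_coe]; exact vecMul_uM_iL 1)
    (single_vecMul_PS _ _ sig_i0 1)

/-- The covector `ψ = e_n - e_{n-1} + e_1` with `ψ z = e_n`. -/
def psi (m : ℕ) (F : Type*) [Field F] : Fin (m + 4) → F :=
  Pi.single (iL m) 1 - Pi.single (iB m) 1 + Pi.single (i0 m) 1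

theorem psi_vecMul_zS :
    psi m F ᵥ* ((zS m F : SpecialLinearGroup (Fin (m + 4)) F) : Matrix _ _ F)
      = Pi.single (iL m) 1 := by
  unfold psi
  rw [add_vecMul, sub_vecMul, vecMul_zS_iL, vecMul_zS_iB, vecMul_zS_i0]
  abel

theorem psi_dot_i0 (a : F) : psi m F ⬝ᵥ Pi.single (i0 m) a = a := by
  unfold psi
  rw [dotProduct_single, Pi.add_apply, Pi.sub_apply, Pi.single_apply, Pi.single_apply,
    Pi.single_apply, if_neg i0_ne_iL, if_neg i0_ne_iB, if_pos rfl, sub_zero, zero_add, one_mul]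

/-! ### The second generator -/

theorem phi_dot_single (k : Fin (m + 4)) (hk : k ≠ iL m) (a : F) :
    (Pi.single (iL m) (1 : F) : Fin (m + 4) → F) ⬝ᵥ Pi.single k a = 0 := by
  rw [dotProduct_single, Pi.single_apply, if_neg hk, zero_mul]

/-- `g₂ = 1 - c E_{2n}`. -/
def g2 (m : ℕ) (c : F) : SpecialLinearGroup (Fin (m + 4)) F :=
  TS (Pi.single (i1 m) (-c)) (Pi.single (iL m) 1) (phi_dot_single _ i1_ne_iL _)

theorem g2_conj (c : F) :
    ((g2 m c * uS (m + 4) F * (g2 m c)⁻¹ : SpecialLinearGroup (Fin (m + 4)) F) : Matrix _ _ F)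
      = TM (Pi.single (i0 m) c) (Pi.single (iL m) 1) * uM (m + 4) F := by
  show ((g2 m c : SpecialLinearGroup (Fin (m + 4)) F) : Matrix _ _ F) * uM (m + 4) F *
    (((g2 m c)⁻¹ : SpecialLinearGroup (Fin (m + 4)) F) : Matrix _ _ F) = _
  unfold g2
  rw [TS_inv_coe, TS_coe, Matrix.mul_assoc, mul_TM_of_fix _ _ _ (vecMul_uM_iL 1), ← Matrix.mul_assoc,
    TM_mul_TM]
  · congr 2
    have e : -(Pi.single (i1 m) (-c) : Fin (m + 4) → F) = Pi.single (i1 m) c := by
      rw [Pi.single_neg, neg_neg]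
    rw [e, uM_mulVec]
    have e2 : NM (m + 4) F *ᵥ Pi.single (i1 m) c = Pi.single (i0 m) c := by
      rw [i1_eq]; exact NM_mulVec_single_succ (i0 m) _ c
    rw [e2, Pi.single_neg]
    abel
  · rw [dotProduct_mulVec, vecMul_uM_iL, dotProduct_neg, phi_dot_single _ i1_ne_iL, neg_zero]

/-! ### The generation argument -/

section main

variable (m) (c : F)

/-- The subgroup generated by the three conjugates. -/
def Hc : Subgroup (SpecialLinearGroup (Fin (m + 4)) F) :=
  Subgroup.closure {uS (m + 4) F, g2 m c * uS (m + 4) F * (g2 m c)⁻¹,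
    PS m F * uS (m + 4) F * (PS m F)⁻¹}

theorem uS_mem_Hc : uS (m + 4) F ∈ Hc m c :=
  Subgroup.subset_closure (by simp)

theorem zS_mem_Hc : zS m F ∈ Hc m c :=
  Subgroup.subset_closure (by simp [zS])

theorem g2conj_mem_Hc : g2 m c * uS (m + 4) F * (g2 m c)⁻¹ ∈ Hc m c :=
  Subgroup.subset_closure (by simp)

/-- `M`: the vectors `v` with `v_n = 0` and `1 + v e_nᵀ ∈ H`. -/
abbrev MH : AddSubgroup (Fin (m + 4) → F) := Mod (Hc m c) (Pi.single (iL m) 1)

theorem seed_mem : Pi.single (i0 m) c ∈ MH m c := by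
  refine ⟨phi_dot_single _ i0_ne_iL _, ?_⟩
  refine InH_of_mul_coe (uS_mem_Hc m c) ?_
  rw [uS_coe, ← g2_conj]
  exact InH_coe (g2conj_mem_Hc m c)

theorem MH_u {v : Fin (m + 4) → F} (hv : v ∈ MH m c) : uM (m + 4) F *ᵥ v ∈ MH m c :=
  Mod_act (uS_mem_Hc m c) (by rw [uS_coe]; exact vecMul_uM_iL 1) hv

theorem MH_N {v : Fin (m + 4) → F} (hv : v ∈ MH m c) : NM (m + 4) F *ᵥ v ∈ MH m c := by
  have h := (MH m c).sub_mem (MH_u m c hv) hv
  rwa [uM_mulVec, add_sub_cancel_left] at h

theorem MH_descent (s : F) : ∀ (d j : ℕ) (h : j + d < m + 4),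
    Pi.single (⟨j + d, h⟩ : Fin (m + 4)) s ∈ MH m c →
    Pi.single (⟨j, by omega⟩ : Fin (m + 4)) s ∈ MH m c := by
  intro d
  induction d with
  | zero => intro j h hv; exact hv
  | succ d ih =>
    intro j h hv
    apply ih j (by omega)
    have := MH_N m c hv
    have e : (⟨j + (d + 1), h⟩ : Fin (m + 4)) =
        ⟨(⟨j + d, by omega⟩ : Fin (m + 4)).val + 1, by simp; omega⟩ := by
      apply Fin.ext; simp; omega
    rw [e, NM_mulVec_single_succ] at this
    exact this

/-- The key step using `z`. -/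
theorem MH_star {a b : F} (ha : Pi.single (i0 m) a ∈ MH m c) (hb : Pi.single (i0 m) b ∈ MH m c) :
    Pi.single (i0 m) (a * b) + Pi.single (iB m) (a * b) ∈ MH m c := by
  have h1 := Mod_conj (zS_mem_Hc m c) psi_vecMul_zS hb
  rw [zS_mulVec_i0] at h1
  have h2 := Mod_transvect h1 (by
    rw [dotProduct_add, phi_dot_single _ i0_ne_iL, phi_dot_single _ iB_ne_iL, add_zero]) ha
  rw [psi_dot_i0] at h2
  have e : a • ((Pi.single (i0 m) b : Fin (m + 4) → F) + Pi.single (iB m) b) =
      Pi.single (i0 m) (a * b) + Pi.single (iB m) (a * b) := by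
    rw [smul_add, ← Pi.single_smul, ← Pi.single_smul, smul_eq_mul]
  rwa [e] at h2

theorem MH_split {s : F} (h : Pi.single (i0 m) s + Pi.single (iB m) s ∈ MH m c) :
    Pi.single (i0 m) s ∈ MH m c ∧ Pi.single (iB m) s ∈ MH m c := by
  have h1 := MH_N m c h
  rw [mulVec_add, NM_mulVec_i0, zero_add, NM_mulVec_iB] at h1
  have h2 : Pi.single (i0 m) s ∈ MH m c := by
    have := MH_descent m c s (m + 1) 0 (by omega) (by
      have e : (⟨0 + (m + 1), by omega⟩ : Fin (m + 4)) = iA m := by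
        apply Fin.ext; simp [iA]
      rw [e]; exact h1)
    exact this
  refine ⟨h2, ?_⟩
  have := (MH m c).sub_mem h h2
  rwa [add_sub_cancel_left] at this

/-- The scalars `a` with `a e₁ ∈ M`. -/
def AH : AddSubgroup F where
  carrier := {a | Pi.single (i0 m) a ∈ MH m c}
  zero_mem' := by
    show Pi.single (i0 m) (0 : F) ∈ MH m c
    rw [Pi.single_zero]; exact (MH m c).zero_mem
  add_mem' := by
    intro a b ha hb
    show Pi.single (i0 m) (a + b) ∈ MH m c
    rw [Pi.single_add]; exact (MH m c).add_mem ha hb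
  neg_mem' := by
    intro a ha
    show Pi.single (i0 m) (-a) ∈ MH m c
    rw [Pi.single_neg]; exact (MH m c).neg_mem ha

theorem AH_mul {a b : F} (ha : a ∈ AH m c) (hb : b ∈ AH m c) : a * b ∈ AH m c :=
  (MH_split m c (MH_star m c ha hb)).1

theorem AH_c : c ∈ AH m c := seed_mem m c

theorem AH_pow (k : ℕ) : c ^ (k + 1) ∈ AH m c := by
  induction k with
  | zero => rw [zero_add, pow_one]; exact AH_c m c
  | succ k ih => rw [pow_succ]; exact AH_mul m c ih (AH_c m c)

theorem AH_one [Fintype F] (hc0 : c ≠ 0) : (1 : F) ∈ AH m c := by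
  have h1 : 1 < Fintype.card F := Fintype.one_lt_card
  have := AH_pow m c (Fintype.card F - 2)
  have e : Fintype.card F - 2 + 1 = Fintype.card F - 1 := by omega
  rw [e, FiniteField.pow_card_sub_one_eq_one c hc0] at this
  exact this

theorem AH_top [Fintype F] (hc0 : c ≠ 0) (hc : Subring.closure {c} = ⊤) (s : F) :
    s ∈ AH m c := by
  let S : Subring F :=
    { carrier := {a | a ∈ AH m c}
      mul_mem' := fun ha hb => AH_mul m c ha hb
      one_mem' := AH_one m c hc0
      add_mem' := fun ha hb => (AH m c).add_mem ha hb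
      zero_mem' := (AH m c).zero_mem
      neg_mem' := fun ha => (AH m c).neg_mem ha }
  have h : Subring.closure {c} ≤ S := by
    rw [Subring.closure_le]
    intro x hx
    rw [Set.mem_singleton_iff] at hx
    rw [hx]
    exact AH_c m c
  rw [hc] at h
  exact h (Subring.mem_top s)

theorem MH_single [Fintype F] (hc0 : c ≠ 0) (hc : Subring.closure {c} = ⊤)
    (k : Fin (m + 4)) (hk : k ≠ iL m) (s : F) : Pi.single k s ∈ MH m c := by
  have h1 := MH_star m c (AH_top m c hc0 hc s) (AH_one m c hc0)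
  rw [mul_one] at h1
  have h2 := (MH_split m c h1).2
  have hkv : k.val ≤ m + 2 := by
    have := k.isLt
    have : k.val ≠ m + 3 := fun h => hk (Fin.ext (by simp [iL, h]))
    omega
  have := MH_descent m c s (m + 2 - k.val) k.val (by omega) (by
    have e : (⟨k.val + (m + 2 - k.val), by omega⟩ : Fin (m + 4)) = iB m := by
      apply Fin.ext; simp [iB]; omega
    rw [e]; exact h2)
  exact this

theorem MH_all [Fintype F] (hc0 : c ≠ 0) (hc : Subring.closure {c} = ⊤)
    (v : Fin (m + 4) → F) (hv : (Pi.single (iL m) (1 : F) : Fin (m + 4) → F) ⬝ᵥ v = 0) :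
    v ∈ MH m c := by
  rw [single_dotProduct, one_mul] at hv
  rw [← Finset.univ_sum_single v]
  apply AddSubgroup.sum_mem
  intro k _
  by_cases hk : k = iL m
  · rw [hk, hv, Pi.single_zero]; exact (MH m c).zero_mem
  · exact MH_single m c hc0 hc k hk _

theorem cov_all [Fintype F] (hc0 : c ≠ 0) (hc : Subring.closure {c} = ⊤) :
    ∀ j : Fin (m + 4), (Pi.single j 1 : Fin (m + 4) → F) ∈ Cov (Hc m c) := by
  have hL : (Pi.single (iL m) 1 : Fin (m + 4) → F) ∈ Cov (Hc m c) :=
    mem_Cov_of_Mod (MH_all m c hc0 hc)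
  have hB : (Pi.single (iB m) 1 : Fin (m + 4) → F) ∈ Cov (Hc m c) := by
    have := Cov_sub (Cov_act (zS_mem_Hc m c) hL) hL
    rwa [vecMul_zS_iL, add_sub_cancel_left] at this
  have h0 : (Pi.single (i0 m) 1 : Fin (m + 4) → F) ∈ Cov (Hc m c) := by
    have := Cov_sub (Cov_act (zS_mem_Hc m c) hB) hB
    rwa [vecMul_zS_iB, add_sub_cancel_left] at this
  have hind : ∀ (k : ℕ) (h : k < m + 4),
      (Pi.single (⟨k, h⟩ : Fin (m + 4)) 1 : Fin (m + 4) → F) ∈ Cov (Hc m c) := by
    intro k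
    induction k with
    | zero => intro h; exact h0
    | succ k ih =>
      intro h
      have hk := ih (by omega)
      have := Cov_sub (Cov_act (uS_mem_Hc m c) hk) hk
      rw [uS_coe, vecMul_uM, add_sub_cancel_left,
        single_vecMul_NM_succ (⟨k, by omega⟩ : Fin (m + 4)) h] at this
      exact this
  intro j
  exact hind j.val j.isLt

theorem Hc_eq_top [Fintype F] (hc0 : c ≠ 0) (hc : Subring.closure {c} = ⊤) : Hc m c = ⊤ :=
  eq_top_of_Cov (cov_all m c hc0 hc)

end main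

/-- Existence of a ring generator of a finite field. -/
theorem exists_ring_gen (F : Type*) [Field F] [Fintype F] :
    ∃ c : F, c ≠ 0 ∧ Subring.closure {c} = ⊤ := by
  obtain ⟨δ, hδ⟩ := IsCyclic.exists_generator (α := Fˣ)
  refine ⟨(δ : F), δ.ne_zero, ?_⟩
  rw [eq_top_iff]
  intro x _
  by_cases hx : x = 0
  · subst hx; exact Subring.zero_mem _
  · have h1 : Units.mk0 x hx ∈ Submonoid.powers δ :=
      mem_powers_iff_mem_zpowers.2 (hδ (Units.mk0 x hx))
    obtain ⟨k, hk⟩ := (Submonoid.mem_powers_iff _ _).1 h1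
    have : x = (δ : F) ^ k := by
      have := congrArg (fun u : Fˣ => (u : F)) hk
      simp only [Units.val_pow_eq_pow_val, Units.val_mk0] at this
      exact this.symm
    rw [this]
    exact pow_mem (Subring.subset_closure (Set.mem_singleton _)) k

end Cfsg.Agent.Helper12.RUN
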