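import Cfsg.Agent.Helper12.SpTwoB

set_option autoImplicit false
set_option linter.unusedSimpArgs false
set_option linter.unusedSectionVars false

/-!
# Heisenberg elements of the symplectic group

For an isotropic vector `e` and `v ⊥ e`, `qq e v a` is the element
`x ↦ x + ω(e,x) v + ω(v,x) e + a ω(e,x) e` of the unipotent radical of the stabiliser of the
line `⟨e⟩`.
-/

namespace Cfsg.Agent.Helper12.RUSp

open Matrix Cfsg.Agent.Helper2.Sp Cfsg.Agent.Helper12.SpTwo

variable {l : Type*} [DecidableEq l] [Fintype l] {F : Type*} [Field F]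

theorem om_neg_right (x y : l ⊕ l → F) : om x (-y) = - om x y := by
  rw [om_swap (-y) x, om_neg_left, om_swap x y]
  ring

theorem om_zero_right (x : l ⊕ l → F) : om x (0 : l ⊕ l → F) = 0 := by
  have := om_smul_right (0 : F) x (0 : l ⊕ l → F)
  rw [zero_smul, zero_mul] at this
  exact this

theorem om_zero_left (x : l ⊕ l → F) : om (0 : l ⊕ l → F) x = 0 := by
  rw [om_swap x 0, om_zero_right, neg_zero]

theorem om_symm_zero {x y : l ⊕ l → F} (h : om x y = 0) : om y x = 0 := by
  rw [om_swap x y, h, neg_zero]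

theorem act_Rg {a b : l ⊕ l → F} (hab : om a b = 0) (c : F) (x : l ⊕ l → F) :
    act (Rg c a b) x = x + c • (om a x • b + om b x • a) := Rg_mulVec hab c x

theorem ext_act {g h : symplecticGroup l F} (H : ∀ x : l ⊕ l → F, act g x = act h x) : g = h :=
  ext_mulVec H

/-- The Heisenberg element. -/
def qq (e v : l ⊕ l → F) (a : F) : symplecticGroup l F := Rg 1 e v * Tg e a

theorem act_qq {e v : l ⊕ l → F} (hv : om e v = 0) (a : F) (x : l ⊕ l → F) :
    act (qq e v a) x = x + om e x • v + (om v x + a * om e x) • e := by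
  have hve : om v e = 0 := om_symm_zero hv
  unfold qq
  rw [act_mul, act_Tg, act_Rg hv]
  simp only [om_add_right, om_smul_right, om_self, hve, mul_zero, add_zero]
  funext k
  simp only [Pi.add_apply, Pi.smul_apply, smul_eq_mul]
  ring

theorem qq_mul {e v v' : l ⊕ l → F} (hv : om e v = 0) (hv' : om e v' = 0) (a a' : F) :
    qq e v a * qq e v' a' = qq e (v + v') (a + a' + om v v') := by
  have hve : om v e = 0 := om_symm_zero hv
  have hve' : om v' e = 0 := om_symm_zero hv'
  have h2 : om e (v + v') = 0 := by rw [om_add_right, hv, hv', add_zero]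
  apply ext_act
  intro x
  rw [act_mul, act_qq hv, act_qq hv', act_qq h2]
  simp only [om_add_right, om_add_left, om_smul_right, om_self, hv, hv', hve, hve', mul_zero,
    add_zero, zero_add]
  funext k
  simp only [Pi.add_apply, Pi.smul_apply, smul_eq_mul]
  ring

theorem qq_zero (e : l ⊕ l → F) (a : F) : qq e 0 a = Tg e a := by
  apply ext_act
  intro x
  rw [act_qq (om_zero_right e), act_Tg, om_zero_left]
  funext k
  simp only [Pi.add_apply, Pi.smul_apply, smul_eq_mul, Pi.zero_apply]
  ring

theorem qq_zero_zero (e : l ⊕ l → F) : qq e 0 0 = 1 := by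
  rw [qq_zero, Tg_zero]

theorem qq_inv {e v : l ⊕ l → F} (hv : om e v = 0) (a : F) :
    (qq e v a)⁻¹ = qq e (-v) (-a) := by
  have h2 : om e (-v) = 0 := by rw [om_neg_right, hv, neg_zero]
  apply inv_eq_of_mul_eq_one_right
  rw [qq_mul hv h2, om_neg_right, om_self]
  have : v + -v = 0 := by abel
  rw [this]
  have : a + -a + -0 = (0 : F) := by ring
  rw [this, qq_zero_zero]

theorem conj_qq (g : symplecticGroup l F) {e v : l ⊕ l → F} (hv : om e v = 0) (a : F) :
    g * qq e v a * g⁻¹ = qq (act g e) (act g v) a := by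
  have h2 : om (act g e) (act g v) = 0 := by rw [om_act, hv]
  rw [mul_inv_eq_iff_eq_mul]
  apply ext_act
  intro x
  rw [act_mul, act_mul, act_qq hv, act_qq h2, om_act, om_act]
  simp only [act_add, act_smul]

theorem qq_add_smul {e v : l ⊕ l → F} (hv : om e v = 0) (β a : F) :
    qq e (v + β • e) a = qq e v (a + 2 * β) := by
  have h2 : om e (v + β • e) = 0 := by rw [om_add_right, hv, om_smul_right, om_self]; ring
  apply ext_act
  intro x
  rw [act_qq hv, act_qq h2]
  simp only [om_add_left, om_smul_left]
  funext k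
  simp only [Pi.add_apply, Pi.smul_apply, smul_eq_mul]
  ring

theorem Rg_eq_qq {e v : l ⊕ l → F} (hv : om e v = 0) (c : F) : Rg c e v = qq e (c • v) 0 := by
  have h2 : om e (c • v) = 0 := by rw [om_smul_right, hv, mul_zero]
  apply ext_act
  intro x
  rw [act_Rg hv, act_qq h2]
  simp only [om_smul_left]
  funext k
  simp only [Pi.add_apply, Pi.smul_apply, smul_eq_mul]
  ring

theorem Rg_eq_qq' {e v : l ⊕ l → F} (hv : om e v = 0) (c : F) : Rg c v e = qq e (c • v) 0 := by
  have h2 : om e (c • v) = 0 := by rw [om_smul_right, hv, mul_zero]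
  apply ext_act
  intro x
  rw [act_Rg (om_symm_zero hv), act_qq h2]
  simp only [om_smul_left]
  funext k
  simp only [Pi.add_apply, Pi.smul_apply, smul_eq_mul]
  ring

/-- Splitting a transvection along an orthogonal decomposition of its centre. -/
theorem Tg_add_vec (x y : l ⊕ l → F) (a : F) : Tg (x + y) a = Tg y a * Tg x a * Rg a x y := by
  unfold Rg
  group

/-- The action of `qq e v a` on a vector orthogonal to `e`. -/
theorem act_qq_orth {e v x : l ⊕ l → F} (hv : om e v = 0) (hx : om e x = 0) (a : F) :
    act (qq e v a) x = x + om v x • e := by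
  rw [act_qq hv, hx]
  simp

theorem act_qq_self {e v : l ⊕ l → F} (hv : om e v = 0) (a : F) : act (qq e v a) e = e := by
  rw [act_qq_orth hv (om_self e), om_symm_zero hv]
  simp

end Cfsg.Agent.Helper12.RUSp
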