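import Cfsg.Agent.Helper12.RUSpB

set_option autoImplicit false
set_option linter.unusedSimpArgs false
set_option linter.unusedSectionVars false

/-!
# Algebraic lemmas on additive subgroups of a finite field, coordinates, and the finishing lemma
-/

namespace Cfsg.Agent.Helper12.RUSp

open Matrix Cfsg.Agent.Helper2.Sp Cfsg.Agent.Helper12.SpTwo

section Alg

variable {F : Type*} [Field F]

/-- An additive subgroup closed under multiplication and containing a ring generator is everything. -/
theorem mul_closed_top [Fintype F] (R : AddSubgroup F)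
    (hmul : ∀ s s', s ∈ R → s' ∈ R → s * s' ∈ R) {c : F} (hc : c ∈ R) (hc0 : c ≠ 0)
    (hgen : Subring.closure {c} = ⊤) : ∀ x, x ∈ R := by
  have hpow : ∀ k : ℕ, c ^ (k + 1) ∈ R := by
    intro k
    induction k with
    | zero => simpa using hc
    | succ k ih => rw [pow_succ]; exact hmul _ _ ih hc
  have h1 : (1 : F) ∈ R := by
    have hq : 1 < Fintype.card F := Fintype.one_lt_card
    have := hpow (Fintype.card F - 2)
    rw [show Fintype.card F - 2 + 1 = Fintype.card F - 1 by omega,
      FiniteField.pow_card_sub_one_eq_one c hc0] at this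
    exact this
  let S : Subring F :=
    { carrier := R
      mul_mem' := fun {a b} ha hb => hmul a b ha hb
      one_mem' := h1
      add_mem' := fun {a b} ha hb => R.add_mem ha hb
      zero_mem' := R.zero_mem
      neg_mem' := fun {a} ha => R.neg_mem ha }
  have hS : Subring.closure {c} ≤ S := by
    rw [Subring.closure_le]
    intro y hy
    rw [Set.mem_singleton_iff] at hy
    rw [hy]
    exact hc
  intro x
  have : x ∈ Subring.closure {c} := by rw [hgen]; trivial
  exact hS this

/-- An additive subgroup stable under multiplication by a ring generator, and containing a nonzero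
element, is everything. -/
theorem stable_top (S : AddSubgroup F) {d : F} (hd : ∀ s, s ∈ S → d * s ∈ S)
    (hgen : Subring.closure {d} = ⊤) {t : F} (ht : t ∈ S) (ht0 : t ≠ 0) : ∀ x, x ∈ S := by
  let R : Subring F :=
    { carrier := {x | ∀ s, s ∈ S → x * s ∈ S}
      mul_mem' := by
        intro a b ha hb s hs
        rw [mul_assoc]
        exact ha _ (hb _ hs)
      one_mem' := by
        intro s hs
        rwa [one_mul]
      add_mem' := by
        intro a b ha hb s hs
        rw [add_mul]
        exact S.add_mem (ha _ hs) (hb _ hs)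
      zero_mem' := by
        intro s _
        rw [zero_mul]
        exact S.zero_mem
      neg_mem' := by
        intro a ha s hs
        rw [neg_mul]
        exact S.neg_mem (ha _ hs) }
  have hR : Subring.closure {d} ≤ R := by
    rw [Subring.closure_le]
    intro y hy
    rw [Set.mem_singleton_iff] at hy
    rw [hy]
    exact hd
  intro x
  have : x / t ∈ Subring.closure {d} := by rw [hgen]; trivial
  have := hR this t ht
  rwa [div_mul_cancel₀ _ ht0] at this

/-- An additive subgroup of a finite field containing all `t² a₀` is everything. -/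
theorem sq_top [Fintype F] (Z : AddSubgroup F) {a₀ : F} (ha₀ : a₀ ≠ 0)
    (h : ∀ t : F, t ^ 2 * a₀ ∈ Z) : ∀ x, x ∈ Z := by
  intro x
  by_cases h2 : (2 : F) = 0
  · haveI : CharP F 2 := CharTwo.of_one_ne_zero_of_two_eq_zero one_ne_zero h2
    obtain ⟨r, hr⟩ := FiniteField.isSquare_of_char_two (ringChar.eq F 2) (x / a₀)
    have := h r
    rw [pow_two, ← hr, div_mul_cancel₀ _ ha₀] at this
    exact this
  · have e : x = ((x / a₀ + 1) / 2) ^ 2 * a₀ - ((x / a₀ - 1) / 2) ^ 2 * a₀ := by
      field_simp
      ring
    rw [e]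
    exact Z.sub_mem (h _) (h _)

end Alg

section Coord

variable {l : Type*} [DecidableEq l] [Fintype l] {F : Type*} [Field F]

theorem om_eb_left (i : l) (x : l ⊕ l → F) : om (eb i) x = - x (Sum.inr i) := by
  rw [om_eq_sum, Finset.sum_eq_single i]
  · simp [eb]
  · intro j _ hj
    simp [eb, hj]
  · intro h; exact absurd (Finset.mem_univ _) h

theorem om_fb_left (i : l) (x : l ⊕ l → F) : om (fb i) x = x (Sum.inl i) := by
  rw [om_eq_sum, Finset.sum_eq_single i]
  · simp [fb]
  · intro j _ hj
    simp [fb, hj]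
  · intro h; exact absurd (Finset.mem_univ _) h

theorem om_eb_right (i : l) (x : l ⊕ l → F) : om x (eb i) = x (Sum.inr i) := by
  rw [om_swap (eb i) x, om_eb_left, neg_neg]

theorem om_fb_right (i : l) (x : l ⊕ l → F) : om x (fb i) = - x (Sum.inl i) := by
  rw [om_swap (fb i) x, om_fb_left]

/-- If all multiples of the basis vectors other than `f_{i₀}` lie in `MM H (e_{i₀})` then so does
every vector orthogonal to `e_{i₀}`. -/
theorem MM_full {H : Subgroup (symplecticGroup l F)} (i₀ : l)
    (he : ∀ i, i ≠ i₀ → ∀ t : F, t • eb i ∈ MM H (eb i₀))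
    (hf : ∀ i, i ≠ i₀ → ∀ t : F, t • fb i ∈ MM H (eb i₀)) :
    ∀ v, om (eb i₀) v = 0 → v ∈ MM H (eb i₀) := by
  intro v hv
  rw [eq_sum_planes v]
  apply AddSubgroup.sum_mem
  intro i _
  by_cases hi : i = i₀
  · subst hi
    rw [om_eb_left, neg_eq_zero] at hv
    rw [hv, zero_smul, add_zero]
    exact smul_self_mem_MM _
  · exact (MM H (eb i₀)).add_mem (he i hi _) (hf i hi _)

end Coord

section Finish

variable {F : Type*} [Field F] {n : ℕ}

/-- The finishing lemma: once the Heisenberg group of `e_1` is in `H`, the elements `u` and `z`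
spread it to everything. -/
theorem finish (hn : 2 ≤ n) {H : Subgroup (symplecticGroup (Fin n) F)}
    {u z : symplecticGroup (Fin n) F} (hu : u ∈ H) (hz : z ∈ H)
    (hQ : (eb (⟨0, by omega⟩ : Fin n) : Fin n ⊕ Fin n → F) ∈ QS H)
    (hz1 : act z (eb (⟨0, by omega⟩ : Fin n)) = fb (⟨1, by omega⟩ : Fin n))
    (huf : ∀ k (hk : k + 1 < n), 1 ≤ k →
      act u (fb (⟨k, by omega⟩ : Fin n)) = fb (⟨k, by omega⟩ : Fin n) - fb (⟨k + 1, hk⟩ : Fin n))
    (hul : act u (fb (⟨n - 1, by omega⟩ : Fin n)) =
      fb (⟨n - 1, by omega⟩ : Fin n) + act u (eb (⟨n - 1, by omega⟩ : Fin n)))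
    (hue : om (fb (⟨1, by omega⟩ : Fin n) : Fin n ⊕ Fin n → F)
      (act u (eb (⟨n - 1, by omega⟩ : Fin n))) = 1) : H = ⊤ := by
  have h1 : (fb (⟨1, by omega⟩ : Fin n) : Fin n ⊕ Fin n → F) ∈ QS H := by
    rw [← hz1]
    exact act_mem_QS hz hQ
  have hall : ∀ k, 1 ≤ k → ∀ hk : k < n, (fb (⟨k, hk⟩ : Fin n) : Fin n ⊕ Fin n → F) ∈ QS H := by
    intro k hk1
    induction k, hk1 using Nat.le_induction with
    | base => intro _; exact h1
    | succ k hk1 ih =>
      intro hk
      have hfk := ih (by omega)
      have h2 := act_mem_QS hu hfk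
      rw [huf k hk hk1] at h2
      have horth : om (fb (⟨k, by omega⟩ : Fin n) : Fin n ⊕ Fin n → F)
          (-eb (⟨k + 1, hk⟩ : Fin n)) = 0 := by
        rw [om_neg_right, om_fb_eb, if_neg (by simp), neg_zero]
      have h3 := act_mem_QS (hfk.2 _ horth) h2
      rw [act_qq horth] at h3
      simp only [om_sub_right, om_fb_fb, om_neg_left, om_eb_fb, sub_zero, zero_smul, add_zero,
        mul_zero, Fin.mk.injEq, Nat.add_eq_left, one_ne_zero, if_false, if_true, neg_zero,
        sub_neg_eq_add, zero_add, neg_neg, zero_sub] at h3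
      rw [← neg_mem_QS_iff]
      convert h3 using 1
      simp only [neg_smul, one_smul]
      abel
  have hlast := hall (n - 1) (by omega) (by omega)
  have hy : act u (fb (⟨n - 1, by omega⟩ : Fin n)) ∈ TS H := act_mem_TS hu hlast.1
  refine eq_top_of_QS h1 hy ?_
  rw [hul, om_add_right, om_fb_fb, zero_add, hue]
  exact one_ne_zero

end Finish

end Cfsg.Agent.Helper12.RUSp
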