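import Cfsg.Agent.Helper12.RUSpC

set_option autoImplicit false
set_option linter.unusedSimpArgs false
set_option linter.unusedSectionVars false

/-!
# The engine for rank at least three
-/

namespace Cfsg.Agent.Helper12.RUSp

open Matrix Cfsg.Agent.Helper2.Sp Cfsg.Agent.Helper12.SpTwo

section Extra

variable {l : Type*} [DecidableEq l] [Fintype l] {F : Type*} [Field F]

theorem Rg_smul_eq_qq {e v : l ⊕ l → F} (hv : om e v = 0) (c t : F) :
    Rg c v (t • e) = qq e ((c * t) • v) 0 := by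
  have h2 : om e ((c * t) • v) = 0 := by rw [om_smul_right, hv, mul_zero]
  have h3 : om v (t • e) = 0 := by rw [om_smul_right, om_symm_zero hv, mul_zero]
  apply ext_act
  intro x
  rw [act_Rg h3, act_qq h2]
  simp only [om_smul_left]
  funext k
  simp only [Pi.add_apply, Pi.smul_apply, smul_eq_mul]
  ring

end Extra

section EngineI

variable {F : Type*} [Field F] [Fintype F] {n : ℕ}

theorem engineI (hn : 3 ≤ n) {H : Subgroup (symplecticGroup (Fin n) F)}
    {u z : symplecticGroup (Fin n) F} (hu : u ∈ H) (hz : z ∈ H)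
    (hue0 : act u (eb (⟨0, by omega⟩ : Fin n)) = eb (⟨0, by omega⟩ : Fin n))
    (hue : ∀ k (hk : k + 1 < n),
      act u (eb (⟨k + 1, hk⟩ : Fin n) - eb (⟨k, by omega⟩ : Fin n)) = eb (⟨k + 1, hk⟩ : Fin n))
    (huf : ∀ k (hk : k + 1 < n), 1 ≤ k →
      act u (fb (⟨k, by omega⟩ : Fin n)) = fb (⟨k, by omega⟩ : Fin n) - fb (⟨k + 1, hk⟩ : Fin n))
    (hul : act u (fb (⟨n - 1, by omega⟩ : Fin n)) =
      fb (⟨n - 1, by omega⟩ : Fin n) + act u (eb (⟨n - 1, by omega⟩ : Fin n)))
    (hz1 : act z (eb (⟨0, by omega⟩ : Fin n)) = fb (⟨1, by omega⟩ : Fin n))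
    (hz2 : om (eb (⟨0, by omega⟩ : Fin n) : Fin n ⊕ Fin n → F)
      (act z (fb (⟨n - 1, by omega⟩ : Fin n))) = 0)
    (hz3 : om (act z (fb (⟨n - 1, by omega⟩ : Fin n)))
      (fb (⟨2, by omega⟩ : Fin n) : Fin n ⊕ Fin n → F) = -1)
    {c a₀ : F} (hc0 : c ≠ 0) (hc : Subring.closure {c} = ⊤) (ha₀ : a₀ ≠ 0)
    (hseed : qq (eb (⟨0, by omega⟩ : Fin n)) (c • fb (⟨2, by omega⟩ : Fin n)) a₀ ∈ H) :
    (eb (⟨0, by omega⟩ : Fin n) : Fin n ⊕ Fin n → F) ∈ QS H := by
  set e : Fin n ⊕ Fin n → F := eb (⟨0, by omega⟩ : Fin n) with he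
  have hef0 : ∀ k (hk : k < n), 1 ≤ k → ∀ t : F, om e (t • fb (⟨k, hk⟩ : Fin n)) = 0 := by
    intro k hk h1 t
    rw [om_smul_right, he, om_eb_fb, if_neg (by simp only [Fin.mk.injEq]; omega), mul_zero]
  have hee0 : ∀ (i : Fin n) (t : F), om e (t • eb i) = 0 := by
    intro i t
    rw [om_smul_right, he, om_eb_eb, mul_zero]
  have hef1 : om e (fb (⟨1, by omega⟩ : Fin n)) = 0 := by
    have := hef0 1 (by omega) le_rfl 1
    rwa [one_smul] at this
  have huinv : act u⁻¹ e = e := act_inv_eq hue0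
  -- S1
  have hcf3 : c • fb (⟨2, by omega⟩ : Fin n) ∈ MM H e := MM_of_mem (hef0 2 (by omega) (by omega) c) hseed
  -- S2
  have hdesc : ∀ k, 2 ≤ k → ∀ hk : k < n, ∀ s : F,
      s • fb (⟨2, by omega⟩ : Fin n) ∈ MM H e → s • fb (⟨k, hk⟩ : Fin n) ∈ MM H e := by
    intro k hk2
    induction k, hk2 using Nat.le_induction with
    | base => intro _ s hs; exact hs
    | succ k hk2 ih =>
      intro hk s hs
      have h1 := ih (by omega) s hs
      have h2 := act_mem_MM hu hue0 h1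
      rw [act_smul, huf k hk (by omega), smul_sub] at h2
      have := (MM H e).sub_mem h1 h2
      rwa [sub_sub_cancel] at this
  -- S3
  have hcross : ∀ s s' : F, s • fb (⟨2, by omega⟩ : Fin n) ∈ MM H e →
      s' • fb (⟨2, by omega⟩ : Fin n) ∈ MM H e → (-(s * s')) • fb (⟨1, by omega⟩ : Fin n) ∈ PP H e := by
    intro s s' hs hs'
    have hv := hdesc (n - 1) (by omega) (by omega) s hs
    have := cross_mem hz hz1 hef1 hv (by rw [act_smul, om_smul_right, hz2, mul_zero]) hs'
      (by rw [om_smul_right, om_fb_fb, mul_zero])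
    rw [act_smul, om_smul_left, om_smul_right, hz3] at this
    refine ⟨hef0 1 (by omega) le_rfl _, ?_⟩
    have e3 : s * (s' * -1) = -(s * s') := by ring
    rwa [e3] at this
  -- S4
  have hA : ∀ s : F, s • fb (⟨1, by omega⟩ : Fin n) ∈ PP H e →
      s • fb (⟨2, by omega⟩ : Fin n) ∈ MM H e := by
    intro s hs
    have h1 := MM_of_PP hs
    have h2 := act_mem_MM hu hue0 h1
    rw [act_smul, huf 1 (by omega) le_rfl, smul_sub] at h2
    have := (MM H e).sub_mem h1 h2
    rwa [sub_sub_cancel] at this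
  -- S5
  let R : AddSubgroup F :=
    { carrier := {s | s • fb (⟨2, by omega⟩ : Fin n) ∈ MM H e}
      zero_mem' := by
        show (0 : F) • fb (⟨2, by omega⟩ : Fin n) ∈ MM H e
        rw [zero_smul]; exact (MM H e).zero_mem
      add_mem' := by
        intro a b ha hb
        show (a + b) • fb (⟨2, by omega⟩ : Fin n) ∈ MM H e
        rw [add_smul]; exact (MM H e).add_mem ha hb
      neg_mem' := by
        intro a ha
        show (-a) • fb (⟨2, by omega⟩ : Fin n) ∈ MM H e
        rw [neg_smul]; exact (MM H e).neg_mem ha }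
  have hR : ∀ x : F, x • fb (⟨2, by omega⟩ : Fin n) ∈ MM H e := by
    have := mul_closed_top R (by
      intro s s' hs hs'
      have h1 : (-(s * s')) ∈ R := hA _ (hcross s s' hs hs')
      have := R.neg_mem h1
      rwa [neg_neg] at this) (show c ∈ R from hcf3) hc0 hc
    exact this
  -- S6
  have hpf2 : ∀ s : F, s • fb (⟨1, by omega⟩ : Fin n) ∈ PP H e := by
    intro s
    have := hcross (-s) 1 (hR _) (hR _)
    rwa [mul_one, neg_neg] at this
  -- S7
  have hpf : ∀ k, 1 ≤ k → ∀ hk : k < n, ∀ s : F, s • fb (⟨k, hk⟩ : Fin n) ∈ PP H e := by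
    intro k hk1
    induction k, hk1 using Nat.le_induction with
    | base => intro _ s; exact hpf2 s
    | succ k hk1 ih =>
      intro hk s
      have h1 := ih (by omega) s
      have h2 := act_mem_PP hu hue0 h1
      rw [act_smul, huf k hk hk1, smul_sub] at h2
      have h3 := add_mem_PP (neg_mem_PP h1) h2 (by
        simp only [om_neg_left, om_sub_right, om_smul_left, om_smul_right, om_fb_fb, mul_zero,
          sub_zero, neg_zero])
      rw [neg_add_eq_sub, sub_sub_cancel_left] at h3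
      exact neg_mem_PP_iff.mp h3
  -- S8
  have hZ0 : a₀ ∈ ZZ H e := by
    have := ZZ_of_two (hef0 2 (by omega) (by omega) c) hseed (hpf 2 (by omega) (by omega) c).2
    rwa [sub_zero] at this
  -- S9
  have hel : ∀ t : F, t • eb (⟨n - 1, by omega⟩ : Fin n) ∈ MM H e := by
    intro t
    have h1 := MM_of_PP (hpf (n - 1) (by omega) (by omega) t)
    have h2 := act_mem_MM hu hue0 h1
    rw [act_smul, hul, smul_add] at h2
    have h3 := (MM H e).sub_mem h2 h1
    rw [add_sub_cancel_left] at h3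
    have h4 := act_mem_MM (H.inv_mem hu) huinv h3
    rwa [act_smul, ← act_mul, inv_mul_cancel, act_one] at h4
  -- S10
  have hstep : ∀ k (hk : k + 1 < n) (t : F), t • eb (⟨k + 1, hk⟩ : Fin n) ∈ MM H e →
      t • eb (⟨k, by omega⟩ : Fin n) ∈ PP H e := by
    intro k hk t ht
    have hinv : act u⁻¹ (eb (⟨k + 1, hk⟩ : Fin n)) =
        eb (⟨k + 1, hk⟩ : Fin n) - eb (⟨k, by omega⟩ : Fin n) := act_inv_eq (hue k hk)
    have := star_mem (H.inv_mem hu) huinv ht
    rw [act_smul, hinv] at this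
    have e1 : t • (eb (⟨k + 1, hk⟩ : Fin n) - eb (⟨k, by omega⟩ : Fin n) : Fin n ⊕ Fin n → F) -
        t • eb (⟨k + 1, hk⟩ : Fin n) = -(t • eb (⟨k, by omega⟩ : Fin n)) := by
      rw [smul_sub]; abel
    have e2 : om (t • (eb (⟨k + 1, hk⟩ : Fin n) - eb (⟨k, by omega⟩ : Fin n) : Fin n ⊕ Fin n → F))
        (t • eb (⟨k + 1, hk⟩ : Fin n)) = 0 := by
      simp only [om_smul_left, om_smul_right, om_sub_left, om_eb_eb, sub_zero, mul_zero]
    rw [e1, e2, neg_zero] at this
    exact neg_mem_PP_iff.mp ⟨by rw [om_neg_right, hee0, neg_zero], this⟩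
  have hem : ∀ d k (hk : k < n), k + d = n - 1 → ∀ t : F, t • eb (⟨k, hk⟩ : Fin n) ∈ MM H e := by
    intro d
    induction d with
    | zero =>
      intro k hk hkd t
      have : (⟨k, hk⟩ : Fin n) = ⟨n - 1, by omega⟩ := Fin.ext (by simp only; omega)
      rw [this]
      exact hel t
    | succ d ih =>
      intro k hk hkd t
      exact MM_of_PP (hstep k (by omega) t (ih (k + 1) (by omega) (by omega) t))
  have hpe1 : ∀ t : F, t • eb (⟨1, by omega⟩ : Fin n) ∈ PP H e := fun t =>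
    hstep 1 (by omega) t (hem (n - 3) 2 (by omega) (by omega) t)
  -- S11
  have hTf : Tg (fb (⟨1, by omega⟩ : Fin n)) a₀ ∈ H := by
    rw [← hz1, ← conj_Tg']
    exact H.mul_mem (H.mul_mem hz hZ0) (H.inv_mem hz)
  -- S12
  have hsq : ∀ t : F, t ^ 2 * a₀ ∈ ZZ H e := by
    intro t
    have hg := (hpe1 t).2
    have hact : act (qq e (t • eb (⟨1, by omega⟩ : Fin n)) 0) (fb (⟨1, by omega⟩ : Fin n)) =
        fb (⟨1, by omega⟩ : Fin n) + (-t) • e := by
      rw [act_qq_orth (hee0 _ t) hef1, om_smul_left, om_eb_fb, if_pos rfl, mul_neg_one]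
    have h1 : Tg (fb (⟨1, by omega⟩ : Fin n) + (-t) • e) a₀ ∈ H := by
      rw [← hact, ← conj_Tg']
      exact H.mul_mem (H.mul_mem hg hTf) (H.inv_mem hg)
    rw [Tg_add_vec] at h1
    have hRg : Rg a₀ (fb (⟨1, by omega⟩ : Fin n)) ((-t) • e) ∈ H := by
      rw [Rg_smul_eq_qq hef1]
      exact (hpf 1 le_rfl (by omega) _).2
    have h2 : Tg ((-t) • e) a₀ ∈ H := by
      have := H.mul_mem (H.mul_mem h1 (H.inv_mem hRg)) (H.inv_mem hTf)
      rwa [mul_inv_cancel_right, mul_inv_cancel_right] at this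
    rw [Tg_smul] at h2
    show Tg e (t ^ 2 * a₀) ∈ H
    convert h2 using 2
    ring
  -- S13
  have hZtop : ∀ a, Tg e a ∈ H := sq_top (ZZ H e) ha₀ hsq
  -- S14
  refine mem_QS_of hZtop (MM_full (⟨0, by omega⟩ : Fin n) ?_ ?_)
  · intro i hi t
    have hi1 : 1 ≤ i.val := by
      rcases i with ⟨k, hk⟩
      simp only [ne_eq, Fin.mk.injEq] at hi
      simp only
      omega
    exact hem (n - 1 - i.val) i.val i.isLt (by omega) t
  · intro i hi t
    have hi1 : 1 ≤ i.val := by
      rcases i with ⟨k, hk⟩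
      simp only [ne_eq, Fin.mk.injEq] at hi
      simp only
      omega
    exact MM_of_PP (hpf i.val hi1 i.isLt t)

end EngineI

end Cfsg.Agent.Helper12.RUSp
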