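import Cfsg.Agent.Helper12.RUSpD

set_option autoImplicit false
set_option linter.unusedSimpArgs false
set_option linter.unusedSectionVars false

/-!
# The engines for rank two
-/

namespace Cfsg.Agent.Helper12.RUSp

open Matrix Cfsg.Agent.Helper2.Sp Cfsg.Agent.Helper12.SpTwo

section Extra

variable {l : Type*} [DecidableEq l] [Fintype l] {F : Type*} [Field F]

theorem Tg_mul_comm {x y : l ⊕ l → F} (h : om x y = 0) (a b : F) :
    Tg x a * Tg y b = Tg y b * Tg x a := by
  have h' : om y x = 0 := om_symm_zero h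
  apply ext_act
  intro v
  rw [act_mul, act_mul, act_Tg, act_Tg, act_Tg, act_Tg]
  simp only [om_add_right, om_smul_right, h, h', mul_zero, add_zero]
  abel

/-- the product of a Heisenberg element with its conjugate under `e ↦ f`, `f ↦ 2f - e` -/
theorem qq_mul_conj {e f : l ⊕ l → F} (hef : om e f = 0) (s b : F) :
    qq e (s • f) b * qq f (s • ((2 : F) • f - e)) b = Tg e b * Tg f (4 * s + b) := by
  have hfe : om f e = 0 := om_symm_zero hef
  have h1 : om e (s • f) = 0 := by rw [om_smul_right, hef, mul_zero]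
  have h2 : om f (s • ((2 : F) • f - e)) = 0 := by
    rw [om_smul_right, om_sub_right, om_smul_right, om_self, hfe]; ring
  apply ext_act
  intro x
  rw [act_mul, act_mul, act_qq h1, act_qq h2, act_Tg, act_Tg]
  simp only [om_add_right, om_add_left, om_smul_right, om_smul_left, om_sub_left, om_sub_right,
    om_self, hef, hfe, mul_zero, add_zero, zero_add, sub_zero, zero_sub]
  funext k
  simp only [Pi.add_apply, Pi.smul_apply, smul_eq_mul, Pi.sub_apply]
  ring

end Extra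

section EngineII

variable {F : Type*} [Field F]

/-- shared facts for rank two -/
theorem rank_two_common {H : Subgroup (symplecticGroup (Fin 2) F)}
    {u : symplecticGroup (Fin 2) F} (hu : u ∈ H)
    (hue0 : act u (eb (⟨0, by omega⟩ : Fin 2)) = eb (⟨0, by omega⟩ : Fin 2))
    (hue : act u (eb (⟨1, by omega⟩ : Fin 2) - eb (⟨0, by omega⟩ : Fin 2)) =
      eb (⟨1, by omega⟩ : Fin 2))
    (hul : act u (fb (⟨1, by omega⟩ : Fin 2)) =
      fb (⟨1, by omega⟩ : Fin 2) + act u (eb (⟨1, by omega⟩ : Fin 2))) :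
    (act u (eb (⟨1, by omega⟩ : Fin 2)) =
      (eb (⟨1, by omega⟩ : Fin 2) : Fin 2 ⊕ Fin 2 → F) + eb (⟨0, by omega⟩ : Fin 2)) ∧
    (∀ s : F, s • fb (⟨1, by omega⟩ : Fin 2) ∈ MM H (eb (⟨0, by omega⟩ : Fin 2)) →
      s • eb (⟨1, by omega⟩ : Fin 2) ∈ MM H (eb (⟨0, by omega⟩ : Fin 2))) := by
  have hu1 : act u (eb (⟨1, by omega⟩ : Fin 2)) =
      (eb (⟨1, by omega⟩ : Fin 2) : Fin 2 ⊕ Fin 2 → F) + eb (⟨0, by omega⟩ : Fin 2) := by
    rw [act_sub, hue0, sub_eq_iff_eq_add] at hue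
    exact hue
  refine ⟨hu1, ?_⟩
  intro s hs
  have h2 := act_mem_MM hu hue0 hs
  rw [act_smul, hul, hu1, smul_add, smul_add] at h2
  have h3 := (MM H _).sub_mem ((MM H _).sub_mem h2 hs) (smul_self_mem_MM (H := H) s)
  have e1 : s • (fb (⟨1, by omega⟩ : Fin 2) : Fin 2 ⊕ Fin 2 → F) +
      (s • eb (⟨1, by omega⟩ : Fin 2) + s • eb (⟨0, by omega⟩ : Fin 2)) -
      s • fb (⟨1, by omega⟩ : Fin 2) - s • eb (⟨0, by omega⟩ : Fin 2) =
      s • eb (⟨1, by omega⟩ : Fin 2) := by abel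
  rwa [e1] at h3

theorem engineII {H : Subgroup (symplecticGroup (Fin 2) F)}
    {u z : symplecticGroup (Fin 2) F} (hu : u ∈ H) (hz : z ∈ H)
    (hue0 : act u (eb (⟨0, by omega⟩ : Fin 2)) = eb (⟨0, by omega⟩ : Fin 2))
    (hue : act u (eb (⟨1, by omega⟩ : Fin 2) - eb (⟨0, by omega⟩ : Fin 2)) =
      eb (⟨1, by omega⟩ : Fin 2))
    (hul : act u (fb (⟨1, by omega⟩ : Fin 2)) =
      fb (⟨1, by omega⟩ : Fin 2) + act u (eb (⟨1, by omega⟩ : Fin 2)))
    (hz1 : act z (eb (⟨0, by omega⟩ : Fin 2)) = fb (⟨1, by omega⟩ : Fin 2))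
    (h2 : (2 : F) ≠ 0) {t a : F} (ht0 : t ≠ 0) (ht : Subring.closure {2 * t} = ⊤)
    (hseed : qq (eb (⟨0, by omega⟩ : Fin 2)) (t • eb (⟨1, by omega⟩ : Fin 2)) a ∈ H) :
    (eb (⟨0, by omega⟩ : Fin 2) : Fin 2 ⊕ Fin 2 → F) ∈ QS H := by
  set e : Fin 2 ⊕ Fin 2 → F := eb (⟨0, by omega⟩ : Fin 2) with he
  obtain ⟨hu1, hfe⟩ := rank_two_common hu hue0 hue hul
  have hee1 : ∀ s : F, om e (s • eb (⟨1, by omega⟩ : Fin 2)) = 0 := by
    intro s; rw [om_smul_right, he, om_eb_eb, mul_zero]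
  have hef1 : om e (fb (⟨1, by omega⟩ : Fin 2)) = 0 := by
    rw [he, om_eb_fb, if_neg (by simp)]
  -- (a)
  have ha : ∀ s : F, s • eb (⟨1, by omega⟩ : Fin 2) ∈ MM H e → 2 * s ∈ ZZ H e := by
    intro s hs
    have := star_mem hu hue0 hs
    rw [act_smul, hu1, smul_add, add_sub_cancel_left] at this
    have e2 : om (s • (eb (⟨1, by omega⟩ : Fin 2) : Fin 2 ⊕ Fin 2 → F) +
        s • eb (⟨0, by omega⟩ : Fin 2)) (s • eb (⟨1, by omega⟩ : Fin 2)) = 0 := by
      simp only [om_add_left, om_smul_left, om_smul_right, om_eb_eb, mul_zero, add_zero]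
    rw [e2, neg_zero] at this
    have q := qq_add_smul (om_zero_right e) s (0 : F)
    rw [zero_add, zero_add, qq_zero] at q
    show Tg e (2 * s) ∈ H
    rw [← q]
    exact this
  -- (b)
  have hb : ∀ a s : F, a ∈ ZZ H e → s • eb (⟨1, by omega⟩ : Fin 2) ∈ MM H e →
      (a * s) • fb (⟨1, by omega⟩ : Fin 2) ∈ MM H e := by
    intro a s haZ hs
    have hT : Tg (fb (⟨1, by omega⟩ : Fin 2)) a ∈ H := by
      rw [← hz1, ← conj_Tg']
      exact H.mul_mem (H.mul_mem hz haZ) (H.inv_mem hz)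
    have hfix : act (Tg (fb (⟨1, by omega⟩ : Fin 2)) a) e = e := by
      rw [act_Tg, om_symm_zero hef1, mul_zero, zero_smul, add_zero]
    have h3 := act_mem_MM hT hfix hs
    rw [act_Tg, om_smul_right, om_fb_eb, if_pos rfl, mul_one] at h3
    have := (MM H e).sub_mem h3 hs
    rwa [add_sub_cancel_left] at this
  let S : AddSubgroup F :=
    { carrier := {s | s • eb (⟨1, by omega⟩ : Fin 2) ∈ MM H e}
      zero_mem' := by
        show (0 : F) • eb (⟨1, by omega⟩ : Fin 2) ∈ MM H e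
        rw [zero_smul]; exact (MM H e).zero_mem
      add_mem' := by
        intro a b ha hb
        show (a + b) • eb (⟨1, by omega⟩ : Fin 2) ∈ MM H e
        rw [add_smul]; exact (MM H e).add_mem ha hb
      neg_mem' := by
        intro a ha
        show (-a) • eb (⟨1, by omega⟩ : Fin 2) ∈ MM H e
        rw [neg_smul]; exact (MM H e).neg_mem ha }
  have htS : t ∈ S := MM_of_mem (hee1 t) hseed
  have hSall : ∀ x : F, x • eb (⟨1, by omega⟩ : Fin 2) ∈ MM H e :=
    stable_top S (d := 2 * t) (fun s hs => hfe _ (hb _ _ (ha t htS) hs)) ht htS ht0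
  have hZtop : ∀ x, Tg e x ∈ H := by
    intro x
    have := ha (x / 2) (hSall _)
    rwa [mul_div_cancel₀ _ h2] at this
  refine mem_QS_of hZtop (MM_full (⟨0, by omega⟩ : Fin 2) ?_ ?_)
  · intro i hi s
    have : i = ⟨1, by omega⟩ := by
      rcases i with ⟨k, hk⟩
      simp only [ne_eq, Fin.mk.injEq] at hi ⊢
      omega
    rw [this]
    exact hSall s
  · intro i hi s
    have : i = ⟨1, by omega⟩ := by
      rcases i with ⟨k, hk⟩
      simp only [ne_eq, Fin.mk.injEq] at hi ⊢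
      omega
    rw [this]
    have := hb 1 s (hZtop 1) (hSall s)
    rwa [one_mul] at this

end EngineII

section EngineIII

variable {F : Type*} [Field F] [Fintype F]

theorem engineIII {H : Subgroup (symplecticGroup (Fin 2) F)}
    {u z : symplecticGroup (Fin 2) F} (hu : u ∈ H) (hz : z ∈ H)
    (hue0 : act u (eb (⟨0, by omega⟩ : Fin 2)) = eb (⟨0, by omega⟩ : Fin 2))
    (hue : act u (eb (⟨1, by omega⟩ : Fin 2) - eb (⟨0, by omega⟩ : Fin 2)) =
      eb (⟨1, by omega⟩ : Fin 2))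
    (hul : act u (fb (⟨1, by omega⟩ : Fin 2)) =
      fb (⟨1, by omega⟩ : Fin 2) + act u (eb (⟨1, by omega⟩ : Fin 2)))
    (hz1 : act z (eb (⟨0, by omega⟩ : Fin 2)) = fb (⟨1, by omega⟩ : Fin 2))
    (hz2 : act z (fb (⟨1, by omega⟩ : Fin 2)) =
      (2 : F) • fb (⟨1, by omega⟩ : Fin 2) - eb (⟨0, by omega⟩ : Fin 2))
    (hzz : Tg (eb (⟨0, by omega⟩ : Fin 2)) (1 : F) * Tg (fb (⟨1, by omega⟩ : Fin 2)) 1 ∈ H)
    (h2 : (2 : F) = 0) {a₁ : F} (ha₁0 : a₁ ≠ 0) (ha₁1 : a₁ ≠ 1)
    {t a : F} (ht0 : t ≠ 0) (ht : Subring.closure {t ^ 2} = ⊤)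
    (hseed : qq (eb (⟨0, by omega⟩ : Fin 2)) (t • eb (⟨1, by omega⟩ : Fin 2)) a ∈ H) :
    (eb (⟨0, by omega⟩ : Fin 2) : Fin 2 ⊕ Fin 2 → F) ∈ QS H := by
  set e : Fin 2 ⊕ Fin 2 → F := eb (⟨0, by omega⟩ : Fin 2) with he
  set f : Fin 2 ⊕ Fin 2 → F := fb (⟨1, by omega⟩ : Fin 2) with hf
  set e' : Fin 2 ⊕ Fin 2 → F := eb (⟨1, by omega⟩ : Fin 2) with he'
  obtain ⟨hu1, hfe⟩ := rank_two_common hu hue0 hue hul
  haveI : CharP F 2 := CharTwo.of_one_ne_zero_of_two_eq_zero one_ne_zero h2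
  have h4 : (4 : F) = 0 := by
    have : (4 : F) = 2 * 2 := by norm_num
    rw [this, h2, mul_zero]
  have hee1 : ∀ s : F, om e (s • e') = 0 := by
    intro s; rw [om_smul_right, he, he', om_eb_eb, mul_zero]
  have hef1 : om e f = 0 := by
    rw [he, hf, om_eb_fb, if_neg (by simp)]
  have hfe1 : om f e = 0 := om_symm_zero hef1
  have hef1s : ∀ s : F, om e (s • f) = 0 := by
    intro s; rw [om_smul_right, hef1, mul_zero]
  -- the additive group D
  let D : AddSubgroup F :=
    { carrier := {a | Tg e a * Tg f a ∈ H}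
      zero_mem' := by
        show Tg e 0 * Tg f 0 ∈ H
        rw [Tg_zero, Tg_zero, mul_one]; exact H.one_mem
      add_mem' := by
        intro a b ha hb
        show Tg e (a + b) * Tg f (a + b) ∈ H
        have : Tg e (a + b) * Tg f (a + b) = (Tg e a * Tg f a) * (Tg e b * Tg f b) := by
          rw [← Tg_add, ← Tg_add, mul_assoc, mul_assoc]
          congr 1
          rw [← mul_assoc, ← mul_assoc, Tg_mul_comm hef1 b a]
        rw [this]
        exact H.mul_mem ha hb
      neg_mem' := by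
        intro a ha
        show Tg e (-a) * Tg f (-a) ∈ H
        have : Tg e (-a) * Tg f (-a) = (Tg e a * Tg f a)⁻¹ := by
          rw [_root_.mul_inv_rev, Tg_inv, Tg_inv, Tg_mul_comm hef1]
        rw [this]
        exact H.inv_mem ha }
  have h1D : (1 : F) ∈ D := hzz
  -- rule R3
  have hR3 : ∀ s b : F, qq e (s • f) b ∈ H → b ∈ D := by
    intro s b hq
    have hc := conj_qq z (hef1s s) b
    rw [hz1, act_smul, hz2] at hc
    have hmem : qq f (s • ((2 : F) • f - e)) b ∈ H := by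
      rw [← hc]
      exact H.mul_mem (H.mul_mem hz hq) (H.inv_mem hz)
    have := H.mul_mem hq hmem
    rw [qq_mul_conj hef1, h4, zero_mul, zero_add] at this
    exact this
  -- rule G
  have hG : ∀ a s b : F, a ∈ D → qq e (s • e') b ∈ H → qq e ((a * s) • f) (-(a * s ^ 2)) ∈ H := by
    intro a s b haD hq
    have hfix : act (Tg e a * Tg f a) e = e := by
      have i1 : act (Tg f a) e = e := by rw [act_Tg, hfe1, mul_zero, zero_smul, add_zero]
      rw [act_mul, i1, act_Tg, om_self, mul_zero, zero_smul, add_zero]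
    have hact : act (Tg e a * Tg f a) (s • e') = s • e' + (a * s) • f := by
      have i1 : act (Tg f a) (s • e') = s • e' + (a * s) • f := by
        rw [act_Tg, om_smul_right, hf, he', om_fb_eb, if_pos rfl, mul_one]
      have i2 : om e (s • e' + (a * s) • f) = 0 := by
        rw [om_add_right, hee1, hef1s, add_zero]
      rw [act_mul, i1, act_Tg, i2, mul_zero, zero_smul, add_zero]
    have := star_mem haD hfix (MM_of_mem (hee1 s) hq)
    rw [hact, add_sub_cancel_left] at this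
    have e2 : om (s • e' + (a * s) • f) (s • e') = a * s ^ 2 := by
      simp only [om_add_left, om_smul_left, om_smul_right, he', hf, om_eb_eb, om_fb_eb, if_pos,
        mul_zero, zero_add, mul_one]
      ring
    rwa [e2] at this
  -- rule U'
  let S : AddSubgroup F :=
    { carrier := {s | s • e' ∈ MM H e}
      zero_mem' := by
        show (0 : F) • e' ∈ MM H e
        rw [zero_smul]; exact (MM H e).zero_mem
      add_mem' := by
        intro a b ha hb
        show (a + b) • e' ∈ MM H e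
        rw [add_smul]; exact (MM H e).add_mem ha hb
      neg_mem' := by
        intro a ha
        show (-a) • e' ∈ MM H e
        rw [neg_smul]; exact (MM H e).neg_mem ha }
  have htS : t ∈ S := MM_of_mem (hee1 t) hseed
  have hSf : ∀ s : F, s ∈ S → qq e (s • f) (-(s ^ 2)) ∈ H := by
    intro s hs
    obtain ⟨_, b, hb⟩ := hs
    have := hG 1 s b h1D hb
    rwa [one_mul, one_mul] at this
  have hSD : ∀ s : F, s ∈ S → s ^ 2 ∈ D := by
    intro s hs
    have := D.neg_mem (hR3 _ _ (hSf s hs))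
    rwa [neg_neg] at this
  have hDS : ∀ a s : F, a ∈ D → s ∈ S → a * s ∈ S := by
    intro a s haD hs
    obtain ⟨_, b, hb⟩ := hs
    exact hfe _ (MM_of_mem (hef1s _) (hG a s b haD hb))
  have hSall : ∀ x : F, x ∈ S :=
    stable_top S (d := t ^ 2) (fun s hs => hDS _ _ (hSD t htS) hs) ht htS ht0
  have hDall : ∀ x : F, x ∈ D := by
    intro x
    obtain ⟨r, hr⟩ := FiniteField.isSquare_of_char_two (ringChar.eq F 2) x
    rw [hr, ← pow_two]
    exact hSD r (hSall r)
  -- the centre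
  have hcen : ∀ s : F, s ^ 2 * (a₁ ^ 2 - a₁) ∈ ZZ H e := by
    intro s
    obtain ⟨_, b, hb⟩ := hSall s
    have X1 := hG a₁ s b (hDall a₁) hb
    have X2 := hSf (a₁ * s) (hSall _)
    have := ZZ_of_two (hef1s _) X1 X2
    convert this using 1
    ring
  have hZtop : ∀ x, Tg e x ∈ H := by
    refine sq_top (ZZ H e) ?_ hcen
    have : a₁ ^ 2 - a₁ = a₁ * (a₁ - 1) := by ring
    rw [this]
    exact mul_ne_zero ha₁0 (sub_ne_zero.mpr ha₁1)
  refine mem_QS_of hZtop (MM_full (⟨0, by omega⟩ : Fin 2) ?_ ?_)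
  · intro i hi s
    have : i = ⟨1, by omega⟩ := by
      rcases i with ⟨k, hk⟩
      simp only [ne_eq, Fin.mk.injEq] at hi ⊢
      omega
    rw [this]
    exact hSall s
  · intro i hi s
    have : i = ⟨1, by omega⟩ := by
      rcases i with ⟨k, hk⟩
      simp only [ne_eq, Fin.mk.injEq] at hi ⊢
      omega
    rw [this]
    exact MM_of_mem (hef1s s) (hSf s (hSall s))

end EngineIII

end Cfsg.Agent.Helper12.RUSp
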