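import Cfsg.Agent.Helper12.RUSpE

set_option autoImplicit false
set_option linter.unusedSimpArgs false
set_option linter.unusedSectionVars false

/-!
# Seeds: commutators of the regular unipotent element with Heisenberg-type elements
-/

namespace Cfsg.Agent.Helper12.RUSp

open Matrix Cfsg.Agent.Helper2.Sp Cfsg.Agent.Helper12.SpTwo

variable {l : Type*} [DecidableEq l] [Fintype l] {F : Type*} [Field F]

theorem act_eb_apply (g : symplecticGroup l F) (k : l) (x : l ⊕ l) :
    act g (eb k) x = (g : Matrix (l ⊕ l) (l ⊕ l) F) x (Sum.inl k) := by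
  unfold act eb
  rw [mulVec_single_one]
  rfl

theorem act_fb_apply (g : symplecticGroup l F) (k : l) (x : l ⊕ l) :
    act g (fb k) x = (g : Matrix (l ⊕ l) (l ⊕ l) F) x (Sum.inr k) := by
  unfold act fb
  rw [mulVec_single_one]
  rfl

/-- two symplectic matrices agreeing on the standard basis are equal -/
theorem ext_basis {g h : symplecticGroup l F} (he : ∀ i, act g (eb i) = act h (eb i))
    (hf : ∀ i, act g (fb i) = act h (fb i)) : g = h := by
  apply Subtype.ext
  ext x y
  rcases y with k | k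
  · rw [← act_eb_apply, ← act_eb_apply, he]
  · rw [← act_fb_apply, ← act_fb_apply, hf]

/-- the commutator of a pure Heisenberg element with an element fixing `e` -/
theorem seedA {u : symplecticGroup l F} {e v : l ⊕ l → F} (hue : act u e = e) (hv : om e v = 0) :
    qq e v 0 * u * (qq e v 0)⁻¹ * u⁻¹ = qq e (v - act u v) (-om v (act u v)) := by
  have h2 : om e (-v) = 0 := by rw [om_neg_right, hv, neg_zero]
  have h3 : om e (act u (-v)) = 0 := by rw [← hue, om_act, h2]
  have c := conj_qq u h2 (-(0 : F))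
  rw [hue] at c
  rw [mul_assoc, mul_assoc, ← mul_assoc u, qq_inv hv, c, qq_mul hv h3, act_neg, om_neg_right,
    ← sub_eq_add_neg]
  congr 1
  ring

/-- the commutator with a Heisenberg element times a transvection along `e'`, `u e' = e' + e` -/
theorem seedB {u : symplecticGroup l F} {e e' v : l ⊕ l → F} (hue : act u e = e)
    (hee' : om e e' = 0) (hue' : act u e' = e' + e) (hv : om e v = 0) (a' : F) :
    (qq e v 0 * Tg e' (-a')) * u * (qq e v 0 * Tg e' (-a'))⁻¹ * u⁻¹ =
      qq e (v + a' • e' - act u v)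
        (a' + om v (a' • e') + om (v + a' • e') (-act u v)) := by
  have h2 : om e (-v) = 0 := by rw [om_neg_right, hv, neg_zero]
  have h3 : om e (act u (-v)) = 0 := by rw [← hue, om_act, h2]
  have h4 : om e (a' • e') = 0 := by rw [om_smul_right, hee', mul_zero]
  have h5 : om e (v + a' • e') = 0 := by rw [om_add_right, hv, h4, add_zero]
  have hsplit : (qq e v 0 * Tg e' (-a')) * u * (qq e v 0 * Tg e' (-a'))⁻¹ * u⁻¹ =
      qq e v 0 * (Tg e' (-a') * (u * (Tg e' (-a'))⁻¹ * u⁻¹)) * (u * (qq e v 0)⁻¹ * u⁻¹) := by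
    group
  have hmid : Tg e' (-a') * (u * (Tg e' (-a'))⁻¹ * u⁻¹) = qq e (a' • e') a' := by
    rw [Tg_inv, neg_neg, conj_Tg', hue', Tg_add_vec, Rg_eq_qq' hee', ← mul_assoc, ← mul_assoc,
      Tg_mul_comm (om_symm_zero hee') (-a') a', mul_assoc (Tg e a'), Tg_add, neg_add_cancel,
      Tg_zero, mul_one, ← qq_zero, qq_mul (om_zero_right e) h4, zero_add, om_zero_left]
    congr 1
    ring
  have c := conj_qq u h2 (-(0 : F))
  rw [hue] at c
  rw [hsplit, hmid, qq_inv hv, c, qq_mul hv h4, qq_mul h5 h3, act_neg, ← sub_eq_add_neg]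
  congr 1
  ring

end Cfsg.Agent.Helper12.RUSp
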