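import Cfsg.Agent.Helper12.RUSpF

set_option autoImplicit false
set_option linter.unusedSimpArgs false
set_option linter.unusedSectionVars false

/-!
# The regular unipotent element of `Sp_{2n}`
-/

namespace Cfsg.Agent.Helper12.RUSp

open Matrix Cfsg.Agent.Helper2.Sp Cfsg.Agent.Helper12.SpTwo

variable {F : Type*} [Field F] {n : ℕ}

/-- upper triangular all ones -/
def uA (n : ℕ) (F : Type*) [Field F] : Matrix (Fin n) (Fin n) F :=
  Matrix.of fun i j => if i ≤ j then 1 else 0

/-- last column all ones -/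
def uB (n : ℕ) (F : Type*) [Field F] : Matrix (Fin n) (Fin n) F :=
  Matrix.of fun _ j => if j.val + 1 = n then 1 else 0

/-- lower bidiagonal -/
def uD (n : ℕ) (F : Type*) [Field F] : Matrix (Fin n) (Fin n) F :=
  Matrix.of fun i j => (if i = j then 1 else 0) - (if i.val = j.val + 1 then 1 else 0)

/-- the regular unipotent matrix -/
def uMat (n : ℕ) (F : Type*) [Field F] : Matrix (Fin n ⊕ Fin n) (Fin n ⊕ Fin n) F :=
  fromBlocks (uA n F) (uB n F) 0 (uD n F)

theorem sum_shift (j : Fin n) (g : Fin n → F) :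
    ∑ k : Fin n, (if k.val = j.val + 1 then g k else 0) =
      if h : j.val + 1 < n then g ⟨j.val + 1, h⟩ else 0 := by
  by_cases h : j.val + 1 < n
  · rw [dif_pos h, Finset.sum_eq_single (⟨j.val + 1, h⟩ : Fin n)]
    · simp
    · intro k _ hk
      rw [if_neg]
      intro hk'
      exact hk (Fin.ext hk')
    · intro h'; exact absurd (Finset.mem_univ _) h'
  · rw [dif_neg h]
    apply Finset.sum_eq_zero
    intro k _
    rw [if_neg]
    have := k.isLt
    omega

theorem uA_transpose_mul_uD : (uA n F)ᵀ * uD n F = 1 := by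
  ext i j
  rw [Matrix.mul_apply]
  simp only [uA, uD, Matrix.transpose_apply, Matrix.of_apply, mul_sub, Finset.sum_sub_distrib]
  have s1 : ∑ k : Fin n, (if k ≤ i then (1 : F) else 0) * (if k = j then 1 else 0) =
      if j ≤ i then 1 else 0 := by
    simp only [mul_ite, mul_one, mul_zero]
    rw [Finset.sum_ite_eq' Finset.univ j]
    simp
  have s2 : ∑ k : Fin n, (if k ≤ i then (1 : F) else 0) * (if k.val = j.val + 1 then 1 else 0) =
      if j.val + 1 ≤ i.val then 1 else 0 := by
    simp only [mul_ite, mul_one, mul_zero]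
    rw [sum_shift j (fun k => if k ≤ i then (1 : F) else 0)]
    by_cases h : j.val + 1 < n
    · rw [dif_pos h]
      simp only [Fin.le_def]
    · rw [dif_neg h, if_neg]
      have := i.isLt
      omega
  rw [s1, s2, Matrix.one_apply]
  by_cases hij : i = j
  · subst hij
    simp
  · rw [if_neg hij]
    have hne : i.val ≠ j.val := fun h => hij (Fin.ext h)
    by_cases h1 : j ≤ i
    · rw [if_pos h1, if_pos (by rw [Fin.le_def] at h1; omega), sub_self]
    · rw [if_neg h1, if_neg (by rw [Fin.le_def] at h1; omega), sub_self]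

theorem sum_uD (j : Fin n) : ∑ k : Fin n, uD n F k j = if j.val + 1 = n then 1 else 0 := by
  simp only [uD, Matrix.of_apply, Finset.sum_sub_distrib]
  rw [Finset.sum_ite_eq' Finset.univ j, sum_shift j (fun _ => (1 : F))]
  simp only [Finset.mem_univ, if_true]
  by_cases h : j.val + 1 < n
  · rw [dif_pos h, if_neg (by omega), sub_self]
  · rw [dif_neg h, if_pos (by have := j.isLt; omega), sub_zero]

theorem uB_transpose_mul_uD : (uB n F)ᵀ * uD n F = (uD n F)ᵀ * uB n F := by
  ext i j
  rw [Matrix.mul_apply, Matrix.mul_apply]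
  simp only [uB, Matrix.transpose_apply, Matrix.of_apply]
  rw [← Finset.mul_sum, ← Finset.sum_mul, sum_uD, sum_uD, mul_comm]

theorem uMat_mem : uMat n F ∈ symplecticGroup (Fin n) F := by
  unfold uMat
  rw [SymplecticGroup.fromBlocks_mem_iff]
  refine ⟨by simp, uB_transpose_mul_uD, ?_⟩
  rw [uA_transpose_mul_uD]
  simp

/-- the regular unipotent element -/
def uu (n : ℕ) (F : Type*) [Field F] : symplecticGroup (Fin n) F := ⟨uMat n F, uMat_mem⟩

theorem uu_e0 (hn : 0 < n) : act (uu n F) (eb (⟨0, hn⟩ : Fin n)) = eb (⟨0, hn⟩ : Fin n) := by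
  funext x
  rw [act_eb_apply]
  rcases x with i | i
  · show uA n F i ⟨0, hn⟩ = _
    simp only [uA, Matrix.of_apply, eb, Pi.single_apply, Sum.inl.injEq, Fin.le_def]
    by_cases h : i.val = 0
    · rw [if_pos (by omega), if_pos (Fin.ext h)]
    · rw [if_neg (by omega), if_neg (fun h' => h (by rw [h']))]
  · show (0 : Matrix (Fin n) (Fin n) F) i ⟨0, hn⟩ = _
    simp [eb]

theorem uu_e_succ (k : ℕ) (hk : k + 1 < n) :
    act (uu n F) (eb (⟨k + 1, hk⟩ : Fin n)) =
      eb (⟨k + 1, hk⟩ : Fin n) + act (uu n F) (eb (⟨k, by omega⟩ : Fin n)) := by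
  funext x
  rw [Pi.add_apply, act_eb_apply, act_eb_apply]
  rcases x with i | i
  · show uA n F i ⟨k + 1, hk⟩ = _ + uA n F i ⟨k, by omega⟩
    simp only [uA, Matrix.of_apply, eb, Pi.single_apply, Sum.inl.injEq, Fin.le_def]
    by_cases h1 : i.val ≤ k
    · rw [if_pos (by omega), if_pos h1, if_neg (fun h' => by rw [h'] at h1; simp at h1), zero_add]
    · by_cases h2 : i.val = k + 1
      · rw [if_pos (by omega), if_neg h1, if_pos (Fin.ext h2), add_zero]
      · rw [if_neg (by omega), if_neg h1, if_neg (fun h' => h2 (by rw [h'])), add_zero]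
  · show (0 : Matrix (Fin n) (Fin n) F) i ⟨k + 1, hk⟩ = _ + (0 : Matrix (Fin n) (Fin n) F) i ⟨k, by omega⟩
    simp [eb]

theorem uu_e_sub (k : ℕ) (hk : k + 1 < n) :
    act (uu n F) (eb (⟨k + 1, hk⟩ : Fin n) - eb (⟨k, by omega⟩ : Fin n)) =
      eb (⟨k + 1, hk⟩ : Fin n) := by
  rw [act_sub, uu_e_succ k hk, add_sub_cancel_right]

theorem uu_f (k : ℕ) (hk : k + 1 < n) :
    act (uu n F) (fb (⟨k, by omega⟩ : Fin n)) =
      fb (⟨k, by omega⟩ : Fin n) - fb (⟨k + 1, hk⟩ : Fin n) := by
  funext x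
  rw [Pi.sub_apply, act_fb_apply]
  rcases x with i | i
  · show uB n F i ⟨k, by omega⟩ = _
    simp only [uB, Matrix.of_apply, fb, Pi.single_apply, reduceCtorEq, if_false, sub_zero]
    rw [if_neg (by omega)]
  · show uD n F i ⟨k, by omega⟩ = _
    simp only [uD, Matrix.of_apply, fb, Pi.single_apply, Sum.inr.injEq, Fin.ext_iff]

theorem uu_f_last (hn : 0 < n) :
    act (uu n F) (fb (⟨n - 1, by omega⟩ : Fin n)) =
      fb (⟨n - 1, by omega⟩ : Fin n) + act (uu n F) (eb (⟨n - 1, by omega⟩ : Fin n)) := by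
  funext x
  rw [Pi.add_apply, act_fb_apply, act_eb_apply]
  rcases x with i | i
  · show uB n F i ⟨n - 1, by omega⟩ = _ + uA n F i ⟨n - 1, by omega⟩
    simp only [uB, uA, Matrix.of_apply, fb, Pi.single_apply, reduceCtorEq, if_false, zero_add,
      Fin.le_def]
    rw [if_pos (by omega), if_pos (by have := i.isLt; omega)]
  · show uD n F i ⟨n - 1, by omega⟩ = _ + (0 : Matrix (Fin n) (Fin n) F) i ⟨n - 1, by omega⟩
    simp only [uD, Matrix.of_apply, fb, Pi.single_apply, Sum.inr.injEq, Fin.ext_iff,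
      Matrix.zero_apply, add_zero]
    rw [if_neg (by have := i.isLt; omega : ¬ (i.val = n - 1 + 1)), sub_zero]

theorem uu_e_inl (k i : Fin n) :
    act (uu n F) (eb k) (Sum.inl i) = if i ≤ k then 1 else 0 := by
  rw [act_eb_apply]
  rfl

theorem uu_e_inr (k i : Fin n) : act (uu n F) (eb k) (Sum.inr i) = 0 := by
  rw [act_eb_apply]
  rfl

end Cfsg.Agent.Helper12.RUSp
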