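import Cfsg.Agent.Helper12.RUSpG

set_option autoImplicit false
set_option linter.unusedSimpArgs false
set_option linter.unusedSectionVars false

/-!
# Regularity of the unipotent element `uu`
-/

namespace Cfsg.Agent.Helper12.RUSp

open Matrix Cfsg.Agent.Helper2.Sp Cfsg.Agent.Helper12.SpTwo

variable {F : Type*} [Field F] {n : ℕ}

/-- the nilpotent part -/
def uN (n : ℕ) (F : Type*) [Field F] : Matrix (Fin n ⊕ Fin n) (Fin n ⊕ Fin n) F := uMat n F - 1

theorem uN_mulVec (x : Fin n ⊕ Fin n → F) : uN n F *ᵥ x = act (uu n F) x - x := by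
  unfold uN
  rw [sub_mulVec, one_mulVec]
  rfl

theorem uMat_mulVec (x : Fin n ⊕ Fin n → F) : uMat n F *ᵥ x = act (uu n F) x := rfl

theorem uN_e0 (hn : 0 < n) : uN n F *ᵥ (eb (⟨0, hn⟩ : Fin n)) = 0 := by
  rw [uN_mulVec, uu_e0, sub_self]

theorem uN_e_succ (k : ℕ) (hk : k + 1 < n) :
    uN n F *ᵥ (eb (⟨k + 1, hk⟩ : Fin n)) = uMat n F *ᵥ (eb (⟨k, by omega⟩ : Fin n)) := by
  rw [uN_mulVec, uu_e_succ k hk, add_sub_cancel_left, uMat_mulVec]

theorem uN_f (k : ℕ) (hk : k + 1 < n) :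
    uN n F *ᵥ (fb (⟨k, by omega⟩ : Fin n)) = -fb (⟨k + 1, hk⟩ : Fin n) := by
  rw [uN_mulVec, uu_f k hk]
  abel

theorem uN_f_last (hn : 0 < n) :
    uN n F *ᵥ (fb (⟨n - 1, by omega⟩ : Fin n)) = uMat n F *ᵥ (eb (⟨n - 1, by omega⟩ : Fin n)) := by
  rw [uN_mulVec, uu_f_last hn, add_sub_cancel_left, uMat_mulVec]

theorem uN_pow_comm (m : ℕ) : uN n F ^ m * uMat n F = uMat n F * uN n F ^ m := by
  have : Commute (uN n F) (uMat n F) := by
    unfold uN
    exact (Commute.refl _).sub_left (Commute.one_left _)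
  exact (this.pow_left m).eq

theorem uN_pow_e (k : ℕ) (hk : k < n) :
    (uN n F ^ k) *ᵥ (eb (⟨k, hk⟩ : Fin n)) = eb (⟨0, by omega⟩ : Fin n) := by
  induction k with
  | zero => rw [pow_zero, one_mulVec]
  | succ k ih =>
    rw [pow_succ, ← mulVec_mulVec, uN_e_succ k hk, mulVec_mulVec, uN_pow_comm, ← mulVec_mulVec,
      ih (by omega), uMat_mulVec, uu_e0]

theorem uN_pow_e_zero (k : ℕ) (hk : k < n) :
    (uN n F ^ (k + 1)) *ᵥ (eb (⟨k, hk⟩ : Fin n)) = 0 := by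
  rw [pow_succ', ← mulVec_mulVec, uN_pow_e k hk, uN_e0]

theorem uN_pow_f (j : ℕ) (hj : j < n) :
    (uN n F ^ j) *ᵥ (fb (⟨0, by omega⟩ : Fin n)) = (-1 : F) ^ j • fb (⟨j, hj⟩ : Fin n) := by
  induction j with
  | zero => rw [pow_zero, one_mulVec, pow_zero, one_smul]
  | succ j ih =>
    rw [pow_succ', ← mulVec_mulVec, ih (by omega), mulVec_smul, uN_f j hj, pow_succ, smul_neg,
      mul_neg_one, neg_smul]

theorem uN_pow_f_zero (d k : ℕ) (hk : k < n) (hkd : k + d = n - 1) :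
    (uN n F ^ (d + 1 + n)) *ᵥ (fb (⟨k, hk⟩ : Fin n)) = 0 := by
  induction d generalizing k with
  | zero =>
    have hk' : (⟨k, hk⟩ : Fin n) = ⟨n - 1, by omega⟩ := Fin.ext (by simp only; omega)
    rw [hk', zero_add, add_comm, pow_succ, ← mulVec_mulVec, uN_f_last (by omega), mulVec_mulVec,
      uN_pow_comm, ← mulVec_mulVec]
    have := uN_pow_e_zero (F := F) (n - 1) (by omega : n - 1 < n)
    rw [show n - 1 + 1 = n by omega] at this
    rw [this, mulVec_zero]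
  | succ d ih =>
    rw [show d + 1 + 1 + n = (d + 1 + n) + 1 by ring, pow_succ, ← mulVec_mulVec,
      uN_f k (by omega), mulVec_neg, ih (k + 1) (by omega) (by omega), neg_zero]

theorem uN_pow_eq_zero (hn : 0 < n) : uN n F ^ (2 * n) = 0 := by
  have key : ∀ y : Fin n ⊕ Fin n, (uN n F ^ (2 * n)) *ᵥ (Pi.single y 1) = 0 := by
    intro y
    rcases y with k | k
    · have h1 := uN_pow_e_zero (F := F) k.val k.isLt
      have : 2 * n = (2 * n - (k.val + 1)) + (k.val + 1) := by have := k.isLt; omega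
      rw [this, pow_add, ← mulVec_mulVec]
      show (uN n F ^ (2 * n - (k.val + 1))) *ᵥ ((uN n F ^ (k.val + 1)) *ᵥ (eb k)) = 0
      rw [show k = ⟨k.val, k.isLt⟩ from rfl, h1, mulVec_zero]
    · have h1 := uN_pow_f_zero (F := F) (n - 1 - k.val) k.val k.isLt (by have := k.isLt; omega)
      have : 2 * n = k.val + (n - 1 - k.val + 1 + n) := by have := k.isLt; omega
      rw [this, pow_add, ← mulVec_mulVec]
      show (uN n F ^ k.val) *ᵥ ((uN n F ^ (n - 1 - k.val + 1 + n)) *ᵥ (fb k)) = 0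
      rw [show k = ⟨k.val, k.isLt⟩ from rfl, h1, mulVec_zero]
  ext x y
  have := congrFun (key y) x
  rw [mulVec_single_one] at this
  exact this

theorem uN_pow_ne_zero (hn : 0 < n) : uN n F ^ (2 * n - 1) ≠ 0 := by
  intro h0
  have h1 : (uN n F ^ (2 * n - 1)) *ᵥ (fb (⟨0, hn⟩ : Fin n)) =
      (-1 : F) ^ (n - 1) • eb (⟨0, hn⟩ : Fin n) := by
    rw [show 2 * n - 1 = (n - 1) + (1 + (n - 1)) by omega, pow_add, pow_add, pow_one,
      ← mulVec_mulVec, ← mulVec_mulVec, uN_pow_f (n - 1) (by omega), mulVec_smul,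
      uN_f_last hn, mulVec_smul, mulVec_mulVec, uN_pow_comm, ← mulVec_mulVec,
      uN_pow_e (n - 1) (by omega), uMat_mulVec, uu_e0]
  rw [h0, zero_mulVec] at h1
  have := congrFun h1 (Sum.inl ⟨0, hn⟩)
  simp only [Pi.zero_apply, Pi.smul_apply, eb, Pi.single_eq_same, smul_eq_mul, mul_one] at this
  exact pow_ne_zero _ (neg_ne_zero.mpr one_ne_zero) this.symm

theorem uu_regular (hn : 0 < n) :
    IsNilpotent (((uu n F : symplecticGroup (Fin n) F) : Matrix (Fin n ⊕ Fin n) (Fin n ⊕ Fin n) F) - 1) ∧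
    (((uu n F : symplecticGroup (Fin n) F) : Matrix (Fin n ⊕ Fin n) (Fin n ⊕ Fin n) F) - 1) ^ (2 * n - 1) ≠ 0 :=
  ⟨⟨2 * n, uN_pow_eq_zero hn⟩, uN_pow_ne_zero hn⟩

end Cfsg.Agent.Helper12.RUSp
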