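import Cfsg.Agent.Helper12.SpTwoB

set_option autoImplicit false

/-!
# Explicit symplectic matrices: permutations, Weyl elements, the Coxeter element, diagonal elements
-/

namespace Cfsg.Agent.Helper12.SpTwo

open Matrix Cfsg.Agent.Helper2.Sp

section Perm

variable {l : Type*} [DecidableEq l] [Fintype l] {F : Type*} [Field F]

theorem single_comp_symm {α : Type*} [DecidableEq α] (τ : Equiv.Perm α) (j : α) :
    (Pi.single j (1 : F) : α → F) ∘ ⇑τ.symm = Pi.single (τ j) 1 := by
  funext k
  simp only [Function.comp_apply, Pi.single_apply]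
  by_cases h : k = τ j
  · rw [if_pos h, if_pos (by rw [h, Equiv.symm_apply_apply])]
  · rw [if_neg h, if_neg]
    intro h'
    apply h
    rw [← h', Equiv.apply_symm_apply]

/-- The permutation of coordinates induced by a permutation of `l`. -/
def permSp (σ : Equiv.Perm l) : symplecticGroup l F :=
  ⟨Equiv.Perm.permMatrix F (Equiv.sumCongr σ σ).symm, by
    rw [mem_symplectic_iff_om]
    intro x y
    rw [Matrix.permMatrix_mulVec, Matrix.permMatrix_mulVec, om_eq_sum, om_eq_sum]
    simp only [Function.comp_apply, Equiv.sumCongr_symm, Equiv.sumCongr_apply, Sum.map_inl,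
      Sum.map_inr]
    exact Equiv.sum_comp σ.symm (fun i => x (Sum.inr i) * y (Sum.inl i) - x (Sum.inl i) * y (Sum.inr i))⟩

theorem act_permSp (σ : Equiv.Perm l) (x : l ⊕ l → F) :
    act (permSp σ) x = x ∘ ⇑(Equiv.sumCongr σ σ).symm := by
  show (Equiv.Perm.permMatrix F (Equiv.sumCongr σ σ).symm) *ᵥ x = _
  rw [Matrix.permMatrix_mulVec]

theorem act_permSp_eb (σ : Equiv.Perm l) (i : l) :
    act (permSp σ) (eb i : l ⊕ l → F) = eb (σ i) := by
  rw [act_permSp]
  unfold eb
  rw [single_comp_symm]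
  rfl

theorem act_permSp_fb (σ : Equiv.Perm l) (i : l) :
    act (permSp σ) (fb i : l ⊕ l → F) = fb (σ i) := by
  rw [act_permSp]
  unfold fb
  rw [single_comp_symm]
  rfl

/-- The Weyl element of the `i`-th hyperbolic plane: `e_i ↦ f_i ↦ -e_i`. -/
def jw (i : l) : symplecticGroup l F := Tg (eb i) 1 * Tg (fb i) 1 * Tg (eb i) 1

theorem act_jw_eb_self (i : l) : act (jw i) (eb i : l ⊕ l → F) = fb i := by
  unfold jw
  simp only [act_mul, act_Tg, om_eb_eb, om_fb_eb, om_eb_fb, om_add_right, om_smul_right, if_pos,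
    mul_zero, zero_smul, add_zero, mul_one, one_smul, one_mul]
  simp

theorem act_jw_fb_self (i : l) : act (jw i) (fb i : l ⊕ l → F) = -eb i := by
  unfold jw
  simp only [act_mul, act_Tg, om_eb_eb, om_fb_eb, om_eb_fb, om_fb_fb, om_add_right, om_smul_right,
    if_pos, mul_zero, zero_smul, add_zero, mul_one, one_smul, one_mul]
  simp

theorem act_jw_eb_ne {i j : l} (h : i ≠ j) : act (jw i) (eb j : l ⊕ l → F) = eb j := by
  unfold jw
  simp only [act_mul, act_Tg, om_eb_eb, om_fb_eb, if_neg h, mul_zero, zero_smul, add_zero]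

theorem act_jw_fb_ne {i j : l} (h : i ≠ j) : act (jw i) (fb j : l ⊕ l → F) = fb j := by
  unfold jw
  simp only [act_mul, act_Tg, om_fb_fb, om_eb_fb, if_neg h, mul_zero, zero_smul, add_zero]

end Perm

section Cox

variable {F : Type*} [Field F] {n : ℕ}

/-- The Coxeter element: `e_0 ↦ e_1 ↦ ... ↦ e_n ↦ f_0 ↦ f_1 ↦ ... ↦ f_n ↦ -e_0`. -/
def cox (F : Type*) [Field F] (n : ℕ) : symplecticGroup (Fin (n + 1)) F :=
  jw 0 * permSp (finRotate (n + 1))

theorem act_cox_eb_castSucc (i : Fin n) :
    act (cox F n) (eb i.castSucc) = eb i.succ := by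
  unfold cox
  rw [act_mul, act_permSp_eb, finRotate_apply, Fin.coeSucc_eq_succ,
    act_jw_eb_ne (Fin.succ_ne_zero i).symm]

theorem act_cox_fb_castSucc (i : Fin n) :
    act (cox F n) (fb i.castSucc) = fb i.succ := by
  unfold cox
  rw [act_mul, act_permSp_fb, finRotate_apply, Fin.coeSucc_eq_succ,
    act_jw_fb_ne (Fin.succ_ne_zero i).symm]

theorem act_cox_eb_last : act (cox F n) (eb (Fin.last n)) = fb 0 := by
  unfold cox
  rw [act_mul, act_permSp_eb, finRotate_last, act_jw_eb_self]

theorem act_cox_fb_last : act (cox F n) (fb (Fin.last n)) = -eb 0 := by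
  unfold cox
  rw [act_mul, act_permSp_fb, finRotate_last, act_jw_fb_self]

end Cox

section Diag

variable {l : Type*} [DecidableEq l] [Fintype l] {F : Type*} [Field F]

/-- The diagonal element scaling `e_i` by `d i` and `f_i` by `(d i)⁻¹`. -/
def diagSp (d : l → Fˣ) : symplecticGroup l F :=
  ⟨Matrix.diagonal (Sum.elim (fun i => (d i : F)) (fun i => ((d i)⁻¹ : Fˣ))), by
    rw [mem_symplectic_iff_om]
    intro x y
    rw [om_eq_sum, om_eq_sum]
    apply Finset.sum_congr rfl
    intro i _
    simp only [mulVec_diagonal, Sum.elim_inl, Sum.elim_inr]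
    have h1 : ((d i)⁻¹ : Fˣ) * (d i : F) = 1 := by
      rw [← Units.val_mul, inv_mul_cancel, Units.val_one]
    linear_combination (x (Sum.inr i) * y (Sum.inl i) - x (Sum.inl i) * y (Sum.inr i)) * h1⟩

theorem diagSp_mul (d d' : l → Fˣ) : (diagSp d * diagSp d' : symplecticGroup l F) = diagSp (d * d') := by
  apply Subtype.ext
  show Matrix.diagonal _ * Matrix.diagonal _ = Matrix.diagonal _
  rw [Matrix.diagonal_mul_diagonal]
  congr 1
  funext k
  rcases k with k | k
  · simp
  · simp [mul_comm]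

theorem diagSp_one : (diagSp (1 : l → Fˣ) : symplecticGroup l F) = 1 := by
  apply Subtype.ext
  show Matrix.diagonal _ = 1
  rw [← Matrix.diagonal_one]
  congr 1
  funext k
  rcases k with k | k <;> simp

theorem diagSp_pow (d : l → Fˣ) (k : ℕ) : (diagSp d : symplecticGroup l F) ^ k = diagSp (d ^ k) := by
  induction k with
  | zero => rw [pow_zero, pow_zero, diagSp_one]
  | succ k ih => rw [pow_succ, ih, diagSp_mul, pow_succ]

theorem act_diagSp_eb (d : l → Fˣ) (i : l) :
    act (diagSp d) (eb i : l ⊕ l → F) = (d i : F) • eb i := by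
  unfold act diagSp eb
  funext k
  simp only [mulVec_diagonal, Pi.smul_apply, smul_eq_mul, Pi.single_apply]
  by_cases h : k = Sum.inl i
  · subst h
    simp
  · simp [h]

theorem act_diagSp_fb (d : l → Fˣ) (i : l) :
    act (diagSp d) (fb i : l ⊕ l → F) = (((d i)⁻¹ : Fˣ) : F) • fb i := by
  unfold act diagSp fb
  funext k
  simp only [mulVec_diagonal, Pi.smul_apply, smul_eq_mul, Pi.single_apply]
  by_cases h : k = Sum.inr i
  · subst h
    simp
  · simp [h]

end Diag

end Cfsg.Agent.Helper12.SpTwo
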