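import Cfsg.Agent.Helper12.RUSpH
import Cfsg.Agent.Helper12.SpTwoC

set_option autoImplicit false
set_option linter.unusedSimpArgs false
set_option linter.unusedSectionVars false

/-!
# The conjugating element `hh` and the conjugate `zz = hh * uu * hh⁻¹`
-/

namespace Cfsg.Agent.Helper12.RUSp

open Matrix Cfsg.Agent.Helper2.Sp Cfsg.Agent.Helper12.SpTwo

variable {F : Type*} [Field F] {n : ℕ}

theorem om_act_left {l : Type*} [DecidableEq l] [Fintype l] (g : symplecticGroup l F)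
    (x y : l ⊕ l → F) : om (act g x) y = om x (act g⁻¹ y) := by
  rw [← om_act g⁻¹ (act g x) y, ← act_mul, inv_mul_cancel, act_one]

theorem om_act_right {l : Type*} [DecidableEq l] [Fintype l] (g : symplecticGroup l F)
    (x y : l ⊕ l → F) : om x (act g y) = om (act g⁻¹ x) y := by
  rw [← om_act g⁻¹ x (act g y), ← act_mul, inv_mul_cancel, act_one]

/-- the conjugating element -/
def hh (hn : 2 ≤ n) (F : Type*) [Field F] : symplecticGroup (Fin n) F :=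
  jw (⟨1, by omega⟩ : Fin n) * Rg (-1) (eb (⟨0, by omega⟩ : Fin n)) (fb (⟨1, by omega⟩ : Fin n)) *
    permSp (Equiv.swap (⟨0, by omega⟩ : Fin n) ⟨1, by omega⟩)

/-- the third generator -/
def zz (hn : 2 ≤ n) (F : Type*) [Field F] : symplecticGroup (Fin n) F :=
  hh hn F * uu n F * (hh hn F)⁻¹

section hhfacts

variable (hn : 2 ≤ n)

theorem ne01 : (⟨0, by omega⟩ : Fin n) ≠ ⟨1, by omega⟩ := by
  intro h
  simp only [Fin.mk.injEq] at h
  omega

theorem om_e0_f1 : om (eb (⟨0, by omega⟩ : Fin n) : Fin n ⊕ Fin n → F) (fb (⟨1, by omega⟩ : Fin n)) = 0 := by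
  rw [om_eb_fb, if_neg (ne01 hn)]

theorem hh_e0 : act (hh hn F) (eb (⟨0, by omega⟩ : Fin n)) =
    fb (⟨1, by omega⟩ : Fin n) - eb (⟨0, by omega⟩ : Fin n) := by
  unfold hh
  rw [act_mul, act_mul, act_permSp_eb, Equiv.swap_apply_left, act_Rg (om_e0_f1 hn), om_eb_eb,
    om_fb_eb, if_pos rfl, zero_smul, zero_add, one_smul, act_add, act_smul, act_jw_eb_self,
    act_jw_eb_ne (ne01 hn).symm, neg_one_smul, ← sub_eq_add_neg]

theorem hh_e1 : act (hh hn F) (eb (⟨1, by omega⟩ : Fin n)) = eb (⟨0, by omega⟩ : Fin n) := by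
  unfold hh
  rw [act_mul, act_mul, act_permSp_eb, Equiv.swap_apply_right, act_Rg (om_e0_f1 hn), om_eb_eb,
    om_fb_eb, if_neg (ne01 hn).symm, zero_smul, zero_smul, add_zero, smul_zero, add_zero,
    act_jw_eb_ne (ne01 hn).symm]

theorem hh_f0 : act (hh hn F) (fb (⟨0, by omega⟩ : Fin n)) = -eb (⟨1, by omega⟩ : Fin n) := by
  unfold hh
  rw [act_mul, act_mul, act_permSp_fb, Equiv.swap_apply_left, act_Rg (om_e0_f1 hn), om_e0_f1 hn,
    om_fb_fb, zero_smul, zero_smul, add_zero, smul_zero, add_zero, act_jw_fb_self]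

theorem hh_f1 : act (hh hn F) (fb (⟨1, by omega⟩ : Fin n)) =
    fb (⟨0, by omega⟩ : Fin n) - eb (⟨1, by omega⟩ : Fin n) := by
  unfold hh
  rw [act_mul, act_mul, act_permSp_fb, Equiv.swap_apply_right, act_Rg (om_e0_f1 hn), om_eb_fb,
    if_pos rfl, om_fb_fb, zero_smul, add_zero, act_add, act_smul, act_smul, act_jw_fb_self,
    act_jw_fb_ne (ne01 hn).symm]
  simp only [neg_smul, one_smul, neg_neg, smul_neg]
  abel

theorem hh_f_ge (k : ℕ) (hk : k < n) (h2 : 2 ≤ k) :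
    act (hh hn F) (fb (⟨k, hk⟩ : Fin n)) = fb (⟨k, hk⟩ : Fin n) := by
  have hk0 : (⟨k, hk⟩ : Fin n) ≠ ⟨0, by omega⟩ := by
    intro h; simp only [Fin.mk.injEq] at h; omega
  have hk1 : (⟨k, hk⟩ : Fin n) ≠ ⟨1, by omega⟩ := by
    intro h; simp only [Fin.mk.injEq] at h; omega
  unfold hh
  rw [act_mul, act_mul, act_permSp_fb, Equiv.swap_apply_of_ne_of_ne hk0 hk1,
    act_Rg (om_e0_f1 hn), om_eb_fb, if_neg hk0.symm, om_fb_fb, zero_smul, zero_smul, add_zero,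
    smul_zero, add_zero, act_jw_fb_ne hk1.symm]

theorem hh_inv_f_ge (k : ℕ) (hk : k < n) (h2 : 2 ≤ k) :
    act (hh hn F)⁻¹ (fb (⟨k, hk⟩ : Fin n)) = fb (⟨k, hk⟩ : Fin n) :=
  act_inv_eq (hh_f_ge hn k hk h2)

theorem hh_inv_e0 : act (hh hn F)⁻¹ (eb (⟨0, by omega⟩ : Fin n)) = eb (⟨1, by omega⟩ : Fin n) :=
  act_inv_eq (hh_e1 hn)

theorem uu_e1 : act (uu n F) (eb (⟨1, by omega⟩ : Fin n)) =
    eb (⟨1, by omega⟩ : Fin n) + eb (⟨0, by omega⟩ : Fin n) := by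
  rw [uu_e_succ 0 (by omega), uu_e0]

theorem zz_e0 : act (zz hn F) (eb (⟨0, by omega⟩ : Fin n)) = fb (⟨1, by omega⟩ : Fin n) := by
  unfold zz
  rw [act_mul, act_mul, hh_inv_e0, uu_e1 hn, act_add, hh_e1, hh_e0]
  abel

theorem hh_inv_f1 : act (hh hn F)⁻¹ (fb (⟨1, by omega⟩ : Fin n)) =
    eb (⟨0, by omega⟩ : Fin n) + eb (⟨1, by omega⟩ : Fin n) := by
  apply act_inv_eq
  rw [act_add, hh_e0, hh_e1]
  abel

theorem zz_f1 : act (zz hn F) (fb (⟨1, by omega⟩ : Fin n)) =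
    (2 : F) • fb (⟨1, by omega⟩ : Fin n) - eb (⟨0, by omega⟩ : Fin n) := by
  unfold zz
  rw [act_mul, act_mul, hh_inv_f1, act_add, uu_e1 hn, uu_e0, act_add, act_add, hh_e1, hh_e0,
    two_smul]
  abel

end hhfacts

section rank3

variable (hn : 3 ≤ n)

theorem zz_f_last : act (zz (by omega : 2 ≤ n) F) (fb (⟨n - 1, by omega⟩ : Fin n)) =
    fb (⟨n - 1, by omega⟩ : Fin n) +
      act (hh (by omega : 2 ≤ n) F) (act (uu n F) (eb (⟨n - 1, by omega⟩ : Fin n))) := by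
  unfold zz
  rw [act_mul, act_mul, hh_inv_f_ge (by omega) (n - 1) (by omega) (by omega), uu_f_last (by omega),
    act_add, hh_f_ge (by omega) (n - 1) (by omega) (by omega)]

theorem zz_hz2 : om (eb (⟨0, by omega⟩ : Fin n) : Fin n ⊕ Fin n → F)
    (act (zz (by omega : 2 ≤ n) F) (fb (⟨n - 1, by omega⟩ : Fin n))) = 0 := by
  rw [zz_f_last hn, om_add_right, om_eb_fb, if_neg (by simp only [Fin.mk.injEq]; omega), zero_add,
    om_act_right, hh_inv_e0, om_eb_left, uu_e_inr, neg_zero]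

theorem zz_hz3 : om (act (zz (by omega : 2 ≤ n) F) (fb (⟨n - 1, by omega⟩ : Fin n)))
    (fb (⟨2, by omega⟩ : Fin n) : Fin n ⊕ Fin n → F) = -1 := by
  rw [zz_f_last hn, om_add_left, om_fb_fb, zero_add, om_act_left,
    hh_inv_f_ge (by omega) 2 (by omega) le_rfl, om_fb_right, uu_e_inl,
    if_pos (by rw [Fin.le_def]; simp only; omega)]

end rank3

end Cfsg.Agent.Helper12.RUSp
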