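import Cfsg.Agent.Helper12.RUSpI
import Cfsg.Agent.Helper12.RUNB

set_option autoImplicit false
set_option linter.unusedSimpArgs false
set_option linter.unusedSectionVars false

/-!
# Assembly for rank at least three
-/

namespace Cfsg.Agent.Helper12.RUSp

open Matrix Cfsg.Agent.Helper2.Sp Cfsg.Agent.Helper12.SpTwo

variable {F : Type*} [Field F] {n : ℕ}

/-- the conjugating element of the second generator, rank at least three -/
def gI (hn : 3 ≤ n) (c : F) : symplecticGroup (Fin n) F :=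
  qq (eb (⟨0, by omega⟩ : Fin n)) (c • fb (⟨1, by omega⟩ : Fin n) + (1 : F) • eb (⟨2, by omega⟩ : Fin n)) 0 *
    Tg (eb (⟨1, by omega⟩ : Fin n)) (-1)

theorem seedI (hn : 3 ≤ n) (c : F) :
    gI hn c * uu n F * (gI hn c)⁻¹ * (uu n F)⁻¹ =
      qq (eb (⟨0, by omega⟩ : Fin n)) (c • fb (⟨2, by omega⟩ : Fin n)) (-1) := by
  have hv : om (eb (⟨0, by omega⟩ : Fin n) : Fin n ⊕ Fin n → F)
      (c • fb (⟨1, by omega⟩ : Fin n) + (1 : F) • eb (⟨2, by omega⟩ : Fin n)) = 0 := by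
    simp [om_add_right, om_smul_right, om_eb_eb, om_eb_fb]
  have hue' : act (uu n F) (eb (⟨1, by omega⟩ : Fin n)) =
      eb (⟨1, by omega⟩ : Fin n) + eb (⟨0, by omega⟩ : Fin n) := uu_e1 (by omega)
  have hu2 : act (uu n F) (eb (⟨2, by omega⟩ : Fin n)) =
      eb (⟨2, by omega⟩ : Fin n) + (eb (⟨1, by omega⟩ : Fin n) + eb (⟨0, by omega⟩ : Fin n)) := by
    rw [uu_e_succ 1 (by omega), hue']
  have huf1 : act (uu n F) (fb (⟨1, by omega⟩ : Fin n)) =
      fb (⟨1, by omega⟩ : Fin n) - fb (⟨2, by omega⟩ : Fin n) := uu_f 1 (by omega)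
  have key := seedB (u := uu n F) (e := eb (⟨0, by omega⟩ : Fin n))
    (e' := eb (⟨1, by omega⟩ : Fin n)) (uu_e0 (by omega)) (om_eb_eb _ _) hue' hv (1 : F)
  unfold gI
  rw [key, act_add, act_smul, act_smul, huf1, hu2]
  have ev : (c • fb (⟨1, by omega⟩ : Fin n) + (1 : F) • eb (⟨2, by omega⟩ : Fin n) +
      (1 : F) • eb (⟨1, by omega⟩ : Fin n) -
      (c • (fb (⟨1, by omega⟩ : Fin n) - fb (⟨2, by omega⟩ : Fin n)) +
        (1 : F) • (eb (⟨2, by omega⟩ : Fin n) + (eb (⟨1, by omega⟩ : Fin n) + eb (⟨0, by omega⟩ : Fin n))))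
      : Fin n ⊕ Fin n → F) =
      c • fb (⟨2, by omega⟩ : Fin n) + (-1 : F) • eb (⟨0, by omega⟩ : Fin n) := by
    simp only [smul_sub, smul_add, one_smul, neg_smul]
    abel
  have es : (1 : F) + om (c • fb (⟨1, by omega⟩ : Fin n) + (1 : F) • eb (⟨2, by omega⟩ : Fin n)
        : Fin n ⊕ Fin n → F) ((1 : F) • eb (⟨1, by omega⟩ : Fin n)) +
      om (c • fb (⟨1, by omega⟩ : Fin n) + (1 : F) • eb (⟨2, by omega⟩ : Fin n) +
        (1 : F) • eb (⟨1, by omega⟩ : Fin n) : Fin n ⊕ Fin n → F)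
        (-(c • (fb (⟨1, by omega⟩ : Fin n) - fb (⟨2, by omega⟩ : Fin n)) +
        (1 : F) • (eb (⟨2, by omega⟩ : Fin n) + (eb (⟨1, by omega⟩ : Fin n) + eb (⟨0, by omega⟩ : Fin n))))) =
      1 := by
    simp only [om_add_left, om_add_right, om_smul_left, om_smul_right, om_neg_right, om_sub_right,
      om_eb_eb, om_fb_fb, om_eb_fb, om_fb_eb, Fin.mk.injEq]
    norm_num
  rw [ev, es, qq_add_smul (by rw [om_smul_right, om_eb_fb, if_neg (by simp), mul_zero])]
  congr 1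
  ring

theorem caseI [Fintype F] (hn : 3 ≤ n) :
    ∃ g : symplecticGroup (Fin n) F,
      Subgroup.closure ({uu n F, g * uu n F * g⁻¹,
        hh (by omega : 2 ≤ n) F * uu n F * (hh (by omega : 2 ≤ n) F)⁻¹} :
        Set (symplecticGroup (Fin n) F)) = ⊤ := by
  obtain ⟨c, hc0, hc⟩ := Cfsg.Agent.Helper12.RUN.exists_ring_gen F
  refine ⟨gI hn c, ?_⟩
  set H := Subgroup.closure ({uu n F, gI hn c * uu n F * (gI hn c)⁻¹,
        hh (by omega : 2 ≤ n) F * uu n F * (hh (by omega : 2 ≤ n) F)⁻¹} :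
        Set (symplecticGroup (Fin n) F)) with hH
  have hu : uu n F ∈ H := Subgroup.subset_closure (by simp)
  have hu2 : gI hn c * uu n F * (gI hn c)⁻¹ ∈ H := Subgroup.subset_closure (by simp)
  have hz : zz (by omega : 2 ≤ n) F ∈ H := Subgroup.subset_closure (by simp [zz])
  have hseed : qq (eb (⟨0, by omega⟩ : Fin n)) (c • fb (⟨2, by omega⟩ : Fin n)) (-1) ∈ H := by
    rw [← seedI hn c]
    exact H.mul_mem hu2 (H.inv_mem hu)
  have hQ := engineI hn hu hz (uu_e0 (by omega)) (fun k hk => uu_e_sub k hk)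
    (fun k hk _ => uu_f k hk) (uu_f_last (by omega)) (zz_e0 (by omega)) (zz_hz2 hn) (zz_hz3 hn)
    hc0 hc (neg_ne_zero.mpr one_ne_zero) hseed
  refine finish (by omega) hu hz hQ (zz_e0 (by omega)) (fun k hk _ => uu_f k hk)
    (uu_f_last (by omega)) ?_
  rw [om_fb_left, uu_e_inl, if_pos (by rw [Fin.le_def]; simp only; omega)]

end Cfsg.Agent.Helper12.RUSp
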