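import Cfsg.Agent.Helper12.RUSpJ

set_option autoImplicit false
set_option linter.unusedSimpArgs false
set_option linter.unusedSectionVars false

/-!
# Assembly for rank two
-/

namespace Cfsg.Agent.Helper12.RUSp

open Matrix Cfsg.Agent.Helper2.Sp Cfsg.Agent.Helper12.SpTwo

variable {F : Type*} [Field F]

/-- the conjugating element of the second generator, rank two -/
def gII (b : F) : symplecticGroup (Fin 2) F :=
  qq (eb (⟨0, by omega⟩ : Fin 2)) (b • fb (⟨1, by omega⟩ : Fin 2)) 0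

theorem uu2_f1 : act (uu 2 F) (fb (⟨1, by omega⟩ : Fin 2)) =
    fb (⟨1, by omega⟩ : Fin 2) + act (uu 2 F) (eb (⟨1, by omega⟩ : Fin 2)) :=
  uu_f_last (n := 2) (F := F) (by omega)

theorem seedII (b : F) :
    gII b * uu 2 F * (gII b)⁻¹ * (uu 2 F)⁻¹ =
      qq (eb (⟨0, by omega⟩ : Fin 2)) ((-b) • eb (⟨1, by omega⟩ : Fin 2)) (-b ^ 2 + 2 * (-b)) := by
  have hv : om (eb (⟨0, by omega⟩ : Fin 2) : Fin 2 ⊕ Fin 2 → F)
      (b • fb (⟨1, by omega⟩ : Fin 2)) = 0 := by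
    rw [om_smul_right, om_eb_fb, if_neg (by simp), mul_zero]
  have key := seedA (u := uu 2 F) (uu_e0 (by omega)) hv
  unfold gII
  rw [key, act_smul, uu2_f1, uu_e1 (le_refl 2)]
  have ev : (b • fb (⟨1, by omega⟩ : Fin 2) -
      b • (fb (⟨1, by omega⟩ : Fin 2) + (eb (⟨1, by omega⟩ : Fin 2) + eb (⟨0, by omega⟩ : Fin 2)))
      : Fin 2 ⊕ Fin 2 → F) =
      (-b) • eb (⟨1, by omega⟩ : Fin 2) + (-b) • eb (⟨0, by omega⟩ : Fin 2) := by
    simp only [smul_add, neg_smul]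
    abel
  have es : -om (b • fb (⟨1, by omega⟩ : Fin 2) : Fin 2 ⊕ Fin 2 → F)
      (b • (fb (⟨1, by omega⟩ : Fin 2) + (eb (⟨1, by omega⟩ : Fin 2) + eb (⟨0, by omega⟩ : Fin 2)))) =
      -b ^ 2 := by
    simp only [om_add_right, om_smul_left, om_smul_right, om_fb_fb, om_fb_eb, Fin.mk.injEq]
    norm_num
    ring
  rw [ev, es, qq_add_smul (by rw [om_smul_right, om_eb_eb, mul_zero])]

theorem finish_two {H : Subgroup (symplecticGroup (Fin 2) F)}
    (hu : uu 2 F ∈ H) (hz : zz (le_refl 2) F ∈ H)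
    (hQ : (eb (⟨0, by omega⟩ : Fin 2) : Fin 2 ⊕ Fin 2 → F) ∈ QS H) : H = ⊤ := by
  refine finish (le_refl 2) hu hz hQ (zz_e0 (le_refl 2)) (fun k hk _ => uu_f k hk)
    (uu_f_last (by omega)) ?_
  rw [om_fb_left, uu_e_inl, if_pos (by rw [Fin.le_def])]

theorem caseII [Fintype F] (h2 : (2 : F) ≠ 0) :
    ∃ g : symplecticGroup (Fin 2) F,
      Subgroup.closure ({uu 2 F, g * uu 2 F * g⁻¹,
        hh (le_refl 2) F * uu 2 F * (hh (le_refl 2) F)⁻¹} :
        Set (symplecticGroup (Fin 2) F)) = ⊤ := by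
  obtain ⟨c, hc0, hc⟩ := Cfsg.Agent.Helper12.RUN.exists_ring_gen F
  refine ⟨gII (-(c / 2)), ?_⟩
  set H := Subgroup.closure ({uu 2 F, gII (-(c / 2)) * uu 2 F * (gII (-(c / 2)))⁻¹,
        hh (le_refl 2) F * uu 2 F * (hh (le_refl 2) F)⁻¹} :
        Set (symplecticGroup (Fin 2) F)) with hH
  have hu : uu 2 F ∈ H := Subgroup.subset_closure (by simp)
  have hu2 : gII (-(c / 2)) * uu 2 F * (gII (-(c / 2)))⁻¹ ∈ H := Subgroup.subset_closure (by simp)
  have hz : zz (le_refl 2) F ∈ H := Subgroup.subset_closure (by simp [zz])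
  have hseed := H.mul_mem hu2 (H.inv_mem hu)
  rw [seedII, neg_neg] at hseed
  have hQ := engineII hu hz (uu_e0 (by omega)) (uu_e_sub 0 (by omega)) uu2_f1 (zz_e0 (le_refl 2))
    h2 (div_ne_zero hc0 h2) (by rw [mul_div_cancel₀ _ h2]; exact hc) hseed
  exact finish_two hu hz hQ

section char2

theorem zz2_e1 : act (zz (le_refl 2) F) (eb (⟨1, by omega⟩ : Fin 2)) = fb (⟨0, by omega⟩ : Fin 2) := by
  have hinv : act (hh (le_refl 2) F)⁻¹ (eb (⟨1, by omega⟩ : Fin 2)) = -fb (⟨0, by omega⟩ : Fin 2) := by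
    apply act_inv_eq
    rw [act_neg, hh_f0, neg_neg]
  unfold zz
  rw [act_mul, act_mul, hinv, act_neg, uu_f 0 (by omega), act_neg, act_sub, hh_f0, hh_f1]
  abel

theorem zz2_f0 : act (zz (le_refl 2) F) (fb (⟨0, by omega⟩ : Fin 2)) =
    (2 : F) • fb (⟨0, by omega⟩ : Fin 2) - eb (⟨1, by omega⟩ : Fin 2) + fb (⟨1, by omega⟩ : Fin 2) := by
  have hinv : act (hh (le_refl 2) F)⁻¹ (fb (⟨0, by omega⟩ : Fin 2)) =
      fb (⟨1, by omega⟩ : Fin 2) - fb (⟨0, by omega⟩ : Fin 2) := by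
    apply act_inv_eq
    rw [act_sub, hh_f0, hh_f1]
    abel
  unfold zz
  rw [act_mul, act_mul, hinv, act_sub, uu2_f1, uu_e1 (le_refl 2), uu_f 0 (by omega), act_sub, act_add,
    act_add, act_sub, hh_f1, hh_e1, hh_e0, hh_f0, two_smul]
  abel

theorem zz_sq (h2 : (2 : F) = 0) :
    zz (le_refl 2) F * zz (le_refl 2) F =
      Tg (eb (⟨0, by omega⟩ : Fin 2)) (1 : F) * Tg (fb (⟨1, by omega⟩ : Fin 2)) 1 := by
  haveI : CharP F 2 := CharTwo.of_one_ne_zero_of_two_eq_zero one_ne_zero h2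
  have hneg : ∀ x : Fin 2 ⊕ Fin 2 → F, -x = x := fun x => CharTwo.neg_eq x
  have h2s : ∀ x : Fin 2 ⊕ Fin 2 → F, (2 : F) • x = 0 := fun x => by rw [h2, zero_smul]
  have i2 : ∀ i : Fin 2, i = ⟨0, by omega⟩ ∨ i = ⟨1, by omega⟩ := by
    intro i
    rcases i with ⟨k, hk⟩
    simp only [Fin.mk.injEq]
    omega
  apply ext_basis
  · intro i
    rcases i2 i with rfl | rfl
    · rw [act_mul, zz_e0, zz_f1, h2s, zero_sub, hneg, act_mul, act_Tg, act_Tg]
      simp only [om_fb_eb, om_eb_eb, om_add_right, om_smul_right, Fin.mk.injEq]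
      simp
    · rw [act_mul, zz2_e1, zz2_f0, h2s, zero_sub, hneg, act_mul, act_Tg, act_Tg]
      simp only [om_fb_eb, om_eb_eb, om_eb_fb, om_add_right, om_smul_right, Fin.mk.injEq]
      simp
  · intro i
    rcases i2 i with rfl | rfl
    · rw [act_mul, zz2_f0, h2s, zero_sub, hneg, act_add, zz2_e1, zz_f1, h2s, zero_sub, hneg, act_mul,
        act_Tg, act_Tg]
      simp only [om_fb_fb, om_eb_fb, om_add_right, om_smul_right, Fin.mk.injEq]
      simp [hneg]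
    · rw [act_mul, zz_f1, h2s, zero_sub, hneg, zz_e0, act_mul, act_Tg, act_Tg]
      simp only [om_fb_fb, om_eb_fb, om_add_right, om_smul_right, Fin.mk.injEq]
      simp

theorem exists_ne_zero_one [Fintype F] (hcard : 2 < Fintype.card F) : ∃ a : F, a ≠ 0 ∧ a ≠ 1 := by
  classical
  by_contra hcon
  have hsub : (Finset.univ : Finset F) ⊆ {0, 1} := by
    intro x _
    by_contra hx
    apply hcon
    refine ⟨x, ?_, ?_⟩
    · intro h; apply hx; rw [h]; simp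
    · intro h; apply hx; rw [h]; simp
  have h1 := Finset.card_le_card hsub
  have h3 : ({0, 1} : Finset F).card ≤ 2 := Finset.card_le_two
  rw [Finset.card_univ] at h1
  omega

theorem caseIII [Fintype F] (h2 : (2 : F) = 0) (hcard : 2 < Fintype.card F) :
    ∃ g : symplecticGroup (Fin 2) F,
      Subgroup.closure ({uu 2 F, g * uu 2 F * g⁻¹,
        hh (le_refl 2) F * uu 2 F * (hh (le_refl 2) F)⁻¹} :
        Set (symplecticGroup (Fin 2) F)) = ⊤ := by
  obtain ⟨c, hc0, hc⟩ := Cfsg.Agent.Helper12.RUN.exists_ring_gen F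
  haveI : CharP F 2 := CharTwo.of_one_ne_zero_of_two_eq_zero one_ne_zero h2
  obtain ⟨t, ht⟩ := FiniteField.isSquare_of_char_two (ringChar.eq F 2) c
  obtain ⟨a₁, ha₁0, ha₁1⟩ := exists_ne_zero_one hcard
  have ht0 : t ≠ 0 := by
    intro h
    rw [h, mul_zero] at ht
    exact hc0 ht
  refine ⟨gII (-t), ?_⟩
  set H := Subgroup.closure ({uu 2 F, gII (-t) * uu 2 F * (gII (-t))⁻¹,
        hh (le_refl 2) F * uu 2 F * (hh (le_refl 2) F)⁻¹} :
        Set (symplecticGroup (Fin 2) F)) with hH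
  have hu : uu 2 F ∈ H := Subgroup.subset_closure (by simp)
  have hu2 : gII (-t) * uu 2 F * (gII (-t))⁻¹ ∈ H := Subgroup.subset_closure (by simp)
  have hz : zz (le_refl 2) F ∈ H := Subgroup.subset_closure (by simp [zz])
  have hseed := H.mul_mem hu2 (H.inv_mem hu)
  rw [seedII, neg_neg] at hseed
  have hzz : Tg (eb (⟨0, by omega⟩ : Fin 2)) (1 : F) * Tg (fb (⟨1, by omega⟩ : Fin 2)) 1 ∈ H := by
    rw [← zz_sq h2]
    exact H.mul_mem hz hz
  have hQ := engineIII hu hz (uu_e0 (by omega)) (uu_e_sub 0 (by omega)) uu2_f1 (zz_e0 (le_refl 2))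
    (zz_f1 (le_refl 2)) hzz h2 ha₁0 ha₁1 ht0 (by rw [pow_two, ← ht]; exact hc) hseed
  exact finish_two hu hz hQ

end char2

end Cfsg.Agent.Helper12.RUSp
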