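import Mathlib
import Cfsg.Agent.Helper12.RedundantSL2B

set_option autoImplicit false

namespace Cfsg.Agent.Helper12

open Cfsg
open scoped Pointwise

variable {F : Type*} [Field F]

local notation "S2" => Matrix.SpecialLinearGroup (Fin 2) F
local notation "M2" => Matrix (Fin 2) (Fin 2) F

/-- An element of odd prime order of the torus does not normalise a Sylow 2-subgroup lying in
the normaliser of the torus. -/
theorem not_mem_normalizer_of_odd_order {A : M2} {ε : F} (hgen : IsTorusGen A ε)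
    (hw : ∃ w : S2, (w : M2) * A = -(A * (w : M2))) (Q : Sylow 2 S2)
    (hQ : (Q : Subgroup S2) ≤ normA A) {g : S2} (hg : g ∈ torusA A) {r : ℕ} (hr : r.Prime)
    (hr2 : r ≠ 2) (hord : orderOf g = r) :
    g ∉ Subgroup.normalizer ((Q : Subgroup S2) : Set S2) := by
  intro hgN
  obtain ⟨y, hyQ, hyT⟩ := hgen.exists_mem_sylow_not_mem_torusA Q hw
  have hy : (y : M2) * A = -(A * (y : M2)) := by
    rcases hQ hyQ with h | h
    · exact absurd h hyT
    · exact h
  have hinv := hgen.conj_eq_inv hy hg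
  have h1 : g * y * g⁻¹ ∈ (Q : Subgroup S2) := (Subgroup.mem_normalizer_iff.1 hgN y).1 hyQ
  have h2 : g * y * g⁻¹ * y⁻¹ ∈ (Q : Subgroup S2) :=
    (Q : Subgroup S2).mul_mem h1 ((Q : Subgroup S2).inv_mem hyQ)
  have h3 : g * y * g⁻¹ * y⁻¹ = g ^ 2 := by
    have : y * g⁻¹ * y⁻¹ = g := by
      have h4 : (y * g * y⁻¹)⁻¹ = y * g⁻¹ * y⁻¹ := by group
      rw [← h4, hinv, inv_inv]
    calc g * y * g⁻¹ * y⁻¹ = g * (y * g⁻¹ * y⁻¹) := by group
      _ = g ^ 2 := by rw [this, sq]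
  rw [h3] at h2
  obtain ⟨k, hk⟩ := Q.isPGroup' ⟨g ^ 2, h2⟩
  have hk' : (g ^ 2) ^ (2 ^ k) = 1 := by
    have := congrArg (fun z : (Q : Subgroup S2) => (z : S2)) hk
    simpa using this
  rw [← pow_mul, ← pow_succ'] at hk'
  have hdvd := orderOf_dvd_of_pow_eq_one hk'
  rw [hord] at hdvd
  have := hr.dvd_of_dvd_pow hdvd
  exact hr2 ((Nat.prime_dvd_prime_iff_eq hr Nat.prime_two).1 this)

theorem mem_smul_sylow_iff {G : Type*} [Group G] {p : ℕ} [Fact p.Prime] (g x : G)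
    (Q : Sylow p G) : x ∈ (g • Q : Sylow p G) ↔ g⁻¹ * x * g ∈ Q := by
  show x ∈ ((g • Q : Sylow p G) : Subgroup G) ↔ _
  rw [Sylow.coe_subgroup_smul, Subgroup.mem_pointwise_smul_iff_inv_smul_mem]
  simp [MulAut.smul_def]
  rfl

/-- When the torus attached to a Sylow 2-subgroup is not a 2-group, the Sylow 2-subgroup is
redundant. -/
theorem hasRedundantSylow_sl2_two [Fintype F] (hodd : Odd (Fintype.card F))
    (h1 : Fintype.card F % 4 = 1 → ¬ ∃ k : ℕ, Fintype.card F - 1 = 2 ^ k)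
    (h3 : Fintype.card F % 4 = 3 → ¬ ∃ k : ℕ, Fintype.card F + 1 = 2 ^ k) :
    HasRedundantSylow 2 S2 := by
  classical
  have h2 := two_ne_zero_of_odd_card hodd
  obtain ⟨Q⟩ : Nonempty (Sylow 2 S2) := Sylow.nonempty
  obtain ⟨A, ε, hgen, hw, hQ, _, hcard⟩ := exists_isTorusGen_sylow_two_card hodd Q
  have hnot : ¬ ∃ k : ℕ, Nat.card (torusA A) = 2 ^ k := by
    rcases hcard with ⟨h4, hc⟩ | ⟨h4, hc⟩
    · rw [hc]; exact h1 h4
    · rw [hc]; exact h3 h4
  obtain ⟨r, hr, hrdvd, hrodd⟩ : ∃ r : ℕ, r.Prime ∧ r ∣ Nat.card (torusA A) ∧ Odd r := by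
    rcases Nat.eq_two_pow_or_exists_odd_prime_and_dvd (Nat.card (torusA A)) with ⟨k, hk⟩ | h
    · exact absurd ⟨k, hk⟩ hnot
    · exact h
  have hr2 : r ≠ 2 := by
    rintro rfl
    exact absurd hrodd (by decide)
  have : Fact r.Prime := ⟨hr⟩
  obtain ⟨g₀, hg₀⟩ := exists_prime_orderOf_dvd_card' r hrdvd
  have hg₀' : orderOf (g₀ : S2) = r := by rw [← hg₀, Subgroup.orderOf_coe]
  have hg₀N := not_mem_normalizer_of_odd_order hgen hw Q hQ g₀.2 hr hr2 hg₀'
  have hne : (g₀ : S2) • Q ≠ Q := fun h => hg₀N (Sylow.smul_eq_iff_mem_normalizer.1 h)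
  obtain ⟨y, hyQ, hyT⟩ := hgen.exists_mem_sylow_not_mem_torusA Q hw
  obtain ⟨c, hcQ, hcT, hcc⟩ := hgen.exists_mem_sylow_sq Q hQ (eight_dvd_card_sylow_two hodd Q)
    hyQ hyT
  refine ⟨Q, ?_⟩
  intro x hx
  by_cases hxQ : x ∈ Q
  · by_cases hxT : x ∈ torusA A
    · refine ⟨(g₀ : S2) • Q, hne, ?_⟩
      rw [mem_smul_sylow_iff]
      have : (g₀ : S2)⁻¹ * x * (g₀ : S2) = x := by
        rw [mul_assoc, hgen.torus_comm hxT g₀.2]
        group
      rw [this]; exact hxQ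
    · have hxa : (x : M2) * A = -(A * (x : M2)) := by
        rcases hQ hxQ with h | h
        · exact absurd h hxT
        · exact h
      have hxx : x * x = -1 := by
        apply Subtype.ext
        rw [hgen.sq_of_anticomm hxa, sl2_neg_one_coe]
      obtain ⟨h, hh⟩ := isConj_iff.1 (isConj_of_sq_eq_neg_one h2 c x hcc hxx)
      have hmem1 : x ∈ (h • Q : Sylow 2 S2) := by
        rw [mem_smul_sylow_iff, ← hh]
        have : h⁻¹ * (h * c * h⁻¹) * h = c := by group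
        rw [this]; exact hcQ
      have hmem2 : x ∈ ((h * (g₀ : S2)) • Q : Sylow 2 S2) := by
        rw [mem_smul_sylow_iff, ← hh]
        have : (h * (g₀ : S2))⁻¹ * (h * c * h⁻¹) * (h * (g₀ : S2)) =
            (g₀ : S2)⁻¹ * c * (g₀ : S2) := by group
        rw [this, mul_assoc, hgen.torus_comm hcT g₀.2]
        have : (g₀ : S2)⁻¹ * ((g₀ : S2) * c) = c := by group
        rw [this]; exact hcQ
      by_cases hhQ : h • Q = Q
      · refine ⟨(h * (g₀ : S2)) • Q, ?_, hmem2⟩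
        rw [mul_smul]
        intro h'
        apply hne
        have : h • ((g₀ : S2) • Q) = h • Q := by rw [h', hhQ]
        exact smul_left_cancel h this
      · exact ⟨h • Q, hhQ, hmem1⟩
  · obtain ⟨k, hk⟩ := hx
    have hpx : IsPGroup 2 (Subgroup.zpowers x) := by
      rw [IsPGroup.iff_card, Nat.card_zpowers, hk]
      exact ⟨k, rfl⟩
    obtain ⟨P, hP⟩ := hpx.exists_le_sylow
    have hxP : x ∈ P := hP (Subgroup.mem_zpowers x)
    refine ⟨P, ?_, hxP⟩
    rintro rfl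
    exact hxQ hxP

end Cfsg.Agent.Helper12
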