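import Mathlib
import Cfsg.Agent.Helper12.RedundantSL2C

set_option autoImplicit false

namespace Cfsg.Agent.Helper12

open Cfsg

variable {F : Type*} [Field F]

local notation "S2" => Matrix.SpecialLinearGroup (Fin 2) F
local notation "M2" => Matrix (Fin 2) (Fin 2) F

theorem two_pow_mod_four (k : ℕ) : (k = 0 ∧ 2 ^ k = 1) ∨ (k = 1 ∧ 2 ^ k = 2) ∨ 2 ^ k % 4 = 0 := by
  rcases k with _ | _ | k
  · left; simp
  · right; left; simp
  · right; right
    rw [pow_succ, pow_succ, mul_assoc]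
    omega

/-- The arithmetic behind the redundant Sylow 2-subgroups of `SL₂(q)`. -/
theorem redundant_arith (q : ℕ) (hodd : Odd q) (hq : 1 < q) :
    ((q % 4 = 1 ∧ ∃ k : ℕ, q - 1 = 2 ^ k) ∨ (q % 4 = 3 ∧ ∃ k : ℕ, q + 1 = 2 ^ k)) ↔
      ¬ ((¬ ∃ k : ℕ, q + 1 = 2 ^ k) ∧ (¬ ∃ k : ℕ, q = 2 ^ k) ∧ ¬ ∃ k : ℕ, q = 2 ^ k + 1) := by
  have hmod4 : q % 4 = 1 ∨ q % 4 = 3 := by
    obtain ⟨m, hm⟩ := hodd
    omega
  constructor
  · rintro (⟨_, k, hk⟩ | ⟨_, k, hk⟩) ⟨n1, _, n3⟩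
    · exact n3 ⟨k, by omega⟩
    · exact n1 ⟨k, hk⟩
  · intro h
    by_contra hT
    have hT1 : q % 4 = 1 → ∀ k : ℕ, q - 1 ≠ 2 ^ k := fun h4 k hk => hT (Or.inl ⟨h4, k, hk⟩)
    have hT3 : q % 4 = 3 → ∀ k : ℕ, q + 1 ≠ 2 ^ k := fun h4 k hk => hT (Or.inr ⟨h4, k, hk⟩)
    apply h
    clear h hT
    refine ⟨?_, ?_, ?_⟩
    · rintro ⟨k, hk⟩
      rcases hmod4 with h4 | h4
      · rcases two_pow_mod_four k with ⟨_, h'⟩ | ⟨_, h'⟩ | h' <;> omega
      · exact hT3 h4 k hk
    · rintro ⟨k, hk⟩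
      rcases two_pow_mod_four k with ⟨_, h'⟩ | ⟨_, h'⟩ | h' <;> omega
    · rintro ⟨k, hk⟩
      rcases hmod4 with h4 | h4
      · exact hT1 h4 k (by omega)
      · rcases two_pow_mod_four k with ⟨_, h'⟩ | ⟨_, h'⟩ | h'
        · omega
        · exact hT3 h4 2 (by omega)
        · omega

/-- `SL₂(q)` has a redundant Sylow `p`-subgroup exactly when `p = 2` and `q` is none of
`2ᵏ - 1`, `2ᵏ`, `2ᵏ + 1`. -/
theorem hasRedundantSylow_sl2_iff [Fintype F] (p : ℕ) [Fact p.Prime] :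
    HasRedundantSylow p S2 ↔
      (p = 2 ∧ (¬ ∃ k : ℕ, Fintype.card F + 1 = 2 ^ k) ∧ (¬ ∃ k : ℕ, Fintype.card F = 2 ^ k) ∧
        ¬ ∃ k : ℕ, Fintype.card F = 2 ^ k + 1) := by
  classical
  have hq : 1 < Fintype.card F := Fintype.one_lt_card
  by_cases hp2 : p = 2
  swap
  · constructor
    · intro h
      exact absurd h (not_hasRedundantSylow_sl2_odd p hp2)
    · rintro ⟨h, _⟩
      exact absurd h hp2
  subst hp2
  have hℓ : (ringChar F).Prime := CharP.char_is_prime F (ringChar F)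
  obtain ⟨n, _, hn⟩ := FiniteField.card F (ringChar F)
  by_cases hc : ringChar F = 2
  · have h2 : (2 : F) = 0 := by
      have := CharP.cast_eq_zero F (ringChar F)
      rw [hc] at this
      exact_mod_cast this
    constructor
    · intro h
      exact absurd h (not_hasRedundantSylow_sl2_char_two h2)
    · rintro ⟨_, _, h, _⟩
      exact absurd ⟨n, by rw [hn, hc]⟩ h
  · have hodd : Odd (Fintype.card F) := by
      rw [hn]
      exact (hℓ.eq_two_or_odd'.resolve_left hc).pow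
    have harith := redundant_arith (Fintype.card F) hodd hq
    constructor
    · intro hred
      refine ⟨rfl, ?_⟩
      by_contra hno
      have hT := harith.2 hno
      revert hred
      apply not_hasRedundantSylow_of_forall
      intro Q
      obtain ⟨A, ε, hgen, hw, hQ, hcyc, hcard⟩ := exists_isTorusGen_sylow_two_card hodd Q
      rcases hcard with ⟨h4, hcd⟩ | ⟨h4, hcd⟩
      · rcases hT with ⟨_, k, hk⟩ | ⟨h4', _⟩
        · apply exists_mem_unique_sylow_two hgen hw Q hQ hcyc k (by rw [hcd, hk])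
          rw [hcd]; omega
        · omega
      · rcases hT with ⟨h4', _⟩ | ⟨_, k, hk⟩
        · omega
        · apply exists_mem_unique_sylow_two hgen hw Q hQ hcyc k (by rw [hcd, hk])
          rw [hcd]; omega
    · rintro ⟨_, hcond⟩
      have hT : ¬ ((Fintype.card F % 4 = 1 ∧ ∃ k : ℕ, Fintype.card F - 1 = 2 ^ k) ∨
          (Fintype.card F % 4 = 3 ∧ ∃ k : ℕ, Fintype.card F + 1 = 2 ^ k)) := by
        intro h
        exact harith.1 h hcond
      push Not at hT
      apply hasRedundantSylow_sl2_two hodd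
      · intro h4 ⟨k, hk⟩
        exact hT.1 h4 k hk
      · intro h4 ⟨k, hk⟩
        exact hT.2 h4 k hk

end Cfsg.Agent.Helper12
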