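import Mathlib
import Cfsg.Agent.Helper4.LSWeights
import Cfsg.Agent.Helper11.JointEigen

set_option autoImplicit false
set_option linter.unusedSectionVars false
set_option linter.unusedVariables false

/-! Minimal degree of the small Ree groups, part A: the abstract counting argument.

Data: a finite field `K`, a group `G` with an abelian subgroup `{b (u, v)}` isomorphic to `K × K`,
elements `a t` acting on it by the shear `(u, v) ↦ (u, v - t u)`, torus elements `h w` acting on it
by `(u, v) ↦ (c w * u, w * v)`, and an involution `t₀` inverting `Z = {b (0, v)}`.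
If `Z` acts non-trivially on `V` then `dim V ≥ q (q - 1)`, with strict inequality if `Z` has a
non-zero fixed vector, or if (characteristic 3) `det (ρ t₀) = 1` and `q (q - 1) ≡ 2 (mod 4)`. -/

namespace Cfsg.Agent.Helper12.ReeDeg

open Module Cfsg.Agent.Helper4.LSW

section invol

variable {V : Type*} [AddCommGroup V] [Module ℂ V] [FiniteDimensional ℂ V]

/-- an involution of trace `0` and determinant `1` lives in a dimension divisible by `4` -/
theorem four_dvd_finrank_of_invol (T : Module.End ℂ V) (hT : T * T = 1)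
    (htr : LinearMap.trace ℂ V T = 0) (hdet : LinearMap.det T = 1) : 4 ∣ finrank ℂ V := by
  classical
  obtain ⟨κ, _, bs, ε, h1, h3⟩ := Cfsg.Agent.Helper11.JointEigen.exists_joint_eigenbasis
    (two_ne_zero : (2 : ℂ) ≠ 0) (fun _ : Unit => T) (fun _ _ => Commute.refl T) (fun _ => hT)
  have hM : LinearMap.toMatrix bs bs T = Matrix.diagonal (fun k => ε k ()) := by
    ext k l
    rw [LinearMap.toMatrix_apply, h1 l (), map_smul, Basis.repr_self, Matrix.diagonal_apply]
    by_cases hkl : k = l
    · subst hkl; simp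
    · have : l ≠ k := fun h => hkl h.symm
      simp [hkl, Finsupp.single_apply, this]
  have hd := LinearMap.det_toMatrix bs T
  rw [hM, Matrix.det_diagonal, hdet] at hd
  have ht := LinearMap.trace_eq_matrix_trace ℂ bs T
  rw [hM, Matrix.trace_diagonal, htr] at ht
  have hε : ∀ k, ε k () = if ε k () = -1 then -1 else 1 := by
    intro k
    rcases h3 k () with h | h
    · rw [h, if_neg (by norm_num)]
    · rw [h, if_pos rfl]
  set A := (Finset.univ.filter (fun k : κ => ε k () = -1)).card with hA
  set B := (Finset.univ.filter (fun k : κ => ¬ ε k () = -1)).card with hB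
  have hAB : A + B = Fintype.card κ := by
    rw [hA, hB, Finset.card_filter_add_card_filter_not, Finset.card_univ]
  have hsum : (0 : ℂ) = -(A : ℂ) + (B : ℂ) := by
    rw [ht, Finset.sum_congr rfl (fun k _ => hε k), Finset.sum_ite, Finset.sum_const,
      Finset.sum_const, ← hA, ← hB]
    simp
  have hprod : (-1 : ℂ) ^ A = 1 := by
    have hd' := hd
    rw [Finset.prod_congr rfl (fun k _ => hε k), Finset.prod_ite, Finset.prod_const,
      Finset.prod_const, ← hA, ← hB, one_pow, mul_one] at hd'
    exact hd'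
  have hAeqB : A = B := by
    have : (A : ℂ) = (B : ℂ) := by linear_combination hsum
    exact_mod_cast this
  have hev : Even A := (neg_one_pow_eq_one_iff_even (by norm_num)).mp hprod
  obtain ⟨r, hr⟩ := hev
  rw [Module.finrank_eq_card_basis bs, ← hAB, ← hAeqB, hr]
  exact ⟨r, by ring⟩

end invol

section weights

variable {V : Type*} [AddCommGroup V] [Module ℂ V] [FiniteDimensional ℂ V]

/-- an invariant non-zero subspace contains a weight vector -/
theorem exists_wt_mem {A : Type*} [CommGroup A] [Finite A] (φ : A →* Module.End ℂ V)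
    (W : Submodule ℂ V) (hW : ∀ a, ∀ v ∈ W, φ a v ∈ W) (hne : W ≠ ⊥) :
    ∃ χ : A → ℂ, ∃ v ∈ W, v ≠ 0 ∧ v ∈ wt φ χ := by
  let φW : A →* Module.End ℂ W :=
    { toFun := fun a => (φ a).restrict (hW a)
      map_one' := by
        ext v
        simp
      map_mul' := by
        intro a a'
        ext v
        simp }
  have htop := iSup_wt φW
  by_contra hcon
  push Not at hcon
  obtain ⟨x, hxW, hx0⟩ := Submodule.exists_mem_ne_zero_of_ne_bot hne
  have hbot : ∀ χ : A → ℂ, wt φW χ = ⊥ := by
    intro χ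
    rw [Submodule.eq_bot_iff]
    intro y hy
    by_contra hy0
    apply hcon χ y.1 y.2 (fun h => hy0 (Subtype.ext h))
    rw [mem_wt] at hy ⊢
    intro a
    have := congrArg Subtype.val (hy a)
    exact this
  have hx : (⟨x, hxW⟩ : W) ∈ (⊤ : Submodule ℂ W) := Submodule.mem_top
  rw [← htop] at hx
  simp only [hbot, iSup_bot, Submodule.mem_bot] at hx
  exact hx0 (congrArg Subtype.val hx)

variable {K : Type*} [Field K] [Fintype K] {G : Type*} [Group G]

/-- the subgroup `{b p}` as a homomorphism -/
def bHom (b : K × K → G) (hb : ∀ p p', b (p + p') = b p * b p') : Multiplicative (K × K) →* G where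
  toFun x := b (Multiplicative.toAdd x)
  map_one' := by
    have h := hb 0 0
    rw [add_zero] at h
    show b 0 = 1
    exact (mul_eq_left.mp h.symm)
  map_mul' x y := hb _ _

theorem bHom_apply (b : K × K → G) (hb : ∀ p p', b (p + p') = b p * b p')
    (x : Multiplicative (K × K)) : bHom b hb x = b (Multiplicative.toAdd x) := rfl

/-- a non-trivial additive character separates multipliers -/
theorem eq_of_char_mul_eq (L : K → ℂ) (hadd : ∀ v v', L (v + v') = L v * L v') (h0 : L 0 = 1)
    {v₀ : K} (hv₀ : L v₀ ≠ 1) {e e' : K} (h : ∀ v, L (e * v) = L (e' * v)) : e = e' := by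
  by_contra hne
  have hd : e - e' ≠ 0 := sub_ne_zero.mpr hne
  apply hv₀
  have h1 : v₀ = e * (v₀ / (e - e')) + -(e' * (v₀ / (e - e'))) := by
    field_simp
    ring
  have h2 := hadd (e' * (v₀ / (e - e'))) (-(e' * (v₀ / (e - e'))))
  rw [add_neg_cancel, h0] at h2
  rw [h1, hadd, h, ← h2]

/-- the main count -/
theorem degree_ge (b : K × K → G) (a : K → G) (h : Kˣ → G) (c : Kˣ → K)
    (hb : ∀ p p', b (p + p') = b p * b p')
    (ha : ∀ t u v, b (u, v) * a t = a t * b (u, v - t * u))
    (hh : ∀ w u v, h w * b (u, v) * (h w)⁻¹ = b (c w * u, (w : K) * v))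
    (ρ : G →* Module.End ℂ V) (hnt : ∃ v₀, ρ (b (0, v₀)) ≠ 1) :
    Fintype.card K * (Fintype.card K - 1) ≤ finrank ℂ V ∧
    ((∃ x : V, x ≠ 0 ∧ ∀ z, ρ (b (0, z)) x = x) →
      Fintype.card K * (Fintype.card K - 1) + 1 ≤ finrank ℂ V) := by
  classical
  have : Finite (Multiplicative (K × K)) := inferInstanceAs (Finite (K × K))
  set φ : Multiplicative (K × K) →* Module.End ℂ V := ρ.comp (bHom b hb) with hφ
  obtain ⟨v₀, hv₀⟩ := hnt
  obtain ⟨χ₀, hχ₀, hχ₀1⟩ := exists_wt_ne_one φ (a₀ := Multiplicative.ofAdd ((0 : K), v₀)) hv₀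
  -- the character in additive notation
  set X : K × K → ℂ := fun p => χ₀ (Multiplicative.ofAdd p) with hX
  have hXadd : ∀ p p', X (p + p') = X p * X p' := by
    intro p p'
    exact wt_mul φ hχ₀ (Multiplicative.ofAdd p) (Multiplicative.ofAdd p')
  have hX0 : X 0 = 1 := wt_one φ hχ₀
  have hXne : ∀ p, X p ≠ 0 := by
    intro p h0
    have := hXadd p (-p)
    rw [add_neg_cancel, hX0, h0, zero_mul] at this
    exact one_ne_zero this
  set L : K → ℂ := fun v => X (0, v) with hL
  have hLadd : ∀ v v', L (v + v') = L v * L v' := by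
    intro v v'
    rw [hL]
    simp only
    rw [← hXadd]
    congr 1
    ext <;> simp
  have hL0 : L 0 = 1 := hX0
  have hLv₀ : L v₀ ≠ 1 := hχ₀1
  have hXsplit : ∀ u v, X (u, v) = X (u, 0) * L v := by
    intro u v
    rw [hL]
    simp only
    rw [← hXadd]
    congr 1
    ext <;> simp
  -- the family of weights
  let β : Kˣ × K → Multiplicative (K × K) → Multiplicative (K × K) := fun j x =>
    Multiplicative.ofAdd (c j.1 * (Multiplicative.toAdd x).1,
      (j.1 : K) * ((Multiplicative.toAdd x).2 - j.2 * (Multiplicative.toAdd x).1))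
  let fam : Kˣ × K → (Multiplicative (K × K) → ℂ) := fun j x => χ₀ (β j x)
  have hfam_apply : ∀ (j : Kˣ × K) (u v : K), fam j (Multiplicative.ofAdd (u, v)) =
      X (c j.1 * u, (j.1 : K) * (v - j.2 * u)) := fun _ _ _ => rfl
  have hfam_ge : ∀ j : Kˣ × K, finrank ℂ (wt φ χ₀) ≤ finrank ℂ (wt φ (fam j)) := by
    rintro ⟨w, t⟩
    apply finrank_wt_le_of_conj φ (ρ (a t * (h w)⁻¹)) (ρ (h w * (a t)⁻¹))
      (by rw [← map_mul]
          have : h w * (a t)⁻¹ * (a t * (h w)⁻¹) = 1 := by group
          rw [this, map_one]) (β (w, t))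
    intro x
    obtain ⟨⟨u, v⟩, rfl⟩ : ∃ p : K × K, x = Multiplicative.ofAdd p := ⟨Multiplicative.toAdd x, rfl⟩
    show ρ (b (u, v)) * ρ (a t * (h w)⁻¹) = ρ (a t * (h w)⁻¹) * ρ (b (c w * u, (w : K) * (v - t * u)))
    rw [← map_mul, ← map_mul]
    congr 1
    rw [← hh w u (v - t * u)]
    calc b (u, v) * (a t * (h w)⁻¹) = (b (u, v) * a t) * (h w)⁻¹ := by group
      _ = a t * b (u, v - t * u) * (h w)⁻¹ := by rw [ha]
      _ = _ := by group
  have hpos : 1 ≤ finrank ℂ (wt φ χ₀) := Submodule.one_le_finrank_iff.mpr hχ₀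
  have hfam_inj : Function.Injective fam := by
    rintro ⟨w, t⟩ ⟨w', t'⟩ hEq
    have hE : ∀ u v : K, X (c w * u, (w : K) * (v - t * u)) =
        X (c w' * u, (w' : K) * (v - t' * u)) := by
      intro u v
      have := congrFun hEq (Multiplicative.ofAdd (u, v))
      rwa [hfam_apply, hfam_apply] at this
    have hw : (w : K) = (w' : K) := by
      apply eq_of_char_mul_eq L hLadd hL0 hLv₀
      intro v
      have := hE 0 v
      simp only [mul_zero, sub_zero] at this
      exact this
    have hww : w = w' := Units.ext hw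
    subst hww
    have ht : -(w : K) * t = -(w : K) * t' := by
      apply eq_of_char_mul_eq L hLadd hL0 hLv₀
      intro u
      have := hE u 0
      rw [hXsplit (c w * u) ((w : K) * (0 - t * u)),
        hXsplit (c w * u) ((w : K) * (0 - t' * u))] at this
      have h2 := mul_left_cancel₀ (hXne _) this
      have e1 : -(w : K) * t * u = (w : K) * (0 - t * u) := by ring
      have e2 : -(w : K) * t' * u = (w : K) * (0 - t' * u) := by ring
      rw [e1, e2]
      exact h2
    have hwne : -(w : K) ≠ 0 := neg_ne_zero.mpr w.ne_zero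
    have : t = t' := mul_left_cancel₀ hwne ht
    rw [this]
  -- nontriviality of the members of the family on `Z`
  have hfam_nt : ∀ j : Kˣ × K, fam j (Multiplicative.ofAdd ((0 : K), v₀ / (j.1 : K))) ≠ 1 := by
    rintro ⟨w, t⟩
    rw [hfam_apply]
    simp only [mul_zero, sub_zero]
    rw [mul_div_cancel₀ _ w.ne_zero]
    exact hLv₀
  set T : Finset (Multiplicative (K × K) → ℂ) := Finset.univ.image fam with hT
  have hTcard : T.card = Fintype.card K * (Fintype.card K - 1) := by
    rw [hT, Finset.card_image_of_injective _ hfam_inj, Finset.card_univ, Fintype.card_prod,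
      Fintype.card_units, mul_comm]
  have hge : ∀ χ ∈ T, 1 ≤ finrank ℂ (wt φ χ) := by
    intro χ hχ
    rw [hT, Finset.mem_image] at hχ
    obtain ⟨j, _, rfl⟩ := hχ
    exact hpos.trans (hfam_ge j)
  constructor
  · have hsum := sum_finrank_le φ T
    have h1 : T.card * 1 ≤ ∑ χ ∈ T, finrank ℂ (wt φ χ) := by
      rw [← smul_eq_mul, ← Finset.sum_const]
      exact Finset.sum_le_sum hge
    rw [mul_one, hTcard] at h1
    exact h1.trans hsum
  · rintro ⟨x, hx0, hxfix⟩
    -- the fixed space of `Z`
    let W : Submodule ℂ V :=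
      { carrier := {y | ∀ z, ρ (b (0, z)) y = y}
        add_mem' := by
          intro y y' hy hy' z
          rw [map_add, hy z, hy' z]
        zero_mem' := by
          intro z
          rw [map_zero]
        smul_mem' := by
          intro r y hy z
          rw [map_smul, hy z] }
    have hWne : W ≠ ⊥ := by
      intro hbot
      have : x ∈ W := hxfix
      rw [hbot, Submodule.mem_bot] at this
      exact hx0 this
    have hWinv : ∀ y', ∀ y ∈ W, φ y' y ∈ W := by
      intro y' y hy z
      show ρ (b (0, z)) (ρ (b (Multiplicative.toAdd y')) y) = ρ (b (Multiplicative.toAdd y')) y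
      generalize Multiplicative.toAdd y' = p
      have hcomm : b (0, z) * b p = b p * b (0, z) := by
        rw [← hb, ← hb, add_comm]
      rw [← Module.End.mul_apply, ← map_mul, hcomm, map_mul, Module.End.mul_apply, hy z]
    obtain ⟨χ₁, y₁, hy₁W, hy₁0, hy₁⟩ := exists_wt_mem φ W hWinv hWne
    have hχ₁ne : wt φ χ₁ ≠ ⊥ := by
      intro hbot
      rw [hbot, Submodule.mem_bot] at hy₁
      exact hy₁0 hy₁
    have hχ₁Z : ∀ z : K, χ₁ (Multiplicative.ofAdd ((0 : K), z)) = 1 := by
      intro z
      rw [mem_wt] at hy₁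
      have h1 := hy₁ (Multiplicative.ofAdd ((0 : K), z))
      have h2 : φ (Multiplicative.ofAdd ((0 : K), z)) y₁ = y₁ := hy₁W z
      rw [h2] at h1
      have h3 : (1 - χ₁ (Multiplicative.ofAdd ((0 : K), z))) • y₁ = 0 := by
        rw [sub_smul, one_smul, ← h1, sub_self]
      rcases smul_eq_zero.mp h3 with h4 | h4
      · linear_combination -h4
      · exact absurd h4 hy₁0
    have hχ₁T : χ₁ ∉ T := by
      intro hmem
      rw [hT, Finset.mem_image] at hmem
      obtain ⟨j, _, hj⟩ := hmem
      apply hfam_nt j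
      rw [hj]
      exact hχ₁Z _
    have hsum := sum_finrank_le φ (insert χ₁ T)
    rw [Finset.sum_insert hχ₁T] at hsum
    have h1 : T.card * 1 ≤ ∑ χ ∈ T, finrank ℂ (wt φ χ) := by
      rw [← smul_eq_mul, ← Finset.sum_const]
      exact Finset.sum_le_sum hge
    rw [mul_one, hTcard] at h1
    have h2 : 1 ≤ finrank ℂ (wt φ χ₁) := Submodule.one_le_finrank_iff.mpr hχ₁ne
    omega

/-- if `Z` has no fixed vectors, an involution inverting `Z` (characteristic `3`) has trace `0` -/
theorem trace_eq_zero (hchar : (3 : K) = 0) (b : K × K → G)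
    (hb : ∀ p p', b (p + p') = b p * b p') (t₀ : G)
    (ht : ∀ v, t₀ * b (0, v) * t₀⁻¹ = b (0, -v))
    (ρ : G →* Module.End ℂ V) (hfix : ∀ x : V, (∀ z, ρ (b (0, z)) x = x) → x = 0) :
    LinearMap.trace ℂ V (ρ t₀) = 0 := by
  classical
  have hb0 : b 0 = 1 := by
    have h := hb 0 0
    rw [add_zero] at h
    exact (mul_eq_left.mp h.symm)
  set S : Module.End ℂ V := ∑ z : K, ρ (b (0, z)) with hS
  have hSfix : ∀ z' : K, ρ (b (0, z')) * S = S := by
    intro z'
    rw [hS, Finset.mul_sum]
    apply Fintype.sum_equiv (Equiv.addLeft z')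
    intro z
    rw [← map_mul, ← hb]
    congr 2
    ext <;> simp
  have hS0 : S = 0 := by
    apply LinearMap.ext
    intro x
    rw [LinearMap.zero_apply]
    apply hfix
    intro z
    rw [← Module.End.mul_apply, hSfix]
  have hconj : ∀ z : K, t₀ * b (0, z) = b (0, z) * t₀ * (b (0, z))⁻¹ := by
    intro z
    have hinv : (b (0, z))⁻¹ = b (0, -z) := by
      apply inv_eq_of_mul_eq_one_right
      rw [← hb, ← hb0]
      congr 1
      ext <;> simp
    have h1 : t₀ * b (0, -z) = b (0, z) * t₀ := by
      have := ht (-z)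
      rw [neg_neg] at this
      rw [← this]
      group
    have h2 : b (0, -z) * b (0, -z) = b (0, z) := by
      rw [← hb]
      congr 1
      ext
      · simp
      · show -z + -z = z
        linear_combination (-z) * hchar
    rw [hinv, ← h1, mul_assoc, h2]
  have htr : ∀ z : K, LinearMap.trace ℂ V (ρ t₀ * ρ (b (0, z))) = LinearMap.trace ℂ V (ρ t₀) := by
    intro z
    have e : ρ t₀ * ρ (b (0, z)) = ρ (b (0, z)) * (ρ t₀ * ρ (b (0, z))⁻¹) := by
      rw [← map_mul, hconj z, map_mul, map_mul, mul_assoc]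
    rw [e, LinearMap.trace_mul_comm, mul_assoc, ← map_mul ρ, inv_mul_cancel, map_one, mul_one]
  have hsum : LinearMap.trace ℂ V (ρ t₀ * S) =
      (Fintype.card K : ℂ) * LinearMap.trace ℂ V (ρ t₀) := by
    rw [hS, Finset.mul_sum, map_sum, Finset.sum_congr rfl (fun z _ => htr z), Finset.sum_const,
      Finset.card_univ, nsmul_eq_mul]
  rw [hS0, mul_zero, map_zero] at hsum
  have hq : (Fintype.card K : ℂ) ≠ 0 := by
    exact_mod_cast Fintype.card_ne_zero
  rcases mul_eq_zero.mp hsum.symm with h | h
  · exact absurd h hq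
  · exact h

/-- the strict bound -/
theorem degree_gt (hchar : (3 : K) = 0) (b : K × K → G) (a : K → G) (h : Kˣ → G) (c : Kˣ → K)
    (hb : ∀ p p', b (p + p') = b p * b p')
    (ha : ∀ t u v, b (u, v) * a t = a t * b (u, v - t * u))
    (hh : ∀ w u v, h w * b (u, v) * (h w)⁻¹ = b (c w * u, (w : K) * v))
    (t₀ : G) (ht : ∀ v, t₀ * b (0, v) * t₀⁻¹ = b (0, -v)) (ht2 : t₀ * t₀ = 1)
    (ρ : G →* Module.End ℂ V) (hnt : ∃ v₀, ρ (b (0, v₀)) ≠ 1)
    (hdet : LinearMap.det (ρ t₀) = 1)
    (hq : Fintype.card K * (Fintype.card K - 1) % 4 = 2) :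
    Fintype.card K * (Fintype.card K - 1) + 1 ≤ finrank ℂ V := by
  obtain ⟨h1, h2⟩ := degree_ge b a h c hb ha hh ρ hnt
  by_cases hfix : ∃ x : V, x ≠ 0 ∧ ∀ z, ρ (b (0, z)) x = x
  · exact h2 hfix
  · push Not at hfix
    have hfix' : ∀ x : V, (∀ z, ρ (b (0, z)) x = x) → x = 0 := by
      intro x hx
      by_contra hx0
      obtain ⟨z, hz⟩ := hfix x hx0
      exact hz (hx z)
    have htr := trace_eq_zero hchar b hb t₀ ht ρ hfix'
    have hTT : ρ t₀ * ρ t₀ = 1 := by rw [← map_mul, ht2, map_one]
    have h4 := four_dvd_finrank_of_invol (ρ t₀) hTT htr hdet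
    have hne : finrank ℂ V ≠ Fintype.card K * (Fintype.card K - 1) := by
      intro heq
      rw [heq] at h4
      omega
    omega

end weights

end Cfsg.Agent.Helper12.ReeDeg
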