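import Mathlib
import Cfsg.Agent.Helper12.ReeDegA
import Cfsg.Agent.Helper6.ReeAut.UFacts
import Cfsg.Agent.Helper6.Ree.G2Simple
import Cfsg.Agent.Helper6.Ree.G2Ctx

set_option autoImplicit false
set_option linter.unusedSectionVars false
set_option linter.unusedVariables false

/-! Minimal degree of the small Ree groups, part B: the data of `²G₂(q)` and the final bound. -/

namespace Cfsg.Agent.Helper12.ReeDeg

open Module Cfsg.Lie Cfsg.Agent.Helper6 Cfsg.Agent.Helper6.Ree Cfsg.Agent.Helper6.ReeAut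

/-- an irreducible representation of degree at least two of a simple group is faithful -/
theorem injective_of_irreducible_of_simple {G : Type*} [Group G] [IsSimpleGroup G] (k : ℕ)
    (ρ : Representation ℂ G (Fin k → ℂ)) (hirr : ρ.IsIrreducible) (hk : 2 ≤ k) :
    Function.Injective ρ := by
  rw [← MonoidHom.ker_eq_bot_iff]
  rcases (MonoidHom.normal_ker ρ).eq_bot_or_eq_top with h | h
  · exact h
  · exfalso
    have htriv : ∀ g : G, ρ g = 1 := by
      intro g
      have : g ∈ ρ.ker := by rw [h]; exact Subgroup.mem_top g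
      exact MonoidHom.mem_ker.mp this
    let i0 : Fin k := ⟨0, by omega⟩
    let i1 : Fin k := ⟨1, by omega⟩
    let W : Subrepresentation ρ :=
      { toSubmodule := Submodule.span ℂ {(Pi.single i0 (1 : ℂ) : Fin k → ℂ)}
        apply_mem_toSubmodule := by
          intro g v hv
          rw [htriv g]
          exact hv }
    have hW : W = ⊥ ∨ W = ⊤ := hirr.eq_bot_or_eq_top W
    rcases hW with h0 | h0
    · have : W.toSubmodule = (⊥ : Subrepresentation ρ).toSubmodule := by rw [h0]
      have hmem : (Pi.single i0 (1 : ℂ) : Fin k → ℂ) ∈ W.toSubmodule :=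
        Submodule.subset_span rfl
      rw [this] at hmem
      have h1 : (Pi.single i0 (1 : ℂ) : Fin k → ℂ) = 0 := hmem
      have := congrFun h1 i0
      simp at this
    · have : W.toSubmodule = (⊤ : Subrepresentation ρ).toSubmodule := by rw [h0]
      have hmem : (Pi.single i1 (1 : ℂ) : Fin k → ℂ) ∈ W.toSubmodule := by
        rw [this]; exact Submodule.mem_top
      obtain ⟨c, hc⟩ := Submodule.mem_span_singleton.mp hmem
      have := congrFun hc i1
      have hne : i1 ≠ i0 := by
        intro h'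
        have := congrArg Fin.val h'
        simp [i0, i1] at this
      simp [Pi.single_apply, hne] at this

/-- in a perfect group every representation has determinant one -/
theorem det_eq_one_of_perfect {G : Type*} [Group G] (hperf : commutator G = ⊤)
    {V : Type*} [AddCommGroup V] [Module ℂ V] (ρ : G →* Module.End ℂ V) (g : G) :
    LinearMap.det (ρ g) = 1 := by
  let δ : G →* ℂˣ := (Units.map (LinearMap.det : Module.End ℂ V →* ℂ)).comp ρ.toHomUnits
  have hle : commutator G ≤ δ.ker := Abelianization.commutator_subset_ker δ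
  have hg : g ∈ δ.ker := hle (by rw [hperf]; exact Subgroup.mem_top g)
  have h1 : δ g = 1 := MonoidHom.mem_ker.mp hg
  have h2 := congrArg Units.val h1
  exact h2

theorem arith_mod_four (m : ℕ) : 3 ^ (2 * m + 1) * (3 ^ (2 * m + 1) - 1) % 4 = 2 := by
  have h1 : 3 ^ (2 * m + 1) % 4 = 3 := by
    rw [pow_succ, pow_mul, Nat.mul_mod, Nat.pow_mod]
    norm_num
  have h2 : 1 ≤ 3 ^ (2 * m + 1) := Nat.one_le_pow _ _ (by norm_num)
  have h3 : (3 ^ (2 * m + 1) - 1) % 4 = 2 := by omega
  rw [Nat.mul_mod, h1, h3]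

variable {K : Type*} [Field K] [Fintype K] {m : ℕ}

/-- Landazuri–Seitz bound for the small Ree groups, for a faithful action of `Z(U)` -/
theorem ree_degree_gt (C : ReeCtx K m) (hK : Fintype.card K = 3 ^ (2 * m + 1)) (hm : 1 ≤ m)
    {V : Type*} [AddCommGroup V] [Module ℂ V] [FiniteDimensional ℂ V]
    (ρ : ↥(twistedG2 K (3 ^ m)) →* Module.End ℂ V) (hρ : Function.Injective ρ) :
    3 ^ (2 * m + 1) * (3 ^ (2 * m + 1) - 1) + 1 ≤ finrank ℂ V := by
  have hc3 : CharP K 3 := C.char3
  have h3 : (3 : K) = 0 := by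
    have := CharP.cast_eq_zero K 3
    exact_mod_cast this
  have hz : ∀ n : ℕ, (0 : K) ^ (3 * 3 ^ m + n) = 0 := by
    intro n
    apply zero_pow
    have := three_theta_ne_zero m
    omega
  have hz0 : (0 : K) ^ (3 * 3 ^ m) = 0 := hz 0
  have key := degree_gt (K := K) (V := V) h3
    (fun p : K × K => xU m 0 p.1 p.2) (fun t => xU m t 0 0) (fun w => hT C hK w) (fun w => c10 m w)
    ?_ ?_ ?_ (hT C hK (-1)) ?_ ?_ ρ ?_ ?_ ?_
  · rw [hK] at key
    exact key
  · -- additivity
    rintro ⟨u, v⟩ ⟨u', v'⟩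
    show xU m 0 (u + u') (v + v') = xU m 0 u v * xU m 0 u' v'
    rw [xU_mul C]
    congr 1
    · simp
    · simp
    · simp
  · -- the shear
    intro t u v
    show xU m 0 u v * xU m t 0 0 = xU m t 0 0 * xU m 0 u (v - t * u)
    rw [xU_mul C, xU_mul C]
    congr 1
    · simp
    · simp [hz0]
    · simp only [hz0, hz 1]
      ring
  · -- the torus
    intro w u v
    show hT C hK w * xU m 0 u v * (hT C hK w)⁻¹ = xU m 0 (c10 m w * u) ((w : K) * v)
    rw [hT_conj_xU, mul_zero]
  · -- the involution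
    intro v
    show hT C hK (-1) * xU m 0 0 v * (hT C hK (-1))⁻¹ = xU m 0 0 (-v)
    rw [hT_conj_xU, mul_zero, mul_zero]
    congr 1
    simp
  · -- its square
    apply Subtype.ext
    show hwHom K m (-1) * hwHom K m (-1) = 1
    rw [← map_mul]
    simp
  · -- nontriviality
    refine ⟨1, ?_⟩
    intro h1
    rw [← map_one ρ] at h1
    have h2 := hρ h1
    have h4 : xU m (0 : K) 0 1 = xU m 0 0 0 := by
      rw [Cfsg.Agent.Helper6.ReeAut.xU_zero]; exact h2
    exact one_ne_zero (xU_inj C h4).2.2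
  · exact det_eq_one_of_perfect (C.perfect hK hm) ρ _
  · rw [hK]
    exact arith_mod_four m

/-- every irreducible complex representation of degree at least 2 of `²G₂(q)` has degree at least
`q² - q + 1` -/
theorem ree_main (m : ℕ) (hm : 1 ≤ m) (hK : Fintype.card K = 3 ^ (2 * m + 1)) :
    ∀ (k : ℕ) (ρ : Representation ℂ (Cfsg.Lie.twistedG2 K (3 ^ m)) (Fin k → ℂ)),
      ρ.IsIrreducible → 2 ≤ k → (3 ^ (2 * m + 1)) ^ 2 - 3 ^ (2 * m + 1) + 1 ≤ k := by
  intro k ρ hirr hk
  obtain ⟨C⟩ := exists_reeCtx hK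
  have hsimple : IsSimpleGroup ↥(twistedG2 K (3 ^ m)) := (C.simple hK hm).1
  have hinj := injective_of_irreducible_of_simple k ρ hirr hk
  have := ree_degree_gt C hK hm ρ hinj
  rw [Module.finrank_fin_fun] at this
  have e : (3 ^ (2 * m + 1)) ^ 2 - 3 ^ (2 * m + 1) = 3 ^ (2 * m + 1) * (3 ^ (2 * m + 1) - 1) := by
    rw [Nat.mul_sub_one, sq]
  rw [e]
  exact this

end Cfsg.Agent.Helper12.ReeDeg
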