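import Mathlib
import Cfsg.Agent.Helper6.ReeLoc.Hyp
import Cfsg.Agent.Helper23.ReeP3
import Cfsg.Agent.Helper4.ReeP1

/-! The numbers of elements of each order in a group with the local data of a small Ree group
(piece F2357 of helper6's Ree cluster). -/

set_option autoImplicit false

namespace Cfsg.Agent.Helper12.ReeF2357

open Subgroup Cfsg.Agent.Helper6.ReeLoc

variable {G : Type*} [Group G]

theorem orderOf_conj' (g y : G) : orderOf (g * y * g⁻¹) = orderOf y := by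
  have := MulEquiv.orderOf_eq (MulAut.conj g) y
  rwa [MulAut.conj_apply] at this

/-- counting the elements of order `i` when they are all conjugate into an abelian subgroup `Z`
containing the centralisers of its elements of order `i` -/
theorem count_family [Finite G] (Z : Subgroup G) (i : ℕ)
    (hcomm : ∀ a ∈ Z, ∀ b ∈ Z, Commute a b)
    (hC : ∀ y ∈ Z, orderOf y = i → ∀ g : G, Commute g y → g ∈ Z)
    (hcov : ∀ g : G, orderOf g = i → ∃ a : G, a * g * a⁻¹ ∈ Z) :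
    Nat.card {g : G // orderOf g = i} * Nat.card (normalizer (Z : Set G)) =
      Nat.card G * Nat.card {y : G // y ∈ Z ∧ orderOf y = i} := by
  have key := Cfsg.Agent.Helper23.ReeP3.P3_card_conj_union (normalizer (Z : Set G))
    {y : G | y ∈ Z ∧ orderOf y = i} ?_ ?_
  · have e : Nat.card {z : G // ∃ g : G, ∃ y ∈ {y : G | y ∈ Z ∧ orderOf y = i}, z = g * y * g⁻¹} =
        Nat.card {g : G // orderOf g = i} := by
      apply Nat.card_congr
      apply Equiv.subtypeEquivRight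
      intro z
      constructor
      · rintro ⟨g, y, ⟨-, hy⟩, rfl⟩
        rw [orderOf_conj', hy]
      · intro hz
        obtain ⟨a, ha⟩ := hcov z hz
        refine ⟨a⁻¹, a * z * a⁻¹, ⟨ha, by rw [orderOf_conj', hz]⟩, ?_⟩
        group
    rw [e] at key
    exact key
  · rintro g hg y ⟨hy, hyi⟩
    exact ⟨(mem_normalizer_iff.mp hg y).mp hy, by rw [orderOf_conj', hyi]⟩
  · rintro g y ⟨hy, hyi⟩ ⟨hy', hyi'⟩
    rw [mem_normalizer_iff]
    intro z
    constructor
    · intro hz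
      apply hC _ hy' hyi'
      have : Commute z y := hcomm z hz y hy
      show g * z * g⁻¹ * (g * y * g⁻¹) = g * y * g⁻¹ * (g * z * g⁻¹)
      have e1 : g * z * g⁻¹ * (g * y * g⁻¹) = g * (z * y) * g⁻¹ := by group
      have e2 : g * y * g⁻¹ * (g * z * g⁻¹) = g * (y * z) * g⁻¹ := by group
      rw [e1, e2, this.eq]
    · intro hz
      have h1 : Commute (g * z * g⁻¹) (g * y * g⁻¹) := hcomm _ hz _ hy'
      apply hC y hy hyi
      show z * y = y * z
      have e1 : z * y = g⁻¹ * (g * z * g⁻¹ * (g * y * g⁻¹)) * g := by group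
      have e2 : y * z = g⁻¹ * (g * y * g⁻¹ * (g * z * g⁻¹)) * g := by group
      rw [e1, e2, h1.eq]

/-- the number of elements of order `i` of a cyclic subgroup -/
theorem card_orderOf_cyclic [Finite G] (Z : Subgroup G) (hZ : IsCyclic Z) {i : ℕ}
    (hi : i ∣ Nat.card Z) : Nat.card {y : G // y ∈ Z ∧ orderOf y = i} = Nat.totient i := by
  classical
  have := Fintype.ofFinite Z
  have h1 : Nat.card {z : Z // orderOf z = i} = Nat.totient i := by
    rw [Nat.card_eq_fintype_card, Fintype.card_subtype]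
    apply IsCyclic.card_orderOf_eq_totient
    rwa [← Nat.card_eq_fintype_card]
  rw [← h1]
  apply Nat.card_congr
  refine ⟨fun y => ⟨⟨y.1, y.2.1⟩, (Subgroup.orderOf_mk _ _).trans y.2.2⟩,
    fun z => ⟨z.1.1, z.1.2, (Subgroup.orderOf_coe _).trans z.2⟩, ?_, ?_⟩
  · intro y; rfl
  · intro z; rfl


/-! ### arithmetic -/

section arith

variable {q r : ℕ}

theorem dvd_two_of (hq : 1 ≤ q) {i : ℕ} (h1 : i ∣ q - 1) (h2 : i ∣ q + 1) : i ∣ 2 := by
  have : q + 1 - (q - 1) = 2 := by omega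
  rw [← this]
  exact Nat.dvd_sub h2 h1

theorem M_eq (hq : 1 ≤ q) : q ^ 2 - q + 1 = q * (q - 1) + 1 := by
  obtain ⟨t, rfl⟩ : ∃ t, q = t + 1 := ⟨q - 1, by omega⟩
  have : (t + 1) ^ 2 = (t + 1) * t + (t + 1) := by ring
  rw [this]
  simp

theorem eq_one_of_dvd_M (hq : 1 ≤ q) {i : ℕ} (h1 : i ∣ q - 1) (h2 : i ∣ q ^ 2 - q + 1) : i = 1 := by
  rw [M_eq hq] at h2
  have h3 : i ∣ q * (q - 1) := Dvd.dvd.mul_left h1 q
  exact Nat.dvd_one.mp ((Nat.dvd_add_right h3).mp h2)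

theorem M_eq' (hq : 2 ≤ q) : q ^ 2 - q + 1 = (q + 1) * (q - 2) + 3 := by
  obtain ⟨t, rfl⟩ : ∃ t, q = t + 2 := ⟨q - 2, by omega⟩
  have : (t + 2) ^ 2 = (t + 2 + 1) * t + 3 + (t + 2) - 1 := by
    have : (t + 2) ^ 2 = (t + 2 + 1) * t + 3 + (t + 1) := by ring
    omega
  have h2 : t + 2 - 2 = t := by omega
  rw [h2, this]
  omega

theorem dvd_three_of (hq : 2 ≤ q) {i : ℕ} (h1 : i ∣ q + 1) (h2 : i ∣ q ^ 2 - q + 1) : i ∣ 3 := by
  rw [M_eq' hq] at h2
  have h3 : i ∣ (q + 1) * (q - 2) := Dvd.dvd.mul_right h1 _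
  exact (Nat.dvd_add_right h3).mp h2

theorem cube_add_one (hq : 1 ≤ q) : q ^ 3 + 1 = (q + 1) * (q ^ 2 - q + 1) := by
  rw [M_eq hq]
  obtain ⟨t, rfl⟩ : ∃ t, q = t + 1 := ⟨q - 1, by omega⟩
  simp only [Nat.add_sub_cancel]
  ring

theorem pm_mul (hr : r * r = 3 * q) (hrq : r ≤ q) :
    (q - r + 1) * (q + r + 1) = q ^ 2 - q + 1 := by
  have hqq : q ≤ q ^ 2 := by nlinarith
  have hr' : (r : ℤ) * r = 3 * q := by exact_mod_cast hr
  apply Nat.cast_injective (R := ℤ)
  push_cast [Nat.cast_sub hrq, Nat.cast_sub hqq]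
  linear_combination (-1 : ℤ) * hr'

theorem dvd_two_mul_of (hrq : r ≤ q) {i : ℕ} (h1 : i ∣ q - r + 1) (h2 : i ∣ q + r + 1) :
    i ∣ 2 * r := by
  have : q + r + 1 - (q - r + 1) = 2 * r := by omega
  rw [← this]
  exact Nat.dvd_sub h2 h1

end arith


/-! ### the local data -/

theorem dvd_card_of_conj_mem [Finite G] (X : Subgroup G) {g a : G} (hX : a * g * a⁻¹ ∈ X) :
    orderOf g ∣ Nat.card X := by
  rw [← orderOf_conj' a g]
  exact Subgroup.orderOf_dvd_natCard X hX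

theorem ne_one_of_orderOf {g : G} {i : ℕ} (hi : 1 < i) (hg : orderOf g = i) : g ≠ 1 := by
  rintro rfl
  rw [orderOf_one] at hg
  omega

/-- the arithmetic of `q = 3^(2m+1)`, `r = 3^(m+1)` -/
theorem arith_qr (m : ℕ) (hm : 1 ≤ m) :
    27 ≤ 3 ^ (2 * m + 1) ∧ 3 ^ (m + 1) * 3 ^ (m + 1) = 3 * 3 ^ (2 * m + 1) ∧
      3 ^ (m + 1) ≤ 3 ^ (2 * m + 1) ∧ 3 ^ (2 * m + 1) % 8 = 3 ∧ 3 ^ (m + 1) % 2 = 1 ∧
      3 ∣ 3 ^ (2 * m + 1) ∧ 3 ∣ 3 ^ (m + 1) := by
  refine ⟨?_, ?_, ?_, ?_, ?_, ?_, ?_⟩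
  · calc 27 = 3 ^ 3 := by norm_num
      _ ≤ 3 ^ (2 * m + 1) := Nat.pow_le_pow_right (by norm_num) (by omega)
  · rw [← pow_add, ← pow_succ']
    congr 1
    omega
  · exact Nat.pow_le_pow_right (by norm_num) (by omega)
  · have : 3 ^ (2 * m + 1) = 3 * 9 ^ m := by
      rw [pow_succ, pow_mul]; norm_num; ring
    rw [this, Nat.mul_mod, Nat.pow_mod]
    norm_num
  · rw [Nat.pow_mod]
    norm_num
  · exact dvd_pow_self 3 (by omega)
  · exact dvd_pow_self 3 (by omega)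


theorem count_ZH [Finite G] {m : ℕ} (h : ReeFull G m) (i : ℕ) (hi2 : 2 < i)
    (hiq : i ∣ 3 ^ (2 * m + 1) - 1) :
    2 * Nat.card {g : G // orderOf g = i} =
      Nat.totient i * (3 ^ (2 * m + 1)) ^ 3 * ((3 ^ (2 * m + 1)) ^ 3 + 1) := by
  obtain ⟨hq27, hrr, hrq, hq8, hr2, h3q, h3r⟩ := arith_qr m h.hm
  have hcardG := h.card
  have hZH := h.cardZH
  have hAH := h.cardAH
  have hT := h.cardT
  have hAp := h.cardAp
  have hAm := h.cardAm
  have hN := h.normZH
  have hpm := pm_mul hrr hrq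
  generalize 3 ^ (2 * m + 1) = q at *
  generalize 3 ^ (m + 1) = r at *
  have key := count_family h.ZH i h.scH.comm ?_ ?_
  · rw [hN, hcardG, card_orderOf_cyclic h.ZH h.cycZH (by rw [hZH]; exact hiq)] at key
    have hpos : 0 < q - 1 := by omega
    apply Nat.eq_of_mul_eq_mul_right hpos
    linear_combination key
  · -- centralisers
    intro y hy hyi g hg
    have hyq : y ^ (q - 1) = 1 := by
      rw [← hZH]
      exact orderOf_dvd_iff_pow_eq_one.mp (Subgroup.orderOf_dvd_natCard _ hy)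
    have hyy1 : y * y ≠ 1 := by
      intro h1
      have : orderOf y ∣ 2 := orderOf_dvd_of_pow_eq_one (by rw [pow_two]; exact h1)
      have := Nat.le_of_dvd (by norm_num) this
      omega
    have hyyA : y * y ∈ h.AH := by
      have hle : Subgroup.zpowers (y * y) ≤ h.AH := by
        apply h.scH.uniq _ (Subgroup.zpowers_le.mpr (mul_mem hy hy))
        rw [Nat.card_zpowers, hAH]
        apply orderOf_dvd_of_pow_eq_one
        rw [← pow_two, ← pow_mul]
        have : 2 * ((q - 1) / 2) = q - 1 := by omega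
        rw [this, hyq]
      exact hle (Subgroup.mem_zpowers _)
    exact h.scH.cent (y * y) hyyA hyy1 g (hg.mul_right hg)
  · -- covering
    intro g hgi
    have hg1 : g ≠ 1 := ne_one_of_orderOf (by omega) hgi
    rcases h.classify g hg1 with h3 | h2 | ⟨a, ha, -⟩ | ⟨a, ha, -⟩ | ⟨a, ha⟩ | ⟨a, ha⟩
    · exfalso
      rw [hgi] at h3
      have : 3 ∣ q - 1 := dvd_trans h3 hiq
      omega
    · omega
    · exact ⟨a, ha⟩
    · exfalso
      have h1 := dvd_card_of_conj_mem h.T ha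
      rw [hgi, hT] at h1
      have := Nat.le_of_dvd (by norm_num) (dvd_two_of (by omega) hiq h1)
      omega
    · exfalso
      have h1 := dvd_card_of_conj_mem h.Ap ha
      rw [hgi, hAp] at h1
      have h2 : i ∣ q ^ 2 - q + 1 := by
        rw [← hpm]; exact Dvd.dvd.mul_left h1 _
      have := eq_one_of_dvd_M (by omega) hiq h2
      omega
    · exfalso
      have h1 := dvd_card_of_conj_mem h.Am ha
      rw [hgi, hAm] at h1
      have h2 : i ∣ q ^ 2 - q + 1 := by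
        rw [← hpm]; exact Dvd.dvd.mul_right h1 _
      have := eq_one_of_dvd_M (by omega) hiq h2
      omega


theorem not_three_dvd_M {q : ℕ} (hq : 1 ≤ q) (h3q : 3 ∣ q) : ¬ 3 ∣ q ^ 2 - q + 1 := by
  intro h3
  rw [M_eq hq] at h3
  have : 3 ∣ q * (q - 1) := Dvd.dvd.mul_right h3q _
  have := (Nat.dvd_add_right this).mp h3
  omega

theorem not_two_dvd_M {q : ℕ} (hq : 1 ≤ q) : ¬ 2 ∣ q ^ 2 - q + 1 := by
  intro h2
  rw [M_eq hq] at h2
  have : 2 ∣ q * (q - 1) := (Nat.even_mul_pred_self q).two_dvd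
  have := (Nat.dvd_add_right this).mp h2
  omega

theorem sq_sub_one_eq {q : ℕ} (hq : 1 ≤ q) : q ^ 2 - 1 = (q - 1) * (q + 1) := by
  obtain ⟨t, rfl⟩ : ∃ t, q = t + 1 := ⟨q - 1, by omega⟩
  simp only [Nat.add_sub_cancel]
  have : (t + 1) ^ 2 = t * (t + 1 + 1) + 1 := by ring
  rw [this]
  simp

/-- the families of order `q ± r + 1` -/
theorem count_pm [Finite G] (Z T A B : Subgroup G) (q r a b : ℕ) (hq : 27 ≤ q) (h3q : 3 ∣ q)
    (hr3 : ∀ i, i ∣ r → i = 1 ∨ 3 ∣ i)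
    (hcardG : Nat.card G = q ^ 3 * (q - 1) * (q ^ 3 + 1)) (hZ : Nat.card Z = q - 1)
    (hT : Nat.card T = q + 1) (scA : SC A A) (hA : Nat.card A = a)
    (hNA : Nat.card (normalizer (A : Set G)) = 6 * a) (hB : Nat.card B = b)
    (hab : a * b = q ^ 2 - q + 1) (hdiff : ∀ i, i ∣ a → i ∣ b → i ∣ 2 * r)
    (hcl : ∀ g : G, g ≠ 1 → 3 ∣ orderOf g ∨ orderOf g = 2 ∨ (∃ x : G, x * g * x⁻¹ ∈ Z) ∨
      (∃ x : G, x * g * x⁻¹ ∈ T) ∨ (∃ x : G, x * g * x⁻¹ ∈ A) ∨ (∃ x : G, x * g * x⁻¹ ∈ B))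
    (i : ℕ) (hi : 1 < i) (hia : i ∣ a) :
    6 * Nat.card {g : G // orderOf g = i} = Nat.totient i * q ^ 3 * (q ^ 2 - 1) * b := by
  have hq1 : 1 ≤ q := by omega
  have hiM : i ∣ q ^ 2 - q + 1 := by rw [← hab]; exact Dvd.dvd.mul_right hia _
  have h3i : ¬ 3 ∣ i := fun h3 => not_three_dvd_M hq1 h3q (dvd_trans h3 hiM)
  have h2i : ¬ 2 ∣ i := fun h2 => not_two_dvd_M hq1 (dvd_trans h2 hiM)
  have ha0 : 0 < a := by
    rcases Nat.eq_zero_or_pos a with h0 | h0
    · rw [h0, zero_mul] at hab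
      rw [M_eq hq1] at hab
      omega
    · exact h0
  have key := count_family A i scA.comm ?_ ?_
  · rw [hNA, hcardG, card_orderOf_cyclic A scA.cyc (by rw [hA]; exact hia), cube_add_one hq1, ← hab]
      at key
    rw [sq_sub_one_eq hq1]
    apply Nat.eq_of_mul_eq_mul_right ha0
    linear_combination key
  · intro y hy hyi g hg
    exact scA.cent y hy (ne_one_of_orderOf hi hyi) g hg
  · intro g hgi
    have hg1 : g ≠ 1 := ne_one_of_orderOf hi hgi
    rcases hcl g hg1 with h3 | h2 | ⟨x, hx⟩ | ⟨x, hx⟩ | ⟨x, hx⟩ | ⟨x, hx⟩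
    · exact absurd (hgi ▸ h3) h3i
    · exfalso
      rw [hgi] at h2
      exact h2i (by rw [h2])
    · exfalso
      have h1 := dvd_card_of_conj_mem Z hx
      rw [hgi, hZ] at h1
      have := eq_one_of_dvd_M hq1 h1 hiM
      omega
    · exfalso
      have h1 := dvd_card_of_conj_mem T hx
      rw [hgi, hT] at h1
      have h3 := dvd_three_of (by omega) h1 hiM
      rcases (Nat.dvd_prime Nat.prime_three).mp h3 with h4 | h4
      · omega
      · exact h3i (by rw [h4])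
    · exact ⟨x, hx⟩
    · exfalso
      have h1 := dvd_card_of_conj_mem B hx
      rw [hgi, hB] at h1
      have h2 := hdiff i hia h1
      have hcop : Nat.Coprime i 2 := by
        rw [Nat.coprime_comm, Nat.Prime.coprime_iff_not_dvd Nat.prime_two]
        exact h2i
      have h3 : i ∣ r := hcop.dvd_of_dvd_mul_left h2
      rcases hr3 i h3 with h4 | h4
      · omega
      · exact h3i h4


/-! ### the abelian group `T = V × A` -/

section torus

variable [Finite G] (T V A : Subgroup G) (k : ℕ) (hk : Odd k)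
  (hcomm : ∀ a ∈ T, ∀ b ∈ T, Commute a b) (hVT : V ≤ T) (hV4 : Nat.card V = 4)
  (hT : Nat.card T = 4 * k)

include hk hcomm hVT hV4 hT

/-- the involutions of `T` lie in `V` -/
theorem mem_V_of_sq {t : G} (ht : t ∈ T) (ht2 : t * t = 1) (hVexp : ∀ v ∈ V, v * v = 1) : t ∈ V := by
  classical
  let R : Subgroup G :=
    { carrier := {t | t ∈ T ∧ t * t = 1}
      one_mem' := ⟨T.one_mem, one_mul 1⟩
      mul_mem' := by
        rintro a b ⟨ha, ha'⟩ ⟨hb, hb'⟩
        refine ⟨T.mul_mem ha hb, ?_⟩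
        have hc : Commute a b := hcomm a ha b hb
        calc a * b * (a * b) = a * a * (b * b) := by
              rw [mul_assoc, ← mul_assoc b a b, ← hc.eq]; group
          _ = 1 := by rw [ha', hb', one_mul]
      inv_mem' := by
        rintro a ⟨ha, ha'⟩
        refine ⟨T.inv_mem ha, ?_⟩
        rw [← mul_inv_rev, ha', inv_one] }
  have hVR : V ≤ R := fun v hv => ⟨hVT hv, hVexp v hv⟩
  have hRT : R ≤ T := fun t ht => ht.1
  have hRp : IsPGroup 2 R := by
    intro x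
    refine ⟨1, ?_⟩
    apply Subtype.ext
    rw [pow_one, Subgroup.coe_pow, pow_two]
    exact x.2.2
  obtain ⟨n, hn⟩ := IsPGroup.iff_card.mp hRp
  have hdvd : Nat.card R ∣ 4 * k := by
    rw [← hT]
    exact Subgroup.card_dvd_of_le hRT
  have hcop : Nat.Coprime (2 ^ n) k := by
    apply Nat.Coprime.pow_left
    exact Nat.coprime_two_left.mpr hk
  have h4 : Nat.card R ∣ 4 := by
    rw [hn] at hdvd ⊢
    exact hcop.dvd_of_dvd_mul_right hdvd
  have hle : Nat.card R ≤ Nat.card V := by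
    rw [hV4]
    exact Nat.le_of_dvd (by norm_num) h4
  have : V = R := Subgroup.eq_of_le_of_card_ge hVR hle
  rw [this]
  exact ⟨ht, ht2⟩

end torus


/-- the number of elements of order `2 i` of `T = V × A` -/
theorem card_order_two_mul [Finite G] (T V A : Subgroup G) (k : ℕ) (hk : Odd k)
    (hcomm : ∀ a ∈ T, ∀ b ∈ T, Commute a b) (hVT : V ≤ T) (hAT : A ≤ T) (hV4 : Nat.card V = 4)
    (hVexp : ∀ v ∈ V, v * v = 1) (hA : Nat.card A = k) (hT : Nat.card T = 4 * k)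
    (hAcyc : IsCyclic A) (huniq : ∀ X : Subgroup G, X ≤ T → Nat.card X ∣ k → X ≤ A)
    (i : ℕ) (hi : i ∣ k) :
    Nat.card {y : G // y ∈ T ∧ orderOf y = 2 * i} = 3 * Nat.totient i := by
  classical
  have hiodd : Odd i := Odd.of_dvd_nat hk hi
  have hi0 : 0 < i := hiodd.pos
  obtain ⟨j, hj⟩ := hiodd
  have hcount : Nat.card ({v : G // v ∈ V ∧ v ≠ 1} × {a : G // a ∈ A ∧ orderOf a = i}) =
      3 * Nat.totient i := by
    rw [Nat.card_prod, card_orderOf_cyclic A hAcyc (by rw [hA]; exact hi)]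
    congr 1
    rw [← Cfsg.Agent.Helper4.ReeP1.card_ne_one_of_card_four V hV4]
    apply Nat.card_congr
    refine ⟨fun v => ⟨⟨v.1, v.2.1⟩, fun h1 => v.2.2 (congrArg Subtype.val h1)⟩,
      fun v => ⟨v.1.1, v.1.2, fun h1 => v.2 (Subtype.ext h1)⟩, ?_, ?_⟩
    · intro v; rfl
    · intro v; rfl
  rw [← hcount]
  apply Nat.card_congr
  -- powers of an involution
  have hvpow : ∀ v : G, v * v = 1 → v ^ i = v := by
    intro v hv
    rw [hj, pow_succ, pow_mul, pow_two, hv, one_pow, one_mul]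
  have hord_mul : ∀ a v : G, a ∈ A → v ∈ V → v ≠ 1 → Odd (orderOf a) →
      orderOf (a * v) = orderOf a * 2 := by
    intro a v ha hv hv1 hodd
    have hv2 : orderOf v = 2 := orderOf_eq_prime (by rw [pow_two]; exact hVexp v hv) hv1
    have hc : Commute a v := hcomm a (hAT ha) v (hVT hv)
    rw [hc.orderOf_mul_eq_mul_orderOf_of_coprime (by rw [hv2]; exact Nat.coprime_two_right.mpr hodd),
      hv2]
  have hAodd : ∀ a ∈ A, Odd (orderOf a) := by
    intro a ha
    apply Odd.of_dvd_nat hk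
    rw [← hA]
    exact Subgroup.orderOf_dvd_natCard A ha
  refine ⟨fun y => ?_, fun va => ?_, ?_, ?_⟩
  · -- forward
    obtain ⟨y, hyT, hyo⟩ := y
    have hy2i : y ^ (2 * i) = 1 := by rw [← hyo]; exact pow_orderOf_eq_one y
    have hv2 : y ^ i * y ^ i = 1 := by rw [← pow_add, ← two_mul]; exact hy2i
    have hvT : y ^ i ∈ T := T.pow_mem hyT i
    have hvV : y ^ i ∈ V := mem_V_of_sq T V k hk hcomm hVT hV4 hT hvT hv2 hVexp
    have hv1 : y ^ i ≠ 1 := by
      intro h1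
      have := orderOf_dvd_of_pow_eq_one h1
      rw [hyo] at this
      have := Nat.le_of_dvd hi0 this
      omega
    -- the odd part
    have haT : y * y ^ i ∈ T := T.mul_mem hyT hvT
    have hai : (y * y ^ i) ^ i = 1 := by
      rw [← pow_succ', ← pow_mul]
      have : (i + 1) * i = (2 * i) * (j + 1) := by rw [hj]; ring
      rw [this, pow_mul, hy2i, one_pow]
    have haA : y * y ^ i ∈ A := by
      have hle : Subgroup.zpowers (y * y ^ i) ≤ A := by
        apply huniq _ (Subgroup.zpowers_le.mpr haT)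
        rw [Nat.card_zpowers]
        exact dvd_trans (orderOf_dvd_of_pow_eq_one hai) hi
      exact hle (Subgroup.mem_zpowers _)
    have hao : orderOf (y * y ^ i) = i := by
      have h1 := hord_mul (y * y ^ i) (y ^ i) haA hvV hv1 (hAodd _ haA)
      have e : y * y ^ i * y ^ i = y := by rw [mul_assoc, hv2, mul_one]
      rw [e, hyo] at h1
      omega
    exact (⟨y ^ i, hvV, hv1⟩, ⟨y * y ^ i, haA, hao⟩)
  · -- backward
    obtain ⟨⟨v, hvV, hv1⟩, ⟨a, haA, hao⟩⟩ := va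
    refine ⟨a * v, T.mul_mem (hAT haA) (hVT hvV), ?_⟩
    rw [hord_mul a v haA hvV hv1 (hAodd a haA), hao, mul_comm]
  · -- left inverse
    rintro ⟨y, hyT, hyo⟩
    apply Subtype.ext
    show y * y ^ i * y ^ i = y
    have hy2i : y ^ (2 * i) = 1 := by rw [← hyo]; exact pow_orderOf_eq_one y
    rw [mul_assoc, ← pow_add, ← two_mul, hy2i, mul_one]
  · -- right inverse
    rintro ⟨⟨v, hvV, hv1⟩, ⟨a, haA, hao⟩⟩
    have hc : Commute a v := hcomm a (hAT haA) v (hVT hvV)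
    have hai : a ^ i = 1 := by rw [← hao]; exact pow_orderOf_eq_one a
    have e1 : (a * v) ^ i = v := by
      rw [hc.mul_pow, hai, one_mul, hvpow v (hVexp v hvV)]
    apply Prod.ext
    · apply Subtype.ext
      exact e1
    · apply Subtype.ext
      show a * v * (a * v) ^ i = a
      rw [e1, mul_assoc, hVexp v hvV, mul_one]


/-- elements of `2`-power order square to one -/
theorem sq_eq_one_of_V [Finite G] {m : ℕ} (h : ReeFull G m) : ∀ v ∈ h.V, v * v = 1 := by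
  have hV : IsPGroup 2 h.V := IsPGroup.of_card (n := 2) (by rw [h.cardV]; norm_num)
  obtain ⟨g, hg⟩ := Cfsg.Agent.Helper4.ReeP1.exists_conj_mem_sylow h.S2 h.V hV
  intro v hv
  have h1 := h.S2_exp _ (hg v hv)
  have e : g * v * g⁻¹ * (g * v * g⁻¹) = g * (v * v) * g⁻¹ := by group
  rw [e] at h1
  have : v * v = g⁻¹ * (g * (v * v) * g⁻¹) * g := by group
  rw [this, h1]
  group

theorem count_T [Finite G] {m : ℕ} (h : ReeFull G m) (i : ℕ) (hi1 : 1 < i)
    (hik : i ∣ (3 ^ (2 * m + 1) + 1) / 4) :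
    6 * Nat.card {g : G // orderOf g = i} =
        Nat.totient i * (3 ^ (2 * m + 1)) ^ 3 * (3 ^ (2 * m + 1) - 1) *
          ((3 ^ (2 * m + 1)) ^ 2 - 3 ^ (2 * m + 1) + 1) ∧
      2 * Nat.card {g : G // orderOf g = 2 * i} =
        Nat.totient i * (3 ^ (2 * m + 1)) ^ 3 * (3 ^ (2 * m + 1) - 1) *
          ((3 ^ (2 * m + 1)) ^ 2 - 3 ^ (2 * m + 1) + 1) := by
  obtain ⟨hq27, hrr, hrq, hq8, hr2, h3q, h3r⟩ := arith_qr m h.hm
  have hcardG := h.card
  have hZH := h.cardZH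
  have hA1 := h.cardA1
  have hT := h.cardT
  have hAp := h.cardAp
  have hAm := h.cardAm
  have hN := h.normT
  have hpm := pm_mul hrr hrq
  have hVexp := sq_eq_one_of_V h
  generalize 3 ^ (2 * m + 1) = q at *
  generalize 3 ^ (m + 1) = r at *
  have hq1 : 1 ≤ q := by omega
  have h4k : q + 1 = 4 * ((q + 1) / 4) := by omega
  have hkodd : Odd ((q + 1) / 4) := by
    rw [Nat.odd_iff]; omega
  have hiq : i ∣ q + 1 := by rw [h4k]; exact Dvd.dvd.mul_left hik 4
  have hiodd : Odd i := Odd.of_dvd_nat hkodd hik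
  have h3i : ¬ 3 ∣ i := by
    intro h3
    have : 3 ∣ q + 1 := dvd_trans h3 hiq
    omega
  have hqpos : 0 < q + 1 := by omega
  -- membership in `A1`
  have hmemA1 : ∀ y : G, y ∈ h.T → orderOf y ∣ (q + 1) / 4 → y ∈ h.A1 := by
    intro y hy hyo
    have hle : Subgroup.zpowers y ≤ h.A1 := by
      apply h.scT.uniq _ (Subgroup.zpowers_le.mpr hy)
      rw [Nat.card_zpowers, hA1]
      exact hyo
    exact hle (Subgroup.mem_zpowers _)
  -- exclusions
  have hexZ : ∀ j : ℕ, 1 < j → j ∣ i → ¬ j ∣ q - 1 := by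
    intro j hj hji hjq
    have h2 := dvd_two_of hq1 hjq (dvd_trans hji hiq)
    have hjodd : Odd j := Odd.of_dvd_nat hiodd hji
    rcases (Nat.dvd_prime Nat.prime_two).mp h2 with h4 | h4
    · omega
    · rw [h4] at hjodd; exact absurd hjodd (by decide)
  have hexM : ∀ j : ℕ, 1 < j → j ∣ i → ¬ j ∣ q ^ 2 - q + 1 := by
    intro j hj hji hjM
    have h3 := dvd_three_of (by omega) (dvd_trans hji hiq) hjM
    rcases (Nat.dvd_prime Nat.prime_three).mp h3 with h4 | h4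
    · omega
    · exact h3i (by rw [← h4]; exact hji)
  constructor
  · -- odd order
    have key := count_family h.T i h.scT.comm ?_ ?_
    · have hcount : Nat.card {y : G // y ∈ h.T ∧ orderOf y = i} = Nat.totient i := by
        rw [← card_orderOf_cyclic h.A1 h.scT.cyc (by rw [hA1]; exact hik)]
        apply Nat.card_congr
        apply Equiv.subtypeEquivRight
        intro y
        constructor
        · rintro ⟨hy, hyo⟩
          exact ⟨hmemA1 y hy (by rw [hyo]; exact hik), hyo⟩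
        · rintro ⟨hy, hyo⟩
          exact ⟨h.scT.le hy, hyo⟩
      rw [hN, hcardG, hcount, cube_add_one hq1] at key
      apply Nat.eq_of_mul_eq_mul_right hqpos
      linear_combination key
    · intro y hy hyi g hg
      exact h.scT.cent y (hmemA1 y hy (by rw [hyi]; exact hik)) (ne_one_of_orderOf hi1 hyi) g hg
    · intro g hgi
      have hg1 : g ≠ 1 := ne_one_of_orderOf hi1 hgi
      rcases h.classify g hg1 with h3 | h2 | ⟨a, ha, -⟩ | ⟨a, ha, -⟩ | ⟨a, ha⟩ | ⟨a, ha⟩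
      · exact absurd (hgi ▸ h3) h3i
      · exfalso
        rw [hgi] at h2
        rw [h2] at hiodd
        exact absurd hiodd (by decide)
      · exfalso
        have h1 := dvd_card_of_conj_mem h.ZH ha
        rw [hgi, hZH] at h1
        exact hexZ i hi1 dvd_rfl h1
      · exact ⟨a, ha⟩
      · exfalso
        have h1 := dvd_card_of_conj_mem h.Ap ha
        rw [hgi, hAp] at h1
        exact hexM i hi1 dvd_rfl (by rw [← hpm]; exact Dvd.dvd.mul_left h1 _)
      · exfalso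
        have h1 := dvd_card_of_conj_mem h.Am ha
        rw [hgi, hAm] at h1
        exact hexM i hi1 dvd_rfl (by rw [← hpm]; exact Dvd.dvd.mul_right h1 _)
  · -- even order
    have hsq : ∀ y : G, orderOf y = 2 * i → orderOf (y * y) = i := by
      intro y hy
      rw [← pow_two, orderOf_pow, hy]
      have : Nat.gcd (2 * i) 2 = 2 := Nat.gcd_eq_right (Dvd.intro _ rfl)
      rw [this]
      omega
    have key := count_family h.T (2 * i) h.scT.comm ?_ ?_
    · have hcount := card_order_two_mul h.T h.V h.A1 ((q + 1) / 4) hkodd h.scT.comm h.V_le h.scT.le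
        h.cardV hVexp hA1 (by rw [hT]; exact h4k) h.scT.cyc
        (fun X hX hXk => h.scT.uniq X hX (by rw [hA1]; exact hXk)) i hik
      rw [hN, hcardG, hcount, cube_add_one hq1] at key
      apply Nat.eq_of_mul_eq_mul_right hqpos
      apply Nat.eq_of_mul_eq_mul_left (by norm_num : 0 < 3)
      linear_combination key
    · intro y hy hyi g hg
      have hyy : y * y ∈ h.A1 :=
        hmemA1 (y * y) (h.T.mul_mem hy hy) (by rw [hsq y hyi]; exact hik)
      exact h.scT.cent (y * y) hyy (ne_one_of_orderOf hi1 (hsq y hyi)) g (hg.mul_right hg)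
    · intro g hgi
      have hg1 : g ≠ 1 := ne_one_of_orderOf (by omega) hgi
      rcases h.classify g hg1 with h3 | h2 | ⟨a, ha, -⟩ | ⟨a, ha, -⟩ | ⟨a, ha⟩ | ⟨a, ha⟩
      · exfalso
        rw [hgi] at h3
        exact h3i ((Nat.Coprime.dvd_of_dvd_mul_left (by norm_num) h3))
      · omega
      · exfalso
        have h1 := dvd_card_of_conj_mem h.ZH ha
        rw [hgi, hZH] at h1
        exact hexZ i hi1 dvd_rfl (dvd_trans (Dvd.intro_left 2 rfl) h1)
      · exact ⟨a, ha⟩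
      · exfalso
        have h1 := dvd_card_of_conj_mem h.Ap ha
        rw [hgi, hAp] at h1
        exact hexM i hi1 dvd_rfl
          (by rw [← hpm]; exact Dvd.dvd.mul_left (dvd_trans (Dvd.intro_left 2 rfl) h1) _)
      · exfalso
        have h1 := dvd_card_of_conj_mem h.Am ha
        rw [hgi, hAm] at h1
        exact hexM i hi1 dvd_rfl
          (by rw [← hpm]; exact Dvd.dvd.mul_right (dvd_trans (Dvd.intro_left 2 rfl) h1) _)


theorem three_pow_dvd {m i : ℕ} (hi : i ∣ 3 ^ (m + 1)) : i = 1 ∨ 3 ∣ i := by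
  obtain ⟨k, -, rfl⟩ := (Nat.dvd_prime_pow Nat.prime_three).mp hi
  rcases Nat.eq_zero_or_pos k with h0 | h0
  · left; rw [h0, pow_zero]
  · right; exact dvd_pow_self 3 (by omega)

/-- F2357 -/
theorem F2357 {G : Type*} [Group G] [Finite G] {m : ℕ} (h : ReeFull G m) :
    Nat.card {g : G // orderOf g = 2} = (3 ^ (2 * m + 1)) ^ 2 * ((3 ^ (2 * m + 1)) ^ 2 - 3 ^ (2 * m + 1) + 1) ∧
    Nat.card {g : G // orderOf g = 3} = ((3 ^ (2 * m + 1)) ^ 2 - 1) * ((3 ^ (2 * m + 1)) ^ 3 + 1) ∧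
    Nat.card {g : G // orderOf g = 6} = (3 ^ (2 * m + 1)) ^ 2 * (3 ^ (2 * m + 1) - 1) * ((3 ^ (2 * m + 1)) ^ 3 + 1) ∧
    Nat.card {g : G // orderOf g = 9} = (3 ^ (2 * m + 1)) ^ 2 * (3 ^ (2 * m + 1) - 1) * ((3 ^ (2 * m + 1)) ^ 3 + 1) ∧
    (∀ i : ℕ, 2 < i → i ∣ 3 ^ (2 * m + 1) - 1 →
      2 * Nat.card {g : G // orderOf g = i} = Nat.totient i * (3 ^ (2 * m + 1)) ^ 3 * ((3 ^ (2 * m + 1)) ^ 3 + 1)) ∧
    (∀ i : ℕ, 1 < i → i ∣ (3 ^ (2 * m + 1) + 1) / 4 →
      6 * Nat.card {g : G // orderOf g = i} =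
          Nat.totient i * (3 ^ (2 * m + 1)) ^ 3 * (3 ^ (2 * m + 1) - 1) * ((3 ^ (2 * m + 1)) ^ 2 - 3 ^ (2 * m + 1) + 1) ∧
        2 * Nat.card {g : G // orderOf g = 2 * i} =
          Nat.totient i * (3 ^ (2 * m + 1)) ^ 3 * (3 ^ (2 * m + 1) - 1) * ((3 ^ (2 * m + 1)) ^ 2 - 3 ^ (2 * m + 1) + 1)) ∧
    (∀ i : ℕ, 1 < i → i ∣ 3 ^ (2 * m + 1) - 3 ^ (m + 1) + 1 →
      6 * Nat.card {g : G // orderOf g = i} =
        Nat.totient i * (3 ^ (2 * m + 1)) ^ 3 * ((3 ^ (2 * m + 1)) ^ 2 - 1) * (3 ^ (2 * m + 1) + 3 ^ (m + 1) + 1)) ∧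
    (∀ i : ℕ, 1 < i → i ∣ 3 ^ (2 * m + 1) + 3 ^ (m + 1) + 1 →
      6 * Nat.card {g : G // orderOf g = i} =
        Nat.totient i * (3 ^ (2 * m + 1)) ^ 3 * ((3 ^ (2 * m + 1)) ^ 2 - 1) * (3 ^ (2 * m + 1) - 3 ^ (m + 1) + 1)) := by
  obtain ⟨hq27, hrr, hrq, hq8, hr2, h3q, h3r⟩ := arith_qr m h.hm
  have hpm := pm_mul hrr hrq
  refine ⟨h.card2, h.card3, h.card6, h.card9, fun i hi2 hiq => count_ZH h i hi2 hiq,
    fun i hi1 hik => count_T h i hi1 hik, fun i hi1 hia => ?_, fun i hi1 hia => ?_⟩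
  · -- the family of order `q - r + 1`
    refine count_pm h.ZH h.T h.Am h.Ap (3 ^ (2 * m + 1)) (3 ^ (m + 1)) _ _ hq27 h3q
      (fun j hj => three_pow_dvd hj) h.card h.cardZH h.cardT h.scM h.cardAm h.normAm h.cardAp hpm
      (fun j h1 h2 => dvd_two_mul_of hrq h1 h2) ?_ i hi1 hia
    intro g hg1
    rcases h.classify g hg1 with h3 | h2 | ⟨a, ha, -⟩ | ⟨a, ha, -⟩ | ⟨a, ha⟩ | ⟨a, ha⟩
    · exact Or.inl h3
    · exact Or.inr (Or.inl h2)
    · exact Or.inr (Or.inr (Or.inl ⟨a, ha⟩))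
    · exact Or.inr (Or.inr (Or.inr (Or.inl ⟨a, ha⟩)))
    · exact Or.inr (Or.inr (Or.inr (Or.inr (Or.inr ⟨a, ha⟩))))
    · exact Or.inr (Or.inr (Or.inr (Or.inr (Or.inl ⟨a, ha⟩))))
  · -- the family of order `q + r + 1`
    refine count_pm h.ZH h.T h.Ap h.Am (3 ^ (2 * m + 1)) (3 ^ (m + 1)) _ _ hq27 h3q
      (fun j hj => three_pow_dvd hj) h.card h.cardZH h.cardT h.scP h.cardAp h.normAp h.cardAm
      (by rw [mul_comm]; exact hpm) (fun j h1 h2 => dvd_two_mul_of hrq h2 h1) ?_ i hi1 hia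
    intro g hg1
    rcases h.classify g hg1 with h3 | h2 | ⟨a, ha, -⟩ | ⟨a, ha, -⟩ | ⟨a, ha⟩ | ⟨a, ha⟩
    · exact Or.inl h3
    · exact Or.inr (Or.inl h2)
    · exact Or.inr (Or.inr (Or.inl ⟨a, ha⟩))
    · exact Or.inr (Or.inr (Or.inr (Or.inl ⟨a, ha⟩)))
    · exact Or.inr (Or.inr (Or.inr (Or.inr (Or.inl ⟨a, ha⟩))))
    · exact Or.inr (Or.inr (Or.inr (Or.inr (Or.inr ⟨a, ha⟩))))

end Cfsg.Agent.Helper12.ReeF2357
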