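import Mathlib
import Cfsg.Agent.Helper12.ReeF2357

/-! Pieces F2358, F1158, F1159 of helper6's Ree cluster: conjugacy of the cyclic subgroups of the
four families, their normalisers, and the element orders. -/

set_option autoImplicit false

namespace Cfsg.Agent.Helper12.ReeFinals

open Subgroup Cfsg.Agent.Helper6.ReeLoc Cfsg.Agent.Helper12.ReeF2357

/-- F2358 -/
theorem F2358 {G : Type*} [Group G] [Finite G] {m : ℕ} (h : ReeFull G m) (d : ℕ)
    (hd : d ∣ (3 ^ (2 * m + 1) - 1) / 2 ∨ d ∣ (3 ^ (2 * m + 1) + 1) / 4 ∨ d ∣ 3 ^ (2 * m + 1) - 3 ^ (m + 1) + 1 ∨ d ∣ 3 ^ (2 * m + 1) + 3 ^ (m + 1) + 1)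
    (A B : Subgroup G) (hA : IsCyclic A) (hB : IsCyclic B)
    (hAd : Nat.card A = d) (hBd : Nat.card B = d) :
    ∃ g : G, B = A.map (MulAut.conj g).toMonoidHom := by
  rcases hd with h1 | h1 | h1 | h1
  · exact h.scH.conj_of_card_eq A B hA hB (by rw [hAd, h.cardAH]; exact h1) (by rw [hAd, hBd])
  · exact h.scT.conj_of_card_eq A B hA hB (by rw [hAd, h.cardA1]; exact h1) (by rw [hAd, hBd])
  · exact h.scM.conj_of_card_eq A B hA hB (by rw [hAd, h.cardAm]; exact h1) (by rw [hAd, hBd])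
  · exact h.scP.conj_of_card_eq A B hA hB (by rw [hAd, h.cardAp]; exact h1) (by rw [hAd, hBd])

theorem ne_bot_of_card {G : Type*} [Group G] {A : Subgroup G} (hA : 1 < Nat.card A) : A ≠ ⊥ := by
  rintro rfl
  rw [Subgroup.card_bot] at hA
  omega

/-- F1158 -/
theorem F1158 {G : Type*} [Group G] [Finite G] {m : ℕ} (h : ReeFull G m) :
    ∀ kn ∈ ({((3 ^ (2 * m + 1) - 1) / 2, 2 * (3 ^ (2 * m + 1) - 1)), ((3 ^ (2 * m + 1) + 1) / 4, 6 * (3 ^ (2 * m + 1) + 1)),
        (3 ^ (2 * m + 1) - 3 ^ (m + 1) + 1, 6 * (3 ^ (2 * m + 1) - 3 ^ (m + 1) + 1)),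
        (3 ^ (2 * m + 1) + 3 ^ (m + 1) + 1, 6 * (3 ^ (2 * m + 1) + 3 ^ (m + 1) + 1))} : Set (ℕ × ℕ)),
      ∃ A : Subgroup G, IsCyclic A ∧ Nat.card A = kn.1 ∧
        Nat.card (Subgroup.normalizer (A : Set G)) = kn.2 ∧
        ∀ A₀ : Subgroup G, A₀ ≤ A → A₀ ≠ ⊥ →
          Subgroup.normalizer (A₀ : Set G) = Subgroup.normalizer (A : Set G) := by
  obtain ⟨hq27, hrr, hrq, hq8, hr2, h3q, h3r⟩ := arith_qr m h.hm
  intro kn hkn
  simp only [Set.mem_insert_iff, Set.mem_singleton_iff] at hkn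
  rcases hkn with rfl | rfl | rfl | rfl
  · have hne : h.AH ≠ ⊥ := ne_bot_of_card (by rw [h.cardAH]; omega)
    refine ⟨h.AH, h.scH.cyc, h.cardAH, ?_, fun A₀ h1 h2 => h.scH.normalizer_eq A₀ h1 h2⟩
    rw [h.scH.normalizer_A_eq hne, h.normZH]
  · have hne : h.A1 ≠ ⊥ := ne_bot_of_card (by rw [h.cardA1]; omega)
    refine ⟨h.A1, h.scT.cyc, h.cardA1, ?_, fun A₀ h1 h2 => h.scT.normalizer_eq A₀ h1 h2⟩
    rw [h.scT.normalizer_A_eq hne, h.normT]
  · exact ⟨h.Am, h.scM.cyc, h.cardAm, h.normAm, fun A₀ h1 h2 => h.scM.normalizer_eq A₀ h1 h2⟩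
  · exact ⟨h.Ap, h.scP.cyc, h.cardAp, h.normAp, fun A₀ h1 h2 => h.scP.normalizer_eq A₀ h1 h2⟩


/-- an element of a cyclic subgroup of prescribed order -/
theorem exists_orderOf_of_cyclic {G : Type*} [Group G] [Finite G] (Z : Subgroup G) (hZ : IsCyclic Z)
    {d : ℕ} (hd : d ∣ Nat.card Z) : ∃ g : G, orderOf g = d := by
  have hZ0 : Nat.card Z ≠ 0 := Nat.card_pos.ne'
  have hd0 : 0 < d := Nat.pos_of_ne_zero (fun h0 => hZ0 (by rw [h0] at hd; exact Nat.eq_zero_of_zero_dvd hd))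
  have h1 := card_orderOf_cyclic Z hZ hd
  have h2 : 0 < Nat.card {y : G // y ∈ Z ∧ orderOf y = d} := by
    rw [h1]; exact Nat.totient_pos.mpr hd0
  obtain ⟨⟨y, -, hy⟩⟩ := (Nat.card_pos_iff.mp h2).1
  exact ⟨y, hy⟩

theorem exists_of_card_pos {G : Type*} [Group G] {d n : ℕ}
    (h : Nat.card {g : G // orderOf g = d} = n) (hn : 0 < n) : ∃ g : G, orderOf g = d := by
  rw [← h] at hn
  obtain ⟨⟨y, hy⟩⟩ := (Nat.card_pos_iff.mp hn).1
  exact ⟨y, hy⟩

/-- F1159 -/
theorem F1159 {G : Type*} [Group G] [Finite G] {m : ℕ} (h : ReeFull G m) (d : ℕ) :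
    (∃ g : G, orderOf g = d) ↔
      (d ∣ 6 ∨ d ∣ 9 ∨ d ∣ 3 ^ (2 * m + 1) - 1 ∨ d ∣ (3 ^ (2 * m + 1) + 1) / 2 ∨
        d ∣ 3 ^ (2 * m + 1) - 3 ^ (m + 1) + 1 ∨ d ∣ 3 ^ (2 * m + 1) + 3 ^ (m + 1) + 1) := by
  obtain ⟨hq27, hrr, hrq, hq8, hr2, h3q, h3r⟩ := arith_qr m h.hm
  have hVexp := sq_eq_one_of_V h
  have hcard2 := h.card2
  have hcard3 := h.card3
  have hcard6 := h.card6
  have hcard9 := h.card9
  have hZH := h.cardZH
  have hA1 := h.cardA1
  have hT := h.cardT
  have hAp := h.cardAp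
  have hAm := h.cardAm
  generalize 3 ^ (2 * m + 1) = q at *
  generalize 3 ^ (m + 1) = r at *
  have hq1 : 1 ≤ q := by omega
  have h4k : q + 1 = 4 * ((q + 1) / 4) := by omega
  have h2k : (q + 1) / 2 = 2 * ((q + 1) / 4) := by omega
  have hkodd : Odd ((q + 1) / 4) := by
    rw [Nat.odd_iff]; omega
  constructor
  · rintro ⟨g, rfl⟩
    by_cases hg1 : g = 1
    · left; rw [hg1, orderOf_one]; exact one_dvd _
    rcases h.classify g hg1 with h3 | h2 | ⟨a, ha, -⟩ | ⟨a, ha, -⟩ | ⟨a, ha⟩ | ⟨a, ha⟩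
    · rcases h.three_orders g h3 with h4 | h4 | h4
      · left; rw [h4]; norm_num
      · left; rw [h4]
      · right; left; rw [h4]
    · left; rw [h2]; norm_num
    · right; right; left
      rw [← hZH]; exact dvd_card_of_conj_mem h.ZH ha
    · right; right; right; left
      -- elements of `T` have order dividing `(q + 1) / 2`
      rw [← orderOf_conj' a g]
      set t := a * g * a⁻¹ with ht
      apply orderOf_dvd_of_pow_eq_one
      rw [h2k, mul_comm, pow_mul, pow_two]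
      -- `t ^ k` is a `2`-element of `T`
      have htk : t ^ ((q + 1) / 4) ∈ h.T := h.T.pow_mem ha _
      have h4 : (t ^ ((q + 1) / 4)) ^ 4 = 1 := by
        rw [← pow_mul, mul_comm, ← h4k, ← hT]
        exact orderOf_dvd_iff_pow_eq_one.mp (Subgroup.orderOf_dvd_natCard _ ha)
      have hp : IsPGroup 2 (Subgroup.zpowers (t ^ ((q + 1) / 4))) := by
        have hd4 : orderOf (t ^ ((q + 1) / 4)) ∣ 2 ^ 2 := orderOf_dvd_of_pow_eq_one (by norm_num; exact h4)
        obtain ⟨k, -, hk⟩ := (Nat.dvd_prime_pow Nat.prime_two).mp hd4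
        exact IsPGroup.of_card (n := k) (by rw [Nat.card_zpowers, hk])
      obtain ⟨b, hb⟩ := Cfsg.Agent.Helper4.ReeP1.exists_conj_mem_sylow h.S2 _ hp
      have h5 := h.S2_exp _ (hb _ (Subgroup.mem_zpowers _))
      set s := t ^ ((q + 1) / 4) with hs
      have e : b * s * b⁻¹ * (b * s * b⁻¹) = b * (s * s) * b⁻¹ := by group
      rw [e] at h5
      have : s * s = b⁻¹ * (b * (s * s) * b⁻¹) * b := by group
      rw [this, h5]
      group
    · right; right; right; right; right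
      rw [← hAp]; exact dvd_card_of_conj_mem h.Ap ha
    · right; right; right; right; left
      rw [← hAm]; exact dvd_card_of_conj_mem h.Am ha
  · rintro (h6 | h9 | hZ | hTT | hM | hP)
    · have : d ∈ Nat.divisors 6 := Nat.mem_divisors.mpr ⟨h6, by norm_num⟩
      have hdiv : Nat.divisors 6 = {1, 2, 3, 6} := by decide
      rw [hdiv] at this
      simp only [Finset.mem_insert, Finset.mem_singleton] at this
      rcases this with rfl | rfl | rfl | rfl
      · exact ⟨1, orderOf_one⟩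
      · exact exists_of_card_pos hcard2 (by positivity)
      · refine exists_of_card_pos hcard3 (Nat.mul_pos ?_ (by positivity))
        have : 1 < q ^ 2 := by nlinarith
        omega
      · refine exists_of_card_pos hcard6 (Nat.mul_pos (Nat.mul_pos (by positivity) (by omega)) (by positivity))
    · have : d ∈ Nat.divisors 9 := Nat.mem_divisors.mpr ⟨h9, by norm_num⟩
      have hdiv : Nat.divisors 9 = {1, 3, 9} := by decide
      rw [hdiv] at this
      simp only [Finset.mem_insert, Finset.mem_singleton] at this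
      rcases this with rfl | rfl | rfl
      · exact ⟨1, orderOf_one⟩
      · refine exists_of_card_pos hcard3 (Nat.mul_pos ?_ (by positivity))
        have : 1 < q ^ 2 := by nlinarith
        omega
      · refine exists_of_card_pos hcard9 (Nat.mul_pos (Nat.mul_pos (by positivity) (by omega)) (by positivity))
    · exact exists_orderOf_of_cyclic h.ZH h.cycZH (by rw [hZH]; exact hZ)
    · -- divisors of `2 k`
      rw [h2k] at hTT
      rcases Nat.even_or_odd d with hev | hodd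
      · obtain ⟨i, hi⟩ := hev
        have hi' : d = 2 * i := by omega
        rw [hi'] at hTT ⊢
        have hik : i ∣ (q + 1) / 4 := Nat.dvd_of_mul_dvd_mul_left (by norm_num) hTT
        have hcount := card_order_two_mul h.T h.V h.A1 ((q + 1) / 4) hkodd h.scT.comm h.V_le h.scT.le
          h.cardV hVexp hA1 (by rw [hT]; exact h4k) h.scT.cyc
          (fun X hX hXk => h.scT.uniq X hX (by rw [hA1]; exact hXk)) i hik
        have hi0 : 0 < i := Nat.pos_of_ne_zero (fun h0 => by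
          rw [h0] at hik
          have := Nat.eq_zero_of_zero_dvd hik
          omega)
        have hpos : 0 < Nat.card {y : G // y ∈ h.T ∧ orderOf y = 2 * i} := by
          rw [hcount]
          exact Nat.mul_pos (by norm_num) (Nat.totient_pos.mpr hi0)
        obtain ⟨⟨y, -, hy⟩⟩ := (Nat.card_pos_iff.mp hpos).1
        exact ⟨y, hy⟩
      · have hdk : d ∣ (q + 1) / 4 :=
          (Nat.Coprime.dvd_of_dvd_mul_left (Nat.coprime_two_right.mpr hodd) hTT)
        exact exists_orderOf_of_cyclic h.A1 h.scT.cyc (by rw [hA1]; exact hdk)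
    · exact exists_orderOf_of_cyclic h.Am h.scM.cyc (by rw [hAm]; exact hM)
    · exact exists_orderOf_of_cyclic h.Ap h.scP.cyc (by rw [hAp]; exact hP)

end Cfsg.Agent.Helper12.ReeFinals
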