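import Mathlib
import Cfsg.Agent.S0713
import Cfsg.Agent.Helper13.S0679Defs
import Cfsg.Agent.Helper18.S0679BR
import Cfsg.Agent.Helper3.S0679SYL
import Cfsg.Agent.Helper4.S0679J
import Cfsg.Agent.Helper16.S0679FIXONLY

set_option autoImplicit false
set_option linter.unusedSectionVars false
set_option linter.unusedVariables false

/-! # S0679 (driver helper13), step (4): `|G| = 95040` is impossible (helper12).  Part A: stabilisers, the Sylow
3-subgroup of a two-point stabiliser is transitive on the other nine points, `G` is 3-transitive. -/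

namespace Cfsg.Agent.S0679P

open Equiv MulAction

variable {α : Type*} [Fintype α] [DecidableEq α] {G : Subgroup (Equiv.Perm α)}

/-- the order of a subgroup of `Perm α` described as the stabiliser of an embedding -/
theorem N95.card_eq {k : ℕ} (x : Fin k ↪ α) (S : Subgroup (Perm α))
    (hS : ∀ g, g ∈ S ↔ g ∈ G ∧ ∀ i, g (x i) = x i) :
    Nat.card S = Nat.card (stabilizer G x) := by
  have h1 : S = (stabilizer G x).map G.subtype := by
    ext g
    rw [hS, Subgroup.mem_map]
    constructor
    · rintro ⟨hg, hfix⟩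
      exact ⟨⟨g, hg⟩, (BR.mem_stab _ x).mpr hfix, rfl⟩
    · rintro ⟨s, hs, rfl⟩
      exact ⟨s.2, (BR.mem_stab s x).mp hs⟩
  rw [h1]
  exact Nat.card_congr ((stabilizer G x).equivMapOfInjective G.subtype
    (Subgroup.subtype_injective G)).symm.toEquiv

/-- the embedding of a pair -/
def N95.emb2 {a b : α} (hab : a ≠ b) : Fin 2 ↪ α :=
  ⟨![a, b], by
    intro i j h
    fin_cases i <;> fin_cases j <;> simp_all⟩

/-- the embedding of a triple -/
def N95.emb3 {a b c : α} (hab : a ≠ b) (hac : a ≠ c) (hbc : b ≠ c) : Fin 3 ↪ α :=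
  ⟨![a, b, c], by
    intro i j h
    fin_cases i <;> fin_cases j <;> simp_all⟩

/-- 2-transitivity, elementary form -/
theorem N95.trans2 (h2 : IsMultiplyPretransitive G α 2) {a b a' b' : α} (hab : a ≠ b)
    (hab' : a' ≠ b') : ∃ g ∈ G, g a = a' ∧ g b = b' := by
  obtain ⟨g, hg, h⟩ := BR.ex_pt h2 (N95.emb2 hab) (N95.emb2 hab')
  exact ⟨g, hg, h 0, h 1⟩

/-- the order of a two-point stabiliser -/
theorem N95.card_stab2 (h11 : Fintype.card α = 11) (h2 : IsMultiplyPretransitive G α 2)
    (hord : Nat.card G = 95040) {a b : α} (hab : a ≠ b) : Nat.card (stabF G {a, b}) = 864 := by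
  have h1 := BR.card_stab h2 (N95.emb2 hab)
  rw [h11, hord] at h1
  have h3 : Nat.card (stabF G {a, b}) = Nat.card (stabilizer G (N95.emb2 hab)) := by
    apply N95.card_eq
    intro g
    rw [mem_stabF]
    constructor
    · rintro ⟨hg, hfix⟩
      refine ⟨hg, fun i => ?_⟩
      fin_cases i
      · exact hfix a (by simp)
      · exact hfix b (by simp)
    · rintro ⟨hg, hfix⟩
      refine ⟨hg, fun c hc => ?_⟩
      rw [Finset.mem_insert, Finset.mem_singleton] at hc
      rcases hc with rfl | rfl
      · exact hfix 0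
      · exact hfix 1
  rw [h3]
  have h4 : Nat.descFactorial 11 2 = 110 := by decide
  rw [h4] at h1
  omega

/-- a subgroup of order 27 of `G` fixing `a ≠ b` is transitive on the other nine points -/
theorem N95.trans9 (h11 : Fintype.card α = 11) (h2 : IsMultiplyPretransitive G α 2)
    (hA : ¬ alternatingGroup α ≤ G) (T : Subgroup (Perm α)) (hTG : T ≤ G) (hT : Nat.card T = 27)
    {a b : α} (hab : a ≠ b) (ha : ∀ t ∈ T, t a = a) (hb : ∀ t ∈ T, t b = b) {c c' : α}
    (hca : c ≠ a) (hcb : c ≠ b) (hc'a : c' ≠ a) (hc'b : c' ≠ b) : ∃ t ∈ T, t c = c' := by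
  classical
  haveI : Fact (Nat.Prime 3) := ⟨Nat.prime_three⟩
  haveI : Finite T := Nat.finite_of_card_ne_zero (by rw [hT]; norm_num)
  -- orbit-stabiliser in `T`
  have h1 := MulAction.index_stabilizer T c
  have h2' := Subgroup.index_mul_card (stabilizer T c)
  rw [hT] at h2'
  -- the stabiliser has order 1 or 3
  have hdvd : Nat.card (stabilizer T c) ∣ 27 := ⟨_, by rw [mul_comm]; exact h2'.symm⟩
  have hn9 : ¬ 9 ∣ Nat.card (stabilizer T c) := by
    intro h9
    obtain ⟨U, hU⟩ := Sylow.exists_subgroup_card_pow_prime (G := stabilizer T c) 3 (n := 2)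
      (by
        have e9 : (3 : ℕ) ^ 2 = 9 := by norm_num
        rw [e9]
        exact h9)
    -- map `U` to `Perm α`
    set U' : Subgroup (Perm α) := (U.map (stabilizer T c).subtype).map T.subtype with hU'
    have hU'card : Nat.card U' = 9 := by
      rw [hU']
      have e1 := Nat.card_congr ((U.map (stabilizer T c).subtype).equivMapOfInjective T.subtype
        (Subgroup.subtype_injective T)).symm.toEquiv
      have e2 := Nat.card_congr (U.equivMapOfInjective (stabilizer T c).subtype
        (Subgroup.subtype_injective _)).symm.toEquiv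
      rw [e1, e2, hU]
      norm_num
    have hU'mem : ∀ u ∈ U', u ∈ T ∧ u c = c := by
      intro u hu
      rw [hU', Subgroup.mem_map] at hu
      obtain ⟨v, hv, rfl⟩ := hu
      rw [Subgroup.mem_map] at hv
      obtain ⟨w, hw, rfl⟩ := hv
      refine ⟨(w : T).2, ?_⟩
      have := w.2
      rw [MulAction.mem_stabilizer_iff] at this
      exact this
    obtain ⟨t, ht, htc⟩ := FIXONLY h11 h2 hA U' (fun u hu => hTG (hU'mem u hu).1) hU'card hab
      (Ne.symm hca) (Ne.symm hcb) (fun u hu => ha u (hU'mem u hu).1) (fun u hu => hb u (hU'mem u hu).1)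
      (w := c)
    exact htc (hU'mem t ht).2
  have hcard : Nat.card (stabilizer T c) = 1 ∨ Nat.card (stabilizer T c) = 3 := by
    have h27 : (27 : ℕ) = 3 ^ 3 := by norm_num
    rw [h27, Nat.dvd_prime_pow Nat.prime_three] at hdvd
    obtain ⟨k, hk, hk'⟩ := hdvd
    interval_cases k
    · left; rw [hk']; norm_num
    · right; rw [hk']; norm_num
    · exfalso; apply hn9; rw [hk']; norm_num
    · exfalso; apply hn9; rw [hk']; norm_num
  have horb : 9 ≤ (orbit T c).ncard := by
    rw [← h1]
    rcases hcard with h | h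
    · rw [h, mul_one] at h2'; omega
    · rw [h] at h2'; omega
  -- the orbit lies in the nine other points
  have hsub : orbit T c ⊆ {d : α | d ≠ a ∧ d ≠ b} := by
    rintro d ⟨t, rfl⟩
    refine ⟨fun h => hca ?_, fun h => hcb ?_⟩
    · have h' : (t : Perm α) c = a := h
      have := ha t t.2
      rw [← this] at h'
      exact (t : Perm α).injective h'
    · have h' : (t : Perm α) c = b := h
      have := hb t t.2
      rw [← this] at h'
      exact (t : Perm α).injective h'
  have hnine : ({d : α | d ≠ a ∧ d ≠ b} : Set α).ncard = 9 := by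
    have e : ({d : α | d ≠ a ∧ d ≠ b} : Set α) = ((({a, b} : Finset α)ᶜ : Finset α) : Set α) := by
      ext d
      simp only [Set.mem_setOf_eq, Finset.coe_compl, Finset.coe_insert, Finset.coe_singleton,
        Set.mem_compl_iff, Set.mem_insert_iff, Set.mem_singleton_iff, not_or]
    rw [e, Set.ncard_coe_finset, Finset.card_compl, h11, Finset.card_pair hab]
  have heq : orbit T c = {d : α | d ≠ a ∧ d ≠ b} :=
    Set.eq_of_subset_of_ncard_le hsub (by rw [hnine]; exact horb) (Set.toFinite _)
  have hc' : c' ∈ orbit T c := by rw [heq]; exact ⟨hc'a, hc'b⟩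
  obtain ⟨t, ht⟩ := hc'
  exact ⟨t, t.2, ht⟩

end Cfsg.Agent.S0679P
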