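import Mathlib
import Cfsg.Agent.S0713
import Cfsg.Agent.Helper13.S0679Defs
import Cfsg.Agent.Helper18.S0679BR
import Cfsg.Agent.Helper3.S0679SYL
import Cfsg.Agent.Helper3.S0679ORB
import Cfsg.Agent.Helper4.S0679J
import Cfsg.Agent.Helper16.S0679FIXONLY
import Cfsg.Agent.Helper20.S0679ORBCore
import Cfsg.Agent.Helper27.S0679CTT
import Cfsg.Agent.Helper10.S0679PERMB
import Cfsg.Agent.Helper12.S0679N95A

set_option autoImplicit false
set_option linter.unusedSectionVars false
set_option linter.unusedVariables false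

/-! # S0679 (driver helper13), step (4): `|G| = 95040` is impossible (helper12).  Part B: 3-transitivity, an element of
type `3² 1⁵`, its centraliser is transitive on its five fixed points, an element of order 5 commuting with it is a
5-cycle: Jordan. -/

namespace Cfsg.Agent.S0679P

open Equiv MulAction

variable {α : Type*} [Fintype α] [DecidableEq α] {G : Subgroup (Equiv.Perm α)}

/-- 3-transitivity, elementary form -/
theorem N95.trans3 (h11 : Fintype.card α = 11) (h2 : IsMultiplyPretransitive G α 2)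
    (hA : ¬ alternatingGroup α ≤ G) (hord : Nat.card G = 95040) {a b c a' b' c' : α} (hab : a ≠ b)
    (hac : a ≠ c) (hbc : b ≠ c) (hab' : a' ≠ b') (hac' : a' ≠ c') (hbc' : b' ≠ c') :
    ∃ g ∈ G, g a = a' ∧ g b = b' ∧ g c = c' := by
  obtain ⟨g₁, hg₁, h1a, h1b⟩ := N95.trans2 h2 hab hab'
  have hc1a : g₁ c ≠ a' := by
    intro h
    rw [← h1a] at h
    exact hac (g₁.injective h).symm
  have hc1b : g₁ c ≠ b' := by
    intro h
    rw [← h1b] at h
    exact hbc (g₁.injective h).symm
  have hK := N95.card_stab2 h11 h2 hord hab'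
  obtain ⟨T, hTK, hT⟩ := SYL.exists_sylow (stabF G {a', b'}) (p := 3) (k := 3) (m := 32)
    Nat.prime_three (by rw [hK]; norm_num) (by norm_num)
  have hT27 : Nat.card T = 27 := by rw [hT]; norm_num
  have hTa : ∀ t ∈ T, t a' = a' := fun t ht => (mem_stabF.mp (hTK ht)).2 a' (by simp)
  have hTb : ∀ t ∈ T, t b' = b' := fun t ht => (mem_stabF.mp (hTK ht)).2 b' (by simp)
  have hTG : T ≤ G := fun t ht => (mem_stabF.mp (hTK ht)).1
  obtain ⟨t, ht, htc⟩ := N95.trans9 h11 h2 hA T hTG hT27 hab' hTa hTb hc1a hc1b (Ne.symm hac')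
    (Ne.symm hbc')
  refine ⟨t * g₁, G.mul_mem (hTG ht) hg₁, ?_, ?_, ?_⟩
  · rw [Perm.mul_apply, h1a, hTa t ht]
  · rw [Perm.mul_apply, h1b, hTb t ht]
  · rw [Perm.mul_apply, htc]

/-- 3-transitivity -/
theorem N95.trans3' (h11 : Fintype.card α = 11) (h2 : IsMultiplyPretransitive G α 2)
    (hA : ¬ alternatingGroup α ≤ G) (hord : Nat.card G = 95040) : IsMultiplyPretransitive G α 3 := by
  apply BR.intro
  intro x y
  have hx : ∀ {i j : Fin 3}, i ≠ j → x i ≠ x j := fun h h' => h (x.injective h')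
  have hy : ∀ {i j : Fin 3}, i ≠ j → y i ≠ y j := fun h h' => h (y.injective h')
  obtain ⟨g, hg, h0, h1, h2'⟩ := N95.trans3 h11 h2 hA hord (a := x 0) (b := x 1) (c := x 2)
    (a' := y 0) (b' := y 1) (c' := y 2) (hx (by decide)) (hx (by decide)) (hx (by decide))
    (hy (by decide)) (hy (by decide)) (hy (by decide))
  refine ⟨g, hg, fun i => ?_⟩
  fin_cases i
  · exact h0
  · exact h1
  · exact h2'

/-- the order of a three-point stabiliser -/
theorem N95.card_stab3 (h11 : Fintype.card α = 11) (h3 : IsMultiplyPretransitive G α 3)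
    (hord : Nat.card G = 95040) {a b c : α} (hab : a ≠ b) (hac : a ≠ c) (hbc : b ≠ c) :
    Nat.card (stabF G {a, b, c}) = 96 := by
  have h1 := BR.card_stab h3 (N95.emb3 hab hac hbc)
  rw [h11, hord] at h1
  have h3' : Nat.card (stabF G {a, b, c}) = Nat.card (stabilizer G (N95.emb3 hab hac hbc)) := by
    apply N95.card_eq
    intro g
    rw [mem_stabF]
    constructor
    · rintro ⟨hg, hfix⟩
      refine ⟨hg, fun i => ?_⟩
      fin_cases i
      · exact hfix a (by simp)
      · exact hfix b (by simp)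
      · exact hfix c (by simp)
    · rintro ⟨hg, hfix⟩
      refine ⟨hg, fun d hd => ?_⟩
      rw [Finset.mem_insert, Finset.mem_insert, Finset.mem_singleton] at hd
      rcases hd with rfl | rfl | rfl
      · exact hfix 0
      · exact hfix 1
      · exact hfix 2
  rw [h3']
  have h4 : Nat.descFactorial 11 3 = 990 := by decide
  rw [h4] at h1
  omega

/-- ORB for `|G| = 95040` -/
theorem N95.orb (h11 : Fintype.card α = 11) (h2 : IsMultiplyPretransitive G α 2)
    (hA : ¬ alternatingGroup α ≤ G) (hord : Nat.card G = 95040) {x : Perm α} (hx : x ∈ G)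
    (hct : x.cycleType = {3, 3}) {u v w w' : α} (huv : u ≠ v) (hu : x u = u) (hv : x v = v)
    (hw : x w = w) (hw' : x w' = w') (hwu : w ≠ u) (hwv : w ≠ v) (hw'u : w' ≠ u) (hw'v : w' ≠ v) :
    ∃ c ∈ G, c * x = x * c ∧ c w = w' := by
  classical
  haveI : Fact (Nat.Prime 3) := ⟨Nat.prime_three⟩
  have hK := N95.card_stab2 h11 h2 hord huv
  have hxK : x ∈ stabF G {u, v} := by
    rw [mem_stabF]
    refine ⟨hx, fun d hd => ?_⟩
    rw [Finset.mem_insert, Finset.mem_singleton] at hd
    rcases hd with rfl | rfl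
    · exact hu
    · exact hv
  haveI : Finite (stabF G {u, v}) := Nat.finite_of_card_ne_zero (by rw [hK]; norm_num)
  have hx3 : orderOf x = 3 := ORB.orderOf_three hct
  have hH : Nat.card (Subgroup.zpowers (⟨x, hxK⟩ : stabF G {u, v})) = 3 ^ 1 := by
    rw [Nat.card_zpowers, Subgroup.orderOf_mk, hx3, pow_one]
  obtain ⟨K₉, hK₉, hle⟩ := Sylow.exists_subgroup_card_pow_succ (G := stabF G {u, v}) (p := 3) (n := 1)
    (by rw [hK]; norm_num) hH
  set T : Subgroup (Perm α) := K₉.map (stabF G {u, v}).subtype with hT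
  have hT9 : Nat.card T = 9 := by
    rw [hT]
    have e1 := Nat.card_congr (K₉.equivMapOfInjective (stabF G {u, v}).subtype
      (Subgroup.subtype_injective _)).symm.toEquiv
    rw [e1, hK₉]
    norm_num
  have hTmem : ∀ t ∈ T, t ∈ stabF G {u, v} := by
    intro t ht
    rw [hT, Subgroup.mem_map] at ht
    obtain ⟨k, -, rfl⟩ := ht
    exact k.2
  have hTG : T ≤ G := fun t ht => (mem_stabF.mp (hTmem t ht)).1
  have hTu : ∀ t ∈ T, t u = u := fun t ht => (mem_stabF.mp (hTmem t ht)).2 u (by simp)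
  have hTv : ∀ t ∈ T, t v = v := fun t ht => (mem_stabF.mp (hTmem t ht)).2 v (by simp)
  have hxT : x ∈ T := by
    rw [hT, Subgroup.mem_map]
    exact ⟨⟨x, hxK⟩, hle (Subgroup.mem_zpowers _), rfl⟩
  have hfix := FIXONLY h11 h2 hA T hTG hT9 huv (Ne.symm hwu) (Ne.symm hwv) hTu hTv (w := w)
  exact ORB.core h11 hct huv hu hv hw hw' hwu hwv hw'u hw'v T hTG hT9 hxT hTu hTv hfix

/-- CENT5 for `|G| = 95040` -/
theorem N95.cent5 (h11 : Fintype.card α = 11) (h2 : IsMultiplyPretransitive G α 2)
    (hA : ¬ alternatingGroup α ≤ G) (hord : Nat.card G = 95040) {x : Perm α} (hx : x ∈ G)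
    (hct : x.cycleType = {3, 3}) : ∃ y ∈ G, orderOf y = 5 ∧ y * x = x * y := by
  classical
  -- the centraliser of `x` in `G`
  set C : Subgroup (Perm α) := G ⊓ Subgroup.centralizer {x} with hC
  have hCmem : ∀ c, c ∈ C ↔ c ∈ G ∧ c * x = x * c := by
    intro c
    rw [hC, Subgroup.mem_inf, Subgroup.mem_centralizer_iff]
    constructor
    · rintro ⟨h1, h2'⟩
      exact ⟨h1, (h2' x (Set.mem_singleton x)).symm⟩
    · rintro ⟨h1, h2'⟩
      refine ⟨h1, fun z hz => ?_⟩
      rw [Set.mem_singleton_iff] at hz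
      rw [hz]
      exact h2'.symm
  -- the fixed points
  have hΦ : (fixF x).card = 5 := by
    have := (CTT.pair hct).2.2
    rw [h11] at this
    omega
  obtain ⟨a, ha⟩ : (fixF x).Nonempty := by
    rw [← Finset.card_pos, hΦ]; norm_num
  -- the orbit of `a` under `C` is `Fix x`
  have horb : orbF C a = fixF x := by
    apply Finset.Subset.antisymm
    · intro d hd
      obtain ⟨c, hc, rfl⟩ := mem_orbF.mp hd
      rw [mem_fixF]
      have h1 := ((hCmem c).mp hc).2
      have h2' : (x * c) a = (c * x) a := by rw [h1]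
      rw [Perm.mul_apply, Perm.mul_apply, mem_fixF.mp ha] at h2'
      exact h2'
    · intro w' hw'
      by_cases hw'a : w' = a
      · rw [hw'a]
        exact SYL.mem_orbF_self C a
      · -- two further fixed points
        have hS : 1 < (((fixF x).erase a).erase w').card := by
          rw [Finset.card_erase_of_mem, Finset.card_erase_of_mem ha, hΦ]
          · norm_num
          · exact Finset.mem_erase.mpr ⟨hw'a, hw'⟩
        obtain ⟨u, hu, v, hv, huv⟩ := Finset.one_lt_card.mp hS
        rw [Finset.mem_erase, Finset.mem_erase] at hu hv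
        obtain ⟨c, hcG, hcx, hcw⟩ := N95.orb h11 h2 hA hord hx hct huv (mem_fixF.mp hu.2.2)
          (mem_fixF.mp hv.2.2) (mem_fixF.mp ha) (mem_fixF.mp hw') (Ne.symm hu.2.1) (Ne.symm hv.2.1)
          (Ne.symm hu.1) (Ne.symm hv.1)
        exact mem_orbF.mpr ⟨c, (hCmem c).mpr ⟨hcG, hcx⟩, hcw⟩
  have h5 : 5 ∣ Nat.card C := by
    have := SYL.card_orbF_dvd C a
    rwa [horb, hΦ] at this
  obtain ⟨y, hyC, hy5⟩ := SYL.cauchy C (p := 5) (by norm_num) h5
  exact ⟨y, ((hCmem y).mp hyC).1, hy5, ((hCmem y).mp hyC).2⟩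

/-- **step (4)**: a 2-transitive group of degree 11 not containing `A₁₁` does not have order 95040 -/
theorem N95040.main (h11 : Fintype.card α = 11) (h2 : IsMultiplyPretransitive G α 2)
    (hA : ¬ alternatingGroup α ≤ G) (hord : Nat.card G = 95040) : False := by
  classical
  -- three distinct points
  let e := Fintype.equivFinOfCardEq h11
  obtain ⟨a, ha⟩ : ∃ a : α, a = e.symm 0 := ⟨_, rfl⟩
  obtain ⟨b, hb⟩ : ∃ b : α, b = e.symm 1 := ⟨_, rfl⟩
  obtain ⟨c, hc⟩ : ∃ c : α, c = e.symm 2 := ⟨_, rfl⟩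
  have hab : a ≠ b := by
    rw [ha, hb]; intro h; exact absurd (e.symm.injective h) (by decide)
  have hac : a ≠ c := by
    rw [ha, hc]; intro h; exact absurd (e.symm.injective h) (by decide)
  have hbc : b ≠ c := by
    rw [hb, hc]; intro h; exact absurd (e.symm.injective h) (by decide)
  have h3 := N95.trans3' h11 h2 hA hord
  have hK₃ := N95.card_stab3 h11 h3 hord hab hac hbc
  obtain ⟨x, hxK, hx3⟩ := SYL.cauchy (stabF G {a, b, c}) (p := 3) Nat.prime_three
    (by rw [hK₃]; norm_num)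
  have hxG : x ∈ G := (mem_stabF.mp hxK).1
  have hxa : x a = a := (mem_stabF.mp hxK).2 a (by simp)
  have hxb : x b = b := (mem_stabF.mp hxK).2 b (by simp)
  have hxc : x c = c := (mem_stabF.mp hxK).2 c (by simp)
  obtain ⟨j, hj1, hj11, hsupp, hfix, hcyc, -⟩ := CTT.fix h11 Nat.prime_three hx3
  have hsub : ({a, b, c} : Finset α) ⊆ fixF x := by
    intro d hd
    rw [Finset.mem_insert, Finset.mem_insert, Finset.mem_singleton] at hd
    rw [mem_fixF]
    rcases hd with rfl | rfl | rfl
    · exact hxa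
    · exact hxb
    · exact hxc
  have hcard3 : ({a, b, c} : Finset α).card = 3 := by
    rw [Finset.card_insert_of_notMem, Finset.card_pair hbc]
    simp [hab, hac]
  have hge := Finset.card_le_card hsub
  rw [hcard3, hfix] at hge
  have hj2 : j = 1 ∨ j = 2 := by omega
  rcases hj2 with hj | hj
  · -- a 3-cycle
    have hcy := hcyc hj
    have hs3 : x.support.card = 3 := by rw [hsupp, hj]
    exact J h11 h2 hA hxG hcy (by rw [hs3]; exact Nat.prime_three) (by rw [hs3]; norm_num)
  · have hs6 : x.support.card = 2 * 3 := by rw [hsupp, hj]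
    have hct := CTT.pair_of Nat.prime_three hx3 hs6
    obtain ⟨y, hyG, hy5, hyx⟩ := N95.cent5 h11 h2 hA hord hxG hct
    haveI : Fact (Nat.Prime 5) := ⟨by norm_num⟩
    have hcomm : Commute x y := hyx.symm
    obtain ⟨hycyc, hys⟩ := Cfsg.Agent.Helper10.PermB.isCycle_of_commute (p := 5)
      (by rw [h11]) hcomm hy5 (by rw [hs6])
    exact J h11 h2 hA hyG hycyc (by rw [hys]; norm_num) (by rw [hys]; norm_num)

end Cfsg.Agent.S0679P
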