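import Mathlib
import Cfsg.Agent.Helper18.S0747Defs
import Cfsg.Agent.Helper4.Sharp6

/-! Board `s0747pieces`, row B_SHARP6. -/

set_option autoImplicit false

namespace Cfsg.Agent.S0747P

open MulAction

/-- B_SHARP6: there is no sharply `k`-transitive group of degree `k + 7` for `k ≥ 6` (`Helper4.Sharp6.sharpk_card`). -/
theorem B_SHARP6 {α : Type*} [Fintype α] [DecidableEq α] (G : Subgroup (Equiv.Perm α)) {k : ℕ} (hk : 6 ≤ k)
    (hn : Fintype.card α = k + 7) (hG : IsMultiplyPretransitive ↥G α k)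
    (hsharp : ∀ x : Fin k ↪ α, stabilizer ↥G x = ⊥) : False := by
  have hc : Nat.card α = k + 7 := by rw [Nat.card_eq_fintype_card, hn]
  have h := Cfsg.Agent.Helper4.Sharp6.sharpk_card k hk ↥G α hG hsharp (by omega)
  omega

end Cfsg.Agent.S0747P
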