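import Mathlib
import Cfsg.Prelude.Def_Local
import Cfsg.Agent.Helper7.Components
import Cfsg.Agent.Helper7.Layer
import Cfsg.Agent.Helper7.InvolutionDiag
import Cfsg.Agent.Helper7.PComponent3
import Cfsg.Agent.Helper3.SubnormalJoin
import Cfsg.Agent.Helper7.FStar2

set_option autoImplicit false
set_option linter.style.haveILetI false
set_option linter.unusedSectionVars false
set_option linter.unusedVariables false

/-! # S1305, part A: a component of `C_X(a)` inside `E(X)`, `a` an involution

Abstract lemmas in a finite group `X` with an involution `a`: a component `K` of `C_X(a)` lying in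
the layer of `X` is contained in an `a`-invariant component of `X`, or is the diagonal of a pair
of components swapped by `a`. -/

namespace Cfsg.Agent.Helper12.S1305

open Subgroup Cfsg
open Cfsg.Agent.Helper7
open scoped commutatorElement

universe u

variable {X : Type u} [Group X]

/-- perfectness of a component of a subgroup, read in the ambient group -/
theorem S1305A_perfect {K C : Subgroup X} (hKC : K ≤ C) (hK : IsComponent (K.subgroupOf C)) :
    ⁅K, K⁆ = K := by
  have h := IsComponent.commutator_eq hK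
  have h2 := congrArg (Subgroup.map C.subtype) h
  rwa [map_commutator, map_subgroupOf_eq_of_le hKC] at h2

theorem S1305A_ne_bot {K C : Subgroup X} (hKC : K ≤ C) (hK : IsComponent (K.subgroupOf C)) :
    K ≠ ⊥ := by
  intro h
  apply IsComponent.ne_bot hK
  rw [h]
  exact bot_subgroupOf C

/-- a perfect nontrivial subgroup is not abelian -/
theorem S1305A_not_comm {K : Subgroup X} (hperf : ⁅K, K⁆ = K) (hne : K ≠ ⊥) : ⁅K, K⁆ ≠ ⊥ := by
  rw [hperf]; exact hne

/-- **A1**: some component of `X` is not centralised by `K`. -/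
theorem S1305A_exists_component [Finite X] {K C : Subgroup X} (hKC : K ≤ C)
    (hK : IsComponent (K.subgroupOf C)) (hKE : K ≤ layer X) :
    ∃ L : Subgroup X, IsComponent L ∧ ⁅K, L⁆ ≠ ⊥ := by
  by_contra hcon
  push Not at hcon
  have h1 : layer X ≤ centralizer (K : Set X) := by
    rw [layer_le_iff]
    intro L hL
    have := hcon L hL
    rw [commutator_comm] at this
    exact commutator_eq_bot_iff_le_centralizer.1 this
  have h2 : ⁅K, K⁆ = ⊥ := commutator_eq_bot_iff_le_centralizer.2 (hKE.trans h1)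
  exact S1305A_not_comm (S1305A_perfect hKC hK) (S1305A_ne_bot hKC hK) h2

/-- the layer lies in `L · C_X(L)` for every component `L` -/
theorem S1305A_layer_le_sup [Finite X] {L : Subgroup X} (hL : IsComponent L) :
    layer X ≤ L ⊔ centralizer (L : Set X) := by
  rw [layer_le_iff]
  intro M hM
  by_cases h : M = L
  · rw [h]; exact le_sup_left
  · have := components_commute hM hL h
    exact (commutator_eq_bot_iff_le_centralizer.1 this).trans le_sup_right

theorem S1305A_decomp [Finite X] {L : Subgroup X} (hL : IsComponent L) {k : X}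
    (hk : k ∈ layer X) : ∃ l ∈ L, ∃ c ∈ centralizer (L : Set X), l * c = k := by
  have h1 := S1305A_layer_le_sup hL hk
  have hcomm : ⁅L, centralizer (L : Set X)⁆ = ⊥ := by
    rw [commutator_comm]
    exact commutator_eq_bot_iff_le_centralizer.2 le_rfl
  exact (mem_sup_of_commutator_eq_bot hcomm).1 h1

/-- conjugation by an element normalising `L` preserves `C_X(L)` -/
theorem S1305A_centralizer_invariant {a : X} (ha : a * a = 1) {L : Subgroup X}
    (hLa : ∀ l ∈ L, a * l * a⁻¹ ∈ L) :
    ∀ c ∈ centralizer (L : Set X), a * c * a⁻¹ ∈ centralizer (L : Set X) := by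
  have hainv : a⁻¹ = a := inv_eq_of_mul_eq_one_left ha
  intro c hc
  rw [mem_centralizer_iff] at hc ⊢
  intro m hm
  have hm' : a⁻¹ * m * a ∈ L := by
    have := hLa m hm
    rw [hainv] at this ⊢
    exact this
  have h1 := hc _ hm'
  calc m * (a * c * a⁻¹) = a * (a⁻¹ * m * a * c) * a⁻¹ := by group
    _ = a * (c * (a⁻¹ * m * a)) * a⁻¹ := by rw [h1]
    _ = a * c * a⁻¹ * m := by group

/-- **A2**: an `a`-invariant component of `X` not centralised by `K` contains `K`. -/
theorem S1305A_le_of_invariant [Finite X] (a : X) (ha : a * a = 1) {K L : Subgroup X}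
    (hKC : K ≤ centralizer {a}) (hK : IsComponent (K.subgroupOf (centralizer {a})))
    (hKE : K ≤ layer X) (hL : IsComponent L) (hLa : ∀ l ∈ L, a * l * a⁻¹ ∈ L)
    (hne : ⁅K, L⁆ ≠ ⊥) : K ≤ L := by
  obtain ⟨C, hC⟩ : ∃ C : Subgroup X, C = centralizer ({a} : Set X) := ⟨_, rfl⟩
  rw [← hC] at hKC hK
  have hainv : a⁻¹ = a := inv_eq_of_mul_eq_one_left ha
  rcases component_le_or_commutator_eq_bot hK (hL.1.subgroupOf (K := C)) with h | h
  · exact (subgroupOf_le_subgroupOf_iff hKC).1 h
  · exfalso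
    apply hne
    have hcent : ∀ k ∈ K, ∀ m ∈ L, m ∈ C → k * m = m * k := by
      rw [← inf_subgroupOf_right L C] at h
      have h2 := (commutator_subgroupOf_eq_bot_iff hKC inf_le_right).1 h
      have h3 := commutator_eq_bot_iff_forall_commute.1 h2
      intro k hk m hm hmC
      exact h3 k hk m ⟨hm, hmC⟩
    have hperf := S1305A_perfect hKC hK
    have hcenta := S1305A_centralizer_invariant ha hLa
    have hdec : ∀ k ∈ K, ∃ l ∈ L, ∃ c ∈ centralizer (L : Set X), l * c = k :=
      fun k hk => S1305A_decomp hL (hKE hk)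
    have hLc : ∀ l ∈ L, ∀ c ∈ centralizer (L : Set X), Commute l c := by
      intro l hl c hc
      exact (mem_centralizer_iff.1 hc) l hl
    -- the `L`-part of an element of `K` is `a`-fixed modulo `Z(L)`
    have hz : ∀ l ∈ L, ∀ c ∈ centralizer (L : Set X), l * c ∈ K →
        l⁻¹ * (a * l * a⁻¹) ∈ centralizer (L : Set X) := by
      intro l hl c hc hk
      have hka : a * (l * c) = (l * c) * a := by
        have := hKC hk
        rw [hC, mem_centralizer_singleton_iff] at this
        exact this.symm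
      have h1 : (a * l * a⁻¹) * (a * c * a⁻¹) = l * c := by
        calc (a * l * a⁻¹) * (a * c * a⁻¹) = a * (l * c) * a⁻¹ := by group
          _ = (l * c) * a * a⁻¹ := by rw [hka]
          _ = l * c := by group
      have h2 : l⁻¹ * (a * l * a⁻¹) = c * (a * c * a⁻¹)⁻¹ := by
        calc l⁻¹ * (a * l * a⁻¹)
            = l⁻¹ * ((a * l * a⁻¹) * (a * c * a⁻¹)) * (a * c * a⁻¹)⁻¹ := by group
          _ = l⁻¹ * (l * c) * (a * c * a⁻¹)⁻¹ := by rw [h1]
          _ = c * (a * c * a⁻¹)⁻¹ := by group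
      rw [h2]
      exact mul_mem hc (inv_mem (hcenta c hc))
    -- commutators of `L`-parts are `a`-fixed
    have hfix : ∀ l₁ ∈ L, ∀ c₁ ∈ centralizer (L : Set X), l₁ * c₁ ∈ K →
        ∀ l₂ ∈ L, ∀ c₂ ∈ centralizer (L : Set X), l₂ * c₂ ∈ K → ⁅l₁, l₂⁆ ∈ C := by
      intro l₁ hl₁ c₁ hc₁ hk₁ l₂ hl₂ c₂ hc₂ hk₂
      have hz₁ := hz l₁ hl₁ c₁ hc₁ hk₁
      have hz₂ := hz l₂ hl₂ c₂ hc₂ hk₂
      have hz₁L : l₁⁻¹ * (a * l₁ * a⁻¹) ∈ L := mul_mem (inv_mem hl₁) (hLa l₁ hl₁)
      have hz₂L : l₂⁻¹ * (a * l₂ * a⁻¹) ∈ L := mul_mem (inv_mem hl₂) (hLa l₂ hl₂)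
      have e₁ : a * l₁ * a⁻¹ = l₁ * (l₁⁻¹ * (a * l₁ * a⁻¹)) := by group
      have e₂ : a * l₂ * a⁻¹ = l₂ * (l₂⁻¹ * (a * l₂ * a⁻¹)) := by group
      have hconj : a * ⁅l₁, l₂⁆ * a⁻¹ = ⁅a * l₁ * a⁻¹, a * l₂ * a⁻¹⁆ := by
        simp only [commutatorElement_def]; group
      have h3 : ⁅a * l₁ * a⁻¹, a * l₂ * a⁻¹⁆ = ⁅l₁, l₂⁆ := by
        rw [e₁, e₂, commutatorElement_mul_mul_of_commute (hLc l₁ hl₁ _ hz₁) (hLc l₁ hl₁ _ hz₂)
          (hLc l₂ hl₂ _ hz₁) (hLc l₂ hl₂ _ hz₂)]
        have h4 : ⁅l₁⁻¹ * (a * l₁ * a⁻¹), l₂⁻¹ * (a * l₂ * a⁻¹)⁆ = 1 := by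
          rw [commutatorElement_eq_one_iff_commute]
          exact hLc _ hz₁L _ hz₂
        rw [h4, mul_one]
      rw [hC, mem_centralizer_singleton_iff]
      have h5 : a * ⁅l₁, l₂⁆ * a⁻¹ = ⁅l₁, l₂⁆ := hconj.trans h3
      symm
      calc a * ⁅l₁, l₂⁆ = (a * ⁅l₁, l₂⁆ * a⁻¹) * a := by group
        _ = ⁅l₁, l₂⁆ * a := by rw [h5]
    obtain ⟨T, hT⟩ : ∃ T : Subgroup X, T = K ⊓ ((L ⊓ C) ⊔ centralizer (L : Set X)) := ⟨_, rfl⟩
    have hcomm1 : ⁅L ⊓ C, centralizer (L : Set X)⁆ = ⊥ := by
      rw [commutator_comm, commutator_eq_bot_iff_le_centralizer]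
      exact centralizer_le inf_le_left
    have hKT : K ≤ T := by
      have : ⁅K, K⁆ ≤ T := by
        rw [commutator_le]
        intro k₁ hk₁ k₂ hk₂
        rw [hT]
        refine ⟨hperf ▸ commutator_mem_commutator hk₁ hk₂, ?_⟩
        obtain ⟨l₁, hl₁, c₁, hc₁, rfl⟩ := hdec k₁ hk₁
        obtain ⟨l₂, hl₂, c₂, hc₂, rfl⟩ := hdec k₂ hk₂
        rw [commutatorElement_mul_mul_of_commute (hLc l₁ hl₁ _ hc₁) (hLc l₁ hl₁ _ hc₂)
          (hLc l₂ hl₂ _ hc₁) (hLc l₂ hl₂ _ hc₂)]
        apply mul_mem_sup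
        · refine Subgroup.mem_inf.2 ⟨?_, hfix l₁ hl₁ c₁ hc₁ hk₁ l₂ hl₂ c₂ hc₂ hk₂⟩
          rw [commutatorElement_def]
          exact mul_mem (mul_mem (mul_mem hl₁ hl₂) (inv_mem hl₁)) (inv_mem hl₂)
        · rw [commutatorElement_def]
          exact mul_mem (mul_mem (mul_mem hc₁ hc₂) (inv_mem hc₁)) (inv_mem hc₂)
      rwa [hperf] at this
    have hTK : ⁅T, K⁆ ≤ centralizer (L : Set X) := by
      rw [commutator_le]
      intro t ht k hk
      rw [hT] at ht
      obtain ⟨m, hm, c, hc, rfl⟩ := (mem_sup_of_commutator_eq_bot hcomm1).1 ht.2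
      obtain ⟨l, hl, c', hc', rfl⟩ := hdec k hk
      rw [commutatorElement_mul_mul_of_commute (hLc m hm.1 _ hc) (hLc m hm.1 _ hc')
        (hLc l hl _ hc) (hLc l hl _ hc')]
      have h6 : ⁅m, l⁆ = 1 := by
        rw [commutatorElement_eq_one_iff_commute]
        have h7 := hcent _ hk m hm.1 hm.2
        have h8 : Commute m c' := hLc m hm.1 _ hc'
        -- (l c') m = m (l c')  and  c' m = m c'  give  l m = m l
        have h9 : l * m = m * l := by
          calc l * m = (l * c') * m * c'⁻¹ := by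
                rw [mul_assoc l c' m, ← h8.eq]; group
            _ = m * (l * c') * c'⁻¹ := by rw [h7]
            _ = m * l := by group
        exact h9.symm
      rw [h6, one_mul, commutatorElement_def]
      exact mul_mem (mul_mem (mul_mem hc hc') (inv_mem hc)) (inv_mem hc')
    have hKcent : K ≤ centralizer (L : Set X) := by
      have h10 : ⁅K, K⁆ ≤ ⁅T, K⁆ := commutator_mono hKT le_rfl
      rw [hperf] at h10
      exact h10.trans hTK
    exact commutator_eq_bot_iff_le_centralizer.2 hKcent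

/-- the commutator subgroup of a subnormal subgroup is subnormal -/
theorem S1305A_commutator_isSubnormal {Y : Type*} [Group Y] {H : Subgroup Y}
    (hH : H.IsSubnormal) : (⁅H, H⁆).IsSubnormal := by
  have hle : ⁅H, H⁆ ≤ H := Subgroup.commutator_le_self H
  refine IsSubnormal.trans hle ?_ hH
  have : ((⁅H, H⁆ : Subgroup Y).subgroupOf H).Normal :=
    (normal_subgroupOf_iff_le_normalizer hle).2 (le_normalizer_commutator_left H H)
  exact this.isSubnormal

/-- **A3**: if `a` moves a component `L` of `X` not centralised by `K`, then `K` is the diagonal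
`{l * l^a}` of `L L^a`. -/
theorem S1305A_eq_diag_of_moved [Finite X] (a : X) (ha : orderOf a = 2) {K L : Subgroup X}
    (hKC : K ≤ centralizer {a}) (hK : IsComponent (K.subgroupOf (centralizer {a})))
    (hKE : K ≤ layer X) (hL : IsComponent L)
    (hLa : L.map (MulAut.conj a).toMonoidHom ≠ L) (hne : ⁅K, L⁆ ≠ ⊥) :
    ∃ π : ↥L →* X, (∀ l : ↥L, π l = (l : X) * (a * (l : X) * a⁻¹)) ∧ K = π.range := by
  obtain ⟨C, hC⟩ : ∃ C : Subgroup X, C = centralizer ({a} : Set X) := ⟨_, rfl⟩
  obtain ⟨L', hL'def⟩ : ∃ L' : Subgroup X, L' = L.map (MulAut.conj a).toMonoidHom := ⟨_, rfl⟩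
  have hL' : IsComponent L' := hL'def ▸ isComponent_map_conj hL a
  have hLL' : ⁅L, L'⁆ = ⊥ := components_commute hL hL' (by rw [hL'def]; exact Ne.symm hLa)
  obtain ⟨π, hπ, hker, hrange, hcomm⟩ :=
    diagonal_hom_of_involution a ha L (IsComponent.commutator_eq hL) (hL'def ▸ hLL')
  rw [← hL'def, ← hC] at hcomm
  rw [← hC] at hrange hKC hK
  refine ⟨π, hπ, ?_⟩
  -- `D = π.range` is a component of `C`
  have hNsn : (L ⊔ L').IsSubnormal := Cfsg.Agent.Helper3.subnormal_sup hL.1 hL'.1
  have hDsn : (π.range.subgroupOf C).IsSubnormal := by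
    have h1 : (((L ⊔ L') ⊓ C).subgroupOf C).IsSubnormal := by
      rw [inf_subgroupOf_right]; exact hNsn.subgroupOf
    have h2 := S1305A_commutator_isSubnormal h1
    have h3 : ⁅((L ⊔ L') ⊓ C).subgroupOf C, ((L ⊔ L') ⊓ C).subgroupOf C⁆ = π.range.subgroupOf C := by
      apply Subgroup.map_injective (subtype_injective C)
      rw [map_commutator, map_subgroupOf_eq_of_le inf_le_right, hcomm,
        map_subgroupOf_eq_of_le hrange]
    rwa [h3] at h2
  have hLq : IsQuasisimple ↥L := hL.2
  have hDnt : Nontrivial ↥π.range := by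
    by_contra hnt
    rw [not_nontrivial_iff_subsingleton] at hnt
    apply IsQuasisimple.center_ne_top hLq
    rw [eq_top_iff]
    refine le_trans ?_ hker
    intro l _
    rw [MonoidHom.mem_ker]
    have : (⟨π l, ⟨l, rfl⟩⟩ : π.range) = 1 := Subsingleton.elim _ _
    exact congrArg Subtype.val this
  have hDq : IsQuasisimple ↥π.range :=
    isQuasisimple_of_surjective' hLq π.rangeRestrict π.rangeRestrict_surjective
  have hD : IsComponent (π.range.subgroupOf C) :=
    ⟨hDsn, isQuasisimple_of_mulEquiv (subgroupOfEquivOfLe hrange).symm hDq⟩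
  by_cases heq : K.subgroupOf C = π.range.subgroupOf C
  · have := congrArg (Subgroup.map C.subtype) heq
    rwa [map_subgroupOf_eq_of_le hKC, map_subgroupOf_eq_of_le hrange] at this
  · exfalso
    apply hne
    have h1 := components_commute hK hD heq
    have h2 : ⁅K, π.range⁆ = ⊥ := (commutator_subgroupOf_eq_bot_iff hKC hrange).1 h1
    have h3 := commutator_eq_bot_iff_forall_commute.1 h2
    have hKnorm : K ≤ normalizer (L : Set X) := hKE.trans (layer_le_normalizer_component hL)
    -- `[K, L] ≤ Z(L)`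
    have h4 : ⁅K, L⁆ ≤ centralizer (L : Set X) := by
      rw [commutator_le]
      intro k hk l hl
      have hkl : k * l * k⁻¹ ∈ L := (mem_normalizer_iff.1 (hKnorm hk) l).1 hl
      have hka : k * a = a * k := by
        have := hKC hk
        rw [hC, mem_centralizer_singleton_iff] at this
        exact this
      have h5 : π ⟨k * l * k⁻¹, hkl⟩ = π ⟨l, hl⟩ := by
        rw [hπ, hπ]
        have h6 := h3 k hk (π ⟨l, hl⟩) ⟨_, rfl⟩
        rw [hπ] at h6
        have hka' : k * a⁻¹ = a⁻¹ * k := by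
          calc k * a⁻¹ = a⁻¹ * (a * k) * a⁻¹ := by group
            _ = a⁻¹ * (k * a) * a⁻¹ := by rw [hka]
            _ = a⁻¹ * k := by group
        calc (k * l * k⁻¹) * (a * (k * l * k⁻¹) * a⁻¹)
            = k * l * (k⁻¹ * a * k) * l * (k⁻¹ * a⁻¹ * k) * k⁻¹ := by group
          _ = k * l * a * l * a⁻¹ * k⁻¹ := by
              have e1 : k⁻¹ * a * k = a := by rw [mul_assoc, ← hka]; group
              have e2 : k⁻¹ * a⁻¹ * k = a⁻¹ := by rw [mul_assoc, ← hka']; group
              rw [e1, e2]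
          _ = (k * (l * (a * l * a⁻¹))) * k⁻¹ := by group
          _ = ((l * (a * l * a⁻¹)) * k) * k⁻¹ := by rw [h6]
          _ = l * (a * l * a⁻¹) := by group
      have h7 : (⟨l, hl⟩ : L)⁻¹ * ⟨k * l * k⁻¹, hkl⟩ ∈ π.ker := by
        rw [MonoidHom.mem_ker, map_mul, map_inv, h5, inv_mul_cancel]
      have h8 := hker h7
      -- an element of `Z(L)` centralises `L`
      have h9 : l⁻¹ * (k * l * k⁻¹) ∈ centralizer (L : Set X) := by
        rw [mem_centralizer_iff]
        intro m hm
        have := mem_center_iff.1 h8 ⟨m, hm⟩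
        exact congrArg Subtype.val this
      have h10 : ⁅k, l⁆ = l * (l⁻¹ * (k * l * k⁻¹)) * l⁻¹ := by
        rw [commutatorElement_def]; group
      rw [h10]
      have hlc : l ∈ normalizer ((centralizer (L : Set X) : Subgroup X) : Set X) := by
        have : L ≤ normalizer ((centralizer (L : Set X) : Subgroup X) : Set X) := by
          have hn : (centralizer (L : Set X)).subgroupOf (normalizer (L : Set X)) |>.Normal := by
            infer_instance
          intro x hx
          rw [mem_normalizer_iff]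
          intro c
          constructor
          · intro hc
            rw [mem_centralizer_iff] at hc ⊢
            intro m hm
            have hm' : x⁻¹ * m * x ∈ L := by
              have := mul_mem (mul_mem (inv_mem hx) hm) hx
              exact this
            have := hc _ hm'
            calc m * (x * c * x⁻¹) = x * (x⁻¹ * m * x * c) * x⁻¹ := by group
              _ = x * (c * (x⁻¹ * m * x)) * x⁻¹ := by rw [this]
              _ = x * c * x⁻¹ * m := by group
          · intro hc
            rw [mem_centralizer_iff] at hc ⊢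
            intro m hm
            have hm' : x * m * x⁻¹ ∈ L := mul_mem (mul_mem hx hm) (inv_mem hx)
            have := hc _ hm'
            calc m * c = x⁻¹ * (x * m * x⁻¹ * (x * c * x⁻¹)) * x := by group
              _ = x⁻¹ * (x * c * x⁻¹ * (x * m * x⁻¹)) * x := by rw [this]
              _ = c * m := by group
        exact this hl
      exact (mem_normalizer_iff.1 hlc _).1 h9
    have h11 : ⁅⁅K, L⁆, L⁆ = ⊥ := by
      rw [commutator_eq_bot_iff_le_centralizer]
      exact h4
    have h12 := commutator_eq_bot_of_perfect (IsComponent.commutator_eq hL) h11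
    rwa [commutator_comm] at h12

end Cfsg.Agent.Helper12.S1305
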