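import Mathlib
import Cfsg.Prelude.Def_Local
import Cfsg.Prelude.Def_Transfer
import Cfsg.Agent.Helper12.S1305A

set_option autoImplicit false
set_option linter.style.haveILetI false
set_option linter.unusedSectionVars false
set_option linter.unusedVariables false

/-! # S1305, part B: the maximal-component argument inside `X = C_G(b)` -/

namespace Cfsg.Agent.Helper12.S1305

open Subgroup Cfsg
open Cfsg.Agent.Helper7
open scoped commutatorElement

universe u

variable {X : Type u} [Group X]

theorem S1305B_map_conj_mul (S : Subgroup X) (a b : X) :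
    (S.map (MulAut.conj b).toMonoidHom).map (MulAut.conj a).toMonoidHom =
      S.map (MulAut.conj (a * b)).toMonoidHom := by
  rw [Subgroup.map_map]
  congr 1
  ext y
  simp [MulAut.conj_apply, mul_assoc]

theorem S1305B_mem_normalizer_of_map_eq {S : Subgroup X} {g : X}
    (h : S.map (MulAut.conj g).toMonoidHom = S) : g ∈ normalizer (S : Set X) := by
  rw [mem_normalizer_iff]
  intro x
  constructor
  · intro hx
    have : g * x * g⁻¹ ∈ S.map (MulAut.conj g).toMonoidHom := ⟨x, hx, rfl⟩
    rwa [h] at this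
  · intro hx
    rw [← h] at hx
    obtain ⟨y, hy, hyx⟩ := hx
    have : y = x := by
      have h2 : g * y * g⁻¹ = g * x * g⁻¹ := hyx
      have h3 : y = g⁻¹ * (g * y * g⁻¹) * g := by group
      rw [h3, h2]; group
    rwa [← this]

/-- conjugating the diagonal element -/
theorem S1305B_conj_diag {a k l : X} (hka : k * a = a * k) :
    (k * l * k⁻¹) * (a * (k * l * k⁻¹) * a⁻¹) = k * (l * (a * l * a⁻¹)) * k⁻¹ := by
  have hka' : k * a⁻¹ = a⁻¹ * k := by
    calc k * a⁻¹ = a⁻¹ * (a * k) * a⁻¹ := by group
      _ = a⁻¹ * (k * a) * a⁻¹ := by rw [hka]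
      _ = a⁻¹ * k := by group
  have e1 : k⁻¹ * a * k = a := by rw [mul_assoc, ← hka]; group
  have e2 : k⁻¹ * a⁻¹ * k = a⁻¹ := by rw [mul_assoc, ← hka']; group
  calc (k * l * k⁻¹) * (a * (k * l * k⁻¹) * a⁻¹)
      = k * l * (k⁻¹ * a * k) * l * (k⁻¹ * a⁻¹ * k) * k⁻¹ := by group
    _ = k * l * a * l * a⁻¹ * k⁻¹ := by rw [e1, e2]
    _ = k * (l * (a * l * a⁻¹)) * k⁻¹ := by group

/-- **Core theorem**: the maximal-component argument. -/
theorem S1305B_core [Finite X] (a : X) (ha : orderOf a = 2) (K : Subgroup X)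
    (hKC : K ≤ centralizer {a}) (hK : IsComponent (K.subgroupOf (centralizer {a})))
    (hKE : K ≤ layer X)
    (hmaxA : ∀ L : Subgroup X, IsComponent L → Nat.card L ≤ Nat.card K)
    (B : Subgroup X) (hBel : IsElementaryAbelian 2 B) (haB : a ∈ B)
    (hBK : B ≤ centralizer (K : Set X))
    (hmaxB : ∀ L : Subgroup X, IsComponent L → Nat.card L = Nat.card K →
      ∀ A : Subgroup X, A ≤ centralizer (L : Set X) → IsElementaryAbelian 2 A →
        Nat.card A ≤ Nat.card B)
    (A₀ : Subgroup X) (hA₀K : A₀ ≤ K) (hA₀ : IsElementaryAbelian 2 A₀)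
    (hA₀4 : 4 ≤ Nat.card A₀) : IsComponent K := by
  have ha2 : a * a = 1 := by
    have := pow_orderOf_eq_one a
    rwa [ha, pow_two] at this
  have hainv : a⁻¹ = a := inv_eq_of_mul_eq_one_left ha2
  obtain ⟨L, hL, hne⟩ := S1305A_exists_component hKC hK hKE
  by_cases hLa : L.map (MulAut.conj a).toMonoidHom = L
  · have hLa' : ∀ l ∈ L, a * l * a⁻¹ ∈ L := by
      intro l hl
      have : a * l * a⁻¹ ∈ L.map (MulAut.conj a).toMonoidHom := ⟨l, hl, rfl⟩
      rwa [hLa] at this
    have hKL := S1305A_le_of_invariant a ha2 hKC hK hKE hL hLa' hne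
    have hcard := hmaxA L hL
    have : K = L := Subgroup.eq_of_le_of_card_ge hKL hcard
    rw [this]; exact hL
  · exfalso
    obtain ⟨π, hπ, hKπ⟩ := S1305A_eq_diag_of_moved a ha hKC hK hKE hL hLa hne
    have hperfK := S1305A_perfect hKC hK
    have hKne := S1305A_ne_bot hKC hK
    have hcardKL : Nat.card K ≤ Nat.card L := by
      rw [hKπ]
      exact Nat.card_le_card_of_surjective π.rangeRestrict π.rangeRestrict_surjective
    have hcard : Nat.card L = Nat.card K := le_antisymm (hmaxA L hL) hcardKL
    have hinj : Function.Injective π := by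
      have hbij : Function.Bijective π.rangeRestrict := by
        rw [Nat.bijective_iff_surjective_and_card]
        exact ⟨π.rangeRestrict_surjective, by rw [hcard, hKπ]⟩
      intro x y hxy
      apply hbij.1
      exact Subtype.ext hxy
    obtain ⟨L', hL'def⟩ : ∃ L' : Subgroup X, L' = L.map (MulAut.conj a).toMonoidHom := ⟨_, rfl⟩
    have hL' : IsComponent L' := hL'def ▸ isComponent_map_conj hL a
    have hL'ne : L' ≠ L := by rw [hL'def]; exact hLa
    have hLL' : ⁅L, L'⁆ = ⊥ := components_commute hL hL' (Ne.symm hL'ne)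
    have hcardL' : Nat.card L' = Nat.card K := by
      rw [hL'def, Subgroup.card_map_of_injective (MulAut.conj a).injective, hcard]
    have hL'a : L'.map (MulAut.conj a).toMonoidHom = L := by
      rw [hL'def, S1305B_map_conj_mul, ha2]
      ext y; simp
    have hBa : ∀ x ∈ B, x * a = a * x := fun x hx => by
      have := hBel.1.is_comm.comm (⟨x, hx⟩ : B) ⟨a, haB⟩
      exact congrArg Subtype.val this
    have hBsq : ∀ x ∈ B, x * x = 1 := fun x hx => by
      have := hBel.2 x hx
      rwa [pow_two] at this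
    have hBKc : ∀ x ∈ B, ∀ k ∈ K, k * x = x * k := fun x hx k hk =>
      (mem_centralizer_iff.1 (hBK hx)) k hk
    have hπK : ∀ l : L, π l ∈ K := fun l => by rw [hKπ]; exact ⟨l, rfl⟩
    -- elements of `B` normalising `L` centralise `L`
    have hcentL : ∀ x ∈ B, x ∈ normalizer (L : Set X) → ∀ l ∈ L, x * l * x⁻¹ = l := by
      intro x hxB hxN l hl
      have hxl : x * l * x⁻¹ ∈ L := (mem_normalizer_iff.1 hxN l).1 hl
      have h1 : π ⟨x * l * x⁻¹, hxl⟩ = π ⟨l, hl⟩ := by
        have h2 := hBKc x hxB _ (hπK ⟨l, hl⟩)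
        rw [hπ] at h2
        rw [hπ, hπ]
        show (x * l * x⁻¹) * (a * (x * l * x⁻¹) * a⁻¹) = l * (a * l * a⁻¹)
        rw [S1305B_conj_diag (hBa x hxB), ← h2]
        group
      exact congrArg Subtype.val (hinj h1)
    -- `B` permutes `{L, L'}`
    have hperm : ∀ x ∈ B, L.map (MulAut.conj x).toMonoidHom = L ∨
        L.map (MulAut.conj x).toMonoidHom = L' := by
      intro x hx
      by_contra hcon
      push Not at hcon
      obtain ⟨hM1, hM2⟩ := hcon
      obtain ⟨M, hMdef⟩ : ∃ M : Subgroup X, M = L.map (MulAut.conj x).toMonoidHom := ⟨_, rfl⟩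
      rw [← hMdef] at hM1 hM2
      have hM : IsComponent M := hMdef ▸ isComponent_map_conj hL x
      obtain ⟨M', hM'def⟩ : ∃ M' : Subgroup X, M' = M.map (MulAut.conj a).toMonoidHom := ⟨_, rfl⟩
      have hM' : IsComponent M' := hM'def ▸ isComponent_map_conj hM a
      have hM'a : M'.map (MulAut.conj a).toMonoidHom = M := by
        rw [hM'def, S1305B_map_conj_mul, ha2]
        ext y; simp
      have hM'1 : M' ≠ L := by
        intro h
        apply hM2
        rw [← hM'a, h, hL'def]
      have hM'2 : M' ≠ L' := by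
        intro h
        apply hM1
        rw [← hM'a, h, hL'a]
      -- `M' = x • L'`
      have hM'x : M' = L'.map (MulAut.conj x).toMonoidHom := by
        rw [hM'def, hMdef, hL'def, S1305B_map_conj_mul, S1305B_map_conj_mul, hBa x hx]
      have c1 := components_commute hM hL hM1
      have c2 := components_commute hM hL' hM2
      have c3 := components_commute hM' hL hM'1
      have c4 := components_commute hM' hL' hM'2
      have hcc : ⁅M ⊔ M', L ⊔ L'⁆ = ⊥ := by
        rw [commutator_eq_bot_iff_le_centralizer]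
        apply sup_le
        · rw [← commutator_eq_bot_iff_le_centralizer, commutator_comm,
            commutator_eq_bot_iff_le_centralizer]
          apply sup_le
          · rw [← commutator_eq_bot_iff_le_centralizer, commutator_comm]; exact c1
          · rw [← commutator_eq_bot_iff_le_centralizer, commutator_comm]; exact c2
        · rw [← commutator_eq_bot_iff_le_centralizer, commutator_comm,
            commutator_eq_bot_iff_le_centralizer]
          apply sup_le
          · rw [← commutator_eq_bot_iff_le_centralizer, commutator_comm]; exact c3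
          · rw [← commutator_eq_bot_iff_le_centralizer, commutator_comm]; exact c4
      have hK1 : K ≤ L ⊔ L' := by
        rw [hKπ]
        rintro _ ⟨l, rfl⟩
        rw [hπ]
        apply mul_mem_sup l.2
        rw [hL'def]
        exact ⟨l, l.2, rfl⟩
      have hK2 : K ≤ M ⊔ M' := by
        intro k hk
        have h1 : x * k * x⁻¹ = k := by
          rw [← hBKc x hx k hk]; group
        have h2 : x * k * x⁻¹ ∈ (L ⊔ L').map (MulAut.conj x).toMonoidHom := ⟨k, hK1 hk, rfl⟩
        rw [Subgroup.map_sup, ← hMdef, ← hM'x, h1] at h2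
        exact h2
      have : ⁅K, K⁆ ≤ ⁅M ⊔ M', L ⊔ L'⁆ := commutator_mono hK2 hK1
      rw [hcc, hperfK, le_bot_iff] at this
      exact hKne this
    -- the subgroup `B₀` of `B` normalising `L`
    obtain ⟨B₀, hB₀def⟩ : ∃ B₀ : Subgroup X, B₀ = B ⊓ normalizer (L : Set X) := ⟨_, rfl⟩
    have hB₀B : B₀ ≤ B := hB₀def ▸ inf_le_left
    have hB₀N : B₀ ≤ normalizer (L : Set X) := hB₀def ▸ inf_le_right
    have hcardB : Nat.card B ≤ 2 * Nat.card B₀ := by
      let f : Bool × B₀ → B := fun q =>
        if q.1 then ⟨a * q.2, mul_mem haB (hB₀B q.2.2)⟩ else ⟨q.2, hB₀B q.2.2⟩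
      have hf : Function.Surjective f := by
        rintro ⟨x, hx⟩
        by_cases hxN : x ∈ normalizer (L : Set X)
        · exact ⟨(false, ⟨x, hB₀def ▸ ⟨hx, hxN⟩⟩), rfl⟩
        · have hxL' : L.map (MulAut.conj x).toMonoidHom = L' := by
            rcases hperm x hx with h | h
            · exact absurd (S1305B_mem_normalizer_of_map_eq h) hxN
            · exact h
          have haxN : a * x ∈ normalizer (L : Set X) := by
            apply S1305B_mem_normalizer_of_map_eq
            rw [← S1305B_map_conj_mul, hxL', hL'a]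
          refine ⟨(true, ⟨a * x, hB₀def ▸ ⟨mul_mem haB hx, haxN⟩⟩), ?_⟩
          apply Subtype.ext
          show a * (a * x) = x
          rw [← mul_assoc, ha2, one_mul]
      have h1 := Nat.card_le_card_of_surjective f hf
      rw [Nat.card_prod, Nat.card_eq_fintype_card (α := Bool), Fintype.card_bool] at h1
      exact h1
    -- the elementary abelian subgroup `E ≤ L` coming from `A₀`
    obtain ⟨E, hEdef⟩ : ∃ E : Subgroup X, E = (A₀.comap π).map L.subtype := ⟨_, rfl⟩
    have hEL : E ≤ L := by rw [hEdef]; exact map_subtype_le _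
    have hcardE : Nat.card E = Nat.card A₀ := by
      rw [hEdef, Subgroup.card_map_of_injective (subtype_injective L),
        ← Subgroup.card_map_of_injective hinj, Subgroup.map_comap_eq, ← hKπ,
        inf_eq_right.2 hA₀K]
    have hEmem : ∀ e ∈ E, ∃ l : L, (l : X) = e ∧ π l ∈ A₀ := by
      intro e he
      rw [hEdef] at he
      obtain ⟨l, hl, rfl⟩ := he
      exact ⟨l, rfl, hl⟩
    have hEsq : ∀ e ∈ E, e * e = 1 := by
      intro e he
      obtain ⟨l, rfl, hl⟩ := hEmem e he
      have h1 : π (l * l) = π 1 := by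
        rw [map_mul, map_one]
        have := hA₀.2 _ hl
        rwa [pow_two] at this
      exact congrArg Subtype.val (hinj h1)
    have hEcomm : ∀ e ∈ E, ∀ e' ∈ E, e * e' = e' * e := by
      intro e he e' he'
      obtain ⟨l, rfl, hl⟩ := hEmem e he
      obtain ⟨l', rfl, hl'⟩ := hEmem e' he'
      have h1 : π (l * l') = π (l' * l) := by
        rw [map_mul, map_mul]
        have := hA₀.1.is_comm.comm (⟨π l, hl⟩ : A₀) ⟨π l', hl'⟩
        exact congrArg Subtype.val this
      exact congrArg Subtype.val (hinj h1)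
    have hB₀E : ∀ x ∈ B₀, ∀ e ∈ E, x * e = e * x := by
      intro x hx e he
      have := hcentL x (hB₀B hx) (hB₀N hx) e (hEL he)
      calc x * e = (x * e * x⁻¹) * x := by group
        _ = e * x := by rw [this]
    have hB₀comm : ∀ x ∈ B₀, ∀ y ∈ B₀, x * y = y * x := by
      intro x hx y hy
      have := hBel.1.is_comm.comm (⟨x, hB₀B hx⟩ : B) ⟨y, hB₀B hy⟩
      exact congrArg Subtype.val this
    have hinf : ∀ y ∈ B₀, y ∈ E → y = 1 := by
      intro y hy hyE
      obtain ⟨l, rfl, hl⟩ := hEmem y hyE
      have h1 : π l = π 1 := by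
        rw [hπ, map_one]
        have h2 := hBa _ (hB₀B hy)
        have h3 := hBsq _ (hB₀B hy)
        calc (l : X) * (a * (l : X) * a⁻¹) = (l : X) * ((l : X) * a) * a⁻¹ := by
              rw [← h2]; group
          _ = ((l : X) * (l : X)) * (a * a⁻¹) := by group
          _ = 1 := by rw [h3]; group
      exact congrArg Subtype.val (hinj h1)
    obtain ⟨A, hAdef⟩ : ∃ A : Subgroup X, A = B₀ ⊔ E := ⟨_, rfl⟩
    have hB₀Ecomm : ⁅B₀, E⁆ = ⊥ := commutator_eq_bot_iff_forall_commute.2 hB₀E
    have hAmem : ∀ y ∈ A, ∃ x ∈ B₀, ∃ e ∈ E, x * e = y := by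
      intro y hy
      rw [hAdef] at hy
      exact (mem_sup_of_commutator_eq_bot hB₀Ecomm).1 hy
    have hAcomm : ∀ y ∈ A, ∀ y' ∈ A, y * y' = y' * y := by
      intro y hy y' hy'
      obtain ⟨x, hx, e, he, rfl⟩ := hAmem y hy
      obtain ⟨x', hx', e', he', rfl⟩ := hAmem y' hy'
      have c1 := hB₀comm x hx x' hx'
      have c2 := hEcomm e he e' he'
      have c3 := hB₀E x hx e' he'
      have c4 := hB₀E x' hx' e he
      calc x * e * (x' * e') = x * (e * x') * e' := by group
        _ = x * (x' * e) * e' := by rw [c4]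
        _ = (x * x') * (e * e') := by group
        _ = (x' * x) * (e' * e) := by rw [c1, c2]
        _ = x' * (x * e') * e := by group
        _ = x' * (e' * x) * e := by rw [c3]
        _ = x' * e' * (x * e) := by group
    have hAel : IsElementaryAbelian 2 A := by
      refine ⟨⟨⟨fun y y' => Subtype.ext (hAcomm y y.2 y' y'.2)⟩⟩, ?_⟩
      intro y hy
      obtain ⟨x, hx, e, he, rfl⟩ := hAmem y hy
      have c := hB₀E x hx e he
      rw [pow_two]
      calc x * e * (x * e) = x * (e * x) * e := by group
        _ = x * (x * e) * e := by rw [c]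
        _ = (x * x) * (e * e) := by group
        _ = 1 := by rw [hBsq x (hB₀B hx), hEsq e he, one_mul]
    -- `A` centralises `L'`
    have hAcent : A ≤ centralizer (L' : Set X) := by
      rw [hAdef]
      apply sup_le
      · intro x hx
        rw [mem_centralizer_iff]
        intro l' hl'
        rw [hL'def] at hl'
        obtain ⟨l, hl, rfl⟩ := hl'
        have h1 := hcentL x (hB₀B hx) (hB₀N hx) l hl
        have h2 := hBa x (hB₀B hx)
        show a * l * a⁻¹ * x = x * (a * l * a⁻¹)
        have h3 : x * (a * l * a⁻¹) * x⁻¹ = a * l * a⁻¹ := by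
          have := S1305B_conj_diag (a := a) (k := x) (l := l) h2
          rw [h1] at this
          -- l * (a l a⁻¹) = x (l (a l a⁻¹)) x⁻¹
          have h4 : x * (a * l * a⁻¹) * x⁻¹ = (x * l * x⁻¹)⁻¹ * (x * (l * (a * l * a⁻¹)) * x⁻¹) := by
            group
          rw [h4, ← this, h1]; group
        calc a * l * a⁻¹ * x = (x * (a * l * a⁻¹) * x⁻¹) * x := by rw [h3]
          _ = x * (a * l * a⁻¹) := by group
      · have : L ≤ centralizer (L' : Set X) := commutator_eq_bot_iff_le_centralizer.1 hLL'
        exact hEL.trans this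
    have hcardA : Nat.card B₀ * Nat.card E ≤ Nat.card A := by
      let g : B₀ × E → A := fun q =>
        ⟨(q.1 : X) * (q.2 : X), hAdef ▸ mul_mem_sup q.1.2 q.2.2⟩
      have hg : Function.Injective g := by
        rintro ⟨⟨x, hx⟩, ⟨e, he⟩⟩ ⟨⟨x', hx'⟩, ⟨e', he'⟩⟩ h
        have h1 : x * e = x' * e' := congrArg Subtype.val h
        have h2 : x'⁻¹ * x = e' * e⁻¹ := by
          calc x'⁻¹ * x = x'⁻¹ * (x * e) * e⁻¹ := by group
            _ = x'⁻¹ * (x' * e') * e⁻¹ := by rw [h1]
            _ = e' * e⁻¹ := by group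
        have h3 : x'⁻¹ * x = 1 :=
          hinf _ (mul_mem (inv_mem hx') hx) (h2 ▸ mul_mem he' (inv_mem he))
        have h4 : x = x' := by
          calc x = x' * (x'⁻¹ * x) := by group
            _ = x' := by rw [h3, mul_one]
        have h5 : e = e' := by
          rw [h4] at h1
          exact mul_left_cancel h1
        subst h4; subst h5; rfl
      have := Nat.card_le_card_of_injective g hg
      rwa [Nat.card_prod] at this
    have hfin := hmaxB L' hL' hcardL' A hAcent hAel
    have hB₀pos : 0 < Nat.card B₀ := Nat.card_pos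
    rw [hcardE] at hcardA
    nlinarith

end Cfsg.Agent.Helper12.S1305
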