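import Mathlib
import Cfsg.Prelude.Def_Local
import Cfsg.Prelude.Def_Transfer
import Cfsg.Prelude.Def_Balance
import Cfsg.Prelude.Def_CaseTheorems
import Cfsg.Agent.Helper12.S1305B
import Cfsg.Agent.Helper9.LBalJ
import Cfsg.Agent.Helper1.SubnIn
import Cfsg.Agent.Helper7.PComponent4
import Cfsg.Agent.Helper19.Cores

set_option autoImplicit false
set_option linter.style.haveILetI false
set_option linter.unusedSectionVars false
set_option linter.unusedVariables false

/-! # S1305, part C: transport to `X = C_G(b)` and the final assembly -/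

namespace Cfsg.Agent.Helper12.S1305

open Subgroup Cfsg
open Cfsg.Agent.Helper7
open Cfsg.Agent.Helper1 (SubnIn)
open scoped commutatorElement

universe u

section general

variable {Y : Type u} [Group Y]

/-- a component of order divisible by `p` is a `p`-component -/
theorem S1305C_isPComponent_of_isComponent [Finite Y] {p : ℕ} [hp : Fact p.Prime]
    {J : Subgroup Y} (hJ : IsComponent J) (hdvd : p ∣ Nat.card J) : IsPComponent p J := by
  rcases IsComponent.map_mk_eq_bot_or (p := p) hJ with h | h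
  · exfalso
    have h1 : J ≤ pPrimeCore p Y := by
      have := (Subgroup.map_eq_bot_iff J).1 h
      rwa [QuotientGroup.ker_mk'] at this
    have h2 : (Nat.card J).Coprime p :=
      Nat.Coprime.coprime_dvd_left (Subgroup.card_dvd_of_le h1)
        (Cfsg.Agent.Helper19.pPrimeCore_coprime p)
    exact (Nat.Prime.coprime_iff_not_dvd hp.out).1 h2.symm hdvd
  · have h1 := isPComponent_pCompOver (p := p) h
    have h2 := map_pCompOver (p := p) h
    have h3 := IsPComponent.eq_of_map_eq h1 hJ h2.symm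
    rw [h3] at h1
    exact h1

/-- the join of two commuting elementary abelian `2`-subgroups is elementary abelian -/
theorem S1305C_elemAb_sup {B E : Subgroup Y} (hB : IsElementaryAbelian 2 B)
    (hE : IsElementaryAbelian 2 E) (hBE : ∀ x ∈ B, ∀ e ∈ E, x * e = e * x) :
    IsElementaryAbelian 2 (B ⊔ E) := by
  have hBcomm : ∀ x ∈ B, ∀ y ∈ B, x * y = y * x := by
    intro x hx y hy
    exact congrArg Subtype.val (hB.1.is_comm.comm (⟨x, hx⟩ : B) ⟨y, hy⟩)
  have hEcomm : ∀ x ∈ E, ∀ y ∈ E, x * y = y * x := by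
    intro x hx y hy
    exact congrArg Subtype.val (hE.1.is_comm.comm (⟨x, hx⟩ : E) ⟨y, hy⟩)
  have hBsq : ∀ x ∈ B, x * x = 1 := fun x hx => by
    have := hB.2 x hx
    rwa [pow_two] at this
  have hEsq : ∀ x ∈ E, x * x = 1 := fun x hx => by
    have := hE.2 x hx
    rwa [pow_two] at this
  have hcomm : ⁅B, E⁆ = ⊥ := commutator_eq_bot_iff_forall_commute.2 hBE
  have hmem : ∀ y ∈ B ⊔ E, ∃ x ∈ B, ∃ e ∈ E, x * e = y := fun y hy =>
    (mem_sup_of_commutator_eq_bot hcomm).1 hy
  have hAcomm : ∀ y ∈ B ⊔ E, ∀ y' ∈ B ⊔ E, y * y' = y' * y := by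
    intro y hy y' hy'
    obtain ⟨x, hx, e, he, rfl⟩ := hmem y hy
    obtain ⟨x', hx', e', he', rfl⟩ := hmem y' hy'
    have c1 := hBcomm x hx x' hx'
    have c2 := hEcomm e he e' he'
    have c3 := hBE x hx e' he'
    have c4 := hBE x' hx' e he
    calc x * e * (x' * e') = x * (e * x') * e' := by group
      _ = x * (x' * e) * e' := by rw [c4]
      _ = (x * x') * (e * e') := by group
      _ = (x' * x) * (e' * e) := by rw [c1, c2]
      _ = x' * (x * e') * e := by group
      _ = x' * (e' * x) * e := by rw [c3]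
      _ = x' * e' * (x * e) := by group
  refine ⟨⟨⟨fun y y' => Subtype.ext (hAcomm y y.2 y' y'.2)⟩⟩, ?_⟩
  intro y hy
  obtain ⟨x, hx, e, he, rfl⟩ := hmem y hy
  have c := hBE x hx e he
  rw [pow_two]
  calc x * e * (x * e) = x * (e * x) * e := by group
    _ = x * (x * e) * e := by rw [c]
    _ = (x * x) * (e * e) := by group
    _ = 1 := by rw [hBsq x hx, hEsq e he, one_mul]

theorem S1305C_centralizer_zpowers (g : Y) :
    centralizer ((zpowers g : Subgroup Y) : Set Y) = centralizer ({g} : Set Y) := by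
  ext x
  rw [mem_centralizer_iff, mem_centralizer_singleton_iff]
  constructor
  · intro h
    exact (h g (mem_zpowers g)).symm
  · intro h y hy
    obtain ⟨n, rfl⟩ := mem_zpowers_iff.1 hy
    have hc : Commute g x := h.symm
    exact (hc.zpow_left n).eq

theorem S1305C_card_subgroupOf {A H : Subgroup Y} (h : A ≤ H) :
    Nat.card (A.subgroupOf H) = Nat.card A :=
  Nat.card_congr (subgroupOfEquivOfLe h).toEquiv

end general

section main

variable {G : Type u} [Group G] [Finite G]

/-- under the B-property and `O(G) = 1`, the 2-layer of an involution centraliser lies in its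
layer -/
theorem S1305C_pLayer_le_layer (hO : Cfsg.oddCore G = ⊥) (hB : Cfsg.HasBProperty G) (b : G)
    (hb : orderOf b = 2) :
    pLayer 2 ↥(centralizer ({b} : Set G)) ≤ layer ↥(centralizer ({b} : Set G)) := by
  haveI : Fact (Nat.Prime 2) := ⟨Nat.prime_two⟩
  have h1 := hB b hb
  rw [hO, le_bot_iff, Subgroup.map_eq_bot_iff_of_injective _ (subtype_injective _)] at h1
  unfold pLayer
  rw [sSup_le_iff]
  intro J hJ
  have hJ' : IsPComponent 2 J := hJ
  have hq : IsQuasisimple ↥J := by
    rw [IsPComponent.isQuasisimple_iff hJ', map_subtype_pPrimeCore hJ'.1, ← le_bot_iff, ← h1]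
    exact commutator_mono (IsPComponent.le_pLayer hJ') inf_le_left
  exact IsComponent.le_layer ⟨hJ'.1, hq⟩

/-- **S1305**, the statement. -/
theorem S1305C_main (hO : Cfsg.oddCore G = ⊥) (hB : Cfsg.HasBProperty G) (a : G)
    (ha : orderOf a = 2) (K : Subgroup G) (hKa : K ≤ Subgroup.centralizer ({a} : Set G))
    (hK : Cfsg.IsComponent (K.subgroupOf (Subgroup.centralizer ({a} : Set G))))
    (hmax : ∀ y : G, orderOf y = 2 → ∀ K' : Subgroup G, K' ≤ Subgroup.centralizer ({y} : Set G) →
      Cfsg.IsComponent (K'.subgroupOf (Subgroup.centralizer ({y} : Set G))) →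
      Nat.card ↥K' ≤ Nat.card ↥K ∧ (Nat.card ↥K' = Nat.card ↥K → ∀ k : ℕ,
        Cfsg.PRankLE 2 k ↥(Subgroup.centralizer ({a} : Set G) ⊓ Subgroup.centralizer (K : Set G)) →
        Cfsg.PRankLE 2 k ↥(Subgroup.centralizer ({y} : Set G) ⊓ Subgroup.centralizer (K' : Set G))))
    (hrk : ¬ Cfsg.PRankLE 2 1 ↥K) (B : Subgroup G)
    (hBle : B ≤ Subgroup.centralizer ({a} : Set G) ⊓ Subgroup.centralizer (K : Set G))
    (hBel : Cfsg.IsElementaryAbelian 2 B)
    (hBmax : ∀ B' : Subgroup G,
      B' ≤ Subgroup.centralizer ({a} : Set G) ⊓ Subgroup.centralizer (K : Set G) →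
      Cfsg.IsElementaryAbelian 2 B' → Nat.card ↥B' ≤ Nat.card ↥B)
    (b : G) (hb : b ∈ B) (hb1 : b ≠ 1) :
    K ≤ Subgroup.centralizer ({b} : Set G) ∧
      Cfsg.IsComponent (K.subgroupOf (Subgroup.centralizer ({b} : Set G))) := by
  haveI : Fact (Nat.Prime 2) := ⟨Nat.prime_two⟩
  have ha2 : a * a = 1 := by
    have := pow_orderOf_eq_one a
    rwa [ha, pow_two] at this
  -- `a ∈ B`
  have haCa : a ∈ centralizer ({a} : Set G) := mem_centralizer_singleton_iff.2 rfl
  have haCK : a ∈ centralizer (K : Set G) := by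
    rw [mem_centralizer_iff]
    intro k hk
    exact mem_centralizer_singleton_iff.1 (hKa hk)
  have hBa : ∀ x ∈ B, x * a = a * x := fun x hx =>
    mem_centralizer_singleton_iff.1 (hBle hx).1
  have haB : a ∈ B := by
    have hZel : IsElementaryAbelian 2 (zpowers a) := by
      refine ⟨inferInstance, ?_⟩
      intro x hx
      obtain ⟨n, rfl⟩ := mem_zpowers_iff.1 hx
      rw [← zpow_natCast, ← zpow_mul, mul_comm, zpow_mul, zpow_natCast, pow_two, ha2, one_zpow]
    have hcomm : ∀ x ∈ B, ∀ e ∈ zpowers a, x * e = e * x := by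
      intro x hx e he
      obtain ⟨n, rfl⟩ := mem_zpowers_iff.1 he
      have hc : Commute x a := hBa x hx
      exact (hc.zpow_right n).eq
    have hel := S1305C_elemAb_sup hBel hZel hcomm
    have hle : B ⊔ zpowers a ≤ centralizer ({a} : Set G) ⊓ centralizer (K : Set G) := by
      apply sup_le hBle
      rw [zpowers_le]
      exact ⟨haCa, haCK⟩
    have hcard := hBmax _ hle hel
    have := Subgroup.eq_of_le_of_card_ge (le_sup_left : B ≤ B ⊔ zpowers a) hcard
    rw [this]
    exact le_sup_right (a := B) (mem_zpowers a)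
  -- `b` is an involution commuting with `a` and `K`
  have hb2 : orderOf b = 2 := by
    apply orderOf_eq_prime _ hb1
    exact hBel.2 b hb
  have hBcomm : ∀ x ∈ B, ∀ y ∈ B, x * y = y * x := by
    intro x hx y hy
    exact congrArg Subtype.val (hBel.1.is_comm.comm (⟨x, hx⟩ : B) ⟨y, hy⟩)
  have hKb : K ≤ centralizer ({b} : Set G) := by
    intro k hk
    rw [mem_centralizer_singleton_iff]
    exact (mem_centralizer_iff.1 (hBle hb).2) k hk
  refine ⟨hKb, ?_⟩
  have hBb : B ≤ centralizer ({b} : Set G) := by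
    intro x hx
    rw [mem_centralizer_singleton_iff]
    exact hBcomm x hx b hb
  obtain ⟨Cb, hCb⟩ : ∃ Cb : Subgroup G, Cb = centralizer ({b} : Set G) := ⟨_, rfl⟩
  obtain ⟨Ca, hCa⟩ : ∃ Ca : Subgroup G, Ca = centralizer ({a} : Set G) := ⟨_, rfl⟩
  rw [← hCb] at hKb hBb ⊢
  rw [← hCa] at hKa hK
  have haCb : a ∈ Cb := hBb haB
  -- the objects inside `X = C_G(b)`
  obtain ⟨aX, haX⟩ : ∃ aX : Cb, aX = ⟨a, haCb⟩ := ⟨_, rfl⟩
  have haXcoe : (aX : G) = a := by rw [haX]
  have haXord : orderOf aX = 2 := by rw [← Subgroup.orderOf_coe, haXcoe, ha]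
  have hCX : (Ca ⊓ Cb).subgroupOf Cb = centralizer ({aX} : Set Cb) := by
    ext x
    rw [mem_subgroupOf, mem_centralizer_singleton_iff, Subgroup.mem_inf, hCa,
      mem_centralizer_singleton_iff]
    constructor
    · intro h
      apply Subtype.ext
      rw [Subgroup.coe_mul, Subgroup.coe_mul, haXcoe]
      exact h.1
    · intro h
      refine ⟨?_, x.2⟩
      have := congrArg Subtype.val h
      rwa [Subgroup.coe_mul, Subgroup.coe_mul, haXcoe] at this
  have hKab : K ≤ Ca ⊓ Cb := le_inf hKa hKb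
  have hKXC : K.subgroupOf Cb ≤ centralizer ({aX} : Set Cb) := by
    rw [← hCX]
    exact (subgroupOf_le_subgroupOf_iff hKb).2 hKab
  -- `K` is a component of `C_X(a)`
  have hKXcomp : IsComponent ((K.subgroupOf Cb).subgroupOf (centralizer ({aX} : Set Cb))) := by
    constructor
    · have h1 : SubnIn K Ca := ⟨hKa, hK.1⟩
      have h2 : SubnIn K (Ca ⊓ Cb) := h1.mono hKab inf_le_left
      have h3 := (Cfsg.Agent.Helper1.subgroupOf_subgroupOf_isSubnormal_iff
        (A := K) (H := Ca ⊓ Cb) (K := Cb) inf_le_right).2 h2.2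
      rwa [hCX] at h3
    · have e1 := subgroupOfEquivOfLe hKa
      have e2 := subgroupOfEquivOfLe hKb
      have e3 := subgroupOfEquivOfLe hKXC
      exact isQuasisimple_of_mulEquiv ((e1.trans e2.symm).trans e3.symm) hK.2
  -- `K` has even order
  have hrk' := hrk
  unfold PRankLE at hrk'
  push Not at hrk'
  obtain ⟨A₁, hA₁c, hA₁e, hA₁card⟩ := hrk'
  have hA₁2 : IsPGroup 2 A₁ := by
    intro x
    refine ⟨1, ?_⟩
    apply Subtype.ext
    have := hA₁e x x.2
    rw [pow_one, Subgroup.coe_pow, this, Subgroup.coe_one]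
  obtain ⟨n, hn⟩ := hA₁2.exists_card_eq
  have hn2 : 2 ≤ n := by
    by_contra hlt
    push Not at hlt
    have : 2 ^ n ≤ 2 ^ 1 := Nat.pow_le_pow_right (by norm_num) (by omega)
    omega
  have hA₁4 : 4 ≤ Nat.card A₁ := by
    rw [hn]
    calc 4 = 2 ^ 2 := by norm_num
      _ ≤ 2 ^ n := Nat.pow_le_pow_right (by norm_num) hn2
  have hKeven : 2 ∣ Nat.card K := by
    have h1 : Nat.card A₁ ∣ Nat.card K := Subgroup.card_subgroup_dvd_card A₁
    have h2 : 2 ∣ Nat.card A₁ := by
      rw [hn]; exact dvd_pow_self 2 (by omega)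
    exact h2.trans h1
  -- `K ≤ E(X)`
  have hKXE : K.subgroupOf Cb ≤ layer ↥Cb := by
    have h1 : IsPComponent 2 ((K.subgroupOf Cb).subgroupOf (centralizer ({aX} : Set Cb))) := by
      apply S1305C_isPComponent_of_isComponent hKXcomp
      rw [S1305C_card_subgroupOf hKXC, S1305C_card_subgroupOf hKb]
      exact hKeven
    have h2 : IsPComponentOf 2 (K.subgroupOf Cb) (centralizer ({aX} : Set Cb)) := ⟨hKXC, h1⟩
    have h3 := Cfsg.Agent.Helper9.LBal.IsPComponentOf.le_pLayerOf h2
    have hT : IsPGroup 2 (zpowers aX) := by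
      apply IsPGroup.of_card (n := 1)
      rw [Nat.card_zpowers, haXord, pow_one]
    have h4 := Cfsg.Agent.Helper9.LBal.l_balance (zpowers aX) hT
    rw [S1305C_centralizer_zpowers] at h4
    have h5 := S1305C_pLayer_le_layer hO hB b hb2
    rw [← hCb] at h5
    exact (h3.trans h4).trans h5
  -- the order of `B`
  have hB2 : IsPGroup 2 B := by
    intro x
    refine ⟨1, ?_⟩
    apply Subtype.ext
    have := hBel.2 x x.2
    rw [pow_one, Subgroup.coe_pow, this, Subgroup.coe_one]
  obtain ⟨r, hr⟩ := hB2.exists_card_eq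
  have hrankA : PRankLE 2 r ↥(Ca ⊓ centralizer (K : Set G)) := by
    intro A' hA'c hA'e
    rw [← hr, ← Subgroup.card_subtype]
    apply hBmax
    · rw [← hCa]; exact map_subtype_le _
    · refine ⟨inferInstance, ?_⟩
      rintro _ ⟨x, hx, rfl⟩
      have := hA'e x hx
      rw [Subgroup.coe_subtype, ← Subgroup.coe_pow, this, Subgroup.coe_one]
  -- components of `X` seen in `G`
  have hcompG : ∀ L : Subgroup Cb, IsComponent L →
      IsComponent ((L.map Cb.subtype).subgroupOf Cb) := by
    intro L hL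
    have : (L.map Cb.subtype).subgroupOf Cb = L :=
      comap_map_eq_self_of_injective (subtype_injective Cb) L
    rw [this]; exact hL
  have hmaxA : ∀ L : Subgroup Cb, IsComponent L → Nat.card L ≤ Nat.card (K.subgroupOf Cb) := by
    intro L hL
    have h1 := (hmax b hb2 (L.map Cb.subtype) (hCb ▸ map_subtype_le L)
      (hCb ▸ hcompG L hL)).1
    rwa [Subgroup.card_subtype, ← S1305C_card_subgroupOf hKb] at h1
  have hBXel : IsElementaryAbelian 2 (B.subgroupOf Cb) := by
    haveI := hBel.1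
    refine ⟨inferInstance, ?_⟩
    intro x hx
    apply Subtype.ext
    rw [Subgroup.coe_pow, Subgroup.coe_one]
    exact hBel.2 _ hx
  have haBX : aX ∈ B.subgroupOf Cb := by
    rw [mem_subgroupOf, haXcoe]; exact haB
  have hBXK : B.subgroupOf Cb ≤ centralizer ((K.subgroupOf Cb : Subgroup Cb) : Set Cb) := by
    intro x hx
    rw [mem_centralizer_iff]
    intro k hk
    apply Subtype.ext
    rw [Subgroup.coe_mul, Subgroup.coe_mul]
    exact (mem_centralizer_iff.1 (hBle (mem_subgroupOf.1 hx)).2) _ (mem_subgroupOf.1 hk)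
  have hmaxB : ∀ L : Subgroup Cb, IsComponent L → Nat.card L = Nat.card (K.subgroupOf Cb) →
      ∀ A : Subgroup Cb, A ≤ centralizer (L : Set Cb) → IsElementaryAbelian 2 A →
        Nat.card A ≤ Nat.card (B.subgroupOf Cb) := by
    intro L hL hcard A hAL hAel
    have hcard' : Nat.card (L.map Cb.subtype) = Nat.card K := by
      rw [Subgroup.card_subtype, hcard, S1305C_card_subgroupOf hKb]
    have h1 := (hmax b hb2 (L.map Cb.subtype) (hCb ▸ map_subtype_le L)
      (hCb ▸ hcompG L hL)).2 hcard' r (hCa ▸ hrankA)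
    rw [← hCb] at h1
    have hAle : A.map Cb.subtype ≤ Cb ⊓ centralizer ((L.map Cb.subtype : Subgroup G) : Set G) := by
      apply le_inf (map_subtype_le A)
      rintro _ ⟨x, hx, rfl⟩
      rw [mem_centralizer_iff]
      rintro _ ⟨l, hl, rfl⟩
      have := (mem_centralizer_iff.1 (hAL hx)) l hl
      have h2 := congrArg Subtype.val this
      rwa [Subgroup.coe_mul, Subgroup.coe_mul] at h2
    have hAc : IsMulCommutative ↥(A.map Cb.subtype) := by
      haveI := hAel.1
      infer_instance
    have h2 := h1 ((A.map Cb.subtype).subgroupOf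
      (Cb ⊓ centralizer ((L.map Cb.subtype : Subgroup G) : Set G))) inferInstance (by
        intro x hx
        apply Subtype.ext
        rw [Subgroup.coe_pow, Subgroup.coe_one]
        obtain ⟨y, hy, hyx⟩ := mem_subgroupOf.1 hx
        rw [← hyx, Subgroup.coe_subtype, ← Subgroup.coe_pow, hAel.2 y hy, Subgroup.coe_one])
    rw [S1305C_card_subgroupOf hAle, Subgroup.card_subtype, ← hr,
      ← S1305C_card_subgroupOf hBb] at h2
    exact h2
  -- the elementary abelian subgroup of `K` of order `≥ 4`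
  obtain ⟨A₀, hA₀def⟩ : ∃ A₀ : Subgroup Cb, A₀ = (A₁.map K.subtype).subgroupOf Cb := ⟨_, rfl⟩
  have hA₁K : A₁.map K.subtype ≤ K := map_subtype_le A₁
  have hA₀K : A₀ ≤ K.subgroupOf Cb := by
    rw [hA₀def]
    exact (subgroupOf_le_subgroupOf_iff (hA₁K.trans hKb)).2 hA₁K
  have hA₀el : IsElementaryAbelian 2 A₀ := by
    rw [hA₀def]
    haveI := hA₁c
    refine ⟨inferInstance, ?_⟩
    intro x hx
    apply Subtype.ext
    rw [Subgroup.coe_pow, Subgroup.coe_one]
    obtain ⟨y, hy, hyx⟩ := mem_subgroupOf.1 hx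
    rw [← hyx, Subgroup.coe_subtype, ← Subgroup.coe_pow, hA₁e y hy, Subgroup.coe_one]
  have hA₀4 : 4 ≤ Nat.card A₀ := by
    rw [hA₀def, S1305C_card_subgroupOf (hA₁K.trans hKb), Subgroup.card_subtype]
    exact hA₁4
  exact S1305B_core aX haXord (K.subgroupOf Cb) hKXC hKXcomp hKXE hmaxA (B.subgroupOf Cb) hBXel
    haBX hBXK hmaxB A₀ hA₀K hA₀el hA₀4

end main

end Cfsg.Agent.Helper12.S1305
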