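import Mathlib
import Cfsg.Agent.Helper12.S1786LAM1
import Cfsg.Agent.Helper19.S1786PHI

/-! Board `s1786pieces`, rows LAM2, LAM3, NCS, DNORM, PARTle. -/

set_option autoImplicit false

namespace Cfsg.Agent.S1786P

variable {G : Type*} [Group G] [Finite G] {V Q B C : Subgroup G}

/-- LAM2: `[P, B] ≤ V`. -/
theorem LAM2 (S : Setup V Q) (hB : Lam V Q B) : ∀ x ∈ PP V Q, ∀ b ∈ B, x * b * x⁻¹ * b⁻¹ ∈ V := by
  intro x hx b hb
  exact (PHI S x hx b ((LAM1 S hB).1 hb)).1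

/-- LAM3: `C_P(b) = C_P(B)` for `1 ≠ b ∈ B`. -/
theorem LAM3 (S : Setup V Q) (hB : Lam V Q B) : ∀ x ∈ PP V Q, ∀ b ∈ B, b ≠ 1 → x * b = b * x →
    ∀ b' ∈ B, x * b' = b' * x := by
  intro x hx b hb hb1 hxb b' hb'
  obtain ⟨hBP, hVB, _, _, _, _⟩ := LAM1 S hB
  obtain ⟨⟨y, hBy⟩, _, _⟩ := hB
  -- cj x B = B
  have h1 : b ∈ cj x B := by
    rw [mem_cj]
    have : x⁻¹ * b * x = b := by
      calc x⁻¹ * b * x = x⁻¹ * (b * x) := by group
        _ = x⁻¹ * (x * b) := by rw [hxb]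
        _ = b := by group
    rw [this]; exact hb
  have h2 : cj x B = B := by
    have hcx : cj x B = cj (x * y) V := by rw [hBy, cj_mul]
    rcases TIC S (x * y) y with h | h
    · rw [hcx, h, hBy]
    · exfalso
      have : b ∈ cj (x * y) V ⊓ cj y V := by
        rw [← hcx, ← hBy]
        exact Subgroup.mem_inf.2 ⟨h1, hb⟩
      rw [h, Subgroup.mem_bot] at this
      exact hb1 this
  have h3 : x * b' * x⁻¹ ∈ B := by
    have := conj_mem_cj (x := x) hb'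
    rwa [h2] at this
  have h4 : x * b' * x⁻¹ * b'⁻¹ ∈ B := B.mul_mem h3 (B.inv_mem hb')
  have h5 : x * b' * x⁻¹ * b'⁻¹ ∈ V := LAM2 S ⟨⟨y, hBy⟩, by assumption, by assumption⟩ x hx b' hb'
  have h6 : x * b' * x⁻¹ * b'⁻¹ = 1 := by
    have : x * b' * x⁻¹ * b'⁻¹ ∈ V ⊓ B := Subgroup.mem_inf.2 ⟨h5, h4⟩
    rw [hVB, Subgroup.mem_bot] at this
    exact this
  calc x * b' = (x * b' * x⁻¹ * b'⁻¹) * (b' * x) := by group
    _ = b' * x := by rw [h6, one_mul]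

/-- NCS: for a noncommuting pair no two nonidentity elements commute. -/
theorem NCS (S : Setup V Q) (hB : Lam V Q B) (hC : Lam V Q C) (hnc : ∃ b ∈ B, ∃ c ∈ C, b * c ≠ c * b) :
    ∀ b ∈ B, b ≠ 1 → ∀ c ∈ C, c ≠ 1 → b * c ≠ c * b := by
  intro b hb hb1 c hc hc1 hbc
  obtain ⟨b₀, hb₀, c₀, hc₀, hne⟩ := hnc
  have hBP := (LAM1 S hB).1
  have hCP := (LAM1 S hC).1
  -- c centralizes B
  have h1 : ∀ b' ∈ B, c * b' = b' * c := LAM3 S hB c (hCP hc) b hb hb1 hbc.symm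
  -- b₀ commutes with c, hence (if b₀ ≠ 1) with all of C
  by_cases hb₀1 : b₀ = 1
  · subst hb₀1; simp at hne
  have h2 : ∀ c' ∈ C, b₀ * c' = c' * b₀ := LAM3 S hC b₀ (hBP hb₀) c hc hc1 (h1 b₀ hb₀).symm
  exact hne (h2 c₀ hc₀)

/-- DNORM: `P` normalizes `D`. -/
theorem DNORM (S : Setup V Q) (hB : Lam V Q B) : ∀ x ∈ PP V Q, ∀ d ∈ DD V Q B, x * d * x⁻¹ ∈ DD V Q B := by
  intro x hx d hd
  obtain ⟨hdP, hdB⟩ := mem_DD.1 hd
  have hxinv : x⁻¹ ∈ PP V Q := (PP V Q).inv_mem hx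
  refine mem_DD.2 ⟨(PP V Q).mul_mem ((PP V Q).mul_mem hx hdP) hxinv, ?_⟩
  intro b hb
  -- x⁻¹ b x = v b
  have hv : x⁻¹ * b * x⁻¹⁻¹ * b⁻¹ ∈ V := LAM2 S hB x⁻¹ hxinv b hb
  set v := x⁻¹ * b * x⁻¹⁻¹ * b⁻¹ with hvdef
  have hxb : x⁻¹ * b * x = v * b := by rw [hvdef]; group
  have hdv : d * v = v * d := (mem_PP.1 hdP).2 v hv
  have hdb : d * b = b * d := hdB b hb
  have h1 : d * (v * b) = (v * b) * d := by
    calc d * (v * b) = (d * v) * b := by group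
      _ = (v * d) * b := by rw [hdv]
      _ = v * (d * b) := by group
      _ = v * (b * d) := by rw [hdb]
      _ = v * b * d := by group
  calc x * d * x⁻¹ * b = x * (d * (x⁻¹ * b * x)) * x⁻¹ := by group
    _ = x * (d * (v * b)) * x⁻¹ := by rw [hxb]
    _ = x * ((v * b) * d) * x⁻¹ := by rw [h1]
    _ = x * ((x⁻¹ * b * x) * d) * x⁻¹ := by rw [hxb]
    _ = b * (x * d * x⁻¹) := by group

/-- PARTle: `P` normalizes `W`. -/
theorem PARTle (S : Setup V Q) (hB : Lam V Q B) : ∀ x ∈ PP V Q, cj x B ≤ V ⊔ B := by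
  intro x hx w hw
  obtain ⟨b, hb, rfl⟩ := exists_of_mem_cj hw
  have h1 := LAM2 S hB x hx b hb
  have : x * b * x⁻¹ = (x * b * x⁻¹ * b⁻¹) * b := by group
  rw [this]
  exact (V ⊔ B).mul_mem (Subgroup.mem_sup_left h1) (Subgroup.mem_sup_right hb)

end Cfsg.Agent.S1786P
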