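import Mathlib
import Cfsg.Agent.Helper12.S1786LAM1

/-! Board `s1786pieces`, row NONCOMM. -/

set_option autoImplicit false

namespace Cfsg.Agent.S1786P

variable {G : Type*} [Group G] [Finite G] {V Q B : Subgroup G}

/-- NONCOMM: some member of `Λ` does not commute with `B`. -/
theorem NONCOMM (S : Setup V Q) (hB : Lam V Q B) : ∃ C : Subgroup G, Lam V Q C ∧ ∃ b ∈ B, ∃ c ∈ C, b * c ≠ c * b := by
  by_contra hcon
  push_neg at hcon
  -- hcon : ∀ C, Lam V Q C → ∀ b ∈ B, ∀ c ∈ C, b * c = c * b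
  obtain ⟨hBP, hVB, hcardB, hBcomm, hBsq, hBne⟩ := LAM1 S hB
  let M : Subgroup G := Subgroup.normalizer (V : Set G)
  let T : Set G := {x | ∃ m ∈ M, x ∈ cj m B} ∪ (V : Set G)
  -- every element of T lies in P
  have hTP : ∀ x ∈ T, x ∈ PP V Q := by
    rintro x (⟨m, hm, hx⟩ | hx)
    · exact (LAM1 S (LAMC S hB hm)).1 hx
    · exact S.V_le_PP hx
  -- pairwise commuting
  have hTcomm : ∀ x ∈ T, ∀ y ∈ T, x * y = y * x := by
    rintro x (⟨m, hm, hx⟩ | hx) y (⟨m', hm', hy⟩ | hy)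
    · -- x ∈ cj m B, y ∈ cj m' B
      obtain ⟨b, hb, rfl⟩ := exists_of_mem_cj hx
      have hmm : m⁻¹ * m' ∈ M := M.mul_mem (M.inv_mem hm) hm'
      have hL := LAMC S hB hmm
      have hy' : m⁻¹ * y * m ∈ cj (m⁻¹ * m') B := by
        rw [cj_mul]
        obtain ⟨b', hb', rfl⟩ := exists_of_mem_cj hy
        have : m⁻¹ * (m' * b' * m'⁻¹) * m = m⁻¹ * (m' * b' * m'⁻¹) * m⁻¹⁻¹ := by group
        rw [this]
        exact conj_mem_cj (conj_mem_cj hb')
      have h1 := hcon _ hL b hb _ hy'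
      calc m * b * m⁻¹ * y = m * (b * (m⁻¹ * y * m)) * m⁻¹ := by group
        _ = m * ((m⁻¹ * y * m) * b) * m⁻¹ := by rw [h1]
        _ = y * (m * b * m⁻¹) := by group
    · exact ((mem_PP.1 (hTP x (Or.inl ⟨m, hm, hx⟩))).2 y hy)
    · exact ((mem_PP.1 (hTP y (Or.inl ⟨m', hm', hy⟩))).2 x hx).symm
    · exact S.comm x hx y hy
  let A : Subgroup G := Subgroup.closure T
  have hTcent : T ⊆ (Subgroup.centralizer T : Set G) := by
    intro x hx
    rw [SetLike.mem_coe, Subgroup.mem_centralizer_iff]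
    intro y hy
    exact hTcomm y hy x hx
  have hA1 : A ≤ Subgroup.centralizer T := (Subgroup.closure_le _).2 hTcent
  have hA2 : A ≤ Subgroup.centralizer (Subgroup.centralizer T : Set G) := Subgroup.closure_le_centralizer_centralizer T
  have hAcomm : ∀ a ∈ A, ∀ b ∈ A, a * b = b * a := by
    intro a ha b hb
    have h1 := hA2 ha
    rw [Subgroup.mem_centralizer_iff] at h1
    exact (h1 b (hA1 hb)).symm
  have hVA : V ≤ A := fun v hv => Subgroup.subset_closure (Or.inr hv)
  have hAM : A ≤ M := by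
    refine (Subgroup.closure_le _).2 ?_
    intro x hx
    exact S.PP_le_M (hTP x hx)
  have hAinv : ∀ m ∈ M, ∀ a ∈ A, m * a * m⁻¹ ∈ A := by
    intro m hm a ha
    have hmap : A.map (MulAut.conj m).toMonoidHom ≤ A := by
      show (Subgroup.closure T).map _ ≤ _
      rw [MonoidHom.map_closure, Subgroup.closure_le]
      rintro _ ⟨x, hx, rfl⟩
      apply Subgroup.subset_closure
      rcases hx with ⟨m', hm', hx⟩ | hx
      · left
        refine ⟨m * m', M.mul_mem hm hm', ?_⟩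
        rw [cj_mul]
        exact conj_mem_cj hx
      · right
        exact (Subgroup.mem_normalizer_iff.1 hm x).1 hx
    exact hmap ⟨a, ha, rfl⟩
  have hAV : A = V := S.hmax A hVA hAM hAcomm hAinv
  -- B ≤ V
  have hBV : B ≤ V := by
    intro b hb
    rw [← hAV]
    apply Subgroup.subset_closure
    left
    exact ⟨1, M.one_mem, by rw [cj_one]; exact hb⟩
  have : B = V := Subgroup.eq_of_le_of_card_ge hBV (le_of_eq hcardB.symm)
  exact hB.2.2 this

end Cfsg.Agent.S1786P
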