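import Mathlib
import Cfsg.Agent.Helper12.S1786LAM2
import Cfsg.Agent.Helper12.S1786NONCOMM

/-! Board `s1786pieces`, rows SURJ, SURJP, PDC, PARTmem, PARTconj, PARTuniq. -/

set_option autoImplicit false

namespace Cfsg.Agent.S1786P

variable {G : Type*} [Group G] [Finite G] {V Q B C : Subgroup G}

/-- SURJ: `c ↦ [c, b]` maps `C` onto `V`. -/
theorem SURJ (S : Setup V Q) (hB : Lam V Q B) (hC : Lam V Q C) (hnc : ∃ b ∈ B, ∃ c ∈ C, b * c ≠ c * b) :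
    ∀ b ∈ B, b ≠ 1 → ∀ a ∈ V, ∃ c ∈ C, c * b * c⁻¹ * b⁻¹ = a := by
  intro b hb hb1 a ha
  have hCP := (LAM1 S hC).1
  have hcardC := (LAM1 S hC).2.2.1
  have hf : ∀ c ∈ C, c * b * c⁻¹ * b⁻¹ ∈ V := fun c hc => LAM2 S hB c (hCP hc) b hb
  let f : ↥C → ↥V := fun c => ⟨(c : G) * b * (c : G)⁻¹ * b⁻¹, hf c c.2⟩
  have hinj : Function.Injective f := by
    intro c c' h
    have h1 : (c : G) * b * (c : G)⁻¹ * b⁻¹ = (c' : G) * b * (c' : G)⁻¹ * b⁻¹ := congrArg Subtype.val h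
    have h2 : (c : G) * b * (c : G)⁻¹ = (c' : G) * b * (c' : G)⁻¹ := mul_right_cancel h1
    have h3 : b * ((c' : G)⁻¹ * c) = ((c' : G)⁻¹ * c) * b := by
      calc b * ((c' : G)⁻¹ * c) = (c' : G)⁻¹ * ((c' : G) * b * (c' : G)⁻¹) * c := by group
        _ = (c' : G)⁻¹ * ((c : G) * b * (c : G)⁻¹) * c := by rw [h2]
        _ = ((c' : G)⁻¹ * c) * b := by group
    have h4 : (c' : G)⁻¹ * c = 1 := by
      by_contra hne
      exact NCS S hB hC hnc b hb hb1 _ (C.mul_mem (C.inv_mem c'.2) c.2) hne h3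
    apply Subtype.ext
    calc (c : G) = (c' : G) * ((c' : G)⁻¹ * c) := by group
      _ = c' := by rw [h4, mul_one]
  have hbij : Function.Bijective f :=
    Function.Injective.bijective_of_nat_card_le hinj (le_of_eq hcardC.symm)
  obtain ⟨c, hc⟩ := hbij.2 ⟨a, ha⟩
  exact ⟨c, c.2, congrArg Subtype.val hc⟩

/-- SURJP: `x ↦ [x, b]` maps `P` onto `V`. -/
theorem SURJP (S : Setup V Q) (hB : Lam V Q B) : ∀ b ∈ B, b ≠ 1 → ∀ a ∈ V, ∃ x ∈ PP V Q, x * b * x⁻¹ * b⁻¹ = a := by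
  intro b hb hb1 a ha
  obtain ⟨C, hC, hnc⟩ := NONCOMM S hB
  obtain ⟨c, hc, h⟩ := SURJ S hB hC hnc b hb hb1 a ha
  exact ⟨c, (LAM1 S hC).1 hc, h⟩

/-- PDC: `P = D C`. -/
theorem PDC (S : Setup V Q) (hB : Lam V Q B) (hC : Lam V Q C) (hnc : ∃ b ∈ B, ∃ c ∈ C, b * c ≠ c * b) :
    ∀ x ∈ PP V Q, ∃ d ∈ DD V Q B, ∃ c ∈ C, x = d * c := by
  intro x hx
  obtain ⟨hBP, _, _, _, _, hBne⟩ := LAM1 S hB
  have hCP := (LAM1 S hC).1
  obtain ⟨b₀, hb₀, hb₀1⟩ : ∃ b ∈ B, b ≠ 1 := by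
    by_contra h
    push_neg at h
    exact hBne ((Subgroup.eq_bot_iff_forall B).2 h)
  have hxinv : x⁻¹ ∈ PP V Q := (PP V Q).inv_mem hx
  have ha : x⁻¹ * b₀ * x⁻¹⁻¹ * b₀⁻¹ ∈ V := LAM2 S hB x⁻¹ hxinv b₀ hb₀
  obtain ⟨c, hc, hcb⟩ := SURJ S hB hC hnc b₀ hb₀ hb₀1 _ ha
  have hcP : c ∈ PP V Q := hCP hc
  have hdP : x * c ∈ PP V Q := (PP V Q).mul_mem hx hcP
  have h1 : c * b₀ * c⁻¹ = x⁻¹ * b₀ * x⁻¹⁻¹ := mul_right_cancel hcb
  -- d := x c commutes with b₀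
  have h2 : (x * c) * b₀ = b₀ * (x * c) := by
    calc x * c * b₀ = x * (c * b₀ * c⁻¹) * c := by group
      _ = x * (x⁻¹ * b₀ * x⁻¹⁻¹) * c := by rw [h1]
      _ = b₀ * (x * c) := by group
  have hdD : x * c ∈ DD V Q B := mem_DD.2 ⟨hdP, LAM3 S hB _ hdP b₀ hb₀ hb₀1 h2⟩
  refine ⟨x * c, hdD, c⁻¹, C.inv_mem hc, by group⟩

/-- PARTmem: every element of `W ∖ V` lies in a `P`-conjugate of `B`. -/
theorem PARTmem (S : Setup V Q) (hB : Lam V Q B) : ∀ w ∈ V ⊔ B, w ∉ V → ∃ x ∈ PP V Q, w ∈ cj x B := by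
  intro w hw hwV
  obtain ⟨a, ha, b, hb, rfl⟩ := (WMEM S hB w).1 hw
  have hb1 : b ≠ 1 := by
    rintro rfl
    apply hwV
    rwa [mul_one]
  obtain ⟨x, hx, hxb⟩ := SURJP S hB b hb hb1 a ha
  refine ⟨x, hx, ?_⟩
  have : a * b = x * b * x⁻¹ := by rw [← hxb]; group
  rw [this]
  exact conj_mem_cj hb

/-- PARTconj: the conjugates of `V` inside `W` are `V` and the `P`-conjugates of `B`. -/
theorem PARTconj (S : Setup V Q) (hB : Lam V Q B) : ∀ U : Subgroup G, (∃ y : G, U = cj y V) → U ≤ V ⊔ B →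
    U = V ∨ ∃ x ∈ PP V Q, U = cj x B := by
  rintro U ⟨y, rfl⟩ hUW
  by_cases hUV : cj y V = V
  · exact Or.inl hUV
  right
  have hinf : cj y V ⊓ V = ⊥ := (S.ti y).resolve_left hUV
  obtain ⟨_, _, _, _, _, hBne⟩ := LAM1 S hB
  -- a nonidentity element of U
  have hUne : cj y V ≠ ⊥ := by
    intro h
    have hV : V = ⊥ := cj_eq_bot_iff.1 h
    apply hUV
    rw [hV, cj_bot]
  obtain ⟨u, huU, hu1⟩ : ∃ u ∈ cj y V, u ≠ 1 := by
    by_contra h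
    push_neg at h
    exact hUne ((Subgroup.eq_bot_iff_forall _).2 h)
  have huV : u ∉ V := by
    intro h
    have : u ∈ cj y V ⊓ V := Subgroup.mem_inf.2 ⟨huU, h⟩
    rw [hinf, Subgroup.mem_bot] at this
    exact hu1 this
  obtain ⟨x, hx, hux⟩ := PARTmem S hB u (hUW huU) huV
  refine ⟨x, hx, ?_⟩
  obtain ⟨⟨g, hBg⟩, _, _⟩ := hB
  have hcx : cj x B = cj (x * g) V := by rw [hBg, cj_mul]
  rcases TIC S y (x * g) with h | h
  · rw [h, hcx]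
  · exfalso
    have : u ∈ cj y V ⊓ cj (x * g) V := Subgroup.mem_inf.2 ⟨huU, by rw [← hcx]; exact hux⟩
    rw [h, Subgroup.mem_bot] at this
    exact hu1 this

/-- PARTuniq: part (b1) of the theorem. -/
theorem PARTuniq (S : Setup V Q) (hB : Lam V Q B) : ∀ w ∈ V ⊔ B, w ≠ 1 →
    ∃! U : Subgroup G, (∃ x : G, U = cj x V) ∧ U ≤ V ⊔ B ∧ w ∈ U := by
  intro w hw hw1
  have huniq : ∀ U U' : Subgroup G, (∃ x : G, U = cj x V) → (∃ x : G, U' = cj x V) → w ∈ U → w ∈ U' → U = U' := by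
    rintro U U' ⟨x, rfl⟩ ⟨x', rfl⟩ h h'
    rcases TIC S x x' with e | e
    · exact e
    · exfalso
      have : w ∈ cj x V ⊓ cj x' V := Subgroup.mem_inf.2 ⟨h, h'⟩
      rw [e, Subgroup.mem_bot] at this
      exact hw1 this
  by_cases hwV : w ∈ V
  · refine ⟨V, ⟨⟨1, (cj_one V).symm⟩, le_sup_left, hwV⟩, ?_⟩
    rintro U ⟨hU, _, hwU⟩
    exact huniq U V hU ⟨1, (cj_one V).symm⟩ hwU hwV
  · obtain ⟨x, hx, hwx⟩ := PARTmem S hB w hw hwV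
    obtain ⟨⟨g, hBg⟩, _, _⟩ := id hB
    have hcx : cj x B = cj (x * g) V := by rw [hBg, cj_mul]
    refine ⟨cj x B, ⟨⟨x * g, hcx⟩, PARTle S hB x hx, hwx⟩, ?_⟩
    rintro U ⟨hU, _, hwU⟩
    exact huniq U (cj x B) hU ⟨x * g, hcx⟩ hwU hwx

end Cfsg.Agent.S1786P
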