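import Mathlib
import Cfsg.Agent.Helper12.S1786SURJ

set_option autoImplicit false

/-! Board `s1786pieces`, row CARDPD. -/

namespace Cfsg.Agent.S1786P

variable {G : Type*} [Group G] [Finite G] {V Q B : Subgroup G}

/-- CARDPD: `|P| = |V| |D|`. -/
theorem CARDPD (S : Setup V Q) (hB : Lam V Q B) : Nat.card ↥(PP V Q) = Nat.card ↥V * Nat.card ↥(DD V Q B) := by
  classical
  obtain ⟨hBP, _, _, _, _, hBne⟩ := LAM1 S hB
  obtain ⟨b₀, hb₀, hb₀1⟩ : ∃ b ∈ B, b ≠ 1 := by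
    by_contra h
    push Not at h
    exact hBne ((Subgroup.eq_bot_iff_forall B).2 h)
  have hf : ∀ x ∈ PP V Q, x * b₀ * x⁻¹ * b₀⁻¹ ∈ V := fun x hx => LAM2 S hB x hx b₀ hb₀
  let φ : ↥(PP V Q) →* ↥V :=
    { toFun := fun x => ⟨(x : G) * b₀ * (x : G)⁻¹ * b₀⁻¹, hf x x.2⟩
      map_one' := by
        apply Subtype.ext
        show (1 : G) * b₀ * (1 : G)⁻¹ * b₀⁻¹ = 1
        group
      map_mul' := by
        intro x y
        apply Subtype.ext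
        show ((x : G) * y) * b₀ * ((x : G) * y)⁻¹ * b₀⁻¹ = ((x : G) * b₀ * (x : G)⁻¹ * b₀⁻¹) * ((y : G) * b₀ * (y : G)⁻¹ * b₀⁻¹)
        have hy := hf y y.2
        have hc : (x : G) * ((y : G) * b₀ * (y : G)⁻¹ * b₀⁻¹) = ((y : G) * b₀ * (y : G)⁻¹ * b₀⁻¹) * x :=
          (mem_PP.1 x.2).2 _ hy
        have hcomm := S.comm _ (hf x x.2) _ hy
        calc ((x : G) * y) * b₀ * ((x : G) * y)⁻¹ * b₀⁻¹
            = ((x : G) * ((y : G) * b₀ * (y : G)⁻¹ * b₀⁻¹)) * b₀ * (x : G)⁻¹ * b₀⁻¹ := by group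
          _ = (((y : G) * b₀ * (y : G)⁻¹ * b₀⁻¹) * x) * b₀ * (x : G)⁻¹ * b₀⁻¹ := by rw [hc]
          _ = ((y : G) * b₀ * (y : G)⁻¹ * b₀⁻¹) * ((x : G) * b₀ * (x : G)⁻¹ * b₀⁻¹) := by group
          _ = ((x : G) * b₀ * (x : G)⁻¹ * b₀⁻¹) * ((y : G) * b₀ * (y : G)⁻¹ * b₀⁻¹) := hcomm.symm }
  have hsurj : Function.Surjective φ := by
    rintro ⟨a, ha⟩
    obtain ⟨x, hx, hxa⟩ := SURJP S hB b₀ hb₀ hb₀1 a ha
    exact ⟨⟨x, hx⟩, Subtype.ext hxa⟩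
  have hker : φ.ker = (DD V Q B).subgroupOf (PP V Q) := by
    ext x
    rw [MonoidHom.mem_ker, Subgroup.mem_subgroupOf]
    constructor
    · intro h
      have h1 : (x : G) * b₀ * (x : G)⁻¹ * b₀⁻¹ = 1 := congrArg Subtype.val h
      have h2 : (x : G) * b₀ = b₀ * x := by
        calc (x : G) * b₀ = ((x : G) * b₀ * (x : G)⁻¹ * b₀⁻¹) * (b₀ * x) := by group
          _ = b₀ * x := by rw [h1, one_mul]
      exact mem_DD.2 ⟨x.2, LAM3 S hB x x.2 b₀ hb₀ hb₀1 h2⟩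
    · intro h
      have h2 := (mem_DD.1 h).2 b₀ hb₀
      apply Subtype.ext
      show (x : G) * b₀ * (x : G)⁻¹ * b₀⁻¹ = 1
      rw [h2]; group
  have h1 : Nat.card φ.ker * φ.ker.index = Nat.card ↥(PP V Q) := Subgroup.card_mul_index φ.ker
  rw [Subgroup.index_ker] at h1
  have hrange : Nat.card φ.range = Nat.card ↥V := by
    rw [MonoidHom.range_eq_top.2 hsurj]
    exact Nat.card_congr Subgroup.topEquiv.toEquiv
  have hkercard : Nat.card φ.ker = Nat.card ↥(DD V Q B) := by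
    rw [hker]
    exact Nat.card_congr (Subgroup.subgroupOfEquivOfLe (inf_le_left : DD V Q B ≤ PP V Q)).toEquiv
  rw [← h1, hkercard, hrange, mul_comm]

end Cfsg.Agent.S1786P
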