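import Mathlib
import Cfsg.Agent.Helper12.S1786TIC

set_option autoImplicit false

/-! Board `s1786pieces`, row CMP. -/

namespace Cfsg.Agent.S1786P

variable {G : Type*} [Group G] [Finite G] {V Q : Subgroup G}

/-- CMP: `C_M(P) ≤ V`. -/
theorem CMP (S : Setup V Q) : ∀ c ∈ Subgroup.normalizer (V : Set G), (∀ x ∈ PP V Q, c * x = x * c) → c ∈ V := by
  classical
  let M : Subgroup G := Subgroup.normalizer (V : Set G)
  -- X = C_M(P)
  let X : Subgroup G := M ⊓ Subgroup.centralizer ((PP V Q : Subgroup G) : Set G)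
  have hmemX : ∀ a : G, a ∈ X ↔ a ∈ M ∧ ∀ x ∈ PP V Q, a * x = x * a := by
    intro a
    show a ∈ M ⊓ Subgroup.centralizer ((PP V Q : Subgroup G) : Set G) ↔ _
    rw [Subgroup.mem_inf, Subgroup.mem_centralizer_iff]
    constructor
    · rintro ⟨h1, h2⟩; exact ⟨h1, fun z hz => (h2 z hz).symm⟩
    · rintro ⟨h1, h2⟩; exact ⟨h1, fun z hz => (h2 z hz).symm⟩
  -- X is normalized by M
  have hXconj : ∀ m ∈ M, ∀ a ∈ X, m * a * m⁻¹ ∈ X := by
    intro m hm a ha
    have hmP := S.M_le_normalizer_PP hm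
    have hmP' : m⁻¹ ∈ Subgroup.normalizer ((PP V Q : Subgroup G) : Set G) := inv_mem hmP
    rw [hmemX] at ha ⊢
    refine ⟨M.mul_mem (M.mul_mem hm ha.1) (M.inv_mem hm), fun x hx => ?_⟩
    have hx' : m⁻¹ * x * m ∈ PP V Q := by
      have := (Subgroup.mem_normalizer_iff.1 hmP' x).1 hx
      rwa [inv_inv] at this
    have h1 := ha.2 _ hx'
    calc m * a * m⁻¹ * x = m * (a * (m⁻¹ * x * m)) * m⁻¹ := by group
      _ = m * ((m⁻¹ * x * m) * a) * m⁻¹ := by rw [h1]
      _ = x * (m * a * m⁻¹) := by group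
  -- X ∩ Q ≤ V
  have hXQ : ∀ a ∈ X, a ∈ Q → a ∈ V := by
    intro a ha haQ
    have ha' := (hmemX a).1 ha
    have haP : a ∈ PP V Q := mem_PP.2 ⟨haQ, fun v hv => ha'.2 v (S.V_le_PP hv)⟩
    exact ZP S a haP ha'.2
  -- [X, Q] ≤ V
  have hcomm : ∀ a ∈ X, ∀ r ∈ Q, a * r * a⁻¹ * r⁻¹ ∈ V := by
    intro a ha r hr
    have haM : a ∈ M := ((hmemX a).1 ha).1
    have hrM : r ∈ M := S.QM hr
    apply hXQ
    · have h1 : r * a⁻¹ * r⁻¹ ∈ X := hXconj r hrM a⁻¹ (X.inv_mem ha)
      have : a * r * a⁻¹ * r⁻¹ = a * (r * a⁻¹ * r⁻¹) := by group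
      rw [this]
      exact X.mul_mem ha h1
    · have h1 : a * r * a⁻¹ ∈ Q := (Subgroup.mem_normalizer_iff.1 (S.MQ haM) r).1 hr
      exact Q.mul_mem h1 (Q.inv_mem hr)
  -- a² centralizes Q, so a² ∈ V
  have hsq : ∀ a ∈ X, a * a ∈ V := by
    intro a ha
    have ha' := (hmemX a).1 ha
    have haa : a * a ∈ X := X.mul_mem ha ha
    apply hXQ _ haa
    apply S.cent _ ((hmemX _).1 haa).1
    intro r hr
    set v := a * r * a⁻¹ * r⁻¹ with hv
    have hvV : v ∈ V := hcomm a ha r hr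
    have h1 : a * r * a⁻¹ = v * r := by rw [hv]; group
    have hav : a * v = v * a := ha'.2 v (S.V_le_PP hvV)
    have h2 : a * a * r * (a * a)⁻¹ = r := by
      calc a * a * r * (a * a)⁻¹ = a * (a * r * a⁻¹) * a⁻¹ := by group
        _ = a * (v * r) * a⁻¹ := by rw [h1]
        _ = (a * v) * r * a⁻¹ := by group
        _ = (v * a) * r * a⁻¹ := by rw [hav]
        _ = v * (a * r * a⁻¹) := by group
        _ = v * (v * r) := by rw [h1]
        _ = (v * v) * r := by group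
        _ = r := by rw [S.sq v hvV, one_mul]
    calc a * a * r = (a * a * r * (a * a)⁻¹) * (a * a) := by group
      _ = r * (a * a) := by rw [h2]
  -- X is a 2-group
  have hXp : IsPGroup 2 ↥X := by
    intro a
    refine ⟨2, ?_⟩
    apply Subtype.ext
    have h1 : (a : G) * a ∈ V := hsq a a.2
    have h2 : ((a : G) * a) * ((a : G) * a) = 1 := S.sq _ h1
    have : ((a ^ 2 ^ 2 : ↥X) : G) = ((a : G) * a) * ((a : G) * a) := by
      push_cast
      rw [pow_succ, pow_succ, pow_succ, pow_one]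
      group
    rw [this, h2]; rfl
  -- X ≤ Q
  have hXM : X ≤ M := inf_le_left
  have hMX : M ≤ Subgroup.normalizer (X : Set G) := by
    intro m hm
    rw [Subgroup.mem_normalizer_iff]
    intro a
    constructor
    · exact hXconj m hm a
    · intro h
      have := hXconj m⁻¹ (M.inv_mem hm) _ h
      have e : m⁻¹ * (m * a * m⁻¹) * m⁻¹⁻¹ = a := by group
      rwa [e] at this
  have hXleQ : X ≤ Q := S.core X hXp hXM hMX
  intro c hcM hc
  have hcX : c ∈ X := (hmemX c).2 ⟨hcM, hc⟩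
  exact hXQ c hcX (hXleQ hcX)

end Cfsg.Agent.S1786P
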