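import Mathlib
import Cfsg.Agent.Helper12.S1786SURJ

/-! Board `s1786pieces`, row ZD. -/

set_option autoImplicit false

namespace Cfsg.Agent.S1786P

variable {G : Type*} [Group G] [Finite G] {V Q B C : Subgroup G}

omit [Finite G] in
/-- bilinearity helper: in a group, if `[x,b]` and `[c,b]` (written out) are equal then `c⁻¹ x` ... -/
theorem ZD_aux_comm_of_eq {x c b : G} (h : x * b * x⁻¹ * b⁻¹ = c * b * c⁻¹ * b⁻¹) :
    (c⁻¹ * x) * b = b * (c⁻¹ * x) := by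
  have h1 : x * b * x⁻¹ = c * b * c⁻¹ := by
    have := congrArg (· * b) h
    simpa using this
  calc c⁻¹ * x * b = c⁻¹ * (x * b * x⁻¹) * x := by group
    _ = c⁻¹ * (c * b * c⁻¹) * x := by rw [h1]
    _ = b * (c⁻¹ * x) := by group

/-- ZD: `C_P(D) ≤ W`. -/
theorem ZD (S : Setup V Q) (hB : Lam V Q B) : ∀ z ∈ PP V Q, (∀ d ∈ DD V Q B, z * d = d * z) → z ∈ V ⊔ B := by
  intro z hzP hzD
  obtain ⟨C, hC, hnc⟩ := NONCOMM S hB
  obtain ⟨hBP, hVB, hcardB, hBcomm, hBsq, hBne⟩ := LAM1 S hB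
  obtain ⟨hCP, hVC, hcardC, hCcomm, hCsq, hCne⟩ := LAM1 S hC
  -- a nonidentity element of C
  obtain ⟨c₂, hc₂C, hc₂1⟩ : ∃ c ∈ C, c ≠ 1 := by
    by_contra h
    push Not at h
    exact hCne ((Subgroup.eq_bot_iff_forall C).2 h)
  -- symmetric form of hnc
  have hnc' : ∃ c ∈ C, ∃ b ∈ B, c * b ≠ b * c := by
    obtain ⟨b, hb, c, hc, h⟩ := hnc
    exact ⟨c, hc, b, hb, fun h' => h h'.symm⟩
  have hc₂P : c₂ ∈ PP V Q := hCP hc₂C
  -- the commutator of z with c₂ lies in V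
  have ha : z * c₂ * z⁻¹ * c₂⁻¹ ∈ V := (PHI S z hzP c₂ hc₂P).1
  obtain ⟨b, hbB, hb⟩ := SURJ S hC hB hnc' c₂ hc₂C hc₂1 _ ha
  -- z' = b⁻¹ z commutes with c₂
  have hcomm : (b⁻¹ * z) * c₂ = c₂ * (b⁻¹ * z) := ZD_aux_comm_of_eq hb.symm
  have hbP : b ∈ PP V Q := hBP hbB
  have hz'P : b⁻¹ * z ∈ PP V Q := (PP V Q).mul_mem ((PP V Q).inv_mem hbP) hzP
  -- b ∈ D
  have hbD : b ∈ DD V Q B := mem_DD.2 ⟨hbP, fun b' hb' => hBcomm b hbB b' hb'⟩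
  -- z' commutes with all of C
  have hz'C : ∀ c ∈ C, (b⁻¹ * z) * c = c * (b⁻¹ * z) := LAM3 S hC _ hz'P c₂ hc₂C hc₂1 hcomm
  -- z' commutes with D
  have hz'D : ∀ d ∈ DD V Q B, (b⁻¹ * z) * d = d * (b⁻¹ * z) := by
    intro d hd
    have h1 : b * d = d * b := ((mem_DD.1 hd).2 b hbB).symm
    have h1' : b⁻¹ * d = d * b⁻¹ := by
      calc b⁻¹ * d = b⁻¹ * (d * b) * b⁻¹ := by group
        _ = b⁻¹ * (b * d) * b⁻¹ := by rw [h1]
        _ = d * b⁻¹ := by group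
    calc b⁻¹ * z * d = b⁻¹ * (z * d) := by group
      _ = b⁻¹ * (d * z) := by rw [hzD d hd]
      _ = (b⁻¹ * d) * z := by group
      _ = d * b⁻¹ * z := by rw [h1']
      _ = d * (b⁻¹ * z) := by group
  -- z' central in P
  have hz'Z : ∀ x ∈ PP V Q, (b⁻¹ * z) * x = x * (b⁻¹ * z) := by
    intro x hx
    obtain ⟨d, hd, c, hc, rfl⟩ := PDC S hB hC hnc x hx
    calc b⁻¹ * z * (d * c) = (b⁻¹ * z * d) * c := by group
      _ = d * (b⁻¹ * z) * c := by rw [hz'D d hd]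
      _ = d * ((b⁻¹ * z) * c) := by group
      _ = d * (c * (b⁻¹ * z)) := by rw [hz'C c hc]
      _ = d * c * (b⁻¹ * z) := by group
  have hz'V : b⁻¹ * z ∈ V := ZP S _ hz'P hz'Z
  have : z = b * (b⁻¹ * z) := by group
  rw [this]
  exact (V ⊔ B).mul_mem (Subgroup.mem_sup_right hbB) (Subgroup.mem_sup_left hz'V)

end Cfsg.Agent.S1786P
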