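import Mathlib
import Cfsg.Agent.Helper12.S1786ZD
import Cfsg.Agent.Helper12.S1786CMP

/-! Board `s1786pieces`, row CGD (`C_G(C_P(B)) ≤ V ⊔ B`, the key of part (a)). -/

set_option autoImplicit false

namespace Cfsg.Agent.S1786P

variable {G : Type*} [Group G] [Finite G] {V Q B C : Subgroup G}

/-- local copy of row STAB (so that CGD does not wait for it) -/
theorem CGD_aux_stab (S : Setup V Q) : ∀ t ∈ Subgroup.normalizer (V : Set G), (∀ v ∈ V, t * v = v * t) →
    (∀ x ∈ PP V Q, t * x * t⁻¹ * x⁻¹ ∈ V) → t ∈ PP V Q := by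
  classical
  let M : Subgroup G := Subgroup.normalizer (V : Set G)
  let K : Subgroup G :=
    { carrier := {t | t ∈ M ∧ (∀ v ∈ V, t * v = v * t) ∧ ∀ x ∈ PP V Q, t * x * t⁻¹ * x⁻¹ ∈ V}
      one_mem' := ⟨M.one_mem, fun v _ => by simp, fun x _ => by simp⟩
      mul_mem' := by
        rintro t s ⟨htM, htV, htP⟩ ⟨hsM, hsV, hsP⟩
        refine ⟨M.mul_mem htM hsM, fun v hv => ?_, fun x hx => ?_⟩
        · calc t * s * v = t * (s * v) := by group
            _ = t * (v * s) := by rw [hsV v hv]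
            _ = (t * v) * s := by group
            _ = (v * t) * s := by rw [htV v hv]
            _ = v * (t * s) := by group
        · have h1 := hsP x hx
          have h2 := htP x hx
          have h3 : t * (s * x * s⁻¹ * x⁻¹) = (s * x * s⁻¹ * x⁻¹) * t := htV _ h1
          have : t * s * x * (t * s)⁻¹ * x⁻¹ = (s * x * s⁻¹ * x⁻¹) * (t * x * t⁻¹ * x⁻¹) := by
            calc t * s * x * (t * s)⁻¹ * x⁻¹ = (t * (s * x * s⁻¹ * x⁻¹)) * x * t⁻¹ * x⁻¹ := by group
              _ = ((s * x * s⁻¹ * x⁻¹) * t) * x * t⁻¹ * x⁻¹ := by rw [h3]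
              _ = (s * x * s⁻¹ * x⁻¹) * (t * x * t⁻¹ * x⁻¹) := by group
          rw [this]
          exact V.mul_mem h1 h2
      inv_mem' := by
        rintro t ⟨htM, htV, htP⟩
        have htV' : ∀ v ∈ V, t⁻¹ * v = v * t⁻¹ := by
          intro v hv
          calc t⁻¹ * v = t⁻¹ * (v * t) * t⁻¹ := by group
            _ = t⁻¹ * (t * v) * t⁻¹ := by rw [htV v hv]
            _ = v * t⁻¹ := by group
        refine ⟨M.inv_mem htM, htV', fun x hx => ?_⟩
        have h1 := htP x hx
        have h3 := htV' _ (V.inv_mem h1)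
        have : t⁻¹ * x * t⁻¹⁻¹ * x⁻¹ = (t * x * t⁻¹ * x⁻¹)⁻¹ := by
          calc t⁻¹ * x * t⁻¹⁻¹ * x⁻¹ = (t⁻¹ * (t * x * t⁻¹ * x⁻¹)⁻¹) * t := by group
            _ = ((t * x * t⁻¹ * x⁻¹)⁻¹ * t⁻¹) * t := by rw [h3]
            _ = (t * x * t⁻¹ * x⁻¹)⁻¹ := by group
        rw [this]
        exact V.inv_mem h1 }
  have hmemK : ∀ t : G, t ∈ K ↔ t ∈ M ∧ (∀ v ∈ V, t * v = v * t) ∧ ∀ x ∈ PP V Q, t * x * t⁻¹ * x⁻¹ ∈ V :=
    fun t => Iff.rfl
  -- K normalized by M
  have hKconj : ∀ m ∈ M, ∀ t ∈ K, m * t * m⁻¹ ∈ K := by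
    intro m hm t ht
    obtain ⟨htM, htV, htP⟩ := ht
    have hmP := S.M_le_normalizer_PP hm
    have hmP' : m⁻¹ ∈ Subgroup.normalizer ((PP V Q : Subgroup G) : Set G) := inv_mem hmP
    have hm' : m⁻¹ ∈ M := M.inv_mem hm
    refine ⟨M.mul_mem (M.mul_mem hm htM) hm', fun v hv => ?_, fun x hx => ?_⟩
    · have hv' : m⁻¹ * v * m ∈ V := by
        have := (Subgroup.mem_normalizer_iff.1 hm' v).1 hv
        rwa [inv_inv] at this
      have h1 := htV _ hv'
      calc m * t * m⁻¹ * v = m * (t * (m⁻¹ * v * m)) * m⁻¹ := by group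
        _ = m * ((m⁻¹ * v * m) * t) * m⁻¹ := by rw [h1]
        _ = v * (m * t * m⁻¹) := by group
    · have hx' : m⁻¹ * x * m ∈ PP V Q := by
        have := (Subgroup.mem_normalizer_iff.1 hmP' x).1 hx
        rwa [inv_inv] at this
      have h1 := htP _ hx'
      have h2 := (Subgroup.mem_normalizer_iff.1 hm _).1 h1
      have : m * t * m⁻¹ * x * (m * t * m⁻¹)⁻¹ * x⁻¹ = m * (t * (m⁻¹ * x * m) * t⁻¹ * (m⁻¹ * x * m)⁻¹) * m⁻¹ := by
        group
      rw [this]; exact h2
  -- t² ∈ V for t ∈ K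
  have hsq : ∀ t ∈ K, t * t ∈ V := by
    intro t ht
    obtain ⟨htM, htV, htP⟩ := ht
    apply CMP S _ (M.mul_mem htM htM)
    intro x hx
    set v := t * x * t⁻¹ * x⁻¹ with hv
    have hvV : v ∈ V := htP x hx
    have h1 : t * x * t⁻¹ = v * x := by rw [hv]; group
    have h2 : t * t * x * (t * t)⁻¹ = x := by
      calc t * t * x * (t * t)⁻¹ = t * (t * x * t⁻¹) * t⁻¹ := by group
        _ = t * (v * x) * t⁻¹ := by rw [h1]
        _ = (t * v) * x * t⁻¹ := by group
        _ = (v * t) * x * t⁻¹ := by rw [htV v hvV]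
        _ = v * (t * x * t⁻¹) := by group
        _ = v * (v * x) := by rw [h1]
        _ = (v * v) * x := by group
        _ = x := by rw [S.sq v hvV, one_mul]
    calc t * t * x = (t * t * x * (t * t)⁻¹) * (t * t) := by group
      _ = x * (t * t) := by rw [h2]
  have hKp : IsPGroup 2 ↥K := by
    intro a
    refine ⟨2, ?_⟩
    apply Subtype.ext
    have h1 : (a : G) * a ∈ V := hsq a a.2
    have h2 : ((a : G) * a) * ((a : G) * a) = 1 := S.sq _ h1
    have : ((a ^ 2 ^ 2 : ↥K) : G) = ((a : G) * a) * ((a : G) * a) := by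
      push_cast
      rw [pow_succ, pow_succ, pow_succ, pow_one]
      group
    rw [this, h2]; rfl
  have hKM : K ≤ M := fun t ht => ht.1
  have hMK : M ≤ Subgroup.normalizer (K : Set G) := by
    intro m hm
    rw [Subgroup.mem_normalizer_iff]
    intro a
    constructor
    · exact hKconj m hm a
    · intro h
      have := hKconj m⁻¹ (M.inv_mem hm) _ h
      have e : m⁻¹ * (m * a * m⁻¹) * m⁻¹⁻¹ = a := by group
      rwa [e] at this
  have hKQ : K ≤ Q := S.core K hKp hKM hMK
  intro t htM htV htP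
  have htK : t ∈ K := ⟨htM, htV, htP⟩
  exact mem_PP.2 ⟨hKQ htK, htV⟩


omit [Finite G] in
/-- an element commuting with every element of `V` normalizes `V` -/
theorem CGD_aux_mem_normalizer {t : G} (ht : ∀ v ∈ V, t * v = v * t) : t ∈ Subgroup.normalizer (V : Set G) := by
  rw [Subgroup.mem_normalizer_iff]
  intro v
  constructor
  · intro hv
    have : t * v * t⁻¹ = v := by rw [ht v hv]; group
    rw [this]; exact hv
  · intro hv
    have h1 := ht _ hv
    have h2 : v = t * v * t⁻¹ := by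
      calc v = t⁻¹ * ((t * v * t⁻¹) * t) := by group
        _ = t⁻¹ * (t * (t * v * t⁻¹)) := by rw [h1]
        _ = t * v * t⁻¹ := by group
    rw [h2]; exact hv

/-- CGD: `C_G(D) ≤ W`. -/
theorem CGD (S : Setup V Q) (hB : Lam V Q B) : ∀ t : G, (∀ d ∈ DD V Q B, t * d = d * t) → t ∈ V ⊔ B := by
  intro t htD
  obtain ⟨C, hC, hnc⟩ := NONCOMM S hB
  obtain ⟨hBP, hVB, hcardB, hBcomm, hBsq, hBne⟩ := LAM1 S hB
  obtain ⟨hCP, hVC, hcardC, hCcomm, hCsq, hCne⟩ := LAM1 S hC
  have hVP : V ≤ PP V Q := S.V_le_PP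
  -- V ≤ D, B ≤ D
  have hVD : V ≤ DD V Q B := by
    intro v hv
    refine mem_DD.2 ⟨hVP hv, fun b hb => ?_⟩
    exact ((mem_PP.1 (hBP hb)).2 v hv).symm
  have hBD : B ≤ DD V Q B := fun b hb => mem_DD.2 ⟨hBP hb, fun b' hb' => hBcomm b hb b' hb'⟩
  have htV : ∀ v ∈ V, t * v = v * t := fun v hv => htD v (hVD hv)
  have htB : ∀ b ∈ B, t * b = b * t := fun b hb => htD b (hBD hb)
  have htM : t ∈ Subgroup.normalizer (V : Set G) := CGD_aux_mem_normalizer htV
  have htNP := S.M_le_normalizer_PP htM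
  have hconjP : ∀ x ∈ PP V Q, t * x * t⁻¹ ∈ PP V Q := fun x hx => (Subgroup.mem_normalizer_iff.1 htNP x).1 hx
  -- W is elementary abelian: elements of W square to one and commute
  have hWmem := WMEM S hB
  -- key: for c ∈ C, t c t⁻¹ c⁻¹ ∈ V
  have key : ∀ c ∈ C, t * c * t⁻¹ * c⁻¹ ∈ V := by
    intro c hcC
    by_cases hc1 : c = 1
    · subst hc1; simp
    have hcP : c ∈ PP V Q := hCP hcC
    set c' := t * c * t⁻¹ with hc'
    have hc'P : c' ∈ PP V Q := hconjP c hcP
    set u := c⁻¹ * c' with hu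
    have huP : u ∈ PP V Q := (PP V Q).mul_mem ((PP V Q).inv_mem hcP) hc'P
    -- u commutes with D
    have huD : ∀ d ∈ DD V Q B, u * d = d * u := by
      intro d hd
      have h1 : c * d * c⁻¹ ∈ DD V Q B := DNORM S hB c hcP d hd
      have h2 := htD _ h1
      -- t (c d c⁻¹) t⁻¹ = c d c⁻¹
      have h3 : t * (c * d * c⁻¹) * t⁻¹ = c * d * c⁻¹ := by rw [h2]; group
      have h4 : t * d * t⁻¹ = d := by rw [htD d hd]; group
      have h5 : c' * d * c'⁻¹ = c * d * c⁻¹ := by
        rw [← h3, hc']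
        calc t * c * t⁻¹ * d * (t * c * t⁻¹)⁻¹ = t * c * (t⁻¹ * d * t) * c⁻¹ * t⁻¹ := by group
          _ = t * c * d * c⁻¹ * t⁻¹ := by
              have : t⁻¹ * d * t = d := by
                calc t⁻¹ * d * t = t⁻¹ * (d * t) := by group
                  _ = t⁻¹ * (t * d) := by rw [htD d hd]
                  _ = d := by group
              rw [this]
          _ = t * (c * d * c⁻¹) * t⁻¹ := by group
      calc u * d = c⁻¹ * (c' * d * c'⁻¹) * c' := by rw [hu]; group
        _ = c⁻¹ * (c * d * c⁻¹) * c' := by rw [h5]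
        _ = d * u := by rw [hu]; group
    have huW : u ∈ V ⊔ B := ZD S hB u huP huD
    obtain ⟨a, haV, b, hbB, hab⟩ := (hWmem u).1 huW
    -- c'² = c²
    have hcsq : c * c ∈ V := (PHI S c hcP c hcP).2
    have h6 : c' * c' = c * c := by
      have : c' * c' = t * (c * c) * t⁻¹ := by rw [hc']; group
      rw [this, htV _ hcsq]; group
    -- c' = c u
    have h7 : c' = c * u := by rw [hu]; group
    -- u c u = c
    have h8 : u * c * u = c := by
      have : c * u * (c * u) = c * c := by rw [← h7]; exact h6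
      have h9 : c * (u * c * u) = c * c := by rw [← this]; group
      exact mul_left_cancel h9
    -- u² = 1
    have haP : a ∈ PP V Q := hVP haV
    have hbP : b ∈ PP V Q := hBP hbB
    have hab_comm : a * b = b * a := ((mem_PP.1 hbP).2 a haV).symm
    have husq : u * u = 1 := by
      rw [hab]
      calc a * b * (a * b) = a * (b * a) * b := by group
        _ = a * (a * b) * b := by rw [hab_comm]
        _ = (a * a) * (b * b) := by group
        _ = 1 := by rw [S.sq a haV, hBsq b hbB, one_mul]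
    -- c u = u c
    have h10 : c * u = u * c := by
      have : u * (u * c * u) = u * c := by rw [h8]
      have h11 : u * (u * c * u) = (u * u) * c * u := by group
      rw [h11, husq, one_mul] at this
      exact this
    -- c commutes with b
    have hca : c * a = a * c := (mem_PP.1 hcP).2 a haV
    have hcb : b * c = c * b := by
      rw [hab] at h10
      -- c a b = a b c ; c a = a c ⇒ a c b = a b c ⇒ c b = b c
      have : a * (c * b) = a * (b * c) := by
        calc a * (c * b) = (a * c) * b := by group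
          _ = (c * a) * b := by rw [hca]
          _ = c * (a * b) := by group
          _ = a * b * c := h10
          _ = a * (b * c) := by group
      exact (mul_left_cancel this).symm
    -- hence b = 1
    have hb1 : b = 1 := by
      by_contra hb1
      exact NCS S hB hC hnc b hbB hb1 c hcC hc1 hcb
    -- so u = a and t c t⁻¹ c⁻¹ = c a c⁻¹ = a
    have hua : u = a := by rw [hab, hb1, mul_one]
    have : t * c * t⁻¹ * c⁻¹ = c * u * c⁻¹ := by rw [← h7]
    rw [this, hua]
    have : c * a * c⁻¹ = a := by rw [hca]; group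
    rw [this]; exact haV
  -- t x t⁻¹ x⁻¹ ∈ V for all x ∈ P
  have hall : ∀ x ∈ PP V Q, t * x * t⁻¹ * x⁻¹ ∈ V := by
    intro x hx
    obtain ⟨d, hd, c, hc, rfl⟩ := PDC S hB hC hnc x hx
    have h1 := key c hc
    have hdP : d ∈ PP V Q := (mem_DD.1 hd).1
    have h2 : t * (d * c) * t⁻¹ * (d * c)⁻¹ = d * (t * c * t⁻¹ * c⁻¹) * d⁻¹ := by
      have h4 : t * d * t⁻¹ = d := by rw [htD d hd]; group
      calc t * (d * c) * t⁻¹ * (d * c)⁻¹ = (t * d * t⁻¹) * (t * c * t⁻¹ * c⁻¹) * d⁻¹ := by group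
        _ = d * (t * c * t⁻¹ * c⁻¹) * d⁻¹ := by rw [h4]
    rw [h2]
    have h3 : d * (t * c * t⁻¹ * c⁻¹) = (t * c * t⁻¹ * c⁻¹) * d := (mem_PP.1 hdP).2 _ h1
    rw [h3]
    have : t * c * t⁻¹ * c⁻¹ * d * d⁻¹ = t * c * t⁻¹ * c⁻¹ := by group
    rw [this]; exact h1
  have htP : t ∈ PP V Q := CGD_aux_stab S t htM htV hall
  exact ZD S hB t htP htD

end Cfsg.Agent.S1786P
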