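import Mathlib
import Cfsg.Agent.Helper12.S1786CGD
import Cfsg.Agent.Helper11.S1786SYLcore
import Cfsg.Agent.Helper23.S1786CONJP
import Cfsg.Agent.Helper10.S1786MIRRORcore

/-! Board `s1786pieces`, rows PARTA, HNORM (they use `SYL_core` and `MIRROR_core` directly). -/

set_option autoImplicit false

namespace Cfsg.Agent.S1786P

variable {G : Type*} [Group G] [Finite G] {V Q B C : Subgroup G}

/-- PARTA: part (a) of the theorem. -/
theorem PARTA (S : Setup V Q) (g : G) (hB : Lam V Q (cj g V)) : V ≤ cj g Q := by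
  obtain ⟨s, hsW, hsV⟩ := SYL_core S g hB (CGD S hB) (CONJP S g) (PARTuniq S hB)
  obtain ⟨hBP, _, _, _, _, _⟩ := LAM1 S hB
  have hWP : V ⊔ cj g V ≤ PP V Q := sup_le S.V_le_PP hBP
  have hWQ : V ⊔ cj g V ≤ Q := hWP.trans (PP_le_Q V Q)
  have hsW' : s⁻¹ ∈ Subgroup.normalizer ((V ⊔ cj g V : Subgroup G) : Set G) := inv_mem hsW
  -- cj s⁻¹ V ≤ W ≤ Q, so V ≤ cj s Q
  have h1 : cj s⁻¹ V ≤ V ⊔ cj g V := by
    have : cj s⁻¹ V ≤ cj s⁻¹ (V ⊔ cj g V) := cj_mono le_sup_left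
    rwa [cj_of_mem_normalizer hsW'] at this
  have h2 : V ≤ cj s Q := by
    have : cj s⁻¹ V ≤ Q := h1.trans hWQ
    have := cj_le_iff.1 this
    rwa [inv_inv] at this
  -- C := cj s V ≤ W, ≠ V
  have h3 : cj s V ≤ V ⊔ cj g V := by
    have : cj s V ≤ cj s (V ⊔ cj g V) := cj_mono le_sup_left
    rwa [cj_of_mem_normalizer hsW] at this
  rcases PARTconj S hB (cj s V) ⟨s, rfl⟩ h3 with h | ⟨x, hx, h⟩
  · exact absurd h hsV
  -- cj s V = cj x (cj g V) = cj (x g) V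
  have h4 : cj s V = cj (x * g) V := by rw [h, cj_mul]
  -- (x g)⁻¹ s ∈ M
  have h5 : cj ((x * g)⁻¹ * s) V = V := by
    rw [cj_mul, h4, cj_inv_cj]
  have h6 : (x * g)⁻¹ * s ∈ Subgroup.normalizer (V : Set G) := mem_normalizer_iff_cj.2 h5
  have h7 : cj ((x * g)⁻¹ * s) Q = Q := cj_of_mem_normalizer (S.MQ h6)
  have h8 : cj s Q = cj (x * g) Q := by
    have := congrArg (cj (x * g)) h7
    rwa [← cj_mul, mul_inv_cancel_left] at this
  -- V ≤ cj x (cj g Q)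
  rw [h8, cj_mul] at h2
  have h9 : cj x⁻¹ V ≤ cj g Q := by
    have := cj_le_iff.2 (by rwa [inv_inv] : V ≤ cj x⁻¹⁻¹ (cj g Q))
    exact this
  have h10 : cj x⁻¹ V = V :=
    cj_of_mem_normalizer (S.PP_le_M ((PP V Q).inv_mem hx))
  rwa [h10] at h9

/-- HNORM: part (b2) of the theorem. -/
theorem HNORM (S : Setup V Q) (g : G) (hB : Lam V Q (cj g V)) :
    PP V Q ⊔ cj g (PP V Q) ≤ Subgroup.normalizer ((V ⊔ cj g V : Subgroup G) : Set G) := by
  have hM := MIRROR_core S g hB (PARTA S g hB)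
  -- P normalizes V ⊔ B for any B ∈ Λ
  have key : ∀ B : Subgroup G, Lam V Q B → PP V Q ≤ Subgroup.normalizer ((V ⊔ B : Subgroup G) : Set G) := by
    intro B hB x hx
    apply mem_normalizer_of_cj_le
    rw [cj_sup]
    refine sup_le ?_ (PARTle S hB x hx)
    rw [cj_of_mem_normalizer (S.PP_le_M hx)]
    exact le_sup_left
  refine sup_le (key _ hB) ?_
  -- conjugate of key for B₋
  have h1 := key _ hM
  have h2 : cj g (PP V Q) ≤ cj g (Subgroup.normalizer ((V ⊔ cj g⁻¹ V : Subgroup G) : Set G)) := cj_mono h1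
  rw [← cj_normalizer, cj_sup, cj_cj_inv, sup_comm] at h2
  exact h2

end Cfsg.Agent.S1786P
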