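import Cfsg.Agent.Helper8.S1906CONJ
import Cfsg.Agent.Helper8.S1906CM

/-! # Board `s1906pieces`, row D1 -/

set_option autoImplicit false

namespace Cfsg.Agent.S1906P

variable {F : Type*} [Field F]

/-- a diagonal matrix with the given entries, written as `!![...]` -/
theorem D1_aux_diag (M : Matrix (Fin 3) (Fin 3) F) (h : ∀ i j : Fin 3, i ≠ j → M i j = 0) :
    M = !![M 0 0, 0, 0; 0, M 1 1, 0; 0, 0, M 2 2] := by
  ext i j
  fin_cases i <;> fin_cases j <;> simp [h]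

/-- products of sign matrices -/
theorem D1_aux_mul (x y z x' y' z' : F) :
    (!![x, 0, 0; 0, y, 0; 0, 0, z] : Matrix (Fin 3) (Fin 3) F) * !![x', 0, 0; 0, y', 0; 0, 0, z'] =
      !![x * x', 0, 0; 0, y * y', 0; 0, 0, z * z'] := by
  ext i j
  fin_cases i <;> fin_cases j <;> simp [Matrix.mul_apply, Fin.sum_univ_three]

theorem D1_aux_neg_one : (!![-1, 0, 0; 0, -1, 0; 0, 0, -1] : Matrix (Fin 3) (Fin 3) F) = -1 := by
  ext i j
  fin_cases i <;> fin_cases j <;> simp

theorem D1_aux_one : (!![1, 0, 0; 0, 1, 0; 0, 0, 1] : Matrix (Fin 3) (Fin 3) F) = 1 := by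
  ext i j
  fin_cases i <;> fin_cases j <;> simp

theorem D1_aux_pair_le {α : Type*} (a b : α) : Set.ncard ({a, b} : Set α) ≤ 2 :=
  (Set.ncard_insert_le a {b}).trans (by rw [Set.ncard_singleton])

/-- core of D1 for an abstract elementary abelian group of order 8 -/
theorem D1_aux_core {T : Type*} [Group T] (h2 : (2 : F) ≠ 0) (φ : T →* GL (Fin 3) F) (hφ : Function.Injective φ)
    (hc : ∀ a b : T, a * b = b * a) (hsq : ∀ a : T, a * a = 1) (h8 : Nat.card T = 8) :
    ∃ e : T, ((φ e : GL (Fin 3) F) : Matrix (Fin 3) (Fin 3) F) = -1 := by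
  classical
  have hfin : Finite T := Nat.finite_of_card_ne_zero (by rw [h8]; norm_num)
  set δ : T →* Fˣ := Matrix.GeneralLinearGroup.det.comp φ with hδ
  have hδ2 : ∀ x : T, δ x = 1 ∨ δ x = -1 := by
    intro x
    have h1 : δ x * δ x = 1 := by rw [← map_mul, hsq, map_one]
    have h3 : ((δ x : Fˣ) : F) * ((δ x : Fˣ) : F) = 1 := by
      rw [← Units.val_mul, h1, Units.val_one]
    rcases mul_self_eq_one_iff.1 h3 with h | h
    · left; exact Units.ext h
    · right; apply Units.ext; rw [h]; simp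
  -- the kernel of `δ` has at least 4 elements
  have hK : 4 ≤ Nat.card ↥δ.ker := by
    have h1 := δ.ker.card_mul_index
    rw [Subgroup.index_ker, h8] at h1
    have hfr : Finite ↥δ.range := Finite.of_surjective δ.rangeRestrict δ.rangeRestrict_surjective
    have h3 : Nat.card ↥δ.range ≤ 2 := by
      have hsub : (δ.range : Set Fˣ) ⊆ ({1, -1} : Set Fˣ) := by
        rintro _ ⟨x, rfl⟩
        rcases hδ2 x with h | h
        · left; exact h
        · right; exact h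
      calc Nat.card ↥δ.range = Set.ncard (δ.range : Set Fˣ) := Nat.card_coe_set_eq _
        _ ≤ Set.ncard ({1, -1} : Set Fˣ) := Set.ncard_le_ncard hsub (Set.toFinite _)
        _ ≤ 2 := D1_aux_pair_le _ _
    have h4 : 0 < Nat.card ↥δ.range := Nat.card_pos
    nlinarith
  -- pick `a ≠ 1`, `b ∉ {1, a}` in the kernel
  have hKs : 4 ≤ Set.ncard (δ.ker : Set T) := by rw [← Nat.card_coe_set_eq]; exact hK
  obtain ⟨a, haK, ha1⟩ : ∃ a ∈ (δ.ker : Set T), a ∉ ({1} : Set T) := by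
    apply Set.exists_mem_notMem_of_ncard_lt_ncard
    · rw [Set.ncard_singleton]; omega
    · exact Set.toFinite _
  obtain ⟨b, hbK, hb1⟩ : ∃ b ∈ (δ.ker : Set T), b ∉ ({1, a} : Set T) := by
    apply Set.exists_mem_notMem_of_ncard_lt_ncard
    · have := D1_aux_pair_le (1 : T) a
      omega
    · exact Set.toFinite _
  rw [Set.mem_singleton_iff] at ha1
  rw [Set.mem_insert_iff, Set.mem_singleton_iff, not_or] at hb1
  obtain ⟨hb1, hba⟩ := hb1
  have hda : Matrix.GeneralLinearGroup.det (φ a) = 1 := MonoidHom.mem_ker.1 haK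
  have hdb : Matrix.GeneralLinearGroup.det (φ b) = 1 := MonoidHom.mem_ker.1 hbK
  obtain ⟨g, hga, hgb⟩ := CONJ h2 (φ a) (φ b) (by rw [← map_mul, hsq, map_one]) (by rw [← map_mul, hsq, map_one])
    (fun h => ha1 (hφ (by rw [h, map_one]))) (fun h => hb1 (hφ (by rw [h, map_one])))
    (fun h => hba (hφ h).symm) (by rw [← map_mul, ← map_mul, hc]) hda hdb
  -- the conjugated representation
  set M : T → Matrix (Fin 3) (Fin 3) F := fun x => ((g⁻¹ * φ x * g : GL (Fin 3) F) : Matrix (Fin 3) (Fin 3) F) with hM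
  have hMmul : ∀ x y : T, M (x * y) = M x * M y := by
    intro x y
    show ((g⁻¹ * φ (x * y) * g : GL (Fin 3) F) : Matrix (Fin 3) (Fin 3) F) =
      ((g⁻¹ * φ x * g : GL (Fin 3) F) : Matrix (Fin 3) (Fin 3) F) * ((g⁻¹ * φ y * g : GL (Fin 3) F) : Matrix (Fin 3) (Fin 3) F)
    rw [← Units.val_mul]
    congr 1
    rw [map_mul]; group
  have hM1 : M 1 = 1 := by
    show ((g⁻¹ * φ 1 * g : GL (Fin 3) F) : Matrix (Fin 3) (Fin 3) F) = 1
    rw [map_one, mul_one, inv_mul_cancel, Units.val_one]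
  have hMinj : ∀ x y : T, M x = M y → x = y := by
    intro x y h
    apply hφ
    have h1 : (g⁻¹ * φ x * g : GL (Fin 3) F) = g⁻¹ * φ y * g := Units.ext h
    have h3 : φ x = g * (g⁻¹ * φ x * g) * g⁻¹ := by group
    rw [h3, h1]; group
  have hMneg : ∀ x : T, M x = -1 → ((φ x : GL (Fin 3) F) : Matrix (Fin 3) (Fin 3) F) = -1 := by
    intro x h
    have h3 : φ x = g * (g⁻¹ * φ x * g) * g⁻¹ := by group
    rw [h3, Units.val_mul, Units.val_mul]
    show (g : Matrix (Fin 3) (Fin 3) F) * M x * ((g⁻¹ : GL (Fin 3) F) : Matrix (Fin 3) (Fin 3) F) = -1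
    rw [h, mul_neg, mul_one, neg_mul, ← Units.val_mul, mul_inv_cancel, Units.val_one]
  have hMa : M a = !![-1, 0, 0; 0, -1, 0; 0, 0, 1] := hga
  have hMb : M b = !![1, 0, 0; 0, -1, 0; 0, 0, -1] := hgb
  -- every `M x` is a sign matrix
  have hsign : ∀ x : T, ∃ u v w : F, (u = 1 ∨ u = -1) ∧ (v = 1 ∨ v = -1) ∧ (w = 1 ∨ w = -1) ∧
      M x = !![u, 0, 0; 0, v, 0; 0, 0, w] := by
    intro x
    have h12 : M x * !![-1, 0, 0; 0, -1, 0; 0, 0, 1] = !![-1, 0, 0; 0, -1, 0; 0, 0, 1] * M x := by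
      rw [← hMa, ← hMmul, ← hMmul, hc]
    have h23 : M x * !![1, 0, 0; 0, -1, 0; 0, 0, -1] = !![1, 0, 0; 0, -1, 0; 0, 0, -1] * M x := by
      rw [← hMb, ← hMmul, ← hMmul, hc]
    have hoff := MCOMM h2 (M x) h12 h23
    have hd := D1_aux_diag (M x) hoff
    have hxx : M x * M x = 1 := by rw [← hMmul, hsq, hM1]
    rw [hd, D1_aux_mul, ← D1_aux_one] at hxx
    have e0 := congrFun (congrFun hxx 0) 0
    have e1 := congrFun (congrFun hxx 1) 1
    have e2 := congrFun (congrFun hxx 2) 2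
    simp at e0 e1 e2
    exact ⟨M x 0 0, M x 1 1, M x 2 2, mul_self_eq_one_iff.1 e0, mul_self_eq_one_iff.1 e1,
      mul_self_eq_one_iff.1 e2, hd⟩
  -- an element outside `{1, a, b, ab}`
  obtain ⟨e, -, he⟩ : ∃ e ∈ (Set.univ : Set T), e ∉ ({1, a, b, a * b} : Set T) := by
    apply Set.exists_mem_notMem_of_ncard_lt_ncard
    · rw [Set.ncard_univ, h8]
      have h1 : Set.ncard ({1, a, b, a * b} : Set T) ≤ Set.ncard ({a, b, a * b} : Set T) + 1 :=
        Set.ncard_insert_le _ _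
      have h3 : Set.ncard ({a, b, a * b} : Set T) ≤ Set.ncard ({b, a * b} : Set T) + 1 :=
        Set.ncard_insert_le _ _
      have h4 := D1_aux_pair_le b (a * b)
      omega
    · exact Set.toFinite _
  simp only [Set.mem_insert_iff, Set.mem_singleton_iff, not_or] at he
  obtain ⟨he1, hea, heb, heab⟩ := he
  have hMab : M (a * b) = !![-1, 0, 0; 0, 1, 0; 0, 0, -1] := by
    rw [hMmul, hMa, hMb, D1_aux_mul]; simp
  obtain ⟨u, v, w, hu, hv, hw, hMe⟩ := hsign e
  rcases hu with rfl | rfl <;> rcases hv with rfl | rfl <;> rcases hw with rfl | rfl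
  · -- (1,1,1)
    exfalso; apply he1; apply hMinj; rw [hMe, hM1, D1_aux_one]
  · -- (1,1,-1): e * a
    refine ⟨e * a, hMneg _ ?_⟩
    rw [hMmul, hMe, hMa, D1_aux_mul, ← D1_aux_neg_one]; simp
  · -- (1,-1,1): e * (a * b)
    refine ⟨e * (a * b), hMneg _ ?_⟩
    rw [hMmul, hMe, hMab, D1_aux_mul, ← D1_aux_neg_one]; simp
  · -- (1,-1,-1) = M b
    exfalso; apply heb; apply hMinj; rw [hMe, hMb]
  · -- (-1,1,1): e * b
    refine ⟨e * b, hMneg _ ?_⟩
    rw [hMmul, hMe, hMb, D1_aux_mul, ← D1_aux_neg_one]; simp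
  · -- (-1,1,-1) = M (a*b)
    exfalso; apply heab; apply hMinj; rw [hMe, hMab]
  · -- (-1,-1,1) = M a
    exfalso; apply hea; apply hMinj; rw [hMe, hMa]
  · -- (-1,-1,-1)
    exact ⟨e, hMneg _ (by rw [hMe, D1_aux_neg_one])⟩

/-- D1: an elementary abelian subgroup of order 8 contains the preimage of `-1`. -/
theorem D1 {P : Type*} [Group P] (h2 : (2 : F) ≠ 0) (f : P →* GL (Fin 3) F) (hf : Function.Injective f)
    (E : Subgroup P) (hc : ∀ a ∈ E, ∀ b ∈ E, a * b = b * a) (hsq : ∀ a ∈ E, a * a = 1)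
    (h8 : Nat.card E = 8) :
    ∃ e ∈ E, ((f e : GL (Fin 3) F) : Matrix (Fin 3) (Fin 3) F) = -1 := by
  obtain ⟨e, he⟩ := D1_aux_core h2 (f.comp E.subtype) (hf.comp Subtype.val_injective)
    (fun a b => Subtype.ext (hc a a.2 b b.2)) (fun a => Subtype.ext (hsq a a.2)) h8
  exact ⟨e, e.2, he⟩

end Cfsg.Agent.S1906P
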