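import Mathlib

/-! # Board `s1906pieces`, row HTRIV -/

set_option autoImplicit false

namespace Cfsg.Agent.S1906P

/-- HTRIV: a group without subgroups of index 2 has no nontrivial homomorphism into a finite 2-group. -/
theorem HTRIV {G : Type*} [Group G] (hG : ∀ H : Subgroup G, H.index ≠ 2) {Q : Type*} [Group Q] [Finite Q]
    (hQ : IsPGroup 2 Q) (φ : G →* Q) (x : G) : φ x = 1 := by
  classical
  by_contra hx
  have : Fact (Nat.Prime 2) := ⟨Nat.prime_two⟩
  have hR : IsPGroup 2 ↥φ.range := hQ.to_subgroup φ.range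
  obtain ⟨k, hk⟩ := IsPGroup.iff_card.1 hR
  have hk0 : k ≠ 0 := by
    rintro rfl
    rw [pow_zero] at hk
    have hsub : Subsingleton ↥φ.range := (Nat.card_eq_one_iff_unique.1 hk).1
    have h1 : (⟨φ x, x, rfl⟩ : ↥φ.range) = 1 := Subsingleton.elim _ _
    exact hx (congrArg Subtype.val h1)
  obtain ⟨K, hK⟩ := Sylow.exists_subgroup_card_pow_prime 2 (G := ↥φ.range) (n := k - 1)
    (by rw [hk]; exact pow_dvd_pow 2 (Nat.sub_le k 1))
  have hidx : K.index = 2 := by
    have h1 := K.card_mul_index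
    rw [hK, hk] at h1
    have h2 : 2 ^ k = 2 ^ (k - 1) * 2 := by
      rw [← pow_succ]; congr 1; omega
    rw [h2] at h1
    exact Nat.eq_of_mul_eq_mul_left (pow_pos (by norm_num) _) h1
  apply hG (K.comap φ.rangeRestrict)
  rw [Subgroup.index_comap_of_surjective _ φ.rangeRestrict_surjective]
  exact hidx

end Cfsg.Agent.S1906P
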