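import Cfsg.Agent.Helper10.ThompsonExt
import Cfsg.Agent.Helper12.S1906HTRIV

/-! # Board `s1906pieces`, row EXTR -/

set_option autoImplicit false

namespace Cfsg.Agent.S1906P

variable {F : Type*} [Field F]

/-- a subgroup `X` of order `2 ^ k` whose conjugate lies in `C'`, with `X ⊓ C'` of odd index in `C'`, lies in `C'` -/
theorem EXTR_aux_le {G : Type*} [Group G] [Finite G] (X C' : Subgroup G) (g : G) {k : ℕ}
    (hk : Nat.card ↥X = 2 ^ k) (hconj : X.map (MulAut.conj g).toMonoidHom ≤ C')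
    (hodd : ¬ 2 ∣ (X ⊓ C').relIndex C') : X ≤ C' := by
  classical
  have h1 : Nat.card ↥(X.map (MulAut.conj g).toMonoidHom) = Nat.card ↥X :=
    Subgroup.card_map_of_injective (MulAut.conj g).injective
  have h2 : 2 ^ k ∣ Nat.card ↥C' := by
    rw [← hk, ← h1]; exact Subgroup.card_dvd_of_le hconj
  have hHC : X ⊓ C' ≤ C' := inf_le_right
  have h3 : Nat.card ↥(X ⊓ C') * (X ⊓ C').relIndex C' = Nat.card ↥C' := by
    have := ((X ⊓ C').subgroupOf C').card_mul_index
    rw [Nat.card_congr (Subgroup.subgroupOfEquivOfLe hHC).toEquiv] at this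
    exact this
  have h4 : Nat.card ↥(X ⊓ C') ∣ 2 ^ k := by
    rw [← hk]; exact Subgroup.card_dvd_of_le inf_le_left
  obtain ⟨j, hjk, hj⟩ := (Nat.dvd_prime_pow Nat.prime_two).1 h4
  rw [← h3, hj] at h2
  have hcop : Nat.Coprime (2 ^ k) ((X ⊓ C').relIndex C') := by
    apply Nat.Coprime.pow_left
    rw [Nat.Prime.coprime_iff_not_dvd Nat.prime_two]
    exact hodd
  have h5 : 2 ^ k ∣ 2 ^ j := hcop.dvd_of_dvd_mul_right h2
  have h6 : k ≤ j := (Nat.pow_dvd_pow_iff_le_right (by norm_num)).1 h5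
  have h7 : X ⊓ C' = X := by
    apply Subgroup.eq_of_le_of_card_ge inf_le_left
    rw [hj, hk]
    exact Nat.pow_le_pow_right (by norm_num) h6
  rw [← h7]; exact inf_le_right

/-- EXTR: Thompson transfer with extremal conjugation (landed `Helper10.thompson_extremal_exists`) applied to
`T = ker (det ∘ f)` and a central involution `e` of determinant `≠ 1`. -/
theorem EXTR {G : Type*} [Group G] [Finite G] (hG : ∀ H : Subgroup G, H.index ≠ 2) (X : Sylow 2 G)
    (f : ↥(X : Subgroup G) →* GL (Fin 3) F) (e : ↥(X : Subgroup G))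
    (hec : e ∈ Subgroup.center ↥(X : Subgroup G)) (he1 : e ≠ 1) (he2 : e * e = 1)
    (hde : Matrix.GeneralLinearGroup.det (f e) ≠ 1) :
    ∃ (g : G) (y : ↥(X : Subgroup G)), (y : G) = g * (e : G) * g⁻¹ ∧
      y ∈ Subgroup.center ↥(X : Subgroup G) ∧ Matrix.GeneralLinearGroup.det (f y) = 1 := by
  classical
  have hp2 : Fact (Nat.Prime 2) := ⟨Nat.prime_two⟩
  set d : ↥(X : Subgroup G) →* Fˣ := Matrix.GeneralLinearGroup.det.comp f with hd
  set T : Subgroup G := d.ker.map (X : Subgroup G).subtype with hT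
  have hTS : T ≤ (X : Subgroup G) := by
    rintro _ ⟨x, _, rfl⟩
    exact x.2
  have hsub : T.subgroupOf (X : Subgroup G) = d.ker := by
    ext x
    rw [Subgroup.mem_subgroupOf, hT, Subgroup.mem_map]
    constructor
    · rintro ⟨y, hy, hyx⟩
      have : y = x := Subtype.ext hyx
      rwa [← this]
    · intro hx
      exact ⟨x, hx, rfl⟩
  have hTn : (T.subgroupOf (X : Subgroup G)).Normal := by
    rw [hsub]; infer_instance
  have hle : T.subgroupOf (X : Subgroup G) ≤ d.ker := hsub.le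
  have hcyc : IsCyclic (↥(X : Subgroup G) ⧸ T.subgroupOf (X : Subgroup G)) := by
    apply isCyclic_of_injective_ringHom ((Units.coeHom F).comp (QuotientGroup.lift _ d hle))
    apply Function.Injective.comp Units.val_injective
    rw [injective_iff_map_eq_one]
    intro a ha
    obtain ⟨x, rfl⟩ := QuotientGroup.mk_surjective a
    rw [QuotientGroup.lift_mk] at ha
    rw [QuotientGroup.eq_one_iff, hsub]
    exact ha
  have htriv : ∀ φ : G →* (↥(X : Subgroup G) ⧸ T.subgroupOf (X : Subgroup G)), ∀ x : G, φ x = 1 :=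
    fun φ x => HTRIV hG (X.isPGroup'.to_quotient _) φ x
  have hy2 : orderOf (e : G) = 2 := by
    apply orderOf_eq_prime
    · have := congrArg (fun z : ↥(X : Subgroup G) => (z : G)) he2
      simpa [pow_two] using this
    · intro h
      exact he1 (Subtype.ext h)
  have hyT : (e : G) ∉ T := by
    rintro ⟨x, hx, hxe⟩
    have : x = e := Subtype.ext hxe
    rw [this] at hx
    exact hde (MonoidHom.mem_ker.1 hx)
  obtain ⟨g, hgT, hodd⟩ := Cfsg.Agent.Helper10.thompson_extremal_exists X T hTS hcyc htriv (e : G) hy2 e.2 hyT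
  obtain ⟨y, hy, hyg'⟩ := hgT
  have hyg : (y : G) = g * (e : G) * g⁻¹ := hyg'
  refine ⟨g, y, hyg, ?_, MonoidHom.mem_ker.1 hy⟩
  obtain ⟨k, hk⟩ := IsPGroup.iff_card.1 X.isPGroup'
  have hconj : (X : Subgroup G).map (MulAut.conj g).toMonoidHom ≤
      Subgroup.centralizer ({g * (e : G) * g⁻¹} : Set G) := by
    rintro _ ⟨x, hx, rfl⟩
    rw [Subgroup.mem_centralizer_iff]
    intro z hz
    rw [Set.mem_singleton_iff] at hz
    subst hz
    have h1 := Subgroup.mem_center_iff.1 hec ⟨x, hx⟩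
    have h2 : x * (e : G) = (e : G) * x := congrArg (fun z : ↥(X : Subgroup G) => (z : G)) h1
    show g * (e : G) * g⁻¹ * (g * x * g⁻¹) = g * x * g⁻¹ * (g * (e : G) * g⁻¹)
    calc g * (e : G) * g⁻¹ * (g * x * g⁻¹) = g * ((e : G) * x) * g⁻¹ := by group
      _ = g * (x * (e : G)) * g⁻¹ := by rw [h2]
      _ = g * x * g⁻¹ * (g * (e : G) * g⁻¹) := by group
  have hXC := EXTR_aux_le (X : Subgroup G) _ g hk hconj hodd
  rw [Subgroup.mem_center_iff]
  intro x
  apply Subtype.ext
  have := Subgroup.mem_centralizer_iff.1 (hXC x.2) (g * (e : G) * g⁻¹) rfl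
  show (x : G) * (y : G) = (y : G) * (x : G)
  rw [hyg]
  exact this.symm

end Cfsg.Agent.S1906P
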