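import Cfsg.Agent.Helper21.S2293DEFS
import Cfsg.Agent.Helper16.S2293TORUS4
import Cfsg.Agent.Helper16.S2293WEYL4
import Cfsg.Agent.Helper19.S2293ROOTS4
import Cfsg.Agent.Helper23.S2293MAT4
import Cfsg.Agent.Helper8.S2293BOREL4
import Cfsg.Agent.Helper12.SpBNK

/-! S2293 piece CORE4 (driver helper21; helper12): `Ψ : P → Sp₄(F)` is bijective, from the `BNB`
form.  Injective as in `S2287CORE3` (the Weyl part of a monomial element whose image is of Borel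
type is trivial); surjective by `borel_sup_Nsub` of the `Sp` BN-pair library. -/

namespace Cfsg.Agent.Helper21.S2293
open Multiplicative Cfsg.Agent.Helper21.S2286
namespace CORE4
variable {F : Type*} [Field F]
open Matrix Cfsg.Agent.Helper25.SpU Cfsg.Agent.Helper12.SpBN Cfsg.Agent.Helper12.SpTwo Cfsg.Agent.Helper2.Sp

theorem borel_val (a b c d : F) (s t : Fˣ) :
    (xam a * xbm b * xabm c * x2abm d * dm s t : symplecticGroup (Fin 2) F).val =
      fromBlocks !![(s:F), a * t; 0, t]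
        !![(d + a*c) * ((s⁻¹ : Fˣ) : F), (c + a*b) * ((t⁻¹ : Fˣ) : F); c * ((s⁻¹ : Fˣ) : F), b * ((t⁻¹ : Fˣ) : F)] 0
        !![((s⁻¹ : Fˣ) : F), 0; -a * ((s⁻¹ : Fˣ) : F), ((t⁻¹ : Fˣ) : F)] := by
  show (xam a).val * (xbm b).val * (xabm c).val * (x2abm d).val * (dm s t).val = _
  simp only [xam_val, xbm_val, xabm_val, x2abm_val, dm_val, fromBlocks_multiply]
  congr 1 <;> (ext i j; fin_cases i <;> fin_cases j <;> simp)

theorem isB_borel_val (a b c d : F) (s t : Fˣ) :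
    IsB (xam a * xbm b * xabm c * x2abm d * dm s t : symplecticGroup (Fin 2) F).val := by
  rw [borel_val]
  refine ⟨?_, ?_⟩
  · intro i j
    simp
  · intro i j hij
    fin_cases i <;> fin_cases j <;> simp at hij ⊢

theorem borel_val_eq_one {a b c d : F} {s t : Fˣ}
    (h : (xam a * xbm b * xabm c * x2abm d * dm s t : symplecticGroup (Fin 2) F) = 1) :
    a = 0 ∧ b = 0 ∧ c = 0 ∧ d = 0 ∧ s = 1 ∧ t = 1 := by
  have hval := congrArg Subtype.val h
  rw [borel_val] at hval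
  have e00 := congrFun (congrFun hval (Sum.inl 0)) (Sum.inl 0)
  have e11 := congrFun (congrFun hval (Sum.inl 1)) (Sum.inl 1)
  have e01 := congrFun (congrFun hval (Sum.inl 0)) (Sum.inl 1)
  have e13 := congrFun (congrFun hval (Sum.inl 1)) (Sum.inr 1)
  have e12 := congrFun (congrFun hval (Sum.inl 1)) (Sum.inr 0)
  have e02 := congrFun (congrFun hval (Sum.inl 0)) (Sum.inr 0)
  simp at e00 e11 e01 e13 e12 e02
  subst e01 e12
  simp at e02
  exact ⟨rfl, e13, rfl, e02, e00, e11⟩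

theorem cm1_val : ((nam * nbm : symplecticGroup (Fin 2) F)).val =
    fromBlocks !![0, 0; -1, 0] !![0, 1; 0, 0] !![0, -1; 0, 0] !![0, 0; -1, 0] := by
  show (nam : symplecticGroup (Fin 2) F).val * (nbm : symplecticGroup (Fin 2) F).val = _
  simp only [nam_val, nbm_val, fromBlocks_multiply]
  congr 1 <;> (ext i j; fin_cases i <;> fin_cases j <;> simp)

theorem cm2_val : (((nam * nbm) ^ 2 : symplecticGroup (Fin 2) F)).val =
    fromBlocks 0 !![-1, 0; 0, -1] !![1, 0; 0, 1] 0 := by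
  rw [pow_two]
  show (nam * nbm : symplecticGroup (Fin 2) F).val * (nam * nbm : symplecticGroup (Fin 2) F).val = _
  rw [cm1_val]
  simp only [fromBlocks_multiply]
  congr 1 <;> (ext i j; fin_cases i <;> fin_cases j <;> simp)

theorem cm3_val : (((nam * nbm) ^ 3 : symplecticGroup (Fin 2) F)).val =
    fromBlocks !![0, 1; 0, 0] !![0, 0; 1, 0] !![0, 0; -1, 0] !![0, 1; 0, 0] := by
  rw [pow_succ]
  show ((nam * nbm) ^ 2 : symplecticGroup (Fin 2) F).val * (nam * nbm : symplecticGroup (Fin 2) F).val = _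
  rw [cm1_val, cm2_val]
  simp only [fromBlocks_multiply]
  congr 1 <;> (ext i j; fin_cases i <;> fin_cases j <;> simp)

theorem weyl_isB {m e : ℕ} (hm : m < 4) (he : e < 2)
    (h : IsB ((nam * nbm) ^ m * nam ^ e : symplecticGroup (Fin 2) F).val) : m = 0 ∧ e = 0 := by
  obtain ⟨hP, hU⟩ := h
  have h10 := hU 1 0 (by decide)
  have h20 := hP 0 0
  have h30 := hP 1 0
  have h31 := hP 1 1
  interval_cases m <;> interval_cases e
  · exact ⟨rfl, rfl⟩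
  · exfalso
    simp [nam_val, toBlocks₁₁] at h10
  · exfalso
    rw [pow_zero, mul_one, pow_one, cm1_val] at h10
    simp [toBlocks₁₁] at h10
  · exfalso
    rw [pow_one, pow_one] at h20
    change ((nam * nbm : symplecticGroup (Fin 2) F).val * (nam : symplecticGroup (Fin 2) F).val) (Sum.inr 0) (Sum.inl 0) = 0 at h20
    rw [cm1_val] at h20
    simp [nam_val, fromBlocks_multiply] at h20
  · exfalso
    rw [pow_zero, mul_one, cm2_val] at h20
    simp at h20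
  · exfalso
    rw [pow_one] at h30
    change (((nam * nbm) ^ 2 : symplecticGroup (Fin 2) F).val * (nam : symplecticGroup (Fin 2) F).val) (Sum.inr 1) (Sum.inl 0) = 0 at h30
    rw [cm2_val] at h30
    simp [nam_val, fromBlocks_multiply] at h30
  · exfalso
    rw [pow_zero, mul_one, cm3_val] at h30
    simp at h30
  · exfalso
    rw [pow_one] at h31
    change (((nam * nbm) ^ 3 : symplecticGroup (Fin 2) F).val * (nam : symplecticGroup (Fin 2) F).val) (Sum.inr 1) (Sum.inl 1) = 0 at h31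
    rw [cm3_val] at h31
    simp [nam_val, fromBlocks_multiply] at h31

variable {P : Type*} [Group P] (D : C2Data F P)

theorem Psi_tor (Ψ : P →* symplecticGroup (Fin 2) F)
    (hΨ1 : Ψ D.h1 = dm D.ω 1) (hΨ2 : Ψ D.h2 = dm 1 D.ω) (i j : ℤ) :
    Ψ (D.tor i j) = dm (D.ω ^ i) (D.ω ^ j) := by
  unfold C2Data.tor
  rw [map_mul, map_zpow, map_zpow, hΨ1, hΨ2, dm_zpow, dm_zpow, dm_mul, _root_.one_zpow, _root_.one_zpow, mul_one,
    one_mul]

theorem Psi_c (Ψ : P →* symplecticGroup (Fin 2) F) (hΨna : Ψ D.na = nam) (hΨnb : Ψ D.nb = nbm) :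
    Ψ D.c = nam * nbm := by
  unfold C2Data.c
  rw [map_mul, hΨna, hΨnb]

theorem Psi_xs0 (Ψ : P →* symplecticGroup (Fin 2) F) (hΨa : ∀ a : F, Ψ (D.φa (ofAdd a)) = xam a)
    (a : F) : Ψ (D.xs 0 a) = xam a := by
  unfold C2Data.xs
  simp [hΨa]

theorem Psi_xl0 (Ψ : P →* symplecticGroup (Fin 2) F) (hΨb : ∀ b : F, Ψ (D.φb (ofAdd b)) = xbm b)
    (b : F) : Ψ (D.xl 0 b) = xbm b := by
  unfold C2Data.xl
  simp [hΨb]

theorem Psi_xs1 (Ψ : P →* symplecticGroup (Fin 2) F) (hΨa : ∀ a : F, Ψ (D.φa (ofAdd a)) = xam a)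
    (hΨna : Ψ D.na = nam) (hΨnb : Ψ D.nb = nbm)
    (a : F) : Ψ (D.xs 1 a) = xabm a := by
  unfold C2Data.xs
  rw [map_mul, map_mul, map_inv, map_pow, Psi_c D Ψ hΨna hΨnb, hΨa]
  rw [show ((1 : Fin 4) : ℕ) = 1 from rfl, pow_one, c_xam]

theorem Psi_xl3 (Ψ : P →* symplecticGroup (Fin 2) F) (hΨb : ∀ b : F, Ψ (D.φb (ofAdd b)) = xbm b)
    (hΨna : Ψ D.na = nam) (hΨnb : Ψ D.nb = nbm)
    (b : F) : Ψ (D.xl 3 b) = x2abm b := by
  unfold C2Data.xl
  rw [map_mul, map_mul, map_inv, map_pow, Psi_c D Ψ hΨna hΨnb, hΨb]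
  rw [show ((3 : Fin 4) : ℕ) = 3 from rfl, c3_xbm]


theorem tor_pow (i j : ℤ) (k : ℕ) : ∃ i' j' : ℤ, (D.tor i j) ^ k = D.tor i' j' := by
  induction k with
  | zero => exact ⟨0, 0, by rw [pow_zero, D.tor_zero]⟩
  | succ k ih =>
    obtain ⟨i', j', h⟩ := ih
    exact ⟨i' + i, j' + j, by rw [pow_succ, h, D.tor_mul]⟩

/-- moving a torus element to the right of `na ^ e` -/
theorem tor_na_pow (i j : ℤ) (e : ℕ) : ∃ i' j' : ℤ, D.tor i j * D.na ^ e = D.na ^ e * D.tor i' j' := by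
  induction e generalizing i j with
  | zero => exact ⟨i, j, by rw [pow_zero, mul_one, one_mul]⟩
  | succ e ih =>
    obtain ⟨i', j', h⟩ := ih i j
    refine ⟨j', i', ?_⟩
    have h1 : D.tor i' j' * D.na = D.na * D.tor j' i' := by
      rw [← D.na_tor j' i']
      group
    rw [pow_succ, ← mul_assoc, h, mul_assoc, h1, mul_assoc]

/-- normal form of the Weyl part of a monomial element -/
theorem weyl_normal (m e : ℕ) : ∃ (m' e' : ℕ) (i j : ℤ), m' < 4 ∧ e' < 2 ∧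
    D.c ^ m * D.na ^ e = D.c ^ m' * D.na ^ e' * D.tor i j := by
  obtain ⟨i₁, j₁, h1⟩ := tor_pow D D.M D.M (m / 4)
  obtain ⟨i₂, j₂, h2⟩ := tor_pow D (-D.M) D.M (e / 2)
  have hc : D.c ^ m = D.c ^ (m % 4) * D.tor i₁ j₁ := by
    rw [← h1, ← D.c4_tor, ← pow_mul, ← pow_add, Nat.mod_add_div]
  have hn : D.na ^ e = D.na ^ (e % 2) * D.tor i₂ j₂ := by
    rw [← h2, ← D.weyl_a.2, ← pow_two, ← pow_mul, ← pow_add, Nat.mod_add_div]
  obtain ⟨i₃, j₃, h3⟩ := tor_na_pow D i₁ j₁ (e % 2)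
  refine ⟨m % 4, e % 2, i₃ + i₂, j₃ + j₂, Nat.mod_lt _ (by norm_num), Nat.mod_lt _ (by norm_num), ?_⟩
  rw [hc, hn, ← D.tor_mul]
  calc D.c ^ (m % 4) * D.tor i₁ j₁ * (D.na ^ (e % 2) * D.tor i₂ j₂)
      = D.c ^ (m % 4) * (D.tor i₁ j₁ * D.na ^ (e % 2)) * D.tor i₂ j₂ := by group
    _ = D.c ^ (m % 4) * D.na ^ (e % 2) * (D.tor i₃ j₃ * D.tor i₂ j₂) := by rw [h3]; group


theorem isB_Psi_borel (Ψ : P →* symplecticGroup (Fin 2) F)
    (hΨa : ∀ a : F, Ψ (D.φa (ofAdd a)) = xam a) (hΨb : ∀ b : F, Ψ (D.φb (ofAdd b)) = xbm b)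
    (hΨ1 : Ψ D.h1 = dm D.ω 1) (hΨ2 : Ψ D.h2 = dm 1 D.ω)
    (hΨna : Ψ D.na = nam) (hΨnb : Ψ D.nb = nbm) {g : P} (hg : g ∈ D.borelSet) :
    IsB (Ψ g).val := by
  obtain ⟨a, b, c, d, i, j, rfl⟩ := hg
  rw [map_mul, map_mul, map_mul, map_mul, Psi_xs0 D Ψ hΨa, Psi_xl0 D Ψ hΨb,
    Psi_xs1 D Ψ hΨa hΨna hΨnb, Psi_xl3 D Ψ hΨb hΨna hΨnb, Psi_tor D Ψ hΨ1 hΨ2]
  exact isB_borel_val _ _ _ _ _ _

theorem core4_injective (hC : D.Comm)
    (hform : ∀ g : P, ∃ b ∈ D.borelSet, ∃ n ∈ D.normSet, ∃ b' ∈ D.borelSet, g = b * n * b')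
    (hker : ∀ i j : ℤ, D.ω ^ i = 1 → D.ω ^ j = 1 → D.tor i j = 1)
    (Ψ : P →* symplecticGroup (Fin 2) F)
    (hΨa : ∀ a : F, Ψ (D.φa (ofAdd a)) = xam a) (hΨb : ∀ b : F, Ψ (D.φb (ofAdd b)) = xbm b)
    (hΨ1 : Ψ D.h1 = dm D.ω 1) (hΨ2 : Ψ D.h2 = dm 1 D.ω)
    (hΨna : Ψ D.na = nam) (hΨnb : Ψ D.nb = nbm) : Function.Injective Ψ := by
  rw [injective_iff_map_eq_one]
  intro g hg
  obtain ⟨b, hb, n, hn, b', hb', rfl⟩ := hform g
  obtain ⟨i, j, m, e, rfl⟩ := hn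
  obtain ⟨m', e', i₂, j₂, hm', he', hw⟩ := weyl_normal D m e
  have hb1 : b * D.tor i j ∈ D.borelSet := D.borel_mul hC hb (D.tor_mem_borel i j)
  have hb2 : D.tor i₂ j₂ * b' ∈ D.borelSet := D.borel_mul hC (D.tor_mem_borel i₂ j₂) hb'
  have hg' : b * (D.tor i j * D.c ^ m * D.na ^ e) * b' =
      (b * D.tor i j) * (D.c ^ m' * D.na ^ e') * (D.tor i₂ j₂ * b') := by
    have h1 : D.tor i j * D.c ^ m * D.na ^ e = D.tor i j * (D.c ^ m * D.na ^ e) := by group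
    rw [h1, hw]
    group
  rw [hg'] at hg ⊢
  generalize b * D.tor i j = b₁ at *
  generalize D.tor i₂ j₂ * b' = b₂ at *
  have hν : Ψ (D.c ^ m' * D.na ^ e') = Ψ b₁⁻¹ * Ψ b₂⁻¹ := by
    have h1 : D.c ^ m' * D.na ^ e' = b₁⁻¹ * (b₁ * (D.c ^ m' * D.na ^ e') * b₂) * b₂⁻¹ := by group
    rw [h1, map_mul, map_mul, hg, mul_one]
  have hB : IsB (Ψ (D.c ^ m' * D.na ^ e')).val := by
    rw [hν]
    exact IsB.mul (isB_Psi_borel D Ψ hΨa hΨb hΨ1 hΨ2 hΨna hΨnb (D.borel_inv hC hb1))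
      (isB_Psi_borel D Ψ hΨa hΨb hΨ1 hΨ2 hΨna hΨnb (D.borel_inv hC hb2))
  rw [map_mul, map_pow, map_pow, Psi_c D Ψ hΨna hΨnb, hΨna] at hB
  obtain ⟨rfl, rfl⟩ := weyl_isB hm' he' hB
  rw [pow_zero, pow_zero, mul_one, mul_one] at hg ⊢
  obtain ⟨a, b, c, d, i, j, hbb⟩ := D.borel_mul hC hb1 hb2
  rw [hbb] at hg ⊢
  rw [map_mul, map_mul, map_mul, map_mul, Psi_xs0 D Ψ hΨa, Psi_xl0 D Ψ hΨb,
    Psi_xs1 D Ψ hΨa hΨna hΨnb, Psi_xl3 D Ψ hΨb hΨna hΨnb, Psi_tor D Ψ hΨ1 hΨ2] at hg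
  obtain ⟨rfl, rfl, rfl, rfl, hi, hj⟩ := borel_val_eq_one hg
  rw [D.xs_zero, D.xl_zero, D.xs_zero, D.xl_zero, one_mul, one_mul, one_mul, one_mul]
  exact hker i j hi hj

theorem diagSp_eq (d : Fin 2 → Fˣ) : (diagSp d : symplecticGroup (Fin 2) F) = dm (d 0) (d 1) := by
  apply Subtype.ext
  unfold diagSp
  ext i j
  rcases i with i | i <;> rcases j with j | j <;> fin_cases i <;> fin_cases j <;>
    simp [dm_val, Matrix.diagonal]

theorem nbm_dm_val : (nbm * dm 1 (-1) : symplecticGroup (Fin 2) F).val =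
    fromBlocks !![1, 0; 0, 0] !![0, 0; 0, -1] !![0, 0; 0, 1] !![1, 0; 0, 0] := by
  show (nbm : symplecticGroup (Fin 2) F).val * (dm 1 (-1) : symplecticGroup (Fin 2) F).val = _
  simp only [nbm_val, dm_val, fromBlocks_multiply]
  congr 1 <;> (ext i j; fin_cases i <;> fin_cases j <;> simp)

theorem nam_dm_val : (nam * dm (-1) 1 : symplecticGroup (Fin 2) F).val =
    fromBlocks !![0, 1; 1, 0] 0 0 !![0, 1; 1, 0] := by
  show (nam : symplecticGroup (Fin 2) F).val * (dm (-1) 1 : symplecticGroup (Fin 2) F).val = _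
  simp only [nam_val, dm_val, fromBlocks_multiply]
  congr 1 <;> (ext i j; fin_cases i <;> fin_cases j <;> simp)

theorem sL_eq : (sL : symplecticGroup (Fin 2) F) = nbm * dm 1 (-1) := by
  apply ext_bv
  intro c
  ext a
  rw [act_bv_apply (nbm * dm 1 (-1)), nbm_dm_val]
  rcases c with c | c <;> fin_cases c
  · rw [act_sL_inl_ne (by decide)]
    rcases a with a | a <;> fin_cases a <;> simp [bv_apply]
  · have := act_sL_inl_last (n := 1) (F := F)
    change act sL (bv (Sum.inl 1)) = _ at this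
    show act sL (bv (Sum.inl 1)) a = _
    rw [this]
    rcases a with a | a <;> fin_cases a <;> simp [bv_apply]
  · have h1 : act (sL : symplecticGroup (Fin 2) F) (bv (Sum.inr 0)) = bv (Sum.inr 0) := by
      unfold sL
      rw [bv_inr, act_jw_fb_ne (by decide)]
    show act sL (bv (Sum.inr 0)) a = _
    rw [h1]
    rcases a with a | a <;> fin_cases a <;> simp [bv_apply]
  · have := act_sL_inr_last (n := 1) (F := F)
    change act sL (bv (Sum.inr 1)) = _ at this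
    show act sL (bv (Sum.inr 1)) a = _
    rw [this]
    rcases a with a | a <;> fin_cases a <;> simp [bv_apply]

theorem sS_eq : (sS (0 : Fin 1) : symplecticGroup (Fin 2) F) = nam * dm (-1) 1 := by
  apply ext_bv
  intro c
  ext a
  rw [act_bv_apply (nam * dm (-1) 1), nam_dm_val]
  have hl : ∀ k : Fin 2, act (sS (0 : Fin 1) : symplecticGroup (Fin 2) F) (bv (Sum.inl k)) =
      bv (Sum.inl (Equiv.swap 0 1 k)) := fun k => act_sS_inl 0 k
  have hr : ∀ k : Fin 2, act (sS (0 : Fin 1) : symplecticGroup (Fin 2) F) (bv (Sum.inr k)) =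
      bv (Sum.inr (Equiv.swap 0 1 k)) := by
    intro k
    unfold sS
    rw [bv_inr, act_permSp_fb]
    rfl
  rcases c with c | c <;> fin_cases c
  · show act (sS 0) (bv (Sum.inl 0)) a = _
    rw [hl]
    rcases a with a | a <;> fin_cases a <;> simp [bv_apply]
  · show act (sS 0) (bv (Sum.inl 1)) a = _
    rw [hl]
    rcases a with a | a <;> fin_cases a <;> simp [bv_apply]
  · show act (sS 0) (bv (Sum.inr 0)) a = _
    rw [hr]
    rcases a with a | a <;> fin_cases a <;> simp [bv_apply]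
  · show act (sS 0) (bv (Sum.inr 1)) a = _
    rw [hr]
    rcases a with a | a <;> fin_cases a <;> simp [bv_apply]

theorem uS_eq (S : Matrix (Fin 2) (Fin 2) F) (hS : Sᵀ = S) :
    uS S = (xbm (S 1 1) * xabm (S 0 1) * x2abm (S 0 0) : symplecticGroup (Fin 2) F).val := by
  show _ = (xbm (S 1 1)).val * (xabm (S 0 1)).val * (x2abm (S 0 0)).val
  have h10 : S 1 0 = S 0 1 := by
    have := congrFun (congrFun hS 0) 1
    simpa using this
  unfold uS
  simp only [xbm_val, xabm_val, x2abm_val, fromBlocks_multiply]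
  congr 1 <;> (ext i j; fin_cases i <;> fin_cases j <;> simp [h10])

theorem uni_mem [Fintype F] (H : Subgroup (symplecticGroup (Fin 2) F))
    (ha : ∀ a : F, xam a ∈ H) (hb : ∀ a : F, xbm a ∈ H) (hab : ∀ a : F, xabm a ∈ H)
    (h2ab : ∀ a : F, x2abm a ∈ H) {u : symplecticGroup (Fin 2) F} (hu : u ∈ uni 2 F) : u ∈ H := by
  obtain ⟨hP, hUp, hd⟩ := hu
  set a : F := u.1 (Sum.inl 0) (Sum.inl 1) with ha_def
  have hP1 : IsPar (xam (-a) * u : symplecticGroup (Fin 2) F).val := by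
    show IsPar ((xam (-a)).val * u.val)
    refine IsPar.mul ?_ hP
    intro i j
    simp [xam_val]
  have hB1 : (xam (-a) * u : symplecticGroup (Fin 2) F).val.toBlocks₁₁ = 1 := by
    show ((xam (-a)).val * u.val).toBlocks₁₁ = 1
    rw [IsPar.block_mul _ hP]
    have h00 : u.1 (Sum.inl 0) (Sum.inl 0) = 1 := hd 0
    have h11 : u.1 (Sum.inl 1) (Sum.inl 1) = 1 := hd 1
    have h10 : u.1 (Sum.inl 1) (Sum.inl 0) = 0 := hUp 1 0 (by decide)
    ext i j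
    fin_cases i <;> fin_cases j <;>
      simp [xam_val, toBlocks₁₁, Matrix.mul_apply, Fin.sum_univ_two, h00, h11, h10, ← ha_def]
  obtain ⟨e, hS⟩ := eq_uS_of_isR (xam (-a) * u).2 ⟨hP1, hB1⟩
  rw [uS_eq _ hS] at e
  have e' : xam (-a) * u = xbm _ * xabm _ * x2abm _ := Subtype.ext e
  have : u = xam a * (xam (-a) * u) := by
    rw [← mul_assoc, ← xam_add, add_neg_cancel, xam_zero, one_mul]
  rw [this, e']
  exact H.mul_mem (ha _) (H.mul_mem (H.mul_mem (hb _) (hab _)) (h2ab _))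


theorem core4_surjective [Fintype F]
    (Ψ : P →* symplecticGroup (Fin 2) F)
    (hΨa : ∀ a : F, Ψ (D.φa (ofAdd a)) = xam a) (hΨb : ∀ b : F, Ψ (D.φb (ofAdd b)) = xbm b)
    (hΨ1 : Ψ D.h1 = dm D.ω 1) (hΨ2 : Ψ D.h2 = dm 1 D.ω)
    (hΨna : Ψ D.na = nam) (hΨnb : Ψ D.nb = nbm) : Function.Surjective Ψ := by
  have hdm : ∀ s t : Fˣ, dm s t ∈ Ψ.range := by
    intro s t
    obtain ⟨i, rfl⟩ := Subgroup.mem_zpowers_iff.mp (D.hω s)
    obtain ⟨j, rfl⟩ := Subgroup.mem_zpowers_iff.mp (D.hω t)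
    exact ⟨D.tor i j, Psi_tor D Ψ hΨ1 hΨ2 i j⟩
  have hna : nam ∈ Ψ.range := ⟨D.na, hΨna⟩
  have hnb : nbm ∈ Ψ.range := ⟨D.nb, hΨnb⟩
  have htor : torus 1 F ≤ Ψ.range := by
    rintro _ ⟨d, rfl⟩
    show diagSp d ∈ Ψ.range
    rw [diagSp_eq]
    exact hdm _ _
  have hN : Nsub 1 F ≤ Ψ.range := by
    refine sup_le ((Subgroup.closure_le _).mpr ?_) htor
    rintro s (⟨i, rfl⟩ | rfl)
    · have hi : i = 0 := Subsingleton.elim _ _
      subst hi
      show sS 0 ∈ Ψ.range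
      rw [sS_eq]
      exact Ψ.range.mul_mem hna (hdm _ _)
    · show sL ∈ Ψ.range
      rw [sL_eq]
      exact Ψ.range.mul_mem hnb (hdm _ _)
  have hB : borel 2 F ≤ Ψ.range := by
    intro b hb
    obtain ⟨u, hu, h, hh, rfl⟩ := borel_eq_mul (n := 1) hb
    refine Ψ.range.mul_mem ?_ (htor hh)
    exact uni_mem Ψ.range (fun a => ⟨_, hΨa a⟩) (fun a => ⟨_, hΨb a⟩)
      (fun a => ⟨_, Psi_xs1 D Ψ hΨa hΨna hΨnb a⟩) (fun a => ⟨_, Psi_xl3 D Ψ hΨb hΨna hΨnb a⟩) hu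
  have htop : Ψ.range = ⊤ := by
    rw [eq_top_iff, ← borel_sup_Nsub (n := 1) (F := F)]
    exact sup_le hB hN
  exact MonoidHom.range_eq_top.mp htop

end CORE4

/-! ## piece CORE4 -/
theorem core4 {F : Type*} [Field F] [Finite F] {P : Type*} [Group P] (D : C2Data F P)
    (hC : D.Comm)
    (hform : ∀ g : P, ∃ b ∈ D.borelSet, ∃ n ∈ D.normSet, ∃ b' ∈ D.borelSet, g = b * n * b')
    (hker : ∀ i j : ℤ, D.ω ^ i = 1 → D.ω ^ j = 1 → D.tor i j = 1)
    (Ψ : P →* Matrix.symplecticGroup (Fin 2) F)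
    (hΨa : ∀ a : F, Ψ (D.φa (ofAdd a)) = xam a) (hΨb : ∀ b : F, Ψ (D.φb (ofAdd b)) = xbm b)
    (hΨ1 : Ψ D.h1 = dm D.ω 1) (hΨ2 : Ψ D.h2 = dm 1 D.ω)
    (hΨna : Ψ D.na = nam) (hΨnb : Ψ D.nb = nbm) : Function.Bijective Ψ := by
  cases nonempty_fintype F
  exact ⟨CORE4.core4_injective D hC hform hker Ψ hΨa hΨb hΨ1 hΨ2 hΨna hΨnb,
    CORE4.core4_surjective D Ψ hΨa hΨb hΨ1 hΨ2 hΨna hΨnb⟩

end Cfsg.Agent.Helper21.S2293
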