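import Mathlib
import Cfsg.Prelude.Def_Classical
import Cfsg.Agent.Helper8.MatBNDefs
import Cfsg.Agent.Helper8.S2546Defs
import Cfsg.Agent.Helper17.S2547Defs

set_option autoImplicit false
open scoped Matrix

/-! S2547 piece QFJ (helper12): the quadratic form of `hJ id`. -/

namespace Cfsg.Agent.S2547P

open Cfsg.Agent.MatBN Cfsg.Agent.S2546P

variable {K : Type*} [Field K]

namespace QFJ

/-- the antidiagonal Gram matrix -/
def Jm (n : ℕ) : Matrix (Fin n) (Fin n) K := Matrix.of fun i j => if j = i.rev then 1 else 0

theorem toBilin_apply (n : ℕ) (u v : Fin n → K) :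
    Matrix.toBilin' (Jm (K := K) n) u v = hJ (RingHom.id K) n u v := by
  rw [Matrix.toBilin'_apply', hJ]
  rw [dotProduct]
  apply Finset.sum_congr rfl
  intro i _
  congr 1
  rw [Matrix.mulVec, dotProduct]
  simp only [Jm, Matrix.of_apply, RingHom.id_apply]
  rw [Finset.sum_eq_single i.rev]
  · simp
  · intro b _ hb
    simp [hb]
  · intro h; exact absurd (Finset.mem_univ _) h

theorem hJ_comm (n : ℕ) (u v : Fin n → K) :
    hJ (RingHom.id K) n u v = hJ (RingHom.id K) n v u := by
  simp only [hJ, RingHom.id_apply]
  rw [← Equiv.sum_comp Fin.revPerm]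
  apply Finset.sum_congr rfl
  intro i _
  simp [Fin.revPerm_apply, mul_comm]

theorem hJ_single (n : ℕ) (u : Fin n → K) (i : Fin n) :
    hJ (RingHom.id K) n u (Pi.single i.rev 1) = u i := by
  simp only [hJ, RingHom.id_apply]
  rw [Finset.sum_eq_single i]
  · simp
  · intro b _ hb
    have : b.rev ≠ i.rev := fun h => hb (Fin.rev_injective h)
    simp [Pi.single_apply, this]
  · intro h; exact absurd (Finset.mem_univ _) h

end QFJ

open QFJ in
theorem exists_quadForm (h2 : (2 : K) ≠ 0) (n : ℕ) :
    ∃ Q : QuadraticForm K (Fin n → K), (∀ v, Q v = hJ (RingHom.id K) n v v) ∧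
      (QuadraticMap.polarBilin Q).Nondegenerate := by
  refine ⟨(Matrix.toBilin' (Jm (K := K) n)).toQuadraticMap, ?_, ?_⟩
  · intro v
    rw [LinearMap.BilinMap.toQuadraticMap_apply, toBilin_apply]
  · have hpol : ∀ u v, QuadraticMap.polarBilin
        ((Matrix.toBilin' (Jm (K := K) n)).toQuadraticMap) u v =
        2 * hJ (RingHom.id K) n u v := by
      intro u v
      rw [QuadraticMap.polarBilin_apply_apply, LinearMap.BilinMap.polar_toQuadraticMap,
        toBilin_apply, toBilin_apply, hJ_comm n v u]
      ring
    constructor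
    · intro u hu
      funext i
      have := hu (Pi.single i.rev 1)
      rw [hpol, hJ_single] at this
      simpa [h2] using this
    · intro u hu
      funext i
      have := hu (Pi.single i.rev 1)
      rw [hpol, hJ_comm, hJ_single] at this
      simpa [h2] using this

end Cfsg.Agent.S2547P
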