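import Mathlib
import Cfsg.Prelude.Def_Classical
import Cfsg.Prelude.Def_ClassicalGeometry
import Cfsg.Agent.Helper8.MatBNDefs
import Cfsg.Agent.Helper8.S2546Defs
import Cfsg.Agent.Helper17.S2547Defs
import Cfsg.Agent.Helper28.CartanDieudonne
import Cfsg.Agent.Helper12.S2547QFJ

set_option autoImplicit false
open scoped Matrix

/-! S2547 piece REFLSO (helper12): minus a reflection is an involution of `SO(J)` (`n` odd). -/

namespace Cfsg.Agent.S2547P

open Cfsg.Agent.MatBN Cfsg.Agent.S2546P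

variable {K : Type*} [Field K]

namespace REFLSO

theorem hJ_add_left (n : ℕ) (u u' v : Fin n → K) :
    hJ (RingHom.id K) n (u + u') v = hJ (RingHom.id K) n u v + hJ (RingHom.id K) n u' v := by
  simp only [hJ, RingHom.id_apply, Pi.add_apply, add_mul, Finset.sum_add_distrib]

theorem hJ_add_right (n : ℕ) (u v v' : Fin n → K) :
    hJ (RingHom.id K) n u (v + v') = hJ (RingHom.id K) n u v + hJ (RingHom.id K) n u v' := by
  simp only [hJ, RingHom.id_apply, Pi.add_apply, mul_add, Finset.sum_add_distrib]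

theorem hJ_neg_neg (n : ℕ) (u v : Fin n → K) :
    hJ (RingHom.id K) n (-u) (-v) = hJ (RingHom.id K) n u v := by
  simp only [hJ, RingHom.id_apply, Pi.neg_apply, neg_mul_neg]

/-- the polar form of a quadratic form with `Q v = hJ v v` is `2 hJ` -/
theorem polar_eq (n : ℕ) (Q : QuadraticForm K (Fin n → K))
    (hQ : ∀ v, Q v = hJ (RingHom.id K) n v v) (u v : Fin n → K) :
    QuadraticMap.polar ⇑Q u v = 2 * hJ (RingHom.id K) n u v := by
  rw [QuadraticMap.polar, hQ, hQ, hQ, hJ_add_left, hJ_add_right, hJ_add_right,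
    QFJ.hJ_comm n v u]
  ring

/-- a `Q`-isometry preserves `hJ` -/
theorem hJ_pres (h2 : (2 : K) ≠ 0) (n : ℕ) (Q : QuadraticForm K (Fin n → K))
    (hQ : ∀ v, Q v = hJ (RingHom.id K) n v v) (M : Matrix (Fin n) (Fin n) K)
    (hM : ∀ x, Q (M *ᵥ x) = Q x) (u v : Fin n → K) :
    hJ (RingHom.id K) n (M *ᵥ u) (M *ᵥ v) = hJ (RingHom.id K) n u v := by
  have h := Cfsg.Agent.Helper28.polar_mulVec Q hM u v
  rw [polar_eq n Q hQ, polar_eq n Q hQ] at h
  exact mul_left_cancel₀ h2 h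

/-- an `hJ`-isometry of determinant one, as an element of `SO(J)` -/
theorem exists_SOJ (n : ℕ) (M : Matrix (Fin n) (Fin n) K) (hdet : M.det = 1)
    (hM : ∀ u v, hJ (RingHom.id K) n (M *ᵥ u) (M *ᵥ v) = hJ (RingHom.id K) n u v) :
    ∃ y : SOJ K n, rhoO K n y = M := by
  refine ⟨⟨⟨M, hdet⟩, ?_⟩, ?_⟩
  · intro u v
    exact hM u v
  · rfl

theorem rhoO_injective (n : ℕ) : Function.Injective (rhoO K n) := by
  intro a b h
  apply Subtype.ext
  apply Subtype.ext
  exact h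

end REFLSO

open REFLSO in
theorem exists_neg_refl (h2 : (2 : K) ≠ 0) (n : ℕ) (hn : n % 2 = 1)
    (Q : QuadraticForm K (Fin n → K)) (hQ : ∀ v, Q v = hJ (RingHom.id K) n v v)
    (v : Fin n → K) (hv : Q v ≠ 0) :
    ∃ y : SOJ K n, rhoO K n y = -Cfsg.reflectionMatrix (⇑Q) v ∧ y * y = 1 := by
  have hodd : Odd n := Nat.odd_iff.mpr hn
  have hdet : (-Cfsg.reflectionMatrix (⇑Q) v).det = 1 := by
    rw [Matrix.det_neg, Cfsg.Agent.Helper28.refl_det Q hv, Fintype.card_fin, hodd.neg_one_pow]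
    ring
  have hpres : ∀ u w, hJ (RingHom.id K) n ((-Cfsg.reflectionMatrix (⇑Q) v) *ᵥ u)
      ((-Cfsg.reflectionMatrix (⇑Q) v) *ᵥ w) = hJ (RingHom.id K) n u w := by
    intro u w
    rw [Matrix.neg_mulVec, Matrix.neg_mulVec, hJ_neg_neg]
    exact hJ_pres h2 n Q hQ _ (Cfsg.Agent.Helper28.refl_pres Q hv) u w
  obtain ⟨y, hy⟩ := exists_SOJ n _ hdet hpres
  refine ⟨y, hy, ?_⟩
  apply rhoO_injective n
  rw [map_mul, hy, map_one, neg_mul_neg, Cfsg.Agent.Helper28.refl_sq Q hv]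

end Cfsg.Agent.S2547P
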