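import Mathlib
import Cfsg.Prelude.Def_Classical
import Cfsg.Prelude.Def_ClassicalGeometry
import Cfsg.Agent.Helper8.MatBNDefs
import Cfsg.Agent.Helper8.S2546Defs
import Cfsg.Agent.Helper17.S2547Defs
import Cfsg.Agent.Helper28.CartanDieudonne
import Cfsg.Agent.Helper12.S2547QFJ
import Cfsg.Agent.Helper12.S2547REFLSO
import Cfsg.Agent.Helper24.S2547INVSQ
import Cfsg.Agent.Helper25.S2546PGRP

set_option autoImplicit false
open scoped Matrix

/-! S2547 pieces CDSQ + ODDN (helper12): squares and unipotent elements of `SO(J)` (`n` odd)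
lie in the commutator subgroup. -/

namespace Cfsg.Agent.S2547P

open Cfsg.Agent.MatBN Cfsg.Agent.S2546P

variable {K : Type*} [Field K]

namespace CDSQ

open Cfsg.Agent.Helper28 in
/-- a product of reflections is, up to sign, the matrix of a product of involutions of `SO(J)` -/
theorem exists_list (h2 : (2 : K) ≠ 0) (n : ℕ) (hn : n % 2 = 1)
    (Q : QuadraticForm K (Fin n → K)) (hQ : ∀ v, Q v = hJ (RingHom.id K) n v v)
    (L : List {v : Fin n → K // Q v ≠ 0}) :
    ∃ L' : List (SOJ K n), (∀ y ∈ L', y * y = 1) ∧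
      rhoO K n L'.prod = (-1 : K) ^ L.length • reflProd Q L := by
  induction L with
  | nil =>
    refine ⟨[], by simp, ?_⟩
    simp [reflProd]
  | cons a L ih =>
    obtain ⟨L', hL', hprod⟩ := ih
    obtain ⟨y, hy, hyy⟩ := exists_neg_refl h2 n hn Q hQ a.1 a.2
    refine ⟨y :: L', ?_, ?_⟩
    · intro z hz
      rcases List.mem_cons.mp hz with rfl | hz
      · exact hyy
      · exact hL' z hz
    · rw [List.prod_cons, map_mul, hy, hprod]
      simp only [reflProd, List.map_cons, List.prod_cons, List.length_cons]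
      rw [pow_succ, Matrix.mul_smul, Matrix.neg_mul, mul_neg_one, neg_smul, smul_neg]

end CDSQ

open Cfsg.Agent.Helper28 in
theorem sq_mem_commutator (h2 : (2 : K) ≠ 0) (n : ℕ) (hn : n % 2 = 1) (g : SOJ K n) :
    g * g ∈ commutator (SOJ K n) := by
  obtain ⟨Q, hQ, hnd⟩ := exists_quadForm h2 n
  have hpres : ∀ x, Q (rhoO K n g *ᵥ x) = Q x := by
    intro x
    rw [hQ, hQ]
    exact g.2 x x
  obtain ⟨L, hL⟩ := cartan_dieudonne Q h2 hnd (rhoO K n g) hpres
  have hdet : (rhoO K n g).det = 1 := g.1.2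
  have hlen : (-1 : K) ^ L.length = 1 := by
    rw [← reflProd_det Q L, ← hL, hdet]
  obtain ⟨L', hL', hprod⟩ := CDSQ.exists_list h2 n hn Q hQ L
  rw [hlen, one_smul, ← hL] at hprod
  have hg : g = L'.prod := (REFLSO.rhoO_injective n hprod).symm
  rw [hg]
  exact sq_mem_commutator_of_involutions L' hL'

theorem uni_mem_commutator (p : ℕ) [Fact p.Prime] [CharP K p] (hp : p ≠ 2) (n : ℕ)
    (hn : n % 2 = 1) (x : SOJ K n) (hx : IsUni (rhoO K n x)) : x ∈ commutator (SOJ K n) := by
  have h2 : (2 : K) ≠ 0 := by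
    intro h
    have h' : ((2 : ℕ) : K) = 0 := by exact_mod_cast h
    rw [CharP.cast_eq_zero_iff K p] at h'
    have := (Nat.prime_dvd_prime_iff_eq (Fact.out : p.Prime) Nat.prime_two).mp h'
    exact hp this
  have hpow : x ^ (p ^ n) = 1 := by
    apply REFLSO.rhoO_injective n
    rw [map_pow, map_one]
    exact MatBN.PGRP.pow_eq_one p (rhoO K n x) hx
  have hodd : Odd (p ^ n) := by
    apply Odd.pow
    rcases (Fact.out : p.Prime).eq_two_or_odd' with h | h
    · exact absurd h hp
    · exact h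
  obtain ⟨k, hk⟩ := hodd
  have hx2 : x = (x * x) ^ (k + 1) := by
    rw [← pow_two, ← pow_mul]
    have : 2 * (k + 1) = p ^ n + 1 := by omega
    rw [this, pow_succ, hpow, one_mul]
  rw [hx2]
  exact Subgroup.pow_mem _ (sq_mem_commutator h2 n hn x) _

end Cfsg.Agent.S2547P
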