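import Cfsg.Agent.Helper17.S2558GDefs
import Cfsg.Agent.S0292

set_option autoImplicit false

/-! S2560 chapter (S), piece POLARODD (driver helper17; helper12): the odd-dimensional standard quadratic
form as a `QuadraticForm` together with a polar form `B = 2⁻¹ • polarBilin Q`. -/

namespace Cfsg.Agent.S2560P

open Cfsg.Agent.S2558P

theorem POLARODD.exists_polar {F : Type*} [Field F] (h2 : (2 : F) ≠ 0) (n : ℕ) :
    ∃ (Q : QuadraticForm F (Unit ⊕ (Fin n ⊕ Fin n) → F))
      (B : LinearMap.BilinForm F (Unit ⊕ (Fin n ⊕ Fin n) → F)),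
      ⇑Q = Cfsg.quadFormOdd n F ∧ IsPolar ⇑Q B := by
  refine ⟨Cfsg.Agent.S2614.QfOdd n F,
    (2 : F)⁻¹ • QuadraticMap.polarBilin (Cfsg.Agent.S2614.QfOdd n F),
    Cfsg.Agent.S2614.QfOdd_coe n, ?_, ?_, ?_⟩
  · intro u v
    simp only [LinearMap.smul_apply, QuadraticMap.polarBilin_apply_apply]
    rw [QuadraticMap.polar_comm]
  · intro m _ hm
    have hnd := Cfsg.Agent.S0292.QfOdd_nondeg h2 (F := F) n
    by_contra hcon
    push Not at hcon
    apply hm
    apply hnd.1
    intro y
    have := hcon y trivial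
    simp only [LinearMap.smul_apply, smul_eq_mul] at this
    rcases mul_eq_zero.mp this with h | h
    · exact absurd h (inv_ne_zero h2)
    · exact h
  · intro v
    simp only [LinearMap.smul_apply, QuadraticMap.polarBilin_apply_apply, smul_eq_mul,
      QuadraticMap.polar_self]
    rw [two_smul, ← two_mul, ← mul_assoc, inv_mul_cancel₀ h2, one_mul]

end Cfsg.Agent.S2560P
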