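import Mathlib
import Cfsg.Agent.Helper12.S3000PKGco

/-! S3000, board `s3000pieces`: the counting facts behind TOOLb, for an `SL2Pkg` (no `Setup` needed):
`|V| = |F|² |C_V(E)|`, and `C_V(A) = ψ⁻¹(F e₁)` as soon as `|A| |C_V(A)| = |V|` (which is `F3_card`). -/

set_option autoImplicit false

namespace Cfsg.Agent.S3000P

open Cfsg.Agent.S2789P Cfsg.Agent.S2999P
open scoped commutatorElement
open Matrix

variable {G : Type*} [Group G] [Finite G] {V A E : Subgroup G} {F : Type} [Field F] [Fintype F]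
  {ρ : ↥E ≃* SpecialLinearGroup (Fin 2) F} {ψ : ↥V →* Multiplicative (Fin 2 → F)}

/-- the second coordinate as a homomorphism -/
def cntSnd (ψ : ↥V →* Multiplicative (Fin 2 → F)) : ↥V →* Multiplicative F :=
  (AddMonoidHom.toMultiplicative (Pi.evalAddMonoidHom (fun _ : Fin 2 => F) 1)).comp ψ

theorem cntSnd_apply (v : ↥V) : Multiplicative.toAdd (cntSnd ψ v) = Multiplicative.toAdd (ψ v) 1 := rfl

namespace SL2Pkg

variable (K : SL2Pkg V A E F ρ ψ)
include K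

/-- `|V| = |F|² |C_V(E)|` -/
theorem cnt_card_V : Nat.card ↥V = Fintype.card F ^ 2 * Nat.card ↥(fixV V E) := by
  have h1 : Nat.card ↥V = Nat.card (↥V ⧸ ψ.ker) * Nat.card ↥ψ.ker := Subgroup.card_eq_card_quotient_mul_card_subgroup _
  have h2 : Nat.card (↥V ⧸ ψ.ker) = Fintype.card F ^ 2 := by
    rw [Nat.card_congr (QuotientGroup.quotientKerEquivOfSurjective ψ K.surj).toEquiv]
    rw [Nat.card_congr (Multiplicative.toAdd : Multiplicative (Fin 2 → F) ≃ (Fin 2 → F)), Nat.card_eq_fintype_card,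
      Fintype.card_fun, Fintype.card_fin]
  have h3 : Nat.card ↥ψ.ker = Nat.card ↥(fixV V E) := by
    have : ψ.ker = (fixV V E).subgroupOf V := by
      ext v
      rw [MonoidHom.mem_ker, Subgroup.mem_subgroupOf]
      exact K.ker v
    rw [this]
    exact Nat.card_congr (Subgroup.subgroupOfEquivOfLe (fix_le V E)).toEquiv
  rw [h1, h2, h3]

theorem cntSnd_surj : Function.Surjective (cntSnd ψ) := by
  intro x
  obtain ⟨v, hv⟩ := K.surj (Multiplicative.ofAdd (fun _ => Multiplicative.toAdd x))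
  refine ⟨v, ?_⟩
  apply Multiplicative.toAdd.injective
  rw [cntSnd_apply, hv]
  rfl

/-- `C_V(A) = ψ⁻¹(F e₁)`, by counting -/
theorem cnt_mem_fixA (hc : Nat.card ↥A * Nat.card ↥(fixV V A) = Nat.card ↥V) {v : G} (hv : v ∈ V) :
    v ∈ fixV V A ↔ pco ψ v 1 = 0 := by
  refine ⟨fun h => K.pco_of_mem_fixA h, fun h => ?_⟩
  -- the kernel of the second coordinate
  have h1 : Nat.card ↥V = Nat.card (↥V ⧸ (cntSnd ψ).ker) * Nat.card ↥(cntSnd ψ).ker :=
    Subgroup.card_eq_card_quotient_mul_card_subgroup _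
  have h2 : Nat.card (↥V ⧸ (cntSnd ψ).ker) = Fintype.card F := by
    rw [Nat.card_congr (QuotientGroup.quotientKerEquivOfSurjective (cntSnd ψ) K.cntSnd_surj).toEquiv]
    rw [Nat.card_congr (Multiplicative.toAdd : Multiplicative F ≃ F), Nat.card_eq_fintype_card]
  have hle : (fixV V A).subgroupOf V ≤ (cntSnd ψ).ker := by
    intro w hw
    rw [Subgroup.mem_subgroupOf] at hw
    rw [MonoidHom.mem_ker]
    apply Multiplicative.toAdd.injective
    rw [cntSnd_apply]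
    have := K.pco_of_mem_fixA hw
    rw [pco_of_mem w.2] at this
    exact this
  have h3 : Nat.card ↥((fixV V A).subgroupOf V) = Nat.card ↥(fixV V A) :=
    Nat.card_congr (Subgroup.subgroupOfEquivOfLe (fix_le V A)).toEquiv
  have hpos : 0 < Fintype.card F := Fintype.card_pos
  have h4 : Nat.card ↥(cntSnd ψ).ker ≤ Nat.card ↥((fixV V A).subgroupOf V) := by
    rw [h3]
    rw [h2, ← hc, ← K.card] at h1
    exact le_of_eq (Nat.eq_of_mul_eq_mul_left hpos h1).symm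
  have h5 : (fixV V A).subgroupOf V = (cntSnd ψ).ker := Subgroup.eq_of_le_of_card_ge hle h4
  have h6 : (⟨v, hv⟩ : ↥V) ∈ (cntSnd ψ).ker := by
    rw [MonoidHom.mem_ker]
    apply Multiplicative.toAdd.injective
    rw [cntSnd_apply]
    rw [pco_of_mem hv] at h
    exact h
  rw [← h5, Subgroup.mem_subgroupOf] at h6
  exact h6

/-- `U_{gAg⁻¹} = ψ⁻¹(F g e₁)`, by counting -/
theorem cnt_mem_fix_cj (hc : Nat.card ↥A * Nat.card ↥(fixV V A) = Nat.card ↥V) (g : SpecialLinearGroup (Fin 2) F)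
    {v : G} (hv : v ∈ V) :
    v ∈ fixV V (cjs (pel ρ g) A) ↔
      ((g⁻¹ : SpecialLinearGroup (Fin 2) F) : Matrix (Fin 2) (Fin 2) F).mulVec (pco ψ v) 1 = 0 := by
  have hgN : pel ρ g ∈ Subgroup.normalizer (V : Set G) := K.hEV (pel_mem g)
  rw [cj_fix A hgN, cj_mem]
  have h1 : (pel ρ g)⁻¹ * v * pel ρ g = pel ρ g⁻¹ * v * (pel ρ g⁻¹)⁻¹ := by rw [pel_inv, inv_inv]
  rw [h1, K.cnt_mem_fixA hc (K.conj_mem_V (pel_mem _) hv), K.pco_pel_conj g⁻¹ hv]

/-- the subgroups `U_{eAe⁻¹}`, `e ∈ E`, cover `V` -/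
theorem cnt_cover (hc : Nat.card ↥A * Nat.card ↥(fixV V A) = Nat.card ↥V) {v : G} (hv : v ∈ V) :
    ∃ g : SpecialLinearGroup (Fin 2) F, v ∈ fixV V (cjs (pel ρ g) A) := by
  by_cases h0 : pco ψ v = 0
  · refine ⟨1, ?_⟩
    rw [K.cnt_mem_fix_cj hc 1 hv, h0, Matrix.mulVec_zero]
    rfl
  · obtain ⟨g₀, hg₀⟩ := PKG_aux_sl2_trans (pco ψ v) h0
    refine ⟨g₀⁻¹, ?_⟩
    rw [K.cnt_mem_fix_cj hc g₀⁻¹ hv, inv_inv, hg₀]
    rfl

end SL2Pkg

end Cfsg.Agent.S3000P
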