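import Mathlib
import Cfsg.Agent.Helper12.S3222Defs
import Cfsg.Agent.S0111

/-!
# S3222, piece FUS: the Thompson transfer step

From the local data and the fusion package: `G` has a normal subgroup of index 2 not containing `t`.
-/

set_option autoImplicit false

namespace Cfsg.Agent.S3222P

/-- conjugate elements have centralisers of the same order -/
theorem FUS_aux_card_centralizer {G : Type*} [Group G] {x y : G} (h : IsConj x y) :
    Nat.card ↥(Subgroup.centralizer ({x} : Set G)) =
      Nat.card ↥(Subgroup.centralizer ({y} : Set G)) := by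
  obtain ⟨c, hc⟩ := isConj_iff.mp h
  refine Nat.card_congr
    { toFun := fun g => ⟨c * g * c⁻¹, ?_⟩
      invFun := fun g => ⟨c⁻¹ * g * c, ?_⟩
      left_inv := fun g => by ext; simp [mul_assoc]
      right_inv := fun g => by ext; simp [mul_assoc] }
  · have hg := Subgroup.mem_centralizer_singleton_iff.mp g.2
    rw [Subgroup.mem_centralizer_singleton_iff, ← hc]
    calc c * ↑g * c⁻¹ * (c * x * c⁻¹) = c * (↑g * x) * c⁻¹ := by group
      _ = c * (x * ↑g) * c⁻¹ := by rw [hg]
      _ = c * x * c⁻¹ * (c * ↑g * c⁻¹) := by group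
  · have hg : (g : G) * (c * x * c⁻¹) = (c * x * c⁻¹) * (g : G) := by
      rw [hc]; exact Subgroup.mem_centralizer_singleton_iff.mp g.2
    rw [Subgroup.mem_centralizer_singleton_iff]
    calc c⁻¹ * ↑g * c * x = c⁻¹ * (↑g * (c * x * c⁻¹)) * c := by group
      _ = c⁻¹ * ((c * x * c⁻¹) * ↑g) * c := by rw [hg]
      _ = x * (c⁻¹ * ↑g * c) := by group

theorem FUS_aux_orderOf_conj {G : Type*} [Group G] (g x : G) :
    orderOf (g * x * g⁻¹) = orderOf x := by
  have := MulEquiv.orderOf_eq (MulAut.conj g) x
  simpa [MulAut.conj_apply] using this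

theorem FUS_aux_sq {G : Type*} [Group G] {x : G} (h : orderOf x = 2) : x * x = 1 := by
  have := pow_orderOf_eq_one x
  rwa [h, pow_two] at this

theorem FUS_aux_ne_one {G : Type*} [Group G] {x : G} (h : orderOf x = 2) : x ≠ 1 := by
  rintro rfl
  rw [orderOf_one] at h
  exact absurd h (by norm_num)

theorem FUS {G : Type*} [Group G] [Finite G] (t : G) (T : Sylow 2 G) (z a r : G)
    (L : Local t T) (F : Fus t T z a r) :
    ∃ M : Subgroup G, M.Normal ∧ M.index = 2 ∧ t ∉ M := by
  classical
  by_contra hno
  -- basic relations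
  have ht2 : t * t = 1 := FUS_aux_sq L.ht
  have hz2 : z * z = 1 := FUS_aux_sq F.hz
  have ha2 : a * a = 1 := FUS_aux_sq F.ha
  have hz1 : z ≠ 1 := FUS_aux_ne_one F.hz
  have ht1 : t ≠ 1 := FUS_aux_ne_one L.ht
  have hzc : ∀ y ∈ (T : Subgroup G), y * z = z * y := by
    intro y hy
    rw [← F.hCz] at hy
    exact Subgroup.mem_centralizer_singleton_iff.mp hy
  have hainv : a⁻¹ = a := inv_eq_of_mul_eq_one_right ha2
  have hzinv : z⁻¹ = z := inv_eq_of_mul_eq_one_right hz2
  have htinv : t⁻¹ = t := inv_eq_of_mul_eq_one_right ht2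
  have haz : a * z = z * a := hzc a F.haT
  have htz : t * z = z * t := hzc t L.htT
  have hrt : r * t = t * r := L.htc r F.hrT
  have hat : a * t = t * a := L.htc a F.haT
  have hraz : r * a * r⁻¹ = a * z := by
    have h1 : z * a = r * a * r⁻¹ := by
      rw [F.hcomm]; group
    rw [← h1, haz]
  -- cardinalities of centralisers
  have hcz : Nat.card ↥(Subgroup.centralizer ({z} : Set G)) = 16 := by
    rw [F.hCz]; exact L.cardT
  have hnzt : ∀ x : G, IsConj t x → ¬ IsConj z x := by
    intro x h1 h2
    have h3 := FUS_aux_card_centralizer (h2.trans h1.symm)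
    rw [hcz, L.cardC] at h3
    exact absurd h3 (by norm_num)
  -- the two applications of Thompson transfer
  have key : ∀ (Q : Subgroup G) (b : G), Q ≤ (T : Subgroup G) → Q.relIndex (T : Subgroup G) = 2 →
      t ∉ Q → (∀ x ∈ Q, orderOf x = 2 → IsConj z x ∨ IsConj b x) → IsConj t b := by
    intro Q b hQT hQi htQ hQinv
    rcases Cfsg.Agent.S0111.result T Q hQT hQi t L.ht L.htT htQ with h | ⟨g, hg⟩
    · exact absurd h hno
    · have h1 : IsConj t (g * t * g⁻¹) := isConj_iff.mpr ⟨g, rfl⟩
      have h2 : orderOf (g * t * g⁻¹) = 2 := by rw [FUS_aux_orderOf_conj, L.ht]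
      rcases hQinv _ hg h2 with h3 | h3
      · exact absurd h3 (hnzt _ h1)
      · exact h1.trans h3.symm
  obtain ⟨Q₁, hQ₁T, hQ₁i, htQ₁, hQ₁inv⟩ := F.hQ1
  obtain ⟨Q₂, hQ₂T, hQ₂i, htQ₂, hQ₂inv⟩ := F.hQ2
  have hta : IsConj t a := key Q₁ a hQ₁T hQ₁i htQ₁ hQ₁inv
  have htta : IsConj t (t * a) := key Q₂ (t * a) hQ₂T hQ₂i htQ₂ hQ₂inv
  have htaz : IsConj t (a * z) := hta.trans (isConj_iff.mpr ⟨r, hraz⟩)
  have httaz : IsConj t (t * a * z) := by
    refine htta.trans (isConj_iff.mpr ⟨r, ?_⟩)
    calc r * (t * a) * r⁻¹ = (r * t) * a * r⁻¹ := by group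
      _ = t * (r * a * r⁻¹) := by rw [hrt]; group
      _ = t * a * z := by rw [hraz]; group
  obtain ⟨A, hAmem, hAcard, hAnorm⟩ := F.hA
  -- members of `A` conjugate to `z`
  have hAz : ∀ w ∈ A, IsConj z w → w = z ∨ w = t * z := by
    intro w hw hzw
    rcases (hAmem w).mp hw with h | h | h | h | h | h | h | h
    · exfalso; rw [h] at hzw
      exact hz1 (isConj_one_right.mp hzw.symm)
    · exfalso; rw [h] at hzw; exact hnzt t (IsConj.refl t) hzw
    · exfalso; rw [h] at hzw; exact hnzt a hta hzw
    · exfalso; rw [h] at hzw; exact hnzt _ htaz hzw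
    · exact Or.inl h
    · exfalso; rw [h] at hzw; exact hnzt _ htta hzw
    · exfalso; rw [h] at hzw; exact hnzt _ httaz hzw
    · exact Or.inr h
  have hzA : z ∈ A := (hAmem z).mpr (by tauto)
  have htzA : t * z ∈ A := (hAmem (t * z)).mpr (by tauto)
  -- the normaliser of `A` lies in `T`
  have hN : ∀ g : G, (∀ x ∈ A, g * x * g⁻¹ ∈ A) → g ∈ (T : Subgroup G) := by
    intro g hg
    have h1 : IsConj z (g * z * g⁻¹) := isConj_iff.mpr ⟨g, rfl⟩
    rcases hAz _ (hg z hzA) h1 with h2 | h2
    · rw [← F.hCz, Subgroup.mem_centralizer_singleton_iff]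
      calc g * z = g * z * g⁻¹ * g := by group
        _ = z * g := by rw [h2]
    · have h3 : IsConj z (g * (t * z) * g⁻¹) := by
        have h4 : IsConj z (t * z) := by rw [← h2]; exact h1
        exact h4.trans (isConj_iff.mpr ⟨g, rfl⟩)
      have h5 : g * (t * z) * g⁻¹ = z := by
        rcases hAz _ (hg _ htzA) h3 with h6 | h6
        · exact h6
        · exfalso
          have h7 : g * (t * z) * g⁻¹ = g * z * g⁻¹ := by rw [h6, h2]
          have h8 : t * z = z := by
            have := congrArg (fun y => g⁻¹ * y * g) h7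
            simpa [mul_assoc] using this
          apply ht1
          calc t = t * z * z⁻¹ := by group
            _ = z * z⁻¹ := by rw [h8]
            _ = 1 := by group
      have h9 : g * t * g⁻¹ = t := by
        calc g * t * g⁻¹ = (g * (t * z) * g⁻¹) * (g * z * g⁻¹) := by
              have : t = t * z * z := by rw [mul_assoc, hz2, mul_one]
              conv_lhs => rw [this]
              group
          _ = z * (t * z) := by rw [h5, h2]
          _ = t := by rw [htz, ← mul_assoc, hz2, one_mul]
      refine hAnorm g ?_ hg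
      calc g * t = g * t * g⁻¹ * g := by group
        _ = t * g := by rw [h9]
  -- `A` is contained in the centraliser of `a`
  have hACa : A ≤ Subgroup.centralizer ({a} : Set G) := by
    intro x hx
    rw [Subgroup.mem_centralizer_singleton_iff]
    rcases (hAmem x).mp hx with h | h | h | h | h | h | h | h <;> subst h
    · simp
    · exact hat.symm
    · rfl
    · rw [mul_assoc, ← haz, ← mul_assoc]
    · exact haz.symm
    · calc t * a * a = (a * t) * a := by rw [hat]
        _ = a * (t * a) := by group
    · calc t * a * z * a = t * a * (z * a) := by group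
        _ = t * a * (a * z) := by rw [haz]
        _ = (t * a) * a * z := by group
        _ = (a * t) * a * z := by rw [hat]
        _ = a * (t * a * z) := by group
    · calc t * z * a = t * (z * a) := by group
        _ = t * (a * z) := by rw [haz]
        _ = (t * a) * z := by group
        _ = (a * t) * z := by rw [hat]
        _ = a * (t * z) := by group
  -- a Sylow 2-subgroup of `C_G(a)` containing `A`
  have hca : Nat.card ↥(Subgroup.centralizer ({a} : Set G)) = 48 := by
    rw [← FUS_aux_card_centralizer hta, L.cardC]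
  have hA2 : IsPGroup 2 ↥(A.subgroupOf (Subgroup.centralizer ({a} : Set G))) := by
    apply IsPGroup.of_card (n := 3)
    rw [Nat.card_congr (Subgroup.subgroupOfEquivOfLe hACa).toEquiv, hAcard]; norm_num
  obtain ⟨R', hR'⟩ := hA2.exists_le_sylow
  have hfact : (48 : ℕ).factorization 2 = 4 := by
    rw [Nat.factorization_def _ Nat.prime_two]
    have : (48 : ℕ) = 2 ^ 4 * 3 := by norm_num
    rw [this, padicValNat.mul (by norm_num) (by norm_num), padicValNat.prime_pow]
    simp [padicValNat.eq_zero_of_not_dvd]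
  have hR'card : Nat.card ↥(R' : Subgroup ↥(Subgroup.centralizer ({a} : Set G))) = 16 := by
    rw [R'.card_eq_multiplicity, hca, hfact]; norm_num
  set R : Subgroup G := (R' : Subgroup ↥(Subgroup.centralizer ({a} : Set G))).map
    (Subgroup.centralizer ({a} : Set G)).subtype with hR
  have hRcard : Nat.card ↥R = 16 := by
    rw [hR, Subgroup.card_map_of_injective (Subgroup.subtype_injective _), hR'card]
  have hRCa : R ≤ Subgroup.centralizer ({a} : Set G) := by
    rw [hR]; exact Subgroup.map_subtype_le _
  have hAR : A ≤ R := by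
    intro x hx
    rw [hR, Subgroup.mem_map]
    exact ⟨⟨x, hACa hx⟩, hR' (Subgroup.mem_subgroupOf.mpr hx), rfl⟩
  -- `A` has index 2 in `R`, hence is normal in `R`
  have hidx : (A.subgroupOf R).index = 2 := by
    have h1 := Subgroup.card_mul_index (A.subgroupOf R)
    rw [Nat.card_congr (Subgroup.subgroupOfEquivOfLe hAR).toEquiv, hAcard, hRcard] at h1
    omega
  have hnorm : (A.subgroupOf R).Normal := Subgroup.normal_of_index_eq_two hidx
  have hRT : R ≤ (T : Subgroup G) := by
    intro g hg
    apply hN
    intro x hx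
    have := hnorm.conj_mem ⟨x, hAR hx⟩ (Subgroup.mem_subgroupOf.mpr hx) ⟨g, hg⟩
    exact Subgroup.mem_subgroupOf.mp this
  have hRT' : R = (T : Subgroup G) := by
    apply Subgroup.eq_of_le_of_card_ge hRT
    rw [hRcard, L.cardT]
  -- so `r` centralises `a`
  have hra : r * a = a * r := by
    have : r ∈ Subgroup.centralizer ({a} : Set G) := hRCa (hRT' ▸ F.hrT)
    exact Subgroup.mem_centralizer_singleton_iff.mp this
  apply hz1
  rw [F.hcomm, hra]; group

end Cfsg.Agent.S3222P
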