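import Mathlib
import Cfsg.Agent.Helper12.S3222Defs

/-!
# S3222, piece NORM: normalising the isomorphism `C_G(t) ≃* Z₂ × S₄`

After composing with an inner automorphism of `Γ = Z₂ × S₄` the Sylow 2-subgroup `T` of `G` (which
lies in `C_G(t)`) corresponds to the standard Sylow 2-subgroup `C_Γ(ζ)`, `ζ = (1, (02)(13))`.
-/

set_option autoImplicit false

namespace Cfsg.Agent.S3222P

theorem NORM_aux_fact : (48 : ℕ).factorization 2 = 4 := by
  rw [Nat.factorization_def _ Nat.prime_two]
  have : (48 : ℕ) = 2 ^ 4 * 3 := by norm_num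
  rw [this, padicValNat.mul (by norm_num) (by norm_num), padicValNat.prime_pow]
  simp [padicValNat.eq_zero_of_not_dvd]

theorem NORM_aux_cardGam : Nat.card Gam = 48 := by
  simp [Nat.card_eq_fintype_card, Fintype.card_perm, Nat.factorial]

/-- the standard element `ζ = (1, (02)(13))` -/
def NORM_aux_zeta : Gam := (1, Equiv.swap 0 2 * Equiv.swap 1 3)

instance NORM_aux_dec :
    DecidablePred (· ∈ Subgroup.centralizer ({NORM_aux_zeta} : Set Gam)) :=
  fun _ => decidable_of_iff _ Subgroup.mem_centralizer_singleton_iff.symm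

theorem NORM_aux_cardSigma :
    Nat.card (Subgroup.centralizer ({NORM_aux_zeta} : Set Gam)) = 16 := by
  rw [Nat.card_eq_fintype_card, Fintype.card_subtype]
  decide

/-- the order of `T` -/
theorem NORM_aux_cardT {G : Type*} [Group G] [Finite G]
    (t : G) (T : Sylow 2 G)
    (htc : ∀ s ∈ (T : Subgroup G), s * t = t * s)
    (e : ↥(Subgroup.centralizer ({t} : Set G)) ≃* Gam) :
    Nat.card ↥(T : Subgroup G) = 16 := by
  have hTC : (T : Subgroup G) ≤ Subgroup.centralizer ({t} : Set G) := fun s hs =>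
    Subgroup.mem_centralizer_singleton_iff.mpr (htc s hs)
  have hC : Nat.card ↥(Subgroup.centralizer ({t} : Set G)) = 48 := by
    rw [Nat.card_congr e.toEquiv, NORM_aux_cardGam]
  have h1 : Nat.card ↥(T : Subgroup G) ∣ 48 := by
    rw [← hC]; exact Subgroup.card_dvd_of_le hTC
  have h2 : (48 : ℕ) ∣ Nat.card G := by
    rw [← hC]; exact Subgroup.card_subgroup_dvd_card _
  have h3 := T.card_eq_multiplicity
  set k := (Nat.card G).factorization 2 with hk
  have h4 : 2 ^ 4 ∣ Nat.card G := dvd_trans (by norm_num) h2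
  have hpos : Nat.card G ≠ 0 := Nat.card_pos.ne'
  have h5 : 4 ≤ k := (Nat.Prime.pow_dvd_iff_le_factorization Nat.prime_two hpos).mp h4
  rw [h3] at h1
  have h6 : k ≤ 4 := by
    have h7 : k ≤ (48 : ℕ).factorization 2 :=
      (Nat.Prime.pow_dvd_iff_le_factorization Nat.prime_two (by norm_num)).mp h1
    rw [NORM_aux_fact] at h7; exact h7
  have : k = 4 := le_antisymm h6 h5
  rw [h3, this]; norm_num

theorem NORM {G : Type*} [Group G] [Finite G]
    (t : G) (ht : orderOf t = 2) (T : Sylow 2 G) (htT : t ∈ (T : Subgroup G))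
    (htc : ∀ s ∈ (T : Subgroup G), s * t = t * s)
    (e : ↥(Subgroup.centralizer ({t} : Set G)) ≃* Gam) :
    ∃ e' : ↥(Subgroup.centralizer ({t} : Set G)) ≃* Gam,
      ∀ x : ↥(Subgroup.centralizer ({t} : Set G)), (x : G) ∈ (T : Subgroup G) ↔
        e' x * ((1, Equiv.swap 0 2 * Equiv.swap 1 3) : Gam) =
          ((1, Equiv.swap 0 2 * Equiv.swap 1 3) : Gam) * e' x := by
  classical
  have hcardT := NORM_aux_cardT t T htc e
  have hTC : (T : Subgroup G) ≤ Subgroup.centralizer ({t} : Set G) := fun s hs =>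
    Subgroup.mem_centralizer_singleton_iff.mpr (htc s hs)
  -- the image of `T` in `Γ`
  set S₁ : Subgroup Gam :=
    ((T : Subgroup G).subgroupOf (Subgroup.centralizer ({t} : Set G))).map e.toMonoidHom with hS₁
  have hS₁card : Nat.card ↥S₁ = 16 := by
    rw [hS₁, Subgroup.card_map_of_injective e.injective]
    rw [Nat.card_congr (Subgroup.subgroupOfEquivOfLe hTC).toEquiv, hcardT]
  have hexp : (2 : ℕ) ^ (Nat.card Gam).factorization 2 = 16 := by
    rw [NORM_aux_cardGam, NORM_aux_fact]; norm_num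
  let P₁ : Sylow 2 Gam := Sylow.ofCard S₁ (by rw [hS₁card, hexp])
  let P₂ : Sylow 2 Gam := Sylow.ofCard (Subgroup.centralizer ({NORM_aux_zeta} : Set Gam))
    (by rw [NORM_aux_cardSigma, hexp])
  obtain ⟨g, hg⟩ := MulAction.exists_smul_eq Gam P₁ P₂
  have hg' : ∀ y : Gam, y ∈ S₁ ↔ g * y * g⁻¹ ∈ Subgroup.centralizer ({NORM_aux_zeta} : Set Gam) := by
    intro y
    have h1 : ((g • P₁ : Sylow 2 Gam) : Subgroup Gam) = Subgroup.centralizer ({NORM_aux_zeta} : Set Gam) := by
      rw [hg]; rfl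
    rw [← h1, Sylow.coe_subgroup_smul, Subgroup.mem_pointwise_smul_iff_inv_smul_mem]
    have : (MulAut.conj g)⁻¹ • (g * y * g⁻¹) = y := by
      show (MulAut.conj g)⁻¹ (g * y * g⁻¹) = y
      simp [MulAut.conj_inv_apply, mul_assoc]
    rw [this]
    rfl
  refine ⟨e.trans (MulAut.conj g), fun x => ?_⟩
  have hx1 : (x : G) ∈ (T : Subgroup G) ↔ e x ∈ S₁ := by
    rw [hS₁, Subgroup.mem_map]
    constructor
    · intro hx
      exact ⟨x, Subgroup.mem_subgroupOf.mpr hx, rfl⟩
    · rintro ⟨y, hy, hyx⟩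
      have : y = x := e.injective hyx
      rw [← this]
      exact Subgroup.mem_subgroupOf.mp hy
  rw [hx1, hg', Subgroup.mem_centralizer_singleton_iff]
  rfl

end Cfsg.Agent.S3222P
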