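import Cfsg.Agent.Helper27.S5634BDefs
import Cfsg.Agent.Helper24.S5634BCMP
import Cfsg.Agent.Helper11.S5634BHMEM

set_option autoImplicit false
set_option linter.unusedSectionVars false
set_option linter.unusedVariables false

/-! # S5634, half `m ≥ 2` (driver helper27), piece B_NONSTAB: an element outside the stabiliser of the decomposition
maps some vector of some block outside every block. -/

namespace Cfsg.Agent.S5634P

open Matrix Cfsg.Agent.Helper28.SLMax
open scoped MatrixGroups

variable {F : Type*} [Field F] {n t m : ℕ} {D : Fin t → Submodule F (Fin n → F)}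

namespace NONSTAB

/-- a subspace contained in the union of the blocks lies in one block -/
theorem le_block (hD : Cfsg.Geo.IsMDecomposition m D) (W : Submodule F (Fin n → F))
    (hW : ∀ x ∈ W, ∃ c, x ∈ D c) : ∃ c, W ≤ D c := by
  classical
  have ht : 0 < t := lt_of_lt_of_le (by norm_num) hD.two_le
  by_cases h0 : ∀ x ∈ W, x = 0
  · refine ⟨⟨0, ht⟩, fun x hx => ?_⟩
    rw [h0 x hx]
    exact Submodule.zero_mem _
  · push Not at h0
    obtain ⟨w, hwW, hw0⟩ := h0
    obtain ⟨c₀, hwc₀⟩ := hW w hwW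
    refine ⟨c₀, fun x hx => ?_⟩
    obtain ⟨c₁, hxc₁⟩ := hW x hx
    by_cases h01 : c₁ = c₀
    · rw [← h01]; exact hxc₁
    · obtain ⟨c₂, hyc₂⟩ := hW (w + x) (W.add_mem hwW hx)
      -- the `c₀`-component of `w + x` is `w ≠ 0`, so `c₂ = c₀`
      have e0 : cmp D c₀ (w + x) = w := by
        rw [map_add, CMP.of_mem hD hwc₀, CMP.of_mem_ne hD hxc₁ h01, add_zero]
      have h20 : c₂ = c₀ := by
        by_contra h20
        rw [CMP.of_mem_ne hD hyc₂ h20] at e0
        exact hw0 e0.symm
      -- the `c₁`-component of `w + x` is `x`, and vanishes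
      have e1 : cmp D c₁ (w + x) = x := by
        rw [map_add, CMP.of_mem hD hxc₁, CMP.of_mem_ne hD hwc₀ (Ne.symm h01), zero_add]
      rw [h20] at hyc₂
      rw [CMP.of_mem_ne hD hyc₂ (Ne.symm h01)] at e1
      rw [← e1]
      exact Submodule.zero_mem _

/-- a block is not zero -/
theorem exists_ne_zero (hD : Cfsg.Geo.IsMDecomposition m D) (c : Fin t) : ∃ x ∈ D c, x ≠ 0 := by
  have h1 : 0 < Module.finrank F (D c) := by rw [hD.finrank_eq c]; exact hD.pos
  obtain ⟨x, hx⟩ := Module.finrank_pos_iff_exists_ne_zero.1 h1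
  refine ⟨x, x.2, fun h => hx (Subtype.ext h)⟩

end NONSTAB

/-- an element outside the stabiliser maps some vector of some block outside every block (a subspace contained in
the union of the independent `D c` lies in one of them; then use `HMEM.mem_stab_of_perm`) -/
theorem NONSTAB.exists_mixed (hD : Cfsg.Geo.IsMDecomposition m D) (g : GL (Fin n) F)
    (hg : g ∉ Cfsg.Geo.decompositionStabilizer D) :
    ∃ i, ∃ v ∈ D i, ∀ c, (g : Matrix (Fin n) (Fin n) F) *ᵥ v ∉ D c := by
  classical
  by_contra hcon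
  push Not at hcon
  apply hg
  -- every block goes into a block
  have hblock : ∀ i, ∃ c, ∀ x ∈ D i, (g : Matrix (Fin n) (Fin n) F) *ᵥ x ∈ D c := by
    intro i
    obtain ⟨c, hc⟩ := NONSTAB.le_block hD ((D i).map (Matrix.toLin' (g : Matrix (Fin n) (Fin n) F))) (by
      rintro _ ⟨v, hv, rfl⟩
      obtain ⟨c, hc⟩ := hcon i v hv
      exact ⟨c, by rw [Matrix.toLin'_apply]; exact hc⟩)
    refine ⟨c, fun x hx => ?_⟩
    have := hc (Submodule.mem_map_of_mem (f := Matrix.toLin' (g : Matrix (Fin n) (Fin n) F)) hx)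
    rwa [Matrix.toLin'_apply] at this
  choose f hf using hblock
  -- `f` is surjective
  have hginv : ∀ y : Fin n → F, (g : Matrix (Fin n) (Fin n) F) *ᵥ
      (((g⁻¹ : GL (Fin n) F) : Matrix (Fin n) (Fin n) F) *ᵥ y) = y := by
    intro y
    rw [Matrix.mulVec_mulVec, ← Units.val_mul, mul_inv_cancel, Units.val_one, Matrix.one_mulVec]
  have hsurj : Function.Surjective f := by
    intro c
    by_contra hc
    push Not at hc
    obtain ⟨y, hyc, hy0⟩ := NONSTAB.exists_ne_zero hD c
    -- `y = g (g⁻¹ y)`, and `g⁻¹ y = Σ_i x_i`, `x_i ∈ D i`, so `y = Σ_i g x_i` has no `c`-component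
    set z := ((g⁻¹ : GL (Fin n) F) : Matrix (Fin n) (Fin n) F) *ᵥ y with hz
    have h1 : cmp D c y = 0 := by
      rw [← hginv y, ← hz, ← CMP.sum hD z, Matrix.mulVec_sum, map_sum]
      apply Finset.sum_eq_zero
      intro i _
      exact CMP.of_mem_ne hD (hf i _ (CMP.mem hD i z)) (hc i)
    rw [CMP.of_mem hD hyc] at h1
    exact hy0 h1
  have hbij : Function.Bijective f := (Finite.surjective_iff_bijective).1 hsurj
  exact HMEM.mem_stab_of_perm hD (Equiv.ofBijective f hbij) g (fun b x hx => hf b x hx)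

end Cfsg.Agent.S5634P
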