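import Cfsg.Agent.Helper1.S5639Lib

set_option autoImplicit false

/-! # S5639 piece DLINE (driver helper1; helper12): every element of `D = ⟨R, h R h⁻¹⟩` acts
trivially modulo the line `⟨u₀, h u₀⟩`. -/

namespace Cfsg.Agent.S5639P

open Matrix
open Cfsg.Agent.Helper28.SLMax Cfsg.Agent.Helper28.SimMax

variable {F : Type*} [Field F] {n : ℕ}

local notation "GLn" => Matrix.GeneralLinearGroup (Fin n) F
local notation "Mat" => Matrix (Fin n) (Fin n) F

namespace DLINE

/-- the subgroup of `GL_n(F)` acting trivially modulo a subspace `W` -/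
def trivMod (W : Submodule F (Fin n → F)) : Subgroup GLn where
  carrier := {g | ∀ x : Fin n → F, (g : Mat) *ᵥ x - x ∈ W}
  one_mem' := by
    intro x
    simp
  mul_mem' := by
    intro a b ha hb x
    have h1 := ha ((b : Mat) *ᵥ x)
    have h2 := hb x
    have e : ((a * b : GLn) : Mat) *ᵥ x - x =
        ((a : Mat) *ᵥ ((b : Mat) *ᵥ x) - (b : Mat) *ᵥ x) + ((b : Mat) *ᵥ x - x) := by
      rw [Units.val_mul, ← Matrix.mulVec_mulVec]
      abel
    rw [e]
    exact W.add_mem h1 h2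
  inv_mem' := by
    intro a ha x
    have h1 := ha (((a⁻¹ : GLn) : Mat) *ᵥ x)
    have e : (a : Mat) *ᵥ (((a⁻¹ : GLn) : Mat) *ᵥ x) = x := by
      rw [Matrix.mulVec_mulVec, ← Units.val_mul, mul_inv_cancel, Units.val_one, Matrix.one_mulVec]
    rw [e] at h1
    have e2 : ((a⁻¹ : GLn) : Mat) *ᵥ x - x = -(x - ((a⁻¹ : GLn) : Mat) *ᵥ x) := by abel
    rw [e2]
    exact W.neg_mem h1

theorem mem_trivMod (W : Submodule F (Fin n → F)) (g : GLn) :
    g ∈ trivMod W ↔ ∀ x : Fin n → F, (g : Mat) *ᵥ x - x ∈ W := Iff.rfl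

theorem Rgrp_le (F₀ : Subfield F) (u₀ : Fin n → F) :
    Rgrp F₀ u₀ ≤ trivMod (Submodule.span F {u₀}) := by
  unfold Rgrp
  rw [Subgroup.closure_le]
  rintro g ⟨ψ, -, -, hg⟩ x
  rw [hg, E_mulVec, add_sub_cancel_left]
  exact Submodule.smul_mem _ _ (Submodule.subset_span rfl)

/-- DLINE: every element of `D = ⟨R, h R h⁻¹⟩` acts trivially modulo the line `⟨u₀, h u₀⟩`. -/
theorem sub_mem_span (F₀ : Subfield F) (h : GLn) (u₀ : Fin n → F) (g : GLn)
    (hg : g ∈ Dgrp F₀ h u₀) (x : Fin n → F) :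
    (g : Mat) *ᵥ x - x ∈ Submodule.span F {u₀, (h : Mat) *ᵥ u₀} := by
  have hle : Dgrp F₀ h u₀ ≤ trivMod (Submodule.span F {u₀, (h : Mat) *ᵥ u₀}) := by
    unfold Dgrp
    refine sup_le ?_ ?_
    · intro r hr y
      have h1 := Rgrp_le F₀ u₀ hr y
      exact Submodule.span_mono (by simp) h1
    · rintro _ ⟨r, hr, rfl⟩ y
      have h1 := Rgrp_le F₀ u₀ hr (((h⁻¹ : GLn) : Mat) *ᵥ y)
      obtain ⟨c, hc⟩ := Submodule.mem_span_singleton.mp h1
      have e : (((MulAut.conj h).toMonoidHom r : GLn) : Mat) *ᵥ y - y =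
          c • ((h : Mat) *ᵥ u₀) := by
        have e1 : ((MulAut.conj h).toMonoidHom r : GLn) = h * r * h⁻¹ := rfl
        rw [e1, Units.val_mul, Units.val_mul, ← Matrix.mulVec_mulVec, ← Matrix.mulVec_mulVec]
        have e2 : (r : Mat) *ᵥ (((h⁻¹ : GLn) : Mat) *ᵥ y) =
            c • u₀ + ((h⁻¹ : GLn) : Mat) *ᵥ y := by
          rw [hc]
          abel
        rw [e2, Matrix.mulVec_add, Matrix.mulVec_smul, Matrix.mulVec_mulVec, ← Units.val_mul,
          mul_inv_cancel, Units.val_one, Matrix.one_mulVec, add_sub_cancel_right]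
      rw [e]
      exact Submodule.smul_mem _ _ (Submodule.subset_span (by simp))
  exact hle hg x

end DLINE

end Cfsg.Agent.S5639P
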