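import Mathlib
import Cfsg.Prelude.Def_GeometricClasses
import Cfsg.Agent.Helper29.S5655.Defs
import Cfsg.Agent.Helper29.S5655BGEO1

/-! S5655 (half k ≥ 2), piece GSPLIT (helper12): splitting an isotropic pair into two anisotropic pairs. -/

set_option autoImplicit false

namespace Cfsg.Agent.S5655P

open Matrix Module
open Cfsg.Agent.S2644 Cfsg.Agent.Helper2.SUGen Cfsg.Agent.Helper28.SimMax Cfsg.Agent.S5658P

variable {K : Type*} [Field K] {q n t k : ℕ}

local notation "h" => Cfsg.hermForm n K q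
local notation "T" => Cfsg.unitaryTransvection n q

namespace GSPLIT

/-- an anisotropic vector of `Y` orthogonal to a given nonzero isotropic vector `x ∈ Y` (`dim Y ≥ 3`) -/
theorem exists_aniso_orth [Fintype K] (D : Frob K q) (hK : Fintype.card K = q ^ 2)
    {Y : Submodule K (Fin n → K)} (hY : NonDeg q Y) (hdY : 3 ≤ finrank K Y) {x : Fin n → K}
    (hx : x ∈ Y) (hxx : h x x = 0) (hx0 : x ≠ 0) :
    ∃ d ∈ Y, h d x = 0 ∧ h d d ≠ 0 := by
  obtain ⟨x', hx', hx'x', hxx', hx'x⟩ := GEO1.exists_partner D hK hY (by omega) hx hxx hx0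
  -- the projection onto the orthogonal complement of the hyperbolic pair
  have hproj : ∀ w ∈ Y, (w - h w x' • x - h w x • x') ∈ Y ∧ h (w - h w x' • x - h w x • x') x = 0 ∧
      h (w - h w x' • x - h w x • x') x' = 0 := by
    intro w hw
    refine ⟨Y.sub_mem (Y.sub_mem hw (Y.smul_mem _ hx)) (Y.smul_mem _ hx'), ?_, ?_⟩
    · rw [h_sub_left, h_sub_left, h_smul_left, h_smul_left, hxx, hx'x]
      ring
    · rw [h_sub_left, h_sub_left, h_smul_left, h_smul_left, hxx', hx'x']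
      ring
  -- the cut subspace
  let Y' : Submodule K (Fin n → K) := Y ⊓ perpL q (Submodule.span K {x, x'})
  have hmemY' : ∀ w : Fin n → K, w ∈ Y → h w x = 0 → h w x' = 0 → w ∈ Y' := by
    intro w hw h1 h2
    refine ⟨hw, ?_⟩
    intro z hz
    obtain ⟨a, b, rfl⟩ := Submodule.mem_span_pair.mp hz
    rw [h_add_right D, h_smul_right D, h_smul_right D, h1, h2]
    ring
  have hY'x : ∀ w ∈ Y', w ∈ Y ∧ h w x = 0 ∧ h w x' = 0 := by
    intro w hw
    exact ⟨hw.1, hw.2 x (Submodule.subset_span (by simp)), hw.2 x' (Submodule.subset_span (by simp))⟩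
  have hY'nd : NonDeg q Y' := by
    intro y hy hyall
    obtain ⟨hyY, hyx, hyx'⟩ := hY'x y hy
    apply hY y hyY
    intro w hw
    obtain ⟨h1, h2, h3⟩ := hproj w hw
    have h4 := hyall _ (hmemY' _ h1 h2 h3)
    rw [h_sub_right D, h_sub_right D, h_smul_right D, h_smul_right D, hyx, hyx'] at h4
    simpa using h4
  have hY'pos : 1 ≤ finrank K Y' := by
    obtain ⟨y, hy, hyn⟩ := exists_not_pair hdY x x'
    obtain ⟨h1, h2, h3⟩ := hproj y hy
    have hmem := hmemY' _ h1 h2 h3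
    have hne : (y - h y x' • x - h y x • x') ≠ 0 := by
      intro h0
      apply hyn (h y x') (h y x)
      have : y = y - h y x' • x - h y x • x' + (h y x' • x + h y x • x') := by abel
      exact this.trans (by rw [h0, zero_add])
    have hbot : Y' ≠ ⊥ := by
      intro hb
      rw [hb] at hmem
      exact hne ((Submodule.mem_bot K).mp hmem)
    have := Submodule.one_le_finrank_iff.mpr hbot
    exact this
  obtain ⟨d, hd, hdd⟩ := GEO1.exists_aniso D hK hY'nd hY'pos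
  obtain ⟨hdY', hdx, _⟩ := hY'x d hd
  exact ⟨d, hdY', hdx, hdd⟩

end GSPLIT

/-- piece GSPLIT (L): splitting an isotropic pair into two anisotropic pairs (needs dim `Y ≥ 3`). -/
theorem GSPLIT.exists [Fintype K] (D : Frob K q) (hK : Fintype.card K = q ^ 2)
    {Y Z : Submodule K (Fin n → K)} (hY : NonDeg q Y) (hZ : NonDeg q Z) (hdY : 3 ≤ finrank K Y)
    (hdZ : 2 ≤ finrank K Z) (hYZ : ∀ y ∈ Y, ∀ z ∈ Z, h y z = 0) {x y : Fin n → K}
    (hx : x ∈ Y) (hy : y ∈ Z) (hxx : h x x = 0) (hyy : h y y = 0) (hx0 : x ≠ 0) (hy0 : y ≠ 0) :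
    ∃ x₁ ∈ Y, ∃ x₂ ∈ Y, ∃ y₁ ∈ Z, ∃ y₂ ∈ Z, x₁ + x₂ = x ∧ y₁ + y₂ = y ∧
      h x₁ x₁ ≠ 0 ∧ h x₁ x₁ + h y₁ y₁ = 0 ∧ h x₂ x₂ ≠ 0 ∧ h x₂ x₂ + h y₂ y₂ = 0 ∧
      h (x₁ + y₁) (x₂ + y₂) ≠ 0 := by
  obtain ⟨d, hdY', hdx, hdd⟩ := GSPLIT.exists_aniso_orth D hK hY hdY hx hxx hx0
  have hxd : h x d = 0 := h_symm_zero D hdx
  obtain ⟨y', hy', hy'y', hyy', hy'y⟩ := GEO1.exists_partner D hK hZ hdZ hy hyy hy0
  obtain ⟨η, hη0, hη⟩ := exists_skew D
  have hση0 : D.σ η ≠ 0 := σ_ne_zero D hη0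
  obtain ⟨τ, hτ⟩ := exists_trace D (-(h d d)) (by rw [map_neg, h_self_fix D])
  -- `ξ σ(η) = τ`
  have hξ : (τ / D.σ η) * D.σ η = τ := div_mul_cancel₀ _ hση0
  have hξ' : D.σ (τ / D.σ η) * η = D.σ τ := by
    rw [map_div₀, D.invol, div_mul_cancel₀ _ hη0]
  -- norms
  have hy1 : h ((τ / D.σ η) • y + η • y') ((τ / D.σ η) • y + η • y') = -(h d d) := by
    simp only [h_add_left, h_smul_left, h_add_right D, h_smul_right D, hyy, hy'y', hyy', hy'y]
    rw [← hτ]
    linear_combination hξ + hξ'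
  have hyy1 : h y ((τ / D.σ η) • y + η • y') = -η := by
    simp only [h_add_right D, h_smul_right D, hyy, hyy', hη]
    ring
  have hy1y : h ((τ / D.σ η) • y + η • y') y = η := by
    simp only [h_add_left, h_smul_left, hyy, hy'y]
    ring
  have hy1Z : (τ / D.σ η) • y + η • y' ∈ Z := Z.add_mem (Z.smul_mem _ hy) (Z.smul_mem _ hy')
  have hZY : ∀ z ∈ Z, ∀ w ∈ Y, h z w = 0 := fun z hz w hw => h_symm_zero D (hYZ w hw z hz)
  refine ⟨d, hdY', x - d, Y.sub_mem hx hdY', (τ / D.σ η) • y + η • y', hy1Z,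
    y - ((τ / D.σ η) • y + η • y'), Z.sub_mem hy hy1Z, by abel, by abel, hdd, ?_, ?_, ?_, ?_⟩
  · rw [hy1, add_neg_cancel]
  · rw [h_sub_left, h_sub_right D, h_sub_right D, hxx, hxd, hdx]
    simpa using hdd
  · rw [h_sub_left, h_sub_right D, h_sub_right D, hxx, hxd, hdx,
      h_sub_left, h_sub_right D, h_sub_right D, hyy, hyy1, hy1y, hy1]
    ring
  · rw [h_add_left, h_add_right D, h_add_right D,
      hYZ d hdY' _ (Z.sub_mem hy hy1Z), hZY _ hy1Z _ (Y.sub_mem hx hdY'),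
      h_sub_right D, h_sub_right D, hdx, hy1y, hy1]
    have : (0 - h d d + 0 + (0 + (η - -(h d d)))) = η := by ring
    rw [this]
    exact hη0
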