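import Mathlib
import Cfsg.Prelude.Def_GeometricClasses
import Cfsg.Agent.Helper2.S5886.Defs
import Cfsg.Agent.Helper2.S5664.Defs

/-! # S5664 (driver helper2), chapter C3' (helper12), piece TBETAF (hedge): `ker Tr = F` for `[K:F] = 2 = char`. -/

set_option autoImplicit false

namespace Cfsg.Agent.S5664P

open Cfsg.Agent.S5886P

variable {F K V : Type*} [Field F] [Field K] [Algebra F K]
  [AddCommGroup V] [Module F V] [Module K V] [IsScalarTower F K V]

theorem TBETAF [Finite F] [Finite K] [CharP F 2] (hr2 : Module.finrank F K = 2) (a : K)
    (ha : Algebra.trace F K a = 0) : a ∈ Set.range (algebraMap F K) := by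
  have : Module.Finite F K := Module.Finite.of_finite
  have hsurj : Function.Surjective (Algebra.trace F K) := Algebra.trace_surjective F K
  have h1 := LinearMap.finrank_range_add_finrank_ker (Algebra.trace F K)
  rw [LinearMap.range_eq_top.mpr hsurj, finrank_top, Module.finrank_self, hr2] at h1
  have hker : Module.finrank F (LinearMap.ker (Algebra.trace F K)) = 1 := by omega
  have hle : Submodule.span F {(1 : K)} ≤ LinearMap.ker (Algebra.trace F K) := by
    rw [Submodule.span_le, Set.singleton_subset_iff]
    show Algebra.trace F K 1 = 0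
    have h := Algebra.trace_algebraMap (R := F) (S := K) (1 : F)
    rw [map_one, hr2] at h
    rw [h, two_nsmul]
    exact CharTwo.add_self_eq_zero _
  have hspan : Module.finrank F (Submodule.span F {(1 : K)}) = 1 :=
    finrank_span_singleton one_ne_zero
  have heq := Submodule.eq_of_le_of_finrank_eq hle (by rw [hspan, hker])
  have hmem : a ∈ Submodule.span F {(1 : K)} := by
    rw [heq]
    exact ha
  obtain ⟨b, hb⟩ := Submodule.mem_span_singleton.mp hmem
  exact ⟨b, by rw [← hb, Algebra.smul_def, mul_one]⟩

end Cfsg.Agent.S5664P
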