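import Mathlib
import Cfsg.Prelude.Def_GeometricClasses
import Cfsg.Agent.Helper2.S5886.Defs
import Cfsg.Agent.Helper2.S5664.Defs
import Cfsg.Agent.Helper25.S5664TTRND

/-! # S5664 (driver helper2), chapter C3' (helper12), piece TBVFIX. -/

set_option autoImplicit false

namespace Cfsg.Agent.S5664P

open Cfsg.Agent.S5886P

variable {F K V : Type*} [Field F] [Field K] [Algebra F K]
  [AddCommGroup V] [Module F V] [Module K V] [IsScalarTower F K V]

theorem TBVFIX [Finite F] [Finite K] (B : V →ₗ[K] V →ₗ[K] K) (v : V) (g : V ≃ₗ[F] V)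
    (hg : g ∈ SpF F B) (hgL : ∀ x ∈ Kline (F := F) (K := K) v, g x = x) (y : V) :
    B (g y) v = B y v := by
  have hmem : ∀ c : K, c • v ∈ Kline (F := F) (K := K) v := fun c => by
    show c • v ∈ Submodule.span K {v}
    exact Submodule.smul_mem _ c (Submodule.mem_span_singleton_self v)
  have h0 : B (g y) v - B y v = 0 := by
    apply TTRND (F := F)
    intro c
    have h1 : trf F B (g y) (g (c • v)) = trf F B y (c • v) := hg y (c • v)
    rw [hgL _ (hmem c)] at h1
    unfold trf at h1
    rw [(B (g y)).map_smul, (B y).map_smul, smul_eq_mul, smul_eq_mul] at h1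
    rw [mul_sub, map_sub, h1, sub_self]
  exact sub_eq_zero.mp h0

end Cfsg.Agent.S5664P
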