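import Mathlib
import Cfsg.Prelude.Def_GeometricClasses
import Cfsg.Agent.Helper2.S5886.Defs
import Cfsg.Agent.Helper2.S5664.Defs
import Cfsg.Agent.Helper4.S5664PARTNER

/-! # S5664 (driver helper2), chapter C3' (helper12), piece TPERPL: `(v^⊥)^⊥ = K v`. -/

set_option autoImplicit false

namespace Cfsg.Agent.S5664P

open Cfsg.Agent.S5886P

variable {F K V : Type*} [Field F] [Field K] [Algebra F K]
  [AddCommGroup V] [Module F V] [Module K V] [IsScalarTower F K V]

theorem TPERPL (B : V →ₗ[K] V →ₗ[K] K) (hB : IsAltND B) (v : V) (hv : v ≠ 0) (z : V)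
    (hz : ∀ u, B u v = 0 → B z u = 0) : z ∈ Kline (F := F) (K := K) v := by
  obtain ⟨v', hvv'⟩ := PARTNER B hB v hv
  have hskew : ∀ x y, B x y = - B y x := by
    intro x y
    have h := hB.alt (x + y)
    simp only [map_add, LinearMap.add_apply, hB.alt x, hB.alt y] at h
    linear_combination h
  have hv'v : B v' v = -1 := by rw [hskew, hvv']
  have hvv : B v v = 0 := hB.alt v
  have hz' : z - B z v' • v = 0 := by
    apply hB.nd
    intro y
    have h1 : B (y + B y v • v') v = 0 := by
      rw [map_add, LinearMap.add_apply, B.map_smul, LinearMap.smul_apply, hv'v, smul_eq_mul]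
      ring
    have hzy : B z y = - (B y v * B z v') := by
      have h2 : B z (y + B y v • v') = 0 := hz _ h1
      rw [map_add, (B z).map_smul, smul_eq_mul] at h2
      linear_combination h2
    rw [map_sub, LinearMap.sub_apply, B.map_smul, LinearMap.smul_apply, smul_eq_mul, hzy,
      hskew v y]
    ring
  have : z = B z v' • v := sub_eq_zero.mp hz'
  rw [this]
  show B z v' • v ∈ Submodule.span K {v}
  exact Submodule.smul_mem _ _ (Submodule.mem_span_singleton_self v)

end Cfsg.Agent.S5664P
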