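import Mathlib
import Cfsg.Prelude.Def_GeometricClasses
import Cfsg.Agent.Helper2.S5886.Defs
import Cfsg.Agent.Helper2.S5664.Defs
import Cfsg.Agent.Helper25.S5664TTRND
import Cfsg.Agent.Helper12.S5664TPERPL

/-! # S5664 (driver helper2), chapter C3' (helper12), piece TRKER. -/

set_option autoImplicit false

namespace Cfsg.Agent.S5664P

open Cfsg.Agent.S5886P

variable {F K V : Type*} [Field F] [Field K] [Algebra F K]
  [AddCommGroup V] [Module F V] [Module K V] [IsScalarTower F K V]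

theorem TRKER [Finite F] [Finite K] (B : V →ₗ[K] V →ₗ[K] K) (hB : IsAltND B)
    (M : Subgroup (V ≃ₗ[F] V)) (hM : M ≤ SpF F B) (v : V) (hv : v ≠ 0)
    (ρ : V ≃ₗ[F] V) (hρM : ρ ∈ M) (hρfix : ∀ y, B y v = 0 → ρ y = y) :
    ∃ A ∈ yset M (Kline (F := F) (K := K) v), ∀ y, ρ y = y + A y := by
  have hρS : ρ ∈ SpF F B := hM hρM
  refine ⟨(ρ : V →ₗ[F] V) - 1, ⟨⟨fun x => ?_, fun x hx => ?_⟩, ρ, hρM, fun x => ?_⟩, fun y => ?_⟩
  · show ρ x - x ∈ _
    apply TPERPL B hB v hv
    intro u hu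
    have h0 : B (ρ x - x) u - 0 = 0 := by
      rw [sub_zero]
      apply TTRND (F := F)
      intro c
      have hcu : B (c • u) v = 0 := by
        rw [B.map_smul, LinearMap.smul_apply, hu, smul_zero]
      have h1 : trf F B (ρ x) (ρ (c • u)) = trf F B x (c • u) := hρS x (c • u)
      rw [hρfix _ hcu] at h1
      unfold trf at h1
      rw [(B (ρ x)).map_smul, (B x).map_smul, smul_eq_mul, smul_eq_mul] at h1
      rw [map_sub, LinearMap.sub_apply, mul_sub, map_sub, h1, sub_self]
    rw [sub_zero] at h0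
    exact h0
  · show ρ x - x = 0
    obtain ⟨e, he⟩ := Submodule.mem_span_singleton.mp (show x ∈ Submodule.span K {v} from hx)
    have : B x v = 0 := by
      rw [← he, B.map_smul, LinearMap.smul_apply, hB.alt, smul_zero]
    rw [hρfix x this, sub_self]
  · show ρ x = x + (ρ x - x)
    abel
  · show ρ y = y + (ρ y - y)
    abel

end Cfsg.Agent.S5664P
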