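import Mathlib
import Cfsg.Prelude.Def_GeometricClasses
import Cfsg.Agent.Helper2.S5886.Defs
import Cfsg.Agent.Helper2.S5664.Defs
import Cfsg.Agent.Helper12.S5664TBVFIX

/-! # S5664 (driver helper2), chapter C3' (helper12), piece TRADJ. -/

set_option autoImplicit false

namespace Cfsg.Agent.S5664P

open Cfsg.Agent.S5886P

variable {F K V : Type*} [Field F] [Field K] [Algebra F K]
  [AddCommGroup V] [Module F V] [Module K V] [IsScalarTower F K V]

theorem TRADJ [Finite F] [Finite K] [CharP F 2] (B : V →ₗ[K] V →ₗ[K] K) (hB : IsAltND B) (v : V)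
    (ρ : V ≃ₗ[F] V) (hρ : ρ ∈ SpF F B) (hρL : ∀ x ∈ Kline (F := F) (K := K) v, ρ x = x)
    (hρP : ∀ y, B y v = 0 → ρ y - y ∈ Kline (F := F) (K := K) v) (y u : V) (hu : B u v = 0) :
    trf F B (ρ y - y) u = trf F B y (ρ u - u) := by
  have h1 : trf F B (ρ y) (ρ u) = trf F B y u := hρ y u
  have hBv : B (ρ y) v = B y v := TBVFIX B v ρ hρ hρL y
  obtain ⟨e, he⟩ : ∃ e : K, e • v = ρ u - u := by
    have := hρP u hu
    exact Submodule.mem_span_singleton.mp this
  -- `B (ρ y - y) (ρ u - u) = 0`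
  have h2 : B (ρ y - y) (ρ u - u) = 0 := by
    rw [← he, (B (ρ y - y)).map_smul, map_sub, LinearMap.sub_apply, hBv, sub_self, smul_zero]
  unfold trf at h1 ⊢
  have h3 : B (ρ y) (ρ u) = B y u + B y (ρ u - u) + B (ρ y - y) u + B (ρ y - y) (ρ u - u) := by
    simp only [map_sub, LinearMap.sub_apply]
    ring
  rw [h3, h2, add_zero, map_add, map_add] at h1
  have h4 : Algebra.trace F K (B y (ρ u - u)) + Algebra.trace F K (B (ρ y - y) u) = 0 := by
    linear_combination h1
  exact (CharTwo.add_eq_zero.mp h4).symm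

end Cfsg.Agent.S5664P
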