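import Mathlib
import Cfsg.Prelude.Def_GeometricClasses
import Cfsg.Agent.Helper2.S5886.Defs
import Cfsg.Agent.Helper2.S5664.Defs
import Cfsg.Agent.Helper4.S5664SIEGEL
import Cfsg.Agent.Helper25.S5664TCHAR2
import Cfsg.Agent.Helper12.S5664TBVFIX

/-! # S5664 (driver helper2), chapter C3' (helper12), piece TRCOMM: the commutator `[ρ, s_u]`. -/

set_option autoImplicit false

namespace Cfsg.Agent.S5664P

open Cfsg.Agent.S5886P

variable {F K V : Type*} [Field F] [Field K] [Algebra F K]
  [AddCommGroup V] [Module F V] [Module K V] [IsScalarTower F K V]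

namespace TRCOMM

theorem mem_kline (v x : V) : x ∈ Kline (F := F) (K := K) v ↔ ∃ c : K, c • v = x := by
  show x ∈ Submodule.span K {v} ↔ _
  exact Submodule.mem_span_singleton

theorem smul_mem_kline (v : V) (c : K) : c • v ∈ Kline (F := F) (K := K) v :=
  (mem_kline (F := F) v (c • v)).mpr ⟨c, rfl⟩

end TRCOMM

open TRCOMM in
theorem TRCOMM [Finite F] [Finite K] [CharP F 2] (B : V →ₗ[K] V →ₗ[K] K) (hB : IsAltND B)
    (M : Subgroup (V ≃ₗ[F] V)) (hK : SpK F B ≤ M) (hM : M ≤ SpF F B) (v : V)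
    (ρ : V ≃ₗ[F] V) (hρM : ρ ∈ M) (hρL : ∀ x ∈ Kline (F := F) (K := K) v, ρ x = x)
    (hρP : ∀ y, B y v = 0 → ρ y - y ∈ Kline (F := F) (K := K) v) (u : V) (hu : B u v = 0) :
    ∃ C ∈ yset M (Kline (F := F) (K := K) v),
      ∀ y, C y = B (ρ y - y) u • v + (ρ (B y v • u) - B y v • u) := by
  obtain ⟨h2K, h2V, hsym⟩ := TCHAR2 (F := F) B hB
  obtain ⟨s, hsK, hs⟩ := SIEGEL (F := F) B hB v u hu
  have hsM : s ∈ M := hK hsK
  have hρS : ρ ∈ SpF F B := hM hρM
  have hBv : ∀ y, B (ρ y) v = B y v := fun y => TBVFIX B v ρ hρS hρL y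
  have hvv : B v v = 0 := hB.alt v
  have hvu : B v u = 0 := by rw [hsym]; exact hu
  have huu : B u u = 0 := hB.alt u
  have hρv : ∀ c : K, ρ (c • v) = c • v := fun c => hρL _ (smul_mem_kline (F := F) v c)
  -- the formula
  set Cf : V → V := fun z => B (ρ z - z) u • v + (ρ (B z v • u) - B z v • u) with hCf
  have hCf_add : ∀ z z', Cf (z + z') = Cf z + Cf z' := by
    intro z z'
    simp only [hCf, map_add, LinearMap.add_apply, add_smul, map_sub, LinearMap.sub_apply, sub_smul]
    abel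
  -- (i)
  have h1 : ∀ z, ρ (s z) = s (ρ z) + Cf z := by
    intro z
    rw [hs, hs, map_add, map_add, hρv, hBv]
    simp only [hCf, map_sub, LinearMap.sub_apply, sub_smul]
    linear_combination (norm := module) (h2K (B z u - B (ρ z) u)) • v
  -- (ii)
  have h2 : ∀ z, B z v = 0 → Cf z = 0 := by
    intro z hz
    obtain ⟨e, he⟩ := (mem_kline (F := F) v _).mp (hρP z hz)
    simp only [hCf]
    rw [← he, hz, zero_smul, map_zero, sub_zero, map_smul, LinearMap.smul_apply, hvu, smul_zero,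
      zero_smul, add_zero]
  have h3 : ∀ z, Cf z ∈ Kline (F := F) (K := K) v := by
    intro z
    simp only [hCf]
    refine Submodule.add_mem _ (smul_mem_kline (F := F) v _) (hρP _ ?_)
    rw [map_smul, LinearMap.smul_apply, hu, smul_zero]
  -- the group element
  set g : V ≃ₗ[F] V := ρ * s * ρ⁻¹ * s⁻¹ with hg
  have hgM : g ∈ M := M.mul_mem (M.mul_mem (M.mul_mem hρM hsM) (M.inv_mem hρM)) (M.inv_mem hsM)
  have h4 : ∀ y, g y = y + Cf y := by
    intro y
    set z : V := ρ⁻¹ (s⁻¹ y) with hz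
    have hy : y = s (ρ z) := by
      rw [hz]
      show y = s (ρ (ρ.symm (s.symm y)))
      rw [LinearEquiv.apply_symm_apply, LinearEquiv.apply_symm_apply]
    have hgy : g y = ρ (s z) := rfl
    rw [hgy, h1, ← hy]
    congr 1
    -- `Cf z = Cf y`
    have hd : B (y - z) v = 0 := by
      rw [hy, hs, map_sub, map_add, map_add, LinearMap.sub_apply, LinearMap.add_apply,
        LinearMap.add_apply, map_smul, map_smul, LinearMap.smul_apply, LinearMap.smul_apply, hvv, hu,
        hBv]
      simp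
    have : Cf y = Cf z + Cf (y - z) := by
      rw [← hCf_add]
      congr 1
      abel
    rw [this, h2 _ hd, add_zero]
  -- the linear map
  refine ⟨(g : V →ₗ[F] V) - 1, ⟨⟨fun x => ?_, fun x hx => ?_⟩, g, hgM, fun x => ?_⟩, fun y => ?_⟩
  · show g x - x ∈ _
    rw [h4, add_sub_cancel_left]
    exact h3 x
  · show g x - x = 0
    rw [h4, add_sub_cancel_left]
    obtain ⟨e, he⟩ := (mem_kline (F := F) v _).mp hx
    apply h2
    rw [← he, map_smul, LinearMap.smul_apply, hvv, smul_zero]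
  · show g x = x + (g x - x)
    abel
  · show g y - y = _
    rw [h4, add_sub_cancel_left]
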