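import Mathlib
import Cfsg.Prelude.Def_GeometricClasses
import Cfsg.Agent.Helper2.S5886.Defs
import Cfsg.Agent.Helper2.S5664.Defs
import Cfsg.Agent.Helper25.S5664TCHAR2
import Cfsg.Agent.Helper12.S5664TRADJ
import Cfsg.Agent.Helper12.S5664TRCOMM

/-! # S5664 (driver helper2), chapter C3' (helper12), piece TRSTAR: `Tr μ(c u) = Tr (c μ(u))`. -/

set_option autoImplicit false

namespace Cfsg.Agent.S5664P

open Cfsg.Agent.S5886P

variable {F K V : Type*} [Field F] [Field K] [Algebra F K]
  [AddCommGroup V] [Module F V] [Module K V] [IsScalarTower F K V]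

open TRCOMM in
theorem TRSTAR [Finite F] [Finite K] [CharP F 2] (B : V →ₗ[K] V →ₗ[K] K) (hB : IsAltND B)
    (M : Subgroup (V ≃ₗ[F] V)) (hK : SpK F B ≤ M) (hM : M ≤ SpF F B) (v v' : V) (hvv' : B v v' = 1)
    (hY : ∀ A ∈ yset M (Kline (F := F) (K := K) v), ∀ (c : K) (x : V), A (c • x) = c • A x)
    (ρ : V ≃ₗ[F] V) (hρM : ρ ∈ M) (hρL : ∀ x ∈ Kline (F := F) (K := K) v, ρ x = x)
    (hρP : ∀ y, B y v = 0 → ρ y - y ∈ Kline (F := F) (K := K) v) (u : V) (hu : B u v = 0) (c : K) :
    Algebra.trace F K (B (ρ (c • u) - c • u) v') = Algebra.trace F K (c * B (ρ u - u) v') := by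
  obtain ⟨h2K, h2V, hsym⟩ := TCHAR2 (F := F) B hB
  have hρS : ρ ∈ SpF F B := hM hρM
  have hv'v : B v' v = 1 := by rw [hsym]; exact hvv'
  -- `X z = μ z • v` on `v^⊥`
  have hX : ∀ z, B z v = 0 → ρ z - z = B (ρ z - z) v' • v := by
    intro z hz
    obtain ⟨e, he⟩ := (mem_kline (F := F) v _).mp (hρP z hz)
    rw [← he, B.map_smul, LinearMap.smul_apply, hvv', smul_eq_mul, mul_one]
  have hperp : ∀ (a : K) (z : V), B z v = 0 → B (a • z) v = 0 := by
    intro a z hz
    rw [B.map_smul, LinearMap.smul_apply, hz, smul_zero]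
  have hav : ∀ a : K, B (a • v') v = a := fun a => by
    rw [B.map_smul, LinearMap.smul_apply, hv'v, smul_eq_mul, mul_one]
  -- (E)
  have hE : ∀ u₁, B u₁ v = 0 → ∀ a : K,
      B (ρ (a • v') - a • v') u₁ + B (ρ (a • u₁) - a • u₁) v' =
        a * (B (ρ v' - v') u₁ + B (ρ u₁ - u₁) v') := by
    intro u₁ hu₁ a
    obtain ⟨C, hC, hCf⟩ := TRCOMM B hB M hK hM v ρ hρM hρL hρP u₁ hu₁
    have hlin := hY C hC a v'
    have e1 : ∀ a : K, C (a • v') =
        (B (ρ (a • v') - a • v') u₁ + B (ρ (a • u₁) - a • u₁) v') • v := by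
      intro a
      rw [hCf, hav, add_smul]
      congr 1
      exact hX _ (hperp a u₁ hu₁)
    have e2 := e1 a
    have e3 := e1 1
    simp only [one_smul] at e3
    rw [e2, e3, smul_smul] at hlin
    have := congrArg (fun z => B z v') hlin
    simp only [map_smul, LinearMap.smul_apply, hvv', smul_eq_mul, mul_one] at this
    exact this
  -- (A)
  have hA : ∀ u₁, B u₁ v = 0 → ∀ a : K,
      Algebra.trace F K (B (ρ (a • v') - a • v') u₁) =
        Algebra.trace F K (a * B (ρ u₁ - u₁) v') := by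
    intro u₁ hu₁ a
    have h := TRADJ B hB v ρ hρS hρL hρP (a • v') u₁ hu₁
    unfold trf at h
    rw [h]
    have : B (a • v') (ρ u₁ - u₁) = a * B (ρ u₁ - u₁) v' := by
      rw [B.map_smul, LinearMap.smul_apply, smul_eq_mul]
      congr 1
      exact hsym _ _
    rw [this]
  -- squares
  have hsq : ∀ d : K, Algebra.trace F K (B (ρ ((d * d) • u) - (d * d) • u) v') =
      Algebra.trace F K ((d * d) * B (ρ u - u) v') := by
    intro d
    have h1 := hE u hu d
    have h2 := hA (d • u) (hperp d u hu) d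
    have h3 := hA ((d * d) • u) (hperp (d * d) u hu) 1
    rw [one_smul, one_mul] at h3
    rw [(B (ρ (d • v') - d • v')).map_smul, smul_eq_mul] at h2
    rw [(B (ρ v' - v')).map_smul, smul_eq_mul] at h3
    -- multiply (E) by d
    have h4 : d * B (ρ (d • v') - d • v') u + d * B (ρ (d • u) - d • u) v' =
        d * d * B (ρ v' - v') u + d * d * B (ρ u - u) v' := by
      linear_combination d * h1
    have h5 := congrArg (Algebra.trace F K) h4
    rw [map_add, map_add, h2, h3] at h5
    have h6 : Algebra.trace F K (d * B (ρ (d • u) - d • u) v') +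
        Algebra.trace F K (d * B (ρ (d • u) - d • u) v') = 0 := CharTwo.add_self_eq_zero _
    rw [h6] at h5
    exact (CharTwo.add_eq_zero.mp h5.symm)
  have hcK : CharP K 2 := charP_of_injective_algebraMap (algebraMap F K).injective 2
  obtain ⟨d, hd⟩ := FiniteField.isSquare_of_char_two (ringChar.eq K 2) c
  rw [hd]
  exact hsq d
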