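import Mathlib
import Cfsg.Prelude.Def_GeometricClasses
import Cfsg.Agent.Helper2.S5886.Defs
import Cfsg.Agent.Helper2.S5664.Defs
import Cfsg.Agent.Helper4.S5664PARTNER
import Cfsg.Agent.Helper25.S5664TTRND
import Cfsg.Agent.Helper12.S5664TRSTAR

/-! # S5664 (driver helper2), chapter C3' (helper12), piece TRLIN1: `ρ` is `K`-linear on `v^⊥`. -/

set_option autoImplicit false

namespace Cfsg.Agent.S5664P

open Cfsg.Agent.S5886P

variable {F K V : Type*} [Field F] [Field K] [Algebra F K]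
  [AddCommGroup V] [Module F V] [Module K V] [IsScalarTower F K V]

theorem TRLIN1 [Finite F] [Finite K] [CharP F 2] (B : V →ₗ[K] V →ₗ[K] K) (hB : IsAltND B)
    (M : Subgroup (V ≃ₗ[F] V)) (hK : SpK F B ≤ M) (hM : M ≤ SpF F B) (v : V) (hv : v ≠ 0)
    (hY : ∀ A ∈ yset M (Kline (F := F) (K := K) v), ∀ (c : K) (x : V), A (c • x) = c • A x)
    (ρ : V ≃ₗ[F] V) (hρM : ρ ∈ M) (hρL : ∀ x ∈ Kline (F := F) (K := K) v, ρ x = x)
    (hρP : ∀ y, B y v = 0 → ρ y - y ∈ Kline (F := F) (K := K) v) (u : V) (hu : B u v = 0) (c : K) :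
    ρ (c • u) = c • ρ u := by
  obtain ⟨v', hvv'⟩ := PARTNER B hB v hv
  have hX : ∀ z, B z v = 0 → ρ z - z = B (ρ z - z) v' • v := by
    intro z hz
    obtain ⟨e, he⟩ := (TRCOMM.mem_kline (F := F) v _).mp (hρP z hz)
    rw [← he, B.map_smul, LinearMap.smul_apply, hvv', smul_eq_mul, mul_one]
  have hperp : ∀ (a : K) (z : V), B z v = 0 → B (a • z) v = 0 := by
    intro a z hz
    rw [B.map_smul, LinearMap.smul_apply, hz, smul_zero]
  have hstar : ∀ (u₁ : V), B u₁ v = 0 → ∀ a : K,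
      Algebra.trace F K (B (ρ (a • u₁) - a • u₁) v') = Algebra.trace F K (a * B (ρ u₁ - u₁) v') :=
    fun u₁ hu₁ a => TRSTAR B hB M hK hM v v' hvv' hY ρ hρM hρL hρP u₁ hu₁ a
  have hμ : B (ρ (c • u) - c • u) v' - c * B (ρ u - u) v' = 0 := by
    apply TTRND (F := F)
    intro e
    have h1 := hstar u hu (e * c)
    have h2 := hstar (c • u) (hperp c u hu) e
    rw [smul_smul] at h2
    rw [mul_sub, map_sub, ← h2, h1, mul_assoc, sub_self]
  have hμ' := sub_eq_zero.mp hμ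
  have h3 := hX (c • u) (hperp c u hu)
  rw [hμ', mul_smul, ← hX u hu, smul_sub] at h3
  have : ρ (c • u) = c • u + (c • ρ u - c • u) := by rw [← h3]; abel
  rw [this]; abel

end Cfsg.Agent.S5664P
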