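import Mathlib
import Cfsg.Prelude.Def_GeometricClasses
import Cfsg.Agent.Helper2.S5886.Defs
import Cfsg.Agent.Helper2.S5664.Defs
import Cfsg.Agent.Helper23.S5664SPKLE
import Cfsg.Agent.Helper25.S5664TYLIN
import Cfsg.Agent.Helper28.S5664TS2
import Cfsg.Agent.Helper12.S5664TBETAF
import Cfsg.Agent.Helper28.S5664TIMARG
import Cfsg.Agent.Helper2.S5664TNZ

/-! # S5664 (driver helper2), chapter C3' (helper12): assembly of the case `r = p = 2`. -/

set_option autoImplicit false

namespace Cfsg.Agent.S5664P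

open Cfsg.Agent.S5886P

variable {F K V : Type*} [Field F] [Field K] [Algebra F K]
  [AddCommGroup V] [Module F V] [Module K V] [IsScalarTower F K V]

theorem C3' [Finite F] [Finite K] [Finite V] [CharP F 2] (hr2 : Module.finrank F K = 2)
    (hd : 4 ≤ Module.finrank K V)
    (B : V →ₗ[K] V →ₗ[K] K) (hB : IsAltND B)
    (M : Subgroup (V ≃ₗ[F] V)) (hN : Nrm F K V ⊓ SpF F B ≤ M) (hM : M ≤ SpF F B)
    (v : V) (k : K) (h : V ≃ₗ[F] V) (hv : v ≠ 0)
    (hh : h ∈ M) (hhv : h v = v) (hhk : h (k • v) ∉ Kline (F := F) (K := K) v)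
    (hS : Sig' (K := K) M (Kline (F := F) (K := K) v) ≠ Set.univ) : False := by
  have hK : SpK F B ≤ M := le_trans (SPKLE B) hN
  have hY : ∀ A ∈ yset M (Kline (F := F) (K := K) v), ∀ (c : K) (x : V), A (c • x) = c • A x :=
    fun A hA c x => TYLIN hr2 B hB M hK v hv hS A hA c x
  have hS2 : ∀ g ∈ StabPt M (Kline (F := F) (K := K) v), ∀ (c : K) (x : V), g (c • x) = c • g x :=
    fun g hg c x => TS2 B hB M hK hM v hv hY g hg c x
  -- `Tr (B w v) = 0`
  have htr : Algebra.trace F K (B (h (k • v)) v) = 0 := by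
    have h1 : trf F B (h (k • v)) (h v) = trf F B (k • v) v := hM hh (k • v) v
    rw [hhv] at h1
    have h2 : trf F B (k • v) v = 0 := by
      show Algebra.trace F K (B (k • v) v) = 0
      rw [map_smul, LinearMap.smul_apply, hB.alt, smul_zero, map_zero]
    rw [h2] at h1
    exact h1
  have hβF := TBETAF hr2 _ htr
  by_cases hβ : B (h (k • v)) v = 0
  · exact TIMARG hr2 B hB M hK hM v k h hv hh hhv hhk hS2 hβ
  · exact TNZ hr2 hd B hB M hN hM v k h hv hh hhv hhk hS2 hβ hβF

end Cfsg.Agent.S5664P
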