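import Cfsg.Agent.Helper12.S5683Lib

set_option autoImplicit false
set_option linter.unusedSectionVars false
set_option linter.unusedVariables false

/-! # S5683 piece COMM2: the commutator formula `[E(b,a), E(v,w)] = E(b, B(w,a) v - B(v,a) w)` -/

namespace Cfsg.Agent.S5683P

open Matrix Cfsg.Agent.Helper28.Sg Cfsg.Agent.Helper28.Spin Cfsg.Agent.Helper12.OrthGen
  Cfsg.Agent.S2614

variable {F : Type*} [Field F] {m : ℕ}

section genericQ

variable {ι : Type} [Fintype ι] [DecidableEq ι] {Q : QuadraticForm F (ι → F)}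

/-- COMM2: `[E(b,a), E(v,w)] = E(b, B(w,a) v - B(v,a) w)` for `b ⊥ v, w` (all of `v, w, b` singular, mutually
orthogonal), in `Rad` form. -/
theorem COMM2.mem_rad (M : Subgroup ↥(Cfsg.isometryGroup F ⇑Q)) {v w b a : ι → F} (hv : Q v = 0)
    (hw : Q w = 0) (hb : Q b = 0) (hvw : B Q v w = 0) (hbv : B Q b v = 0) (hbw : B Q b w = 0)
    (hw' : w ∈ Rad M v hv) (ha : a ∈ Rad M b hb) :
    B Q w a • v - B Q v a • w ∈ Rad M b hb := by
  obtain ⟨hvw', hmem⟩ := hw'
  obtain ⟨hba, hmema⟩ := ha
  set g := siegO Q b a hb hba with hg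
  -- images of `v`, `w`
  have hgv : mt Q g *ᵥ v = v - B Q a v • b := by
    rw [hg, siegO_mulVec, hbv]
    module
  have hgw : mt Q g *ᵥ w = w - B Q a w • b := by
    rw [hg, siegO_mulVec, hbw]
    module
  have hQgv : Q (mt Q g *ᵥ v) = 0 := by rw [Q_isom]; exact hv
  have hBg : B Q (mt Q g *ᵥ v) (mt Q g *ᵥ w) = 0 := by rw [B_isom]; exact hvw
  have hconj := siegO_conj Q g hv hvw' hQgv hBg
  have hmem2 : siegO Q (mt Q g *ᵥ v) (mt Q g *ᵥ w) hQgv hBg ∈ M := by
    rw [← hconj]
    exact M.mul_mem (M.mul_mem hmema hmem) (M.inv_mem hmema)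
  -- the target element
  have hvb : B Q v b = 0 := by rw [B_comm]; exact hbv
  have hwb : B Q w b = 0 := by rw [B_comm]; exact hbw
  have hwv : B Q w v = 0 := by rw [B_comm]; exact hvw
  have hbb : B Q b b = 0 := B_self_of_singular Q hb
  have hvv : B Q v v = 0 := B_self_of_singular Q hv
  have hww : B Q w w = 0 := B_self_of_singular Q hw
  have htarget : B Q b (B Q w a • v - B Q v a • w) = 0 := by
    simp only [B, QuadraticMap.polar_sub_right, QuadraticMap.polar_smul_right, smul_eq_mul]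
    simp only [B] at hbv hbw
    rw [hbv, hbw]; ring
  refine ⟨htarget, ?_⟩
  have hneg : B Q v (-w) = 0 := by rw [B_neg_right, hvw', neg_zero]
  have key : siegO Q b (B Q w a • v - B Q v a • w) hb htarget =
      siegO Q v (-w) hv hneg * siegO Q (mt Q g *ᵥ v) (mt Q g *ᵥ w) hQgv hBg := by
    apply O_ext
    intro x
    rw [mt_mul_mulVec, siegO_mulVec, siegO_mulVec, siegO_mulVec]
    have hQ1 : Q (B Q w a • v - B Q v a • w) = 0 := by
      have e : B Q w a • v - B Q v a • w = B Q w a • v + (-(B Q v a)) • w := by module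
      rw [e, Q_add, Q_smul, Q_smul, hv, hw]
      simp only [B, QuadraticMap.polar_smul_left, QuadraticMap.polar_smul_right, smul_eq_mul]
      simp only [B] at hvw
      rw [hvw]; ring
    have hQ2 : Q (mt Q g *ᵥ w) = 0 := by rw [Q_isom]; exact hw
    have hQ3 : Q (-w) = 0 := by rw [QuadraticMap.map_neg]; exact hw
    rw [hQ1, hQ2, hQ3, hgv, hgw]
    simp only [B, QuadraticMap.polar_sub_left, QuadraticMap.polar_sub_right,
      QuadraticMap.polar_smul_left, QuadraticMap.polar_smul_right, QuadraticMap.polar_add_left,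
      QuadraticMap.polar_add_right, QuadraticMap.polar_neg_left, QuadraticMap.polar_neg_right,
      smul_eq_mul]
    simp only [B] at hvb hwb hwv hbb hvv hww hvw hbv hbw
    have e1 : QuadraticMap.polar (⇑Q) a v = QuadraticMap.polar (⇑Q) v a :=
      QuadraticMap.polar_comm _ _ _
    have e2 : QuadraticMap.polar (⇑Q) a w = QuadraticMap.polar (⇑Q) w a :=
      QuadraticMap.polar_comm _ _ _
    simp only [hvb, hwb, hwv, hbb, hvv, hww, hvw, hbv, hbw, e1, e2, mul_zero, zero_mul, sub_zero,
      neg_zero, zero_smul, add_zero, sub_self]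
    module
  rw [key]
  have hinv : siegO Q v (-w) hv hneg = (siegO Q v w hv hvw')⁻¹ := (siegO_inv Q hv hvw' hneg).symm
  rw [hinv]
  exact M.mul_mem (M.inv_mem hmem) hmem2

end genericQ

end Cfsg.Agent.S5683P
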