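import Mathlib
import Cfsg.Prelude.Def_GeometricClasses
import Cfsg.Agent.Helper12.OrthGenI
import Cfsg.Agent.Helper28.NonMax

set_option autoImplicit false
set_option linter.unusedSectionVars false
set_option linter.unusedVariables false

/-! # S5683 (subfield subgroups are maximal in `Ω_{2m+1}(q)`, `q` odd): definitions

`Idx m = Unit ⊕ (Fin m ⊕ Fin m)`, `Q = QfOdd m F` (`Cfsg.Agent.S2614`), `B`, `mt`, `siegO`, `S` from
`Cfsg.Agent.Helper28.Sg`, `Rad M u hu = {w | E(u, w) ∈ M}` from `Cfsg.Agent.Helper12.OrthGen`. -/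

namespace Cfsg.Agent.S5683P

open Matrix Cfsg.Agent.Helper28.Sg Cfsg.Agent.Helper28.Spin Cfsg.Agent.Helper12.OrthGen
  Cfsg.Agent.S2614

section generic

variable {F : Type*} [Field F] {ι : Type}

/-- a rational vector: all entries in `F₀` -/
def Rat (F₀ : Subfield F) (u : ι → F) : Prop := ∀ i, u i ∈ F₀

/-- a rational matrix: all entries in `F₀` -/
def RatM (F₀ : Subfield F) (A : Matrix ι ι F) : Prop := ∀ i j, A i j ∈ F₀

/-- proportional to a rational vector -/
def PRat (F₀ : Subfield F) (v : ι → F) : Prop := ∃ z : F, z ≠ 0 ∧ Rat F₀ (z • v)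

/-- a non-zero scalar multiple of a rational matrix (membership in `F^* GL(F₀)`) -/
def InN (F₀ : Subfield F) (A : Matrix ι ι F) : Prop := ∃ z : F, z ≠ 0 ∧ RatM F₀ (z • A)

/-- the line `⟨v, w⟩` has a rational basis -/
def RatLine (F₀ : Subfield F) (v w : ι → F) : Prop :=
  ∃ a b c d : F, a * d - b * c ≠ 0 ∧ Rat F₀ (a • v + b • w) ∧ Rat F₀ (c • v + d • w)

/-- the plane `⟨v, w, b⟩` (`b` rational) has a rational basis of the form `b, a₁ v + b₁ w + t₁ b,
a₂ v + b₂ w + t₂ b` -/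
def RatPlane (F₀ : Subfield F) (v w b : ι → F) : Prop :=
  ∃ a₁ b₁ t₁ a₂ b₂ t₂ : F, a₁ * b₂ - a₂ * b₁ ≠ 0 ∧ Rat F₀ (a₁ • v + b₁ • w + t₁ • b) ∧
    Rat F₀ (a₂ • v + b₂ • w + t₂ • b)

end generic

/-- the index type of the standard odd-dimensional quadratic space -/
abbrev Idx (m : ℕ) : Type := Unit ⊕ (Fin m ⊕ Fin m)

section odd

variable {F : Type*} [Field F] {m : ℕ}

/-- the standard hyperbolic basis vectors `e_i` -/
def ee (F : Type*) [Field F] {m : ℕ} (i : Fin m) : Idx m → F := Pi.single (Sum.inr (Sum.inl i)) 1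

/-- the standard hyperbolic basis vectors `f_i` -/
def ff (F : Type*) [Field F] {m : ℕ} (i : Fin m) : Idx m → F := Pi.single (Sum.inr (Sum.inr i)) 1

/-- the anisotropic basis vector `d` (`Q d = 1`) -/
def dd (F : Type*) [Field F] (m : ℕ) : Idx m → F := Pi.single (Sum.inl ()) 1

theorem Q_ee (i : Fin m) : QfOdd m F (ee F i) = 0 := Q_single_left (hypPair_odd m i)

theorem Q_ff (i : Fin m) : QfOdd m F (ff F i) = 0 := Q_single_right (hypPair_odd m i)

/-- the value of the form -/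
theorem Q_apply (x : Idx m → F) :
    QfOdd m F x = x (Sum.inl ()) ^ 2 + ∑ i : Fin m, x (Sum.inr (Sum.inl i)) * x (Sum.inr (Sum.inr i)) := by
  rw [QfOdd_coe]; rfl

theorem B_ee (i : Fin m) (x : Idx m → F) : B (QfOdd m F) (ee F i) x = x (Sum.inr (Sum.inr i)) :=
  polar_single_left (hypPair_odd m i) x

theorem B_ff (i : Fin m) (x : Idx m → F) : B (QfOdd m F) (ff F i) x = x (Sum.inr (Sum.inl i)) :=
  polar_single_right (hypPair_odd m i) x

/-- the isometry group of the standard form -/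
abbrev OG (m : ℕ) (F : Type*) [Field F] : Type _ := ↥(Cfsg.isometryGroup F ⇑(QfOdd m F))

/-- `M` contains the rational elements of `S(Q) = Ω(Q)` -/
def HasRatO (F₀ : Subfield F) (M : Subgroup (OG m F)) : Prop :=
  ∀ g : OG m F, g ∈ S (QfOdd m F) → RatM F₀ (mt (QfOdd m F) g) → g ∈ M

/-- the parameters `c` with `E(e_i, c e_j) ∈ M` -/
def KO (M : Subgroup (OG m F)) (i j : Fin m) : Set F :=
  {c | c • ee F j ∈ Rad M (ee F i) (Q_ee i)}

/-- "`K = F₀`", coordinate free: a long root element `E(u, c w)` of `M` with `u, w` rational, singular,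
orthogonal and independent has `c ∈ F₀` -/
def RootRatO (F₀ : Subfield F) (M : Subgroup (OG m F)) : Prop :=
  ∀ (u w : Idx m → F) (c : F) (hu : QfOdd m F u = 0), Rat F₀ u → Rat F₀ w → QfOdd m F w = 0 →
    B (QfOdd m F) u w = 0 → Indep u w → c • w ∈ Rad M u hu → c ∈ F₀

/-- "`K = F`": all long root elements `E(u, c w)`, `u, w` rational, lie in `M` -/
def RootFull (F₀ : Subfield F) (M : Subgroup (OG m F)) : Prop :=
  ∀ (u w : Idx m → F) (c : F) (hu : QfOdd m F u = 0), Rat F₀ u → Rat F₀ w → QfOdd m F w = 0 →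
    B (QfOdd m F) u w = 0 → Indep u w → c • w ∈ Rad M u hu

end odd

end Cfsg.Agent.S5683P
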