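import Cfsg.Agent.Helper12.S5683Main
import Cfsg.Agent.Helper18.S5683PROPER
import Cfsg.Agent.Helper18.S5683HASRAT
import Cfsg.Agent.Helper17.S5683MEMSUBF
import Cfsg.Agent.Helper14.S5683STD
import Cfsg.Agent.Helper17.S5683MAXMAP
import Cfsg.Agent.Helper17.S5683SIMNORM
import Cfsg.Agent.Helper17.S5683SUBFT

set_option autoImplicit false
set_option linter.unusedSectionVars false
set_option linter.unusedVariables false

/-! # S5683: from the dichotomy to the maximality statement -/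

namespace Cfsg.Agent.S5683P

open Matrix Cfsg.Agent.Helper28.Sg Cfsg.Agent.Helper28.Spin Cfsg.Agent.Helper12.OrthGen
  Cfsg.Agent.S2614

variable {F : Type*} [Field F] {m : ℕ}

namespace FINAL

/-- there is an element of `F` outside `F₀` -/
theorem exists_not_mem [Fintype F] (F₀ : Subfield F) (r : ℕ) (hr : r.Prime)
    (hcard : Fintype.card F = Nat.card F₀ ^ r) : ∃ θ : F, θ ∉ F₀ := by
  by_contra hcon
  push Not at hcon
  have htop : F₀ = ⊤ := by
    ext x
    simp [hcon x]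
  have h1 : Nat.card F₀ = Fintype.card F := by
    rw [htop, ← Nat.card_eq_fintype_card]
    exact Nat.card_congr (Subfield.topEquiv (K := F)).toEquiv
  rw [h1] at hcard
  have h2 : 1 < Fintype.card F := Fintype.one_lt_card
  have h3 : Fintype.card F ^ 1 < Fintype.card F ^ r := Nat.pow_lt_pow_right h2 hr.one_lt
  rw [pow_one] at h3
  omega

/-- maximality in standard position -/
theorem maximal_std [Fintype F] (h2 : (2 : F) ≠ 0) (hm : 6 ≤ m) (F₀ : Subfield F) (r : ℕ)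
    (hr : r.Prime) (hcard : Fintype.card F = Nat.card F₀ ^ r) :
    Cfsg.Geo.IsMaximalIn (Cfsg.Geo.omegaGL ⇑(QfOdd m F))
      (Cfsg.Geo.subfieldSubgroup F₀ (1 : Matrix.GeneralLinearGroup (Idx m) F) ⊓
        Cfsg.Geo.omegaGL ⇑(QfOdd m F)) := by
  classical
  have hm3 : 3 ≤ m := by omega
  refine ⟨lt_of_le_of_ne inf_le_right ?_, ?_⟩
  · intro heq
    obtain ⟨θ, hθ⟩ := exists_not_mem F₀ r hr hcard
    obtain ⟨g, hgΩ, hgN⟩ := PROPER.exists_not_mem h2 hm3 F₀ θ hθ
    rw [← heq] at hgΩ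
    exact hgN hgΩ.1
  · intro M hHM hMS
    set M' : Subgroup (OG m F) := M.comap (Cfsg.isometryGroup F ⇑(QfOdd m F)).subtype with hM'
    have hRat : HasRatO F₀ M' := HASRAT.hasRatO h2 hm3 F₀ M hHM
    rcases MAIN.main h2 hm F₀ r hr hcard M' hRat with hall | hall
    · left
      apply le_antisymm _ hHM
      intro g hg
      refine Subgroup.mem_inf.2 ⟨?_, hMS hg⟩
      obtain ⟨h, hhΩ, rfl⟩ := (Cfsg.Agent.Helper28.NM.mem_omegaGL_iff (QfOdd m F) g).mp (hMS hg)
      rw [MEMSUBF.mem_subf_one_iff]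
      exact hall h hg
    · right
      apply le_antisymm hMS
      intro g hg
      obtain ⟨h, hhΩ, rfl⟩ := (Cfsg.Agent.Helper28.NM.mem_omegaGL_iff (QfOdd m F) g).mp hg
      rw [Omega_eq_S_odd h2 hm3] at hhΩ
      exact hall hhΩ

theorem subf_one {ι : Type} [Fintype ι] [DecidableEq ι] (F₀ : Subfield F)
    (P : Matrix.GeneralLinearGroup ι F) :
    (Cfsg.Geo.subfieldSubgroup F₀ (1 : Matrix.GeneralLinearGroup ι F)).map
      (MulAut.conj P).toMonoidHom = Cfsg.Geo.subfieldSubgroup F₀ P := by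
  unfold Cfsg.Geo.subfieldSubgroup
  rw [Subgroup.map_map]
  congr 1
  ext x
  simp

/-- **maximality of the subfield subgroup of `Ω_{2m+1}(q)`** -/
theorem maximal [Fintype F] (hodd : Odd (Fintype.card F)) (hm : 6 ≤ m) (F₀ : Subfield F) (r : ℕ)
    (hr : r.Prime) (hcard : Fintype.card F = Nat.card F₀ ^ r)
    (P : Matrix.GeneralLinearGroup (Idx m) F)
    (hP : Cfsg.Geo.IsQuadFormRationalStructure (Cfsg.quadFormOdd m F) F₀ P) :
    Cfsg.Geo.IsMaximalIn (Cfsg.Geo.omegaGL (Cfsg.quadFormOdd m F))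
      (Cfsg.Geo.subfieldSubgroup F₀ P ⊓ Cfsg.Geo.omegaGL (Cfsg.quadFormOdd m F)) := by
  classical
  have h2 : (2 : F) ≠ 0 := by
    apply Ring.two_ne_zero
    intro h
    rw [FiniteField.even_card_iff_char_two] at h
    rcases hodd with ⟨k, hk⟩
    omega
  obtain ⟨T, δ, hT, hT', hδ, hsim⟩ := STD.exists_std h2 m F₀ P hP
  have hstd := maximal_std h2 hm F₀ r hr hcard (m := m)
  rw [QfOdd_coe] at hstd
  have hmap := MAXMAP.isMaximalIn_map (MulAut.conj (P * T)) _ _ hstd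
  have e1 : (Cfsg.Geo.omegaGL (Cfsg.quadFormOdd m F)).map
      (MulAut.conj (P * T)).toMonoidHom = Cfsg.Geo.omegaGL (Cfsg.quadFormOdd m F) :=
    SIMNORM.map_conj_omegaGL (Cfsg.quadFormOdd m F) (P * T) δ hδ hsim
  have e2 : (Cfsg.Geo.subfieldSubgroup F₀ (1 : Matrix.GeneralLinearGroup (Idx m) F) ⊓
      Cfsg.Geo.omegaGL (Cfsg.quadFormOdd m F)).map (MulAut.conj (P * T)).toMonoidHom =
      Cfsg.Geo.subfieldSubgroup F₀ P ⊓ Cfsg.Geo.omegaGL (Cfsg.quadFormOdd m F) := by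
    rw [Subgroup.map_inf _ _ _ (MulAut.conj (P * T)).injective, e1, subf_one,
      SUBFT.subf_mul F₀ P T hT hT']
  have e1' : (Cfsg.Geo.omegaGL (Cfsg.quadFormOdd m F)).map
      ((MulAut.conj (P * T) : Matrix.GeneralLinearGroup (Idx m) F ≃*
        Matrix.GeneralLinearGroup (Idx m) F).toMonoidHom) =
      Cfsg.Geo.omegaGL (Cfsg.quadFormOdd m F) := e1
  rw [e1', e2] at hmap
  exact hmap

end FINAL

end Cfsg.Agent.S5683P
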