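import Cfsg.Agent.Helper12.S5683Lib

set_option autoImplicit false
set_option linter.unusedSectionVars false
set_option linter.unusedVariables false

/-! # S5683 piece WEDGE: `E(v', w')` only depends on `v' ∧ w'` -/

namespace Cfsg.Agent.S5683P

open Matrix Cfsg.Agent.Helper28.Sg Cfsg.Agent.Helper28.Spin Cfsg.Agent.Helper12.OrthGen
  Cfsg.Agent.S2614

variable {F : Type*} [Field F] {m : ℕ}

section genericQ

variable {ι : Type} [Fintype ι] [DecidableEq ι] {Q : QuadraticForm F (ι → F)}

/-- WEDGE: `E(v', w')` only depends on `v' ∧ w'`. -/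
theorem WEDGE.siegO_eq (v w : ι → F) (hv : Q v = 0) (hw : Q w = 0) (hvw : B Q v w = 0)
    (α β γ δ : F) (hv' : Q (α • v + β • w) = 0)
    (hvw' : B Q (α • v + β • w) (γ • v + δ • w) = 0)
    (h : B Q v ((α * δ - β * γ) • w) = 0) :
    siegO Q (α • v + β • w) (γ • v + δ • w) hv' hvw' = siegO Q v ((α * δ - β * γ) • w) hv h := by
  apply O_ext
  intro x
  rw [siegO_mulVec, siegO_mulVec]
  have hQ1 : Q (γ • v + δ • w) = 0 := by
    rw [Q_add, Q_smul, Q_smul, hv, hw]
    simp only [B, QuadraticMap.polar_smul_left, QuadraticMap.polar_smul_right, smul_eq_mul]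
    simp only [B] at hvw
    rw [hvw]; ring
  have hQ2 : Q ((α * δ - β * γ) • w) = 0 := by rw [Q_smul, hw, mul_zero]
  rw [hQ1, hQ2]
  simp only [B, QuadraticMap.polar_add_left, QuadraticMap.polar_smul_left, smul_eq_mul]
  module

end genericQ

end Cfsg.Agent.S5683P
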