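import Cfsg.Agent.Helper12.S5683Defs

set_option autoImplicit false
set_option linter.unusedSectionVars false
set_option linter.unusedVariables false

/-! # S5683: basic library (rational vectors / matrices, the standard frame of `QfOdd m F`) -/

namespace Cfsg.Agent.S5683P

open Matrix Cfsg.Agent.Helper28.Sg Cfsg.Agent.Helper28.Spin Cfsg.Agent.Helper12.OrthGen
  Cfsg.Agent.S2614

section generic

variable {F : Type*} [Field F] {ι : Type} {F₀ : Subfield F}

theorem Rat.zero : Rat F₀ (0 : ι → F) := fun _ => F₀.zero_mem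

theorem Rat.add {u v : ι → F} (hu : Rat F₀ u) (hv : Rat F₀ v) : Rat F₀ (u + v) :=
  fun i => F₀.add_mem (hu i) (hv i)

theorem Rat.neg {u : ι → F} (hu : Rat F₀ u) : Rat F₀ (-u) := fun i => F₀.neg_mem (hu i)

theorem Rat.sub {u v : ι → F} (hu : Rat F₀ u) (hv : Rat F₀ v) : Rat F₀ (u - v) :=
  fun i => F₀.sub_mem (hu i) (hv i)

theorem Rat.smul {c : F} (hc : c ∈ F₀) {u : ι → F} (hu : Rat F₀ u) : Rat F₀ (c • u) :=
  fun i => F₀.mul_mem hc (hu i)

theorem Rat.single [DecidableEq ι] (i : ι) {c : F} (hc : c ∈ F₀) : Rat F₀ (Pi.single i c : ι → F) := by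
  intro j
  by_cases h : j = i
  · subst h; rw [Pi.single_eq_same]; exact hc
  · rw [Pi.single_eq_of_ne h]; exact F₀.zero_mem

theorem Rat.sum {κ : Type*} (s : Finset κ) {u : κ → ι → F} (hu : ∀ k ∈ s, Rat F₀ (u k)) :
    Rat F₀ (∑ k ∈ s, u k) := by
  intro i
  rw [Finset.sum_apply]
  exact F₀.sum_mem fun k hk => hu k hk i

/-- cancelling a non-zero rational scalar -/
theorem Rat.of_smul {c : F} (hc : c ∈ F₀) (hc0 : c ≠ 0) {u : ι → F} (hu : Rat F₀ (c • u)) :
    Rat F₀ u := by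
  intro i
  have h := F₀.mul_mem (F₀.inv_mem hc) (hu i)
  rwa [Pi.smul_apply, smul_eq_mul, ← mul_assoc, inv_mul_cancel₀ hc0, one_mul] at h

theorem PRat.of_rat {u : ι → F} (hu : Rat F₀ u) : PRat F₀ u :=
  ⟨1, one_ne_zero, by rwa [one_smul]⟩

theorem PRat.smul {c : F} (hc : c ≠ 0) {u : ι → F} (hu : PRat F₀ u) : PRat F₀ (c • u) := by
  obtain ⟨z, hz, h⟩ := hu
  refine ⟨z * c⁻¹, mul_ne_zero hz (inv_ne_zero hc), ?_⟩
  rwa [smul_smul, mul_assoc, inv_mul_cancel₀ hc, mul_one]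

variable [Fintype ι]

theorem Rat.dot {u v : ι → F} (hu : Rat F₀ u) (hv : Rat F₀ v) : u ⬝ᵥ v ∈ F₀ :=
  F₀.sum_mem fun i _ => F₀.mul_mem (hu i) (hv i)

theorem RatM.mulVec {A : Matrix ι ι F} (hA : RatM F₀ A) {u : ι → F} (hu : Rat F₀ u) :
    Rat F₀ (A *ᵥ u) := fun i => F₀.sum_mem fun j _ => F₀.mul_mem (hA i j) (hu j)

theorem RatM.mul {A B : Matrix ι ι F} (hA : RatM F₀ A) (hB : RatM F₀ B) : RatM F₀ (A * B) :=
  fun i j => F₀.sum_mem fun k _ => F₀.mul_mem (hA i k) (hB k j)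

theorem RatM.one [DecidableEq ι] : RatM F₀ (1 : Matrix ι ι F) := by
  intro i j
  by_cases h : i = j
  · subst h; rw [Matrix.one_apply_eq]; exact F₀.one_mem
  · rw [Matrix.one_apply_ne h]; exact F₀.zero_mem

/-- a matrix all of whose columns `A e_j` are rational is rational -/
theorem RatM.of_cols [DecidableEq ι] {A : Matrix ι ι F}
    (h : ∀ j, Rat F₀ (A *ᵥ (Pi.single j 1 : ι → F))) : RatM F₀ A := by
  intro i j
  have := h j i
  rwa [Matrix.mulVec_single_one] at this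

theorem InN.of_ratM {A : Matrix ι ι F} (hA : RatM F₀ A) : InN F₀ A :=
  ⟨1, one_ne_zero, by rwa [one_smul]⟩

end generic

section odd

variable {F : Type*} [Field F] {m : ℕ} {F₀ : Subfield F}

theorem rat_ee (i : Fin m) : Rat F₀ (ee F i) := Rat.single _ F₀.one_mem

theorem rat_ff (i : Fin m) : Rat F₀ (ff F i) := Rat.single _ F₀.one_mem

theorem rat_dd : Rat F₀ (dd F m) := Rat.single _ F₀.one_mem

theorem Q_dd : QfOdd m F (dd F m) = 1 := by
  rw [Q_apply]
  simp [dd]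

theorem B_dd (x : Idx m → F) : B (QfOdd m F) (dd F m) x = 2 * x (Sum.inl ()) := by
  show QuadraticMap.polar ⇑(QfOdd m F) (dd F m) x = _
  unfold QuadraticMap.polar
  rw [Q_apply, Q_apply, Q_apply]
  simp only [dd, Pi.add_apply, Pi.single_eq_same, ne_eq, reduceCtorEq, not_false_eq_true,
    Pi.single_eq_of_ne, zero_add, zero_mul, Finset.sum_const_zero, add_zero]
  ring

theorem B_ee' (i : Fin m) (x : Idx m → F) : B (QfOdd m F) x (ee F i) = x (Sum.inr (Sum.inr i)) := by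
  rw [B_comm, B_ee]

theorem B_ff' (i : Fin m) (x : Idx m → F) : B (QfOdd m F) x (ff F i) = x (Sum.inr (Sum.inl i)) := by
  rw [B_comm, B_ff]

theorem B_dd' (x : Idx m → F) : B (QfOdd m F) x (dd F m) = 2 * x (Sum.inl ()) := by
  rw [B_comm, B_dd]

theorem ee_ne_zero (i : Fin m) : ee F i ≠ 0 := by
  intro h
  have := congrFun h (Sum.inr (Sum.inl i))
  simp [ee] at this

/-- the value of the polar form -/
theorem B_apply (x y : Idx m → F) :
    B (QfOdd m F) x y = 2 * x (Sum.inl ()) * y (Sum.inl ()) +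
      ∑ i : Fin m, (x (Sum.inr (Sum.inl i)) * y (Sum.inr (Sum.inr i)) +
        x (Sum.inr (Sum.inr i)) * y (Sum.inr (Sum.inl i))) := by
  show QuadraticMap.polar ⇑(QfOdd m F) x y = _
  unfold QuadraticMap.polar
  rw [Q_apply, Q_apply, Q_apply]
  simp only [Pi.add_apply]
  have : ∀ i : Fin m, (x (Sum.inr (Sum.inl i)) + y (Sum.inr (Sum.inl i))) *
      (x (Sum.inr (Sum.inr i)) + y (Sum.inr (Sum.inr i))) =
      x (Sum.inr (Sum.inl i)) * x (Sum.inr (Sum.inr i)) +
      y (Sum.inr (Sum.inl i)) * y (Sum.inr (Sum.inr i)) +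
      (x (Sum.inr (Sum.inl i)) * y (Sum.inr (Sum.inr i)) +
        x (Sum.inr (Sum.inr i)) * y (Sum.inr (Sum.inl i))) := fun i => by ring
  simp only [this, Finset.sum_add_distrib]
  ring

theorem ratQ {u : Idx m → F} (hu : Rat F₀ u) : QfOdd m F u ∈ F₀ := by
  rw [Q_apply]
  exact F₀.add_mem (F₀.pow_mem (hu _) 2) (F₀.sum_mem fun i _ => F₀.mul_mem (hu _) (hu _))

theorem ratB {u v : Idx m → F} (hu : Rat F₀ u) (hv : Rat F₀ v) : B (QfOdd m F) u v ∈ F₀ := by
  rw [B_apply]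
  refine F₀.add_mem (F₀.mul_mem (F₀.mul_mem ?_ (hu _)) (hv _)) (F₀.sum_mem fun i _ =>
    F₀.add_mem (F₀.mul_mem (hu _) (hv _)) (F₀.mul_mem (hu _) (hv _)))
  have : (2 : F) = 1 + 1 := by norm_num
  rw [this]
  exact F₀.add_mem F₀.one_mem F₀.one_mem

/-- the coordinate expansion of a vector -/
theorem eq_sum_coord (x : Idx m → F) :
    x = x (Sum.inl ()) • dd F m +
      ∑ i : Fin m, (x (Sum.inr (Sum.inl i)) • ee F i + x (Sum.inr (Sum.inr i)) • ff F i) := by
  classical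
  funext k
  simp only [Pi.add_apply, Pi.smul_apply, Finset.sum_apply, smul_eq_mul, dd, ee, ff, Pi.single_apply]
  rcases k with u | j | j
  · simp
  · simp [Finset.sum_ite_eq]
  · simp [Finset.sum_ite_eq]

/-- the standard frame -/
noncomputable def sfr (m : ℕ) (F : Type*) [Field F] : HFrame (QfOdd m F) m :=
  coordFrame (fun j => Sum.inr (Sum.inl j)) (fun j => Sum.inr (Sum.inr j))
    (by
      intro x y h
      rcases x with x | x <;> rcases y with y | y <;>
        simp only [Sum.elim_inl, Sum.elim_inr, Sum.inl.injEq, Sum.inr.injEq, reduceCtorEq] at h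
      · rw [h]
      · rw [h])
    (fun j => hypPair_odd m j)

theorem sfr_e (i : Fin m) : (sfr m F).e i = ee F i := rfl

theorem sfr_f (i : Fin m) : (sfr m F).f i = ff F i := rfl

theorem sfr_inV0_iff (w : Idx m → F) :
    (sfr m F).InV0 w ↔ ∀ j : Fin m, w (Sum.inr (Sum.inl j)) = 0 ∧ w (Sum.inr (Sum.inr j)) = 0 :=
  coordFrame_inV0_iff _ _ _ _ w

/-- the standard `Frame3` (for `S ≤ Ω`, `Ω = S`) -/
noncomputable def sfr3 (hm : 3 ≤ m) (F : Type*) [Field F] : Frame3 (QfOdd m F) :=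
  frameOf (fun j : Fin 3 => Sum.inr (Sum.inl (Fin.castLE hm j)))
    (fun j : Fin 3 => Sum.inr (Sum.inr (Fin.castLE hm j)))
    (by
      intro x y h
      rcases x with x | x <;> rcases y with y | y <;>
        simp only [Sum.elim_inl, Sum.elim_inr, Sum.inl.injEq, Sum.inr.injEq, reduceCtorEq,
          Fin.castLE_inj] at h
      · rw [h]
      · rw [h])
    (fun j => hypPair_odd m _)

theorem nondeg_odd (h2 : (2 : F) ≠ 0) (m : ℕ) :
    (QuadraticMap.polarBilin (QfOdd m F)).Nondegenerate := Cfsg.Agent.S0292.QfOdd_nondeg h2 m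

theorem S_le_Omega_odd (h2 : (2 : F) ≠ 0) (hm : 3 ≤ m) :
    S (QfOdd m F) ≤ Cfsg.Omega F ⇑(QfOdd m F) :=
  S_le_Omega (nondeg_odd h2 m) (sfr3 hm F)

theorem Omega_eq_S_odd [Fintype F] (h2 : (2 : F) ≠ 0) (hm : 3 ≤ m) :
    Cfsg.Omega F ⇑(QfOdd m F) = S (QfOdd m F) :=
  Omega_eq_S (nondeg_odd h2 m) (sfr3 hm F) (hgen_odd h2 (nondeg_odd h2 m))

/-- a vector all of whose pairings with the coordinate vectors are rational is rational -/
theorem rat_of_B (h2 : (2 : F) ≠ 0) {x : Idx m → F}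
    (he : ∀ i, B (QfOdd m F) (ee F i) x ∈ F₀) (hf : ∀ i, B (QfOdd m F) (ff F i) x ∈ F₀)
    (hd : B (QfOdd m F) (dd F m) x ∈ F₀) : Rat F₀ x := by
  intro k
  rcases k with u | j | j
  · rw [B_dd] at hd
    have h2' : (2 : F) ∈ F₀ := by
      have : (2 : F) = 1 + 1 := by norm_num
      rw [this]; exact F₀.add_mem F₀.one_mem F₀.one_mem
    have := F₀.mul_mem (F₀.inv_mem h2') hd
    rwa [← mul_assoc, inv_mul_cancel₀ h2, one_mul] at this
  · have := hf j; rwa [B_ff] at this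
  · have := he j; rwa [B_ee] at this

/-- membership in `M` of the rational Siegel transformations -/
theorem HasRatO.inv_mem {M : Subgroup (OG m F)} (hM : HasRatO F₀ M) {g : OG m F}
    (hg : g ∈ S (QfOdd m F)) (hr : RatM F₀ (mt (QfOdd m F) g⁻¹)) : g⁻¹ ∈ M :=
  hM _ ((S (QfOdd m F)).inv_mem hg) hr

end odd

end Cfsg.Agent.S5683P
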