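import Cfsg.Agent.Helper12.S5683LRSL2
import Cfsg.Agent.Helper12.S5683WEDGE
import Cfsg.Agent.Helper17.S5683EXC
import Cfsg.Agent.Helper23.S5683RATSIEG
import Cfsg.Agent.Helper3.S5683DICK

set_option autoImplicit false
set_option linter.unusedSectionVars false
set_option linter.unusedVariables false

/-! # S5683 piece GAMMA: the relative parameter of an `M`-root element and a rational root group -/

namespace Cfsg.Agent.S5683P

open Matrix Cfsg.Agent.Helper28.Sg Cfsg.Agent.Helper28.Spin Cfsg.Agent.Helper12.OrthGen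
  Cfsg.Agent.S2614

variable {F : Type*} [Field F] {m : ℕ}

namespace GAMMA

/-- upper unitriangular matrices in `SL₂` -/
def up (t : F) : Matrix.SpecialLinearGroup (Fin 2) F :=
  ⟨!![1, t; 0, 1], by simp [Matrix.det_fin_two]⟩

/-- lower unitriangular matrices in `SL₂` -/
def lo (s : F) : Matrix.SpecialLinearGroup (Fin 2) F :=
  ⟨!![1, 0; s, 1], by simp [Matrix.det_fin_two]⟩

theorem up_val (t : F) : ((up t : Matrix.SpecialLinearGroup (Fin 2) F) : Matrix (Fin 2) (Fin 2) F) =
    !![1, t; 0, 1] := rfl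

theorem lo_val (s : F) : ((lo s : Matrix.SpecialLinearGroup (Fin 2) F) : Matrix (Fin 2) (Fin 2) F) =
    !![1, 0; s, 1] := rfl

end GAMMA

open GAMMA in
/-- GAMMA: the relative parameter of an `M`-root element and a rational root group lies in `F₀` (`r` odd:
LRSL2 + DICK + WEDGE + RootRatO; EXC for the exceptional case of Dickson's theorem). -/
theorem GAMMA.det_mem [Fintype F] (h2 : (2 : F) ≠ 0) (hm : 3 ≤ m) (F₀ : Subfield F) (r : ℕ)
    (hr : Odd r) (hcard : Fintype.card F = Nat.card F₀ ^ r) (M : Subgroup (OG m F))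
    (hM : HasRatO F₀ M) (hR : RootRatO F₀ M) (v w : Idx m → F) (hv : QfOdd m F v = 0)
    (hw : QfOdd m F w = 0) (hvw : B (QfOdd m F) v w = 0) (hw' : w ∈ Rad M v hv)
    (a b : Idx m → F) (ha : Rat F₀ a) (hb : Rat F₀ b) (hQa : QfOdd m F a = 0)
    (hQb : QfOdd m F b = 0) (hab : B (QfOdd m F) a b = 0) :
    B (QfOdd m F) a v * B (QfOdd m F) b w - B (QfOdd m F) a w * B (QfOdd m F) b v ∈ F₀ := by
  classical
  set Q := QfOdd m F with hQdef
  set γ : F := B Q a v * B Q b w - B Q a w * B Q b v with hγ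
  by_cases hγ0 : γ = 0
  · rw [hγ0]; exact F₀.zero_mem
  -- independence of `a, b`
  have hind : Indep a b := by
    intro x y hxy
    have e1 : B Q (x • a + y • b) v = 0 := by
      rw [hxy]; exact QuadraticMap.polar_zero_left _ _
    have e2 : B Q (x • a + y • b) w = 0 := by
      rw [hxy]; exact QuadraticMap.polar_zero_left _ _
    simp only [B, QuadraticMap.polar_add_left, QuadraticMap.polar_smul_left, smul_eq_mul] at e1 e2
    have hx : x * γ = 0 := by
      rw [hγ]; simp only [B]; linear_combination (QuadraticMap.polar (⇑Q) b w) * e1 -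
        (QuadraticMap.polar (⇑Q) b v) * e2
    have hy : y * γ = 0 := by
      rw [hγ]; simp only [B]; linear_combination (QuadraticMap.polar (⇑Q) a v) * e2 -
        (QuadraticMap.polar (⇑Q) a w) * e1
    exact ⟨(mul_eq_zero.mp hx).resolve_right hγ0, (mul_eq_zero.mp hy).resolve_right hγ0⟩
  -- the dual basis of the line `⟨v, w⟩`
  set α : F := γ⁻¹ * B Q b w with hα
  set β : F := -(γ⁻¹ * B Q b v) with hβ
  set γ' : F := -(B Q a w) with hγ'
  set δ' : F := B Q a v with hδ'
  set v' : Idx m → F := α • v + β • w with hv'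
  set w'' : Idx m → F := γ' • v + δ' • w with hw''
  set w' : Idx m → F := γ⁻¹ • w'' with hw'def
  have hwv : B Q w v = 0 := by rw [B_comm]; exact hvw
  have hvv : B Q v v = 0 := B_self_of_singular Q hv
  have hww : B Q w w = 0 := B_self_of_singular Q hw
  have Qlin : ∀ s t : F, Q (s • v + t • w) = 0 := by
    intro s t
    rw [Q_add, Q_smul, Q_smul, hv, hw]
    simp only [B, QuadraticMap.polar_smul_left, QuadraticMap.polar_smul_right, smul_eq_mul]
    simp only [B] at hvw
    rw [hvw]; ring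
  have Blin : ∀ s t s' t' : F, B Q (s • v + t • w) (s' • v + t' • w) = 0 := by
    intro s t s' t'
    simp only [B, QuadraticMap.polar_add_left, QuadraticMap.polar_add_right,
      QuadraticMap.polar_smul_left, QuadraticMap.polar_smul_right, smul_eq_mul]
    simp only [B] at hvw hwv hvv hww
    rw [hvw, hwv, hvv, hww]; ring
  have hQv' : Q v' = 0 := Qlin α β
  have hQw'' : Q w'' = 0 := Qlin γ' δ'
  have hQw' : Q w' = 0 := by rw [hw'def, Q_smul, hQw'', mul_zero]
  have hv'w'' : B Q v' w'' = 0 := Blin α β γ' δ'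
  have hv'w' : B Q v' w' = 0 := B_smul_right_zero Q _ hv'w''
  have hdet : α * δ' - β * γ' = 1 := by
    rw [hα, hβ, hγ', hδ']
    have : γ⁻¹ * γ = 1 := inv_mul_cancel₀ hγ0
    rw [hγ] at this ⊢
    linear_combination this
  have hav' : B Q a v' = 1 := by
    simp only [hv', B, QuadraticMap.polar_add_right, QuadraticMap.polar_smul_right, smul_eq_mul]
    have : γ⁻¹ * γ = 1 := inv_mul_cancel₀ hγ0
    rw [hα, hβ]
    simp only [B]
    rw [hγ] at this
    simp only [B] at this
    linear_combination this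
  have hbv' : B Q b v' = 0 := by
    simp only [hv', B, QuadraticMap.polar_add_right, QuadraticMap.polar_smul_right, smul_eq_mul]
    rw [hα, hβ]
    simp only [B]
    ring
  have haw' : B Q a w' = 0 := by
    simp only [hw'def, hw'', B, QuadraticMap.polar_add_right, QuadraticMap.polar_smul_right,
      smul_eq_mul]
    rw [hγ', hδ']
    simp only [B]
    ring
  have hbw' : B Q b w' = 1 := by
    simp only [hw'def, hw'', B, QuadraticMap.polar_add_right, QuadraticMap.polar_smul_right,
      smul_eq_mul]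
    have : γ⁻¹ * γ = 1 := inv_mul_cancel₀ hγ0
    rw [hγ', hδ']
    simp only [B]
    rw [hγ] at this
    simp only [B] at this
    linear_combination this
  obtain ⟨φ, hφup, hφlo⟩ := LRSL2.exists_hom (Q := Q) a b v' w' hQa hQb hQv' hQw' hab hv'w' hav'
    haw' hbv' hbw'
  set μ : F := -γ with hμ
  have hμ0 : μ ≠ 0 := neg_ne_zero.mpr hγ0
  -- the exceptional case
  by_cases hexc : μ ^ 2 = -1 ∧ Nat.card (Subfield.closure ({μ} : Set F)) = 9
  · have := EXC.mem_of_sq F₀ r hr hcard μ hexc.1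
    have h' := F₀.neg_mem this
    rwa [hμ, neg_neg] at h'
  set X : Subgroup (Matrix.SpecialLinearGroup (Fin 2) F) := M.comap φ with hX
  -- `upper(1)`
  have h1 : ∀ g : Matrix.SpecialLinearGroup (Fin 2) F,
      (g : Matrix (Fin 2) (Fin 2) F) = !![1, 1; 0, 1] → g ∈ X := by
    intro g hg
    show φ g ∈ M
    rw [hφup 1 g hg]
    have hb1 : Rat F₀ ((1 : F) • b) := Rat.smul F₀.one_mem hb
    obtain ⟨h', hmem⟩ := RATSIEG.mem_rad F₀ M hM a ((1 : F) • b) ha hb1 hQa
      (B_smul_right_zero Q 1 hab)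
    exact hmem
  -- `lower(μ)`
  have hlo : ∀ g : Matrix.SpecialLinearGroup (Fin 2) F,
      (g : Matrix (Fin 2) (Fin 2) F) = !![1, 0; μ, 1] → g ∈ X := by
    intro g hg
    show φ g ∈ M
    rw [hφlo μ g hg]
    obtain ⟨hvw0, hmem⟩ := hw'
    have e1 : (-μ) • w' = w'' := by
      rw [hμ, neg_neg, hw'def, smul_smul, mul_inv_cancel₀ hγ0, one_smul]
    have hB1 : B Q v ((α * δ' - β * γ') • w) = 0 := B_smul_right_zero Q _ hvw
    have e2 := WEDGE.siegO_eq (Q := Q) v w hv hw hvw α β γ' δ' hQv' hv'w'' hB1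
    have e3 : siegO Q v' ((-μ) • w') hQv' (B_smul_right_zero Q (-μ) hv'w') =
        siegO Q v' w'' hQv' hv'w'' := siegO_congr Q _ _ _ _ rfl e1
    have e4 : siegO Q v ((α * δ' - β * γ') • w) hv hB1 = siegO Q v w hv hvw0 :=
      siegO_congr Q _ _ _ _ rfl (by rw [hdet, one_smul])
    rw [e3, e2, e4]
    exact hmem
  have hup := DICK.upper_mem h2 μ hμ0 hexc X h1 hlo (up μ) (up_val μ)
  have hmem : φ (up μ) ∈ M := hup
  rw [hφup μ (up μ) (up_val μ)] at hmem
  have hrad : μ • b ∈ Rad M a hQa := ⟨B_smul_right_zero Q μ hab, hmem⟩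
  have hμF : μ ∈ F₀ := hR a b μ hQa ha hb hQb hab hind hrad
  have h' := F₀.neg_mem hμF
  rwa [hμ, neg_neg] at h'

end Cfsg.Agent.S5683P
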