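import Cfsg.Agent.Helper12.S5683Lib

set_option autoImplicit false
set_option linter.unusedSectionVars false
set_option linter.unusedVariables false
set_option maxHeartbeats 1600000

/-! # S5683 piece LRSL2: the long root `SL₂` attached to two opposite totally singular lines -/

namespace Cfsg.Agent.S5683P

open Matrix Cfsg.Agent.Helper28.Sg Cfsg.Agent.Helper28.Spin Cfsg.Agent.Helper12.OrthGen
  Cfsg.Agent.S2614 Cfsg.Agent.Helper28.IsoTransport

variable {F : Type*} [Field F] {m : ℕ}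

section genericQ

variable {ι : Type} [Fintype ι] [DecidableEq ι] {Q : QuadraticForm F (ι → F)}

namespace LRSL2

/-- the matrix of `g ⊗ 1` on `⟨b, v⟩ ⊕ ⟨-a, w⟩`, identity on the orthogonal complement -/
def lrM (Q : QuadraticForm F (ι → F)) (a b v w : ι → F) (g : Matrix (Fin 2) (Fin 2) F) :
    Matrix ι ι F :=
  1 + Matrix.vecMulVec ((g 0 0 - 1) • b + g 1 0 • v) (Cfsg.polarVec ⇑Q w)
    + Matrix.vecMulVec (g 0 1 • b + (g 1 1 - 1) • v) (Cfsg.polarVec ⇑Q a)
    + Matrix.vecMulVec ((g 0 0 - 1) • a - g 1 0 • w) (Cfsg.polarVec ⇑Q v)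
    + Matrix.vecMulVec (-(g 0 1) • a + (g 1 1 - 1) • w) (Cfsg.polarVec ⇑Q b)

theorem lrM_mulVec (a b v w : ι → F) (g : Matrix (Fin 2) (Fin 2) F) (x : ι → F) :
    lrM Q a b v w g *ᵥ x = x + B Q w x • ((g 0 0 - 1) • b + g 1 0 • v)
      + B Q a x • (g 0 1 • b + (g 1 1 - 1) • v)
      + B Q v x • ((g 0 0 - 1) • a - g 1 0 • w)
      + B Q b x • (-(g 0 1) • a + (g 1 1 - 1) • w) := by
  unfold lrM
  rw [Matrix.add_mulVec, Matrix.add_mulVec, Matrix.add_mulVec, Matrix.add_mulVec,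
    Matrix.one_mulVec, Matrix.vecMulVec_mulVec, Matrix.vecMulVec_mulVec, Matrix.vecMulVec_mulVec,
    Matrix.vecMulVec_mulVec, polarVec_dot, polarVec_dot, polarVec_dot,
    polarVec_dot]
  ext i
  simp only [Pi.add_apply, Pi.smul_apply, MulOpposite.smul_eq_mul_unop, MulOpposite.unop_op,
    smul_eq_mul, B]
  ring

variable {a b v w : ι → F} (hQa : Q a = 0) (hQb : Q b = 0) (hQv : Q v = 0)
    (hQw : Q w = 0) (hab : B Q a b = 0) (hvw : B Q v w = 0) (hav : B Q a v = 1) (haw : B Q a w = 0)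
    (hbv : B Q b v = 0) (hbw : B Q b w = 1)

include hQa hQb hQv hQw hab hvw hav haw hbv hbw in
theorem lrM_mul (g g' : Matrix (Fin 2) (Fin 2) F) :
    lrM Q a b v w (g * g') = lrM Q a b v w g * lrM Q a b v w g' := by
  apply matrix_ext_mulVec
  intro x
  rw [← Matrix.mulVec_mulVec, lrM_mulVec a b v w g' x, lrM_mulVec, lrM_mulVec]
  have haa : B Q a a = 0 := B_self_of_singular Q hQa
  have hbb : B Q b b = 0 := B_self_of_singular Q hQb
  have hvv : B Q v v = 0 := B_self_of_singular Q hQv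
  have hww : B Q w w = 0 := B_self_of_singular Q hQw
  have hba : B Q b a = 0 := by rw [B_comm]; exact hab
  have hwv : B Q w v = 0 := by rw [B_comm]; exact hvw
  have hva : B Q v a = 1 := by rw [B_comm]; exact hav
  have hwa : B Q w a = 0 := by rw [B_comm]; exact haw
  have hvb : B Q v b = 0 := by rw [B_comm]; exact hbv
  have hwb : B Q w b = 1 := by rw [B_comm]; exact hbw
  simp only [B, QuadraticMap.polar_add_right, QuadraticMap.polar_sub_right,
    QuadraticMap.polar_smul_right, smul_eq_mul, QuadraticMap.polar_neg_right]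
  simp only [B] at haa hbb hvv hww hba hwv hva hwa hvb hwb hab hvw hav haw hbv hbw
  simp only [haa, hbb, hvv, hww, hba, hwv, hva, hwa, hvb, hwb, hab, hvw, hav, haw, hbv, hbw,
    Matrix.mul_apply, Fin.sum_univ_two, mul_zero, mul_one, add_zero, zero_add, sub_zero, neg_zero]
  module

theorem lrM_one (a b v w : ι → F) : lrM Q a b v w 1 = 1 := by
  apply matrix_ext_mulVec
  intro x
  rw [lrM_mulVec, Matrix.one_mulVec]
  simp

include hQa hQb hQv hQw hab hvw hav haw hbv hbw in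
theorem lrM_pres (g : Matrix (Fin 2) (Fin 2) F) (hdet : g 0 0 * g 1 1 - g 0 1 * g 1 0 = 1)
    (x : ι → F) : Q (lrM Q a b v w g *ᵥ x) = Q x := by
  rw [lrM_mulVec]
  set Xw := B Q w x with hXw
  set Xa := B Q a x with hXa
  set Xv := B Q v x with hXv
  set Xb := B Q b x with hXb
  set c₁ : F := Xw * (g 0 0 - 1) + Xa * g 0 1 with hc₁
  set c₂ : F := Xw * g 1 0 + Xa * (g 1 1 - 1) with hc₂
  set c₃ : F := Xv * (g 0 0 - 1) - Xb * g 0 1 with hc₃
  set c₄ : F := -(Xv * g 1 0) + Xb * (g 1 1 - 1) with hc₄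
  have e : x + Xw • ((g 0 0 - 1) • b + g 1 0 • v) + Xa • (g 0 1 • b + (g 1 1 - 1) • v)
      + Xv • ((g 0 0 - 1) • a - g 1 0 • w) + Xb • (-(g 0 1) • a + (g 1 1 - 1) • w) =
      x + ((c₁ • b + c₂ • v) + (c₃ • a + c₄ • w)) := by
    rw [hc₁, hc₂, hc₃, hc₄]; module
  rw [e, Q_add, Q_add (Q := Q) (c₁ • b + c₂ • v), Q_add (Q := Q) (c₁ • b), Q_add (Q := Q) (c₃ • a),
    Q_smul, Q_smul, Q_smul, Q_smul, hQa, hQb, hQv, hQw]
  have hba : B Q b a = 0 := by rw [B_comm]; exact hab
  have hva : B Q v a = 1 := by rw [B_comm]; exact hav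
  have hxb : B Q x b = Xb := by rw [B_comm]
  have hxv : B Q x v = Xv := by rw [B_comm]
  have hxa : B Q x a = Xa := by rw [B_comm]
  have hxw : B Q x w = Xw := by rw [B_comm]
  simp only [B, QuadraticMap.polar_add_right, QuadraticMap.polar_add_left,
    QuadraticMap.polar_smul_right, QuadraticMap.polar_smul_left, smul_eq_mul]
  simp only [B] at hba hva hxb hxv hxa hxw hab hvw hav haw hbv hbw
  rw [hba, hva, hxb, hxv, hxa, hxw, hvw, haw, hbv, hbw]
  rw [hc₁, hc₂, hc₃, hc₄]
  linear_combination (Xw * Xb + Xa * Xv) * hdet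

end LRSL2

open LRSL2 in
/-- LRSL2: the long root `SL₂` attached to two opposite totally singular lines `⟨a, b⟩`, `⟨v, w⟩` in
dual position. It acts as `g ⊗ 1` on `⟨b, v⟩ ⊕ ⟨-a, w⟩` and trivially on the orthogonal complement. -/
theorem LRSL2.exists_hom (a b v w : ι → F) (hQa : Q a = 0) (hQb : Q b = 0) (hQv : Q v = 0)
    (hQw : Q w = 0) (hab : B Q a b = 0) (hvw : B Q v w = 0) (hav : B Q a v = 1) (haw : B Q a w = 0)
    (hbv : B Q b v = 0) (hbw : B Q b w = 1) :
    ∃ φ : Matrix.SpecialLinearGroup (Fin 2) F →* ↥(Cfsg.isometryGroup F ⇑Q),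
      (∀ (t : F) (g : Matrix.SpecialLinearGroup (Fin 2) F),
        (g : Matrix (Fin 2) (Fin 2) F) = !![1, t; 0, 1] →
          φ g = siegO Q a (t • b) hQa (B_smul_right_zero Q t hab)) ∧
      (∀ (s : F) (g : Matrix.SpecialLinearGroup (Fin 2) F),
        (g : Matrix (Fin 2) (Fin 2) F) = !![1, 0; s, 1] →
          φ g = siegO Q v ((-s) • w) hQv (B_smul_right_zero Q (-s) hvw)) := by
  have hmul := lrM_mul hQa hQb hQv hQw hab hvw hav haw hbv hbw
  have hdet : ∀ g : Matrix.SpecialLinearGroup (Fin 2) F,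
      (g : Matrix (Fin 2) (Fin 2) F) 0 0 * (g : Matrix (Fin 2) (Fin 2) F) 1 1 -
        (g : Matrix (Fin 2) (Fin 2) F) 0 1 * (g : Matrix (Fin 2) (Fin 2) F) 1 0 = 1 := by
    intro g
    have := g.2
    rw [Matrix.det_fin_two] at this
    exact this
  -- the units
  let toGL : Matrix.SpecialLinearGroup (Fin 2) F → GL ι F := fun g =>
    ⟨lrM Q a b v w (g : Matrix (Fin 2) (Fin 2) F),
      lrM Q a b v w ((g⁻¹ : Matrix.SpecialLinearGroup (Fin 2) F) : Matrix (Fin 2) (Fin 2) F),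
      by
        rw [← hmul, ← Matrix.SpecialLinearGroup.coe_mul, mul_inv_cancel,
          Matrix.SpecialLinearGroup.coe_one, lrM_one],
      by
        rw [← hmul, ← Matrix.SpecialLinearGroup.coe_mul, inv_mul_cancel,
          Matrix.SpecialLinearGroup.coe_one, lrM_one]⟩
  have htoGL : ∀ g, ((toGL g : GL ι F) : Matrix ι ι F) =
      lrM Q a b v w (g : Matrix (Fin 2) (Fin 2) F) := fun g => rfl
  have hmem : ∀ g, toGL g ∈ Cfsg.isometryGroup F ⇑Q := by
    intro g
    rw [mem_isometryGroup_iff]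
    intro x
    rw [htoGL]
    exact lrM_pres hQa hQb hQv hQw hab hvw hav haw hbv hbw _ (hdet g) x
  let φ : Matrix.SpecialLinearGroup (Fin 2) F →* ↥(Cfsg.isometryGroup F ⇑Q) :=
    { toFun := fun g => ⟨toGL g, hmem g⟩
      map_one' := by
        apply Subtype.ext
        apply Units.ext
        show lrM Q a b v w ((1 : Matrix.SpecialLinearGroup (Fin 2) F) : Matrix (Fin 2) (Fin 2) F) = 1
        rw [Matrix.SpecialLinearGroup.coe_one, lrM_one]
      map_mul' := by
        intro g g'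
        apply Subtype.ext
        apply Units.ext
        show lrM Q a b v w ((g * g' : Matrix.SpecialLinearGroup (Fin 2) F) :
          Matrix (Fin 2) (Fin 2) F) = lrM Q a b v w g * lrM Q a b v w g'
        rw [Matrix.SpecialLinearGroup.coe_mul, hmul] }
  have hφ : ∀ g, mt Q (φ g) = lrM Q a b v w (g : Matrix (Fin 2) (Fin 2) F) := fun g => rfl
  refine ⟨φ, ?_, ?_⟩
  · intro t g hg
    apply O_ext
    intro x
    rw [hφ, hg, lrM_mulVec, siegO_mulVec, Q_smul, hQb]
    simp only [Matrix.of_apply, Matrix.cons_val', Matrix.cons_val_zero, Matrix.cons_val_one,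
      Matrix.cons_val_fin_one, B, QuadraticMap.polar_smul_left, smul_eq_mul]
    module
  · intro s g hg
    apply O_ext
    intro x
    rw [hφ, hg, lrM_mulVec, siegO_mulVec, Q_smul, hQw]
    simp only [Matrix.of_apply, Matrix.cons_val', Matrix.cons_val_zero, Matrix.cons_val_one,
      Matrix.cons_val_fin_one, B, QuadraticMap.polar_smul_left, smul_eq_mul]
    module

end genericQ

end Cfsg.Agent.S5683P
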