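import Cfsg.Agent.Helper12.S5683GAMMA
import Cfsg.Agent.Helper23.S5683KFIELD
import Cfsg.Agent.Helper23.S5683RATSIEG
import Cfsg.Agent.Helper22.S5683ROOTRAT
import Cfsg.Agent.Helper22.S5683FULLK
import Cfsg.Agent.Helper24.S5683EXB
import Cfsg.Agent.Helper14.S5683PLANE
import Cfsg.Agent.Helper16.S5683INTER2
import Cfsg.Agent.Helper16.S5683INTERPT
import Cfsg.Agent.Helper18.S5683LINEOFFORM
import Cfsg.Agent.Helper3.S5683POLAR
import Cfsg.Agent.Helper19.S5683EXT2
import Cfsg.Agent.Helper17.S5683ALLPRATO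
import Cfsg.Agent.Helper25.S5639SUBPRIME

set_option autoImplicit false
set_option linter.unusedSectionVars false
set_option linter.unusedVariables false

/-! # S5683: assembly in standard position -/

namespace Cfsg.Agent.S5683P

open Matrix Cfsg.Agent.Helper28.Sg Cfsg.Agent.Helper28.Spin Cfsg.Agent.Helper12.OrthGen
  Cfsg.Agent.S2614

variable {F : Type*} [Field F] {m : ℕ}

namespace MAIN

theorem indep_iff (v w : Idx m → F) : Indep v w ↔ LinearIndependent F ![v, w] := by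
  rw [LinearIndependent.pair_iff]
  rfl

/-- `r = 2`: every `M`-root line is rational. -/
theorem lowline [Fintype F] (h2 : (2 : F) ≠ 0) (hm : 6 ≤ m) (F₀ : Subfield F)
    (hcard : Fintype.card F = Nat.card F₀ ^ 2) (M : Subgroup (OG m F)) (hM : HasRatO F₀ M)
    (hR : RootRatO F₀ M) (v w : Idx m → F) (hv : QfOdd m F v = 0) (hw : QfOdd m F w = 0)
    (hvw : B (QfOdd m F) v w = 0) (hind : Indep v w) (hw' : w ∈ Rad M v hv) :
    RatLine F₀ v w := by
  obtain ⟨b, b', hb, hb', hQb, hQb', hbv, hbw, hb'v, hb'w, hli⟩ :=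
    EXB.exists_two h2 hm F₀ hcard v w hind
  have hli1 : LinearIndependent F ![v, w, b] := by
    have := hli.comp (Fin.castLE (by omega : 3 ≤ 4)) (Fin.castLE_injective _)
    convert this using 1
    funext i
    fin_cases i <;> rfl
  have hli2 : LinearIndependent F ![v, w, b'] := by
    have := hli.comp ![0, 1, 3] (by decide)
    convert this using 1
    funext i
    fin_cases i <;> rfl
  have h1 := PLANE.ratPlane h2 (by omega) F₀ M hM hR v w b hv hw hvw hw' hb hQb hbv hbw hli1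
  have h2' := PLANE.ratPlane h2 (by omega) F₀ M hM hR v w b' hv hw hvw hw' hb' hQb' hb'v hb'w hli2
  exact INTER2.ratLine_of_two_planes F₀ v w b b' hli hb hb' h1 h2'

/-- `r` odd: every `M`-root line is rational. -/
theorem dickline [Fintype F] (h2 : (2 : F) ≠ 0) (hm : 3 ≤ m) (F₀ : Subfield F) (r : ℕ)
    (hr : Odd r) (hcard : Fintype.card F = Nat.card F₀ ^ r) (M : Subgroup (OG m F))
    (hM : HasRatO F₀ M) (hR : RootRatO F₀ M) (v w : Idx m → F) (hv : QfOdd m F v = 0)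
    (hw : QfOdd m F w = 0) (hvw : B (QfOdd m F) v w = 0) (hind : Indep v w)
    (hw' : w ∈ Rad M v hv) : RatLine F₀ v w := by
  apply LINEOFFORM.ratLine h2 F₀ v w hind
  apply POLAR.form_rat h2 (by omega) F₀ v w
  intro a b ha hb hQa hQb hab
  exact GAMMA.det_mem h2 hm F₀ r hr hcard M hM hR v w hv hw hvw hw' a b ha hb hQa hQb hab

/-- every `M`-root line is rational -/
theorem lines [Fintype F] (h2 : (2 : F) ≠ 0) (hm : 6 ≤ m) (F₀ : Subfield F) (r : ℕ)
    (hr : r.Prime) (hcard : Fintype.card F = Nat.card F₀ ^ r) (M : Subgroup (OG m F))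
    (hM : HasRatO F₀ M) (hR : RootRatO F₀ M) (v w : Idx m → F) (hv : QfOdd m F v = 0)
    (hw : QfOdd m F w = 0) (hvw : B (QfOdd m F) v w = 0) (hind : Indep v w)
    (hw' : w ∈ Rad M v hv) : RatLine F₀ v w := by
  rcases hr.eq_two_or_odd' with h | h
  · subst h
    exact lowline h2 hm F₀ hcard M hM hR v w hv hw hvw hind hw'
  · exact dickline h2 (by omega) F₀ r h hcard M hM hR v w hv hw hvw hind hw'

theorem mulVec_injective (h : OG m F) {x : Idx m → F} (hx : mt (QfOdd m F) h *ᵥ x = 0) : x = 0 := by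
  have := congrArg (fun y => mt (QfOdd m F) h⁻¹ *ᵥ y) hx
  simp only [Matrix.mulVec_zero] at this
  rwa [mt_inv_mulVec] at this

/-- the elements of `M` map rational singular points to rational points -/
theorem pts [Fintype F] (h2 : (2 : F) ≠ 0) (hm : 6 ≤ m) (F₀ : Subfield F) (r : ℕ)
    (hr : r.Prime) (hcard : Fintype.card F = Nat.card F₀ ^ r) (M : Subgroup (OG m F))
    (hM : HasRatO F₀ M) (hR : RootRatO F₀ M) (h : OG m F) (hh : h ∈ M) (s : Idx m → F)
    (hs : Rat F₀ s) (hs0 : s ≠ 0) (hQs : QfOdd m F s = 0) :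
    PRat F₀ (mt (QfOdd m F) h *ᵥ s) := by
  obtain ⟨t₁, t₂, ht₁, ht₂, hQ₁, hQ₂, hB₁, hB₂, hli⟩ := EXT2.exists_two h2 (by omega) F₀ s hs hs0 hQs
  have hQhs : QfOdd m F (mt (QfOdd m F) h *ᵥ s) = 0 := by rw [Q_isom]; exact hQs
  -- linear independence of the images
  have hli' : LinearIndependent F ![mt (QfOdd m F) h *ᵥ s, mt (QfOdd m F) h *ᵥ t₁,
      mt (QfOdd m F) h *ᵥ t₂] := by
    have hinj : Function.Injective (Matrix.mulVecLin (mt (QfOdd m F) h)) := by
      rw [← LinearMap.ker_eq_bot, LinearMap.ker_eq_bot']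
      intro x hx
      exact mulVec_injective h hx
    have := hli.map' (Matrix.mulVecLin (mt (QfOdd m F) h)) (LinearMap.ker_eq_bot.mpr hinj)
    have e : (⇑(Matrix.mulVecLin (mt (QfOdd m F) h)) ∘ ![s, t₁, t₂]) =
        ![mt (QfOdd m F) h *ᵥ s, mt (QfOdd m F) h *ᵥ t₁, mt (QfOdd m F) h *ᵥ t₂] := by
      funext i
      fin_cases i <;> rfl
    rw [e] at this
    exact this
  have hpair : ∀ t : Idx m → F, Rat F₀ t → QfOdd m F t = 0 → B (QfOdd m F) s t = 0 →
      LinearIndependent F ![mt (QfOdd m F) h *ᵥ s, mt (QfOdd m F) h *ᵥ t] →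
      RatLine F₀ (mt (QfOdd m F) h *ᵥ s) (mt (QfOdd m F) h *ᵥ t) := by
    intro t ht hQt hBt hlit
    have h1 : t ∈ Rad M s hQs := RATSIEG.mem_rad F₀ M hM s t hs ht hQs hBt
    have h2' : mt (QfOdd m F) h *ᵥ t ∈ Rad M (mt (QfOdd m F) h *ᵥ s) hQhs := Rad_conj hh h1 hQhs
    refine lines h2 hm F₀ r hr hcard M hM hR _ _ hQhs (by rw [Q_isom]; exact hQt)
      (by rw [B_isom]; exact hBt) ((indep_iff _ _).mpr hlit) h2'
  have hl1 := hpair t₁ ht₁ hQ₁ hB₁ (by
    have := hli'.comp ![0, 1] (by decide)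
    convert this using 1
    funext i
    fin_cases i <;> rfl)
  have hl2 := hpair t₂ ht₂ hQ₂ hB₂ (by
    have := hli'.comp ![0, 2] (by decide)
    convert this using 1
    funext i
    fin_cases i <;> rfl)
  exact INTERPT.prat_of_two_lines F₀ _ _ _ hli' hl1 hl2

/-- `K = F₀` ⇒ `M ≤ F^* GL(F₀)` -/
theorem mainN [Fintype F] (h2 : (2 : F) ≠ 0) (hm : 6 ≤ m) (F₀ : Subfield F) (r : ℕ)
    (hr : r.Prime) (hcard : Fintype.card F = Nat.card F₀ ^ r) (M : Subgroup (OG m F))
    (hM : HasRatO F₀ M) (hR : RootRatO F₀ M) (h : OG m F) (hh : h ∈ M) :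
    InN F₀ (mt (QfOdd m F) h) := by
  apply ALLPRATO.inN_of_singular h2 (by omega) F₀ _ (fun x hx => mulVec_injective h hx)
  intro s hs hs0 hQs
  exact pts h2 hm F₀ r hr hcard M hM hR h hh s hs hs0 hQs

/-- the dichotomy in standard position -/
theorem main [Fintype F] (h2 : (2 : F) ≠ 0) (hm : 6 ≤ m) (F₀ : Subfield F) (r : ℕ)
    (hr : r.Prime) (hcard : Fintype.card F = Nat.card F₀ ^ r) (M : Subgroup (OG m F))
    (hM : HasRatO F₀ M) :
    (∀ h ∈ M, InN F₀ (mt (QfOdd m F) h)) ∨ S (QfOdd m F) ≤ M := by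
  have hm3 : 3 ≤ m := by omega
  set i0 : Fin m := ⟨0, by omega⟩ with hi0
  set i1 : Fin m := ⟨1, by omega⟩ with hi1
  have h01 : i0 ≠ i1 := by
    intro h
    have := congrArg Fin.val h
    simp [hi0, hi1] at this
  obtain ⟨K, hK0, hK⟩ := KFIELD.exists_subfield h2 hm3 F₀ M hM i0 i1 h01
  rcases Cfsg.Agent.S5639P.SUBPRIME.eq_or_top F₀ K hK0 r hr hcard with h | h
  · left
    have hR : RootRatO F₀ M := by
      apply ROOTRAT.rootRatO h2 hm3 F₀ M hM i0 i1 h01
      intro c hc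
      rw [hK, h] at hc
      exact hc
    intro g hg
    exact mainN h2 hm F₀ r hr hcard M hM hR g hg
  · right
    apply FULLK.S_le h2 hm3 F₀ M hM
    apply ROOTRAT.rootFull h2 hm3 F₀ M hM i0 i1 h01
    intro c
    rw [hK, h]
    exact Subfield.mem_top c

end MAIN

end Cfsg.Agent.S5683P
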