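import Mathlib
import Cfsg.Prelude.Def_GeometricClasses
import Cfsg.Agent.Helper12.S5683Lib
import Cfsg.Agent.S2615
import Cfsg.Agent.S2171
import Cfsg.Agent.Helper28.OrthMax3

set_option autoImplicit false
set_option linter.unusedSectionVars false
set_option linter.unusedVariables false

/-! # S5702 (subfield subgroups are maximal in `Ω^±_{2m+2}(q)`, every `q`): definitions

`Idx m = (Fin m ⊕ Fin m) ⊕ Fin 2`, `Q = QfMinus m F a b` (`Cfsg.Agent.Helper28.Spin`; `Σ x_i y_i + (s² + a s t + b t²)`,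
`a, b ∈ F₀`, `4 b - a² ≠ 0`: BOTH types, `a = 1, b = 0` is the hyperbolic plane), `B`, `mt`, `siegO`, `S` from
`Cfsg.Agent.Helper28.Sg`, `Rad M u hu = {w | E(u, w) ∈ M}` from `Cfsg.Agent.Helper12.OrthGen`.
The generic vocabulary `Rat`, `RatM`, `PRat`, `InN`, `RatLine`, `RatPlane` is that of `Cfsg.Agent.S5683P`
(`Cfsg.Agent.Helper12.S5683Defs/Lib`); the names `Idx`, `ee`, `ff`, `OG`, `HasRatO`, `KO`, `RootRatO`, `RootFull`
are re-defined here for the even-dimensional form (inside `namespace Cfsg.Agent.S5702P` they take precedence). -/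

namespace Cfsg.Agent.S5702P

open Matrix Cfsg.Agent.Helper28.Sg Cfsg.Agent.Helper28.Spin Cfsg.Agent.Helper12.OrthGen
  Cfsg.Agent.S5683P

/-- the index type of the standard even-dimensional quadratic space -/
abbrev Idx (m : ℕ) : Type := (Fin m ⊕ Fin m) ⊕ Fin 2

section even

variable {F : Type*} [Field F] {m : ℕ} {a b : F}

/-- the standard hyperbolic basis vectors `e_i` -/
def ee (F : Type*) [Field F] {m : ℕ} (i : Fin m) : Idx m → F := Pi.single (Sum.inl (Sum.inl i)) 1

/-- the standard hyperbolic basis vectors `f_i` -/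
def ff (F : Type*) [Field F] {m : ℕ} (i : Fin m) : Idx m → F := Pi.single (Sum.inl (Sum.inr i)) 1

/-- the first basis vector of the binary part (`Q d₁ = 1`) -/
def d1 (F : Type*) [Field F] (m : ℕ) : Idx m → F := Pi.single (Sum.inr 0) 1

/-- the second basis vector of the binary part (`Q d₂ = b`, `B d₁ d₂ = a`) -/
def d2 (F : Type*) [Field F] (m : ℕ) : Idx m → F := Pi.single (Sum.inr 1) 1

theorem Q_ee (i : Fin m) : QfMinus m F a b (ee F i) = 0 :=
  Q_single_left (Cfsg.Agent.S2615.hypPair_minus m a b i)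

theorem Q_ff (i : Fin m) : QfMinus m F a b (ff F i) = 0 :=
  Q_single_right (Cfsg.Agent.S2615.hypPair_minus m a b i)

/-- the value of the form -/
theorem Q_apply (x : Idx m → F) :
    QfMinus m F a b x = (∑ i : Fin m, x (Sum.inl (Sum.inl i)) * x (Sum.inl (Sum.inr i))) +
      (x (Sum.inr 0) ^ 2 + a * x (Sum.inr 0) * x (Sum.inr 1) + b * x (Sum.inr 1) ^ 2) := rfl

theorem B_ee (i : Fin m) (x : Idx m → F) :
    B (QfMinus m F a b) (ee F i) x = x (Sum.inl (Sum.inr i)) :=
  polar_single_left (Cfsg.Agent.S2615.hypPair_minus m a b i) x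

theorem B_ff (i : Fin m) (x : Idx m → F) :
    B (QfMinus m F a b) (ff F i) x = x (Sum.inl (Sum.inl i)) :=
  polar_single_right (Cfsg.Agent.S2615.hypPair_minus m a b i) x

/-- the isometry group of the standard form -/
abbrev OG (m : ℕ) (F : Type*) [Field F] (a b : F) : Type _ :=
  ↥(Cfsg.isometryGroup F ⇑(QfMinus m F a b))

/-- `M` contains the rational elements of `S(Q) = Ω(Q)` -/
def HasRatO (F₀ : Subfield F) (M : Subgroup (OG m F a b)) : Prop :=
  ∀ g : OG m F a b, g ∈ S (QfMinus m F a b) → RatM F₀ (mt (QfMinus m F a b) g) → g ∈ M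

/-- the parameters `c` with `E(e_i, c e_j) ∈ M` -/
def KO (M : Subgroup (OG m F a b)) (i j : Fin m) : Set F :=
  {c | c • ee F j ∈ Rad M (ee F i) (Q_ee i)}

/-- "`K = F₀`", coordinate free: a long root element `E(u, c w)` of `M` with `u, w` rational, singular,
orthogonal and independent has `c ∈ F₀` -/
def RootRatO (F₀ : Subfield F) (M : Subgroup (OG m F a b)) : Prop :=
  ∀ (u w : Idx m → F) (c : F) (hu : QfMinus m F a b u = 0), Rat F₀ u → Rat F₀ w →
    QfMinus m F a b w = 0 → B (QfMinus m F a b) u w = 0 → Indep u w → c • w ∈ Rad M u hu → c ∈ F₀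

/-- "`K = F`": all long root elements `E(u, c w)`, `u, w` rational, lie in `M` -/
def RootFull (F₀ : Subfield F) (M : Subgroup (OG m F a b)) : Prop :=
  ∀ (u w : Idx m → F) (c : F) (hu : QfMinus m F a b u = 0), Rat F₀ u → Rat F₀ w →
    QfMinus m F a b w = 0 → B (QfMinus m F a b) u w = 0 → Indep u w → c • w ∈ Rad M u hu

end even

end Cfsg.Agent.S5702P
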