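import Cfsg.Agent.Helper12.S5702Defs

set_option autoImplicit false
set_option linter.unusedSectionVars false
set_option linter.unusedVariables false

/-! # S5702: basic library (the standard frame of `QfMinus m F a b`, rationality of the form) -/

namespace Cfsg.Agent.S5702P

open Matrix Cfsg.Agent.Helper28.Sg Cfsg.Agent.Helper28.Spin Cfsg.Agent.Helper12.OrthGen
  Cfsg.Agent.S5683P

section even

variable {F : Type*} [Field F] {m : ℕ} {a b : F} {F₀ : Subfield F}

theorem rat_ee (i : Fin m) : Rat F₀ (ee F i) := Rat.single _ F₀.one_mem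

theorem rat_ff (i : Fin m) : Rat F₀ (ff F i) := Rat.single _ F₀.one_mem

theorem rat_d1 : Rat F₀ (d1 F m) := Rat.single _ F₀.one_mem

theorem rat_d2 : Rat F₀ (d2 F m) := Rat.single _ F₀.one_mem

theorem Q_d1 : QfMinus m F a b (d1 F m) = 1 := by
  rw [Q_apply]
  simp [d1]

theorem Q_d2 : QfMinus m F a b (d2 F m) = b := by
  rw [Q_apply]
  simp [d2]

/-- the value of the polar form -/
theorem B_apply (x y : Idx m → F) :
    B (QfMinus m F a b) x y =
      (∑ i : Fin m, (x (Sum.inl (Sum.inl i)) * y (Sum.inl (Sum.inr i)) +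
        x (Sum.inl (Sum.inr i)) * y (Sum.inl (Sum.inl i)))) +
      (2 * x (Sum.inr 0) * y (Sum.inr 0) + a * (x (Sum.inr 0) * y (Sum.inr 1) +
        x (Sum.inr 1) * y (Sum.inr 0)) + 2 * b * x (Sum.inr 1) * y (Sum.inr 1)) := by
  show QuadraticMap.polar ⇑(QfMinus m F a b) x y = _
  unfold QuadraticMap.polar
  rw [Q_apply, Q_apply, Q_apply]
  simp only [Pi.add_apply]
  have : ∀ i : Fin m, (x (Sum.inl (Sum.inl i)) + y (Sum.inl (Sum.inl i))) *
      (x (Sum.inl (Sum.inr i)) + y (Sum.inl (Sum.inr i))) =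
      x (Sum.inl (Sum.inl i)) * x (Sum.inl (Sum.inr i)) +
      y (Sum.inl (Sum.inl i)) * y (Sum.inl (Sum.inr i)) +
      (x (Sum.inl (Sum.inl i)) * y (Sum.inl (Sum.inr i)) +
        x (Sum.inl (Sum.inr i)) * y (Sum.inl (Sum.inl i))) := fun i => by ring
  simp only [this, Finset.sum_add_distrib]
  ring

theorem B_d1 (x : Idx m → F) :
    B (QfMinus m F a b) (d1 F m) x = 2 * x (Sum.inr 0) + a * x (Sum.inr 1) := by
  rw [B_apply]
  simp [d1]

theorem B_d2 (x : Idx m → F) :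
    B (QfMinus m F a b) (d2 F m) x = a * x (Sum.inr 0) + 2 * b * x (Sum.inr 1) := by
  rw [B_apply]
  simp [d2]

theorem B_ee' (i : Fin m) (x : Idx m → F) :
    B (QfMinus m F a b) x (ee F i) = x (Sum.inl (Sum.inr i)) := by
  rw [B_comm, B_ee]

theorem B_ff' (i : Fin m) (x : Idx m → F) :
    B (QfMinus m F a b) x (ff F i) = x (Sum.inl (Sum.inl i)) := by
  rw [B_comm, B_ff]

theorem B_d1' (x : Idx m → F) :
    B (QfMinus m F a b) x (d1 F m) = 2 * x (Sum.inr 0) + a * x (Sum.inr 1) := by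
  rw [B_comm, B_d1]

theorem B_d2' (x : Idx m → F) :
    B (QfMinus m F a b) x (d2 F m) = a * x (Sum.inr 0) + 2 * b * x (Sum.inr 1) := by
  rw [B_comm, B_d2]

theorem ee_ne_zero (i : Fin m) : ee F i ≠ 0 := by
  intro h
  have := congrFun h (Sum.inl (Sum.inl i))
  simp [ee] at this

theorem two_mem : (2 : F) ∈ F₀ := by
  have : (2 : F) = 1 + 1 := by norm_num
  rw [this]; exact F₀.add_mem F₀.one_mem F₀.one_mem

theorem ratQ (ha : a ∈ F₀) (hb : b ∈ F₀) {u : Idx m → F} (hu : Rat F₀ u) :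
    QfMinus m F a b u ∈ F₀ := by
  rw [Q_apply]
  exact F₀.add_mem (F₀.sum_mem fun i _ => F₀.mul_mem (hu _) (hu _))
    (F₀.add_mem (F₀.add_mem (F₀.pow_mem (hu _) 2) (F₀.mul_mem (F₀.mul_mem ha (hu _)) (hu _)))
      (F₀.mul_mem hb (F₀.pow_mem (hu _) 2)))

theorem ratB (ha : a ∈ F₀) (hb : b ∈ F₀) {u v : Idx m → F} (hu : Rat F₀ u) (hv : Rat F₀ v) :
    B (QfMinus m F a b) u v ∈ F₀ := by
  rw [B_apply]
  refine F₀.add_mem (F₀.sum_mem fun i _ =>
    F₀.add_mem (F₀.mul_mem (hu _) (hv _)) (F₀.mul_mem (hu _) (hv _))) ?_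
  exact F₀.add_mem (F₀.add_mem (F₀.mul_mem (F₀.mul_mem two_mem (hu _)) (hv _))
    (F₀.mul_mem ha (F₀.add_mem (F₀.mul_mem (hu _) (hv _)) (F₀.mul_mem (hu _) (hv _)))))
    (F₀.mul_mem (F₀.mul_mem (F₀.mul_mem two_mem hb) (hu _)) (hv _))

/-- the coordinate expansion of a vector -/
theorem eq_sum_coord (x : Idx m → F) :
    x = (∑ i : Fin m, (x (Sum.inl (Sum.inl i)) • ee F i + x (Sum.inl (Sum.inr i)) • ff F i)) +
      (x (Sum.inr 0) • d1 F m + x (Sum.inr 1) • d2 F m) := by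
  classical
  funext k
  simp only [Pi.add_apply, Pi.smul_apply, Finset.sum_apply, smul_eq_mul, d1, d2, ee, ff,
    Pi.single_apply]
  rcases k with (j | j) | u
  · simp [Finset.sum_ite_eq]
  · simp [Finset.sum_ite_eq]
  · fin_cases u <;> simp

/-- the standard frame -/
noncomputable def sfr (m : ℕ) (F : Type*) [Field F] (a b : F) : HFrame (QfMinus m F a b) m :=
  coordFrame (fun j => Sum.inl (Sum.inl j)) (fun j => Sum.inl (Sum.inr j))
    (by
      intro x y h
      rcases x with x | x <;> rcases y with y | y <;>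
        simp only [Sum.elim_inl, Sum.elim_inr, Sum.inl.injEq, Sum.inr.injEq, reduceCtorEq] at h
      · rw [h]
      · rw [h])
    (fun j => Cfsg.Agent.S2615.hypPair_minus m a b j)

theorem sfr_e (i : Fin m) : (sfr m F a b).e i = ee F i := rfl

theorem sfr_f (i : Fin m) : (sfr m F a b).f i = ff F i := rfl

theorem sfr_inV0_iff (w : Idx m → F) :
    (sfr m F a b).InV0 w ↔ ∀ j : Fin m, w (Sum.inl (Sum.inl j)) = 0 ∧ w (Sum.inl (Sum.inr j)) = 0 :=
  coordFrame_inV0_iff _ _ _ _ w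

/-- the standard `Frame3` (for `S ≤ Ω`, `Ω = S`) -/
noncomputable def sfr3 (hm : 3 ≤ m) (F : Type*) [Field F] (a b : F) : Frame3 (QfMinus m F a b) :=
  frameOf (fun j : Fin 3 => Sum.inl (Sum.inl (Fin.castLE hm j)))
    (fun j : Fin 3 => Sum.inl (Sum.inr (Fin.castLE hm j)))
    (by
      intro x y h
      rcases x with x | x <;> rcases y with y | y <;>
        simp only [Sum.elim_inl, Sum.elim_inr, Sum.inl.injEq, Sum.inr.injEq, reduceCtorEq,
          Fin.castLE_inj] at h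
      · rw [h]
      · rw [h])
    (fun j => Cfsg.Agent.S2615.hypPair_minus m a b _)

/-- non-degeneracy of the polar form -/
theorem nondeg_even (hab : 4 * b - a ^ 2 ≠ 0) (m : ℕ) :
    (QuadraticMap.polarBilin (QfMinus m F a b)).Nondegenerate :=
  Cfsg.Agent.S2171.QfMinus_nondeg_of m a b hab

theorem S_le_Omega_even (hab : 4 * b - a ^ 2 ≠ 0) (hm : 3 ≤ m) :
    S (QfMinus m F a b) ≤ Cfsg.Omega F ⇑(QfMinus m F a b) :=
  S_le_Omega (nondeg_even hab m) (sfr3 hm F a b)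

theorem card_Idx (m : ℕ) : Fintype.card (Idx m) = 2 * m + 2 := by
  simp [Idx]; ring

theorem Omega_eq_S_even [Fintype F] (hab : 4 * b - a ^ 2 ≠ 0) (hm : 3 ≤ m) :
    Cfsg.Omega F ⇑(QfMinus m F a b) = S (QfMinus m F a b) :=
  Omega_eq_S (nondeg_even hab m) (sfr3 hm F a b)
    (Cfsg.Agent.Helper28.OM.hgen_all (nondeg_even hab m) (by rw [card_Idx]; omega))

/-- a vector all of whose pairings with the coordinate vectors are rational is rational -/
theorem rat_of_B (ha : a ∈ F₀) (hb : b ∈ F₀) (hab : 4 * b - a ^ 2 ≠ 0) {x : Idx m → F}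
    (he : ∀ i, B (QfMinus m F a b) (ee F i) x ∈ F₀) (hf : ∀ i, B (QfMinus m F a b) (ff F i) x ∈ F₀)
    (h1 : B (QfMinus m F a b) (d1 F m) x ∈ F₀) (h2 : B (QfMinus m F a b) (d2 F m) x ∈ F₀) :
    Rat F₀ x := by
  have hD : 4 * b - a ^ 2 ∈ F₀ := by
    have h4 : (4 : F) ∈ F₀ := by
      have : (4 : F) = 2 * 2 := by norm_num
      rw [this]; exact F₀.mul_mem two_mem two_mem
    exact F₀.sub_mem (F₀.mul_mem h4 hb) (F₀.pow_mem ha 2)
  rw [B_d1] at h1
  rw [B_d2] at h2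
  intro k
  rcases k with (j | j) | u
  · have := hf j; rwa [B_ff] at this
  · have := he j; rwa [B_ee] at this
  · -- solve the 2 × 2 system
    have e0 : x (Sum.inr 0) = (4 * b - a ^ 2)⁻¹ *
        (2 * b * (2 * x (Sum.inr 0) + a * x (Sum.inr 1)) -
          a * (a * x (Sum.inr 0) + 2 * b * x (Sum.inr 1))) := by
      field_simp
      ring
    have e1 : x (Sum.inr 1) = (4 * b - a ^ 2)⁻¹ *
        (2 * (a * x (Sum.inr 0) + 2 * b * x (Sum.inr 1)) -
          a * (2 * x (Sum.inr 0) + a * x (Sum.inr 1))) := by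
      field_simp
      ring
    fin_cases u
    · show x (Sum.inr 0) ∈ F₀
      rw [e0]
      exact F₀.mul_mem (F₀.inv_mem hD) (F₀.sub_mem (F₀.mul_mem (F₀.mul_mem two_mem hb) h1)
        (F₀.mul_mem ha h2))
    · show x (Sum.inr 1) ∈ F₀
      rw [e1]
      exact F₀.mul_mem (F₀.inv_mem hD) (F₀.sub_mem (F₀.mul_mem two_mem h2) (F₀.mul_mem ha h1))

/-- membership in `M` of the inverse of a rational element -/
theorem HasRatO.inv_mem {M : Subgroup (OG m F a b)} (hM : HasRatO F₀ M) {g : OG m F a b}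
    (hg : g ∈ S (QfMinus m F a b)) (hr : RatM F₀ (mt (QfMinus m F a b) g⁻¹)) : g⁻¹ ∈ M :=
  hM _ ((S (QfMinus m F a b)).inv_mem hg) hr

end even

end Cfsg.Agent.S5702P
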