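import Cfsg.Agent.Helper12.S5702Defs2
import Cfsg.Agent.Lead.S5702REDF1
import Cfsg.Agent.Helper13.S5702REDF2
import Cfsg.Agent.Lead.S5702REDF3

set_option autoImplicit false
set_option linter.unusedSectionVars false
set_option linter.unusedVariables false

/-! # S5702 piece REDFORM (FORM half of REDUCE): a rational change of basis bringing `ζ Q(P ·)` to a standard form
`QfMinus m F a b`, up to a scalar. Glue of REDF1 (rational form), REDF2 (normalised Witt basis), REDF3 (matrix `T`). -/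

namespace Cfsg.Agent.S5702P

open Matrix Cfsg.Agent.Helper28.Sg Cfsg.Agent.Helper28.Spin Cfsg.Agent.Helper12.OrthGen
  Cfsg.Agent.S5683P

variable {F : Type*} [Field F] {m : ℕ} {a b : F}

/-- REDFORM (FORM half of REDUCE) from the three parts. -/
theorem REDFORM.exists_std [Fintype F] {n : ℕ} (hn : 13 ≤ n) (heven : Even n) (Q : (Fin n → F) → F)
    (hQ : Cfsg.Geo.IsNondegenerateQuadraticForm Q) (F₀ : Subfield F)
    (P : Matrix.GeneralLinearGroup (Fin n) F) (ζ : F) (hζ : ζ ≠ 0)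
    (hP : Cfsg.Geo.IsQuadFormRationalStructure (fun v : Fin n → F => ζ * Q v) F₀ P) :
    ∃ (m : ℕ) (a b : F) (e : Idx m ≃ Fin n) (T : Matrix.GeneralLinearGroup (Fin n) F) (δ : F),
      2 * m + 2 = n ∧ a ∈ F₀ ∧ b ∈ F₀ ∧ 4 * b - a ^ 2 ≠ 0 ∧ δ ≠ 0 ∧
      RatM F₀ (T : Matrix (Fin n) (Fin n) F) ∧
      RatM F₀ ((T⁻¹ : Matrix.GeneralLinearGroup (Fin n) F) : Matrix (Fin n) (Fin n) F) ∧
      ∀ x : Idx m → F,
        Q (((P * T : Matrix.GeneralLinearGroup (Fin n) F) : Matrix (Fin n) (Fin n) F) *ᵥ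
          (fun i => x (e.symm i))) = δ * QfMinus m F a b x := by
  obtain ⟨Q₀, hQ₀, hnd⟩ := REDF1.exists_form Q hQ F₀ P ζ hζ hP
  haveI : Finite ↥F₀ := Finite.of_injective (fun x : ↥F₀ => (x : F)) Subtype.val_injective
  obtain ⟨m, a₀, b₀, c₀, bv, hmn, hab, hc, hbv⟩ :=
    REDF2.exists_basis (by omega : 2 ≤ n) heven Q₀ hnd
  have hbv' : ∀ x : Idx m → ↥F₀,
      ζ * Q ((P : Matrix (Fin n) (Fin n) F) *ᵥ (fun i => (((∑ k, x k • bv k) i : ↥F₀) : F))) =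
        ((c₀ * QfMinus m ↥F₀ a₀ b₀ x : ↥F₀) : F) := by
    intro x
    rw [← hQ₀, hbv]
  obtain ⟨e, T, hT, hT', hid⟩ := REDF3.exists_T Q hQ F₀ P ζ hζ m a₀ b₀ c₀ bv hmn hab hc hbv'
  refine ⟨m, (a₀ : F), (b₀ : F), e, T, (c₀ : F) * ζ⁻¹, hmn, a₀.2, b₀.2, ?_, ?_, hT, hT', hid⟩
  · intro h
    apply hab
    apply Subtype.ext
    push_cast
    exact h
  · refine mul_ne_zero ?_ (inv_ne_zero hζ)
    intro h
    apply hc
    exact Subtype.ext h

end Cfsg.Agent.S5702P
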