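import Cfsg.Agent.Helper12.S5702Defs2
import Cfsg.Agent.Helper17.S5683MEMSUBF
import Cfsg.Agent.Helper17.S5683SUBFT
import Cfsg.Agent.Helper17.S5683SIMNORM

/-! S5702 piece REDGRP (driver helper12): the GROUP half of REDUCE. Transport of `IsMaximalIn` along
`g ↦ (P T) (reindex g) (P T)⁻¹`, where `Q ((P T) (x ∘ e.symm)) = δ • QfMinus m F a b x`. -/

set_option autoImplicit false
set_option linter.unusedSectionVars false
set_option linter.unusedVariables false

namespace Cfsg.Agent.S5702P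

open Matrix Cfsg.Agent.Helper28.Sg Cfsg.Agent.Helper28.Spin Cfsg.Agent.Helper12.OrthGen
  Cfsg.Agent.S5683P

variable {F : Type*} [Field F] {m : ℕ} {a b : F}

namespace REDGRP

/-- maximality is transported by isomorphisms -/
theorem isMaximalIn_map_equiv {G G' : Type*} [Group G] [Group G'] (φ : G ≃* G') (K H : Subgroup G)
    (h : Cfsg.Geo.IsMaximalIn K H) :
    Cfsg.Geo.IsMaximalIn (K.map φ.toMonoidHom) (H.map φ.toMonoidHom) := by
  have hinj : Function.Injective φ.toMonoidHom := φ.injective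
  have hsurj : Function.Surjective φ.toMonoidHom := φ.surjective
  obtain ⟨hlt, hmax⟩ := h
  refine ⟨lt_of_le_of_ne (Subgroup.map_mono hlt.le) ?_, ?_⟩
  · intro heq
    have h1 := congrArg (Subgroup.comap φ.toMonoidHom) heq
    rw [Subgroup.comap_map_eq_self_of_injective hinj, Subgroup.comap_map_eq_self_of_injective hinj] at h1
    exact hlt.ne h1
  · intro M hHM hMK
    have h1 : H ≤ M.comap φ.toMonoidHom := Subgroup.map_le_iff_le_comap.1 hHM
    have h2 : M.comap φ.toMonoidHom ≤ K := by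
      intro x hx
      obtain ⟨k, hk, hkx⟩ := hMK (Subgroup.mem_comap.1 hx)
      rw [← hinj hkx]
      exact hk
    have h3 : M = (M.comap φ.toMonoidHom).map φ.toMonoidHom :=
      (Subgroup.map_comap_eq_self_of_surjective hsurj M).symm
    rcases hmax _ h1 h2 with h4 | h4
    · left; rw [h3, h4]
    · right; rw [h3, h4]

/-- the image of a subgroup under an isomorphism, from a membership criterion -/
theorem map_eq_of_iff {G G' : Type*} [Group G] [Group G'] (φ : G ≃* G') (H : Subgroup G)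
    (H' : Subgroup G') (h : ∀ g : G, g ∈ H ↔ φ g ∈ H') : H.map φ.toMonoidHom = H' := by
  ext x
  constructor
  · rintro ⟨g, hg, rfl⟩
    exact (h g).1 hg
  · intro hx
    refine ⟨φ.symm x, (h _).2 ?_, ?_⟩
    · rw [MulEquiv.apply_symm_apply]; exact hx
    · exact φ.apply_symm_apply x

variable {n : ℕ}

/-- the entries of a reindexed matrix -/
theorem glReindex_apply (e : Idx m ≃ Fin n) (g : Matrix.GeneralLinearGroup (Idx m) F) (i j : Fin n) :
    ((Cfsg.Geo.glReindex e g : Matrix.GeneralLinearGroup (Fin n) F) : Matrix (Fin n) (Fin n) F) i j =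
      (g : Matrix (Idx m) (Idx m) F) (e.symm i) (e.symm j) := rfl

/-- the action of a reindexed matrix -/
theorem glReindex_mulVec (e : Idx m ≃ Fin n) (g : Matrix.GeneralLinearGroup (Idx m) F)
    (y : Fin n → F) (k : Idx m) :
    (((Cfsg.Geo.glReindex e g : Matrix.GeneralLinearGroup (Fin n) F) : Matrix (Fin n) (Fin n) F) *ᵥ y)
      (e k) = ((g : Matrix (Idx m) (Idx m) F) *ᵥ (fun l => y (e l))) k := by
  simp only [Matrix.mulVec, dotProduct, glReindex_apply, Equiv.symm_apply_apply]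
  exact (Equiv.sum_comp e (fun j => (g : Matrix (Idx m) (Idx m) F) k (e.symm j) * y j)).symm.trans
    (by simp only [Equiv.symm_apply_apply])

/-- reindexing and the standard subfield group -/
theorem glReindex_mem_subf (F₀ : Subfield F) (e : Idx m ≃ Fin n)
    (g : Matrix.GeneralLinearGroup (Idx m) F) :
    g ∈ Cfsg.Geo.subfieldSubgroup F₀ (1 : Matrix.GeneralLinearGroup (Idx m) F) ↔
      Cfsg.Geo.glReindex e g ∈
        Cfsg.Geo.subfieldSubgroup F₀ (1 : Matrix.GeneralLinearGroup (Fin n) F) := by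
  rw [MEMSUBF.mem_subf_one_iff, MEMSUBF.mem_subf_one_iff]
  constructor
  · rintro ⟨z, hz, hr⟩
    refine ⟨z, hz, fun i j => ?_⟩
    have := hr (e.symm i) (e.symm j)
    simpa [glReindex_apply] using this
  · rintro ⟨z, hz, hr⟩
    refine ⟨z, hz, fun k l => ?_⟩
    have := hr (e k) (e l)
    simpa [glReindex_apply] using this

end REDGRP

/-- REDGRP (GROUP half of REDUCE): transport of `IsMaximalIn` along `g ↦ (P T) (reindex g) (P T)⁻¹`. -/
theorem REDGRP.maximal [Fintype F] {n : ℕ} (Q : (Fin n → F) → F) (F₀ : Subfield F)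
    (P T : Matrix.GeneralLinearGroup (Fin n) F) (e : Idx m ≃ Fin n) (δ : F) (hδ : δ ≠ 0)
    (hT : RatM F₀ (T : Matrix (Fin n) (Fin n) F))
    (hT' : RatM F₀ ((T⁻¹ : Matrix.GeneralLinearGroup (Fin n) F) : Matrix (Fin n) (Fin n) F))
    (hform : ∀ x : Idx m → F,
      Q (((P * T : Matrix.GeneralLinearGroup (Fin n) F) : Matrix (Fin n) (Fin n) F) *ᵥ
        (fun i => x (e.symm i))) = δ * QfMinus m F a b x)
    (hstd : Cfsg.Geo.IsMaximalIn (Cfsg.Geo.omegaGL ⇑(QfMinus m F a b))
        (Cfsg.Geo.subfieldSubgroup F₀ (1 : Matrix.GeneralLinearGroup (Idx m) F) ⊓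
          Cfsg.Geo.omegaGL ⇑(QfMinus m F a b))) :
    Cfsg.Geo.IsMaximalIn (Cfsg.Geo.omegaGL Q)
      (Cfsg.Geo.subfieldSubgroup F₀ P ⊓ Cfsg.Geo.omegaGL Q) := by
  classical
  set R : Matrix.GeneralLinearGroup (Fin n) F := P * T with hR
  -- the isomorphism
  set ψ : Matrix.GeneralLinearGroup (Idx m) F ≃* Matrix.GeneralLinearGroup (Fin n) F :=
    (Cfsg.Geo.glReindex e).trans (MulAut.conj R) with hψ
  have hψ_apply : ∀ g, ψ g = R * Cfsg.Geo.glReindex e g * R⁻¹ := fun g => rfl
  -- the form in the new coordinates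
  have hform' : ∀ y : Fin n → F,
      Q ((R : Matrix (Fin n) (Fin n) F) *ᵥ y) = δ * QfMinus m F a b (fun k => y (e k)) := by
    intro y
    have := hform (fun k => y (e k))
    simpa using this
  have hRinv : ∀ u : Fin n → F, (R : Matrix (Fin n) (Fin n) F) *ᵥ
      (((R⁻¹ : Matrix.GeneralLinearGroup (Fin n) F) : Matrix (Fin n) (Fin n) F) *ᵥ u) = u := by
    intro u
    rw [Matrix.mulVec_mulVec, ← Units.val_mul, mul_inv_cancel, Units.val_one, Matrix.one_mulVec]
  have hRinv' : ∀ u : Fin n → F, ((R⁻¹ : Matrix.GeneralLinearGroup (Fin n) F) :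
      Matrix (Fin n) (Fin n) F) *ᵥ ((R : Matrix (Fin n) (Fin n) F) *ᵥ u) = u := by
    intro u
    rw [Matrix.mulVec_mulVec, ← Units.val_mul, inv_mul_cancel, Units.val_one, Matrix.one_mulVec]
  have hψ_mulVec : ∀ (g : Matrix.GeneralLinearGroup (Idx m) F) (u : Fin n → F),
      ((ψ g : Matrix.GeneralLinearGroup (Fin n) F) : Matrix (Fin n) (Fin n) F) *ᵥ u =
        (R : Matrix (Fin n) (Fin n) F) *ᵥ
          (((Cfsg.Geo.glReindex e g : Matrix.GeneralLinearGroup (Fin n) F) :
            Matrix (Fin n) (Fin n) F) *ᵥ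
            (((R⁻¹ : Matrix.GeneralLinearGroup (Fin n) F) : Matrix (Fin n) (Fin n) F) *ᵥ u)) := by
    intro g u
    rw [hψ_apply, Units.val_mul, Units.val_mul, Matrix.mulVec_mulVec, Matrix.mulVec_mulVec,
      Matrix.mul_assoc]
  -- (a) isometry groups
  have hiso : ∀ g : Matrix.GeneralLinearGroup (Idx m) F,
      g ∈ Cfsg.isometryGroup F ⇑(QfMinus m F a b) ↔ ψ g ∈ Cfsg.isometryGroup F Q := by
    intro g
    rw [SIMNORM.mem_isom_iff, SIMNORM.mem_isom_iff]
    constructor
    · intro hg u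
      rw [hψ_mulVec, hform']
      have h1 : (fun k => (((Cfsg.Geo.glReindex e g : Matrix.GeneralLinearGroup (Fin n) F) :
          Matrix (Fin n) (Fin n) F) *ᵥ
          (((R⁻¹ : Matrix.GeneralLinearGroup (Fin n) F) : Matrix (Fin n) (Fin n) F) *ᵥ u)) (e k)) =
          (g : Matrix (Idx m) (Idx m) F) *ᵥ (fun l =>
            (((R⁻¹ : Matrix.GeneralLinearGroup (Fin n) F) : Matrix (Fin n) (Fin n) F) *ᵥ u) (e l)) := by
        funext k
        exact REDGRP.glReindex_mulVec e g _ k
      rw [h1, hg, ← hform', hRinv]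
    · intro hg x
      have h0 := hg ((R : Matrix (Fin n) (Fin n) F) *ᵥ (fun i => x (e.symm i)))
      rw [hψ_mulVec, hRinv', hform', hform'] at h0
      have h1 : (fun k => (((Cfsg.Geo.glReindex e g : Matrix.GeneralLinearGroup (Fin n) F) :
          Matrix (Fin n) (Fin n) F) *ᵥ (fun i => x (e.symm i))) (e k)) =
          (g : Matrix (Idx m) (Idx m) F) *ᵥ x := by
        funext k
        rw [REDGRP.glReindex_mulVec e g _ k]
        simp only [Equiv.symm_apply_apply]
      have h2 : (fun k => (fun i => x (e.symm i)) (e k)) = x := by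
        funext k
        simp only [Equiv.symm_apply_apply]
      rw [h1, h2] at h0
      exact mul_left_cancel₀ hδ h0
  -- (b) subfield groups
  have hsubf : ∀ g : Matrix.GeneralLinearGroup (Idx m) F,
      g ∈ Cfsg.Geo.subfieldSubgroup F₀ (1 : Matrix.GeneralLinearGroup (Idx m) F) ↔
        ψ g ∈ Cfsg.Geo.subfieldSubgroup F₀ P := by
    intro g
    rw [REDGRP.glReindex_mem_subf F₀ e g, ← SUBFT.subf_mul F₀ P T hT hT']
    have h1 : Cfsg.Geo.subfieldSubgroup F₀ (P * T) =
        (Cfsg.Geo.subfieldSubgroup F₀ (1 : Matrix.GeneralLinearGroup (Fin n) F)).map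
          (MulAut.conj R).toMonoidHom := by
      rw [SUBFT.subf_one_eq]
      rfl
    rw [h1]
    constructor
    · intro hg
      exact ⟨_, hg, rfl⟩
    · rintro ⟨y, hy, hyg⟩
      have : y = Cfsg.Geo.glReindex e g := (MulAut.conj R).injective hyg
      rw [← this]
      exact hy
  -- images
  have hmapiso : (Cfsg.isometryGroup F ⇑(QfMinus m F a b)).map ψ.toMonoidHom =
      Cfsg.isometryGroup F Q := REDGRP.map_eq_of_iff ψ _ _ hiso
  have hmapsubf : (Cfsg.Geo.subfieldSubgroup F₀ (1 : Matrix.GeneralLinearGroup (Idx m) F)).map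
      ψ.toMonoidHom = Cfsg.Geo.subfieldSubgroup F₀ P := REDGRP.map_eq_of_iff ψ _ _ hsubf
  have hmapomega : (Cfsg.Geo.omegaGL ⇑(QfMinus m F a b)).map ψ.toMonoidHom = Cfsg.Geo.omegaGL Q := by
    rw [SIMNORM.omegaGL_eq, SIMNORM.omegaGL_eq, Subgroup.map_commutator, hmapiso]
  have hinj : Function.Injective ψ.toMonoidHom := ψ.injective
  have := REDGRP.isMaximalIn_map_equiv ψ _ _ hstd
  rw [Subgroup.map_inf _ _ _ hinj, hmapomega, hmapsubf] at this
  exact this

end Cfsg.Agent.S5702P
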