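import Cfsg.Agent.Helper12.S5702Std
import Cfsg.Agent.Helper12.S5702REDGRP
import Cfsg.Agent.Helper12.S5702REDFORM

set_option autoImplicit false
set_option linter.unusedSectionVars false
set_option linter.unusedVariables false

/-! # S5702: the maximality statement for a general form (reduction to standard position) -/

namespace Cfsg.Agent.S5702P

open Matrix Cfsg.Agent.Helper28.Sg Cfsg.Agent.Helper28.Spin Cfsg.Agent.Helper12.OrthGen
  Cfsg.Agent.S5683P

variable {F : Type*} [Field F] {m : ℕ} {a b : F}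

namespace FINAL

/-- **maximality of the subfield subgroups of `Ω^±_n(q)`, `n` even** -/
theorem maximal [Fintype F] {n : ℕ} (hn : 13 ≤ n) (heven : Even n) (Q : (Fin n → F) → F)
    (hQ : Cfsg.Geo.IsNondegenerateQuadraticForm Q) (F₀ : Subfield F) (r : ℕ) (hr : r.Prime)
    (hcard : Fintype.card F = Nat.card F₀ ^ r) (P : Matrix.GeneralLinearGroup (Fin n) F) (ζ : F)
    (hζ : ζ ≠ 0)
    (hP : Cfsg.Geo.IsQuadFormRationalStructure (fun v : Fin n → F => ζ * Q v) F₀ P) :
    Cfsg.Geo.IsMaximalIn (Cfsg.Geo.omegaGL Q)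
      (Cfsg.Geo.subfieldSubgroup F₀ P ⊓ Cfsg.Geo.omegaGL Q) := by
  obtain ⟨m, a, b, e, T, δ, hmn, ha, hb, hab, hδ, hT, hT', hform⟩ :=
    REDFORM.exists_std hn heven Q hQ F₀ P ζ hζ hP
  exact REDGRP.maximal Q F₀ P T e δ hδ hT hT' hform
    (maximal_std (by omega) F₀ ha hb hab r hr hcard)

end FINAL

end Cfsg.Agent.S5702P
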