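import Cfsg.Agent.Helper12.S5702Defs2
import Cfsg.Agent.Helper27.S5702KTRANS

set_option autoImplicit false
set_option linter.unusedSectionVars false
set_option linter.unusedVariables false

/-! S5702 piece ROOTRAT (port of helper22's S5683 piece): `K = F₀`, resp. `K = F`, in coordinate free form. -/

namespace Cfsg.Agent.S5702P

open Matrix Cfsg.Agent.Helper28.Sg Cfsg.Agent.Helper28.Spin Cfsg.Agent.Helper12.OrthGen
  Cfsg.Agent.S5683P

variable {F : Type*} [Field F] {m : ℕ} {a b : F}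

/-- ROOTRAT: `K = F₀`, resp. `K = F`, in coordinate free form. -/
theorem ROOTRAT.rootRatO (hm : 3 ≤ m) (F₀ : Subfield F) (ha : a ∈ F₀) (hb : b ∈ F₀)
    (hab : 4 * b - a ^ 2 ≠ 0) (M : Subgroup (OG m F a b))
    (hM : HasRatO F₀ M) (i j : Fin m) (hij : i ≠ j) (hK : ∀ c ∈ KO M i j, c ∈ F₀) :
    RootRatO F₀ M := by
  intro u w c hu hru hrw hQw huw hind hc
  obtain ⟨ν, hν, hν0, hiff⟩ :=
    KTRANS.exists_scalar hm F₀ ha hb hab M hM i j hij u w hru hrw hu hQw huw hind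
  have h1 : ν * c ∈ F₀ := hK _ ((hiff c).1 hc)
  have h3 : c = ν⁻¹ * (ν * c) := by
    rw [← mul_assoc, inv_mul_cancel₀ hν0, one_mul]
  rw [h3]
  exact F₀.mul_mem (F₀.inv_mem hν) h1

theorem ROOTRAT.rootFull (hm : 3 ≤ m) (F₀ : Subfield F) (ha : a ∈ F₀) (hb : b ∈ F₀)
    (hab : 4 * b - a ^ 2 ≠ 0) (M : Subgroup (OG m F a b))
    (hM : HasRatO F₀ M) (i j : Fin m) (hij : i ≠ j) (hK : ∀ c : F, c ∈ KO M i j) :
    RootFull F₀ M := by
  intro u w c hu hru hrw hQw huw hind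
  obtain ⟨ν, hν, hν0, hiff⟩ :=
    KTRANS.exists_scalar hm F₀ ha hb hab M hM i j hij u w hru hrw hu hQw huw hind
  exact (hiff c).2 (hK _)

end Cfsg.Agent.S5702P
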