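import Cfsg.Agent.Helper12.S5702Defs2
import Cfsg.Agent.Helper15.S5702RHO
import Cfsg.Agent.Helper15.S5702RGRP
import Cfsg.Agent.Helper4.S5702TENS
import Cfsg.Agent.Helper5.S5702STAB
import Cfsg.Agent.Helper13.S5639BURN

set_option autoImplicit false
set_option linter.unusedSectionVars false
set_option linter.unusedVariables false

/-! # S5702 piece YBURN: the coordinates of `p` cannot be `F₀`-linearly independent (Burnside transfer) -/

namespace Cfsg.Agent.S5702P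

open Matrix Cfsg.Agent.Helper28.Sg Cfsg.Agent.Helper28.Spin Cfsg.Agent.Helper12.OrthGen
  Cfsg.Agent.S5683P

variable {F : Type*} [Field F] {m : ℕ} {a b : F}

namespace YBURN

/-- a self-normalising `p`-subgroup is a maximal `p`-subgroup -/
theorem eq_of_normalizer_le {G : Type*} [Group G] [Finite G] (p : ℕ) [Fact p.Prime]
    (R : Subgroup G) (hN : Subgroup.normalizer (R : Set G) ≤ R) (Q : Subgroup G)
    (hQ : IsPGroup p Q) (hRQ : R ≤ Q) : Q = R := by
  by_contra hne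
  have hlt : R.subgroupOf Q < ⊤ := by
    rw [lt_top_iff_ne_top]
    intro htop
    apply hne
    apply le_antisymm _ hRQ
    intro x hx
    have : (⟨x, hx⟩ : Q) ∈ R.subgroupOf Q := by rw [htop]; trivial
    exact Subgroup.mem_subgroupOf.1 this
  have : Group.IsNilpotent Q := hQ.isNilpotent
  have hnc := Group.normalizerCondition_of_isNilpotent (G := Q) (R.subgroupOf Q) hlt
  obtain ⟨x, hxN, hxR⟩ := SetLike.exists_of_lt hnc
  apply hxR
  rw [Subgroup.mem_subgroupOf]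
  apply hN
  rw [Subgroup.mem_normalizer_iff]
  intro g
  rw [Subgroup.mem_normalizer_iff] at hxN
  constructor
  · intro hg
    have := (hxN ⟨g, hRQ hg⟩).1 (Subgroup.mem_subgroupOf.2 hg)
    exact Subgroup.mem_subgroupOf.1 this
  · intro hg
    have hgQ : g ∈ Q := by
      have h1 : (x : G) * g * (x : G)⁻¹ ∈ Q := hRQ hg
      have h2 : g = (x : G)⁻¹ * ((x : G) * g * (x : G)⁻¹) * (x : G) := by group
      rw [h2]
      exact Q.mul_mem (Q.mul_mem (Q.inv_mem x.2) h1) x.2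
    have := (hxN ⟨g, hgQ⟩).2 (Subgroup.mem_subgroupOf.2 hg)
    exact Subgroup.mem_subgroupOf.1 this

/-- `xi3` of `f_{κ k}` -/
theorem xi3_ff (κ : Fin 3 → Fin m) (hκ : Function.Injective κ) (k : Fin 3) :
    xi3 κ (ff F (κ k)) = Pi.single k 1 := by
  funext l
  simp only [xi3, ff, Pi.single_apply, Sum.inl.injEq, Sum.inr.injEq]
  by_cases h : l = k
  · subst h; simp
  · rw [if_neg h, if_neg]
    intro h'
    exact h (hκ h')

/-- every `ξ` is an `xi3` -/
theorem exists_xi3 (κ : Fin 3 → Fin m) (hκ : Function.Injective κ) (ξ : Fin 3 → F) :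
    ∃ x : Idx m → F, xi3 κ x = ξ := by
  refine ⟨∑ k, ξ k • ff F (κ k), ?_⟩
  funext l
  have : ∀ k, xi3 κ (ξ k • ff F (κ k)) l = ξ k * (Pi.single k (1 : F) : Fin 3 → F) l := by
    intro k
    rw [xi3_smul, Pi.smul_apply, xi3_ff κ hκ, smul_eq_mul]
  have h2 : xi3 κ (∑ k, ξ k • ff F (κ k)) l = ∑ k, xi3 κ (ξ k • ff F (κ k)) l := by
    simp only [xi3, Finset.sum_apply]
  rw [h2]
  simp only [this, Pi.single_apply]
  simp

/-- an element intertwining `ρ(t)` and `ρ(t')` maps the image of `ρ(t) - 1` into `π` -/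
theorem image_mem (κ : Fin 3 → Fin m) (hκ : Function.Injective κ) (d : OG m F a b)
    (t t' : Fin 3 → F) (h : d * rho a b κ t = rho a b κ t' * d) (ξ : Fin 3 → F) :
    ∃ c' : Fin 3 → F, mt (QfMinus m F a b) d *ᵥ lin3 κ (t ⨯₃ ξ) = lin3 κ c' := by
  obtain ⟨x, hx⟩ := exists_xi3 κ hκ ξ
  have h1 := congrArg (fun g => mt (QfMinus m F a b) g *ᵥ x) h
  simp only [mt_mul_mulVec, rho_mulVec κ hκ, hx, Matrix.mulVec_add] at h1
  exact ⟨_, add_left_cancel h1⟩

/-- the decomposition `c = s γ + t × ξ` when `t ⬝ γ ≠ 0` -/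
theorem decomp (t γ c : Fin 3 → F) (h : t ⬝ᵥ γ ≠ 0) :
    c = ((t ⬝ᵥ c) / (t ⬝ᵥ γ)) • γ + t ⨯₃ ((-(t ⬝ᵥ γ)⁻¹) • (γ ⨯₃ c)) := by
  have e := cross_cross_eq_smul_sub_smul' t γ c
  rw [map_smul, e]
  funext k
  simp only [Pi.add_apply, Pi.smul_apply, Pi.sub_apply, smul_eq_mul]
  rw [dotProduct_comm γ t]
  field_simp
  ring

end YBURN

open YBURN in
/-- YBURN: the coordinates of `p` cannot be `F₀`-linearly independent. -/
theorem YBURN.false [Fintype F] (hm : 4 ≤ m) (F₀ : Subfield F) (ha : a ∈ F₀) (hb : b ∈ F₀)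
    (hab : 4 * b - a ^ 2 ≠ 0) (M : Subgroup (OG m F a b)) (hM : HasRatO F₀ M)
    (hR : RootRatO F₀ M) (κ : Fin 3 → Fin m) (hκ : Function.Injective κ)
    (v w : Idx m → F) (hv : QfMinus m F a b v = 0) (hw : QfMinus m F a b w = 0)
    (hvw : B (QfMinus m F a b) v w = 0) (hw' : w ∈ Rad M v hv)
    (hγ : Indep3 F₀ (xi3 κ v ⨯₃ xi3 κ w)) : False := by
  classical
  obtain ⟨p, hp⟩ := CharP.exists F
  have hpp : Fact p.Prime := ⟨CharP.char_is_prime F p⟩
  set g := siegO (QfMinus m F a b) v w hv hvw with hg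
  set γ := xi3 κ v ⨯₃ xi3 κ w with hγdef
  set D := Dgrp F₀ κ g with hD
  have hRD : Rgrp F₀ a b κ ≤ D := le_sup_left
  have hgD : g ∈ D := Subgroup.mem_sup_right (Subgroup.mem_zpowers g)
  -- `t ⬝ᵥ γ ≠ 0` for rational `t ≠ 0`
  have hdot : ∀ t : Fin 3 → F, (∀ k, t k ∈ F₀) → t ≠ 0 → t ⬝ᵥ γ ≠ 0 :=
    fun t ht ht0 h => ht0 (hγ t ht h)
  -- the key: intertwiners stabilise `π`, hence lie in `R`
  have key : ∀ d ∈ D, ∀ t t' : Fin 3 → F, (∀ k, t k ∈ F₀) → t ≠ 0 →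
      d * rho a b κ t = rho a b κ t' * d → d ∈ Rgrp F₀ a b κ := by
    intro d hd t t' ht ht0 hcomm
    apply STAB.mem_Rgrp hm F₀ ha hb hab M hM hR κ hκ v w hv hw hvw hw' hγ d hd
    intro c
    have hfix := (TENS.all F₀ κ hκ v w hv hw hvw d hd).1
    rw [decomp t γ c (hdot t ht ht0), lin3_add, lin3_smul, Matrix.mulVec_add, Matrix.mulVec_smul,
      hfix]
    obtain ⟨c', hc'⟩ := image_mem κ hκ d t t' hcomm ((-(t ⬝ᵥ γ)⁻¹) • (γ ⨯₃ c))
    rw [hc']
    exact ⟨((t ⬝ᵥ c) / (t ⬝ᵥ γ)) • γ + c', by rw [lin3_add, lin3_smul]⟩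
  -- a non-trivial rational parameter
  set t₀ : Fin 3 → F := Pi.single 0 1 with ht₀
  have ht₀r : ∀ k, t₀ k ∈ F₀ := by
    intro k
    rw [ht₀, Pi.single_apply]
    split_ifs
    · exact F₀.one_mem
    · exact F₀.zero_mem
  have ht₀0 : t₀ ≠ 0 := by
    intro h
    have := congrFun h 0
    simp [ht₀] at this
  have ha₀R : rho a b κ t₀ ∈ Rgrp F₀ a b κ :=
    (RHO.mem_Rgrp_iff F₀ κ hκ _).2 ⟨t₀, ht₀r, rfl⟩
  set R : Subgroup D := (Rgrp F₀ a b κ).subgroupOf D with hRdef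
  have hNR : Subgroup.normalizer (R : Set D) ≤ R := by
    intro n hn
    rw [Subgroup.mem_subgroupOf]
    have h1 : (⟨rho a b κ t₀, hRD ha₀R⟩ : D) ∈ R := Subgroup.mem_subgroupOf.2 ha₀R
    have h2 := (Subgroup.mem_normalizer_iff.1 hn ⟨rho a b κ t₀, hRD ha₀R⟩).1 h1
    rw [Subgroup.mem_subgroupOf] at h2
    obtain ⟨t', -, ht'⟩ := (RHO.mem_Rgrp_iff F₀ κ hκ _).1 h2
    have h3 : (n : OG m F a b) * rho a b κ t₀ * (n : OG m F a b)⁻¹ = rho a b κ t' := ht'
    refine key n n.2 t₀ t' ht₀r ht₀0 ?_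
    rw [← h3]
    group
  have hRtop : R = ⊤ := by
    refine Cfsg.Agent.S5639P.BURN.eq_top p R ?_ ?_ ?_ ?_ hNR ?_
    · exact (RGRP.isPGroup p F₀ κ hκ).comap_subtype
    · intro x hx y hy
      apply Subtype.ext
      rw [Subgroup.mem_subgroupOf] at hx hy
      obtain ⟨t, -, ht⟩ := (RHO.mem_Rgrp_iff F₀ κ hκ _).1 hx
      obtain ⟨t', -, ht'⟩ := (RHO.mem_Rgrp_iff F₀ κ hκ _).1 hy
      show (x : OG m F a b) * (y : OG m F a b) = (y : OG m F a b) * (x : OG m F a b)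
      rw [ht, ht']
      exact RHO.comm κ hκ t t'
    · intro hcyc
      apply RGRP.not_isCyclic (a := a) (b := b) F₀ κ hκ
      have e : R ≃* Rgrp F₀ a b κ := Subgroup.subgroupOfEquivOfLe hRD
      exact isCyclic_of_surjective e e.surjective
    · intro Q hQ hRQ
      exact eq_of_normalizer_le p R hNR Q hQ hRQ
    · intro x hx hx1 c hc
      rw [Subgroup.mem_subgroupOf]
      rw [Subgroup.mem_subgroupOf] at hx
      obtain ⟨t, ht, hxt⟩ := (RHO.mem_Rgrp_iff F₀ κ hκ _).1 hx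
      have ht0 : t ≠ 0 := by
        intro h0
        apply hx1
        apply Subtype.ext
        show (x : OG m F a b) = 1
        rw [hxt, h0]
        exact RHO.zero κ hκ
      have hcomm : c * x = x * c := by
        have := Subgroup.mem_centralizer_iff.1 hc x (Set.mem_singleton x)
        exact this.symm
      have h3 : (c : OG m F a b) * (x : OG m F a b) = (x : OG m F a b) * (c : OG m F a b) :=
        congrArg Subtype.val hcomm
      rw [hxt] at h3
      exact key c c.2 t t ht ht0 h3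
  -- now `g ∈ R`
  have hgR : g ∈ Rgrp F₀ a b κ := by
    have : (⟨g, hgD⟩ : D) ∈ R := by rw [hRtop]; trivial
    exact Subgroup.mem_subgroupOf.1 this
  obtain ⟨t, -, hgt⟩ := (RHO.mem_Rgrp_iff F₀ κ hκ _).1 hgR
  -- `g` fixes `π` pointwise
  have hfixπ : ∀ c : Fin 3 → F,
      B (QfMinus m F a b) v (lin3 κ c) • w - B (QfMinus m F a b) w (lin3 κ c) • v = 0 := by
    intro c
    have h1 : mt (QfMinus m F a b) g *ᵥ lin3 κ c = lin3 κ c := by
      rw [hgt, rho_mulVec κ hκ, xi3_lin3, map_zero, lin3_zero, add_zero]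
    rw [hg, siegO_mulVec, hw, zero_mul, zero_smul, sub_zero] at h1
    have h2 : lin3 κ c + (B (QfMinus m F a b) v (lin3 κ c) • w -
        B (QfMinus m F a b) w (lin3 κ c) • v) = lin3 κ c + 0 := by
      rw [add_zero, ← add_sub_assoc]
      exact h1
    exact add_left_cancel h2
  -- hence `γ ⨯₃ c = 0` for all `c`, so `γ = 0`
  have hcross : ∀ c : Fin 3 → F, γ ⨯₃ c = 0 := by
    intro c
    have h1 := congrArg (xi3 κ) (hfixπ c)
    rw [B_comm _ v, B_comm _ w, B_lin3, B_lin3] at h1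
    have h2 : xi3 κ ((c ⬝ᵥ xi3 κ v) • w - (c ⬝ᵥ xi3 κ w) • v) =
        (c ⬝ᵥ xi3 κ v) • xi3 κ w - (c ⬝ᵥ xi3 κ w) • xi3 κ v := rfl
    rw [h2] at h1
    have h3 : xi3 κ (0 : Idx m → F) = 0 := rfl
    rw [h3] at h1
    rw [hγdef, cross_cross_eq_smul_sub_smul, dotProduct_comm (xi3 κ v) c,
      dotProduct_comm (xi3 κ w) c]
    exact h1
  have hγ0 : γ 0 ≠ 0 := by
    have := hdot t₀ ht₀r ht₀0
    rw [ht₀] at this
    simpa using this
  have h1 := congrFun (hcross (Pi.single 1 1)) 2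
  rw [cross_apply] at h1
  simp at h1
  exact hγ0 h1

end Cfsg.Agent.S5702P
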