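import Cfsg.Agent.Helper12.S5702Defs2
import Cfsg.Agent.Helper12.S5683COMM2
import Cfsg.Agent.Helper20.S5702RATSIEG
import Cfsg.Agent.Helper20.S5702TRANSO
import Cfsg.Agent.Helper17.S5702CENTRAT

/-! S5702 piece PLANE (driver helper12): an `M`-root line `⟨v, w⟩` orthogonal to a rational singular
point `s` spans a rational plane with it (port of `Cfsg.Agent.Helper14.S5683PLANE` to the even-dimensional
form; the coordinate duals of the binary part are `d₁, d₂`, with Gram determinant `4 b - a²`). -/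

set_option autoImplicit false
set_option linter.unusedSectionVars false
set_option linter.unusedVariables false

namespace Cfsg.Agent.S5702P

open Matrix Cfsg.Agent.Helper28.Sg Cfsg.Agent.Helper28.Spin Cfsg.Agent.Helper12.OrthGen
  Cfsg.Agent.S5683P

variable {F : Type*} [Field F] {m : ℕ} {a b : F}

namespace PLANE

/-- the "dual" coordinate vectors: pairing with them reads off the coordinates (a `2 × 2` system for the
binary part) -/
def cv (F : Type*) [Field F] (m : ℕ) : Idx m → (Idx m → F)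
  | Sum.inl (Sum.inl j) => ff F j
  | Sum.inl (Sum.inr j) => ee F j
  | Sum.inr u => if u = 0 then d1 F m else d2 F m

theorem rat_cv (F₀ : Subfield F) (k : Idx m) : Rat F₀ (cv F m k) := by
  rcases k with (j | j) | u
  · exact rat_ff j
  · exact rat_ee j
  · show Rat F₀ (if u = 0 then d1 F m else d2 F m)
    split_ifs
    · exact rat_d1
    · exact rat_d2

/-- a vector all of whose pairings with the dual vectors, except the one of `e_i`, vanish is a multiple
of `e_i` -/
theorem eq_smul_ee (hab : 4 * b - a ^ 2 ≠ 0) (i : Fin m) (z : Idx m → F)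
    (hz : ∀ k : Idx m, k ≠ Sum.inl (Sum.inl i) → B (QfMinus m F a b) z (cv F m k) = 0) :
    z = z (Sum.inl (Sum.inl i)) • ee F i := by
  classical
  have h0 : z (Sum.inr 0) = 0 ∧ z (Sum.inr 1) = 0 := by
    have e1 := hz (Sum.inr 0) (by simp)
    have e2 := hz (Sum.inr 1) (by simp)
    have e1' : 2 * z (Sum.inr 0) + a * z (Sum.inr 1) = 0 := by
      rw [← B_d1' (a := a) (b := b)]; exact e1
    have e2' : a * z (Sum.inr 0) + 2 * b * z (Sum.inr 1) = 0 := by
      rw [← B_d2' (a := a) (b := b)]; exact e2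
    constructor
    · have : (4 * b - a ^ 2) * z (Sum.inr 0) = 0 := by linear_combination 2 * b * e1' - a * e2'
      rcases mul_eq_zero.1 this with h | h
      · exact absurd h hab
      · exact h
    · have : (4 * b - a ^ 2) * z (Sum.inr 1) = 0 := by linear_combination 2 * e2' - a * e1'
      rcases mul_eq_zero.1 this with h | h
      · exact absurd h hab
      · exact h
  funext k
  rcases k with (j | j) | u
  · by_cases hj : j = i
    · subst hj
      simp [ee]
    · have hk : (Sum.inl (Sum.inl j) : Idx m) ≠ Sum.inl (Sum.inl i) := by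
        intro h; apply hj; simpa using h
      have := hz _ hk
      have e : B (QfMinus m F a b) z (cv F m (Sum.inl (Sum.inl j))) = z (Sum.inl (Sum.inl j)) :=
        B_ff' j z
      rw [e] at this
      rw [this]
      simp [ee, Pi.single_eq_of_ne hk]
  · have hk : (Sum.inl (Sum.inr j) : Idx m) ≠ Sum.inl (Sum.inl i) := by simp
    have := hz _ hk
    have e : B (QfMinus m F a b) z (cv F m (Sum.inl (Sum.inr j))) = z (Sum.inl (Sum.inr j)) :=
      B_ee' j z
    rw [e] at this
    rw [this]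
    simp [ee, Pi.single_eq_of_ne hk]
  · have hk : (Sum.inr u : Idx m) ≠ Sum.inl (Sum.inl i) := by simp
    have hu : z (Sum.inr u) = 0 := by
      fin_cases u
      · exact h0.1
      · exact h0.2
    rw [hu]
    simp [ee, Pi.single_eq_of_ne hk]

/-- `e_i` is orthogonal to all dual vectors but its own -/
theorem B_ee_cv (i : Fin m) (k : Idx m) (hk : k ≠ Sum.inl (Sum.inl i)) :
    B (QfMinus m F a b) (ee F i) (cv F m k) = 0 := by
  classical
  rw [B_ee]
  rcases k with (j | j) | u
  · show ff F j (Sum.inl (Sum.inr i)) = 0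
    have hj : j ≠ i := by
      intro h; apply hk; rw [h]
    simp [ff, hj.symm]
  · show ee F j (Sum.inl (Sum.inr i)) = 0
    simp [ee]
  · show (if u = 0 then d1 F m else d2 F m) (Sum.inl (Sum.inr i)) = 0
    split_ifs <;> simp [d1, d2]

end PLANE

/-- PLANE: an `M`-root line `⟨v, w⟩` orthogonal to a rational singular point `s` spans a rational plane with it. -/
theorem PLANE.ratPlane (hm : 4 ≤ m) (F₀ : Subfield F) (ha : a ∈ F₀) (hb : b ∈ F₀)
    (hab : 4 * b - a ^ 2 ≠ 0) (M : Subgroup (OG m F a b))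
    (hM : HasRatO F₀ M) (hR : RootRatO F₀ M) (v w s : Idx m → F) (hv : QfMinus m F a b v = 0)
    (hw : QfMinus m F a b w = 0) (hvw : B (QfMinus m F a b) v w = 0) (hw' : w ∈ Rad M v hv)
    (hs : Rat F₀ s) (hQs : QfMinus m F a b s = 0) (hsv : B (QfMinus m F a b) s v = 0)
    (hsw : B (QfMinus m F a b) s w = 0)
    (hind : LinearIndependent F ![v, w, s]) : RatPlane F₀ v w s := by
  classical
  have hs0 : s ≠ 0 := hind.ne_zero 2
  -- independence, elementary form
  have H3 : ∀ α β γ : F, α • v + β • w + γ • s = 0 → α = 0 ∧ β = 0 ∧ γ = 0 := by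
    intro α β γ h
    have := Fintype.linearIndependent_iff.1 hind ![α, β, γ] (by
      simpa [Fin.sum_univ_three] using h)
    exact ⟨this 0, this 1, this 2⟩
  -- step 1: every rational `x ⊥ s` gives a rational vector of the plane
  have step1 : ∀ x : Idx m → F, Rat F₀ x → B (QfMinus m F a b) s x = 0 →
      ∃ t : F, Rat F₀ (B (QfMinus m F a b) w x • v - B (QfMinus m F a b) v x • w - t • s) := by
    intro x hx hsx
    have hx' : x ∈ Rad M s hQs := RATSIEG.mem_rad F₀ ha hb M hM s x hs hx hQs hsx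
    have hy := COMM2.mem_rad M hv hw hQs hvw hsv hsw hw' hx'
    exact CENTRAT.rat_mod hm F₀ ha hb hab M hM hR s _ hs hs0 hQs hy
  -- step 2: move `s` to `e_0`
  have hm0 : 0 < m := by omega
  obtain ⟨g, c, hgS, hgr, hgr', hc, hc0, hgs⟩ :=
    TRANSO.exists_move₁ (by omega : 3 ≤ m) F₀ ha hb hab s hs hs0 hQs ⟨0, hm0⟩
  set i₀ : Fin m := ⟨0, hm0⟩ with hi₀
  set k₀ : Idx m := Sum.inl (Sum.inl i₀) with hk₀
  set v' := mt (QfMinus m F a b) g *ᵥ v with hv'
  set w' := mt (QfMinus m F a b) g *ᵥ w with hw''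
  have H3' : ∀ α β γ : F, α • v' + β • w' + γ • ee F i₀ = 0 → α = 0 ∧ β = 0 := by
    intro α β γ h
    have h1 : mt (QfMinus m F a b) g *ᵥ (α • v + β • w + (γ * c⁻¹) • s) = 0 := by
      rw [Matrix.mulVec_add, Matrix.mulVec_add, Matrix.mulVec_smul, Matrix.mulVec_smul,
        Matrix.mulVec_smul, hgs, smul_smul, mul_assoc, inv_mul_cancel₀ hc0, mul_one]
      exact h
    have h2' := congrArg (fun z => mt (QfMinus m F a b) g⁻¹ *ᵥ z) h1
    simp only [mt_inv_mulVec, Matrix.mulVec_zero] at h2'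
    obtain ⟨h3, h4, -⟩ := H3 _ _ _ h2'
    exact ⟨h3, h4⟩
  -- the pairings with the dual vectors
  set P : (Idx m → F) → Idx m → F := fun x k => B (QfMinus m F a b) x (PLANE.cv F m k) with hP
  have P_add : ∀ (x y : Idx m → F) (k : Idx m), P (x + y) k = P x k + P y k := fun x y k =>
    QuadraticMap.polar_add_left _ _ _ _
  have P_smul : ∀ (l : F) (x : Idx m → F) (k : Idx m), P (l • x) k = l * P x k := fun l x k => by
    show QuadraticMap.polar (⇑(QfMinus m F a b)) (l • x) _ =
      l * QuadraticMap.polar (⇑(QfMinus m F a b)) x _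
    rw [QuadraticMap.polar_smul_left, smul_eq_mul]
  -- the rational vectors `a_k`
  set y : Idx m → (Idx m → F) := fun k => mt (QfMinus m F a b) g⁻¹ *ᵥ PLANE.cv F m k with hy
  have hy_rat : ∀ k, Rat F₀ (y k) := fun k => RatM.mulVec hgr' (PLANE.rat_cv F₀ k)
  have hBy : ∀ (x : Idx m → F) (k : Idx m),
      B (QfMinus m F a b) x (y k) = P (mt (QfMinus m F a b) g *ᵥ x) k := by
    intro x k
    show _ = B (QfMinus m F a b) (mt (QfMinus m F a b) g *ᵥ x) (PLANE.cv F m k)
    rw [← B_isom (QfMinus m F a b) g x (y k), hy]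
    simp only [mt_mulVec_inv]
  have hsy : ∀ k, k ≠ k₀ → B (QfMinus m F a b) s (y k) = 0 := by
    intro k hk
    rw [hBy, hgs, P_smul]
    show c * B (QfMinus m F a b) (ee F i₀) (PLANE.cv F m k) = 0
    rw [PLANE.B_ee_cv i₀ k hk, mul_zero]
  -- two coordinates with a non-zero minor
  have hex : ∃ k₁ k₂ : Idx m, k₁ ≠ k₀ ∧ k₂ ≠ k₀ ∧ P v' k₁ * P w' k₂ - P v' k₂ * P w' k₁ ≠ 0 := by
    by_contra hno
    push Not at hno
    have hv0 : ∀ k₁ : Idx m, k₁ ≠ k₀ → P v' k₁ = 0 := by
      intro k₁ hk₁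
      set z : Idx m → F := (-P w' k₁) • v' + P v' k₁ • w' with hz
      have hz0 : ∀ k : Idx m, k ≠ k₀ → B (QfMinus m F a b) z (PLANE.cv F m k) = 0 := by
        intro k hk
        have := hno k₁ k hk₁ hk
        show P z k = 0
        rw [hz, P_add, P_smul, P_smul]
        linear_combination this
      have hz1 := PLANE.eq_smul_ee hab i₀ z hz0
      have : (-P w' k₁) • v' + P v' k₁ • w' + (-(z k₀)) • ee F i₀ = 0 := by
        rw [← hz, neg_smul, ← hz1]
        exact add_neg_cancel z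
      exact (H3' _ _ _ this).2
    have hz1 := PLANE.eq_smul_ee hab i₀ v' hv0
    have : (1 : F) • v' + (0 : F) • w' + (-(v' k₀)) • ee F i₀ = 0 := by
      rw [one_smul, zero_smul, add_zero, neg_smul, ← hz1]
      exact add_neg_cancel v'
    exact one_ne_zero (H3' _ _ _ this).1
  obtain ⟨k₁, k₂, hk₁, hk₂, hdet⟩ := hex
  obtain ⟨t₁, ht₁⟩ := step1 (y k₁) (hy_rat k₁) (hsy k₁ hk₁)
  obtain ⟨t₂, ht₂⟩ := step1 (y k₂) (hy_rat k₂) (hsy k₂ hk₂)
  show ∃ a₁ b₁ t₁ a₂ b₂ t₂ : F, a₁ * b₂ - a₂ * b₁ ≠ 0 ∧ Rat F₀ (a₁ • v + b₁ • w + t₁ • s) ∧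
    Rat F₀ (a₂ • v + b₂ • w + t₂ • s)
  refine ⟨B (QfMinus m F a b) w (y k₁), -B (QfMinus m F a b) v (y k₁), -t₁,
    B (QfMinus m F a b) w (y k₂), -B (QfMinus m F a b) v (y k₂), -t₂, ?_, ?_, ?_⟩
  · rw [hBy, hBy, hBy, hBy]
    intro h
    apply hdet
    linear_combination h
  · have : B (QfMinus m F a b) w (y k₁) • v + -B (QfMinus m F a b) v (y k₁) • w + -t₁ • s =
        B (QfMinus m F a b) w (y k₁) • v - B (QfMinus m F a b) v (y k₁) • w - t₁ • s := by
      rw [neg_smul, neg_smul, ← sub_eq_add_neg, ← sub_eq_add_neg]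
    rw [this]
    exact ht₁
  · have : B (QfMinus m F a b) w (y k₂) • v + -B (QfMinus m F a b) v (y k₂) • w + -t₂ • s =
        B (QfMinus m F a b) w (y k₂) • v - B (QfMinus m F a b) v (y k₂) • w - t₂ • s := by
      rw [neg_smul, neg_smul, ← sub_eq_add_neg, ← sub_eq_add_neg]
    rw [this]
    exact ht₂

end Cfsg.Agent.S5702P
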