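import Cfsg.Agent.Helper12.S5702Defs2
import Cfsg.Agent.Helper20.S5702RATSIEG
import Cfsg.Agent.Helper27.S5702EXT2
import Cfsg.Agent.Helper12.S5702KFIELD
import Cfsg.Agent.Helper12.S5702ROOTRAT
import Cfsg.Agent.Helper9.S5702FULLK
import Cfsg.Agent.Helper13.S5702ALLPRATO
import Cfsg.Agent.Helper17.S5702LEMP
import Cfsg.Agent.Helper17.S5702YONE
import Cfsg.Agent.Helper20.S5702ZLOW
import Cfsg.Agent.Helper12.S5702YBURN
import Cfsg.Agent.Helper16.S5683INTERPT
import Cfsg.Agent.Helper25.S5639SUBPRIME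

set_option autoImplicit false
set_option linter.unusedSectionVars false
set_option linter.unusedVariables false

/-! # S5702: assembly in standard position -/

namespace Cfsg.Agent.S5702P

open Matrix Cfsg.Agent.Helper28.Sg Cfsg.Agent.Helper28.Spin Cfsg.Agent.Helper12.OrthGen
  Cfsg.Agent.S5683P

variable {F : Type*} [Field F] {m : ℕ} {a b : F}

namespace MAIN

theorem indep_iff (v w : Idx m → F) : Indep v w ↔ LinearIndependent F ![v, w] := by
  rw [LinearIndependent.pair_iff]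
  rfl

/-- the standard injection `Fin 3 → Fin m` -/
def kap (hm : 3 ≤ m) : Fin 3 → Fin m := Fin.castLE hm

theorem kap_injective (hm : 3 ≤ m) : Function.Injective (kap hm) := Fin.castLE_injective hm

/-- `lin3 κ` is injective -/
theorem lin3_ne_zero (κ : Fin 3 → Fin m) (hκ : Function.Injective κ) {c : Fin 3 → F} (hc : c ≠ 0) :
    lin3 κ c ≠ 0 := by
  intro h
  apply hc
  funext k
  have := congrFun h (Sum.inl (Sum.inl (κ k)))
  simp only [lin3, Finset.sum_apply, Pi.smul_apply, ee, Pi.single_apply, smul_eq_mul, Sum.inl.injEq,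
    Pi.zero_apply] at this
  rw [Finset.sum_eq_single k] at this
  · simpa using this
  · intro l _ hl
    rw [if_neg]
    · ring
    · intro h'
      exact hl (hκ h').symm
  · intro h'
    exact absurd (Finset.mem_univ k) h'

/-- **CLAIMA**: every `M`-root line is orthogonal to a rational singular point. -/
theorem exists_perp [Fintype F] (hm : 4 ≤ m) (F₀ : Subfield F) (ha : a ∈ F₀) (hb : b ∈ F₀)
    (hab : 4 * b - a ^ 2 ≠ 0) (M : Subgroup (OG m F a b)) (hM : HasRatO F₀ M)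
    (hR : RootRatO F₀ M) (v w : Idx m → F) (hv : QfMinus m F a b v = 0)
    (hw : QfMinus m F a b w = 0) (hvw : B (QfMinus m F a b) v w = 0) (hind : Indep v w)
    (hw' : w ∈ Rad M v hv) :
    ∃ s : Idx m → F, Rat F₀ s ∧ s ≠ 0 ∧ QfMinus m F a b s = 0 ∧
      B (QfMinus m F a b) s v = 0 ∧ B (QfMinus m F a b) s w = 0 := by
  classical
  have hm3 : 3 ≤ m := by omega
  set κ := kap hm3 with hκdef
  have hκ : Function.Injective κ := kap_injective hm3
  by_cases h0 : xi3 κ v ⨯₃ xi3 κ w = 0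
  · exact ZLOW.exists_perp hm F₀ ha hb hab M hM hR κ hκ v w hv hw hvw hind hw' h0
  · have hp : PRat F₀ (lin3 κ (xi3 κ v ⨯₃ xi3 κ w)) := by
      by_cases hI : Indep3 F₀ (xi3 κ v ⨯₃ xi3 κ w)
      · exact (YBURN.false hm F₀ ha hb hab M hM hR κ hκ v w hv hw hvw hw' hI).elim
      · unfold Indep3 at hI
        push Not at hI
        obtain ⟨t, ht, htγ, ht0⟩ := hI
        exact YONE.prat hm F₀ ha hb hab M hM hR κ hκ v w hv hw hvw hind hw' t ht ht0 h0 htγ
    obtain ⟨z, hz, hrat⟩ := hp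
    refine ⟨z • lin3 κ (xi3 κ v ⨯₃ xi3 κ w), hrat, ?_, ?_, ?_, ?_⟩
    · exact smul_ne_zero hz (lin3_ne_zero κ hκ h0)
    · rw [Q_smul, Q_lin3, mul_zero]
    · rw [show B (QfMinus m F a b) (z • lin3 κ (xi3 κ v ⨯₃ xi3 κ w)) v =
        z * B (QfMinus m F a b) (lin3 κ (xi3 κ v ⨯₃ xi3 κ w)) v from by
          simp only [B, QuadraticMap.polar_smul_left, smul_eq_mul]]
      rw [B_lin3, dotProduct_comm, dot_self_cross, mul_zero]
    · rw [show B (QfMinus m F a b) (z • lin3 κ (xi3 κ v ⨯₃ xi3 κ w)) w =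
        z * B (QfMinus m F a b) (lin3 κ (xi3 κ v ⨯₃ xi3 κ w)) w from by
          simp only [B, QuadraticMap.polar_smul_left, smul_eq_mul]]
      rw [B_lin3, dotProduct_comm, dot_cross_self, mul_zero]

/-- every `M`-root line is rational -/
theorem lines [Fintype F] (hm : 4 ≤ m) (F₀ : Subfield F) (ha : a ∈ F₀) (hb : b ∈ F₀)
    (hab : 4 * b - a ^ 2 ≠ 0) (M : Subgroup (OG m F a b)) (hM : HasRatO F₀ M)
    (hR : RootRatO F₀ M) (v w : Idx m → F) (hv : QfMinus m F a b v = 0)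
    (hw : QfMinus m F a b w = 0) (hvw : B (QfMinus m F a b) v w = 0) (hind : Indep v w)
    (hw' : w ∈ Rad M v hv) : RatLine F₀ v w := by
  obtain ⟨s, hs, hs0, hQs, hsv, hsw⟩ :=
    exists_perp hm F₀ ha hb hab M hM hR v w hv hw hvw hind hw'
  exact LEMP.ratLine hm F₀ ha hb hab M hM hR v w hv hw hvw hind hw' s hs hs0 hQs hsv hsw

theorem mulVec_injective (h : OG m F a b) {x : Idx m → F}
    (hx : mt (QfMinus m F a b) h *ᵥ x = 0) : x = 0 := by
  have := congrArg (fun y => mt (QfMinus m F a b) h⁻¹ *ᵥ y) hx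
  simp only [Matrix.mulVec_zero] at this
  rwa [mt_inv_mulVec] at this

/-- the elements of `M` map rational singular points to rational points -/
theorem pts [Fintype F] (hm : 4 ≤ m) (F₀ : Subfield F) (ha : a ∈ F₀) (hb : b ∈ F₀)
    (hab : 4 * b - a ^ 2 ≠ 0) (M : Subgroup (OG m F a b)) (hM : HasRatO F₀ M)
    (hR : RootRatO F₀ M) (h : OG m F a b) (hh : h ∈ M) (s : Idx m → F)
    (hs : Rat F₀ s) (hs0 : s ≠ 0) (hQs : QfMinus m F a b s = 0) :
    PRat F₀ (mt (QfMinus m F a b) h *ᵥ s) := by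
  obtain ⟨t₁, t₂, ht₁, ht₂, hQ₁, hQ₂, hB₁, hB₂, hli⟩ :=
    EXT2.exists_two (by omega) F₀ ha hb hab s hs hs0 hQs
  have hQhs : QfMinus m F a b (mt (QfMinus m F a b) h *ᵥ s) = 0 := by rw [Q_isom]; exact hQs
  have hli' : LinearIndependent F ![mt (QfMinus m F a b) h *ᵥ s, mt (QfMinus m F a b) h *ᵥ t₁,
      mt (QfMinus m F a b) h *ᵥ t₂] := by
    have hinj : Function.Injective (Matrix.mulVecLin (mt (QfMinus m F a b) h)) := by
      rw [← LinearMap.ker_eq_bot, LinearMap.ker_eq_bot']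
      intro x hx
      exact mulVec_injective h hx
    have := hli.map' (Matrix.mulVecLin (mt (QfMinus m F a b) h)) (LinearMap.ker_eq_bot.mpr hinj)
    have e : (⇑(Matrix.mulVecLin (mt (QfMinus m F a b) h)) ∘ ![s, t₁, t₂]) =
        ![mt (QfMinus m F a b) h *ᵥ s, mt (QfMinus m F a b) h *ᵥ t₁,
          mt (QfMinus m F a b) h *ᵥ t₂] := by
      funext i
      fin_cases i <;> rfl
    rw [e] at this
    exact this
  have hpair : ∀ t : Idx m → F, Rat F₀ t → QfMinus m F a b t = 0 →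
      B (QfMinus m F a b) s t = 0 →
      LinearIndependent F ![mt (QfMinus m F a b) h *ᵥ s, mt (QfMinus m F a b) h *ᵥ t] →
      RatLine F₀ (mt (QfMinus m F a b) h *ᵥ s) (mt (QfMinus m F a b) h *ᵥ t) := by
    intro t ht hQt hBt hlit
    have h1 : t ∈ Rad M s hQs := RATSIEG.mem_rad F₀ ha hb M hM s t hs ht hQs hBt
    have h2' : mt (QfMinus m F a b) h *ᵥ t ∈ Rad M (mt (QfMinus m F a b) h *ᵥ s) hQhs :=
      Rad_conj hh h1 hQhs
    refine lines hm F₀ ha hb hab M hM hR _ _ hQhs (by rw [Q_isom]; exact hQt)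
      (by rw [B_isom]; exact hBt) ((indep_iff _ _).mpr hlit) h2'
  have hl1 := hpair t₁ ht₁ hQ₁ hB₁ (by
    have := hli'.comp ![0, 1] (by decide)
    convert this using 1
    funext i
    fin_cases i <;> rfl)
  have hl2 := hpair t₂ ht₂ hQ₂ hB₂ (by
    have := hli'.comp ![0, 2] (by decide)
    convert this using 1
    funext i
    fin_cases i <;> rfl)
  exact INTERPT.prat_of_two_lines F₀ _ _ _ hli' hl1 hl2

/-- `K = F₀` ⇒ `M ≤ F^* GL(F₀)` -/
theorem mainN [Fintype F] (hm : 4 ≤ m) (F₀ : Subfield F) (ha : a ∈ F₀) (hb : b ∈ F₀)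
    (hab : 4 * b - a ^ 2 ≠ 0) (M : Subgroup (OG m F a b)) (hM : HasRatO F₀ M)
    (hR : RootRatO F₀ M) (h : OG m F a b) (hh : h ∈ M) :
    InN F₀ (mt (QfMinus m F a b) h) := by
  apply ALLPRATO.inN_of_singular (by omega) F₀ ha hb hab _ (fun x hx => mulVec_injective h hx)
  intro s hs hs0 hQs
  exact pts hm F₀ ha hb hab M hM hR h hh s hs hs0 hQs

/-- the dichotomy in standard position -/
theorem main [Fintype F] (hm : 4 ≤ m) (F₀ : Subfield F) (ha : a ∈ F₀) (hb : b ∈ F₀)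
    (hab : 4 * b - a ^ 2 ≠ 0) (r : ℕ)
    (hr : r.Prime) (hcard : Fintype.card F = Nat.card F₀ ^ r) (M : Subgroup (OG m F a b))
    (hM : HasRatO F₀ M) :
    (∀ h ∈ M, InN F₀ (mt (QfMinus m F a b) h)) ∨ S (QfMinus m F a b) ≤ M := by
  have hm3 : 3 ≤ m := by omega
  set i0 : Fin m := ⟨0, by omega⟩ with hi0
  set i1 : Fin m := ⟨1, by omega⟩ with hi1
  have h01 : i0 ≠ i1 := by
    intro h
    have := congrArg Fin.val h
    simp [hi0, hi1] at this
  obtain ⟨K, hK0, hK⟩ := KFIELD.exists_subfield hm3 F₀ ha hb hab M hM i0 i1 h01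
  rcases Cfsg.Agent.S5639P.SUBPRIME.eq_or_top F₀ K hK0 r hr hcard with h | h
  · left
    have hR : RootRatO F₀ M := by
      apply ROOTRAT.rootRatO hm3 F₀ ha hb hab M hM i0 i1 h01
      intro c hc
      rw [hK, h] at hc
      exact hc
    intro g hg
    exact mainN hm F₀ ha hb hab M hM hR g hg
  · right
    apply FULLK.S_le hm3 F₀ ha hb hab M hM
    apply ROOTRAT.rootFull hm3 F₀ ha hb hab M hM i0 i1 h01
    intro c
    rw [hK, h]
    exact Subfield.mem_top c

end MAIN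

end Cfsg.Agent.S5702P
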