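import Cfsg.Agent.Helper12.S5702Main
import Cfsg.Agent.Helper20.S5702HASRAT
import Cfsg.Agent.Helper18.S5702PROPER
import Cfsg.Agent.Helper17.S5683MEMSUBF

set_option autoImplicit false
set_option linter.unusedSectionVars false
set_option linter.unusedVariables false

/-! # S5702: from the dichotomy to the maximality statement, standard position -/

namespace Cfsg.Agent.S5702P

open Matrix Cfsg.Agent.Helper28.Sg Cfsg.Agent.Helper28.Spin Cfsg.Agent.Helper12.OrthGen
  Cfsg.Agent.S5683P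

variable {F : Type*} [Field F] {m : ℕ} {a b : F}

namespace FINAL

/-- there is an element of `F` outside `F₀` -/
theorem exists_not_mem [Fintype F] (F₀ : Subfield F) (r : ℕ) (hr : r.Prime)
    (hcard : Fintype.card F = Nat.card F₀ ^ r) : ∃ θ : F, θ ∉ F₀ := by
  by_contra hcon
  push Not at hcon
  have htop : F₀ = ⊤ := by
    ext x
    simp [hcon x]
  have h1 : Nat.card F₀ = Fintype.card F := by
    rw [htop, ← Nat.card_eq_fintype_card]
    exact Nat.card_congr (Subfield.topEquiv (K := F)).toEquiv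
  rw [h1] at hcard
  have h2 : 1 < Fintype.card F := Fintype.one_lt_card
  have h3 : Fintype.card F ^ 1 < Fintype.card F ^ r := Nat.pow_lt_pow_right h2 hr.one_lt
  rw [pow_one] at h3
  omega

/-- maximality in standard position -/
theorem maximal_std [Fintype F] (hm : 4 ≤ m) (F₀ : Subfield F) (ha : a ∈ F₀) (hb : b ∈ F₀)
    (hab : 4 * b - a ^ 2 ≠ 0) (r : ℕ)
    (hr : r.Prime) (hcard : Fintype.card F = Nat.card F₀ ^ r) :
    Cfsg.Geo.IsMaximalIn (Cfsg.Geo.omegaGL ⇑(QfMinus m F a b))
      (Cfsg.Geo.subfieldSubgroup F₀ (1 : Matrix.GeneralLinearGroup (Idx m) F) ⊓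
        Cfsg.Geo.omegaGL ⇑(QfMinus m F a b)) := by
  classical
  have hm3 : 3 ≤ m := by omega
  refine ⟨lt_of_le_of_ne inf_le_right ?_, ?_⟩
  · intro heq
    obtain ⟨θ, hθ⟩ := exists_not_mem F₀ r hr hcard
    obtain ⟨g, hgΩ, hgN⟩ := PROPER.exists_not_mem (a := a) (b := b) hm3 F₀ hab θ hθ
    rw [← heq] at hgΩ
    exact hgN hgΩ.1
  · intro M hHM hMS
    set M' : Subgroup (OG m F a b) :=
      M.comap (Cfsg.isometryGroup F ⇑(QfMinus m F a b)).subtype with hM'
    have hRat : HasRatO F₀ M' := HASRAT.hasRatO hm3 F₀ hab M hHM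
    rcases MAIN.main hm F₀ ha hb hab r hr hcard M' hRat with hall | hall
    · left
      apply le_antisymm _ hHM
      intro g hg
      refine Subgroup.mem_inf.2 ⟨?_, hMS hg⟩
      obtain ⟨h, hhΩ, rfl⟩ :=
        (Cfsg.Agent.Helper28.NM.mem_omegaGL_iff (QfMinus m F a b) g).mp (hMS hg)
      rw [MEMSUBF.mem_subf_one_iff]
      exact hall h hg
    · right
      apply le_antisymm hMS
      intro g hg
      obtain ⟨h, hhΩ, rfl⟩ := (Cfsg.Agent.Helper28.NM.mem_omegaGL_iff (QfMinus m F a b) g).mp hg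
      rw [Omega_eq_S_even hab hm3] at hhΩ
      exact hall hhΩ

end FINAL

end Cfsg.Agent.S5702P
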