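import Mathlib
import Cfsg.Prelude.Def_GeometricClasses
import Cfsg.Agent.Helper18.S5707.Defs
import Cfsg.Agent.Helper3.S5702REDUCE
import Cfsg.Agent.Helper20.S5707TENS
import Cfsg.Agent.Helper20.S5707TENSV

/-! S5707 piece REDLOC (helper12): change of the local basis by `A` (conjugation by the pure tensor
`tensM (fun _ => A)`). -/

set_option autoImplicit false

namespace Cfsg.Agent.S5707P

open Matrix

variable {F : Type*} [Field F] {k t : ℕ}

namespace REDLOC

/-- the pure tensor `A ⊗ ⋯ ⊗ A` as an element of `GL` -/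
def tensGL (A : GL (Fin k) F) : GL (X k t) F where
  val := tensM (fun _ : Fin t => (A : Matrix (Fin k) (Fin k) F))
  inv := tensM (fun _ : Fin t => ((A⁻¹ : GL (Fin k) F) : Matrix (Fin k) (Fin k) F))
  val_inv := by
    rw [TENS.tensM_mul]
    have : (fun _ : Fin t => (A : Matrix (Fin k) (Fin k) F) *
        ((A⁻¹ : GL (Fin k) F) : Matrix (Fin k) (Fin k) F)) = fun _ => 1 := by
      funext _
      rw [← Units.val_mul, mul_inv_cancel, Units.val_one]
    rw [this, TENS.tensM_one]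
  inv_val := by
    rw [TENS.tensM_mul]
    have : (fun _ : Fin t => ((A⁻¹ : GL (Fin k) F) : Matrix (Fin k) (Fin k) F) *
        (A : Matrix (Fin k) (Fin k) F)) = fun _ => 1 := by
      funext _
      rw [← Units.val_mul, inv_mul_cancel, Units.val_one]
    rw [this, TENS.tensM_one]

theorem tensGL_val (A : GL (Fin k) F) :
    ((tensGL (t := t) A : GL (X k t) F) : Matrix (X k t) (X k t) F) =
      tensM (fun _ : Fin t => (A : Matrix (Fin k) (Fin k) F)) := rfl

theorem tensGL_mem_std (A : GL (Fin k) F) :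
    (tensGL (t := t) A : GL (X k t) F) ∈ Cfsg.Geo.tensorWreathStandard k t F := by
  apply Subgroup.subset_closure
  left
  exact ⟨fun _ => A, fun x y => rfl⟩

theorem map_conj_eq_self {G : Type*} [Group G] (H : Subgroup G) (g : G) (hg : g ∈ H) :
    H.map (MulAut.conj g).toMonoidHom = H := by
  ext x
  constructor
  · rintro ⟨y, hy, rfl⟩
    show g * y * g⁻¹ ∈ H
    exact H.mul_mem (H.mul_mem hg hy) (H.inv_mem hg)
  · intro hx
    refine ⟨g⁻¹ * x * g, H.mul_mem (H.mul_mem (H.inv_mem hg) hx) hg, ?_⟩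
    show g * (g⁻¹ * x * g) * g⁻¹ = x
    group

/-- the bilinear sum `vᵀ M w` -/
theorem sum_mulVec_mulVec {ι : Type*} [Fintype ι] [DecidableEq ι] (T M : Matrix ι ι F) (v w : ι → F) :
    ∑ a, ∑ b, (T *ᵥ v) a * M a b * (T *ᵥ w) b = ∑ a, ∑ b, v a * (Tᵀ * M * T) a b * w b := by
  have h1 : ∀ (M' : Matrix ι ι F) (v' w' : ι → F), ∑ a, ∑ b, v' a * M' a b * w' b = v' ⬝ᵥ (M' *ᵥ w') := by
    intro M' v' w'
    simp only [dotProduct, Matrix.mulVec, Finset.mul_sum, mul_assoc]
  rw [h1, h1, ← Matrix.mulVec_mulVec, ← Matrix.mulVec_mulVec,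
    Matrix.dotProduct_mulVec v (Tᵀ), Matrix.vecMul_transpose]

theorem stdQ_change {G : Matrix (Fin k) (Fin k) F} {c : F} {Q : (X k t → F) → F}
    (hQ : StdQ G c Q) (A : GL (Fin k) F) :
    StdQ ((A : Matrix (Fin k) (Fin k) F)ᵀ * G * (A : Matrix (Fin k) (Fin k) F)) c
        (fun v : X k t → F => Q (tensM (fun _ : Fin t => (A : Matrix (Fin k) (Fin k) F)) *ᵥ v)) := by
  refine ⟨?_, ?_, ?_⟩
  · intro a v
    show Q (tensM (fun _ : Fin t => (A : Matrix (Fin k) (Fin k) F)) *ᵥ (a • v)) =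
      a ^ 2 * Q (tensM (fun _ : Fin t => (A : Matrix (Fin k) (Fin k) F)) *ᵥ v)
    rw [Matrix.mulVec_smul, hQ.smul]
  · intro v w
    have h1 := hQ.polar (tensM (fun _ : Fin t => (A : Matrix (Fin k) (Fin k) F)) *ᵥ v)
      (tensM (fun _ : Fin t => (A : Matrix (Fin k) (Fin k) F)) *ᵥ w)
    have h2 := sum_mulVec_mulVec (tensM (fun _ : Fin t => (A : Matrix (Fin k) (Fin k) F)))
      (tensM (fun _ : Fin t => G)) v w
    have h3 : (tensM (fun _ : Fin t => (A : Matrix (Fin k) (Fin k) F)))ᵀ * tensM (fun _ : Fin t => G) *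
        tensM (fun _ : Fin t => (A : Matrix (Fin k) (Fin k) F)) =
        tensM (fun _ : Fin t => (A : Matrix (Fin k) (Fin k) F)ᵀ * G * (A : Matrix (Fin k) (Fin k) F)) := by
      rw [TENS.tensM_transpose, TENS.tensM_mul, TENS.tensM_mul]
    rw [h3] at h2
    have h4 : QuadraticMap.polar
        (fun v : X k t → F => Q (tensM (fun _ : Fin t => (A : Matrix (Fin k) (Fin k) F)) *ᵥ v)) v w =
        QuadraticMap.polar Q (tensM (fun _ : Fin t => (A : Matrix (Fin k) (Fin k) F)) *ᵥ v)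
          (tensM (fun _ : Fin t => (A : Matrix (Fin k) (Fin k) F)) *ᵥ w) := by
      unfold QuadraticMap.polar
      show Q (tensM (fun _ : Fin t => (A : Matrix (Fin k) (Fin k) F)) *ᵥ (v + w)) - _ - _ = _
      rw [Matrix.mulVec_add]
    rw [h4, h1]
    congr 1
  · intro xs
    show Q (tensM (fun _ : Fin t => (A : Matrix (Fin k) (Fin k) F)) *ᵥ
      (fun a : X k t => ∏ i, xs i (a i))) = 0
    rw [TENSV.tensM_mulVec_pure]
    exact hQ.pure _

end REDLOC

/-- piece REDLOC: change of the local basis by `A`. -/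
theorem REDLOC.change [CharP F 2] {G : Matrix (Fin k) (Fin k) F} {c : F} {Q : (X k t → F) → F}
    (hQ : StdQ G c Q) (A : GL (Fin k) F) :
    StdQ ((A : Matrix (Fin k) (Fin k) F)ᵀ * G * (A : Matrix (Fin k) (Fin k) F)) c
        (fun v : X k t → F => Q (tensM (fun _ : Fin t => (A : Matrix (Fin k) (Fin k) F)) *ᵥ v)) ∧
      ((∃ K' : Subgroup (GL (X k t) F),
          Cfsg.Geo.tensorWreathStandard k t F ⊓
            Cfsg.Geo.omegaGL (fun v : X k t → F => Q (tensM (fun _ : Fin t => (A : Matrix (Fin k) (Fin k) F)) *ᵥ v)) < K' ∧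
          K' < Cfsg.Geo.omegaGL (fun v : X k t → F => Q (tensM (fun _ : Fin t => (A : Matrix (Fin k) (Fin k) F)) *ᵥ v))) →
        ∃ K : Subgroup (GL (X k t) F), Cfsg.Geo.tensorWreathStandard k t F ⊓ Cfsg.Geo.omegaGL Q < K ∧
          K < Cfsg.Geo.omegaGL Q) := by
  refine ⟨REDLOC.stdQ_change hQ A, ?_⟩
  rintro ⟨K', h1, h2⟩
  have hinj : Function.Injective (MulAut.conj (REDLOC.tensGL (t := t) A)).toMonoidHom :=
    (MulAut.conj (REDLOC.tensGL (t := t) A)).injective
  have hΩ : (Cfsg.Geo.omegaGL (fun v : X k t → F =>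
      Q (tensM (fun _ : Fin t => (A : Matrix (Fin k) (Fin k) F)) *ᵥ v))).map
      (MulAut.conj (REDLOC.tensGL (t := t) A)).toMonoidHom = Cfsg.Geo.omegaGL Q := by
    apply Cfsg.Agent.S5702P.REDUCE.map_conj_omegaGL₂ Q _ (REDLOC.tensGL (t := t) A) 1 one_ne_zero
    intro x
    rw [one_mul, REDLOC.tensGL_val]
  have hH : (Cfsg.Geo.tensorWreathStandard k t F).map
      (MulAut.conj (REDLOC.tensGL (t := t) A)).toMonoidHom = Cfsg.Geo.tensorWreathStandard k t F :=
    REDLOC.map_conj_eq_self _ _ (REDLOC.tensGL_mem_std A)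
  refine ⟨K'.map (MulAut.conj (REDLOC.tensGL (t := t) A)).toMonoidHom, ?_, ?_⟩
  · have h3 := (Subgroup.map_lt_map_iff_of_injective hinj).2 h1
    rw [Subgroup.map_inf _ _ _ hinj, hΩ, hH] at h3
    exact h3
  · have h3 := (Subgroup.map_lt_map_iff_of_injective hinj).2 h2
    rw [hΩ] at h3
    exact h3

end Cfsg.Agent.S5707P
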