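import Mathlib
import Cfsg.Agent.Helper2.SL23
import Cfsg.Agent.Helper12.SL2OrderFour

set_option autoImplicit false

namespace Cfsg.Agent.Helper12

open Matrix Cfsg.Agent.Helper2.SL23 Cfsg.Agent.Helper2.QLift

open scoped commutatorElement

set_option maxRecDepth 100000

/-- Elements of the quaternion subgroup of `SL₂(3)` have order dividing four. -/
theorem g3_pow_four_of_mem_Q3 {g : G3} (hg : g ∈ Q3) : g ^ 4 = 1 := by
  obtain ⟨q, rfl⟩ := hg
  rw [← map_pow]
  have : q ^ 4 = 1 := by revert q; decide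
  rw [this, map_one]

theorem g3_list_of_pow_four : ∀ g : G3, g ^ 4 = 1 → g = 1 ∨ g = A3 ∨ g = A3 * A3 ∨
    g = A3 * A3 * A3 ∨ g = B3 ∨ g = B3 * A3 ∨ g = B3 * (A3 * A3) ∨ g = B3 * (A3 * A3 * A3) := by
  decide

theorem g3_mem_Q3_iff (g : G3) : g ∈ Q3 ↔ g ^ 4 = 1 := by
  constructor
  · exact g3_pow_four_of_mem_Q3
  · intro h
    have hA' := A3_mem
    have hB' := B3_mem
    rcases g3_list_of_pow_four g h with h | h | h | h | h | h | h | h <;> rw [h]
    · exact Q3.one_mem
    · exact hA'
    · exact Q3.mul_mem hA' hA'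
    · exact Q3.mul_mem (Q3.mul_mem hA' hA') hA'
    · exact hB'
    · exact Q3.mul_mem hB' hA'
    · exact Q3.mul_mem hB' (Q3.mul_mem hA' hA')
    · exact Q3.mul_mem hB' (Q3.mul_mem (Q3.mul_mem hA' hA') hA')

theorem g3_exists_comm_A3 : ∃ a b : G3, ⁅a, b⁆ = A3 := by decide

theorem g3_exists_comm_B3 : ∃ a b : G3, ⁅a, b⁆ = B3 := by decide

theorem g3_comm_A3_sq_ne : ∀ g : G3, g ^ 4 ≠ 1 → ⁅g, A3⁆ ^ 2 ≠ 1 := by decide

theorem g3_conj_order_four : ∀ c : G3, c ^ 4 = 1 → c ^ 2 ≠ 1 → ∀ q : G3, q ^ 4 = 1 →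
    q = 1 ∨ q = c * c ∨ ∃ z : G3, q = z * c * z⁻¹ := by decide

theorem g3_sq_eq_one : ∀ g : G3, g ^ 2 = 1 → g = 1 ∨ g = -1 := by decide

/-- The commutator subgroup of `SL₂(3)` is the quaternion subgroup. -/
theorem commutator_G3 : commutator G3 = Q3 := by
  apply le_antisymm
  · have hn := Q3_normal
    have hc : Nat.card (G3 ⧸ Q3) = 3 := by
      rw [← Subgroup.index_eq_card, Q3_index]
    have : Fact (Nat.Prime 3) := ⟨Nat.prime_three⟩
    have hcyc : IsCyclic (G3 ⧸ Q3) := isCyclic_of_prime_card hc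
    let _ : CommGroup (G3 ⧸ Q3) := IsCyclic.commGroup
    have := Abelianization.commutator_subset_ker (QuotientGroup.mk' Q3)
    rwa [QuotientGroup.ker_mk'] at this
  · have hA' : A3 ∈ commutator G3 := by
      obtain ⟨a, b, hab⟩ := g3_exists_comm_A3
      rw [← hab, commutator_def]
      exact Subgroup.commutator_mem_commutator (Subgroup.mem_top a) (Subgroup.mem_top b)
    have hB' : B3 ∈ commutator G3 := by
      obtain ⟨a, b, hab⟩ := g3_exists_comm_B3
      rw [← hab, commutator_def]
      exact Subgroup.commutator_mem_commutator (Subgroup.mem_top a) (Subgroup.mem_top b)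
    exact range_le 2 A3 B3 hA hB hAB _ hA' hB'

/-- A normal subgroup of `SL₂(3)` containing an element of order four contains `Q₈`. -/
theorem Q3_le_of_normal (N : Subgroup G3) [N.Normal] {c : G3} (hc : c ∈ N) (h4 : c ^ 4 = 1)
    (h2 : c ^ 2 ≠ 1) : Q3 ≤ N := by
  intro q hq
  rw [g3_mem_Q3_iff] at hq
  rcases g3_conj_order_four c h4 h2 q hq with h | h | ⟨z, h⟩
  · rw [h]; exact N.one_mem
  · rw [h]; exact N.mul_mem hc hc
  · rw [h]; exact Subgroup.Normal.conj_mem inferInstance c hc z

/-- The normal subgroups of `SL₂(3)`. -/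
theorem normal_G3 (N : Subgroup G3) (hN : N.Normal) :
    N = ⊥ ∨ N = ⊤ ∨ N = Subgroup.center G3 ∨ N = Q3 := by
  by_cases hle : N ≤ Q3
  · by_cases hex : ∃ c ∈ N, c ^ 2 ≠ 1
    · obtain ⟨c, hc, h2⟩ := hex
      right; right; right
      exact le_antisymm hle (Q3_le_of_normal N hc ((g3_mem_Q3_iff c).1 (hle hc)) h2)
    · push Not at hex
      by_cases hneg : (-1 : G3) ∈ N
      · right; right; left
        apply le_antisymm
        · intro g hg
          rcases g3_sq_eq_one g (hex g hg) with h | h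
          · rw [h]; exact Subgroup.one_mem _
          · rw [h]; exact sl2_neg_one_mem_center
        · intro g hg
          rcases sl2_center_eq g hg with h | h
          · rw [h]; exact N.one_mem
          · rw [h]; exact hneg
      · left
        rw [Subgroup.eq_bot_iff_forall]
        intro g hg
        rcases g3_sq_eq_one g (hex g hg) with h | h
        · exact h
        · rw [h] at hg; exact absurd hg hneg
  · right; left
    obtain ⟨g, hg, hgQ⟩ := SetLike.not_le_iff_exists.1 hle
    rw [g3_mem_Q3_iff] at hgQ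
    have hcomm : ⁅g, A3⁆ ∈ N := by
      rw [commutatorElement_def]
      have h1 : A3 * g⁻¹ * A3⁻¹ ∈ N := hN.conj_mem _ (N.inv_mem hg) A3
      have := N.mul_mem hg h1
      rwa [← mul_assoc, ← mul_assoc] at this
    have hcQ : ⁅g, A3⁆ ∈ Q3 := by
      rw [commutatorElement_def]
      have h1 : g * A3 * g⁻¹ ∈ Q3 := Q3_normal.conj_mem _ A3_mem g
      exact Q3.mul_mem h1 (Q3.inv_mem A3_mem)
    have hQN : Q3 ≤ N :=
      Q3_le_of_normal N hcomm ((g3_mem_Q3_iff _).1 hcQ) (g3_comm_A3_sq_ne g hgQ)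
    -- index argument
    have h1 : Nat.card Q3 ∣ Nat.card N := Subgroup.card_dvd_of_le hQN
    have h2 : Nat.card N ∣ Nat.card G3 := Subgroup.card_subgroup_dvd_card N
    have h24 : Nat.card G3 = 24 := by
      have h := Q3.card_mul_index
      rw [card_Q3, Q3_index] at h
      omega
    rw [card_Q3] at h1
    rw [h24] at h2
    obtain ⟨k, hk⟩ := h1
    have hk3 : k ∣ 3 := by
      rw [hk] at h2
      exact (Nat.mul_dvd_mul_iff_left (by norm_num : 0 < 8)).1 h2
    have hk' : k = 1 ∨ k = 3 := by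
      have := Nat.le_of_dvd (by norm_num) hk3
      interval_cases k
      · simp at hk3
      · left; rfl
      · norm_num at hk3
      · right; rfl
    rcases hk' with h | h
    · exfalso
      have : N = Q3 := by
        symm
        apply Subgroup.eq_of_le_of_card_ge hQN
        rw [card_Q3, hk, h]
      exact hle this.le
    · apply Subgroup.eq_top_of_card_eq
      rw [h24, hk, h]

end Cfsg.Agent.Helper12
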