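import Mathlib
import Cfsg.Agent.Helper12.SL2CuspConv

set_option autoImplicit false

open scoped ComplexConjugate

namespace Cfsg.Agent.Helper12

open Cfsg Cfsg.Agent.Helper8 Cfsg.Agent.Helper24

variable {F : Type*} [Field F]

local notation "S2" => Matrix.SpecialLinearGroup (Fin 2) F
local notation "M2" => Matrix (Fin 2) (Fin 2) F

namespace IsNonsplitGen

/-- For `q = 3` a faithful character of the torus of order four. -/
theorem exists_theta_of_card_three [Fintype F] {A : M2} {ε : F} (h : IsNonsplitGen A ε)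
    (hcyc : IsCyclic (torusA A)) (h3 : Fintype.card F = 3) :
    ∃ θ : torusA A →* ℂˣ, θ ≠ θ⁻¹ ∧ ∀ c : torusA A, ((c : S2) : M2) ≠ 1 →
      ((c : S2) : M2) ≠ -1 → ((θ c : ℂˣ) : ℂ) + (((θ c)⁻¹ : ℂˣ) : ℂ) = 0 := by
  classical
  have hfin : Finite (torusA A →* ℂˣ) :=
    finite_hom_units (fun a b => Subtype.ext (h.gen.torus_comm a.2 b.2))
  have : Fintype (torusA A →* ℂˣ) := Fintype.ofFinite _
  have hT := card_le_card_hom_ne_inv hcyc
  rw [h.card, h3] at hT
  have hpos : 0 < (Finset.univ.filter (fun θ : torusA A →* ℂˣ => θ ≠ θ⁻¹)).card := by omega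
  obtain ⟨θ, hθ⟩ := Finset.card_pos.1 hpos
  have hθ' : θ ≠ θ⁻¹ := (Finset.mem_filter.1 hθ).2
  refine ⟨θ, hθ', ?_⟩
  -- squares of non-central elements
  have hsq : ∀ c : torusA A, ((c : S2) : M2) ≠ 1 → ((c : S2) : M2) ≠ -1 → c * c = negOneT A := by
    intro c hc1 hc2
    have h4 : c ^ 4 = 1 := by
      have := pow_card_eq_one' (G := torusA A) (x := c)
      rwa [h.card, h3] at this
    have h4' : ((c : S2) * (c : S2)) * ((c : S2) * (c : S2)) = 1 := by
      have := congrArg (fun z : torusA A => (z : S2)) h4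
      simp only [Subgroup.coe_pow, Subgroup.coe_one] at this
      rw [← this]
      simp only [pow_succ, pow_zero, one_mul, mul_assoc]
    apply Subtype.ext
    show (c : S2) * (c : S2) = -1
    rcases sl2_eq_of_sq_eq_one h.gen.two_ne _ h4' with h' | h'
    · exfalso
      rcases sl2_eq_of_sq_eq_one h.gen.two_ne _ h' with h'' | h''
      · exact hc1 ((sl2_coe_eq_one_iff _).2 h'')
      · exact hc2 ((sl2_coe_eq_neg_one_iff _).2 h'')
    · exact h'
  have hsgn : sgnT θ = -1 := by
    have h1 := sgnT_sq θ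
    have : (sgnT θ - 1) * (sgnT θ + 1) = 0 := by linear_combination h1
    rcases mul_eq_zero.1 this with h' | h'
    · exfalso
      apply hθ'
      have hs1 : sgnT θ = 1 := by linear_combination h'
      have hu : θ (negOneT A) = 1 := Units.ext hs1
      ext c
      rw [MonoidHom.inv_apply]
      congr 1
      apply eq_inv_of_mul_eq_one_left
      rw [← map_mul]
      by_cases hc : (((c : S2) : M2) = 1 ∨ ((c : S2) : M2) = -1)
      · rcases (torus_central_iff c).2 hc with h'' | h''
        · rw [h'', mul_one, map_one]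
        · rw [h'']
          have : negOneT A * negOneT A = 1 := by
            apply Subtype.ext
            exact sl2_neg_one_mul_self
          rw [this, map_one]
      · push Not at hc
        rw [hsq c hc.1 hc.2, hu]
    · linear_combination h'
  intro c hc1 hc2
  have h1 : ((θ c : ℂˣ) : ℂ) * ((θ c : ℂˣ) : ℂ) = -1 := by
    rw [← Units.val_mul, ← map_mul, hsq c hc1 hc2]
    exact hsgn
  have hne : ((θ c : ℂˣ) : ℂ) ≠ 0 := Units.ne_zero _
  rw [Units.val_inv_eq_inv_val]
  field_simp
  linear_combination h1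

end IsNonsplitGen

end Cfsg.Agent.Helper12
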