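import Mathlib
import Cfsg.Agent.Helper12.SL2OddCases

set_option autoImplicit false

open scoped ComplexConjugate

namespace Cfsg.Agent.Helper12

open Cfsg Cfsg.Agent.Helper8 Cfsg.Agent.Helper24

variable {F : Type*} [Field F]

local notation "S2" => Matrix.SpecialLinearGroup (Fin 2) F
local notation "G2" => Matrix.GeneralLinearGroup (Fin 2) F

/-- A cuspidal irreducible character of `SL₂` lies under a cuspidal irreducible character of
`GL₂`. -/
theorem exists_cuspG_over [Fintype F] [DecidableEq F] (χ : S2 → ℂ) (hχ : IsIrrCharacter S2 χ)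
    (hc : IsCuspS χ) : ∃ ψ : IrrCharacter G2, IsCuspG (ψ : G2 → ℂ) ∧
      classInner (fun g : S2 => (ψ : G2 → ℂ) (Matrix.SpecialLinearGroup.toGL g)) χ ≠ 0 := by
  classical
  have : Fintype (IrrCharacter G2) := Fintype.ofFinite _
  have : Fintype (IrrCharacter S2) := Fintype.ofFinite _
  obtain ⟨ψ, hψ⟩ := exists_gl2_over χ hχ
  refine ⟨ψ, ?_, hψ⟩
  by_contra hcusp
  unfold IsCuspG at hcusp
  push Not at hcusp
  obtain ⟨α, β, hαβ⟩ := hcusp
  obtain ⟨n, hn⟩ := IsCharacter.exists_nat_coeff (psG_isCharacter α β)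
  have hnψ : classInner (psG α β) (ψ : G2 → ℂ) = n ψ := by
    rw [hn]; exact classInner_sum_irr _ ψ
  have hnψ0 : n ψ ≠ 0 := by
    intro h0
    rw [hnψ, h0] at hαβ
    exact hαβ (by simp)
  have hk : ∀ φ : IrrCharacter G2, ∃ k : ℕ,
      classInner (fun g : S2 => (φ : G2 → ℂ) (Matrix.SpecialLinearGroup.toGL g)) χ = k := by
    intro φ
    exact IsCharacter.classInner_irr_nat
      (isCharacter_comp Matrix.SpecialLinearGroup.toGL (IsIrrCharacter.isCharacter φ.2)) ⟨χ, hχ⟩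
  choose k hk using hk
  have hkψ : k ψ ≠ 0 := by
    intro h0
    rw [hk ψ, h0] at hψ
    exact hψ (by simp)
  have hps : psS (α * β⁻¹) = ∑ φ : IrrCharacter G2, (n φ : ℂ) •
      (fun g : S2 => (φ : G2 → ℂ) (Matrix.SpecialLinearGroup.toGL g)) := by
    funext g
    rw [← psG_toGL, hn, Finset.sum_apply, Finset.sum_apply]
    rfl
  have h0 := hc (α * β⁻¹)
  rw [hps, classInner_sum_left] at h0
  simp only [classInner_smul_left, hk] at h0
  have h0' : ∑ φ : IrrCharacter G2, n φ * k φ = 0 := by exact_mod_cast h0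
  have := Finset.sum_eq_zero_iff.1 h0' ψ (Finset.mem_univ _)
  rcases Nat.mul_eq_zero.1 this with h | h
  · exact hnψ0 h
  · exact hkψ h

/-- A character containing an irreducible character of the same degree equals it. -/
theorem eq_of_constituent_of_degree_eq {G : Type*} [Group G] [Fintype G] {ψ χ : G → ℂ}
    (hψ : IsCharacter G ψ) (hχ : IsIrrCharacter G χ) (hne : classInner ψ χ ≠ 0)
    (hdeg : ψ 1 = χ 1) : ψ = χ := by
  classical
  have : Fintype (IrrCharacter G) := Fintype.ofFinite _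
  obtain ⟨n, hn⟩ := IsCharacter.exists_nat_coeff hψ
  have hcoef : classInner ψ χ = n ⟨χ, hχ⟩ := by
    rw [hn]; exact classInner_sum_irr _ ⟨χ, hχ⟩
  have hnχ : n ⟨χ, hχ⟩ ≠ 0 := by
    intro h0
    rw [hcoef, h0] at hne
    exact hne (by simp)
  -- degrees
  have hdegsum : ((∑ φ : IrrCharacter G, n φ * irrDeg φ : ℕ) : ℂ) = (irrDeg ⟨χ, hχ⟩ : ℂ) := by
    rw [← irrDeg_spec ⟨χ, hχ⟩]
    show _ = χ 1
    rw [← hdeg, hn, Finset.sum_apply]
    push_cast
    apply Finset.sum_congr rfl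
    intro φ _
    rw [Pi.smul_apply, smul_eq_mul, irrDeg_spec]
  have hdegsum' : ∑ φ : IrrCharacter G, n φ * irrDeg φ = irrDeg ⟨χ, hχ⟩ := by
    exact_mod_cast hdegsum
  rw [← Finset.add_sum_erase _ _ (Finset.mem_univ (⟨χ, hχ⟩ : IrrCharacter G))] at hdegsum'
  have hpos := irrDeg_pos (⟨χ, hχ⟩ : IrrCharacter G)
  have h1 : n ⟨χ, hχ⟩ = 1 := by
    have hle : n ⟨χ, hχ⟩ * irrDeg ⟨χ, hχ⟩ ≤ irrDeg ⟨χ, hχ⟩ := by omega
    have : n ⟨χ, hχ⟩ ≤ 1 := by
      by_contra hgt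
      push Not at hgt
      have : 2 * irrDeg ⟨χ, hχ⟩ ≤ n ⟨χ, hχ⟩ * irrDeg ⟨χ, hχ⟩ := Nat.mul_le_mul_right _ hgt
      omega
    omega
  have h2 : ∑ φ ∈ Finset.univ.erase (⟨χ, hχ⟩ : IrrCharacter G), n φ * irrDeg φ = 0 := by
    rw [h1] at hdegsum'; omega
  have h3 : ∀ φ : IrrCharacter G, φ ≠ ⟨χ, hχ⟩ → n φ = 0 := by
    intro φ hφ
    have := Finset.sum_eq_zero_iff.1 h2 φ (Finset.mem_erase.2 ⟨hφ, Finset.mem_univ _⟩)
    rcases Nat.mul_eq_zero.1 this with h | h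
    · exact h
    · exact absurd h (irrDeg_pos φ).ne'
  rw [hn, Finset.sum_eq_single (⟨χ, hχ⟩ : IrrCharacter G)]
  · rw [h1]; simp
  · intro φ _ hφ
    rw [h3 φ hφ]; simp
  · intro h; exact absurd (Finset.mem_univ _) h

/-- A cuspidal irreducible character of `SL₂(q)` of degree `q - 1` is the restriction of an
irreducible character of `GL₂(q)`. -/
theorem cuspS_full_eq [Fintype F] [DecidableEq F] (χ : S2 → ℂ) (hχ : IsIrrCharacter S2 χ)
    (hc : IsCuspS χ) (hdeg : χ 1 = (Fintype.card F : ℂ) - 1) :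
    ∃ ψ : IrrCharacter G2, χ = fun g : S2 => (ψ : G2 → ℂ) (Matrix.SpecialLinearGroup.toGL g) := by
  obtain ⟨ψ, hψc, hψ⟩ := exists_cuspG_over χ hχ hc
  refine ⟨ψ, ?_⟩
  have hres : IsCharacter S2 (fun g : S2 => (ψ : G2 → ℂ) (Matrix.SpecialLinearGroup.toGL g)) :=
    isCharacter_comp Matrix.SpecialLinearGroup.toGL (IsIrrCharacter.isCharacter ψ.2)
  refine (eq_of_constituent_of_degree_eq hres hχ hψ ?_).symm
  simp only [map_one]
  rw [(cusp_degree_eq _ ψ.2 hψc).1, hdeg]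

theorem toGL_borelMkSL_conj (e : Fˣ) (b : F) :
    Matrix.SpecialLinearGroup.toGL (borelMkSL (1 : Fˣ) ((e : F) * b)) =
      borelMkGL e 1 0 * Matrix.SpecialLinearGroup.toGL (borelMkSL (1 : Fˣ) b) *
        (borelMkGL e 1 0)⁻¹ := by
  rw [eq_mul_inv_iff_mul_eq]
  apply Units.ext
  rw [Units.val_mul, Units.val_mul, borelMkGL_coe]
  show (borelMkSL (1 : Fˣ) ((e : F) * b) : Matrix (Fin 2) (Fin 2) F) * _ =
    _ * (borelMkSL (1 : Fˣ) b : Matrix (Fin 2) (Fin 2) F)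
  rw [borelMkSL_coe, borelMkSL_coe]
  ext i j
  fin_cases i <;> fin_cases j <;> simp [Matrix.mul_apply, Fin.sum_univ_two]

/-- A restricted class function of `GL₂` takes the same value on all unipotent elements. -/
theorem restrict_unip_eq [Fintype F] (ψ : G2 → ℂ) (hψ : IsClassFunction G2 ψ) (e : Fˣ) (b : F) :
    ψ (Matrix.SpecialLinearGroup.toGL (borelMkSL (1 : Fˣ) ((e : F) * b))) =
      ψ (Matrix.SpecialLinearGroup.toGL (borelMkSL (1 : Fˣ) b)) := by
  rw [toGL_borelMkSL_conj, hψ]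

/-- The value `-1` at the transvection for cuspidal characters of degree `q - 1`, `q` odd. -/
theorem cuspS_full_unip [Fintype F] [DecidableEq F] {ε : F} (hε0 : ε ≠ 0) (χ : S2 → ℂ)
    (hχ : IsIrrCharacter S2 χ) (hc : IsCuspS χ) (hdeg : χ 1 = (Fintype.card F : ℂ) - 1)
    (hsum : χ (borelMkSL (1 : Fˣ) 1) + χ (borelMkSL (1 : Fˣ) ε) = -2) :
    χ (borelMkSL (1 : Fˣ) 1) = -1 ∧ χ (borelMkSL (1 : Fˣ) ε) = -1 := by
  obtain ⟨ψ, rfl⟩ := cuspS_full_eq χ hχ hc hdeg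
  have hcf : IsClassFunction G2 (ψ : G2 → ℂ) :=
    IsCharacter.isClassFunction (IsIrrCharacter.isCharacter ψ.2)
  have h1 := restrict_unip_eq (ψ : G2 → ℂ) hcf (Units.mk0 ε hε0) 1
  rw [Units.val_mk0, mul_one] at h1
  simp only [] at hsum
  rw [h1] at hsum
  constructor
  · show (ψ : G2 → ℂ) (Matrix.SpecialLinearGroup.toGL (borelMkSL (1 : Fˣ) 1)) = -1
    linear_combination hsum / 2
  · show (ψ : G2 → ℂ) (Matrix.SpecialLinearGroup.toGL (borelMkSL (1 : Fˣ) ε)) = -1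
    rw [h1]; linear_combination hsum / 2

end Cfsg.Agent.Helper12
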