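import Mathlib
import Cfsg.Agent.Helper12.SL2Inv
import Cfsg.Agent.Helper12.SL2Conj
import Cfsg.Agent.Helper12.SL2Nonsplit

set_option autoImplicit false

open scoped ComplexConjugate

namespace Cfsg.Agent.Helper12

open Cfsg Cfsg.Agent.Helper8 Cfsg.Agent.Helper24

variable {F : Type*} [Field F]

local notation "S2" => Matrix.SpecialLinearGroup (Fin 2) F
local notation "G2" => Matrix.GeneralLinearGroup (Fin 2) F

/-- Conjugating an element of `SL₂` by an element of `GL₂` stays in `SL₂`. -/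
theorem exists_sl2_conj (x : G2) (g : S2) :
    ∃ h : S2, Matrix.SpecialLinearGroup.toGL h = x * Matrix.SpecialLinearGroup.toGL g * x⁻¹ := by
  have hmem : x * Matrix.SpecialLinearGroup.toGL g * x⁻¹ ∈ Cfsg.Agent.S2307.detKer F := by
    have hn : (Cfsg.Agent.S2307.detKer F).Normal := MonoidHom.normal_ker _
    apply hn.conj_mem
    rw [MonoidHom.mem_ker]
    exact Matrix.SpecialLinearGroup.coeToGL_det g
  obtain ⟨h, hh⟩ := Cfsg.Agent.S2307.toKer_bijective.2 ⟨_, hmem⟩
  refine ⟨h, ?_⟩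
  have := congrArg (fun n : Cfsg.Agent.S2307.detKer F => (n : G2)) hh
  exact this

theorem coe_of_toGL_conj {x : G2} {g h : S2}
    (hh : Matrix.SpecialLinearGroup.toGL h = x * Matrix.SpecialLinearGroup.toGL g * x⁻¹) :
    (h : Matrix (Fin 2) (Fin 2) F) =
      (x : Matrix (Fin 2) (Fin 2) F) * (g : Matrix (Fin 2) (Fin 2) F) *
        ((x⁻¹ : G2) : Matrix (Fin 2) (Fin 2) F) := by
  have := congrArg (fun y : G2 => (y : Matrix (Fin 2) (Fin 2) F)) hh
  simpa using this

/-- A `GL₂`-conjugate of an element of `SL₂` without eigenvectors is an `SL₂`-conjugate. -/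
theorem isConj_of_gl2_conj_no_eigen [Fintype F] {x : G2} {g h : S2}
    (hh : Matrix.SpecialLinearGroup.toGL h = x * Matrix.SpecialLinearGroup.toGL g * x⁻¹)
    (hne : ∀ (c : F) (v : Fin 2 → F), v ≠ 0 → (g : Matrix (Fin 2) (Fin 2) F).mulVec v ≠ c • v) :
    IsConj g h := by
  have hcoe := coe_of_toGL_conj hh
  have hg10 : (g : Matrix (Fin 2) (Fin 2) F) 1 0 ≠ 0 :=
    ne_zero_of_no_eigen (Matrix.SpecialLinearGroup.toGL g) hne
  have hg : ¬ IsScalar2 (g : Matrix (Fin 2) (Fin 2) F) := fun h => hg10 h.2.1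
  have hhs : ¬ IsScalar2 (h : Matrix (Fin 2) (Fin 2) F) := by
    intro hs
    obtain ⟨a, ha⟩ := (isScalar2_iff _).1 hs
    apply hg
    rw [isScalar2_iff]
    refine ⟨a, ?_⟩
    have h1 : (g : Matrix (Fin 2) (Fin 2) F) =
        ((x⁻¹ : G2) : Matrix (Fin 2) (Fin 2) F) * (h : Matrix (Fin 2) (Fin 2) F) *
          (x : Matrix (Fin 2) (Fin 2) F) := by
      rw [hcoe]
      simp only [Matrix.mul_assoc]
      rw [← Units.val_mul, inv_mul_cancel, Units.val_one, Matrix.mul_one, ← Matrix.mul_assoc,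
        ← Units.val_mul, inv_mul_cancel, Units.val_one, Matrix.one_mul]
    rw [h1, ha]
    simp only [Matrix.mul_smul, Matrix.smul_mul, Matrix.mul_one]
    rw [← Units.val_mul, inv_mul_cancel, Units.val_one]
  have ht : (g : Matrix (Fin 2) (Fin 2) F).trace = (h : Matrix (Fin 2) (Fin 2) F).trace := by
    rw [hcoe]
    exact (Matrix.trace_units_conj x _).symm
  have hu : ringChar F = 2 ∨ (g : Matrix (Fin 2) (Fin 2) F).trace ^ 2 ≠ 4 := by
    by_cases h2 : ringChar F = 2
    · left; exact h2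
    · right
      intro h4
      have h2' : (2 : F) ≠ 0 := by
        intro h0
        apply h2
        have : CharP F 2 := by
          apply CharTwo.of_one_ne_zero_of_two_eq_zero one_ne_zero h0
        exact ringChar.eq F 2
      have hdet : (g : Matrix (Fin 2) (Fin 2) F).det = 1 := g.2
      obtain ⟨v, hv, hv2⟩ := exists_eigenvector_of_root (g : Matrix (Fin 2) (Fin 2) F)
        ((g : Matrix (Fin 2) (Fin 2) F).trace / 2) (by
          rw [hdet]
          field_simp
          linear_combination -h4)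
      exact hne _ v hv hv2
  exact sl2_isConj_of_trace_eq g h hg hhs ht hu

/-- The two constituents of the principal series of the quadratic character vanish on elements
without eigenvectors. -/
theorem xi_no_eigen [Fintype F] [DecidableEq F] (hodd : Odd (Fintype.card F)) (g : S2)
    (hne : ∀ (c : F) (v : Fin 2 → F), v ≠ 0 → (g : Matrix (Fin 2) (Fin 2) F).mulVec v ≠ c • v) :
    ((pairS (sgnC (F := F)) sgnC_sq).1 : S2 → ℂ) g = 0 ∧
    ((pairS (sgnC (F := F)) sgnC_sq).2 : S2 → ℂ) g = 0 := by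
  obtain ⟨_, _, x, hx⟩ := pairS_sgn_spec hodd (F := F)
  obtain ⟨h, hh⟩ := exists_sl2_conj x g
  have hconj := isConj_of_gl2_conj_no_eigen hh hne
  have h2 := hx g h hh
  have hcf : IsClassFunction S2 ((pairS (sgnC (F := F)) sgnC_sq).2 : S2 → ℂ) :=
    IsCharacter.isClassFunction (IsIrrCharacter.isCharacter (pairS (sgnC (F := F)) sgnC_sq).2.2)
  obtain ⟨c, hc⟩ := isConj_iff.1 hconj
  rw [← hc, hcf] at h2
  have hsum := congrFun (psS_eq_pair (sgnC (F := F)) sgnC_sq) g
  rw [psS_no_eigen _ g hne] at hsum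
  simp only [Pi.add_apply] at hsum
  rw [h2] at hsum
  have h1 : ((pairS (sgnC (F := F)) sgnC_sq).1 : S2 → ℂ) g = 0 := by
    have : (2 : ℂ) * ((pairS (sgnC (F := F)) sgnC_sq).1 : S2 → ℂ) g = 0 := by
      linear_combination -hsum
    rcases mul_eq_zero.1 this with h | h
    · norm_num at h
    · exact h
  exact ⟨h1, by rw [h2, h1]⟩

end Cfsg.Agent.Helper12
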