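import Mathlib
import Cfsg.Agent.Helper12.SL2Xi

set_option autoImplicit false

open scoped ComplexConjugate

namespace Cfsg.Agent.Helper12

open Cfsg Cfsg.Agent.Helper8 Cfsg.Agent.Helper24

variable {F : Type*} [Field F]

local notation "S2" => Matrix.SpecialLinearGroup (Fin 2) F
local notation "G2" => Matrix.GeneralLinearGroup (Fin 2) F

/-- Conjugation by an element of `GL₂` as an automorphism of `SL₂`. -/
noncomputable def conjS (x : G2) : S2 ≃* S2 :=
  ((Cfsg.Agent.S2307.kerEquiv (F := F)).trans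
    (MulAut.conjNormal x : Cfsg.Agent.S2307.detKer F ≃* Cfsg.Agent.S2307.detKer F)).trans
    (Cfsg.Agent.S2307.kerEquiv (F := F)).symm

theorem toGL_kerEquiv_symm (n : Cfsg.Agent.S2307.detKer F) :
    Matrix.SpecialLinearGroup.toGL ((Cfsg.Agent.S2307.kerEquiv (F := F)).symm n) = (n : G2) := by
  have := Cfsg.Agent.S2307.kerEquiv_coe ((Cfsg.Agent.S2307.kerEquiv (F := F)).symm n)
  rw [MulEquiv.apply_symm_apply] at this
  exact this.symm

theorem toGL_conjS (x : G2) (g : S2) :
    Matrix.SpecialLinearGroup.toGL (conjS x g) = x * Matrix.SpecialLinearGroup.toGL g * x⁻¹ := by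
  unfold conjS
  simp only [MulEquiv.trans_apply]
  rw [toGL_kerEquiv_symm, MulAut.conjNormal_apply, Cfsg.Agent.S2307.kerEquiv_coe]

theorem restrict_conjS_eq (Ψ : G2 → ℂ) (hΨ : IsClassFunction G2 Ψ) (x : G2) (g : S2) :
    Ψ (Matrix.SpecialLinearGroup.toGL (conjS x g)) = Ψ (Matrix.SpecialLinearGroup.toGL g) := by
  rw [toGL_conjS, hΨ]

theorem psS_conjS [Fintype F] [DecidableEq F] (α : MulChar F ℂ) (x : G2) (g : S2) :
    psS α (conjS x g) = psS α g := by
  have h1 : ∀ g : S2, psS α g = psG α 1 (Matrix.SpecialLinearGroup.toGL g) := by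
    intro g
    rw [psG_toGL]
    simp
  rw [h1, h1]
  exact restrict_conjS_eq _ (indFun_isClassFunction _ _) x g

theorem classInner_comp_conjS [Fintype F] [DecidableEq F] (φ ψ : S2 → ℂ) (x : G2) :
    classInner (fun g => φ (conjS x g)) (fun g => ψ (conjS x g)) = classInner φ ψ := by
  unfold Cfsg.classInner
  congr 1
  exact Equiv.sum_comp (conjS x).toEquiv (fun g => φ g * conj (ψ g))

theorem isIrr_comp_conjS {χ : S2 → ℂ} (hχ : IsIrrCharacter S2 χ) (x : G2) :
    IsIrrCharacter S2 (fun g => χ (conjS x g)) :=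
  isIrrCharacter_comp_surjective (conjS x).toMonoidHom (conjS x).surjective hχ

theorem classInner_psS_comp_conjS [Fintype F] [DecidableEq F] (α : MulChar F ℂ) (χ : S2 → ℂ)
    (x : G2) : classInner (psS α) (fun g => χ (conjS x g)) = classInner (psS α) χ := by
  rw [← classInner_comp_conjS (psS α) χ x]
  congr 1
  funext g
  exact (psS_conjS α x g).symm

theorem isCuspS_comp_conjS [Fintype F] [DecidableEq F] {χ : S2 → ℂ} (hc : IsCuspS χ) (x : G2) :
    IsCuspS (fun g => χ (conjS x g)) := by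
  intro α
  rw [classInner_psS_comp_conjS]
  exact hc α

theorem conjS_borelMkSL (e a : Fˣ) (b : F) :
    conjS (borelMkGL e 1 0) (borelMkSL a b) = borelMkSL a ((e : F) * b) := by
  apply Matrix.SpecialLinearGroup.toGL_injective
  rw [toGL_conjS, eq_comm, eq_mul_inv_iff_mul_eq]
  apply Units.ext
  rw [Units.val_mul, Units.val_mul, borelMkGL_coe]
  show (borelMkSL a ((e : F) * b) : Matrix (Fin 2) (Fin 2) F) * _ =
    _ * (borelMkSL a b : Matrix (Fin 2) (Fin 2) F)
  rw [borelMkSL_coe, borelMkSL_coe]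
  ext i j
  fin_cases i <;> fin_cases j <;> simp [Matrix.mul_apply, Fin.sum_univ_two]
  ring

theorem conjS_one_apply (x : G2) : conjS x (1 : S2) = 1 := map_one _

end Cfsg.Agent.Helper12
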