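import Mathlib
import Cfsg.Agent.Helper12.SL2Tau
import Cfsg.Agent.Helper12.CentralScalar
import Cfsg.Agent.S2438

set_option autoImplicit false

open scoped ComplexConjugate

namespace Cfsg.Agent.Helper12

open Cfsg Cfsg.Agent.Helper8 Cfsg.Agent.Helper24

variable {F : Type*} [Field F]

local notation "S2" => Matrix.SpecialLinearGroup (Fin 2) F
local notation "G2" => Matrix.GeneralLinearGroup (Fin 2) F

/-- The central element `-1` of `SL₂`. -/
def zcS : S2 := borelMkSL (-1 : Fˣ) 0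

theorem zcS_coe : (zcS (F := F) : Matrix (Fin 2) (Fin 2) F) = !![-1, 0; 0, -1] := by
  rw [zcS, borelMkSL_coe]
  simp

theorem zcS_central (g : S2) : zcS * g = g * zcS := by
  apply Subtype.ext
  rw [Matrix.SpecialLinearGroup.coe_mul, Matrix.SpecialLinearGroup.coe_mul, zcS_coe]
  ext i j
  fin_cases i <;> fin_cases j <;> simp [Matrix.mul_apply, Fin.sum_univ_two]

theorem zcS_mul_unip (b : F) : zcS * borelMkSL (1 : Fˣ) b = borelMkSL (-1 : Fˣ) (-b) := by
  apply Subtype.ext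
  rw [Matrix.SpecialLinearGroup.coe_mul, zcS_coe, borelMkSL_coe, borelMkSL_coe]
  ext i j
  fin_cases i <;> fin_cases j <;> simp [Matrix.mul_apply, Fin.sum_univ_two]

theorem zcS_mul_self : zcS (F := F) * zcS = 1 := by
  apply Subtype.ext
  rw [Matrix.SpecialLinearGroup.coe_mul, zcS_coe]
  ext i j
  fin_cases i <;> fin_cases j <;> simp [Matrix.mul_apply, Fin.sum_univ_two]

theorem conjS_zcS (e : Fˣ) : conjS (borelMkGL e 1 0) (zcS (F := F)) = zcS := by
  rw [zcS, conjS_borelMkSL, mul_zero]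

/-- Twice an algebraic integer is not an odd integer. -/
theorem not_two_mul_eq_odd {x : ℂ} (hx : IsIntegral ℤ x) {k : ℤ} (hk : Odd k)
    (h : 2 * x = (k : ℂ)) : False := by
  have hval : x = (((k : ℚ) / 2 : ℚ) : ℂ) := by
    push_cast
    linear_combination h / 2
  rw [hval] at hx
  obtain ⟨m, hm⟩ := exists_int_of_isIntegral_ratCast hx
  have : (k : ℚ) = 2 * m := by linarith
  have h2 : k = 2 * m := by exact_mod_cast this
  obtain ⟨j, hj⟩ := hk
  omega

/-- The values at the two unipotent classes of a constituent of the principal series of the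
quadratic character add up to one. -/
theorem xi_unip_sum [Fintype F] [DecidableEq F] (hodd : Odd (Fintype.card F)) {ε : F}
    (hε : ¬ IsSquare ε) (i : Bool) :
    ((if i then (pairS (sgnC (F := F)) sgnC_sq).1 else (pairS (sgnC (F := F)) sgnC_sq).2 :
      IrrCharacter S2) : S2 → ℂ) (borelMkSL (1 : Fˣ) 1) +
    ((if i then (pairS (sgnC (F := F)) sgnC_sq).1 else (pairS (sgnC (F := F)) sgnC_sq).2 :
      IrrCharacter S2) : S2 → ℂ) (borelMkSL (1 : Fˣ) ε) = 1 := by
  classical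
  have : Fintype (MulChar F ℂ) := Fintype.ofFinite _
  have hF := ringChar_ne_two_of_odd hodd
  set ξ : IrrCharacter S2 :=
    (if i then (pairS (sgnC (F := F)) sgnC_sq).1 else (pairS (sgnC (F := F)) sgnC_sq).2) with hξ
  have hcf := IsCharacter.isClassFunction (IsIrrCharacter.isCharacter ξ.2)
  have hmult : ∑ α : MulChar F ℂ, classInner (psS α) (ξ : S2 → ℂ) = ((1 : ℕ) : ℂ) := by
    have h1 : ∀ α : MulChar F ℂ, classInner (psS α) (ξ : S2 → ℂ) =
        if α = sgnC then 1 else 0 := by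
      intro α
      rw [hξ]
      cases i
      · exact (classInner_psS_pair α sgnC sgnC_sq).2
      · exact (classInner_psS_pair α sgnC sgnC_sq).1
    simp only [h1, Finset.sum_ite_eq', Finset.mem_univ, if_true]
    norm_num
  have hsum := Cfsg.Agent.S2438.sum_unip_of_mult _ hcf 1 hmult
  have h2 := sum_unip_odd hF hε _ hcf
  rw [hsum] at h2
  have hdeg : (ξ : S2 → ℂ) 1 = (((Fintype.card F + 1) / 2 : ℕ) : ℂ) := by
    rw [hξ]
    cases i
    · exact (pairS_sgn_spec hodd).2.1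
    · exact (pairS_sgn_spec hodd).1
  rw [hdeg] at h2
  have hh := (half_cast_odd hodd).1
  have hq1 := card_sub_one_ne_zero (F := F)
  have h3 : ((Fintype.card F : ℂ) - 1) * ((ξ : S2 → ℂ) (borelMkSL (1 : Fˣ) 1) +
      (ξ : S2 → ℂ) (borelMkSL (1 : Fˣ) ε)) = ((Fintype.card F : ℂ) - 1) * 1 := by
    push_cast at h2
    linear_combination -h2 - hh
  exact mul_left_cancel₀ hq1 h3

/-- The outer automorphism of `SL₂` given by conjugation with `diag(ε, 1)`. -/
noncomputable def tauS {ε : F} (hε0 : ε ≠ 0) : S2 ≃* S2 :=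
  conjS (borelMkGL (Units.mk0 ε hε0) 1 0)

theorem tauS_unip {ε : F} (hε0 : ε ≠ 0) (a : Fˣ) (b : F) :
    tauS hε0 (borelMkSL a b) = borelMkSL a (ε * b) := by
  unfold tauS
  rw [conjS_borelMkSL, Units.val_mk0]

theorem twist_u1 {ε : F} (hε0 : ε ≠ 0) (ψ : S2 → ℂ) :
    ψ (tauS hε0 (borelMkSL (1 : Fˣ) 1)) = ψ (borelMkSL (1 : Fˣ) ε) := by
  rw [tauS_unip, mul_one]

theorem twist_ue {ε : F} (hε0 : ε ≠ 0) (ψ : S2 → ℂ) (hψ : IsClassFunction S2 ψ) :
    ψ (tauS hε0 (borelMkSL (1 : Fˣ) ε)) = ψ (borelMkSL (1 : Fˣ) 1) := by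
  rw [tauS_unip]
  have hconj := isConj_unipS (1 : F) (Units.mk0 ε hε0)
  rw [Units.val_mk0, one_mul, pow_two] at hconj
  obtain ⟨c, hc⟩ := isConj_iff.1 hconj
  rw [← hc, hψ]

theorem twist_zc {ε : F} (hε0 : ε ≠ 0) (ψ : S2 → ℂ) (g : S2) :
    ψ (tauS hε0 (zcS * g)) = ψ (zcS * tauS hε0 g) := by
  rw [map_mul]
  congr 2
  exact conjS_zcS _

/-- The automorphism swaps the two constituents of the principal series of the quadratic
character. -/
theorem xi_twist [Fintype F] [DecidableEq F] (hodd : Odd (Fintype.card F)) {ε : F}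
    (hε : ¬ IsSquare ε) (hε0 : ε ≠ 0) :
    (fun g => ((pairS (sgnC (F := F)) sgnC_sq).1 : S2 → ℂ) (tauS hε0 g)) =
      ((pairS (sgnC (F := F)) sgnC_sq).2 : S2 → ℂ) ∧
    (fun g => ((pairS (sgnC (F := F)) sgnC_sq).2 : S2 → ℂ) (tauS hε0 g)) =
      ((pairS (sgnC (F := F)) sgnC_sq).1 : S2 → ℂ) := by
  classical
  set p := pairS (sgnC (F := F)) sgnC_sq with hp
  have key : ∀ ξ : IrrCharacter S2, classInner (psS (sgnC (F := F))) (ξ : S2 → ℂ) = 1 →
      (ξ : S2 → ℂ) (borelMkSL (1 : Fˣ) 1) + (ξ : S2 → ℂ) (borelMkSL (1 : Fˣ) ε) = 1 →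
      ((fun g => (ξ : S2 → ℂ) (tauS hε0 g)) = (p.1 : S2 → ℂ) ∨
        (fun g => (ξ : S2 → ℂ) (tauS hε0 g)) = (p.2 : S2 → ℂ)) ∧
      (fun g => (ξ : S2 → ℂ) (tauS hε0 g)) ≠ (ξ : S2 → ℂ) := by
    intro ξ hξ hsum
    have hirr : IsIrrCharacter S2 (fun g => (ξ : S2 → ℂ) (tauS hε0 g)) := isIrr_comp_conjS ξ.2 _
    have hne0 : classInner (psS (sgnC (F := F))) (fun g => (ξ : S2 → ℂ) (tauS hε0 g)) ≠ 0 := by
      unfold tauS
      rw [classInner_psS_comp_conjS, hξ]
      exact one_ne_zero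
    refine ⟨?_, ?_⟩
    · rcases irr_of_classInner_psS_ne_zero _ hirr _ hne0 with ⟨h, _⟩ | ⟨_, h⟩
      · exact absurd sgnC_sq h
      · exact h
    · intro heq
      have h1 : (ξ : S2 → ℂ) (tauS hε0 (borelMkSL (1 : Fˣ) 1)) =
          (ξ : S2 → ℂ) (borelMkSL (1 : Fˣ) 1) := congrFun heq (borelMkSL (1 : Fˣ) 1)
      rw [twist_u1 hε0 (ξ : S2 → ℂ)] at h1
      rw [h1] at hsum
      exact not_two_mul_eq_odd (irr_isIntegral ξ.2 (borelMkSL (1 : Fˣ) 1)) (k := 1) (by decide)
        (by push_cast; linear_combination hsum)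
  have hp12 : (p.1 : S2 → ℂ) ≠ (p.2 : S2 → ℂ) := fun h => pairS_ne _ _ (Subtype.ext h)
  obtain ⟨h1a, h1b⟩ := key p.1 (by rw [(classInner_psS_pair _ sgnC sgnC_sq).1, if_pos rfl])
    (xi_unip_sum hodd hε true)
  obtain ⟨h2a, h2b⟩ := key p.2 (by rw [(classInner_psS_pair _ sgnC sgnC_sq).2, if_pos rfl])
    (xi_unip_sum hodd hε false)
  constructor
  · rcases h1a with h | h
    · exact absurd h h1b
    · exact h
  · rcases h2a with h | h
    · exact h
    · exact absurd h h2b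

/-- The cuspidal irreducible characters of degree `(q - 1) / 2`. -/
noncomputable def halfCusp [Fintype F] [DecidableEq F] [Fintype (IrrCharacter S2)] :
    Finset (IrrCharacter S2) := by
  classical
  exact Finset.univ.filter (fun ψ : IrrCharacter S2 => IsCuspS (ψ : S2 → ℂ) ∧
    ¬ ((ψ : S2 → ℂ) 1 = (Fintype.card F : ℂ) - 1))

theorem mem_halfCusp [Fintype F] [DecidableEq F] [Fintype (IrrCharacter S2)]
    (ψ : IrrCharacter S2) : ψ ∈ halfCusp (F := F) ↔ IsCuspS (ψ : S2 → ℂ) ∧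
      ¬ ((ψ : S2 → ℂ) 1 = (Fintype.card F : ℂ) - 1) := by
  classical
  unfold halfCusp
  simp

theorem card_halfCusp [Fintype F] [DecidableEq F] (hodd : Odd (Fintype.card F))
    [Fintype (IrrCharacter S2)] : (halfCusp (F := F)).card = 2 := by
  classical
  obtain ⟨_, hB⟩ := cusp_counts_odd hodd (F := F)
  have h1 : ((halfCusp (F := F)).card : ℂ) = 2 := by
    rw [← hB]
    unfold halfCusp
    rw [Finset.card_filter]
    push_cast
    apply Finset.sum_congr rfl
    intro ψ _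
    by_cases hc : IsCuspS (ψ : S2 → ℂ)
    · by_cases hd : (ψ : S2 → ℂ) 1 = (Fintype.card F : ℂ) - 1
      · simp [hc, hd]
      · simp [hc, hd]
    · simp [hc]
  exact_mod_cast h1

/-- Elements of `halfCusp` have values at the two unipotent classes adding up to `-1`. -/
theorem halfCusp_spec [Fintype F] [DecidableEq F] (hodd : Odd (Fintype.card F)) {ε : F}
    (hε : ¬ IsSquare ε) [Fintype (IrrCharacter S2)] {η : IrrCharacter S2}
    (hη : η ∈ halfCusp (F := F)) :
    2 * (η : S2 → ℂ) 1 = (Fintype.card F : ℂ) - 1 ∧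
    (η : S2 → ℂ) (borelMkSL (1 : Fˣ) 1) + (η : S2 → ℂ) (borelMkSL (1 : Fˣ) ε) = -1 := by
  obtain ⟨hc, hd⟩ := (mem_halfCusp η).1 hη
  rcases cuspS_dichotomy_odd hodd hε _ η.2 hc with ⟨h, _⟩ | h
  · exact absurd h hd
  · exact h

/-- The twist of an element of `halfCusp` is a different element of `halfCusp`. -/
theorem halfCusp_twist [Fintype F] [DecidableEq F] (hodd : Odd (Fintype.card F)) {ε : F}
    (hε : ¬ IsSquare ε) (hε0 : ε ≠ 0) [Fintype (IrrCharacter S2)] {η : IrrCharacter S2}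
    (hη : η ∈ halfCusp (F := F)) :
    ∃ η' : IrrCharacter S2, η' ∈ halfCusp (F := F) ∧ η' ≠ η ∧
      (η' : S2 → ℂ) = fun g => (η : S2 → ℂ) (tauS hε0 g) := by
  obtain ⟨hc, hd⟩ := (mem_halfCusp η).1 hη
  obtain ⟨_, hsum⟩ := halfCusp_spec hodd hε hη
  refine ⟨⟨fun g => (η : S2 → ℂ) (tauS hε0 g), isIrr_comp_conjS η.2 _⟩, ?_, ?_, rfl⟩
  · rw [mem_halfCusp]
    refine ⟨isCuspS_comp_conjS hc _, ?_⟩
    show ¬ ((η : S2 → ℂ) (tauS hε0 1) = _)
    rw [map_one]
    exact hd
  · intro heq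
    have h1 : (η : S2 → ℂ) (tauS hε0 (borelMkSL (1 : Fˣ) 1)) =
        (η : S2 → ℂ) (borelMkSL (1 : Fˣ) 1) :=
      congrFun (congrArg Subtype.val heq) (borelMkSL (1 : Fˣ) 1)
    rw [twist_u1 hε0 (η : S2 → ℂ)] at h1
    rw [h1] at hsum
    exact not_two_mul_eq_odd (irr_isIntegral η.2 (borelMkSL (1 : Fˣ) 1)) (k := -1) (by decide)
      (by push_cast; linear_combination hsum)

/-- `halfCusp` consists of a character and its twist. -/
theorem halfCusp_eq_pair [Fintype F] [DecidableEq F] (hodd : Odd (Fintype.card F))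
    [Fintype (IrrCharacter S2)] [DecidableEq (IrrCharacter S2)]
    {η η' : IrrCharacter S2}
    (hη : η ∈ halfCusp (F := F)) (hη' : η' ∈ halfCusp (F := F)) (hne : η' ≠ η) :
    halfCusp (F := F) = {η, η'} := by
  symm
  apply Finset.eq_of_subset_of_card_le
  · intro x hx
    rcases Finset.mem_insert.1 hx with rfl | hx
    · exact hη
    · rw [Finset.mem_singleton] at hx
      rw [hx]; exact hη'
  · rw [card_halfCusp hodd, Finset.card_pair (Ne.symm hne)]

/-- Sums over the irreducible characters of functions vanishing on characters which do not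
distinguish the two unipotent classes. -/
theorem sum_offdiag [Fintype F] [DecidableEq F] (hodd : Odd (Fintype.card F)) {ε : F}
    (hε : ¬ IsSquare ε) (hε0 : ε ≠ 0) [Fintype (IrrCharacter S2)]
    (f : (S2 → ℂ) → ℂ)
    (hf : ∀ ψ : S2 → ℂ, ψ (borelMkSL (1 : Fˣ) 1) = ψ (borelMkSL (1 : Fˣ) ε) → f ψ = 0)
    {η : IrrCharacter S2} (hη : η ∈ halfCusp (F := F)) :
    ∑ χ : IrrCharacter S2, f (χ : S2 → ℂ) =
      f ((pairS (sgnC (F := F)) sgnC_sq).1 : S2 → ℂ) +
      f ((pairS (sgnC (F := F)) sgnC_sq).2 : S2 → ℂ) +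
      f (η : S2 → ℂ) + f (fun g => (η : S2 → ℂ) (tauS hε0 g)) := by
  classical
  have : Fintype (MulChar F ℂ) := Fintype.ofFinite _
  have hmaster := irr_sum_decompS (F := F) f
  have hps1 : ∀ α : MulChar F ℂ, ∀ b : F, b ≠ 0 → psS α (borelMkSL (1 : Fˣ) b) = 1 := by
    intro α b hb
    rw [psS_unip α (by simp) hb]
    simp
  have hps : ∑ α : MulChar F ℂ, (if h : α ^ 2 = 1 then
        2 * (f ((pairS α h).1 : S2 → ℂ) + f ((pairS α h).2 : S2 → ℂ)) else f (psS α)) =
      2 * (f ((pairS (sgnC (F := F)) sgnC_sq).1 : S2 → ℂ) +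
        f ((pairS (sgnC (F := F)) sgnC_sq).2 : S2 → ℂ)) := by
    rw [Finset.sum_eq_single (sgnC (F := F))]
    · rw [dif_pos sgnC_sq]
    · intro α _ hα
      by_cases h2 : α ^ 2 = 1
      · rw [dif_pos h2]
        rcases mulChar_sq_eq_one_odd α h2 with h | h
        · subst h
          rw [pairS_one_sum f]
          have h1 : f (trivS (F := F)) = 0 := hf _ rfl
          have h2 : f (stS (F := F) : S2 → ℂ) = 0 := by
            apply hf
            rw [stS_apply, stS_apply, hps1 _ _ one_ne_zero, hps1 _ _ hε0]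
          rw [h1, h2]; ring
        · exact absurd h hα
      · rw [dif_neg h2]
        apply hf
        rw [hps1 _ _ one_ne_zero, hps1 _ _ hε0]
    · intro h; exact absurd (Finset.mem_univ _) h
  have hcusp : ∑ χ : IrrCharacter S2, (if IsCuspS (χ : S2 → ℂ) then f (χ : S2 → ℂ) else 0) =
      ∑ χ ∈ halfCusp (F := F), f (χ : S2 → ℂ) := by
    unfold halfCusp
    rw [Finset.sum_filter]
    apply Finset.sum_congr rfl
    intro χ _
    by_cases hc : IsCuspS (χ : S2 → ℂ)
    · by_cases hd : (χ : S2 → ℂ) 1 = (Fintype.card F : ℂ) - 1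
      · rw [if_pos hc, if_neg (fun h => h.2 hd)]
        apply hf
        rcases cuspS_dichotomy_odd hodd hε _ χ.2 hc with ⟨_, hs⟩ | ⟨h, _⟩
        · obtain ⟨h1, h2⟩ := cuspS_full_unip hε0 _ χ.2 hc hd hs
          rw [h1, h2]
        · exfalso
          rw [hd] at h
          exact card_sub_one_ne_zero (F := F) (by linear_combination h)
      · rw [if_pos hc, if_pos ⟨hc, hd⟩]
    · rw [if_neg hc, if_neg (fun h => hc h.1)]
  obtain ⟨η', hη', hne, hη'eq⟩ := halfCusp_twist hodd hε hε0 hη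
  rw [hps, hcusp, halfCusp_eq_pair hodd hη hη' hne, Finset.sum_pair (Ne.symm hne), hη'eq]
    at hmaster
  linear_combination hmaster / 2

end Cfsg.Agent.Helper12
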