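import Mathlib
import Cfsg.Agent.Helper12.SL2CuspThree
import Cfsg.Agent.Helper12.NormTwoChar
import Cfsg.Agent.Helper12.SL2Half
import Cfsg.Agent.Helper12.SL2Xi

set_option autoImplicit false

open scoped ComplexConjugate

namespace Cfsg.Agent.Helper12

open Cfsg Cfsg.Agent.Helper8 Cfsg.Agent.Helper24

variable {F : Type*} [Field F]

local notation "S2" => Matrix.SpecialLinearGroup (Fin 2) F
local notation "M2" => Matrix (Fin 2) (Fin 2) F

namespace IsNonsplitGen

/-- The quadratic character of the non-split torus. -/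
theorem exists_quadT [Fintype F] {A : M2} {ε : F} (h : IsNonsplitGen A ε)
    (hcyc : IsCyclic (torusA A)) (m : ℕ) (hm : 2 * m = Fintype.card F + 1) :
    ∃ θ₀ : torusA A →* ℂˣ, θ₀ = θ₀⁻¹ ∧ θ₀ ≠ 1 ∧
      (∀ c : torusA A, c ^ m = 1 → θ₀ c = 1) ∧ (∀ c : torusA A, c ^ m ≠ 1 → θ₀ c = -1) := by
  classical
  have hcomm : ∀ a b : torusA A, a * b = b * a :=
    fun a b => Subtype.ext (h.gen.torus_comm a.2 b.2)
  have hne : negOneT A ∉ (⊥ : Subgroup (torusA A)) := by
    rw [Subgroup.mem_bot]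
    exact fun h' => negOneT_ne_one h.gen.two_ne A h'.symm
  obtain ⟨φ, -, hφ⟩ := exists_hom_units_of_not_mem hcomm ⊥ hne
  have hφ2 : φ (negOneT A) * φ (negOneT A) = 1 := by
    rw [← map_mul]
    have : negOneT A * negOneT A = 1 := Subtype.ext sl2_neg_one_mul_self
    rw [this, map_one]
  have hφ' : φ (negOneT A) = -1 := by
    have h1 : ((φ (negOneT A) : ℂˣ) : ℂ) * ((φ (negOneT A) : ℂˣ) : ℂ) = 1 := by
      rw [← Units.val_mul, hφ2, Units.val_one]
    have h2 : (((φ (negOneT A) : ℂˣ) : ℂ) - 1) * (((φ (negOneT A) : ℂˣ) : ℂ) + 1) = 0 := by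
      linear_combination h1
    rcases mul_eq_zero.1 h2 with h3 | h3
    · exfalso
      apply hφ
      apply Units.ext
      rw [Units.val_one]
      linear_combination h3
    · apply Units.ext
      rw [Units.val_neg, Units.val_one]
      linear_combination h3
  have hpow : ∀ c : torusA A, c ^ m = 1 ∨ c ^ m = negOneT A := by
    intro c
    have h1 : (c ^ m) * (c ^ m) = 1 := by
      rw [← pow_add, ← two_mul, hm, ← h.card]
      exact pow_card_eq_one'
    have h2 : ((c ^ m : torusA A) : S2) * ((c ^ m : torusA A) : S2) = 1 := by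
      have := congrArg (fun z : torusA A => (z : S2)) h1
      simpa using this
    rcases sl2_eq_of_sq_eq_one h.gen.two_ne _ h2 with h3 | h3
    · left; exact Subtype.ext h3
    · right; exact Subtype.ext h3
  have hval1 : ∀ c : torusA A, c ^ m = 1 → (φ ^ m) c = 1 := by
    intro c hc
    rw [MonoidHom.pow_apply, ← map_pow, hc, map_one]
  have hval2 : ∀ c : torusA A, c ^ m ≠ 1 → (φ ^ m) c = -1 := by
    intro c hc
    rw [MonoidHom.pow_apply, ← map_pow, (hpow c).resolve_left hc, hφ']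
  refine ⟨φ ^ m, ?_, ?_, hval1, hval2⟩
  · ext c
    rw [MonoidHom.inv_apply]
    congr 1
    apply eq_inv_of_mul_eq_one_left
    by_cases hc : c ^ m = 1
    · rw [hval1 c hc, one_mul]
    · rw [hval2 c hc]; simp
  · intro h1
    obtain ⟨c₀, hc₀⟩ := hcyc.exists_generator
    have hord : orderOf c₀ = Fintype.card F + 1 := by
      rw [orderOf_eq_card_of_forall_mem_zpowers hc₀, h.card]
    have hc : c₀ ^ m ≠ 1 := by
      apply pow_ne_one_of_lt_orderOf
      · intro h0
        rw [h0] at hm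
        omega
      · rw [hord]; omega
    have := hval2 c₀ hc
    rw [h1, MonoidHom.one_apply] at this
    have h3 := congrArg (fun u : ℂˣ => (u : ℂ)) this
    simp only [Units.val_one, Units.val_neg] at h3
    norm_num at h3

/-- The cuspidal generalized characters attached to non-trivial characters are orthogonal
to the trivial character. -/
theorem classInner_cuspFun_trivS [Fintype F] [DecidableEq F] {A : M2} {ε : F}
    (h : IsNonsplitGen A ε) (θ : torusA A →* ℂˣ) (hθ : θ ≠ 1) (α : MulChar F ℂ) :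
    classInner (cuspFun A θ α) (trivS (F := F)) = 0 := by
  classical
  have : Fintype (torusA A) := Fintype.ofFinite _
  have hcf : IsClassFunction S2 (trivS (F := F)) := fun _ _ => rfl
  unfold cuspFun
  rw [Helper8.classInner_sub_left, classInner_stPs h.gen.two_ne α trivS hcf 1 1
    (fun _ _ => rfl) (fun _ _ => rfl)]
  have e1 : classInner (indT A θ) (trivS (F := F)) = 0 := by
    unfold indT
    rw [frobenius_reciprocity _ _ _ hcf]
    have := classInner_hom_units θ 1
    rw [if_neg hθ] at this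
    rw [← this]
    congr 1
  rw [e1]
  simp [trivS]

/-- Values of the cuspidal characters of degree `(q - 1) / 2` on the non-split torus. -/
theorem halfCusp_torus [Fintype F] [DecidableEq F] {A : M2} {ε : F} (h : IsNonsplitGen A ε)
    (hodd : Odd (Fintype.card F)) (hq : 5 ≤ Fintype.card F) (hcyc : IsCyclic (torusA A))
    (θ₀ : torusA A →* ℂˣ) (hθ₀ : θ₀ = θ₀⁻¹) (hθ₀1 : θ₀ ≠ 1)
    (χ : S2 → ℂ) (hχ : IsIrrCharacter S2 χ) (hc : IsCuspS χ)
    (hdeg : 2 * χ 1 = (Fintype.card F : ℂ) - 1)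
    {c : S2} (hcT : c ∈ torusA A) (hc1 : (c : M2) ≠ 1) (hc2 : (c : M2) ≠ -1) :
    χ c = -((θ₀ ⟨c, hcT⟩ : ℂˣ) : ℂ) := by
  classical
  have : Fintype (IrrCharacter S2) := Fintype.ofFinite _
  have hF := ringChar_ne_two_of_odd hodd
  obtain ⟨ε', hε'⟩ := FiniteField.exists_nonsquare hF
  have hε'0 := ne_zero_of_not_isSquare hε'
  have hq1 := card_sub_one_ne_zero (F := F)
  obtain ⟨α₀, hα₀⟩ := exists_mulChar_neg_one h.gen.two_ne (sgnT_sq θ₀)
  set Ψ := cuspFun A θ₀ α₀ with hΨdef
  have hnorm : classInner Ψ Ψ = 2 := by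
    rw [h.classInner_cuspFun θ₀ θ₀ α₀ α₀ hα₀ hα₀, if_pos rfl, if_pos hθ₀]
    norm_num
  obtain ⟨a, b, sa, sb, hab, hsa, hsb, hΨ⟩ :=
    exists_signed_pair_of_norm_two (cuspFun_isGeneralizedCharacter θ₀ α₀) hnorm
  have hinner : ∀ ψ : IrrCharacter S2, classInner Ψ (ψ : S2 → ℂ) =
      (sa : ℂ) * (if a = ψ then 1 else 0) + (sb : ℂ) * (if b = ψ then 1 else 0) := by
    intro ψ
    rw [hΨdef, hΨ]
    exact classInner_signed_pair a b ψ _ _
  have hsa0 : (sa : ℂ) ≠ 0 := by
    rcases hsa with h' | h' <;> rw [h'] <;> norm_num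
  have hsb0 : (sb : ℂ) ≠ 0 := by
    rcases hsb with h' | h' <;> rw [h'] <;> norm_num
  have hzero : ∀ ψ : IrrCharacter S2, classInner Ψ (ψ : S2 → ℂ) = 0 → a ≠ ψ ∧ b ≠ ψ := by
    intro ψ h0
    rw [hinner] at h0
    constructor
    · intro h1
      have h2 : ¬ (b = ψ) := fun h2 => hab (h1.trans h2.symm)
      rw [if_pos h1, if_neg h2] at h0
      apply hsa0
      linear_combination h0
    · intro h1
      have h2 : ¬ (a = ψ) := fun h2 => hab (h2.trans h1.symm)
      rw [if_neg h2, if_pos h1] at h0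
      apply hsb0
      linear_combination h0
  -- orthogonality to the principal series
  have hps : ∀ γ : MulChar F ℂ, classInner Ψ (psS γ) = 0 := by
    intro γ
    rw [Helper8.classInner_conj_symm, h.cuspFun_isCuspS θ₀ α₀ hα₀ γ, map_zero]
  have htriv : classInner Ψ (trivS (F := F)) = 0 := h.classInner_cuspFun_trivS θ₀ hθ₀1 α₀
  have hst : classInner Ψ ((stS (F := F) : IrrCharacter S2) : S2 → ℂ) = 0 := by
    have h1 := hps 1
    rw [psS_one_eq, Helper8.classInner_add_right, htriv, zero_add] at h1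
    exact h1
  -- classification of the constituents
  have key : ∀ ψ : IrrCharacter S2, (a = ψ ∨ b = ψ) →
      (2 * (ψ : S2 → ℂ) 1 = (Fintype.card F : ℂ) + 1) ∨ ψ ∈ halfCusp (F := F) := by
    intro ψ hψ
    have hnz : classInner Ψ (ψ : S2 → ℂ) ≠ 0 := by
      intro h0
      obtain ⟨h1, h2⟩ := hzero ψ h0
      rcases hψ with h' | h'
      · exact h1 h'
      · exact h2 h'
    rcases sl2_odd_irr_cases hodd hε' (ψ : S2 → ℂ) ψ.2 with h1 | h1 | ⟨γ, _, h1⟩ | h1 | ⟨hcψ, h1⟩
    · exfalso; apply hnz; rw [h1]; exact htriv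
    · exfalso; apply hnz; rw [h1]; exact hst
    · exfalso; apply hnz; rw [h1]; exact hps γ
    · left
      obtain ⟨hd1, hd2, _⟩ := pairS_sgn_spec hodd (F := F)
      have hh := (half_cast_odd hodd).1
      rcases h1 with h1 | h1
      · rw [h1, hd1]; exact hh
      · rw [h1, hd2]; exact hh
    · rcases h1 with ⟨hd, _⟩ | ⟨hd, _⟩
      · exfalso
        apply hnz
        obtain ⟨θ, α, hθ, hα, hψeq⟩ := h.exists_eq_cuspFun hodd hcyc _ ψ.2 hcψ hd
        rw [hψeq, hΨdef, h.classInner_cuspFun θ₀ θ α₀ α hα₀ hα]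
        have e1 : ¬ (θ₀ = θ) := by
          intro h'
          apply hθ
          rw [← h']
          exact hθ₀
        have e2 : ¬ (θ₀ = θ⁻¹) := by
          intro h'
          apply e1
          apply MonoidHom.ext
          intro x
          have h1 := congrArg (fun ψ : torusA A →* ℂˣ => ψ x) h'
          have h2 := congrArg (fun ψ : torusA A →* ℂˣ => ψ x) hθ₀
          simp only [MonoidHom.inv_apply] at h1 h2
          rw [h2, h1, inv_inv]
        rw [if_neg e1, if_neg e2, add_zero]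
      · right
        rw [mem_halfCusp]
        refine ⟨hcψ, ?_⟩
        intro h'
        rw [h'] at hd
        apply hq1
        linear_combination hd
  -- degrees
  obtain ⟨da, hda, hda1⟩ := isIrrCharacter_one a.2
  obtain ⟨db, hdb, hdb1⟩ := isIrrCharacter_one b.2
  have hΨ1 : (sa : ℂ) * (da : ℂ) + (sb : ℂ) * (db : ℂ) = (Fintype.card F : ℂ) - 1 := by
    have := congrFun hΨ 1
    rw [h.cuspFun_one] at this
    simp only [Pi.add_apply, Pi.smul_apply, smul_eq_mul, hda1, hdb1] at this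
    exact this.symm
  have hq1' : 1 ≤ Fintype.card F := Fintype.card_pos
  have hΨ1' : sa * (da : ℤ) + sb * (db : ℤ) = (Fintype.card F : ℤ) - 1 := by
    have : ((sa * (da : ℤ) + sb * (db : ℤ) : ℤ) : ℂ) = (((Fintype.card F : ℤ) - 1 : ℤ) : ℂ) := by
      push_cast
      exact hΨ1
    exact_mod_cast this
  have hdeg_cases : ∀ (ψ : IrrCharacter S2) (d : ℕ), (ψ : S2 → ℂ) 1 = (d : ℂ) →
      ((2 * (ψ : S2 → ℂ) 1 = (Fintype.card F : ℂ) + 1) ∨ ψ ∈ halfCusp (F := F)) →
      (2 * (d : ℤ) = (Fintype.card F : ℤ) + 1) ∨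
        (ψ ∈ halfCusp (F := F) ∧ 2 * (d : ℤ) = (Fintype.card F : ℤ) - 1) := by
    intro ψ d hd hcase
    rcases hcase with h' | h'
    · left
      rw [hd] at h'
      have : ((2 * (d : ℤ) : ℤ) : ℂ) = (((Fintype.card F : ℤ) + 1 : ℤ) : ℂ) := by
        push_cast
        exact h'
      exact_mod_cast this
    · right
      refine ⟨h', ?_⟩
      obtain ⟨h'', _⟩ := halfCusp_spec hodd hε' h'
      rw [hd] at h''
      have : ((2 * (d : ℤ) : ℤ) : ℂ) = (((Fintype.card F : ℤ) - 1 : ℤ) : ℂ) := by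
        push_cast
        exact h''
      exact_mod_cast this
  have hqz : (5 : ℤ) ≤ (Fintype.card F : ℤ) := by exact_mod_cast hq
  have hA := hdeg_cases a da hda1 (key a (Or.inl rfl))
  have hB := hdeg_cases b db hdb1 (key b (Or.inr rfl))
  have hfinal : a ∈ halfCusp (F := F) ∧ b ∈ halfCusp (F := F) ∧ sa = 1 ∧ sb = 1 := by
    rcases hA with hA | ⟨hAm, hA⟩ <;> rcases hB with hB | ⟨hBm, hB⟩ <;>
      rcases hsa with hsa | hsa <;> rcases hsb with hsb | hsb <;>
      rw [hsa, hsb] at hΨ1' <;> first | (exfalso; omega) | exact ⟨hAm, hBm, hsa, hsb⟩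
  obtain ⟨haH, hbH, hsa1, hsb1⟩ := hfinal
  rw [hsa1, hsb1] at hΨ
  -- the given character and its twist
  have hχH : (⟨χ, hχ⟩ : IrrCharacter S2) ∈ halfCusp (F := F) := by
    rw [mem_halfCusp]
    refine ⟨hc, ?_⟩
    intro h'
    have h'' : (⟨χ, hχ⟩ : IrrCharacter S2).1 1 = χ 1 := rfl
    rw [h''] at h'
    rw [h'] at hdeg
    apply hq1
    linear_combination hdeg
  obtain ⟨χ', hχ'H, hχ'ne, hχ'eq⟩ := halfCusp_twist hodd hε' hε'0 hχH
  have hpair := halfCusp_eq_pair hodd haH hbH (Ne.symm hab)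
  have hsumfun : Ψ = χ + (χ' : S2 → ℂ) := by
    rw [hΨdef, hΨ]
    have hχmem := hχH
    have hχ'mem := hχ'H
    rw [hpair, Finset.mem_insert, Finset.mem_singleton] at hχmem hχ'mem
    rcases hχmem with h1 | h1
    · rcases hχ'mem with h2 | h2
      · exact absurd (h2.trans h1.symm) hχ'ne
      · rw [← h1, ← h2]
        simp
    · rcases hχ'mem with h2 | h2
      · rw [← h1, ← h2]
        simp [add_comm]
      · exact absurd (h2.trans h1.symm) hχ'ne
  have hval := congrFun hsumfun c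
  rw [hΨdef, h.cuspFun_torus θ₀ α₀ hcT hc1 hc2, Pi.add_apply, hχ'eq] at hval
  have hconj : IsConj c (tauS hε'0 c) :=
    isConj_of_gl2_conj_no_eigen (toGL_conjS _ c) (h.noEigen c hcT hc1 hc2)
  have hcf : IsClassFunction S2 χ := IsCharacter.isClassFunction (IsIrrCharacter.isCharacter hχ)
  obtain ⟨y, hy⟩ := isConj_iff.1 hconj
  have hval2 : χ (tauS hε'0 c) = χ c := by
    rw [← hy, hcf]
  have hinv : ((θ₀ ⟨c, hcT⟩)⁻¹ : ℂˣ) = θ₀ ⟨c, hcT⟩ := by
    have := congrArg (fun ψ : torusA A →* ℂˣ => ψ ⟨c, hcT⟩) hθ₀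
    simp only [MonoidHom.inv_apply] at this
    exact this.symm
  have hval3 : (fun g => (⟨χ, hχ⟩ : IrrCharacter S2).1 (tauS hε'0 g)) c = χ (tauS hε'0 c) := rfl
  rw [hval3, hval2, hinv] at hval
  linear_combination -hval / 2

end IsNonsplitGen

end Cfsg.Agent.Helper12
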