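import Mathlib
import Cfsg.Agent.Helper12.SL2Half
import Cfsg.Agent.Helper24.ColumnOrth

set_option autoImplicit false

open scoped ComplexConjugate

namespace Cfsg.Agent.Helper12

open Cfsg Cfsg.Agent.Helper8 Cfsg.Agent.Helper24

variable {F : Type*} [Field F]

local notation "S2" => Matrix.SpecialLinearGroup (Fin 2) F

theorem trace_eq_of_isConj {g h : S2} (hc : IsConj g h) :
    (g : Matrix (Fin 2) (Fin 2) F).trace = (h : Matrix (Fin 2) (Fin 2) F).trace := by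
  obtain ⟨c, hc⟩ := isConj_iff.1 hc
  rw [← hc]
  simp only [Matrix.SpecialLinearGroup.coe_mul]
  rw [Matrix.trace_mul_comm, ← Matrix.mul_assoc, ← Matrix.SpecialLinearGroup.coe_mul,
    inv_mul_cancel, Matrix.SpecialLinearGroup.coe_one, Matrix.one_mul]

theorem not_isConj_unip {ε : F} (hε : ¬ IsSquare ε) :
    ¬ IsConj (borelMkSL (1 : Fˣ) 1) (borelMkSL (1 : Fˣ) ε) := by
  intro hc
  obtain ⟨c, hc⟩ := isConj_iff.1 hc
  rw [mul_inv_eq_iff_eq_mul] at hc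
  have hm := congrArg (fun y : S2 => (y : Matrix (Fin 2) (Fin 2) F)) hc
  simp only [Matrix.SpecialLinearGroup.coe_mul, borelMkSL_coe] at hm
  have e00 := congrFun (congrFun hm 0) 0
  have e01 := congrFun (congrFun hm 0) 1
  simp [Matrix.mul_apply, Fin.sum_univ_two] at e00 e01
  have hdet := c.2
  rw [Matrix.det_fin_two] at hdet
  have hε0 : ε ≠ 0 := by
    rintro rfl
    exact hε ⟨0, by simp⟩
  have hc10 : (c : Matrix (Fin 2) (Fin 2) F) 1 0 = 0 := by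
    rcases e00 with h | h
    · exact absurd h hε0
    · exact h
  rw [hc10, mul_zero, sub_zero] at hdet
  have hd0 : (c : Matrix (Fin 2) (Fin 2) F) 1 1 ≠ 0 := right_ne_zero_of_mul_eq_one hdet
  apply hε
  refine ⟨((c : Matrix (Fin 2) (Fin 2) F) 1 1)⁻¹, ?_⟩
  field_simp
  have ha : (c : Matrix (Fin 2) (Fin 2) F) 0 0 = ε * (c : Matrix (Fin 2) (Fin 2) F) 1 1 := by
    linear_combination e01
  rw [ha] at hdet
  linear_combination hdet

theorem borelMkSL_not_scalar {a : Fˣ} {b : F} (hb : b ≠ 0) :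
    ¬ IsScalar2 (borelMkSL a b : Matrix (Fin 2) (Fin 2) F) := by
  intro h
  apply hb
  have := h.1
  rw [borelMkSL_coe] at this
  simpa using this

theorem borelMkSL_trace (a : Fˣ) (b : F) :
    (borelMkSL a b : Matrix (Fin 2) (Fin 2) F).trace = (a : F) + ((a⁻¹ : Fˣ) : F) := by
  rw [borelMkSL_coe, Matrix.trace_fin_two]
  simp

theorem irr_conj_eq_inv {G : Type*} [Group G] [Finite G] {χ : G → ℂ} (hχ : IsIrrCharacter G χ)
    (g : G) : conj (χ g) = χ g⁻¹ := by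
  obtain ⟨n, ρ, _, rfl⟩ := hχ
  exact (char_inv ρ g).symm

theorem borelMkSL_unip_inv (b : F) : (borelMkSL (1 : Fˣ) b)⁻¹ = borelMkSL (1 : Fˣ) (-b) := by
  rw [inv_eq_iff_mul_eq_one]
  apply Subtype.ext
  rw [Matrix.SpecialLinearGroup.coe_mul, borelMkSL_coe, borelMkSL_coe]
  ext i j
  fin_cases i <;> fin_cases j <;> simp [Matrix.mul_apply, Fin.sum_univ_two]

/-- Second orthogonality for the two unipotent classes. -/
theorem sum_irr_unip_diff [Fintype F] [DecidableEq F] (hodd : Odd (Fintype.card F)) {ε : F}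
    (hε : ¬ IsSquare ε) [Fintype (IrrCharacter S2)] :
    ∑ χ : IrrCharacter S2,
      ((χ : S2 → ℂ) (borelMkSL (1 : Fˣ) 1) - (χ : S2 → ℂ) (borelMkSL (1 : Fˣ) ε)) *
        conj ((χ : S2 → ℂ) (borelMkSL (1 : Fˣ) 1) - (χ : S2 → ℂ) (borelMkSL (1 : Fˣ) ε)) =
      4 * (Fintype.card F : ℂ) := by
  classical
  have hF := ringChar_ne_two_of_odd hodd
  have h2 : (2 : F) ≠ 0 := by
    intro h0
    apply hF
    have : CharP F 2 := CharTwo.of_one_ne_zero_of_two_eq_zero one_ne_zero h0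
    exact ringChar.eq F 2
  have hε0 : ε ≠ 0 := by
    rintro rfl
    exact hε ⟨0, by simp⟩
  have htr : ∀ b : F, (borelMkSL (1 : Fˣ) b : Matrix (Fin 2) (Fin 2) F).trace = 2 := by
    intro b
    rw [borelMkSL_trace]
    simp
    norm_num
  have hc1 := Cfsg.Agent.S2301.card_centralizer_unip h2 (borelMkSL (1 : Fˣ) (1 : F))
    (borelMkSL_not_scalar one_ne_zero) (htr 1)
  have hc2 := Cfsg.Agent.S2301.card_centralizer_unip h2 (borelMkSL (1 : Fˣ) ε)
    (borelMkSL_not_scalar hε0) (htr ε)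
  have o11 := sum_irr_mul_conj (borelMkSL (1 : Fˣ) (1 : F)) (borelMkSL (1 : Fˣ) (1 : F))
  have oee := sum_irr_mul_conj (borelMkSL (1 : Fˣ) ε) (borelMkSL (1 : Fˣ) ε)
  have o1e := sum_irr_mul_conj (borelMkSL (1 : Fˣ) (1 : F)) (borelMkSL (1 : Fˣ) ε)
  have oe1 := sum_irr_mul_conj (borelMkSL (1 : Fˣ) ε) (borelMkSL (1 : Fˣ) (1 : F))
  rw [if_pos (IsConj.refl _), hc1] at o11
  rw [if_pos (IsConj.refl _), hc2] at oee
  rw [if_neg (not_isConj_unip hε)] at o1e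
  rw [if_neg (fun h => not_isConj_unip hε h.symm)] at oe1
  have hexp : ∀ χ : IrrCharacter S2,
      ((χ : S2 → ℂ) (borelMkSL (1 : Fˣ) 1) - (χ : S2 → ℂ) (borelMkSL (1 : Fˣ) ε)) *
        conj ((χ : S2 → ℂ) (borelMkSL (1 : Fˣ) 1) - (χ : S2 → ℂ) (borelMkSL (1 : Fˣ) ε)) =
      (χ : S2 → ℂ) (borelMkSL (1 : Fˣ) 1) * conj ((χ : S2 → ℂ) (borelMkSL (1 : Fˣ) 1)) -
      (χ : S2 → ℂ) (borelMkSL (1 : Fˣ) 1) * conj ((χ : S2 → ℂ) (borelMkSL (1 : Fˣ) ε)) -
      (χ : S2 → ℂ) (borelMkSL (1 : Fˣ) ε) * conj ((χ : S2 → ℂ) (borelMkSL (1 : Fˣ) 1)) +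
      (χ : S2 → ℂ) (borelMkSL (1 : Fˣ) ε) * conj ((χ : S2 → ℂ) (borelMkSL (1 : Fˣ) ε)) := by
    intro χ
    rw [map_sub]; ring
  simp only [hexp, Finset.sum_add_distrib, Finset.sum_sub_distrib]
  rw [o11, oee, o1e, oe1]
  push_cast
  ring

/-- Second orthogonality between the unipotent classes and their negatives. -/
theorem sum_irr_unip_diff_neg [Fintype F] [DecidableEq F] (hodd : Odd (Fintype.card F)) {ε : F}
    [Fintype (IrrCharacter S2)] :
    ∑ χ : IrrCharacter S2,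
      ((χ : S2 → ℂ) (zcS * borelMkSL (1 : Fˣ) 1) - (χ : S2 → ℂ) (zcS * borelMkSL (1 : Fˣ) ε)) *
        conj ((χ : S2 → ℂ) (borelMkSL (1 : Fˣ) 1) - (χ : S2 → ℂ) (borelMkSL (1 : Fˣ) ε)) = 0 := by
  classical
  have hF := ringChar_ne_two_of_odd hodd
  have h2 : (2 : F) ≠ 0 := by
    intro h0
    apply hF
    have : CharP F 2 := CharTwo.of_one_ne_zero_of_two_eq_zero one_ne_zero h0
    exact ringChar.eq F 2
  have hnc : ∀ a b : F, ¬ IsConj (zcS * borelMkSL (1 : Fˣ) a) (borelMkSL (1 : Fˣ) b) := by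
    intro a b hc
    have ht := trace_eq_of_isConj hc
    rw [zcS_mul_unip, borelMkSL_trace, borelMkSL_trace] at ht
    simp at ht
    apply h2
    have h4 : (4 : F) = 0 := by linear_combination -ht
    have : (2 : F) * 2 = 0 := by rw [← h4]; norm_num
    exact (mul_self_eq_zero.1 this)
  have o := fun a b : F => sum_irr_mul_conj (zcS * borelMkSL (1 : Fˣ) a) (borelMkSL (1 : Fˣ) b)
  have hexp : ∀ χ : IrrCharacter S2,
      ((χ : S2 → ℂ) (zcS * borelMkSL (1 : Fˣ) 1) - (χ : S2 → ℂ) (zcS * borelMkSL (1 : Fˣ) ε)) *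
        conj ((χ : S2 → ℂ) (borelMkSL (1 : Fˣ) 1) - (χ : S2 → ℂ) (borelMkSL (1 : Fˣ) ε)) =
      (χ : S2 → ℂ) (zcS * borelMkSL (1 : Fˣ) 1) * conj ((χ : S2 → ℂ) (borelMkSL (1 : Fˣ) 1)) -
      (χ : S2 → ℂ) (zcS * borelMkSL (1 : Fˣ) 1) * conj ((χ : S2 → ℂ) (borelMkSL (1 : Fˣ) ε)) -
      (χ : S2 → ℂ) (zcS * borelMkSL (1 : Fˣ) ε) * conj ((χ : S2 → ℂ) (borelMkSL (1 : Fˣ) 1)) +
      (χ : S2 → ℂ) (zcS * borelMkSL (1 : Fˣ) ε) * conj ((χ : S2 → ℂ) (borelMkSL (1 : Fˣ) ε)) := by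
    intro χ
    rw [map_sub]; ring
  simp only [hexp, Finset.sum_add_distrib, Finset.sum_sub_distrib]
  rw [o 1 1, o 1 ε, o ε 1, o ε ε, if_neg (hnc _ _), if_neg (hnc _ _), if_neg (hnc _ _),
    if_neg (hnc _ _)]
  ring

/-- `(-1)^((q-1)/2)` in terms of `-1` being a square. -/
theorem neg_one_pow_half [Fintype F] (hodd : Odd (Fintype.card F)) :
    (IsSquare (-1 : F) → (-1 : ℂ) ^ ((Fintype.card F - 1) / 2) = 1) ∧
    (¬ IsSquare (-1 : F) → (-1 : ℂ) ^ ((Fintype.card F - 1) / 2) = -1) := by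
  have hiff := FiniteField.isSquare_neg_one_iff (F := F)
  obtain ⟨k, hk⟩ := hodd
  constructor
  · intro h
    have h4 := hiff.1 h
    have hev : Even ((Fintype.card F - 1) / 2) := by
      rw [hk] at h4 ⊢
      have : (2 * k + 1 - 1) / 2 = k := by omega
      rw [this]
      rcases Nat.even_or_odd k with he | ho
      · exact he
      · exfalso
        obtain ⟨j, hj⟩ := ho
        omega
    exact hev.neg_one_pow
  · intro h
    have h4 : Fintype.card F % 4 = 3 := by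
      by_contra h3
      exact h (hiff.2 h3)
    have hod : Odd ((Fintype.card F - 1) / 2) := by
      rw [hk] at h4 ⊢
      have : (2 * k + 1 - 1) / 2 = k := by omega
      rw [this]
      rcases Nat.even_or_odd k with he | ho
      · exfalso
        obtain ⟨j, hj⟩ := he
        omega
      · exact ho
    exact hod.neg_one_pow

/-- Complex conjugation acts on the difference of the two unipotent values by the sign
`(-1)^((q-1)/2)`. -/
theorem conj_unip_diff [Fintype F] [DecidableEq F] (hodd : Odd (Fintype.card F)) {ε : F}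
    (hε : ¬ IsSquare ε) {ψ : S2 → ℂ} (hψ : IsIrrCharacter S2 ψ) :
    conj (ψ (borelMkSL (1 : Fˣ) 1) - ψ (borelMkSL (1 : Fˣ) ε)) =
      (-1 : ℂ) ^ ((Fintype.card F - 1) / 2) *
        (ψ (borelMkSL (1 : Fˣ) 1) - ψ (borelMkSL (1 : Fˣ) ε)) := by
  have hcf : IsClassFunction S2 ψ := IsCharacter.isClassFunction (IsIrrCharacter.isCharacter hψ)
  have hε0 : ε ≠ 0 := by
    rintro rfl
    exact hε ⟨0, by simp⟩
  rw [map_sub, irr_conj_eq_inv hψ, irr_conj_eq_inv hψ, borelMkSL_unip_inv, borelMkSL_unip_inv]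
  by_cases hsq : IsSquare (-1 : F)
  · rw [(neg_one_pow_half hodd).1 hsq, one_mul]
    obtain ⟨s, hs⟩ := hsq
    have hs0 : s ≠ 0 := by
      rintro rfl
      simp at hs
    have h1 : ψ (borelMkSL (1 : Fˣ) (-1)) = ψ (borelMkSL (1 : Fˣ) 1) := by
      have hc := isConj_unipS (1 : F) (Units.mk0 s hs0)
      rw [Units.val_mk0, one_mul, pow_two, ← hs] at hc
      exact (Cfsg.Agent.Helper24.IsClassFunction.eq_of_isConj hcf hc).symm
    have h2 : ψ (borelMkSL (1 : Fˣ) (-ε)) = ψ (borelMkSL (1 : Fˣ) ε) := by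
      have hc := isConj_unipS ε (Units.mk0 s hs0)
      rw [Units.val_mk0, pow_two, ← hs, mul_neg, mul_one] at hc
      exact (Cfsg.Agent.Helper24.IsClassFunction.eq_of_isConj hcf hc).symm
    rw [h1, h2]
  · rw [(neg_one_pow_half hodd).2 hsq]
    obtain ⟨t, ht0, ht⟩ := exists_sq_mul_of_not_isSquare hε hsq
    have h1 : ψ (borelMkSL (1 : Fˣ) (-1)) = ψ (borelMkSL (1 : Fˣ) ε) := by
      have hc := isConj_unipS ε (Units.mk0 t ht0)
      rw [Units.val_mk0, ← ht] at hc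
      exact (Cfsg.Agent.Helper24.IsClassFunction.eq_of_isConj hcf hc).symm
    have h2 : ψ (borelMkSL (1 : Fˣ) (-ε)) = ψ (borelMkSL (1 : Fˣ) 1) := by
      have hc := isConj_unipS (1 : F) (Units.mk0 (ε * t) (mul_ne_zero hε0 ht0))
      have he : (1 : F) * ((Units.mk0 (ε * t) (mul_ne_zero hε0 ht0) : Fˣ) : F) ^ 2 = -ε := by
        rw [Units.val_mk0]
        linear_combination (-ε) * ht
      rw [he] at hc
      exact (Cfsg.Agent.Helper24.IsClassFunction.eq_of_isConj hcf hc).symm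
    rw [h1, h2]
    ring

/-- The squared difference of the two unipotent values of the half-degree characters. -/
theorem half_diff_sq [Fintype F] [DecidableEq F] (hodd : Odd (Fintype.card F)) {ε : F}
    (hε : ¬ IsSquare ε) [Fintype (IrrCharacter S2)] {η : IrrCharacter S2}
    (hη : η ∈ halfCusp (F := F)) :
    (((pairS (sgnC (F := F)) sgnC_sq).1 : S2 → ℂ) (borelMkSL (1 : Fˣ) 1) -
      ((pairS (sgnC (F := F)) sgnC_sq).1 : S2 → ℂ) (borelMkSL (1 : Fˣ) ε)) ^ 2 =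
      (-1 : ℂ) ^ ((Fintype.card F - 1) / 2) * (Fintype.card F : ℂ) ∧
    ((η : S2 → ℂ) (borelMkSL (1 : Fˣ) 1) - (η : S2 → ℂ) (borelMkSL (1 : Fˣ) ε)) ^ 2 =
      (-1 : ℂ) ^ ((Fintype.card F - 1) / 2) * (Fintype.card F : ℂ) := by
  classical
  have hε0 : ε ≠ 0 := by
    rintro rfl
    exact hε ⟨0, by simp⟩
  set ξ := (pairS (sgnC (F := F)) sgnC_sq).1 with hξdef
  set f1 : (S2 → ℂ) → ℂ := fun ψ =>
    (ψ (borelMkSL (1 : Fˣ) 1) - ψ (borelMkSL (1 : Fˣ) ε)) *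
      conj (ψ (borelMkSL (1 : Fˣ) 1) - ψ (borelMkSL (1 : Fˣ) ε)) with hf1
  set f2 : (S2 → ℂ) → ℂ := fun ψ =>
    (ψ (zcS * borelMkSL (1 : Fˣ) 1) - ψ (zcS * borelMkSL (1 : Fˣ) ε)) *
      conj (ψ (borelMkSL (1 : Fˣ) 1) - ψ (borelMkSL (1 : Fˣ) ε)) with hf2
  have hv1 : ∀ ψ : S2 → ℂ, ψ (borelMkSL (1 : Fˣ) 1) = ψ (borelMkSL (1 : Fˣ) ε) → f1 ψ = 0 := by
    intro ψ h
    simp only [hf1, h, sub_self, zero_mul]
  have hv2 : ∀ ψ : S2 → ℂ, ψ (borelMkSL (1 : Fˣ) 1) = ψ (borelMkSL (1 : Fˣ) ε) → f2 ψ = 0 := by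
    intro ψ h
    simp only [hf2, h, sub_self, map_zero, mul_zero]
  have s1 : 4 * (Fintype.card F : ℂ) = f1 (ξ : S2 → ℂ) +
      f1 ((pairS (sgnC (F := F)) sgnC_sq).2 : S2 → ℂ) + f1 (η : S2 → ℂ) +
      f1 (fun g => (η : S2 → ℂ) (tauS hε0 g)) := by
    rw [← sum_offdiag hodd hε hε0 f1 hv1 hη]
    exact (sum_irr_unip_diff hodd hε).symm
  have s2 : 0 = f2 (ξ : S2 → ℂ) +
      f2 ((pairS (sgnC (F := F)) sgnC_sq).2 : S2 → ℂ) + f2 (η : S2 → ℂ) +
      f2 (fun g => (η : S2 → ℂ) (tauS hε0 g)) := by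
    rw [← sum_offdiag hodd hε hε0 f2 hv2 hη]
    exact (sum_irr_unip_diff_neg hodd (ε := ε)).symm
  clear_value f1 f2
  -- twisting
  have tw1 : ∀ ψ : S2 → ℂ, IsClassFunction S2 ψ → f1 (fun g => ψ (tauS hε0 g)) = f1 ψ := by
    intro ψ hψ
    simp only [hf1]
    rw [twist_u1 hε0 ψ, twist_ue hε0 ψ hψ, map_sub, map_sub]
    ring
  have key : ∀ ψ : S2 → ℂ, IsIrrCharacter S2 ψ → ∃ ω : ℂ, ω ^ 2 = 1 ∧ f2 ψ = ω * f1 ψ ∧
      f2 (fun g => ψ (tauS hε0 g)) = ω * f1 ψ := by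
    intro ψ hψ
    have hcf : IsClassFunction S2 ψ := IsCharacter.isClassFunction (IsIrrCharacter.isCharacter hψ)
    obtain ⟨ω, hω⟩ := exists_central_scalar hψ zcS zcS_central
    refine ⟨ω, ?_, ?_, ?_⟩
    · have h1 := hω (zcS * 1)
      rw [hω 1, ← mul_assoc, zcS_mul_self, one_mul] at h1
      have hne : ψ 1 ≠ 0 := irr_one_ne_zero ⟨ψ, hψ⟩
      have h2 : ψ 1 * (ω ^ 2) = ψ 1 * 1 := by linear_combination -h1
      exact mul_left_cancel₀ hne h2
    · simp only [hf2, hf1]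
      rw [hω, hω]
      ring
    · rw [← tw1 ψ hcf]
      simp only [hf2, hf1]
      rw [twist_zc hε0 ψ, twist_zc hε0 ψ, hω, hω]
      ring
  obtain ⟨ωξ, hωξ, k1, k2⟩ := key (ξ : S2 → ℂ) ξ.2
  obtain ⟨ωη, hωη, k3, k4⟩ := key (η : S2 → ℂ) η.2
  rw [(xi_twist hodd hε hε0).1] at k2
  have t1 := tw1 (ξ : S2 → ℂ) (isClassFunction_irr ξ)
  rw [(xi_twist hodd hε hε0).1] at t1
  have t2 := tw1 (η : S2 → ℂ) (isClassFunction_irr η)
  rw [t1, t2] at s1
  rw [k1, k2, k3, k4] at s2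
  have hq0 : (Fintype.card F : ℂ) ≠ 0 := by
    have : 0 < Fintype.card F := Fintype.card_pos
    exact_mod_cast this.ne'
  have hpm : ∀ ω : ℂ, ω ^ 2 = 1 → ω = 1 ∨ ω = -1 := by
    intro ω h
    have h0 : (ω - 1) * (ω + 1) = 0 := by linear_combination h
    rcases mul_eq_zero.1 h0 with h | h
    · left; linear_combination h
    · right; linear_combination h
  have hδ : ((-1 : ℂ) ^ ((Fintype.card F - 1) / 2)) ^ 2 = 1 := by
    rw [← pow_mul, mul_comm, pow_mul]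
    simp
  have hvals : f1 (ξ : S2 → ℂ) = (Fintype.card F : ℂ) ∧ f1 (η : S2 → ℂ) = (Fintype.card F : ℂ) := by
    rcases hpm ωξ hωξ with h1 | h1 <;> rcases hpm ωη hωη with h2 | h2
    · exfalso
      rw [h1, h2] at s2
      apply hq0
      linear_combination s1 / 4 - s2 / 4
    · rw [h1, h2] at s2
      constructor
      · linear_combination -s1 / 4 - s2 / 4
      · linear_combination -s1 / 4 + s2 / 4
    · rw [h1, h2] at s2
      constructor
      · linear_combination -s1 / 4 + s2 / 4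
      · linear_combination -s1 / 4 - s2 / 4
    · exfalso
      rw [h1, h2] at s2
      apply hq0
      linear_combination s1 / 4 + s2 / 4
  have cξ := conj_unip_diff hodd hε ξ.2
  have cη := conj_unip_diff hodd hε η.2
  obtain ⟨v1, v2⟩ := hvals
  simp only [hf1] at v1 v2
  rw [cξ] at v1
  rw [cη] at v2
  constructor
  · linear_combination ((-1 : ℂ) ^ ((Fintype.card F - 1) / 2)) * v1 -
      (((ξ : S2 → ℂ) (borelMkSL (1 : Fˣ) 1) - (ξ : S2 → ℂ) (borelMkSL (1 : Fˣ) ε)) ^ 2) * hδ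
  · linear_combination ((-1 : ℂ) ^ ((Fintype.card F - 1) / 2)) * v2 -
      (((η : S2 → ℂ) (borelMkSL (1 : Fˣ) 1) - (η : S2 → ℂ) (borelMkSL (1 : Fˣ) ε)) ^ 2) * hδ

end Cfsg.Agent.Helper12
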