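import Mathlib
import Cfsg.Agent.Helper12.SL2Conj
import Cfsg.Agent.Helper12.PSL2Basic

set_option autoImplicit false

open Polynomial

namespace Cfsg.Agent.Helper12

variable {F : Type*} [Field F]

/-- The normal form `[[0, -1/e], [e, α]]`. -/
def nmat (e α : F) (he : e ≠ 0) : Matrix.SpecialLinearGroup (Fin 2) F :=
  ⟨!![0, -e⁻¹; e, α], by rw [Matrix.det_fin_two_of]; field_simp; ring⟩

theorem nmat_coe (e α : F) (he : e ≠ 0) :
    (nmat e α he : Matrix (Fin 2) (Fin 2) F) = !![0, -e⁻¹; e, α] := rfl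

/-- Every non-scalar element of `SL₂` is conjugate to a normal form. -/
theorem sl2_isConj_nmat [Fintype F] (A : Matrix.SpecialLinearGroup (Fin 2) F)
    (hA : ¬ IsScalar2 (A : Matrix (Fin 2) (Fin 2) F)) :
    ∃ (e : F) (he : e ≠ 0), IsConj A (nmat e (A : Matrix (Fin 2) (Fin 2) F).trace he) := by
  obtain ⟨v, hv⟩ := exists_dform_ne_zero _ hA
  refine ⟨dform (A : Matrix (Fin 2) (Fin 2) F) v, hv, ?_⟩
  apply sl2_isConj_of_dform_eq A _ ?_ v ![1, 0] hv
  · simp [nmat_coe, dform]
  · simp [nmat_coe, Matrix.trace_fin_two]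

/-- The square of the trace is a conjugacy invariant in `PSL₂`. -/
theorem psl2_trace_sq_eq_of_isConj (G H : Matrix.SpecialLinearGroup (Fin 2) F)
    (h : IsConj (QuotientGroup.mk G : Matrix.ProjectiveSpecialLinearGroup (Fin 2) F)
      (QuotientGroup.mk H)) :
    (G : Matrix (Fin 2) (Fin 2) F).trace ^ 2 = (H : Matrix (Fin 2) (Fin 2) F).trace ^ 2 := by
  obtain ⟨u, hu⟩ := isConj_iff.1 h
  obtain ⟨U, rfl⟩ := QuotientGroup.mk_surjective u
  have h1 : (QuotientGroup.mk (U * G * U⁻¹ * H⁻¹) :
      Matrix.ProjectiveSpecialLinearGroup (Fin 2) F) = 1 := by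
    rw [QuotientGroup.mk_mul, QuotientGroup.mk_inv, mul_inv_eq_one, ← hu]
    simp only [QuotientGroup.mk_mul, QuotientGroup.mk_inv]
  rw [psl2_mk_eq_one_iff, isScalar2_iff] at h1
  obtain ⟨c, hc⟩ := h1
  have h2 : ((U * G * U⁻¹ : Matrix.SpecialLinearGroup (Fin 2) F) : Matrix (Fin 2) (Fin 2) F) =
      c • (H : Matrix (Fin 2) (Fin 2) F) := by
    have : U * G * U⁻¹ = (U * G * U⁻¹ * H⁻¹) * H := by group
    rw [this, Matrix.SpecialLinearGroup.coe_mul, hc, Matrix.smul_mul, Matrix.one_mul]
  have hdet : c ^ 2 = 1 := by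
    have h3 := (U * G * U⁻¹).2
    rw [h2, Matrix.det_smul, H.2, mul_one] at h3
    simpa using h3
  have htr : (G : Matrix (Fin 2) (Fin 2) F).trace = c * (H : Matrix (Fin 2) (Fin 2) F).trace := by
    have h4 := congrArg Matrix.trace h2
    rw [Matrix.trace_smul, smul_eq_mul] at h4
    rw [← h4, Matrix.SpecialLinearGroup.coe_mul, Matrix.SpecialLinearGroup.coe_mul,
      Matrix.trace_mul_comm, ← Matrix.mul_assoc, ← Matrix.SpecialLinearGroup.coe_mul,
      inv_mul_cancel, Matrix.SpecialLinearGroup.coe_one, Matrix.one_mul]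
  rw [htr, mul_pow, hdet, one_mul]

/-- A quadratic function on a finite field with at least four elements does not have constant
square. -/
theorem exists_quadratic_sq_ne [Fintype F] (h4 : 4 ≤ Fintype.card F) (c0 c1 c2 : F) (hc2 : c2 ≠ 0) :
    ∃ r : F, (c2 * r ^ 2 + c1 * r + c0) ^ 2 ≠ c0 ^ 2 := by
  by_contra hall
  push Not at hall
  by_cases h2 : ringChar F = 2
  · have : CharP F 2 := ringChar.of_eq h2
    have hzero : ∀ r : F, c2 * r ^ 2 + c1 * r = 0 := by
      intro r
      have h := hall r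
      have h' : (c2 * r ^ 2 + c1 * r) ^ 2 = 0 := by
        have : (c2 * r ^ 2 + c1 * r + c0) ^ 2 = (c2 * r ^ 2 + c1 * r) ^ 2 + c0 ^ 2 :=
          CharTwo.add_sq _ _
        rw [this] at h
        linear_combination h
      exact pow_eq_zero_iff (by norm_num) |>.1 h'
    let Q : F[X] := C c2 * X ^ 2 + C c1 * X + C 0
    have hQ : Q = 0 := by
      apply Polynomial.eq_zero_of_natDegree_lt_card_of_eval_eq_zero Q (f := id)
        Function.injective_id
      · intro r
        simp only [Q, eval_add, eval_mul, eval_C, eval_pow, eval_X, id, add_zero]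
        exact hzero r
      · rw [natDegree_quadratic hc2]; omega
    have := natDegree_quadratic (b := c1) (c := 0) hc2
    rw [show C c2 * X ^ 2 + C c1 * X + C 0 = Q from rfl, hQ] at this
    simp at this
  · have hodd : Fintype.card F % 2 = 1 := FiniteField.odd_card_of_char_ne_two h2
    have h5 : 5 ≤ Fintype.card F := by omega
    let T : F[X] := C c2 * X ^ 2 + C c1 * X + C c0
    have hT : T.natDegree = 2 := natDegree_quadratic hc2
    have hP : T ^ 2 - C (c0 ^ 2) = 0 := by
      apply Polynomial.eq_zero_of_natDegree_lt_card_of_eval_eq_zero _ (f := id)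
        Function.injective_id
      · intro r
        simp only [T, eval_sub, eval_add, eval_mul, eval_C, eval_pow, eval_X, id]
        rw [hall r, sub_self]
      · refine lt_of_le_of_lt (natDegree_sub_le _ _) ?_
        rw [natDegree_pow, hT, natDegree_C]
        simp only [Nat.reduceMul, zero_le, sup_of_le_left]
        omega
    have hdeg : (T ^ 2).natDegree = 0 := by
      rw [sub_eq_zero.1 hP, natDegree_C]
    rw [natDegree_pow, hT] at hdeg
    omega

end Cfsg.Agent.Helper12
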