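import Mathlib
import Cfsg.Agent.Helper12.SL2Xi
import Cfsg.Agent.Helper12.Mat2Comm
import Cfsg.Agent.Helper5.LinChar
import Cfsg.Agent.Helper24.ColumnOrth

set_option autoImplicit false

open scoped ComplexConjugate

namespace Cfsg.Agent.Helper12

open Cfsg Cfsg.Agent.Helper8 Cfsg.Agent.Helper24

variable {F : Type*} [Field F]

local notation "S2" => Matrix.SpecialLinearGroup (Fin 2) F

theorem sq_eq_one_of_card_three [Fintype F] (h3 : Fintype.card F = 3) {a : F} (ha : a ≠ 0) :
    a ^ 2 = 1 := by
  have := FiniteField.pow_card_sub_one_eq_one a ha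
  rw [h3] at this
  exact this

theorem three_eq_zero_of_card_three [Fintype F] (h3 : Fintype.card F = 3) : (3 : F) = 0 := by
  have := FiniteField.cast_card_eq_zero F
  rw [h3] at this
  exact_mod_cast this

/-- Over the field with three elements an element of `SL₂` without eigenvectors has trace `0`. -/
theorem trace_eq_zero_of_card_three [Fintype F] (h3 : Fintype.card F = 3) (g : S2)
    (hne : ∀ (c : F) (v : Fin 2 → F), v ≠ 0 → (g : Matrix (Fin 2) (Fin 2) F).mulVec v ≠ c • v) :
    (g : Matrix (Fin 2) (Fin 2) F).trace = 0 := by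
  by_contra ht
  have h1 := sq_eq_one_of_card_three h3 ht
  have h30 := three_eq_zero_of_card_three h3
  have hdet : (g : Matrix (Fin 2) (Fin 2) F).det = 1 := g.2
  obtain ⟨v, hv, hv2⟩ := exists_eigenvector_of_root (g : Matrix (Fin 2) (Fin 2) F)
    (-(g : Matrix (Fin 2) (Fin 2) F).trace) (by
      rw [hdet]
      linear_combination 2 * h1 + h30)
  exact hne _ v hv hv2

/-- Over the field with three elements the centralizer in `SL₂` of an element without
eigenvectors has at most four elements. -/
theorem card_centralizer_le_four [Fintype F] [DecidableEq F] (h3 : Fintype.card F = 3) (g : S2)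
    (hne : ∀ (c : F) (v : Fin 2 → F), v ≠ 0 → (g : Matrix (Fin 2) (Fin 2) F).mulVec v ≠ c • v) :
    Nat.card (Subgroup.centralizer ({g} : Set S2)) ≤ 4 := by
  classical
  have ht := trace_eq_zero_of_card_three h3 g hne
  have h30 := three_eq_zero_of_card_three h3
  have hdet : (g : Matrix (Fin 2) (Fin 2) F).det = 1 := g.2
  have hg10 : (g : Matrix (Fin 2) (Fin 2) F) 1 0 ≠ 0 :=
    ne_zero_of_no_eigen (Matrix.SpecialLinearGroup.toGL g) hne
  have hg : ¬ IsScalar2 (g : Matrix (Fin 2) (Fin 2) F) := fun h => hg10 h.2.1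
  have hsub : ((Subgroup.centralizer ({g} : Set S2) : Subgroup S2) : Set S2) ⊆
      (({1, -1, g, -g} : Finset S2) : Set S2) := by
    intro z hz
    have hz' : g * z = z * g := by
      have := Subgroup.mem_centralizer_iff.1 hz g (Set.mem_singleton g)
      exact this
    have hcomm : (g : Matrix (Fin 2) (Fin 2) F) * (z : Matrix (Fin 2) (Fin 2) F) =
        (z : Matrix (Fin 2) (Fin 2) F) * (g : Matrix (Fin 2) (Fin 2) F) := by
      have := congrArg (fun y : S2 => (y : Matrix (Fin 2) (Fin 2) F)) hz'
      simpa using this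
    obtain ⟨x, y, hxy⟩ := exists_eq_add_smul_of_comm _ _ hg hcomm
    have hzdet : (z : Matrix (Fin 2) (Fin 2) F).det = 1 := z.2
    have hform : x ^ 2 + y ^ 2 = 1 := by
      have hd2 : (g : Matrix (Fin 2) (Fin 2) F) 0 0 * (g : Matrix (Fin 2) (Fin 2) F) 1 1 -
          (g : Matrix (Fin 2) (Fin 2) F) 0 1 * (g : Matrix (Fin 2) (Fin 2) F) 1 0 = 1 := by
        rw [← Matrix.det_fin_two]; exact hdet
      have ht2 : (g : Matrix (Fin 2) (Fin 2) F) 0 0 + (g : Matrix (Fin 2) (Fin 2) F) 1 1 = 0 := by
        rw [← Matrix.trace_fin_two]; exact ht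
      rw [hxy, Matrix.det_fin_two] at hzdet
      simp at hzdet
      linear_combination hzdet - x * y * ht2 - y ^ 2 * hd2
    simp only [Finset.coe_insert, Finset.coe_singleton, Set.mem_insert_iff, Set.mem_singleton_iff]
    by_cases hx : x = 0
    · -- z = y g with y² = 1
      rw [hx] at hform hxy
      have hy2 : y ^ 2 = 1 := by linear_combination hform
      have hy : y = 1 ∨ y = -1 := sq_eq_one_iff.1 hy2
      rcases hy with hy | hy
      · right; right; left
        apply Subtype.ext
        rw [hxy, hy]; simp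
      · right; right; right
        apply Subtype.ext
        rw [hxy, hy]; simp
    · have hx2 := sq_eq_one_of_card_three h3 hx
      have hy0 : y = 0 := by
        by_contra hy
        have hy2 := sq_eq_one_of_card_three h3 hy
        rw [hx2, hy2] at hform
        have : (1 : F) = 0 := by linear_combination hform
        exact one_ne_zero this
      rw [hy0] at hxy
      rcases sq_eq_one_iff.1 hx2 with hx1 | hx1
      · left
        apply Subtype.ext
        rw [hxy, hx1]; simp
      · right; left
        apply Subtype.ext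
        rw [hxy, hx1]; simp
  have hcard := Nat.card_coe_set_eq ((Subgroup.centralizer ({g} : Set S2) : Subgroup S2) : Set S2)
  rw [show Nat.card (Subgroup.centralizer ({g} : Set S2)) =
    Nat.card (((Subgroup.centralizer ({g} : Set S2) : Subgroup S2) : Set S2)) from rfl, hcard]
  calc Set.ncard ((Subgroup.centralizer ({g} : Set S2) : Subgroup S2) : Set S2)
      ≤ Set.ncard (({1, -1, g, -g} : Finset S2) : Set S2) :=
        Set.ncard_le_ncard hsub (Finset.finite_toSet _)
    _ = ({1, -1, g, -g} : Finset S2).card := Set.ncard_coe_finset _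
    _ ≤ 4 := Finset.card_le_four

/-- A degree one character has values of norm one. -/
theorem normSq_eq_one_of_degree_one {G : Type*} [Group G] [Finite G] {χ : G → ℂ}
    (hχ : IsCharacter G χ) (h1 : χ 1 = 1) (g : G) : Complex.normSq (χ g) = 1 := by
  have h := norm_monoidHom_eq_one (Cfsg.Agent.Helper5.linCharHom hχ h1) g
  have h2 : ‖χ g‖ = 1 := h
  rw [Complex.normSq_eq_norm_sq, h2]; norm_num

/-- Over the field with three elements, a cuspidal irreducible character of `SL₂` of degree
`q - 1 = 2` vanishes on elements without eigenvectors. -/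
theorem cusp_full_no_eigen_three [Fintype F] [DecidableEq F] (h3 : Fintype.card F = 3)
    (χ : S2 → ℂ) (hχ : IsIrrCharacter S2 χ) (hc : IsCuspS χ)
    (hdeg : χ 1 = (Fintype.card F : ℂ) - 1) (g : S2)
    (hne : ∀ (c : F) (v : Fin 2 → F), v ≠ 0 → (g : Matrix (Fin 2) (Fin 2) F).mulVec v ≠ c • v) :
    χ g = 0 := by
  classical
  have : Fintype (IrrCharacter S2) := Fintype.ofFinite _
  have : Fintype (MulChar F ℂ) := Fintype.ofFinite _
  have hodd : Odd (Fintype.card F) := by rw [h3]; decide
  have hF := ringChar_ne_two_of_odd hodd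
  obtain ⟨ε, hε⟩ := FiniteField.exists_nonsquare hF
  have hq : (Fintype.card F : ℂ) = 3 := by rw [h3]; norm_num
  set f : (S2 → ℂ) → ℂ := fun ψ => ψ g * conj (ψ g) with hf
  have hfn : ∀ ψ : S2 → ℂ, f ψ = ((Complex.normSq (ψ g) : ℝ) : ℂ) := fun ψ => Complex.mul_conj _
  -- second orthogonality
  have horth : ∑ ψ : IrrCharacter S2, f (ψ : S2 → ℂ) =
      (Nat.card (Subgroup.centralizer ({g} : Set S2)) : ℂ) := by
    have := sum_irr_mul_conj g g
    rw [if_pos (IsConj.refl g)] at this
    exact this
  have hmaster := irr_sum_decompS (F := F) f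
  -- the principal series part
  have hps : ∑ α : MulChar F ℂ, (if h : α ^ 2 = 1 then
        2 * (f ((pairS α h).1 : S2 → ℂ) + f ((pairS α h).2 : S2 → ℂ)) else f (psS α)) = 4 := by
    rw [Finset.sum_eq_single (1 : MulChar F ℂ)]
    · rw [dif_pos one_sq_mulChar, pairS_one_sum f]
      simp only [hf, trivS, stS_apply, psS_no_eigen _ g hne]
      simp
      norm_num
    · intro α _ hα
      by_cases h2 : α ^ 2 = 1
      · rw [dif_pos h2]
        rcases mulChar_sq_eq_one_odd α h2 with h | h
        · exact absurd h hα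
        · subst h
          obtain ⟨hx1, hx2⟩ := xi_no_eigen hodd g hne
          simp only [hf, hx1, hx2]
          simp
      · rw [dif_neg h2]
        simp only [hf, psS_no_eigen _ g hne]
        simp
    · intro h; exact absurd (Finset.mem_univ _) h
  rw [hps, horth] at hmaster
  -- the cuspidal part
  obtain ⟨_, hB⟩ := cusp_counts_odd hodd (F := F)
  have hsplit : ∑ ψ : IrrCharacter S2, (if IsCuspS (ψ : S2 → ℂ) then f (ψ : S2 → ℂ) else 0) =
      ∑ ψ : IrrCharacter S2, (if IsCuspS (ψ : S2 → ℂ) then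
        (if (ψ : S2 → ℂ) 1 = (Fintype.card F : ℂ) - 1 then f (ψ : S2 → ℂ) else 0) else 0) + 2 := by
    rw [← hB, ← Finset.sum_add_distrib]
    apply Finset.sum_congr rfl
    intro ψ _
    by_cases hcψ : IsCuspS (ψ : S2 → ℂ)
    · simp only [if_pos hcψ]
      by_cases hd : (ψ : S2 → ℂ) 1 = (Fintype.card F : ℂ) - 1
      · simp only [if_pos hd]; ring
      · simp only [if_neg hd]
        rcases cuspS_dichotomy_odd hodd hε _ ψ.2 hcψ with ⟨h, _⟩ | ⟨h, _⟩
        · exact absurd h hd
        · have h1 : (ψ : S2 → ℂ) 1 = 1 := by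
            rw [hq] at h
            linear_combination h / 2
          rw [hfn, normSq_eq_one_of_degree_one (IsIrrCharacter.isCharacter ψ.2) h1]
          simp
    · simp only [if_neg hcψ]; ring
  rw [hsplit] at hmaster
  -- convert to a real sum
  have hreal : ∑ ψ : IrrCharacter S2, (if IsCuspS (ψ : S2 → ℂ) then
        (if (ψ : S2 → ℂ) 1 = (Fintype.card F : ℂ) - 1 then f (ψ : S2 → ℂ) else 0) else 0) =
      ((∑ ψ : IrrCharacter S2, (if IsCuspS (ψ : S2 → ℂ) then
        (if (ψ : S2 → ℂ) 1 = (Fintype.card F : ℂ) - 1 then Complex.normSq ((ψ : S2 → ℂ) g)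
          else 0) else 0) : ℝ) : ℂ) := by
    push_cast
    apply Finset.sum_congr rfl
    intro ψ _
    split_ifs
    · exact hfn _
    · rfl
    · rfl
  rw [hreal] at hmaster
  have hle := card_centralizer_le_four h3 g hne
  have hle' : (Nat.card (Subgroup.centralizer ({g} : Set S2)) : ℝ) ≤ 4 := by exact_mod_cast hle
  have hR : (∑ ψ : IrrCharacter S2, (if IsCuspS (ψ : S2 → ℂ) then
        (if (ψ : S2 → ℂ) 1 = (Fintype.card F : ℂ) - 1 then Complex.normSq ((ψ : S2 → ℂ) g)
          else 0) else 0) : ℝ) = (Nat.card (Subgroup.centralizer ({g} : Set S2)) : ℝ) - 4 := by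
    have : ((∑ ψ : IrrCharacter S2, (if IsCuspS (ψ : S2 → ℂ) then
        (if (ψ : S2 → ℂ) 1 = (Fintype.card F : ℂ) - 1 then Complex.normSq ((ψ : S2 → ℂ) g)
          else 0) else 0) : ℝ) : ℂ) =
        (((Nat.card (Subgroup.centralizer ({g} : Set S2)) : ℝ) - 4 : ℝ) : ℂ) := by
      push_cast
      push_cast at hmaster
      linear_combination -hmaster / 2
    exact_mod_cast this
  have hnonneg : ∀ ψ ∈ (Finset.univ : Finset (IrrCharacter S2)), (0 : ℝ) ≤
      (if IsCuspS (ψ : S2 → ℂ) then
        (if (ψ : S2 → ℂ) 1 = (Fintype.card F : ℂ) - 1 then Complex.normSq ((ψ : S2 → ℂ) g)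
          else 0) else 0) := by
    intro ψ _
    split_ifs
    · exact Complex.normSq_nonneg _
    · exact le_refl _
    · exact le_refl _
  have hzero : (∑ ψ : IrrCharacter S2, (if IsCuspS (ψ : S2 → ℂ) then
        (if (ψ : S2 → ℂ) 1 = (Fintype.card F : ℂ) - 1 then Complex.normSq ((ψ : S2 → ℂ) g)
          else 0) else 0) : ℝ) = 0 := by
    apply le_antisymm
    · rw [hR]; linarith
    · exact Finset.sum_nonneg hnonneg
  have hterm := (Finset.sum_eq_zero_iff_of_nonneg hnonneg).1 hzero ⟨χ, hχ⟩ (Finset.mem_univ _)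
  simp only [] at hterm
  rw [if_pos hc, if_pos hdeg] at hterm
  exact Complex.normSq_eq_zero.1 hterm

end Cfsg.Agent.Helper12
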