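import Mathlib
import Cfsg.Agent.Helper12.SL2Xi
import Cfsg.Agent.Helper12.SL2Tau

set_option autoImplicit false

open scoped ComplexConjugate

namespace Cfsg.Agent.Helper12

open Cfsg Cfsg.Agent.Helper8 Cfsg.Agent.Helper24

variable {F : Type*} [Field F]

local notation "S2" => Matrix.SpecialLinearGroup (Fin 2) F
local notation "G2" => Matrix.GeneralLinearGroup (Fin 2) F

/-- A `GL₂`-conjugate of a non-scalar element of `SL₂` with `tr² ≠ 4` is an
`SL₂`-conjugate. -/
theorem isConj_of_gl2_conj_of_trace [Fintype F] {x : G2} {g h : S2}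
    (hh : Matrix.SpecialLinearGroup.toGL h = x * Matrix.SpecialLinearGroup.toGL g * x⁻¹)
    (hg : ¬ IsScalar2 (g : Matrix (Fin 2) (Fin 2) F))
    (hu : ringChar F = 2 ∨ (g : Matrix (Fin 2) (Fin 2) F).trace ^ 2 ≠ 4) :
    IsConj g h := by
  have hcoe := coe_of_toGL_conj hh
  have hhs : ¬ IsScalar2 (h : Matrix (Fin 2) (Fin 2) F) := by
    intro hs
    obtain ⟨a, ha⟩ := (isScalar2_iff _).1 hs
    apply hg
    rw [isScalar2_iff]
    refine ⟨a, ?_⟩
    have h1 : (g : Matrix (Fin 2) (Fin 2) F) =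
        ((x⁻¹ : G2) : Matrix (Fin 2) (Fin 2) F) * (h : Matrix (Fin 2) (Fin 2) F) *
          (x : Matrix (Fin 2) (Fin 2) F) := by
      rw [hcoe]
      simp only [Matrix.mul_assoc]
      rw [← Units.val_mul, inv_mul_cancel, Units.val_one, Matrix.mul_one, ← Matrix.mul_assoc,
        ← Units.val_mul, inv_mul_cancel, Units.val_one, Matrix.one_mul]
    rw [h1, ha]
    simp only [Matrix.mul_smul, Matrix.smul_mul, Matrix.mul_one]
    rw [← Units.val_mul, inv_mul_cancel, Units.val_one]
  have ht : (g : Matrix (Fin 2) (Fin 2) F).trace = (h : Matrix (Fin 2) (Fin 2) F).trace := by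
    rw [hcoe]
    exact (Matrix.trace_units_conj x _).symm
  exact sl2_isConj_of_trace_eq g h hg hhs ht hu

/-- The two constituents of the principal series of the quadratic character take the value
`sgn a` at `diag(a, a⁻¹)`, `a² ≠ 1`. -/
theorem xi_split [Fintype F] [DecidableEq F] (hodd : Odd (Fintype.card F)) {u : Fˣ}
    (hu : (u : F) ≠ ((u⁻¹ : Fˣ) : F)) :
    ((pairS (sgnC (F := F)) sgnC_sq).1 : S2 → ℂ) (borelMkSL u 0) = sgnC (u : F) ∧
    ((pairS (sgnC (F := F)) sgnC_sq).2 : S2 → ℂ) (borelMkSL u 0) = sgnC (u : F) := by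
  obtain ⟨_, _, x, hx⟩ := pairS_sgn_spec hodd (F := F)
  set g : S2 := borelMkSL u 0 with hgdef
  have hgs : ¬ IsScalar2 (g : Matrix (Fin 2) (Fin 2) F) := by
    intro hs
    apply hu
    have := hs.2.2
    rw [hgdef, borelMkSL_coe] at this
    simpa using this
  have htr : (g : Matrix (Fin 2) (Fin 2) F).trace ^ 2 ≠ 4 := by
    rw [hgdef, borelMkSL_coe, Matrix.trace_fin_two]
    simp only [Matrix.of_apply, Matrix.cons_val', Matrix.cons_val_zero, Matrix.cons_val_one,
      Matrix.cons_val_fin_one]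
    intro h4
    have hprod : (u : F) * ((u⁻¹ : Fˣ) : F) = 1 := by
      rw [← Units.val_mul, mul_inv_cancel, Units.val_one]
    have : ((u : F) - ((u⁻¹ : Fˣ) : F)) ^ 2 = 0 := by
      linear_combination h4 - 4 * hprod
    exact hu (sub_eq_zero.1 ((pow_eq_zero_iff (two_ne_zero)).1 this))
  have hconj := isConj_of_gl2_conj_of_trace (toGL_conjS x g) hgs (Or.inr htr)
  have h2 := hx g (conjS x g) (toGL_conjS x g)
  have hcf : IsClassFunction S2 ((pairS (sgnC (F := F)) sgnC_sq).2 : S2 → ℂ) :=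
    IsCharacter.isClassFunction (IsIrrCharacter.isCharacter (pairS (sgnC (F := F)) sgnC_sq).2.2)
  obtain ⟨c, hc⟩ := isConj_iff.1 hconj
  rw [← hc, hcf] at h2
  have hsum := congrFun (psS_eq_pair (sgnC (F := F)) sgnC_sq) g
  rw [hgdef, psS_split _ hu] at hsum
  simp only [Pi.add_apply] at hsum
  have hinv : sgnC (((u⁻¹ : Fˣ) : F)) = sgnC (u : F) := by
    have h1 : sgnC (u : F) * sgnC (((u⁻¹ : Fˣ) : F)) = 1 := by
      rw [← map_mul, ← Units.val_mul, mul_inv_cancel, Units.val_one, map_one]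
    have h3 : sgnC (u : F) * sgnC (u : F) = 1 := by
      have := congrArg (fun χ : MulChar F ℂ => χ (u : F)) (sgnC_sq (F := F))
      simp only [pow_two, MulChar.mul_apply, MulChar.one_apply_coe] at this
      exact this
    have hne : sgnC (u : F) ≠ 0 := by
      intro h0
      rw [h0, zero_mul] at h3
      exact zero_ne_one h3
    have : sgnC (u : F) * sgnC (((u⁻¹ : Fˣ) : F)) = sgnC (u : F) * sgnC (u : F) := by
      rw [h1, h3]
    exact mul_left_cancel₀ hne this
  rw [hinv] at hsum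
  rw [← hgdef] at hsum
  rw [h2] at hsum
  have h1 : ((pairS (sgnC (F := F)) sgnC_sq).1 : S2 → ℂ) g = sgnC (u : F) := by
    linear_combination -hsum / 2
  exact ⟨h1, by rw [h2, h1]⟩

end Cfsg.Agent.Helper12
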