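import Cfsg.Agent.Helper12.PrimeOrderLinD
import Cfsg.Agent.Helper12.SLCardDvd

set_option autoImplicit false

namespace Cfsg.Agent.Helper12.SLCentUnip

open Matrix Module

variable {F : Type*} [Field F] [Fintype F]

/-- In `SL_n(q)`, `n ≥ 4`: if `Y` of prime order `r` commutes with `X ≠ 1`, `X ^ p = 1`
(`p` the characteristic), then `r` divides `|SL_{n-2}(q)|`. -/
theorem prime_dvd_card_SL_sub_two (p : ℕ) [Fact p.Prime] [CharP F p] (n : ℕ) (hn : 4 ≤ n)
    (X Y : SpecialLinearGroup (Fin n) F) (hXY : Commute X Y) (hX1 : X ≠ 1) (hXp : X ^ p = 1)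
    (r : ℕ) [hr : Fact r.Prime] (hY : orderOf Y = r) :
    r ∣ Nat.card (SpecialLinearGroup (Fin (n - 2)) F) := by
  by_cases hrp : r = p
  · rw [hrp]
    exact SLCardDvd.char_dvd_card_SL p (n - 2) (by omega)
  have hrF : (r : F) ≠ 0 := by
    intro h
    rw [CharP.cast_eq_zero_iff F p] at h
    exact hrp ((Nat.prime_dvd_prime_iff_eq (Fact.out : p.Prime) hr.out).mp h).symm
  have : Nonempty (Fin n) := ⟨⟨0, by omega⟩⟩
  -- the endomorphisms
  let e := Matrix.toLinAlgEquiv' (R := F) (n := Fin n)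
  have hcomm : (X : Matrix (Fin n) (Fin n) F) * (Y : Matrix (Fin n) (Fin n) F) =
      (Y : Matrix (Fin n) (Fin n) F) * (X : Matrix (Fin n) (Fin n) F) := by
    have := congrArg (fun Z : SpecialLinearGroup (Fin n) F => (Z : Matrix (Fin n) (Fin n) F)) hXY.eq
    simpa using this
  have hXp' : (X : Matrix (Fin n) (Fin n) F) ^ p = 1 := by
    have := congrArg (fun Z : SpecialLinearGroup (Fin n) F => (Z : Matrix (Fin n) (Fin n) F)) hXp
    simpa using this
  have hYr : (Y : Matrix (Fin n) (Fin n) F) ^ r = 1 := by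
    have h : Y ^ r = 1 := by rw [← hY]; exact pow_orderOf_eq_one Y
    have := congrArg (fun Z : SpecialLinearGroup (Fin n) F => (Z : Matrix (Fin n) (Fin n) F)) h
    simpa using this
  have hNB : Commute (e ((X : Matrix (Fin n) (Fin n) F) - 1)) (e (Y : Matrix (Fin n) (Fin n) F)) := by
    change e _ * e _ = e _ * e _
    rw [← map_mul, ← map_mul, sub_mul, mul_sub, one_mul, mul_one, hcomm]
  have hN : IsNilpotent (e ((X : Matrix (Fin n) (Fin n) F) - 1)) := by
    refine ⟨p, ?_⟩
    rw [← map_pow, sub_pow_char_of_commute p (Commute.one_right _), hXp', one_pow, sub_self, map_zero]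
  have hN0 : e ((X : Matrix (Fin n) (Fin n) F) - 1) ≠ 0 := by
    intro h
    rw [map_eq_zero_iff e e.injective, sub_eq_zero] at h
    apply hX1
    ext i j
    rw [h]
    rfl
  have hB : e (Y : Matrix (Fin n) (Fin n) F) ^ r = 1 := by
    rw [← map_pow, hYr, map_one]
  have hB1 : e (Y : Matrix (Fin n) (Fin n) F) ≠ 1 := by
    intro h
    rw [← map_one e] at h
    have h' := e.injective h
    have hY1 : Y = 1 := by
      ext i j
      rw [h']
      rfl
    rw [hY1, orderOf_one] at hY
    exact hr.out.ne_one hY.symm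
  have hdim : 4 ≤ finrank F (Fin n → F) := by
    rw [Module.finrank_fin_fun]; exact hn
  obtain ⟨j, hj1, hj2, hj3⟩ := PrimeOrderLin.exists_dvd_pow_sub_one _ _ hNB hN hN0 r hrF hB hB1 hdim
  rw [Module.finrank_fin_fun] at hj2
  exact SLCardDvd.prime_dvd_card_SL_of_dvd_pow_sub_one (n - 2) j r (by omega) hj1 (by omega) hj3

end Cfsg.Agent.Helper12.SLCentUnip
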