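import Mathlib
import Cfsg.Agent.S0780

/-! Two-generation of `SU_n(q)`: membership framework, transvection centres of a subgroup. -/

set_option autoImplicit false

namespace Cfsg.Agent.Helper12.SUTwo

open Matrix Module Cfsg.Agent.S2644 Cfsg.Agent.Helper2.SUGen

variable {K : Type*} [Field K] {q n : ℕ}

local notation "h" => Cfsg.hermForm n K q
local notation "T" => Cfsg.unitaryTransvection n q

/-- the matrix `M` is the matrix of an element of `H` -/
def InH (H : Subgroup ↥(Cfsg.SU n K q)) (M : Matrix (Fin n) (Fin n) K) : Prop :=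
  ∃ g ∈ H, toM K n q g = M

theorem InH.pres {H : Subgroup ↥(Cfsg.SU n K q)} {M : Matrix (Fin n) (Fin n) K} (hM : InH H M) :
    Pres (q := q) M := by
  obtain ⟨g, -, rfl⟩ := hM
  exact toM_pres g

theorem InH.det {H : Subgroup ↥(Cfsg.SU n K q)} {M : Matrix (Fin n) (Fin n) K} (hM : InH H M) :
    M.det = 1 := by
  obtain ⟨g, -, rfl⟩ := hM
  exact g.1.2

theorem InH.mul {H : Subgroup ↥(Cfsg.SU n K q)} {M M' : Matrix (Fin n) (Fin n) K} (hM : InH H M)
    (hM' : InH H M') : InH H (M * M') := by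
  obtain ⟨g, hg, rfl⟩ := hM
  obtain ⟨g', hg', rfl⟩ := hM'
  exact ⟨g * g', H.mul_mem hg hg', map_mul _ _ _⟩

theorem InH.one (H : Subgroup ↥(Cfsg.SU n K q)) : InH H (1 : Matrix (Fin n) (Fin n) K) :=
  ⟨1, H.one_mem, map_one _⟩

theorem InH.pow {H : Subgroup ↥(Cfsg.SU n K q)} {M : Matrix (Fin n) (Fin n) K} (hM : InH H M)
    (k : ℕ) : InH H (M ^ k) := by
  obtain ⟨g, hg, rfl⟩ := hM
  exact ⟨g ^ k, H.pow_mem hg k, map_pow _ _ _⟩

theorem InH.exists_inv {H : Subgroup ↥(Cfsg.SU n K q)} {M : Matrix (Fin n) (Fin n) K}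
    (hM : InH H M) : ∃ M', InH H M' ∧ M * M' = 1 ∧ M' * M = 1 := by
  obtain ⟨g, hg, rfl⟩ := hM
  refine ⟨toM K n q g⁻¹, ⟨g⁻¹, H.inv_mem hg, rfl⟩, ?_, ?_⟩
  · rw [← map_mul, mul_inv_cancel, map_one]
  · rw [← map_mul, inv_mul_cancel, map_one]

theorem InH.of_mul_eq_one {H : Subgroup ↥(Cfsg.SU n K q)} {M M' : Matrix (Fin n) (Fin n) K}
    (hM : InH H M) (h1 : M * M' = 1) : InH H M' := by
  obtain ⟨M'', hM'', -, h3⟩ := hM.exists_inv
  have : M' = M'' := by
    calc M' = (M'' * M) * M' := by rw [h3, Matrix.one_mul]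
      _ = M'' := by rw [Matrix.mul_assoc, h1, Matrix.mul_one]
  rw [this]
  exact hM''

theorem InH.of_mk {H : Subgroup ↥(Cfsg.SU n K q)} {M : Matrix (Fin n) (Fin n) K}
    (hdet : M.det = 1) (hP : Pres (q := q) M) (hm : mkSU M hdet hP ∈ H) : InH H M :=
  ⟨_, hm, rfl⟩

theorem inH_toM {H : Subgroup ↥(Cfsg.SU n K q)} {g : ↥(Cfsg.SU n K q)} :
    InH H (toM K n q g) ↔ g ∈ H := by
  constructor
  · rintro ⟨g', hg', he⟩
    rw [← toM_injective he]
    exact hg'
  · intro hg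
    exact ⟨g, hg, rfl⟩

theorem InH.mono {H H' : Subgroup ↥(Cfsg.SU n K q)} (hle : H ≤ H')
    {M : Matrix (Fin n) (Fin n) K} (hM : InH H M) : InH H' M := by
  obtain ⟨g, hg, rfl⟩ := hM
  exact ⟨g, hle hg, rfl⟩

variable (D : Frob K q)

/-- the centres of the full unitary transvection groups contained in `H` -/
def TS (H : Subgroup ↥(Cfsg.SU n K q)) : Set (Fin n → K) :=
  {v | Cfsg.hermForm n K q v v = 0 ∧ ∀ c, D.σ c = -c → InH H (Cfsg.unitaryTransvection n q v c)}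

include D in
theorem pres_T {v : Fin n → K} (hvv : h v v = 0) {c : K} (hc : D.σ c = -c) :
    Pres (q := q) (T v c) :=
  Cfsg.Agent.S0781.Pres_T D.σ D.pow D.invol v c hvv (by rw [← D.pow]; exact hc)

theorem TS.iso {H : Subgroup ↥(Cfsg.SU n K q)} {v : Fin n → K} (hv : v ∈ TS D H) : h v v = 0 := hv.1

theorem zero_mem_TS (H : Subgroup ↥(Cfsg.SU n K q)) : (0 : Fin n → K) ∈ TS D H := by
  refine ⟨h_zero_left 0, fun c _ => ?_⟩
  rw [Cfsg.Agent.S0781.T_zero_vec]
  exact InH.one H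

theorem TS.smul {H : Subgroup ↥(Cfsg.SU n K q)} {v : Fin n → K} (hv : v ∈ TS D H) (l : K) :
    l • v ∈ TS D H := by
  refine ⟨?_, fun c hc => ?_⟩
  · rw [h_smul_left, h_smul_right D, hv.1, mul_zero, mul_zero]
  · rw [T_smul]
    apply hv.2
    rw [map_mul, hc, pow_succ, map_mul, ← D.pow l, D.invol, D.pow l]
    ring

theorem TS.map {H : Subgroup ↥(Cfsg.SU n K q)} {v : Fin n → K} (hv : v ∈ TS D H)
    {G : Matrix (Fin n) (Fin n) K} (hG : InH H G) : G *ᵥ v ∈ TS D H := by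
  refine ⟨?_, fun c hc => ?_⟩
  · rw [hG.pres, hv.1]
  · obtain ⟨G', hG', h1, h2⟩ := hG.exists_inv
    have e : T (G *ᵥ v) c = G * T v c * G' := by
      rw [T_conj G hG.pres, Matrix.mul_assoc, h1, Matrix.mul_one]
    rw [e]
    exact (hG.mul (hv.2 c hc)).mul hG'

theorem TS.of_map {H : Subgroup ↥(Cfsg.SU n K q)} {v : Fin n → K}
    {G : Matrix (Fin n) (Fin n) K} (hG : InH H G) (hv : G *ᵥ v ∈ TS D H) : v ∈ TS D H := by
  obtain ⟨G', hG', h1, h2⟩ := hG.exists_inv
  have := TS.map D hv hG'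
  rwa [Matrix.mulVec_mulVec, h2, Matrix.one_mulVec] at this

/-- a subgroup containing all unitary transvections is everything -/
theorem eq_top_of_TS [Fintype K] (hK : Fintype.card K = q ^ 2) (hn : 3 ≤ n)
    (h32 : ¬ (n = 3 ∧ q = 2)) (H : Subgroup ↥(Cfsg.SU n K q))
    (hall : ∀ v : Fin n → K, h v v = 0 → v ∈ TS D H) : H = ⊤ := by
  rw [eq_top_iff, ← Cfsg.Agent.S0780.result hK n hn h32, Subgroup.closure_le]
  rintro A ⟨v, c, hvv, hA⟩
  by_cases hv0 : v = 0
  · have : A = 1 := by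
      apply toM_injective
      change ((A : Matrix.SpecialLinearGroup (Fin n) K) : Matrix (Fin n) (Fin n) K) = _
      rw [hA, hv0, Cfsg.Agent.S0781.T_zero_vec, map_one]
    rw [this]
    exact H.one_mem
  · have hP : Pres (q := q) (T v c) := by
      have := toM_pres A
      change Pres (q := q) ((A : Matrix.SpecialLinearGroup (Fin n) K) : Matrix (Fin n) (Fin n) K) at this
      rwa [hA] at this
    have hc : D.σ c = -c := by
      rw [D.pow]
      exact Cfsg.Agent.S0781.skew_of_Pres D.σ D.pow D.invol v c hv0 hvv hP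
    have := (hall v hvv).2 c hc
    rw [← hA] at this
    exact inH_toM.mp this

end Cfsg.Agent.Helper12.SUTwo
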