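import Mathlib
import Cfsg.Agent.Helper12.SUTwoA

/-! Two-generation of `SU_n(q)`: hyperbolic lines, the special unitary group of a hyperbolic plane. -/

set_option autoImplicit false

namespace Cfsg.Agent.Helper12.SUTwo

open Matrix Module Cfsg.Agent.S2644 Cfsg.Agent.Helper2.SUGen

variable {K : Type*} [Field K] {q n : ℕ}

local notation "h" => Cfsg.hermForm n K q
local notation "T" => Cfsg.unitaryTransvection n q

variable (D : Frob K q)

/-- products of transvections with centres in `Y` lie in `H` when the isotropic vectors of `Y` are centres -/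
theorem TT_inH {H : Subgroup ↥(Cfsg.SU n K q)} {Y : Submodule K (Fin n → K)}
    (hY : ∀ x ∈ Y, h x x = 0 → x ∈ TS D H) {M : Matrix (Fin n) (Fin n) K} (hM : M ∈ TT D Y) :
    InH H M := by
  induction hM using Submonoid.closure_induction with
  | mem M hM =>
    obtain ⟨x, c, hx, hxx, hc, rfl⟩ := hM
    exact (hY x hx hxx).2 c hc
  | one => exact InH.one H
  | mul A B _ _ hA hB => exact hA.mul hB

/-- the set of centres is closed under hyperbolic lines -/
theorem TS.line {H : Subgroup ↥(Cfsg.SU n K q)} {u v : Fin n → K} (hu : u ∈ TS D H)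
    (hv : v ∈ TS D H) (huv : h u v ≠ 0) {x : Fin n → K}
    (hx : x ∈ Submodule.span K ({u, v} : Set (Fin n → K))) (hxx : h x x = 0) : x ∈ TS D H := by
  obtain ⟨a, b, rfl⟩ := Submodule.mem_span_pair.mp hx
  by_cases ha : a = 0
  · rw [ha, zero_smul, zero_add]
    exact TS.smul D hv b
  set β := h u v with hβ
  have hvu : h v u = D.σ β := (h_conj D v u).symm
  have hσa : D.σ a ≠ 0 := σ_ne_zero D ha
  have hσβ : D.σ β ≠ 0 := σ_ne_zero D huv
  have hrel : a * D.σ b * β + b * D.σ a * D.σ β = 0 := by
    have := hxx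
    simp only [h_add_left, h_smul_left, h_add_right D, h_smul_right D, hu.1, hv.1, hvu, ← hβ] at this
    linear_combination this
  set c' := b / a / β with hc'
  have hskew : D.σ c' = -c' := by
    rw [hc', map_div₀, map_div₀]
    field_simp
    linear_combination hrel
  have e1 : T v c' *ᵥ u = u + (b / a) • v := by
    rw [T_mulVec, ← hβ, hc', div_mul_cancel₀ _ huv]
  have h1 : u + (b / a) • v ∈ TS D H := by
    rw [← e1]
    exact TS.map D hu (hv.2 c' hskew)
  have e2 : a • u + b • v = a • (u + (b / a) • v) := by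
    rw [smul_add, smul_smul, mul_div_cancel₀ _ ha]
  rw [e2]
  exact TS.smul D h1 a

/-- the special unitary group of the plane spanned by two non-orthogonal centres lies in `H` -/
theorem plane_inH {H : Subgroup ↥(Cfsg.SU n K q)} {u v : Fin n → K} (hu : u ∈ TS D H)
    (hv : v ∈ TS D H) (huv : h u v ≠ 0) {M : Matrix (Fin n) (Fin n) K} (hP : Pres (q := q) M)
    (hdet : M.det = 1) (hfix : ∀ z, h z u = 0 → h z v = 0 → M *ᵥ z = z) : InH H M := by
  set β := h u v with hβ
  have hσβ : D.σ β ≠ 0 := σ_ne_zero D huv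
  set v' := (D.σ β)⁻¹ • v with hv'
  have hv'T : v' ∈ TS D H := TS.smul D hv _
  have hvu : h v u = D.σ β := (h_conj D v u).symm
  have P : HypPair q u v' := by
    refine ⟨hu.1, hv'T.1, ?_, ?_⟩
    · rw [hv', h_smul_right D, map_inv₀, D.invol, ← hβ, inv_mul_cancel₀ huv]
    · rw [hv', h_smul_left, hvu, inv_mul_cancel₀ hσβ]
  have hline : ∀ x ∈ Submodule.span K ({u, v'} : Set (Fin n → K)), h x x = 0 → x ∈ TS D H := by
    intro x hx hxx
    exact TS.line D hu hv'T (by rw [P.huv]; exact one_ne_zero) hx hxx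
  apply TT_inH D hline
  apply plane_gen D P hP hdet
  intro z h1 h2
  apply hfix z h1
  have : h z v' = (D.σ (D.σ β))⁻¹ * h z v := by rw [hv', h_smul_right D, map_inv₀]
  rw [this] at h2
  rcases mul_eq_zero.mp h2 with h3 | h3
  · rw [D.invol] at h3
    exact absurd (inv_eq_zero.mp h3) huv
  · exact h3

end Cfsg.Agent.Helper12.SUTwo
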