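import Mathlib
import Cfsg.Agent.Helper12.SUTwoB

/-! Two-generation of `SU_n(q)`: the block embedding `SU_k → SU_{k+m}`. -/

set_option autoImplicit false

namespace Cfsg.Agent.Helper12.SUTwo

open Matrix Module Cfsg.Agent.S2644 Cfsg.Agent.Helper2.SUGen

variable {K : Type*} [Field K] {q k m : ℕ}

/-- the block matrix `M ⊕ 1` -/
def emb (m : ℕ) (M : Matrix (Fin k) (Fin k) K) : Matrix (Fin (k + m)) (Fin (k + m)) K :=
  Matrix.reindex finSumFinEquiv finSumFinEquiv (Matrix.fromBlocks M 0 0 1)

/-- the first `k` coordinates -/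
def headV (m : ℕ) (x : Fin (k + m) → K) : Fin k → K := fun i => x (Fin.castAdd m i)

/-- the last `m` coordinates -/
def tailV (k : ℕ) (x : Fin (k + m) → K) : Fin m → K := fun j => x (Fin.natAdd k j)

/-- padding by zeros -/
def padV (m : ℕ) (v : Fin k → K) : Fin (k + m) → K := Fin.append v 0

theorem headV_padV (v : Fin k → K) : headV m (padV m v) = v := by
  funext i
  simp [headV, padV]

theorem tailV_padV (v : Fin k → K) : tailV k (padV m v) = 0 := by
  funext j
  simp [tailV, padV]

theorem vec_ext {x y : Fin (k + m) → K} (h1 : headV m x = headV m y) (h2 : tailV k x = tailV k y) :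
    x = y := by
  funext i
  refine Fin.addCases (fun i' => ?_) (fun j => ?_) i
  · exact congrFun h1 i'
  · exact congrFun h2 j

theorem headV_emb (M : Matrix (Fin k) (Fin k) K) (x : Fin (k + m) → K) :
    headV m (emb m M *ᵥ x) = M *ᵥ headV m x := by
  funext i
  unfold emb headV
  rw [Matrix.reindex_apply, Matrix.submatrix_mulVec_equiv, Function.comp_apply,
    finSumFinEquiv_symm_apply_castAdd, Matrix.fromBlocks_mulVec]
  simp only [Sum.elim_inl, Pi.add_apply, Matrix.zero_mulVec, Pi.zero_apply, add_zero]
  rfl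

theorem tailV_emb (M : Matrix (Fin k) (Fin k) K) (x : Fin (k + m) → K) :
    tailV k (emb m M *ᵥ x) = tailV k x := by
  funext j
  unfold emb tailV
  rw [Matrix.reindex_apply, Matrix.submatrix_mulVec_equiv, Function.comp_apply,
    finSumFinEquiv_symm_apply_natAdd, Matrix.fromBlocks_mulVec]
  simp only [Sum.elim_inr, Pi.add_apply, Matrix.zero_mulVec, Pi.zero_apply, zero_add,
    Matrix.one_mulVec]
  rfl

theorem herm_split (x y : Fin (k + m) → K) :
    Cfsg.hermForm (k + m) K q x y =
      Cfsg.hermForm k K q (headV m x) (headV m y) + Cfsg.hermForm m K q (tailV k x) (tailV k y) := by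
  unfold Cfsg.hermForm headV tailV
  rw [Fin.sum_univ_add]

theorem pres_emb {M : Matrix (Fin k) (Fin k) K} (hM : Pres (q := q) M) :
    Pres (q := q) (emb m M) := by
  intro x y
  rw [herm_split, herm_split x y, headV_emb, headV_emb, tailV_emb, tailV_emb, hM]

theorem pres_of_emb {M : Matrix (Fin k) (Fin k) K} (hM : Pres (q := q) (emb m M)) :
    Pres (q := q) M := by
  intro x y
  have := hM (padV m x) (padV m y)
  rw [herm_split, herm_split (padV m x), headV_emb, headV_emb, tailV_emb, tailV_emb, headV_padV,
    headV_padV, tailV_padV, tailV_padV] at this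
  have h0 : Cfsg.hermForm m K q (0 : Fin m → K) 0 = 0 := h_zero_left 0
  rw [h0, add_zero, add_zero] at this
  exact this

theorem det_emb (M : Matrix (Fin k) (Fin k) K) : (emb m M).det = M.det := by
  unfold emb
  rw [Matrix.det_reindex_self, Matrix.det_fromBlocks_zero₂₁, Matrix.det_one, mul_one]

theorem emb_mul (A B : Matrix (Fin k) (Fin k) K) : emb m (A * B) = emb m A * emb m B := by
  unfold emb
  rw [Matrix.reindex_apply, Matrix.reindex_apply, Matrix.reindex_apply, Matrix.submatrix_mul_equiv,
    Matrix.fromBlocks_multiply]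
  simp

theorem emb_one : emb m (1 : Matrix (Fin k) (Fin k) K) = 1 := by
  unfold emb
  rw [Matrix.fromBlocks_one]
  simp

theorem emb_T (D : Frob K q) (v : Fin k → K) (c : K) :
    emb m (Cfsg.unitaryTransvection k q v c) = Cfsg.unitaryTransvection (k + m) q (padV m v) c := by
  apply mat_ext
  intro x
  have h0 : Cfsg.hermForm m K q (tailV k x) 0 = 0 := h_zero_right D _
  apply vec_ext
  · rw [headV_emb, T_mulVec, T_mulVec, herm_split, headV_padV, tailV_padV, h0, add_zero]
    funext i
    simp [headV, padV]
  · rw [tailV_emb, T_mulVec]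
    funext j
    simp [tailV, padV]

/-- the standard basis vector -/
def eb (n : ℕ) (i : Fin n) : Fin n → K := Pi.single i 1

theorem headV_eb_natAdd (j : Fin m) : headV m (eb (K := K) (k + m) (Fin.natAdd k j)) = 0 := by
  funext i
  simp [headV, eb, Pi.single_apply, Fin.ext_iff]
  omega

theorem emb_eb_natAdd (M : Matrix (Fin k) (Fin k) K) (j : Fin m) :
    emb m M *ᵥ eb (k + m) (Fin.natAdd k j) = eb (k + m) (Fin.natAdd k j) := by
  apply vec_ext
  · rw [headV_emb, headV_eb_natAdd, Matrix.mulVec_zero]
  · rw [tailV_emb]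

/-- a form preserving matrix fixing the last `m` basis vectors is a block matrix -/
theorem eq_emb (D : Frob K q) {M : Matrix (Fin (k + m)) (Fin (k + m)) K} (hP : Pres (q := q) M)
    (hfix : ∀ j : Fin m, M *ᵥ eb (k + m) (Fin.natAdd k j) = eb (k + m) (Fin.natAdd k j)) :
    M = emb m (M.submatrix (Fin.castAdd m) (Fin.castAdd m)) := by
  have hcol : ∀ (i : Fin (k + m)) (j : Fin m), M i (Fin.natAdd k j) =
      (1 : Matrix (Fin (k + m)) (Fin (k + m)) K) i (Fin.natAdd k j) := by
    intro i j
    have := congrFun (hfix j) i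
    rw [eb, Matrix.mulVec_single_one] at this
    rw [Matrix.one_apply, ← Pi.single_apply]
    simpa using this
  have hrow : ∀ (j : Fin m) (i : Fin k), M (Fin.natAdd k j) (Fin.castAdd m i) = 0 := by
    intro j i
    have h1 := hP (eb (k + m) (Fin.castAdd m i)) (eb (k + m) (Fin.natAdd k j))
    rw [hfix j] at h1
    unfold eb at h1
    rw [herm_single_right D.σ D.pow, herm_single_right D.σ D.pow, Matrix.mulVec_single_one] at h1
    simp only [Matrix.col_apply, Pi.single_apply] at h1
    rw [h1, if_neg]
    intro he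
    have := congrArg Fin.val he
    simp at this
    omega
  ext i j
  unfold emb
  rw [Matrix.reindex_apply, Matrix.submatrix_apply]
  refine Fin.addCases (fun i' => ?_) (fun i' => ?_) i <;>
    refine Fin.addCases (fun j' => ?_) (fun j' => ?_) j
  · simp
  · rw [hcol]
    simp [Matrix.one_apply, Fin.ext_iff]
    omega
  · rw [hrow]
    simp
  · rw [hcol]
    simp [Matrix.one_apply, Fin.ext_iff]

end Cfsg.Agent.Helper12.SUTwo
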