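import Mathlib
import Cfsg.Agent.Helper12.SUTwoC

/-! Two-generation of `SU_n(q)`: blocks, coordinate subspaces, transitivity on vectors of equal norm. -/

set_option autoImplicit false

namespace Cfsg.Agent.Helper12.SUTwo

open Matrix Module Cfsg.Agent.S2644 Cfsg.Agent.Helper2.SUGen

variable {K : Type*} [Field K] {q n : ℕ}

local notation "h" => Cfsg.hermForm n K q
local notation "T" => Cfsg.unitaryTransvection n q

/-- the special unitary group of the first `k` coordinates lies in `H` -/
def Blk (H : Subgroup ↥(Cfsg.SU n K q)) (k : ℕ) : Prop :=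
  ∀ M : Matrix (Fin n) (Fin n) K, Pres (q := q) M → M.det = 1 →
    (∀ i : Fin n, k ≤ i.val → M *ᵥ eb n i = eb n i) → InH H M

variable (D : Frob K q)

theorem blk_of_TS_add [Fintype K] (hK : Fintype.card K = q ^ 2) {k m : ℕ} (hk : 3 ≤ k)
    (h32 : ¬ (k = 3 ∧ q = 2)) (H : Subgroup ↥(Cfsg.SU (k + m) K q))
    (hTS : ∀ v : Fin k → K, Cfsg.hermForm k K q v v = 0 → padV m v ∈ TS D H) : Blk H k := by
  intro M hP hdet hfix
  have hM := eq_emb D hP (fun j => hfix (Fin.natAdd k j) (by simp))
  set M0 := M.submatrix (Fin.castAdd m) (Fin.castAdd m) with hM0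
  have hP0 : Pres (q := q) M0 := pres_of_emb (m := m) (by rw [← hM]; exact hP)
  have hdet0 : M0.det = 1 := by rw [← det_emb (m := m), ← hM, hdet]
  have key : ∀ g : ↥(Cfsg.SU k K q), InH H (emb m (toM K k q g)) := by
    intro g
    have hg : g ∈ (⊤ : Subgroup ↥(Cfsg.SU k K q)) := Subgroup.mem_top g
    rw [← Cfsg.Agent.S0780.result hK k hk h32] at hg
    induction hg using Subgroup.closure_induction with
    | mem A hA =>
      obtain ⟨v, c, hvv, hA⟩ := hA
      have hA' : toM K k q A = Cfsg.unitaryTransvection k q v c := hA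
      rw [hA', emb_T D]
      by_cases hv0 : v = 0
      · have : padV m v = 0 := by
          rw [hv0]
          apply vec_ext
          · rw [headV_padV]; rfl
          · rw [tailV_padV]; rfl
        rw [this, Cfsg.Agent.S0781.T_zero_vec]
        exact InH.one H
      · have hPA : Pres (q := q) (Cfsg.unitaryTransvection k q v c) := by
          rw [← hA']; exact toM_pres A
        have hc : D.σ c = -c := by
          rw [D.pow]
          exact Cfsg.Agent.S0781.skew_of_Pres D.σ D.pow D.invol v c hv0 hvv hPA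
        exact (hTS v hvv).2 c hc
    | one => rw [map_one, emb_one]; exact InH.one H
    | mul A B _ _ hA hB => rw [map_mul, emb_mul]; exact hA.mul hB
    | inv A _ hA =>
      apply hA.of_mul_eq_one
      rw [← emb_mul, ← map_mul, mul_inv_cancel, map_one, emb_one]
  have := key (mkSU M0 hdet0 hP0)
  rw [toM_mkSU, ← hM] at this
  exact this

theorem blk_of_TS [Fintype K] (hK : Fintype.card K = q ^ 2) {k : ℕ} (hk : 3 ≤ k) (hkn : k ≤ n)
    (h32 : ¬ (k = 3 ∧ q = 2)) (H : Subgroup ↥(Cfsg.SU n K q))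
    (hTS : ∀ v : Fin n → K, h v v = 0 → (∀ i : Fin n, k ≤ i.val → v i = 0) → v ∈ TS D H) :
    Blk H k := by
  obtain ⟨m, rfl⟩ := Nat.exists_eq_add_of_le hkn
  apply blk_of_TS_add D hK hk h32
  intro v hvv
  apply hTS
  · rw [herm_split, headV_padV, tailV_padV, hvv, h_zero_left, add_zero]
  · intro i hi
    have : i = Fin.natAdd k ⟨i.val - k, by omega⟩ := by
      apply Fin.ext
      simp
      omega
    rw [this]
    exact congrFun (tailV_padV (m := m) v) _

/-! ### coordinate subspaces -/

/-- the span of the first `k` basis vectors -/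
def Yk (K : Type*) [Field K] (n k : ℕ) : Submodule K (Fin n → K) where
  carrier := {x | ∀ i : Fin n, k ≤ i.val → x i = 0}
  add_mem' := by
    intro a b ha hb i hi
    rw [Pi.add_apply, ha i hi, hb i hi, add_zero]
  zero_mem' := by
    intro i _
    rfl
  smul_mem' := by
    intro c a ha i hi
    rw [Pi.smul_apply, ha i hi, smul_zero]

theorem mem_Yk {k : ℕ} {x : Fin n → K} : x ∈ Yk K n k ↔ ∀ i : Fin n, k ≤ i.val → x i = 0 := Iff.rfl

theorem eb_mem_Yk {k : ℕ} {i : Fin n} (hi : i.val < k) : eb n i ∈ Yk K n k := by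
  intro j hj
  unfold eb
  rw [Pi.single_apply, if_neg]
  intro he
  rw [he] at hj
  omega

include D in
theorem h_eb_right (v : Fin n → K) (i : Fin n) : h v (eb n i) = v i :=
  herm_single_right D.σ D.pow v i

include D in
theorem h_eb_left (v : Fin n → K) (i : Fin n) : h (eb n i) v = D.σ (v i) := by
  rw [← h_conj D, h_eb_right D]

include D in
theorem nonDeg_Yk (k : ℕ) : NonDeg q (Yk K n k) := by
  intro y hy hall
  funext i
  by_cases hi : i.val < k
  · have := hall (eb n i) (eb_mem_Yk hi)
    rwa [h_eb_right D] at this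
  · exact hy i (by omega)

theorem finrank_Yk {k : ℕ} (hk : 3 ≤ k) (hkn : k ≤ n) : 3 ≤ finrank K (Yk K n k) := by
  classical
  let e3 : Fin 3 → Fin n := fun j => ⟨j.val, by omega⟩
  have he3 : Function.Injective e3 := by
    intro a b hab
    apply Fin.ext
    have := congrArg Fin.val hab
    simpa [e3] using this
  let f : Fin 3 → Yk K n k := fun j => ⟨eb n (e3 j), eb_mem_Yk (by simp [e3]; omega)⟩
  have hli : LinearIndependent K f := by
    apply LinearIndependent.of_comp (Yk K n k).subtype
    have : (Yk K n k).subtype ∘ f = (Pi.basisFun K (Fin n)) ∘ e3 := by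
      funext j
      simp [f, eb, Pi.basisFun_apply]
    rw [this]
    exact (Pi.basisFun K (Fin n)).linearIndependent.comp e3 he3
  have := hli.fintype_card_le_finrank
  simpa using this

/-! ### transitivity on vectors of equal norm -/

include D in
theorem trans_aniso_vec [Finite K] {Y : Submodule K (Fin n → K)} (hY : NonDeg q Y)
    (hd : 3 ≤ finrank K Y) {y y' : Fin n → K} (hy : y ∈ Y) (hy' : y' ∈ Y)
    (hN : h y y ≠ 0) (hNN : h y' y' = h y y) : ∃ t ∈ Gen D Y, t *ᵥ y = y' := by
  set c := h y y with hc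
  obtain ⟨l, hl⟩ := exists_trace D c (h_self_fix D y)
  have hl0 : l ≠ 0 := by
    rintro rfl
    rw [map_zero, add_zero] at hl
    exact hN hl.symm
  -- a hyperbolic pair adapted to a vector of norm `c`
  have key : ∀ z ∈ Y, h z z = c → ∃ u ∈ Y, ∃ v ∈ Y, h u u = 0 ∧ h v v = 0 ∧ h v u = 1 ∧
      z = u + l • v := by
    intro z hz hzz
    have hz0 : z ≠ 0 := by
      rintro rfl
      rw [h_zero_left] at hzz
      exact hN hzz.symm
    obtain ⟨x, hx, hxx, hβ⟩ := exists_iso_pair D hY hz hz0 (exists_not_smul (by omega) z)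
    set β := h z x with hβdef
    have hxz : h x z = D.σ β := (h_conj D x z).symm
    have hσβ : D.σ β ≠ 0 := σ_ne_zero D hβ
    set a := D.σ (l / β) with ha
    have hσa : D.σ a = l / β := by rw [ha, D.invol]
    set u := a • x with hu
    set v := l⁻¹ • (z - u) with hv
    have huu : h u u = 0 := by rw [hu, h_smul_left, h_smul_right D, hxx, mul_zero, mul_zero]
    have hzu : h z u = l := by rw [hu, h_smul_right D, hσa, ← hβdef, div_mul_cancel₀ _ hβ]
    have huz : h u z = D.σ l := by rw [← h_conj D, hzu]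
    refine ⟨u, Y.smul_mem _ hx, v, Y.smul_mem _ (Y.sub_mem hz (Y.smul_mem _ hx)), huu, ?_, ?_, ?_⟩
    · rw [hv, h_smul_left, h_smul_right D, h_sub_left, h_sub_right D, h_sub_right D, hzz, hzu, huz,
        huu]
      have : c - l - (D.σ l - 0) = 0 := by rw [← hl]; ring
      rw [this, mul_zero, mul_zero]
    · rw [hv, h_smul_left, h_sub_left, hzu, huu, sub_zero, inv_mul_cancel₀ hl0]
    · rw [hv, smul_smul, mul_inv_cancel₀ hl0, one_smul]
      abel
  obtain ⟨u, hu, v, hv, huu, hvv, hvu, rfl⟩ := key y hy rfl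
  obtain ⟨u', hu', v', hv', huu', hvv', hvu', rfl⟩ := key y' hy' hNN
  obtain ⟨t, ht, htu, htv⟩ := trans_pair D hY hd hu hv hu' hv' huu hvv hvu huu' hvv' hvu'
  exact ⟨t, ht, by rw [mulVec_add, mulVec_smul, htu, htv]⟩

include D in
theorem trans_vec [Finite K] {Y : Submodule K (Fin n → K)} (hY : NonDeg q Y)
    (hd : 3 ≤ finrank K Y) {y y' : Fin n → K} (hy : y ∈ Y) (hy' : y' ∈ Y) (hy0 : y ≠ 0)
    (hy0' : y' ≠ 0) (hNN : h y' y' = h y y) : ∃ t ∈ Gen D Y, t *ᵥ y = y' := by
  by_cases hN : h y y = 0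
  · exact trans_iso D hY hd hy hy' hN (by rw [hNN, hN]) hy0 hy0'
  · exact trans_aniso_vec D hY hd hy hy' hN hNN

end Cfsg.Agent.Helper12.SUTwo
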