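import Mathlib
import Cfsg.Agent.Helper12.SUTwoD

/-! Two-generation of `SU_n(q)`: the sweep lemma. -/

set_option autoImplicit false

namespace Cfsg.Agent.Helper12.SUTwo

open Matrix Module Cfsg.Agent.S2644 Cfsg.Agent.Helper2.SUGen

variable {K : Type*} [Field K] {q n : ℕ}

local notation "h" => Cfsg.hermForm n K q
local notation "T" => Cfsg.unitaryTransvection n q

variable (D : Frob K q)

/-- cutting a vector to its first `k` coordinates -/
def cutV (k : ℕ) (v : Fin n → K) : Fin n → K := fun i => if i.val < k then v i else 0

theorem cutV_mem (k : ℕ) (v : Fin n → K) : cutV k v ∈ Yk K n k := by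
  intro i hi
  unfold cutV
  rw [if_neg (by omega)]

include D in
theorem h_eq_zero_of_disjoint {x y : Fin n → K} (hxy : ∀ i, x i = 0 ∨ y i = 0) : h x y = 0 := by
  unfold Cfsg.hermForm
  apply Finset.sum_eq_zero
  intro i _
  rcases hxy i with h0 | h0
  · rw [h0, zero_mul]
  · rw [h0, ← D.pow, map_zero, mul_zero]

include D in
theorem T_inH_of_blk {H : Subgroup ↥(Cfsg.SU n K q)} {k : ℕ} (hB : Blk H k) {v : Fin n → K}
    (hv : v ∈ Yk K n k) (hvv : h v v = 0) : v ∈ TS D H := by
  refine ⟨hvv, fun c hc => ?_⟩
  apply hB _ (pres_T D hvv hc) (Cfsg.Agent.S0781.det_T v c hvv)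
  intro i hi
  rw [T_mulVec, h_eb_left D, hv i hi, map_zero, mul_zero, zero_smul, add_zero]

include D in
theorem gen_inH_of_blk {H : Subgroup ↥(Cfsg.SU n K q)} {k : ℕ} (hB : Blk H k)
    {t : Matrix (Fin n) (Fin n) K} (ht : t ∈ Gen D (Yk K n k)) : InH H t := by
  apply hB t (Gen_pres D ht) (Gen_det D ht)
  intro i hi
  apply Gen_fix D ht
  intro y hy
  rw [h_eb_left D, hy i hi, map_zero]

include D in
/-- the sweep lemma: the special unitary group of the first `k ≥ 3` coordinates and a monomial
`n`-cycle generate `SU_n(q)` -/
theorem sweep [Fintype K] (hK : Fintype.card K = q ^ 2) (hn : 3 ≤ n) (h32 : ¬ (n = 3 ∧ q = 2))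
    {k : ℕ} (hk : 3 ≤ k) (hkn : k ≤ n) (H : Subgroup ↥(Cfsg.SU n K q)) (hB : Blk H k)
    {R : Matrix (Fin n) (Fin n) K} (hR : InH H R) (d : Fin n → K) (s : Fin n → Fin n)
    (hs1 : ∀ i : Fin n, i.val + 1 < n → (s i).val = i.val + 1)
    (hs2 : ∀ i : Fin n, i.val + 1 = n → (s i).val = 0)
    (hRx : ∀ (x : Fin n → K) (i : Fin n), (R *ᵥ x) i = d i * x (s i)) : H = ⊤ := by
  have hfin : Finite K := Finite.of_fintype K
  apply eq_top_of_TS D hK hn h32
  have i0 : Fin n := ⟨0, by omega⟩
  have claim : ∀ j, k ≤ j → j ≤ n → ∀ v : Fin n → K, h v v = 0 →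
      (∀ i : Fin n, j ≤ i.val → v i = 0) → v ∈ TS D H := by
    intro j hj
    induction j, hj using Nat.le_induction with
    | base =>
      intro _ v hvv hv
      exact T_inH_of_blk D hB hv hvv
    | succ j hkj ih =>
      intro hjn v hvv hv
      -- the vector `v'` with vanishing first coordinate
      obtain ⟨t, ht, hv'0, hv's⟩ : ∃ t, InH H t ∧ (t *ᵥ v) ⟨0, by omega⟩ = 0 ∧
          ∀ i : Fin n, j + 1 ≤ i.val → (t *ᵥ v) i = 0 := by
        set y := cutV k v with hy
        set r := v - y with hr
        have hyY : y ∈ Yk K n k := cutV_mem k v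
        have hvyr : v = y + r := by rw [hr]; abel
        have hr0 : ∀ i : Fin n, i.val < k → r i = 0 := by
          intro i hi
          rw [hr, Pi.sub_apply, hy, cutV, if_pos hi, sub_self]
        have hrk : ∀ i : Fin n, k ≤ i.val → r i = v i := by
          intro i hi
          rw [hr, Pi.sub_apply, hy, cutV, if_neg (by omega), sub_zero]
        by_cases hy0 : y = 0
        · refine ⟨1, InH.one H, ?_, ?_⟩
          · rw [one_mulVec]
            have := congrFun hy0 ⟨0, by omega⟩
            rw [hy, cutV, if_pos (by simp; omega)] at this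
            exact this
          · intro i hi
            rw [one_mulVec]
            exact hv i hi
        · -- the target vector
          obtain ⟨y', hy'Y, hy'0, hy'N, hy'z⟩ : ∃ y' ∈ Yk K n k, y' ≠ 0 ∧ h y' y' = h y y ∧
              y' ⟨0, by omega⟩ = 0 := by
            have h12 : (⟨1, by omega⟩ : Fin n) ≠ ⟨2, by omega⟩ := by
              intro he; simpa using congrArg Fin.val he
            by_cases hN : h y y = 0
            · obtain ⟨a, ha⟩ := exists_norm D (-1 : K) (neg_ne_zero.mpr one_ne_zero)
                (by rw [map_neg, map_one])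
              refine ⟨eb n ⟨1, by omega⟩ + a • eb n ⟨2, by omega⟩, ?_, ?_, ?_, ?_⟩
              · exact (Yk K n k).add_mem (eb_mem_Yk (by simp; omega))
                  ((Yk K n k).smul_mem _ (eb_mem_Yk (by simp; omega)))
              · intro h0
                have := congrFun h0 ⟨1, by omega⟩
                simp [eb, Pi.single_apply, h12] at this
              · rw [hN, h_add_left, h_add_right D, h_add_right D, h_smul_left, h_smul_right D,
                  h_smul_right D, h_smul_left, h_eb_right D, h_eb_right D, h_eb_right D,
                  h_eb_right D]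
                simp only [eb, Pi.single_apply, if_pos, h12, h12.symm, if_false]
                linear_combination ha
              · simp [eb, Pi.single_apply, Fin.ext_iff]
            · obtain ⟨b, hb⟩ := exists_norm D (h y y) hN (h_self_fix D y)
              have hb0 : b ≠ 0 := by
                rintro rfl
                rw [zero_mul] at hb
                exact hN hb.symm
              refine ⟨b • eb n ⟨1, by omega⟩, (Yk K n k).smul_mem _ (eb_mem_Yk (by simp; omega)),
                ?_, ?_, ?_⟩
              · intro h0
                have := congrFun h0 ⟨1, by omega⟩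
                simp [eb, hb0] at this
              · rw [h_smul_left, h_smul_right D, h_eb_right D]
                simp only [eb, Pi.single_apply, if_pos]
                linear_combination hb
              · simp [eb, Pi.single_apply, Fin.ext_iff]
          obtain ⟨t, ht, hty⟩ := trans_vec D (nonDeg_Yk D k) (finrank_Yk hk hkn) hyY hy'Y hy0 hy'0
            hy'N
          have htr : t *ᵥ r = r := by
            apply Gen_fix D ht
            intro z hz
            apply h_eq_zero_of_disjoint D
            intro i
            by_cases hi : i.val < k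
            · exact Or.inl (hr0 i hi)
            · exact Or.inr (hz i (by omega))
          have htv : t *ᵥ v = y' + r := by
            rw [hvyr, mulVec_add, hty, htr]
          refine ⟨t, gen_inH_of_blk D hB ht, ?_, ?_⟩
          · rw [htv, Pi.add_apply, hy'z, hr0 _ (by simp; omega), add_zero]
          · intro i hi
            rw [htv, Pi.add_apply, hy'Y i (by omega), hrk i (by omega), hv i hi, add_zero]
      have hRv : R *ᵥ (t *ᵥ v) ∈ TS D H := by
        apply ih (by omega)
        · rw [hR.pres, ht.pres, hvv]
        · intro i hi
          rw [hRx]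
          rcases Nat.lt_or_ge (i.val + 1) n with h1 | h1
          · have := hs1 i h1
            rw [hv's (s i) (by omega), mul_zero]
          · have := hs2 i (by have := i.isLt; omega)
            have e : s i = ⟨0, by omega⟩ := Fin.ext this
            rw [e, hv'0, mul_zero]
      exact TS.of_map D ht (TS.of_map D hR hRv)
  intro v hvv
  exact claim n hkn le_rfl v hvv (fun i hi => absurd i.isLt (by omega))

end Cfsg.Agent.Helper12.SUTwo
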