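import Mathlib
import Cfsg.Agent.Helper12.SUTwoE
import Cfsg.Agent.Helper2.UnitaryCenter

/-! Two-generation of `SU_n(q)`: the monomial `n`-cycle, quasi-reflections, two-dimensional blocks. -/

set_option autoImplicit false

namespace Cfsg.Agent.Helper12.SUTwo

open Matrix Module Cfsg.Agent.S2644 Cfsg.Agent.Helper2.SUGen

variable {K : Type*} [Field K] {q n : ℕ}

local notation "h" => Cfsg.hermForm n K q
local notation "T" => Cfsg.unitaryTransvection n q

/-- the weights of the monomial cycle -/
def rotD (K : Type*) [Field K] (n : ℕ) : Fin n → K := fun j => if j.val = 0 then (-1) ^ (n - 1) else 1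

/-- the monomial `n`-cycle `e_{i+1} ↦ e_i`, `e_0 ↦ ± e_{n-1}` -/
def Rot (K : Type*) [Field K] (n : ℕ) : Matrix (Fin n) (Fin n) K :=
  fun i j => if finRotate n i = j then rotD K n j else 0

theorem Rot_mulVec (x : Fin n → K) (i : Fin n) :
    (Rot K n *ᵥ x) i = rotD K n (finRotate n i) * x (finRotate n i) := by
  unfold Matrix.mulVec dotProduct
  rw [Finset.sum_eq_single (finRotate n i)]
  · show (if finRotate n i = finRotate n i then _ else 0) * _ = _
    rw [if_pos rfl]
  · intro j _ hj
    show (if finRotate n i = j then _ else 0) * _ = _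
    rw [if_neg (fun he => hj he.symm), zero_mul]
  · intro hh
    exact absurd (Finset.mem_univ _) hh

theorem val_finRotate_of_lt (i : Fin n) (hi : i.val + 1 < n) : (finRotate n i).val = i.val + 1 := by
  cases n with
  | zero => exact absurd i.isLt (by omega)
  | succ n =>
    rw [coe_finRotate_of_ne_last]
    intro he
    rw [he] at hi
    simp at hi

theorem val_finRotate_of_eq (i : Fin n) (hi : i.val + 1 = n) : (finRotate n i).val = 0 := by
  cases n with
  | zero => exact absurd i.isLt (by omega)
  | succ n =>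
    have : i = Fin.last n := by
      apply Fin.ext
      simp
      omega
    rw [this, finRotate_last]
    rfl

theorem Rot_eq_monoMat [Fintype K] :
    Rot K n = Cfsg.Agent.Helper2.Herm.monoMat (finRotate n) (rotD K n) := by
  ext i j
  rw [Cfsg.Agent.Helper2.Herm.monoMat_apply]
  rfl

theorem det_Rot [Fintype K] (hn : 1 ≤ n) : (Rot K n).det = 1 := by
  rw [Rot_eq_monoMat, Cfsg.Agent.Helper2.Herm.det_monoMat, sign_finRotate]
  have : ∏ i, rotD K n i = (-1) ^ (n - 1) := by
    rw [Finset.prod_eq_single (⟨0, by omega⟩ : Fin n)]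
    · simp [rotD]
    · intro j _ hj
      unfold rotD
      rw [if_neg]
      intro h0
      exact hj (Fin.ext h0)
    · intro hh
      exact absurd (Finset.mem_univ _) hh
  rw [this]
  push_cast
  rw [← mul_pow]
  norm_num

variable (D : Frob K q)

include D in
theorem rotD_norm (j : Fin n) : rotD K n j * D.σ (rotD K n j) = 1 := by
  unfold rotD
  split_ifs
  · rw [map_pow, map_neg, map_one, ← mul_pow]
    norm_num
  · rw [map_one, mul_one]

include D in
theorem pres_Rot : Pres (q := q) (Rot K n) := by
  intro x y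
  unfold Cfsg.hermForm
  simp only [Rot_mulVec]
  rw [← Equiv.sum_comp (finRotate n) (fun i => x i * y i ^ q)]
  apply Finset.sum_congr rfl
  intro i _
  rw [mul_pow, ← D.pow, ← D.pow]
  have := rotD_norm (n := n) D (finRotate n i)
  linear_combination (x (finRotate n i) * D.σ (y (finRotate n i))) * this

theorem Rot_eb (i : Fin n) (hi : i.val + 1 < n) :
    Rot K n *ᵥ eb n ⟨i.val + 1, hi⟩ = eb n i := by
  funext j
  rw [Rot_mulVec]
  unfold eb
  simp only [Pi.single_apply]
  by_cases hj : j = i
  · subst hj
    have h1 : finRotate n j = ⟨j.val + 1, hi⟩ := Fin.ext (val_finRotate_of_lt j hi)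
    rw [if_pos h1, if_pos rfl, mul_one, h1]
    unfold rotD
    rw [if_neg (by simp)]
  · rw [if_neg hj, if_neg, mul_zero]
    intro he
    apply hj
    apply (finRotate n).injective
    rw [he]
    exact (Fin.ext (val_finRotate_of_lt i hi)).symm

/-! ### quasi-reflections -/

include D in
theorem pres_T_aniso (w : Fin n → K) (c : K) (hc : c + D.σ c + c * D.σ c * h w w = 0) :
    Pres (q := q) (T w c) := by
  intro z z'
  rw [T_mulVec, T_mulVec]
  simp only [h_add_left, h_smul_left, h_add_right D, h_smul_right D, map_mul]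
  have e : D.σ (h z' w) = h w z' := h_conj D _ _
  rw [e]
  linear_combination (h z w * h w z') * hc

theorem T_fix_of_perp (w : Fin n → K) (c : K) {z : Fin n → K} (hz : h z w = 0) : T w c *ᵥ z = z := by
  rw [T_mulVec, hz, mul_zero, zero_smul, add_zero]

/-- a matrix fixing the basis vectors in the support of `z` fixes `z` -/
theorem mulVec_eq_of_fix (M : Matrix (Fin n) (Fin n) K) (z : Fin n → K)
    (hfix : ∀ j : Fin n, z j ≠ 0 → M *ᵥ eb n j = eb n j) : M *ᵥ z = z := by
  have hz : z = ∑ j, z j • eb n j := by
    funext i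
    simp [eb, Finset.sum_apply, Pi.single_apply]
  conv_lhs => rw [hz]
  rw [Matrix.mulVec_sum]
  conv_rhs => rw [hz]
  apply Finset.sum_congr rfl
  intro j _
  rw [Matrix.mulVec_smul]
  by_cases hj : z j = 0
  · rw [hj, zero_smul, zero_smul]
  · rw [hfix j hj]

end Cfsg.Agent.Helper12.SUTwo
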