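import Mathlib
import Cfsg.Agent.Helper12.SUTwoF

/-! Two-generation of `SU_n(q)`: from two-dimensional blocks to the three-dimensional block. -/

set_option autoImplicit false

namespace Cfsg.Agent.Helper12.SUTwo

open Matrix Module Cfsg.Agent.S2644 Cfsg.Agent.Helper2.SUGen

variable {K : Type*} [Field K] {q n : ℕ}

local notation "h" => Cfsg.hermForm n K q
local notation "T" => Cfsg.unitaryTransvection n q

variable (D : Frob K q)

include D in
/-- moving an anisotropic vector of the first coordinate plane onto the second axis -/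
theorem exists_move2 [Finite K] (hn : 2 ≤ n) {x : Fin n → K} (hx : x ∈ Yk K n 2) (hN : h x x ≠ 0) :
    ∃ M : Matrix (Fin n) (Fin n) K, Pres (q := q) M ∧ M.det = 1 ∧
      (∀ i : Fin n, 2 ≤ i.val → M *ᵥ eb n i = eb n i) ∧
      ∃ b : K, M *ᵥ x = b • eb n ⟨1, by omega⟩ := by
  set α := h x x with hα
  have hαfix : D.σ α = α := h_self_fix D x
  set e0 : Fin n → K := eb n ⟨0, by omega⟩ with he0
  set e1 : Fin n → K := eb n ⟨1, by omega⟩ with he1
  set x1 := x ⟨1, by omega⟩ with hx1
  have h01 : (⟨0, by omega⟩ : Fin n) ≠ ⟨1, by omega⟩ := by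
    intro he; simpa using congrArg Fin.val he
  -- choice of `b`
  obtain ⟨b, hb, hγ⟩ : ∃ b : K, b * D.σ b = α ∧ α - D.σ b * x1 ≠ 0 := by
    obtain ⟨b1, hb1⟩ := exists_norm D α hN hαfix
    by_cases h1 : α - D.σ b1 * x1 = 0
    · obtain ⟨ν, hν1, hν⟩ := exists_norm_one_ne D
      refine ⟨ν * b1, ?_, ?_⟩
      · rw [map_mul]
        linear_combination (b1 * D.σ b1) * hν + hb1
      · rw [map_mul]
        intro h2
        have h3 : (D.σ ν - 1) * α = 0 := by linear_combination D.σ ν * h1 - h2
        rcases mul_eq_zero.mp h3 with h4 | h4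
        · apply hν1
          have : D.σ ν = 1 := by linear_combination h4
          rw [← D.invol ν, this, map_one]
        · exact hN h4
    · exact ⟨b1, hb1, h1⟩
  set γ := α - D.σ b * x1 with hγdef
  have hσγ : D.σ γ ≠ 0 := σ_ne_zero D hγ
  set y := b • e1 with hy
  have hxy : h x y = D.σ b * x1 := by rw [hy, h_smul_right D, he1, h_eb_right D]
  have hyx : h y x = b * D.σ x1 := by rw [← h_conj D, hxy, map_mul, D.invol]
  have hyy : h y y = α := by
    rw [hy, h_smul_left, h_smul_right D, he1, h_eb_right D]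
    simp only [eb, Pi.single_apply, if_pos]
    linear_combination hb
  set w := x - y with hw
  have hxw : h x w = γ := by rw [hw, h_sub_right D, hxy]
  have hww : h w w = γ + D.σ γ := by
    rw [hw, h_sub_left, h_sub_right D, h_sub_right D, hxy, hyx, hyy, hγdef, map_sub, map_mul,
      D.invol, hαfix]
    ring
  set c := -γ⁻¹ with hc
  have hσc : D.σ c = -(D.σ γ)⁻¹ := by rw [hc, map_neg, map_inv₀]
  have hcond : c + D.σ c + c * D.σ c * h w w = 0 := by
    rw [hσc, hc, hww]
    field_simp
    ring
  set δ := -γ / D.σ γ with hδ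
  have hσδ : D.σ δ = -D.σ γ / γ := by rw [hδ, map_div₀, map_neg, D.invol]
  set c2 := δ - 1 with hc2
  have h00 : h e0 e0 = 1 := by
    rw [he0, h_eb_right D]
    simp [eb]
  have hcond2 : c2 + D.σ c2 + c2 * D.σ c2 * h e0 e0 = 0 := by
    rw [h00, hc2, map_sub, map_one, hσδ, hδ]
    field_simp
    ring
  have hyi : ∀ i : Fin n, i ≠ ⟨1, by omega⟩ → y i = 0 := by
    intro i hi
    rw [hy, he1, Pi.smul_apply, eb, Pi.single_apply, if_neg hi, smul_zero]
  have hwi : ∀ i : Fin n, 2 ≤ i.val → w i = 0 := by
    intro i hi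
    rw [hw, Pi.sub_apply, hx i hi, hyi i (by intro he; rw [he] at hi; simp at hi), sub_zero]
  refine ⟨T e0 c2 * T w c, (pres_T_aniso D e0 c2 hcond2).mul (pres_T_aniso D w c hcond), ?_, ?_,
    b, ?_⟩
  · rw [det_mul, det_T', det_T', h00, hww, hc2, hδ, hc]
    field_simp
    ring
  · intro i hi
    rw [← mulVec_mulVec, T_fix_of_perp w c (by rw [h_eb_left D, hwi i hi, map_zero]),
      T_fix_of_perp e0 c2]
    rw [he0, h_eb_right D, eb, Pi.single_apply, if_neg]
    intro he
    rw [← he] at hi
    simp at hi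
  · have e1' : T w c *ᵥ x = y := by
      rw [T_mulVec, hxw, hc, neg_mul, inv_mul_cancel₀ hγ, hw]
      module
    rw [← mulVec_mulVec, e1']
    apply T_fix_of_perp
    rw [he0, h_eb_right D, hyi _ h01]

include D in
/-- two non-orthogonal centres spanning the first coordinate plane give the two-dimensional block -/
theorem blk2_of_pair (hn : 2 ≤ n) {H : Subgroup ↥(Cfsg.SU n K q)} {u v : Fin n → K}
    (hu : u ∈ TS D H) (hv : v ∈ TS D H) (huv : h u v ≠ 0)
    (hperp : ∀ z : Fin n → K, h z u = 0 → h z v = 0 →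
      z ⟨0, by omega⟩ = 0 ∧ z ⟨1, by omega⟩ = 0) : Blk H 2 := by
  intro M hP hdet hfix
  apply plane_inH D hu hv huv hP hdet
  intro z h1 h2
  obtain ⟨hz0, hz1⟩ := hperp z h1 h2
  apply mulVec_eq_of_fix
  intro j hj
  apply hfix
  by_contra hlt
  push Not at hlt
  have : j = ⟨0, by omega⟩ ∨ j = ⟨1, by omega⟩ := by
    rcases Nat.lt_or_ge j.val 1 with h0 | h0
    · left; apply Fin.ext; simp; omega
    · right; apply Fin.ext; simp; omega
  rcases this with he | he
  · rw [he] at hj; exact hj hz0
  · rw [he] at hj; exact hj hz1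

include D in
/-- the two-dimensional block and the monomial cycle give all transvections of the
three-dimensional block -/
theorem chain3 [Finite K] (hn : 3 ≤ n) {H : Subgroup ↥(Cfsg.SU n K q)} (hB : Blk H 2)
    (hR : InH H (Rot K n)) {v : Fin n → K} (hv : v ∈ Yk K n 3) (hvv : h v v = 0) : v ∈ TS D H := by
  -- vectors with vanishing first coordinate
  have step1 : ∀ v : Fin n → K, v ∈ Yk K n 3 → h v v = 0 → v ⟨0, by omega⟩ = 0 → v ∈ TS D H := by
    intro v hv hvv hv0
    apply TS.of_map D hR
    apply T_inH_of_blk D hB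
    · intro i hi
      rw [Rot_mulVec]
      rcases Nat.lt_or_ge (i.val + 1) n with h1 | h1
      · have := val_finRotate_of_lt i h1
        rw [hv _ (by omega), mul_zero]
      · have := val_finRotate_of_eq i (by have := i.isLt; omega)
        have e : finRotate n i = ⟨0, by omega⟩ := Fin.ext this
        rw [e, hv0, mul_zero]
    · rw [pres_Rot D, hvv]
  by_cases hv0 : v ⟨0, by omega⟩ = 0
  · exact step1 v hv hvv hv0
  set x := cutV 2 v with hx
  set r := v - x with hr
  have hxY : x ∈ Yk K n 2 := cutV_mem 2 v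
  have hvxr : v = x + r := by rw [hr]; abel
  have hr0 : ∀ i : Fin n, i.val < 2 → r i = 0 := by
    intro i hi
    rw [hr, Pi.sub_apply, hx, cutV, if_pos hi, sub_self]
  have hrk : ∀ i : Fin n, 2 ≤ i.val → r i = v i := by
    intro i hi
    rw [hr, Pi.sub_apply, hx, cutV, if_neg (by omega), sub_zero]
  have hxr : h x r = 0 := by
    apply h_eq_zero_of_disjoint D
    intro i
    by_cases hi : i.val < 2
    · exact Or.inr (hr0 i hi)
    · exact Or.inl (hxY i (by omega))
  have hrx : h r x = 0 := h_symm_zero D hxr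
  by_cases hN : h x x = 0
  · -- then `r` is isotropic, hence zero
    have hrr : h r r = 0 := by
      have := hvv
      rw [hvxr, h_add_left, h_add_right D, h_add_right D, hN, hxr, hrx] at this
      linear_combination this
    have hr2 : r ⟨2, by omega⟩ = 0 := by
      have e : r = r ⟨2, by omega⟩ • eb n ⟨2, by omega⟩ := by
        funext i
        rw [Pi.smul_apply, eb, Pi.single_apply]
        by_cases hi : i = ⟨2, by omega⟩
        · rw [if_pos hi, hi, smul_eq_mul, mul_one]
        · rw [if_neg hi, smul_zero]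
          rcases Nat.lt_or_ge i.val 2 with h2 | h2
          · exact hr0 i h2
          · rw [hrk i h2]
            apply hv
            have : i.val ≠ 2 := fun he => hi (Fin.ext he)
            omega
      rw [e, h_smul_left, h_smul_right D, h_eb_right D] at hrr
      simp only [eb, Pi.single_apply, if_pos, mul_one] at hrr
      rcases mul_eq_zero.mp hrr with h1 | h1
      · exact h1
      · rw [← D.invol (r ⟨2, by omega⟩), h1, map_zero]
    apply T_inH_of_blk D hB _ hvv
    intro i hi
    rcases Nat.lt_or_ge i.val 3 with h3 | h3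
    · have : i = ⟨2, by omega⟩ := Fin.ext (by simp; omega)
      rw [← hrk i hi, this, hr2]
    · exact hv i h3
  · obtain ⟨M, hMP, hMdet, hMfix, b, hMx⟩ := exists_move2 D (by omega) hxY hN
    have hM : InH H M := hB M hMP hMdet hMfix
    have hMr : M *ᵥ r = r := by
      apply mulVec_eq_of_fix
      intro j hj
      apply hMfix
      by_contra hlt
      exact hj (hr0 j (by omega))
    have hMv : M *ᵥ v = b • eb n ⟨1, by omega⟩ + r := by
      rw [hvxr, mulVec_add, hMx, hMr]
    apply TS.of_map D hM
    apply step1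
    · rw [hMv]
      apply (Yk K n 3).add_mem ((Yk K n 3).smul_mem _ (eb_mem_Yk (by simp)))
      intro i hi
      rw [hrk i (by omega), hv i hi]
    · rw [hMP, hvv]
    · rw [hMv, Pi.add_apply, Pi.smul_apply, eb, Pi.single_apply, if_neg, smul_zero,
        hr0 _ (by simp), add_zero]
      intro he
      simpa using congrArg Fin.val he

end Cfsg.Agent.Helper12.SUTwo
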