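import Mathlib
import Cfsg.Agent.Helper12.SUTwoG

/-! Two-generation of `SU_n(q)`: diagonal elements of a hyperbolic plane, coordinate diagonal
matrices, root subgroups contained in a subgroup. -/

set_option autoImplicit false

namespace Cfsg.Agent.Helper12.SUTwo

open Matrix Module Cfsg.Agent.S2644 Cfsg.Agent.Helper2.SUGen

variable {K : Type*} [Field K] {q n : ℕ}

local notation "h" => Cfsg.hermForm n K q
local notation "T" => Cfsg.unitaryTransvection n q

variable (D : Frob K q)

/-! ### the diagonal elements of a hyperbolic pair -/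

section dg

variable {u v : Fin n → K}

theorem Dg_fix (l δ : K) {z : Fin n → K} (h1 : h z u = 0) (h2 : h z v = 0) :
    Dg q u v l δ *ᵥ z = z := by
  rw [Dg_mulVec, h1, h2, mul_zero, mul_zero, zero_smul, zero_smul, add_zero, add_zero]

theorem Dg_one_one : Dg q u v 1 1 = 1 := by
  apply mat_ext
  intro z
  rw [Dg_mulVec, one_mulVec, sub_self, zero_mul, zero_mul, zero_smul, zero_smul, add_zero, add_zero]

theorem Dg_conj {M : Matrix (Fin n) (Fin n) K} (hM : Pres (q := q) M) (l δ : K) :
    M * Dg q u v l δ = Dg q (M *ᵥ u) (M *ᵥ v) l δ * M := by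
  apply mat_ext
  intro z
  rw [← mulVec_mulVec, ← mulVec_mulVec, Dg_mulVec, Dg_mulVec, hM, hM, mulVec_add, mulVec_add,
    mulVec_smul, mulVec_smul]

variable (H : HypPair q u v)

include H

theorem Dg_u (l δ : K) : Dg q u v l δ *ᵥ u = l • u := by
  rw [Dg_mulVec, H.huv, H.huu]
  module

theorem Dg_v (l δ : K) : Dg q u v l δ *ᵥ v = δ • v := by
  rw [Dg_mulVec, H.hvv, H.hvu]
  module

include D in
theorem Dg_mul (l δ l' δ' : K) : Dg q u v l δ * Dg q u v l' δ' = Dg q u v (l * l') (δ * δ') := by
  apply ext_plane D H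
  · intro z h1 h2
    rw [← mulVec_mulVec, Dg_fix _ _ h1 h2, Dg_fix _ _ h1 h2, Dg_fix _ _ h1 h2]
  · rw [← mulVec_mulVec, Dg_u H, mulVec_smul, Dg_u H, Dg_u H, smul_smul, mul_comm]
  · rw [← mulVec_mulVec, Dg_v H, mulVec_smul, Dg_v H, Dg_v H, smul_smul, mul_comm]

include D in
theorem Dg_pow (l δ : K) (m : ℕ) : Dg q u v l δ ^ m = Dg q u v (l ^ m) (δ ^ m) := by
  induction m with
  | zero => rw [pow_zero, pow_zero, pow_zero, Dg_one_one]
  | succ m ih => rw [pow_succ, ih, Dg_mul D H, pow_succ, pow_succ]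

include D in
theorem pres_Dg {l δ : K} (hl : l * D.σ δ = 1) : Pres (q := q) (Dg q u v l δ) := by
  have hl' : δ * D.σ l = 1 := by
    have := congrArg D.σ hl
    rw [map_mul, D.invol, map_one] at this
    rw [mul_comm]; exact this
  intro x y
  rw [Dg_mulVec, Dg_mulVec]
  simp only [h_add_left, h_add_right D, h_smul_left, h_smul_right D, H.huu, H.hvv, H.huv, H.hvu,
    map_mul, map_sub, map_one, h_conj D]
  linear_combination (h x v * h u y) * hl + (h x u * h v y) * hl'

include D in
/-- a vector of the plane is scaled by a scalar diagonal element -/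
theorem Dg_scalar (l : K) {m : Fin n → K}
    (hm : ∀ z0, h z0 u = 0 → h z0 v = 0 → h m z0 = 0) : Dg q u v l l *ᵥ m = l • m := by
  have e := in_plane D H m hm
  rw [e, mulVec_add, mulVec_smul, mulVec_smul, Dg_u H, Dg_v H]
  module

end dg

/-! ### diagonal matrices supported on two coordinates -/

/-- the diagonal matrix with entry `l` at the coordinates `i`, `j` -/
def Lam (i j : Fin n) (l : K) : Matrix (Fin n) (Fin n) K :=
  Matrix.diagonal (fun x => (if x = i then l else 1) * (if x = j then l else 1))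

theorem Lam_mulVec (i j : Fin n) (l : K) (x : Fin n → K) (k : Fin n) :
    (Lam i j l *ᵥ x) k = (if k = i then l else 1) * (if k = j then l else 1) * x k := by
  unfold Lam
  rw [Matrix.mulVec_diagonal]

theorem det_Lam (i j : Fin n) (l : K) : (Lam i j l).det = l * l := by
  unfold Lam
  rw [Matrix.det_diagonal, Finset.prod_mul_distrib, Finset.prod_ite_eq' Finset.univ i,
    Finset.prod_ite_eq' Finset.univ j, if_pos (Finset.mem_univ _), if_pos (Finset.mem_univ _)]

theorem Lam_pow (i j : Fin n) (l : K) (m : ℕ) : Lam i j l ^ m = Lam i j (l ^ m) := by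
  unfold Lam
  rw [Matrix.diagonal_pow]
  congr 1
  funext x
  simp only [Pi.pow_apply, mul_pow]
  split_ifs <;> simp

theorem Lam_one (i j : Fin n) : Lam i j (1 : K) = 1 := by
  unfold Lam
  simp

include D in
theorem pres_Lam (i j : Fin n) {l : K} (hl : l * D.σ l = 1) : Pres (q := q) (Lam i j l) := by
  intro x y
  unfold Cfsg.hermForm
  apply Finset.sum_congr rfl
  intro k _
  rw [Lam_mulVec, Lam_mulVec, ← D.pow, ← D.pow, map_mul, map_mul]
  have e1 : (if k = i then l else 1) * D.σ (if k = i then l else 1) = 1 := by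
    split_ifs
    · exact hl
    · rw [map_one, mul_one]
  have e2 : (if k = j then l else 1) * D.σ (if k = j then l else 1) = 1 := by
    split_ifs
    · exact hl
    · rw [map_one, mul_one]
  generalize (if k = i then l else 1) = d1 at e1 ⊢
  generalize (if k = j then l else 1) = d2 at e2 ⊢
  linear_combination (d2 * D.σ d2 * x k * D.σ (y k)) * e1 + (x k * D.σ (y k)) * e2

/-- `Lam` fixes the vectors vanishing at the two coordinates -/
theorem Lam_fix (i j : Fin n) (l : K) {x : Fin n → K} (hi : x i = 0) (hj : x j = 0) :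
    Lam i j l *ᵥ x = x := by
  funext k
  rw [Lam_mulVec]
  by_cases h1 : k = i
  · rw [h1, hi, mul_zero]
  · by_cases h2 : k = j
    · rw [h2, hj, mul_zero]
    · rw [if_neg h1, if_neg h2, one_mul, one_mul]

/-- `Lam` scales the vectors supported on the two coordinates -/
theorem Lam_scale {i j : Fin n} (hij : i ≠ j) (l : K) {x : Fin n → K}
    (hx : ∀ k, k ≠ i → k ≠ j → x k = 0) : Lam i j l *ᵥ x = l • x := by
  funext k
  rw [Lam_mulVec, Pi.smul_apply, smul_eq_mul]
  by_cases h1 : k = i
  · have : k ≠ j := fun hk => hij (h1.symm.trans hk)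
    rw [if_pos h1, if_neg this, mul_one]
  · by_cases h2 : k = j
    · rw [if_neg h1, if_pos h2, one_mul]
    · rw [hx k h1 h2, mul_zero, mul_zero]

/-! ### the coefficients of the transvections of a given centre lying in `H` -/

include D in
theorem T_mul' (v : Fin n → K) (c c' : K) (hvv : h v v = 0) : T v c * T v c' = T v (c + c') :=
  Cfsg.Agent.S0781.T_mul D.σ D.pow v c c' hvv

/-- the additive group of the `c` with `T v c ∈ H` -/
def TSub (H : Subgroup ↥(Cfsg.SU n K q)) (v : Fin n → K) (hvv : h v v = 0) : AddSubgroup K where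
  carrier := {c | InH H (T v c)}
  zero_mem' := by
    rw [Set.mem_ofPred_eq, Cfsg.Agent.S0781.T_zero_coeff]
    exact InH.one H
  add_mem' := fun {a b} ha hb => by
    rw [Set.mem_ofPred_eq] at ha hb ⊢
    rw [← T_mul' D v a b hvv]
    exact ha.mul hb
  neg_mem' := fun {a} ha => by
    rw [Set.mem_ofPred_eq] at ha ⊢
    apply ha.of_mul_eq_one
    rw [T_mul' D v a (-a) hvv, add_neg_cancel, Cfsg.Agent.S0781.T_zero_coeff]

theorem mem_TSub {H : Subgroup ↥(Cfsg.SU n K q)} {v : Fin n → K} {hvv : h v v = 0} {c : K} :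
    c ∈ TSub D H v hvv ↔ InH H (T v c) := Iff.rfl

/-- conjugating a transvection of `H` by an element of `H` -/
theorem InH.conj_T {H : Subgroup ↥(Cfsg.SU n K q)} {G : Matrix (Fin n) (Fin n) K} (hG : InH H G)
    {v : Fin n → K} {c : K} (hT : InH H (T v c)) : InH H (T (G *ᵥ v) c) := by
  obtain ⟨G', hG', h1, h2⟩ := hG.exists_inv
  have e : T (G *ᵥ v) c = G * T v c * G' := by
    rw [T_conj G hG.pres, Matrix.mul_assoc, h1, Matrix.mul_one]
  rw [e]
  exact (hG.mul hT).mul hG'

include D in
theorem T_pow (v : Fin n → K) (c : K) (hvv : h v v = 0) (m : ℕ) : T v c ^ m = T v (m * c) := by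
  induction m with
  | zero => rw [pow_zero, Nat.cast_zero, zero_mul, Cfsg.Agent.S0781.T_zero_coeff]
  | succ m ih =>
    rw [pow_succ, ih, T_mul' D v _ _ hvv]
    congr 1
    push_cast
    ring

end Cfsg.Agent.Helper12.SUTwo
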