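import Mathlib
import Cfsg.Agent.Helper12.SUTwoH

/-! Two-generation of `SU_n(q)`: the first two coordinates, and the main construction for
`n ≥ 4`, `q ≥ 3`. -/

set_option autoImplicit false

namespace Cfsg.Agent.Helper12.SUTwo

open Matrix Module Cfsg.Agent.S2644 Cfsg.Agent.Helper2.SUGen

variable {K : Type*} [Field K] {q n : ℕ}

local notation "h" => Cfsg.hermForm n K q
local notation "T" => Cfsg.unitaryTransvection n q

variable (D : Frob K q)

theorem eb_self (i : Fin n) : eb (K := K) n i i = 1 := by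
  unfold eb
  rw [Pi.single_eq_same]

theorem eb_ne {i j : Fin n} (hij : j ≠ i) : eb (K := K) n i j = 0 := by
  unfold eb
  rw [Pi.single_eq_of_ne hij]

include D in
/-- the form against a vector of the first coordinate plane -/
theorem h_Yk2 (hn : 2 ≤ n) (z : Fin n → K) {u : Fin n → K} (hu : u ∈ Yk K n 2) :
    h z u = z ⟨0, by omega⟩ * D.σ (u ⟨0, by omega⟩) + z ⟨1, by omega⟩ * D.σ (u ⟨1, by omega⟩) := by
  unfold Cfsg.hermForm
  rw [Finset.sum_eq_add (⟨0, by omega⟩ : Fin n) ⟨1, by omega⟩]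
  · rw [D.pow, D.pow]
  · intro he
    simpa using congrArg Fin.val he
  · intro c _ hc
    have : 2 ≤ c.val := by
      rcases hc with ⟨h1, h2⟩
      have e1 : c.val ≠ 0 := fun he => h1 (Fin.ext he)
      have e2 : c.val ≠ 1 := fun he => h2 (Fin.ext he)
      omega
    rw [hu c this, ← D.pow, map_zero, mul_zero]
  · intro hh; exact absurd (Finset.mem_univ _) hh
  · intro hh; exact absurd (Finset.mem_univ _) hh

include D in
/-- a vector orthogonal to two non-orthogonal vectors of the first coordinate plane vanishes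
at the first two coordinates -/
theorem perp_pair_Yk2 (hn : 2 ≤ n) {u v : Fin n → K} (hu : u ∈ Yk K n 2) (hv : v ∈ Yk K n 2)
    (huu : h u u = 0) (huv : h u v ≠ 0) (z : Fin n → K) (h1 : h z u = 0) (h2 : h z v = 0) :
    z ⟨0, by omega⟩ = 0 ∧ z ⟨1, by omega⟩ = 0 := by
  rw [h_Yk2 D hn z hu] at h1
  rw [h_Yk2 D hn z hv] at h2
  rw [h_Yk2 D hn u hu] at huu
  rw [h_Yk2 D hn u hv] at huv
  set z0 := z ⟨0, by omega⟩
  set z1 := z ⟨1, by omega⟩
  set u0 := u ⟨0, by omega⟩
  set u1 := u ⟨1, by omega⟩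
  set v0 := v ⟨0, by omega⟩
  set v1 := v ⟨1, by omega⟩
  have hΔ : D.σ u0 * D.σ v1 - D.σ u1 * D.σ v0 ≠ 0 := by
    intro hΔ
    have e0 : (u0 * D.σ v0 + u1 * D.σ v1) * D.σ u0 = 0 := by
      linear_combination D.σ v0 * huu + u1 * hΔ
    have e1 : (u0 * D.σ v0 + u1 * D.σ v1) * D.σ u1 = 0 := by
      linear_combination D.σ v1 * huu - u0 * hΔ
    have f0 : D.σ u0 = 0 := (mul_eq_zero.mp e0).resolve_left huv
    have f1 : D.σ u1 = 0 := (mul_eq_zero.mp e1).resolve_left huv
    have g0 : u0 = 0 := by rw [← D.invol u0, f0, map_zero]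
    have g1 : u1 = 0 := by rw [← D.invol u1, f1, map_zero]
    apply huv
    rw [g0, g1, zero_mul, zero_mul, add_zero]
  constructor
  · have : z0 * (D.σ u0 * D.σ v1 - D.σ u1 * D.σ v0) = 0 := by
      linear_combination D.σ v1 * h1 - D.σ u1 * h2
    exact (mul_eq_zero.mp this).resolve_right hΔ
  · have : z1 * (D.σ u0 * D.σ v1 - D.σ u1 * D.σ v0) = 0 := by
      linear_combination D.σ u0 * h2 - D.σ v0 * h1
    exact (mul_eq_zero.mp this).resolve_right hΔ


include D in
/-- the form of two vectors with two entries each -/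
theorem h_pv (i j i' j' : Fin n) (a b : K) :
    h (eb n i + a • eb n j) (eb n i' + b • eb n j') =
      eb (K := K) n i i' + D.σ b * eb (K := K) n i j' + a * (eb (K := K) n j i' +
        D.σ b * eb (K := K) n j j') := by
  rw [h_add_left, h_smul_left, h_add_right D, h_add_right D, h_smul_right D, h_smul_right D,
    h_eb_right D, h_eb_right D, h_eb_right D, h_eb_right D]

/-- the cast of `q ^ 2 - 1` in a field with `q ^ 2` elements -/
theorem cast_card_sub_one [Fintype K] (hK : Fintype.card K = q ^ 2) :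
    ((q ^ 2 - 1 : ℕ) : K) = -1 := by
  have h1 : 1 ≤ q ^ 2 := by rw [← hK]; exact Fintype.card_pos
  rw [Nat.cast_sub h1, ← hK, Nat.cast_card_eq_zero, Nat.cast_one, zero_sub]

theorem pow_card_sub_one' [Fintype K] (hK : Fintype.card K = q ^ 2) {x : K} (hx : x ≠ 0) :
    x ^ (q ^ 2 - 1) = 1 := by
  rw [← hK]
  exact FiniteField.pow_card_sub_one_eq_one x hx

include D in
/-- the main construction: `n ≥ 4`, with suitable parameters -/
theorem core [Fintype K] (hK : Fintype.card K = q ^ 2) (hn : 4 ≤ n) (hq2 : q ≠ 2)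
    (κ κ' lam l : K) (k : ℕ)
    (c1 : κ * D.σ κ' = 1) (c2 : lam * D.σ lam = 1) (c3 : κ * κ' * (lam * lam) = 1)
    (c4 : κ ^ k = l) (c4' : κ' ^ k = l) (c4'' : lam ^ k ≠ l)
    (c5 : ∀ S : AddSubgroup K, (∀ s ∈ S, κ * D.σ κ * s ∈ S) → ∀ c0 ∈ S, c0 ≠ 0 → D.σ c0 = -c0 →
        ∀ c, D.σ c = -c → c ∈ S) :
    ∃ A B : ↥(Cfsg.SU n K q), Subgroup.closure {A, B} = ⊤ := by
  have hfin : Finite K := Finite.of_fintype K
  set i0 : Fin n := ⟨0, by omega⟩ with hi0
  set i1 : Fin n := ⟨1, by omega⟩ with hi1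
  set i2 : Fin n := ⟨2, by omega⟩ with hi2
  set i3 : Fin n := ⟨3, by omega⟩ with hi3
  have n01 : i0 ≠ i1 := by intro he; simpa [hi0, hi1] using congrArg Fin.val he
  have n02 : i0 ≠ i2 := by intro he; simpa [hi0, hi2] using congrArg Fin.val he
  have n03 : i0 ≠ i3 := by intro he; simpa [hi0, hi3] using congrArg Fin.val he
  have n12 : i1 ≠ i2 := by intro he; simpa [hi1, hi2] using congrArg Fin.val he
  have n13 : i1 ≠ i3 := by intro he; simpa [hi1, hi3] using congrArg Fin.val he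
  have n23 : i2 ≠ i3 := by intro he; simpa [hi2, hi3] using congrArg Fin.val he
  have hκ0 : κ ≠ 0 := by
    intro h0; rw [h0, zero_mul] at c1; exact zero_ne_one c1
  have hκ'0 : κ' ≠ 0 := by
    intro h0; rw [h0, map_zero, mul_zero] at c1; exact zero_ne_one c1
  have hlam0 : lam ≠ 0 := by
    intro h0; rw [h0, zero_mul] at c2; exact zero_ne_one c2
  obtain ⟨a, ha⟩ : ∃ a : K, a * D.σ a = -1 :=
    exists_norm D (-1) (neg_ne_zero.mpr one_ne_zero) (by rw [map_neg, map_one])
  obtain ⟨c0, hc00, hc0⟩ := exists_skew D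
  set u0 : Fin n → K := eb n i0 + a • eb n i1 with hu0
  set u1 : Fin n → K := eb n i1 + a • eb n i2 with hu1
  set w : Fin n → K := eb n i2 + a • eb n i3 with hw
  have hu0Y : u0 ∈ Yk K n 2 :=
    (Yk K n 2).add_mem (eb_mem_Yk (by simp [hi0])) ((Yk K n 2).smul_mem _ (eb_mem_Yk (by simp [hi1])))
  have hu0u0 : h u0 u0 = 0 := by
    rw [hu0, h_pv D, eb_self, eb_self, eb_ne n01.symm, eb_ne n01]
    linear_combination ha
  have hww : h w w = 0 := by
    rw [hw, h_pv D, eb_self, eb_self, eb_ne n23.symm, eb_ne n23]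
    linear_combination ha
  have hu0ne : u0 ≠ 0 := by
    intro h0
    have := congrFun h0 i0
    rw [hu0, Pi.add_apply, Pi.smul_apply, eb_self, eb_ne n01, smul_zero, add_zero] at this
    exact one_ne_zero this
  have hwsupp : ∀ i : Fin n, i.val < 2 → w i = 0 := by
    intro i hi
    have e2 : i ≠ i2 := by intro he; rw [he, hi2] at hi; simp at hi
    have e3 : i ≠ i3 := by intro he; rw [he, hi3] at hi; simp at hi
    rw [hw, Pi.add_apply, Pi.smul_apply, eb_ne e2, eb_ne e3, smul_zero, add_zero]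
  have hperpw : ∀ x : Fin n → K, x ∈ Yk K n 2 → h x w = 0 := by
    intro x hx
    apply h_eq_zero_of_disjoint D
    intro i
    by_cases hi : i.val < 2
    · exact Or.inr (hwsupp i hi)
    · exact Or.inl (hx i (by omega))
  -- the partner
  obtain ⟨u0', hu0'Y, hu0'u0', hu0u0', hu0'u0⟩ := exists_partner D (nonDeg_Yk D 2) hu0Y hu0ne hu0u0
  have HP : HypPair q u0 u0' := ⟨hu0u0, hu0'u0', hu0u0', hu0'u0⟩
  have hperp0 := perp_pair_Yk2 D (by omega : 2 ≤ n) hu0Y hu0'Y hu0u0 (by rw [hu0u0']; exact one_ne_zero)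
  -- the matrices
  set g1 := Dg q u0 u0' κ κ' with hg1
  set Λ := Lam i2 i3 lam with hΛ
  set tw := T w c0 with htw
  have hPg1 : Pres (q := q) g1 := pres_Dg D HP c1
  have hPΛ : Pres (q := q) Λ := pres_Lam D i2 i3 c2
  have hPtw : Pres (q := q) tw := pres_T D hww hc0
  have hΛfix : ∀ x : Fin n → K, x ∈ Yk K n 2 → Λ *ᵥ x = x := by
    intro x hx
    apply Lam_fix
    · exact hx i2 (by simp [hi2])
    · exact hx i3 (by simp [hi3])
  have hΛw : Λ *ᵥ w = lam • w := by
    apply Lam_scale n23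
    intro k hk2 hk3
    rw [hw, Pi.add_apply, Pi.smul_apply, eb_ne hk2, eb_ne hk3, smul_zero, add_zero]
  have com1 : Commute g1 Λ := by
    have := Dg_conj (u := u0) (v := u0') hPΛ κ κ'
    rw [hΛfix u0 hu0Y, hΛfix u0' hu0'Y] at this
    exact this.symm
  have com2 : Commute g1 tw := by
    have := Dg_conj (u := u0) (v := u0') hPtw κ κ'
    rw [T_fix_of_perp w c0 (hperpw u0 hu0Y), T_fix_of_perp w c0 (hperpw u0' hu0'Y)] at this
    exact this.symm
  have com3 : Commute Λ tw := by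
    have := T_conj Λ hPΛ w c0
    rw [hΛw, T_smul] at this
    have e : lam ^ (q + 1) = 1 := by rw [pow_succ, ← D.pow, mul_comm]; exact c2
    rw [e, mul_one] at this
    exact this
  set G := g1 * Λ with hG
  have comG : Commute G tw := Commute.mul_left com2 com3
  have hPG : Pres (q := q) G := hPg1.mul hPΛ
  set Amat := G * tw with hAmat
  have hPA : Pres (q := q) Amat := hPG.mul hPtw
  have hdetA : Amat.det = 1 := by
    rw [hAmat, hG, Matrix.det_mul, Matrix.det_mul, det_Dg HP, det_Lam, Cfsg.Agent.S0781.det_T w c0 hww,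
      mul_one]
    exact c3
  have hdetR : (Rot K n).det = 1 := det_Rot (by omega)
  have hPR : Pres (q := q) (Rot K n) := pres_Rot D
  refine ⟨mkSU Amat hdetA hPA, mkSU (Rot K n) hdetR hPR, ?_⟩
  set H := Subgroup.closure {mkSU Amat hdetA hPA, mkSU (Rot K n) hdetR hPR} with hH
  have hA : InH H Amat := InH.of_mk hdetA hPA (Subgroup.subset_closure (by simp))
  have hR : InH H (Rot K n) := InH.of_mk hdetR hPR (Subgroup.subset_closure (by simp))
  -- the powers
  have hGpow : ∀ m : ℕ, G ^ m = Dg q u0 u0' (κ ^ m) (κ' ^ m) * Lam i2 i3 (lam ^ m) := by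
    intro m
    rw [hG, com1.mul_pow, hg1, Dg_pow D HP, hΛ, Lam_pow]
  have hGN : G ^ (q ^ 2 - 1) = 1 := by
    rw [hGpow, pow_card_sub_one' hK hκ0, pow_card_sub_one' hK hκ'0, pow_card_sub_one' hK hlam0,
      Dg_one_one, Lam_one, Matrix.one_mul]
  have hApow : Amat ^ (q ^ 2 - 1) = T w (-c0) := by
    rw [hAmat, comG.mul_pow, hGN, Matrix.one_mul, htw, T_pow D w c0 hww, cast_card_sub_one hK]
    congr 1
    ring
  have htwm : InH H (T w (-c0)) := by
    rw [← hApow]; exact hA.pow _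
  have htwH : InH H tw := by
    apply htwm.of_mul_eq_one
    rw [htw, T_mul' D w _ _ hww, neg_add_cancel, Cfsg.Agent.S0781.T_zero_coeff]
  have hGH : InH H G := by
    have : G = Amat * T w (-c0) := by
      rw [hAmat, Matrix.mul_assoc, htw, T_mul' D w _ _ hww, add_neg_cancel,
        Cfsg.Agent.S0781.T_zero_coeff, Matrix.mul_one]
    rw [this]
    exact hA.mul htwm
  -- the root group of `u0`
  have hRw : Rot K n *ᵥ w = u1 := by
    rw [hw, hu1, mulVec_add, mulVec_smul]
    have e1 := Rot_eb (K := K) i1 (by simp [hi1]; omega)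
    have e2 := Rot_eb (K := K) i2 (by simp [hi2]; omega)
    rw [show (⟨i1.val + 1, by simp [hi1]; omega⟩ : Fin n) = i2 from rfl] at e1
    rw [show (⟨i2.val + 1, by simp [hi2]; omega⟩ : Fin n) = i3 from rfl] at e2
    rw [e1, e2]
  have hRu1 : Rot K n *ᵥ u1 = u0 := by
    rw [hu1, hu0, mulVec_add, mulVec_smul]
    have e1 := Rot_eb (K := K) i0 (by simp [hi0]; omega)
    have e2 := Rot_eb (K := K) i1 (by simp [hi1]; omega)
    rw [show (⟨i0.val + 1, by simp [hi0]; omega⟩ : Fin n) = i1 from rfl] at e1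
    rw [show (⟨i1.val + 1, by simp [hi1]; omega⟩ : Fin n) = i2 from rfl] at e2
    rw [e1, e2]
  have hGu0 : G *ᵥ u0 = κ • u0 := by
    rw [hG, ← mulVec_mulVec, hΛfix u0 hu0Y, hg1, Dg_u HP]
  have hu0TS : u0 ∈ TS D H := by
    refine ⟨hu0u0, ?_⟩
    have hc0S : c0 ∈ TSub D H u0 hu0u0 := by
      rw [mem_TSub, ← hRu1, ← hRw]
      exact hR.conj_T (hR.conj_T htwH)
    have hclosed : ∀ s ∈ TSub D H u0 hu0u0, κ * D.σ κ * s ∈ TSub D H u0 hu0u0 := by
      intro s hs
      rw [mem_TSub] at hs ⊢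
      have := hGH.conj_T hs
      rw [hGu0, T_smul] at this
      have e : s * κ ^ (q + 1) = κ * D.σ κ * s := by rw [pow_succ, ← D.pow]; ring
      rw [e] at this
      exact this
    intro c hc
    exact c5 _ hclosed c0 hc0S hc00 hc0 c hc
  have hu1TS : u1 ∈ TS D H := by
    apply TS.of_map D hR
    rw [hRu1]; exact hu0TS
  -- the second vector
  have hGk : G ^ k = Dg q u0 u0' l l * Lam i2 i3 (lam ^ k) := by rw [hGpow, c4, c4']
  have hGke1 : (G ^ k) *ᵥ eb n i1 = l • eb n i1 := by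
    rw [hGk, ← mulVec_mulVec, Lam_fix i2 i3 _ (eb_ne n12.symm) (eb_ne n13.symm)]
    apply Dg_scalar D HP
    intro z0 h1 h2
    rw [h_eb_left D, (hperp0 z0 h1 h2).2, map_zero]
  have hGke2 : (G ^ k) *ᵥ eb n i2 = lam ^ k • eb n i2 := by
    rw [hGk, ← mulVec_mulVec, Lam_scale n23 (lam ^ k) (x := eb n i2) (fun k hk2 _ => eb_ne hk2),
      mulVec_smul, Dg_fix]
    · rw [h_eb_left D, hu0Y i2 (by simp [hi2]), map_zero]
    · rw [h_eb_left D, hu0'Y i2 (by simp [hi2]), map_zero]
  set u2 : Fin n → K := l • eb n i0 + (a * lam ^ k) • eb n i1 with hu2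
  have hu2TS : u2 ∈ TS D H := by
    have h1 := TS.map D (TS.map D hu1TS (hGH.pow k)) hR
    have e : Rot K n *ᵥ ((G ^ k) *ᵥ u1) = u2 := by
      rw [hu1, mulVec_add, mulVec_smul, hGke1, hGke2, mulVec_add, mulVec_smul, mulVec_smul,
        mulVec_smul, hu2]
      have e1 := Rot_eb (K := K) i0 (by simp [hi0]; omega)
      have e2 := Rot_eb (K := K) i1 (by simp [hi1]; omega)
      rw [show (⟨i0.val + 1, by simp [hi0]; omega⟩ : Fin n) = i1 from rfl] at e1
      rw [show (⟨i1.val + 1, by simp [hi1]; omega⟩ : Fin n) = i2 from rfl] at e2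
      rw [e1, e2, smul_smul]
    rw [e] at h1
    exact h1
  have hu2Y : u2 ∈ Yk K n 2 :=
    (Yk K n 2).add_mem ((Yk K n 2).smul_mem _ (eb_mem_Yk (by simp [hi0])))
      ((Yk K n 2).smul_mem _ (eb_mem_Yk (by simp [hi1])))
  have hu0u2 : h u0 u2 ≠ 0 := by
    rw [hu0, hu2, h_add_left, h_smul_left, h_add_right D, h_add_right D, h_smul_right D,
      h_smul_right D, h_smul_right D, h_smul_right D, h_eb_right D, h_eb_right D, h_eb_right D,
      h_eb_right D, eb_self, eb_self, eb_ne n01.symm, eb_ne n01, map_mul]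
    intro h0
    have h1 : D.σ (l - lam ^ k) = 0 := by
      rw [map_sub]
      linear_combination h0 - D.σ (lam ^ k) * ha
    have h2 : l - lam ^ k = 0 := by rw [← D.invol (l - lam ^ k), h1, map_zero]
    exact c4'' (sub_eq_zero.mp h2).symm
  have hB2 : Blk H 2 :=
    blk2_of_pair D (by omega) hu0TS hu2TS hu0u2 (perp_pair_Yk2 D (by omega) hu0Y hu2Y hu0u0 hu0u2)
  have hB3 : Blk H 3 := by
    apply blk_of_TS D hK (le_refl 3) (by omega) (fun hh => hq2 hh.2)
    intro v hvv hv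
    exact chain3 D (by omega) hB2 hR (mem_Yk.mpr hv) hvv
  exact sweep D hK (by omega) (fun hh => hq2 hh.2) (le_refl 3) (by omega) H hB3 hR
    (fun i => rotD K n (finRotate n i)) (finRotate n) val_finRotate_of_lt val_finRotate_of_eq
    Rot_mulVec

end Cfsg.Agent.Helper12.SUTwo
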