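import Mathlib
import Cfsg.Agent.Helper12.SUTwoI

/-! Two-generation of `SU_n(q)`, `n ≥ 4`, `q ≥ 3`: the choice of parameters. -/

set_option autoImplicit false

namespace Cfsg.Agent.Helper12.SUTwo

open Matrix Module Cfsg.Agent.S2644 Cfsg.Agent.Helper2.SUGen

variable {K : Type*} [Field K] {q n : ℕ}

local notation "h" => Cfsg.hermForm n K q
local notation "T" => Cfsg.unitaryTransvection n q

variable (D : Frob K q)

/-- a generator of the multiplicative group -/
theorem exists_gen [Fintype K] (hK : Fintype.card K = q ^ 2) :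
    ∃ μ : K, μ ≠ 0 ∧ (∀ x : K, x ≠ 0 → ∃ i : ℕ, μ ^ i = x) ∧ ∀ k : ℕ, μ ^ k = 1 ↔ q ^ 2 - 1 ∣ k := by
  obtain ⟨g, hg⟩ := IsCyclic.exists_generator (α := Kˣ)
  have hord : orderOf g = q ^ 2 - 1 := by
    rw [orderOf_eq_card_of_forall_mem_zpowers hg, Nat.card_units, Nat.card_eq_fintype_card, hK]
  refine ⟨(g : K), g.ne_zero, ?_, ?_⟩
  · intro x hx
    have hmem : Units.mk0 x hx ∈ Subgroup.zpowers g := hg _
    rw [← mem_powers_iff_mem_zpowers] at hmem
    obtain ⟨i, hi⟩ := hmem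
    refine ⟨i, ?_⟩
    have := congrArg (fun u : Kˣ => (u : K)) hi
    simpa using this
  · intro k
    rw [← hord, orderOf_dvd_iff_pow_eq_one, ← Units.val_pow_eq_pow_val, Units.val_eq_one]

theorem q_pos [Fintype K] (hK : Fintype.card K = q ^ 2) : 0 < q := by
  rcases Nat.eq_zero_or_pos q with h0 | h0
  · rw [h0] at hK
    have := Fintype.card_pos (α := K)
    omega
  · exact h0

include D in
/-- the fixed elements are the powers of `μ ^ (q + 1)` -/
theorem fixed_pow [Fintype K] (hK : Fintype.card K = q ^ 2) {μ : K}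
    (hgen : ∀ x : K, x ≠ 0 → ∃ i : ℕ, μ ^ i = x) (hord : ∀ k : ℕ, μ ^ k = 1 ↔ q ^ 2 - 1 ∣ k)
    (hμ0 : μ ≠ 0) {x : K} (hx : x ≠ 0) (hfix : D.σ x = x) : ∃ j : ℕ, x = (μ ^ (q + 1)) ^ j := by
  have hq := q_pos hK
  obtain ⟨i, rfl⟩ := hgen x hx
  rw [D.pow, ← pow_mul] at hfix
  have e : i * q = i * (q - 1) + i := by
    have : q = (q - 1) + 1 := by omega
    nth_rewrite 1 [this]
    ring
  rw [e, pow_add] at hfix
  have h1 : μ ^ (i * (q - 1)) = 1 := by
    have h0 : μ ^ i ≠ 0 := pow_ne_zero _ hμ0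
    have : μ ^ (i * (q - 1)) * μ ^ i = 1 * μ ^ i := by rw [hfix, one_mul]
    exact mul_right_cancel₀ h0 this
  rw [hord] at h1
  have hfac : q ^ 2 - 1 = (q + 1) * (q - 1) := by
    have : q ^ 2 = (q + 1) * (q - 1) + 1 := by
      obtain ⟨r, rfl⟩ : ∃ r, q = r + 1 := ⟨q - 1, by omega⟩
      simp only [Nat.add_sub_cancel]
      ring
    omega
  rw [hfac] at h1
  have h2 : q + 1 ∣ i := by
    by_cases hq1 : q - 1 = 0
    · have : q = 1 := by omega
      rw [this] at hK
      have := Fintype.one_lt_card (α := K)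
      omega
    · exact Nat.dvd_of_mul_dvd_mul_right (Nat.pos_of_ne_zero hq1) h1
  obtain ⟨j, rfl⟩ := h2
  exact ⟨j, by rw [pow_mul]⟩


theorem sq_sub_one_fac (hq : 0 < q) : q ^ 2 - 1 = (q + 1) * (q - 1) := by
  have : q ^ 2 = (q + 1) * (q - 1) + 1 := by
    obtain ⟨r, rfl⟩ : ∃ r, q = r + 1 := ⟨q - 1, by omega⟩
    simp only [Nat.add_sub_cancel]
    ring
  omega

include D in
/-- the skew elements form a line over the fixed field -/
theorem skew_ratio_fixed {c c0 : K} (hc0 : c0 ≠ 0) (hs0 : D.σ c0 = -c0) (hs : D.σ c = -c) :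
    D.σ (c / c0) = c / c0 := by
  rw [map_div₀, hs0, hs, neg_div_neg_eq]

include D in
/-- `n ≥ 4`, `q ≥ 4` even -/
theorem regimeI_even [Fintype K] (hK : Fintype.card K = q ^ 2) (hn : 4 ≤ n) (hq4 : 4 ≤ q)
    (hev : Even q) : ∃ A B : ↥(Cfsg.SU n K q), Subgroup.closure {A, B} = ⊤ := by
  obtain ⟨m, hm⟩ := hev
  have hq : 0 < q := by omega
  obtain ⟨μ, hμ0, hgen, hord⟩ := exists_gen hK
  have hfac := sq_sub_one_fac hq
  have hμN : μ ^ (q ^ 2 - 1) = 1 := (hord _).2 dvd_rfl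
  have hμq2 : μ ^ (q ^ 2) = μ := by rw [← hK]; exact FiniteField.pow_card μ
  set ν := μ ^ (q - 1) with hν
  have hν1 : ν ^ (q + 1) = 1 := by
    rw [hν, ← pow_mul, mul_comm, ← hfac]; exact hμN
  have hν0 : ν ≠ 0 := pow_ne_zero _ hμ0
  set lam := ν ^ (m + 1) with hlam
  have hμμ : μ * μ ^ (q - 1) = μ ^ q := by
    rw [← pow_succ']
    congr 1
    omega
  refine core D hK hn (by omega) μ (μ ^ q)⁻¹ lam ν (q - 1) ?_ ?_ ?_ rfl ?_ ?_ ?_
  · -- c1
    rw [map_inv₀, D.pow, ← pow_mul, ← sq, hμq2, mul_inv_cancel₀ hμ0]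
  · -- c2
    rw [D.pow, ← pow_succ', hlam, ← pow_mul, mul_comm, pow_mul, hν1, one_pow]
  · -- c3
    have e : lam * lam = ν := by
      rw [hlam, ← pow_add]
      have : m + 1 + (m + 1) = (q + 1) + 1 := by omega
      rw [this, pow_succ, hν1, one_mul]
    rw [e, hν]
    have h0 : μ ^ q ≠ 0 := pow_ne_zero _ hμ0
    field_simp
    exact hμμ
  · -- c4'
    rw [inv_pow, ← pow_mul]
    have e : μ ^ (q * (q - 1)) * ν = 1 := by
      rw [hν, ← pow_add]
      have : q * (q - 1) + (q - 1) = q ^ 2 - 1 := by rw [hfac]; ring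
      rw [this, hμN]
    exact inv_eq_of_mul_eq_one_right e
  · -- c4''
    intro hcon
    have e1 : lam ^ (q - 1) * ν = 1 := by
      rw [hlam, ← pow_mul, ← pow_succ]
      have : (m + 1) * (q - 1) + 1 = (q + 1) * m := by
        have hq1 : q - 1 = 2 * m - 1 := by omega
        obtain ⟨r, hr⟩ : ∃ r, m = r + 1 := ⟨m - 1, by omega⟩
        rw [hq1, hr, hm, hr]
        have : 2 * (r + 1) - 1 = 2 * r + 1 := by omega
        rw [this]
        ring
      rw [this, pow_mul, hν1, one_pow]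
    rw [hcon] at e1
    have e2 : μ ^ (2 * (q - 1)) = 1 := by
      rw [two_mul, pow_add]; exact e1
    rw [hord, hfac] at e2
    have : q + 1 ∣ 2 := Nat.dvd_of_mul_dvd_mul_right (by omega) e2
    have := Nat.le_of_dvd (by norm_num) this
    omega
  · -- c5
    intro S hS c0 hc0S hc00 hc0 c hc
    have hζ : μ * D.σ μ = μ ^ (q + 1) := by rw [D.pow, pow_succ']
    rw [hζ] at hS
    by_cases hc' : c = 0
    · rw [hc']; exact S.zero_mem
    have hr0 : c / c0 ≠ 0 := div_ne_zero hc' hc00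
    obtain ⟨j, hj⟩ := fixed_pow D hK hgen hord hμ0 hr0 (skew_ratio_fixed D hc00 hc0 hc)
    have hpow : ∀ j : ℕ, (μ ^ (q + 1)) ^ j * c0 ∈ S := by
      intro j
      induction j with
      | zero => rw [pow_zero, one_mul]; exact hc0S
      | succ j ih =>
        rw [pow_succ', mul_assoc]
        exact hS _ ih
    have : c = (μ ^ (q + 1)) ^ j * c0 := by
      rw [← hj, div_mul_cancel₀ _ hc00]
    rw [this]
    exact hpow j


theorem cast_q_eq_zero [Fintype K] (hK : Fintype.card K = q ^ 2) : (q : K) = 0 := by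
  have : ((q ^ 2 : ℕ) : K) = 0 := by rw [← hK]; exact Nat.cast_card_eq_zero K
  rw [Nat.cast_pow] at this
  exact pow_eq_zero_iff (two_ne_zero) |>.mp this

include D in
/-- `n ≥ 4`, `q ≥ 3` odd -/
theorem regimeI_odd [Fintype K] (hK : Fintype.card K = q ^ 2) (hn : 4 ≤ n) (hq3 : 3 ≤ q)
    (hodd : Odd q) : ∃ A B : ↥(Cfsg.SU n K q), Subgroup.closure {A, B} = ⊤ := by
  obtain ⟨m, hm⟩ := hodd
  have hq : 0 < q := by omega
  obtain ⟨μ, hμ0, hgen, hord⟩ := exists_gen hK
  have hfac := sq_sub_one_fac hq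
  have hμN : μ ^ (q ^ 2 - 1) = 1 := (hord _).2 dvd_rfl
  set ζ := μ ^ (q + 1) with hζ
  have hζ0 : ζ ≠ 0 := pow_ne_zero _ hμ0
  have hσζ : D.σ ζ = ζ := by
    rw [D.pow, hζ, ← pow_mul]
    have : (q + 1) * q = (q ^ 2 - 1) + (q + 1) := by
      rw [hfac, ← Nat.mul_succ]
      congr 1
      omega
    rw [this, pow_add, hμN, one_mul]
  -- `ζ ^ m = -1`
  have hζm : ζ ^ m = -1 := by
    have hsq : ζ ^ m * ζ ^ m = 1 := by
      rw [← pow_add, hζ, ← pow_mul]
      have : (q + 1) * (m + m) = q ^ 2 - 1 := by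
        rw [hfac]; congr 1; omega
      rw [this, hμN]
    rcases mul_self_eq_one_iff.mp hsq with h1 | h1
    · exfalso
      rw [hζ, ← pow_mul, hord, hfac] at h1
      have := Nat.dvd_of_mul_dvd_mul_left (by omega) h1
      have := Nat.le_of_dvd (by omega) this
      omega
    · exact h1
  have hne : (1 : K) ≠ -1 := by
    intro h1
    have hm1 : ζ ^ m = 1 := by rw [hζm, ← h1]
    rw [hζ, ← pow_mul, hord, hfac] at hm1
    have := Nat.dvd_of_mul_dvd_mul_left (by omega) hm1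
    have := Nat.le_of_dvd (by omega) this
    omega
  have hqK : (q : K) = 0 := cast_q_eq_zero hK
  refine core D hK hn (by omega) ζ ζ⁻¹ 1 (-1) m ?_ ?_ ?_ hζm ?_ ?_ ?_
  · rw [map_inv₀, hσζ, mul_inv_cancel₀ hζ0]
  · rw [map_one, mul_one]
  · rw [mul_inv_cancel₀ hζ0, mul_one, mul_one]
  · rw [inv_pow, hζm, inv_neg, inv_one]
  · rw [one_pow]; exact hne
  · -- filling
    intro S hS c0 hc0S hc00 hc0 c hc
    rw [hσζ] at hS
    -- closure under powers of `ζ * ζ`
    have hpow2 : ∀ (j : ℕ) (s : K), s ∈ S → (ζ * ζ) ^ j * s ∈ S := by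
      intro j
      induction j with
      | zero => intro s hs; rw [pow_zero, one_mul]; exact hs
      | succ j ih =>
        intro s hs
        rw [pow_succ', mul_assoc]
        exact hS _ (ih s hs)
    -- closure under `ζ`
    have hζS : ∀ s ∈ S, ζ * s ∈ S := by
      intro s hs
      have h1 : (ζ + 1) * (ζ + 1) * s ∈ S := by
        by_cases hz : ζ + 1 = 0
        · rw [hz, zero_mul, zero_mul]; exact S.zero_mem
        · have hfix : D.σ (ζ + 1) = ζ + 1 := by rw [map_add, hσζ, map_one]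
          obtain ⟨j, hj⟩ := fixed_pow D hK hgen hord hμ0 hz hfix
          rw [hj, ← mul_pow]
          exact hpow2 j s hs
      have h2 : (2 * ζ) * s ∈ S := by
        have e : (2 * ζ) * s = (ζ + 1) * (ζ + 1) * s - ζ * ζ * s - s := by ring
        rw [e]
        exact S.sub_mem (S.sub_mem h1 (hS s hs)) hs
      have h3 : (m + 1) • ((2 * ζ) * s) ∈ S := S.nsmul_mem h2 _
      have e : (m + 1) • ((2 * ζ) * s) = ζ * s := by
        rw [nsmul_eq_mul]
        have : ((m + 1 : ℕ) : K) * 2 = 1 := by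
          have : ((m + 1 : ℕ) : K) * 2 = ((q + 1 : ℕ) : K) := by
            rw [hm]; push_cast; ring
          rw [this, Nat.cast_add, hqK, zero_add, Nat.cast_one]
        linear_combination (ζ * s) * this
      rw [e] at h3
      exact h3
    by_cases hc' : c = 0
    · rw [hc']; exact S.zero_mem
    have hr0 : c / c0 ≠ 0 := div_ne_zero hc' hc00
    obtain ⟨j, hj⟩ := fixed_pow D hK hgen hord hμ0 hr0 (skew_ratio_fixed D hc00 hc0 hc)
    have hpow : ∀ j : ℕ, ζ ^ j * c0 ∈ S := by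
      intro j
      induction j with
      | zero => rw [pow_zero, one_mul]; exact hc0S
      | succ j ih =>
        rw [pow_succ', mul_assoc]
        exact hζS _ ih
    have : c = ζ ^ j * c0 := by
      rw [← hj, div_mul_cancel₀ _ hc00]
    rw [this]
    exact hpow j

include D in
/-- `n ≥ 4`, `q ≥ 3` -/
theorem regimeI [Fintype K] (hK : Fintype.card K = q ^ 2) (hn : 4 ≤ n) (hq3 : 3 ≤ q) :
    ∃ A B : ↥(Cfsg.SU n K q), Subgroup.closure {A, B} = ⊤ := by
  rcases Nat.even_or_odd q with hev | hodd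
  · have : 4 ≤ q := by
      obtain ⟨m, hm⟩ := hev
      omega
    exact regimeI_even D hK hn this hev
  · exact regimeI_odd D hK hn hq3 hodd

end Cfsg.Agent.Helper12.SUTwo
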