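import Mathlib
import Cfsg.Agent.Helper12.SUTwoJ

/-! Two-generation of `SU_n(2)`, `n ≥ 4`: tools over the field with four elements. -/

set_option autoImplicit false

namespace Cfsg.Agent.Helper12.SUTwo

open Matrix Module Cfsg.Agent.S2644 Cfsg.Agent.Helper2.SUGen

variable {K : Type*} [Field K] {n : ℕ}

local notation "h" => Cfsg.hermForm n K 2
local notation "T" => Cfsg.unitaryTransvection n 2

variable (D : Frob K 2)

section basics

variable [Fintype K] (hK : Fintype.card K = 2 ^ 2)

include hK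

theorem two_zero : (2 : K) = 0 := by
  have := cast_q_eq_zero hK
  exact_mod_cast this

theorem neg_self_eq (c : K) : -c = c := by
  linear_combination (-c) * two_zero hK

theorem cube_one {x : K} (hx : x ≠ 0) : x ^ 3 = 1 := pow_card_sub_one' hK hx

include D in
theorem norm_one {x : K} (hx : x ≠ 0) : x * D.σ x = 1 := by
  rw [D.pow, ← pow_succ']
  exact cube_one hK hx

include D in
theorem σ_eq_inv {x : K} (hx : x ≠ 0) : D.σ x = x⁻¹ :=
  eq_inv_of_mul_eq_one_right (norm_one D hK hx)

include D in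
theorem exists_omega4 : ∃ ω : K, ω ≠ 0 ∧ ω ^ 2 + ω + 1 = 0 ∧ D.σ ω = ω ^ 2 := by
  obtain ⟨ζ, hζ1, hζ⟩ := exists_norm_one_ne D
  have hζ0 : ζ ≠ 0 := by
    rintro rfl
    rw [zero_mul] at hζ
    exact zero_ne_one hζ
  refine ⟨ζ, hζ0, ?_, D.pow ζ⟩
  have h3 := cube_one hK hζ0
  have : (ζ - 1) * (ζ ^ 2 + ζ + 1) = 0 := by linear_combination h3
  rcases mul_eq_zero.mp this with h1 | h1
  · exact absurd (sub_eq_zero.mp h1) hζ1
  · exact h1

include D in
theorem skew_cases {c : K} (hc : D.σ c = -c) : c = 0 ∨ c = 1 := by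
  rw [D.pow, neg_self_eq hK] at hc
  have : c * (c - 1) = 0 := by linear_combination hc
  rcases mul_eq_zero.mp this with h1 | h1
  · exact Or.inl h1
  · exact Or.inr (sub_eq_zero.mp h1)

include D in
theorem skew_one : D.σ (1 : K) = -1 := by
  rw [map_one, neg_self_eq hK]

include D in
/-- for `q = 2`, a root group is a single transvection -/
theorem TS_of_one {H : Subgroup ↥(Cfsg.SU n K 2)} {v : Fin n → K} (hvv : h v v = 0)
    (hT : InH H (T v 1)) : v ∈ TS D H := by
  refine ⟨hvv, fun c hc => ?_⟩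
  rcases skew_cases D hK hc with h0 | h1
  · rw [h0, Cfsg.Agent.S0781.T_zero_coeff]
    exact InH.one H
  · rw [h1]; exact hT

end basics

/-! ### vectors with four entries -/

/-- the vector `(a, b, c, d, 0, …, 0)` -/
def q4 (n : ℕ) (a b c d : K) : Fin n → K := fun k =>
  if k.val = 0 then a else if k.val = 1 then b else if k.val = 2 then c else
    if k.val = 3 then d else 0

theorem q4_eq (hn : 4 ≤ n) (a b c d : K) :
    q4 n a b c d = a • eb n ⟨0, by omega⟩ + b • eb n ⟨1, by omega⟩ + c • eb n ⟨2, by omega⟩ +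
      d • eb n ⟨3, by omega⟩ := by
  funext k
  simp only [q4, Pi.add_apply, Pi.smul_apply, eb, Pi.single_apply, smul_eq_mul, Fin.ext_iff]
  by_cases h0 : k.val = 0
  · simp [h0]
  by_cases h1 : k.val = 1
  · simp [h1]
  by_cases h2 : k.val = 2
  · simp [h2]
  by_cases h3 : k.val = 3
  · simp [h3]
  simp [h0, h1, h2, h3]

theorem q4_add_smul (a b c d a' b' c' d' s : K) :
    q4 n a b c d + s • q4 n a' b' c' d' = q4 n (a + s * a') (b + s * b') (c + s * c') (d + s * d') := by
  funext k
  simp only [q4, Pi.add_apply, Pi.smul_apply, smul_eq_mul]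
  split_ifs <;> simp

theorem q4_smul (a b c d s : K) : s • q4 n a b c d = q4 n (s * a) (s * b) (s * c) (s * d) := by
  funext k
  simp only [q4, Pi.smul_apply, smul_eq_mul]
  split_ifs <;> simp

theorem q4_mem_Yk (a b c d : K) : q4 n a b c d ∈ Yk K n 4 := by
  intro i hi
  simp only [q4]
  rw [if_neg (by omega), if_neg (by omega), if_neg (by omega), if_neg (by omega)]

theorem q4_mem_Yk3 (a b c : K) : q4 n a b c 0 ∈ Yk K n 3 := by
  intro i hi
  simp only [q4]
  rw [if_neg (by omega), if_neg (by omega), if_neg (by omega)]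
  split_ifs <;> rfl

theorem q4_mem_Yk2 (a b : K) : q4 n a b 0 0 ∈ Yk K n 2 := by
  intro i hi
  simp only [q4]
  rw [if_neg (by omega), if_neg (by omega)]
  split_ifs <;> rfl

theorem eq_q4 (hn : 4 ≤ n) {y : Fin n → K} (hy : y ∈ Yk K n 4) :
    y = q4 n (y ⟨0, by omega⟩) (y ⟨1, by omega⟩) (y ⟨2, by omega⟩) (y ⟨3, by omega⟩) := by
  funext k
  simp only [q4]
  by_cases h0 : k.val = 0
  · rw [if_pos h0]; congr 1; exact Fin.ext h0
  by_cases h1 : k.val = 1
  · rw [if_neg h0, if_pos h1]; congr 1; exact Fin.ext h1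
  by_cases h2 : k.val = 2
  · rw [if_neg h0, if_neg h1, if_pos h2]; congr 1; exact Fin.ext h2
  by_cases h3 : k.val = 3
  · rw [if_neg h0, if_neg h1, if_neg h2, if_pos h3]; congr 1; exact Fin.ext h3
  rw [if_neg h0, if_neg h1, if_neg h2, if_neg h3]
  exact hy k (by omega)

include D in
theorem h_q4 (hn : 4 ≤ n) (z : Fin n → K) (a b c d : K) :
    h z (q4 n a b c d) = z ⟨0, by omega⟩ * D.σ a + z ⟨1, by omega⟩ * D.σ b +
      z ⟨2, by omega⟩ * D.σ c + z ⟨3, by omega⟩ * D.σ d := by
  rw [q4_eq hn, h_add_right D, h_add_right D, h_add_right D, h_smul_right D, h_smul_right D,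
    h_smul_right D, h_smul_right D, h_eb_right D, h_eb_right D, h_eb_right D, h_eb_right D]
  ring

include D in
theorem h_q4_q4 (hn : 4 ≤ n) (a b c d a' b' c' d' : K) :
    h (q4 n a b c d) (q4 n a' b' c' d') = a * D.σ a' + b * D.σ b' + c * D.σ c' + d * D.σ d' := by
  rw [h_q4 D hn]
  simp [q4]

include D in
/-- a transvection with four entries applied to a vector with four entries -/
theorem T_q4 (hn : 4 ≤ n) (a b c d a' b' c' d' : K) :
    T (q4 n a' b' c' d') 1 *ᵥ q4 n a b c d =
      q4 n (a + (a * D.σ a' + b * D.σ b' + c * D.σ c' + d * D.σ d') * a')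
        (b + (a * D.σ a' + b * D.σ b' + c * D.σ c' + d * D.σ d') * b')
        (c + (a * D.σ a' + b * D.σ b' + c * D.σ c' + d * D.σ d') * c')
        (d + (a * D.σ a' + b * D.σ b' + c * D.σ c' + d * D.σ d') * d') := by
  rw [T_mulVec, one_mul, h_q4_q4 D hn, q4_add_smul]

/-- the monomial cycle on vectors with vanishing first entry -/
theorem Rot_q4 (hn : 4 ≤ n) (b c d : K) : Rot K n *ᵥ q4 n 0 b c d = q4 n b c d 0 := by
  funext i
  rw [Rot_mulVec]
  rcases Nat.lt_or_ge (i.val + 1) n with h1 | h1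
  · have hv := val_finRotate_of_lt i h1
    have hr : rotD K n (finRotate n i) = 1 := by
      unfold rotD
      rw [if_neg (by omega)]
    rw [hr, one_mul]
    simp only [q4, hv]
    by_cases h0 : i.val = 0
    · simp [h0]
    by_cases h1' : i.val = 1
    · simp [h1']
    by_cases h2 : i.val = 2
    · simp [h2]
    by_cases h3 : i.val = 3
    · simp [h3]
    rw [if_neg (by omega), if_neg (by omega), if_neg (by omega), if_neg (by omega),
      if_neg h0, if_neg h1', if_neg h2, if_neg h3]
  · have hv := val_finRotate_of_eq i (by have := i.isLt; omega)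
    simp only [q4, hv]
    rw [if_pos trivial, mul_zero, if_neg (by have := i.isLt; omega), if_neg (by have := i.isLt; omega),
      if_neg (by have := i.isLt; omega)]
    split_ifs <;> rfl

end Cfsg.Agent.Helper12.SUTwo
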