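import Mathlib
import Cfsg.Agent.Helper12.SUTwoK

/-! Two-generation of `SU_n(2)`, `n ≥ 4`: the construction. -/

set_option autoImplicit false

namespace Cfsg.Agent.Helper12.SUTwo

open Matrix Module Cfsg.Agent.S2644 Cfsg.Agent.Helper2.SUGen

variable {K : Type*} [Field K] {n : ℕ}

local notation "h" => Cfsg.hermForm n K 2
local notation "T" => Cfsg.unitaryTransvection n 2

variable (D : Frob K 2)

section

variable [Fintype K] (hK : Fintype.card K = 2 ^ 2) (hn : 4 ≤ n) {ω : K}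
  (hω : ω ^ 2 + ω + 1 = 0) (hσω : D.σ ω = ω ^ 2)

include D hK hn hω hσω

/-- the first monomial element on vectors with four entries -/
theorem m_q4 (a b c d : K) :
    (T (q4 n 1 1 0 0) 1 * T (q4 n 0 1 ω 0) 1) *ᵥ q4 n a b c d = q4 n (ω ^ 2 * c) a (ω * b) d := by
  have h2 := two_zero hK
  rw [← mulVec_mulVec, T_q4 D hn, T_q4 D hn]
  simp only [map_zero, map_one, hσω]
  congr 1 <;> grind

/-- the second monomial element on vectors with four entries -/
theorem m2_q4 (a b c d : K) :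
    (T (q4 n 0 1 1 0) 1 * T (q4 n 0 0 1 ω) 1) *ᵥ q4 n a b c d = q4 n a (ω ^ 2 * d) b (ω * c) := by
  have h2 := two_zero hK
  rw [← mulVec_mulVec, T_q4 D hn, T_q4 D hn]
  simp only [map_zero, map_one, hσω]
  congr 1 <;> grind

theorem y1_eq : (T (q4 n 0 1 1 0) 1 * T (q4 n 0 0 1 ω) 1) *ᵥ q4 n 1 1 ω 1 =
    q4 n 1 (ω ^ 2) 1 (ω ^ 2) := by
  have h2 := two_zero hK
  rw [m2_q4 D hK hn hω hσω]
  congr 1 <;> grind

theorem x1_eq : (T (q4 n 1 1 0 0) 1 * T (q4 n 0 1 ω 0) 1) *ᵥ q4 n 1 (ω ^ 2) 1 (ω ^ 2) =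
    q4 n (ω ^ 2) 1 1 (ω ^ 2) := by
  have h2 := two_zero hK
  rw [m_q4 D hK hn hω hσω]
  congr 1 <;> grind

theorem x1'_eq : (T (q4 n 1 1 0 0) 1 * T (q4 n 0 1 ω 0) 1) *ᵥ q4 n (ω ^ 2) 1 1 (ω ^ 2) =
    q4 n (ω ^ 2) (ω ^ 2) ω (ω ^ 2) := by
  have h2 := two_zero hK
  rw [m_q4 D hK hn hω hσω]
  congr 1 <;> grind

theorem x2'_eq : (T (q4 n 0 1 1 0) 1 * T (q4 n 0 0 1 ω) 1) *ᵥ q4 n (ω ^ 2) (ω ^ 2) ω (ω ^ 2) =
    q4 n (ω ^ 2) ω (ω ^ 2) (ω ^ 2) := by
  have h2 := two_zero hK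
  rw [m2_q4 D hK hn hω hσω]
  congr 1 <;> grind

theorem x2_eq : (T (q4 n 0 1 1 0) 1 * T (q4 n 0 0 1 ω) 1) *ᵥ q4 n (ω ^ 2) ω (ω ^ 2) (ω ^ 2) =
    q4 n (ω ^ 2) ω ω 1 := by
  have h2 := two_zero hK
  rw [m2_q4 D hK hn hω hσω]
  congr 1 <;> grind

theorem ua_eq : T (q4 n (ω ^ 2) 1 1 (ω ^ 2)) 1 *ᵥ q4 n 1 (ω ^ 2) 1 (ω ^ 2) = q4 n ω ω 0 0 := by
  have h2 := two_zero hK
  rw [T_q4 D hn]
  simp only [map_one, map_pow, hσω]
  congr 1 <;> grind

theorem ub_eq : T (q4 n (ω ^ 2) ω ω 1) 1 *ᵥ q4 n 1 1 ω 1 = q4 n ω (ω ^ 2) 0 0 := by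
  have h2 := two_zero hK
  rw [T_q4 D hn]
  simp only [map_one, map_pow, hσω]
  congr 1 <;> grind

end


set_option maxHeartbeats 1000000 in
include D in
/-- the first step for `q = 2`, `n ≥ 4`: two generators giving the block of the first two
coordinates, the monomial cycle, and a transvection with four entries -/
theorem regimeIII_aux [Fintype K] (hK : Fintype.card K = 2 ^ 2) (hn : 4 ≤ n) :
    ∃ (A B : ↥(Cfsg.SU n K 2)) (ω : K), ω ≠ 0 ∧ ω ^ 2 + ω + 1 = 0 ∧ D.σ ω = ω ^ 2 ∧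
      Blk (Subgroup.closure {A, B}) 2 ∧ InH (Subgroup.closure {A, B}) (Rot K n) ∧
      q4 n 1 1 ω 1 ∈ TS D (Subgroup.closure {A, B}) := by
  have hfin : Finite K := Finite.of_fintype K
  obtain ⟨ω, hω0, hω, hσω⟩ := exists_omega4 D hK
  have h2 := two_zero hK
  have h11 : (1 : K) + 1 = 0 := by linear_combination h2
  have hs1 : D.σ (1 : K) = -1 := skew_one D hK
  set p1 := q4 n (1 : K) 1 0 0 with hp1
  set p2 := q4 n (0 : K) 1 ω 0 with hp2
  set p12 := q4 n (1 : K) 0 ω 0 with hp12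
  set p1' := q4 n (0 : K) 1 1 0 with hp1'
  set p2' := q4 n (0 : K) 0 1 ω with hp2'
  set v := q4 n (1 : K) 1 ω 1 with hv
  have iso1 : h p1 p1 = 0 := by
    rw [hp1, h_q4_q4 D hn]; simp only [map_zero, map_one, hσω]; grind
  have iso2 : h p2 p2 = 0 := by
    rw [hp2, h_q4_q4 D hn]; simp only [map_zero, map_one, hσω]; grind
  have iso12 : h p12 p12 = 0 := by
    rw [hp12, h_q4_q4 D hn]; simp only [map_zero, map_one, hσω]; grind
  have iso1' : h p1' p1' = 0 := by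
    rw [hp1', h_q4_q4 D hn]; simp only [map_zero, map_one, hσω]; grind
  have iso2' : h p2' p2' = 0 := by
    rw [hp2', h_q4_q4 D hn]; simp only [map_zero, map_one, hσω]; grind
  have isov : h v v = 0 := by
    rw [hv, h_q4_q4 D hn]; simp only [map_zero, map_one, hσω]; grind
  set s1 := T p1 1 with hs1d
  set s2 := T p2 1 with hs2d
  set t := T v 1 with ht
  have hPs1 : Pres (q := 2) s1 := pres_T D iso1 hs1
  have hPs2 : Pres (q := 2) s2 := pres_T D iso2 hs1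
  have hPt : Pres (q := 2) t := pres_T D isov hs1
  have hds1 : s1.det = 1 := Cfsg.Agent.S0781.det_T p1 1 iso1
  have hds2 : s2.det = 1 := Cfsg.Agent.S0781.det_T p2 1 iso2
  have hdt : t.det = 1 := Cfsg.Agent.S0781.det_T v 1 isov
  set m := s1 * s2 with hm
  have hPm : Pres (q := 2) m := hPs1.mul hPs2
  have hdm : m.det = 1 := by rw [hm, Matrix.det_mul, hds1, hds2, mul_one]
  -- the cube of `m`
  have sq1 : s1 * s1 = 1 := by
    rw [hs1d, T_mul' D p1 1 1 iso1, h11, Cfsg.Agent.S0781.T_zero_coeff]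
  have sq2 : s2 * s2 = 1 := by
    rw [hs2d, T_mul' D p2 1 1 iso2, h11, Cfsg.Agent.S0781.T_zero_coeff]
  have e12 : s1 *ᵥ p2 = p12 := by
    rw [hs1d, hp1, hp2, T_q4 D hn, hp12]
    simp only [map_zero, map_one, hσω]
    congr 1 <;> grind
  have e21 : s2 *ᵥ p1 = p12 := by
    rw [hs2d, hp1, hp2, T_q4 D hn, hp12]
    simp only [map_zero, map_one, hσω]
    congr 1 <;> grind
  have c12 : s1 * s2 = T p12 1 * s1 := by
    have := T_conj s1 hPs1 p2 1
    rw [e12] at this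
    exact this
  have c21 : s2 * s1 = T p12 1 * s2 := by
    have := T_conj s2 hPs2 p1 1
    rw [e21] at this
    exact this
  have hm3 : m ^ 3 = 1 := by
    have e : m ^ 3 = (s1 * s2 * s1) * (s2 * s1 * s2) := by
      rw [hm, pow_succ, pow_succ, pow_one]
      simp only [Matrix.mul_assoc]
    rw [e, c12, Matrix.mul_assoc (T p12 1), sq1, Matrix.mul_one, c21, Matrix.mul_assoc (T p12 1), sq2,
      Matrix.mul_one, T_mul' D p12 1 1 iso12, h11, Cfsg.Agent.S0781.T_zero_coeff]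
  -- `m` fixes `v`
  have f2 : s2 *ᵥ v = v := by
    rw [hs2d]
    apply T_fix_of_perp
    rw [hv, hp2, h_q4_q4 D hn]; simp only [map_zero, map_one, hσω]; grind
  have f1 : s1 *ᵥ v = v := by
    rw [hs1d]
    apply T_fix_of_perp
    rw [hv, hp1, h_q4_q4 D hn]; simp only [map_zero, map_one]; grind
  have hmv : m *ᵥ v = v := by
    rw [hm, ← mulVec_mulVec, f2, f1]
  have com : Commute m t := by
    have := T_conj m hPm v 1
    rw [hmv] at this
    exact this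
  set Amat := m * t with hAmat
  have hPA : Pres (q := 2) Amat := hPm.mul hPt
  have hdA : Amat.det = 1 := by rw [hAmat, Matrix.det_mul, hdm, hdt, mul_one]
  have hdetR : (Rot K n).det = 1 := det_Rot (by omega)
  have hPR : Pres (q := 2) (Rot K n) := pres_Rot D
  refine ⟨mkSU Amat hdA hPA, mkSU (Rot K n) hdetR hPR, ω, hω0, hω, hσω, ?_⟩
  set H := Subgroup.closure {mkSU Amat hdA hPA, mkSU (Rot K n) hdetR hPR} with hH
  have hA : InH H Amat := InH.of_mk hdA hPA (Subgroup.subset_closure (by simp))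
  have hR : InH H (Rot K n) := InH.of_mk hdetR hPR (Subgroup.subset_closure (by simp))
  have htH : InH H t := by
    have e : Amat ^ 3 = t := by
      rw [hAmat, com.mul_pow, hm3, Matrix.one_mul, ht, T_pow D v 1 isov]
      congr 1
      push_cast
      linear_combination h2
    rw [← e]
    exact hA.pow 3
  have hmH : InH H m := by
    have e : m = Amat * t := by
      rw [hAmat, Matrix.mul_assoc, ht, T_mul' D v 1 1 isov, h11, Cfsg.Agent.S0781.T_zero_coeff,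
        Matrix.mul_one]
    rw [e]
    exact hA.mul htH
  -- the second monomial element
  set m2 := T p1' 1 * T p2' 1 with hm2
  have hm2H : InH H m2 := by
    have hP1' : Pres (q := 2) (T p1' 1) := pres_T D iso1' hs1
    have r1 : Rot K n *ᵥ p1' = p1 := by rw [hp1', Rot_q4 hn]
    have r2 : Rot K n *ᵥ p2' = p2 := by rw [hp2', Rot_q4 hn]
    have e : Rot K n * m2 = m * Rot K n := by
      rw [hm2, ← Matrix.mul_assoc, T_conj (Rot K n) hPR p1' 1, r1, Matrix.mul_assoc,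
        T_conj (Rot K n) hPR p2' 1, r2, ← Matrix.mul_assoc]
    obtain ⟨R', hR', -, hR'R⟩ := hR.exists_inv
    have : m2 = R' * (m * Rot K n) := by
      rw [← e, ← Matrix.mul_assoc, hR'R, Matrix.one_mul]
    rw [this]
    exact hR'.mul (hmH.mul hR)
  -- the vectors
  have hvTS : v ∈ TS D H := TS_of_one D hK isov htH
  have hy1 : q4 n (1 : K) (ω ^ 2) 1 (ω ^ 2) ∈ TS D H := by
    rw [← y1_eq D hK hn hω hσω]
    exact TS.map D hvTS hm2H
  have hx1 : q4 n (ω ^ 2) (1 : K) 1 (ω ^ 2) ∈ TS D H := by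
    rw [← x1_eq D hK hn hω hσω]
    exact TS.map D hy1 hmH
  have hx1' : q4 n (ω ^ 2) (ω ^ 2) ω (ω ^ 2) ∈ TS D H := by
    rw [← x1'_eq D hK hn hω hσω]
    exact TS.map D hx1 hmH
  have hx2' : q4 n (ω ^ 2) ω (ω ^ 2) (ω ^ 2) ∈ TS D H := by
    rw [← x2'_eq D hK hn hω hσω]
    exact TS.map D hx1' hm2H
  have hx2 : q4 n (ω ^ 2) ω ω (1 : K) ∈ TS D H := by
    rw [← x2_eq D hK hn hω hσω]
    exact TS.map D hx2' hm2H
  have hua : q4 n ω ω (0 : K) 0 ∈ TS D H := by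
    rw [← ua_eq D hK hn hω hσω]
    exact TS.map D hy1 (hx1.2 1 hs1)
  have hub : q4 n ω (ω ^ 2) (0 : K) 0 ∈ TS D H := by
    rw [← ub_eq D hK hn hω hσω]
    exact TS.map D hvTS (hx2.2 1 hs1)
  have huab : h (q4 n ω ω (0 : K) 0) (q4 n ω (ω ^ 2) (0 : K) 0) ≠ 0 := by
    rw [h_q4_q4 D hn]
    simp only [map_zero, map_one, map_pow, hσω]
    intro h0
    apply hω0
    grind
  refine ⟨?_, hR, hvTS⟩
  exact blk2_of_pair D (by omega) hua hub huab
    (perp_pair_Yk2 D (by omega) (q4_mem_Yk2 _ _) (q4_mem_Yk2 _ _) hua.1 huab)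

end Cfsg.Agent.Helper12.SUTwo
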