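import Mathlib
import Cfsg.Agent.Helper12.SUTwoL

/-! Two-generation of `SU_n(2)`, `n ≥ 4`: the block of the first four coordinates. -/

set_option autoImplicit false

namespace Cfsg.Agent.Helper12.SUTwo

open Matrix Module Cfsg.Agent.S2644 Cfsg.Agent.Helper2.SUGen

variable {K : Type*} [Field K] {n : ℕ}

local notation "h" => Cfsg.hermForm n K 2
local notation "T" => Cfsg.unitaryTransvection n 2

variable (D : Frob K 2)

section

variable [Fintype K] (hK : Fintype.card K = 2 ^ 2) (hn : 4 ≤ n)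

include D hK hn

theorem tw01_eq {x : K} (hx : x ^ 3 = 1) (a b c d : K) :
    T (q4 n 1 1 0 0) 1 *ᵥ (T (q4 n 1 x 0 0) 1 *ᵥ q4 n a b c d) = q4 n (x * a) (x ^ 2 * b) c d := by
  have h2 := two_zero hK
  rw [T_q4 D hn, T_q4 D hn]
  simp only [map_zero, map_one, D.pow]
  congr 1 <;> grind

theorem tw12_eq {x : K} (hx : x ^ 3 = 1) (a b c d : K) :
    T (q4 n 0 1 1 0) 1 *ᵥ (T (q4 n 0 1 x 0) 1 *ᵥ q4 n a b c d) = q4 n a (x * b) (x ^ 2 * c) d := by
  have h2 := two_zero hK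
  rw [T_q4 D hn, T_q4 D hn]
  simp only [map_zero, map_one, D.pow]
  congr 1 <;> grind

theorem tw23_eq {x : K} (hx : x ^ 3 = 1) (a b c d : K) :
    T (q4 n 0 0 1 1) 1 *ᵥ (T (q4 n 0 0 1 x) 1 *ᵥ q4 n a b c d) = q4 n a b (x * c) (x ^ 2 * d) := by
  have h2 := two_zero hK
  rw [T_q4 D hn, T_q4 D hn]
  simp only [map_zero, map_one, D.pow]
  congr 1 <;> grind

theorem t03_eq (x : K) : T (q4 n 0 1 0 x) 1 *ᵥ q4 n 1 1 0 0 = q4 n 1 0 0 x := by
  have h2 := two_zero hK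
  rw [T_q4 D hn]
  simp only [map_zero, map_one, D.pow]
  congr 1 <;> grind

omit [Fintype K] hK in
/-- the norm of a vector with four entries -/
theorem h_q4_self (a b c d : K) :
    h (q4 n a b c d) (q4 n a b c d) = a ^ 3 + b ^ 3 + c ^ 3 + d ^ 3 := by
  rw [h_q4_q4 D hn, D.pow, D.pow, D.pow, D.pow]
  ring

end

theorem supp4_arith (ω a b c d θ : K) (h2 : (2 : K) = 0) (hω : ω ^ 2 + ω + 1 = 0)
    (ha : a ^ 3 = 1) (hb : b ^ 3 = 1) (hc : c ^ 3 = 1) (hd : d ^ 3 = 1) (hθ3 : θ ^ 3 = 1)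
    (hθ : θ * (a * b * c * d) = ω) :
    (θ * a) ^ 2 * (θ ^ 2 * a * b * 1) = θ * b ∧
      (θ ^ 2 * a * b) ^ 2 * (a * b * c * ω ^ 2 * ω) = θ * c ∧
      (a * b * c * ω ^ 2) ^ 2 * 1 = θ * d := by
  refine ⟨?_, ?_, ?_⟩ <;> grind

theorem theta_arith (ω P : K) (hP : P ^ 3 = 1) : ω * P ^ 2 * P = ω := by
  linear_combination ω * hP

set_option maxHeartbeats 1000000 in
include D in
/-- `SU_n(2)` is two-generated for `n ≥ 4` -/
theorem regimeIII [Fintype K] (hK : Fintype.card K = 2 ^ 2) (hn : 4 ≤ n) :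
    ∃ A B : ↥(Cfsg.SU n K 2), Subgroup.closure {A, B} = ⊤ := by
  have hfin : Finite K := Finite.of_fintype K
  obtain ⟨A, B, ω, hω0, hω, hσω, hB2, hR, hvTS⟩ := regimeIII_aux D hK hn
  refine ⟨A, B, ?_⟩
  set H := Subgroup.closure {A, B} with hH
  have h2 := two_zero hK
  have hs1 : D.σ (1 : K) = -1 := skew_one D hK
  have cube : ∀ x : K, x ≠ 0 → x ^ 3 = 1 := fun x hx => cube_one hK hx
  have stepA : ∀ y : Fin n → K, y ∈ Yk K n 3 → h y y = 0 → y ∈ TS D H :=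
    fun y hy hyy => chain3 D (by omega) hB2 hR hy hyy
  have stepB : ∀ b c d : K, h (q4 n 0 b c d) (q4 n 0 b c d) = 0 → q4 n 0 b c d ∈ TS D H := by
    intro b c d hyy
    apply TS.of_map D hR
    rw [Rot_q4 hn]
    apply stepA _ (q4_mem_Yk3 _ _ _)
    rw [← Rot_q4 hn, hR.pres, hyy]
  have H01 : ∀ x : K, x ≠ 0 → q4 n 1 x 0 0 ∈ TS D H := by
    intro x hx
    apply stepA _ (q4_mem_Yk3 _ _ _)
    rw [h_q4_self D hn, cube x hx]
    grind
  have H12 : ∀ x : K, x ≠ 0 → q4 n 0 1 x 0 ∈ TS D H := by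
    intro x hx
    apply stepA _ (q4_mem_Yk3 _ _ _)
    rw [h_q4_self D hn, cube x hx]
    grind
  have H23 : ∀ x : K, x ≠ 0 → q4 n 0 0 1 x ∈ TS D H := by
    intro x hx
    apply stepB
    rw [h_q4_self D hn, cube x hx]
    grind
  have H13 : ∀ x : K, x ≠ 0 → q4 n 0 1 0 x ∈ TS D H := by
    intro x hx
    apply stepB
    rw [h_q4_self D hn, cube x hx]
    grind
  have H03 : ∀ x : K, x ≠ 0 → q4 n 1 0 0 x ∈ TS D H := by
    intro x hx
    rw [← t03_eq D hK hn]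
    exact TS.map D (H01 1 one_ne_zero) ((H13 x hx).2 1 hs1)
  -- vectors with four non-zero entries
  have H4 : ∀ a b c d : K, a ≠ 0 → b ≠ 0 → c ≠ 0 → d ≠ 0 → q4 n a b c d ∈ TS D H := by
    intro a b c d ha hb hc hd
    have ha3 := cube a ha
    have hb3 := cube b hb
    have hc3 := cube c hc
    have hd3 := cube d hd
    have hP0 : a * b * c * d ≠ 0 := mul_ne_zero (mul_ne_zero (mul_ne_zero ha hb) hc) hd
    obtain ⟨θ, hθ0, hθ⟩ : ∃ θ : K, θ ≠ 0 ∧ θ * (a * b * c * d) = ω :=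
      ⟨ω * (a * b * c * d) ^ 2, mul_ne_zero hω0 (pow_ne_zero _ hP0),
        theta_arith ω _ (cube _ hP0)⟩
    have hθ3 := cube θ hθ0
    have hx10 : θ * a ≠ 0 := mul_ne_zero hθ0 ha
    have hx20 : θ ^ 2 * a * b ≠ 0 := mul_ne_zero (mul_ne_zero (pow_ne_zero _ hθ0) ha) hb
    have hx30 : a * b * c * ω ^ 2 ≠ 0 :=
      mul_ne_zero (mul_ne_zero (mul_ne_zero ha hb) hc) (pow_ne_zero _ hω0)
    have hx1c := cube _ hx10
    have hx2c := cube _ hx20
    have hx3c := cube _ hx30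
    have z1 : q4 n 1 1 (a * b * c * ω ^ 2 * ω) ((a * b * c * ω ^ 2) ^ 2 * 1) ∈ TS D H := by
      rw [← tw23_eq D hK hn hx3c]
      exact TS.map D (TS.map D hvTS ((H23 _ hx30).2 1 hs1)) ((H23 1 one_ne_zero).2 1 hs1)
    have z2 : q4 n 1 (θ ^ 2 * a * b * 1) ((θ ^ 2 * a * b) ^ 2 * (a * b * c * ω ^ 2 * ω))
        ((a * b * c * ω ^ 2) ^ 2 * 1) ∈ TS D H := by
      rw [← tw12_eq D hK hn hx2c]
      exact TS.map D (TS.map D z1 ((H12 _ hx20).2 1 hs1)) ((H12 1 one_ne_zero).2 1 hs1)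
    have z3 : q4 n (θ * a * 1) ((θ * a) ^ 2 * (θ ^ 2 * a * b * 1))
        ((θ ^ 2 * a * b) ^ 2 * (a * b * c * ω ^ 2 * ω)) ((a * b * c * ω ^ 2) ^ 2 * 1) ∈ TS D H := by
      rw [← tw01_eq D hK hn hx1c]
      exact TS.map D (TS.map D z2 ((H01 _ hx10).2 1 hs1)) ((H01 1 one_ne_zero).2 1 hs1)
    obtain ⟨e1, e2, e3⟩ := supp4_arith ω a b c d θ h2 hω ha3 hb3 hc3 hd3 hθ3 hθ
    rw [e1, e2, e3, mul_one, ← q4_smul] at z3
    have := TS.smul D z3 (θ ^ 2)
    rw [smul_smul, ← pow_succ, hθ3, one_smul] at this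
    exact this
  -- all isotropic vectors of the first four coordinates
  have hTS : ∀ y : Fin n → K, h y y = 0 → (∀ i : Fin n, 4 ≤ i.val → y i = 0) → y ∈ TS D H := by
    intro y hyy hy
    have ey := eq_q4 hn (mem_Yk.mpr hy)
    set a := y ⟨0, by omega⟩
    set b := y ⟨1, by omega⟩
    set c := y ⟨2, by omega⟩
    set d := y ⟨3, by omega⟩
    rw [ey] at hyy ⊢
    by_cases ha : a = 0
    · rw [ha] at hyy ⊢
      exact stepB b c d hyy
    by_cases hd : d = 0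
    · rw [hd] at hyy ⊢
      exact stepA _ (q4_mem_Yk3 _ _ _) hyy
    have ha3 := cube a ha
    have hd3 := cube d hd
    rw [h_q4_self D hn, ha3, hd3] at hyy
    by_cases hb : b = 0
    · by_cases hc : c = 0
      · rw [hb, hc]
        have e : q4 n a 0 0 d = a • q4 n 1 0 0 (d / a) := by
          rw [q4_smul, mul_one, mul_zero, mul_div_cancel₀ _ ha]
        rw [e]
        exact TS.smul D (H03 _ (div_ne_zero hd ha)) a
      · exfalso
        have hc3 := cube c hc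
        rw [hb, hc3] at hyy
        have : (1 : K) = 0 := by grind
        exact one_ne_zero this
    · by_cases hc : c = 0
      · exfalso
        have hb3 := cube b hb
        rw [hc, hb3] at hyy
        have : (1 : K) = 0 := by grind
        exact one_ne_zero this
      · exact H4 a b c d ha hb hc hd
  have hB4 : Blk H 4 :=
    blk_of_TS D hK (by norm_num) hn (fun hh => absurd hh.1 (by norm_num)) H hTS
  exact sweep D hK (by omega) (fun hh => absurd hh.1 (by omega)) (by norm_num) hn H hB4 hR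
    (fun i => rotD K n (finRotate n i)) (finRotate n) val_finRotate_of_lt val_finRotate_of_eq
    Rot_mulVec

end Cfsg.Agent.Helper12.SUTwo
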