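import Mathlib
import Cfsg.Agent.Helper12.SUTwoM

/-! Two-generation of `SU_3(q)`: full unipotent radicals contained in a subgroup. -/

set_option autoImplicit false

namespace Cfsg.Agent.Helper12.SUTwo

open Matrix Module Cfsg.Agent.S2644 Cfsg.Agent.Helper2.SUGen

variable {K : Type*} [Field K] {q n : ℕ}

local notation "h" => Cfsg.hermForm n K q
local notation "T" => Cfsg.unitaryTransvection n q

variable (D : Frob K q)

/-- the isotropic vectors all of whose Siegel elements lie in `H` -/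
def SS (H : Subgroup ↥(Cfsg.SU n K q)) : Set (Fin n → K) :=
  {x | Cfsg.hermForm n K q x x = 0 ∧ ∀ (w : Fin n → K) (c : K), Cfsg.hermForm n K q w x = 0 →
    c + D.σ c + Cfsg.hermForm n K q w w = 0 → InH H (Sg (q := q) x w c)}

include D in
theorem Sg_smul_gen' (l : K) (x w : Fin n → K) (c : K) :
    Sg (q := q) (l • x) w c = Sg (q := q) x (D.σ l • w) (l * D.σ l * c) := by
  apply mat_ext
  intro z
  rw [Sg_mulVec, Sg_mulVec, h_smul_right D, h_smul_right D, D.invol]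
  module

include D in
theorem InH.conj_Sg {H : Subgroup ↥(Cfsg.SU n K q)} {G : Matrix (Fin n) (Fin n) K} (hG : InH H G)
    {x w : Fin n → K} {c : K} (hS : InH H (Sg (q := q) x w c)) :
    InH H (Sg (q := q) (G *ᵥ x) (G *ᵥ w) c) := by
  obtain ⟨G', hG', h1, h2⟩ := hG.exists_inv
  have e : Sg (q := q) (G *ᵥ x) (G *ᵥ w) c = G * Sg (q := q) x w c * G' := by
    rw [Sg_conj D G hG.pres, Matrix.mul_assoc, h1, Matrix.mul_one]
  rw [e]
  exact (hG.mul hS).mul hG'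

theorem SS.smul {H : Subgroup ↥(Cfsg.SU n K q)} {x : Fin n → K} (hx : x ∈ SS D H) (l : K) :
    l • x ∈ SS D H := by
  obtain ⟨hxx, hx⟩ := hx
  refine ⟨?_, fun w c hwx hc => ?_⟩
  · rw [h_smul_left, h_smul_right D, hxx, mul_zero, mul_zero]
  · rw [Sg_smul_gen' D]
    apply hx
    · rw [h_smul_left, ← h_smul_right D]; exact hwx
    · rw [h_smul_left, h_smul_right D, map_mul, map_mul, D.invol]
      linear_combination (l * D.σ l) * hc

theorem SS.map {H : Subgroup ↥(Cfsg.SU n K q)} {x : Fin n → K} (hx : x ∈ SS D H)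
    {G : Matrix (Fin n) (Fin n) K} (hG : InH H G) : G *ᵥ x ∈ SS D H := by
  obtain ⟨hxx, hx⟩ := hx
  refine ⟨by rw [hG.pres]; exact hxx, fun w' c hwx hc => ?_⟩
  obtain ⟨G', hG', h1, h2⟩ := hG.exists_inv
  set w := G' *ᵥ w' with hw
  have hgw : G *ᵥ w = w' := by rw [hw, Matrix.mulVec_mulVec, h1, Matrix.one_mulVec]
  have hwx0 : h w x = 0 := by rw [← hG.pres, hgw]; exact hwx
  have hc0 : c + D.σ c + h w w = 0 := by rw [← hG.pres w w, hgw]; exact hc
  rw [← hgw]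
  exact hG.conj_Sg D (hx w c hwx0 hc0)

theorem SS.pair {H : Subgroup ↥(Cfsg.SU n K q)} {u₁ u₂ : Fin n → K}
    (h1 : u₁ ∈ SS D H) (h2 : u₂ ∈ SS D H) (h21 : h u₂ u₁ ≠ 0) {y : Fin n → K} (hyy : h y y = 0)
    (hy1 : h y u₁ ≠ 0) : y ∈ SS D H := by
  set y' := (h u₂ u₁ / h y u₁) • y with hy'
  have hyy' : h y' y' = 0 := by
    rw [hy', h_smul_left, h_smul_right D, hyy, mul_zero, mul_zero]
  have hy'1 : h y' u₁ = h u₂ u₁ := by
    rw [hy', h_smul_left, div_mul_cancel₀ _ hy1]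
  obtain ⟨w, c, -, hwx, hc, hmap⟩ := Sg_map D u₁ u₂ y' h1.1 h2.1 hyy' h21 hy'1
  have hy'S : y' ∈ SS D H := by
    rw [← hmap]
    exact SS.map D h2 (h1.2 w c hwx hc)
  have := SS.smul D hy'S (h y u₁ / h u₂ u₁)
  have e : h y u₁ / h u₂ u₁ * (h u₂ u₁ / h y u₁) = 1 := by
    field_simp
  rw [hy', smul_smul, e, one_smul] at this
  exact this

theorem SS.all {H : Subgroup ↥(Cfsg.SU n K q)} {u₁ u₂ : Fin n → K}
    (h1 : u₁ ∈ SS D H) (h2 : u₂ ∈ SS D H) (h21 : h u₂ u₁ ≠ 0) {y : Fin n → K} (hyy : h y y = 0) :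
    y ∈ SS D H := by
  by_cases hy0 : y = 0
  · have := SS.smul D h1 0
    rw [zero_smul] at this
    rw [hy0]; exact this
  by_cases hy1 : h y u₁ ≠ 0
  · exact SS.pair D h1 h2 h21 hyy hy1
  · have hu0 : u₁ ≠ 0 := by
      rintro rfl
      exact h21 (h_zero_right D u₂)
    obtain ⟨z, -, hzz, hzy, hzu⟩ := exists_iso_both D (nonDeg_top D)
      (Submodule.mem_top : y ∈ (⊤ : Submodule K (Fin n → K)))
      (Submodule.mem_top : u₁ ∈ (⊤ : Submodule K (Fin n → K))) hyy h1.1 hy0 hu0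
    have hzS : z ∈ SS D H := SS.pair D h1 h2 h21 hzz hzu
    exact SS.pair D hzS h1 (h_symm_ne D hzu) hyy (h_symm_ne D hzy)

theorem SS.toTS {H : Subgroup ↥(Cfsg.SU n K q)} {x : Fin n → K} (hx : x ∈ SS D H) : x ∈ TS D H := by
  refine ⟨hx.1, fun c hc => ?_⟩
  rw [← Sg_zero D]
  apply hx.2
  · exact h_zero_left x
  · rw [h_zero_left, add_zero, hc, add_neg_cancel]

end Cfsg.Agent.Helper12.SUTwo
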