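import Mathlib
import Cfsg.Agent.Helper12.SUTwoN

/-! Two-generation of `SU_3(q)`: additive subgroups of a finite field stable under an element
of large multiplicative order. -/

set_option autoImplicit false

namespace Cfsg.Agent.Helper12.SUTwo

variable {K : Type*} [Field K] {q : ℕ}

/-- the multipliers of an additive subgroup -/
def stabR (S : AddSubgroup K) : Subring K where
  carrier := {r | ∀ s ∈ S, r * s ∈ S}
  mul_mem' := fun {a b} ha hb s hs => by rw [mul_assoc]; exact ha _ (hb s hs)
  one_mem' := fun s hs => by rw [one_mul]; exact hs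
  add_mem' := fun {a b} ha hb s hs => by rw [add_mul]; exact S.add_mem (ha s hs) (hb s hs)
  zero_mem' := fun s _ => by rw [zero_mul]; exact S.zero_mem
  neg_mem' := fun {a} ha s hs => by rw [neg_mul]; exact S.neg_mem (ha s hs)

theorem mem_stabR {S : AddSubgroup K} {r : K} : r ∈ stabR S ↔ ∀ s ∈ S, r * s ∈ S := Iff.rfl

/-- the multipliers of an additive subgroup of a finite field form a subfield -/
def stabF [Finite K] (S : AddSubgroup K) : Subfield K :=
  { stabR S with
    inv_mem' := by
      intro r hr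
      by_cases hr0 : r = 0
      · rw [hr0, inv_zero]; exact (stabR S).zero_mem
      · haveI := Fintype.ofFinite K
        have h1 : r ^ (Fintype.card K - 1) = 1 := FiniteField.pow_card_sub_one_eq_one r hr0
        have hc : 2 ≤ Fintype.card K := Fintype.one_lt_card
        have e : r⁻¹ = r ^ (Fintype.card K - 2) := by
          apply inv_eq_of_mul_eq_one_right
          rw [← pow_succ']
          have : Fintype.card K - 2 + 1 = Fintype.card K - 1 := by omega
          rw [this, h1]
        rw [e]
        exact (stabR S).pow_mem hr _ }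

theorem mem_stabF [Finite K] {S : AddSubgroup K} {r : K} :
    r ∈ stabF S ↔ ∀ s ∈ S, r * s ∈ S := Iff.rfl

/-- an additive subgroup stable under multiplication by `μ ^ (2 q - 1)` is zero or everything -/
theorem gen_span [Fintype K] (hK : Fintype.card K = q ^ 2) (hq : 3 ≤ q) {μ : K}
    (hord : ∀ k : ℕ, μ ^ k = 1 ↔ q ^ 2 - 1 ∣ k) (S : AddSubgroup K)
    (hS : ∀ s ∈ S, μ ^ (2 * q - 1) * s ∈ S) {s0 : K} (hs0 : s0 ∈ S) (hs00 : s0 ≠ 0) (x : K) :
    x ∈ S := by
  have hfin : Finite K := Finite.of_fintype K
  set R := stabF S with hR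
  set χ := μ ^ (2 * q - 1) with hχ
  have hχR : χ ∈ R := mem_stabF.mpr hS
  have hμ0 : μ ≠ 0 := by
    rintro rfl
    have := (hord (q ^ 2 - 1)).2 dvd_rfl
    rw [zero_pow (by have : 9 ≤ q ^ 2 := by nlinarith
                     omega)] at this
    exact zero_ne_one this
  have hχ0 : χ ≠ 0 := pow_ne_zero _ hμ0
  -- cardinalities
  have hcard : Nat.card K = Nat.card R ^ Module.finrank R K := Module.natCard_eq_pow_finrank
  rw [Nat.card_eq_fintype_card, hK] at hcard
  set r := Nat.card R with hr
  set d := Module.finrank R K with hd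
  have hr2 : 2 ≤ r := by
    rw [hr]
    exact Finite.one_lt_card
  -- the order of `χ`
  have hχpow : χ ^ (r - 1) = 1 := by
    have := Fintype.ofFinite R
    have h1 : (⟨χ, hχR⟩ : R) ^ (Fintype.card R - 1) = 1 :=
      FiniteField.pow_card_sub_one_eq_one _ (by
        intro h0
        exact hχ0 (congrArg Subtype.val h0))
    have h2 := congrArg (Subtype.val : R → K) h1
    rw [hr, Nat.card_eq_fintype_card]
    simpa using h2
  rw [hχ, ← pow_mul, hord] at hχpow
  have hq2 : q ^ 2 - 1 ∣ 3 * (r - 1) := by
    have h1 : q ^ 2 - 1 ∣ (2 * q + 1) * ((2 * q - 1) * (r - 1)) := Dvd.dvd.mul_left hχpow _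
    have e : (2 * q + 1) * ((2 * q - 1) * (r - 1)) = 4 * (q ^ 2 - 1) * (r - 1) + 3 * (r - 1) := by
      have e1 : (2 * q + 1) * (2 * q - 1) = 4 * (q ^ 2 - 1) + 3 := by
        obtain ⟨t, rfl⟩ : ∃ t, q = t + 1 := ⟨q - 1, by omega⟩
        have : 2 * (t + 1) - 1 = 2 * t + 1 := by omega
        rw [this]
        have : (t + 1) ^ 2 - 1 = t ^ 2 + 2 * t := by
          have : (t + 1) ^ 2 = t ^ 2 + 2 * t + 1 := by ring
          omega
        rw [this]
        ring
      rw [← mul_assoc, e1]
      ring
    rw [e] at h1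
    have h3 : q ^ 2 - 1 ∣ 4 * (q ^ 2 - 1) * (r - 1) := by
      rw [mul_comm 4, mul_assoc]; exact dvd_mul_right _ _
    exact (Nat.dvd_add_right h3).mp h1
  have hle : q ^ 2 - 1 ≤ 3 * (r - 1) := Nat.le_of_dvd (by omega) hq2
  have hq9 : 9 ≤ q ^ 2 := by nlinarith
  -- the dimension is one
  have hd1 : d = 1 := by
    rcases Nat.lt_or_ge d 2 with h2 | h2
    · interval_cases d
      · rw [pow_zero] at hcard; omega
      · rfl
    · exfalso
      have h1 : r ^ 2 ≤ q ^ 2 := by
        rw [hcard]
        exact Nat.pow_le_pow_right (by omega) h2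
      have h3 : r ≤ q := by
        by_contra hlt
        push Not at hlt
        have : q ^ 2 < r ^ 2 := Nat.pow_lt_pow_left hlt (by norm_num)
        omega
      have h4 : q ^ 2 - 1 ≤ 3 * (q - 1) := le_trans hle (by omega)
      have h5 : 3 * q ≤ q ^ 2 := by nlinarith
      omega
  rw [hd1, pow_one] at hcard
  -- `R` is everything
  have hsurj : ∀ z : K, z ∈ R := by
    have hinj : Function.Injective (Subtype.val : R → K) := Subtype.val_injective
    have hbij : Function.Bijective (Subtype.val : R → K) := by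
      have := Fintype.ofFinite R
      rw [Fintype.bijective_iff_injective_and_card]
      refine ⟨hinj, ?_⟩
      rw [← Nat.card_eq_fintype_card, ← hr, ← hcard, hK]
    intro z
    obtain ⟨⟨z', hz'⟩, rfl⟩ := hbij.2 z
    exact hz'
  have := mem_stabF.mp (hsurj (x / s0)) s0 hs0
  rwa [div_mul_cancel₀ _ hs00] at this

end Cfsg.Agent.Helper12.SUTwo
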