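import Mathlib
import Cfsg.Agent.Helper12.SUTwoO

/-! Two-generation of `SU_3(q)`, `q ≥ 3`: preparations. -/

set_option autoImplicit false

namespace Cfsg.Agent.Helper12.SUTwo

open Matrix Module Cfsg.Agent.S2644 Cfsg.Agent.Helper2.SUGen

variable {K : Type*} [Field K] {q n : ℕ}

local notation "h" => Cfsg.hermForm n K q
local notation "T" => Cfsg.unitaryTransvection n q

variable (D : Frob K q)

include D in
/-- a form preserving Siegel element satisfies the Siegel condition -/
theorem cond_of_pres {x w : Fin n → K} {c : K} (hxx : h x x = 0) (hwx : h w x = 0)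
    {x' : Fin n → K} (hx' : h x' x ≠ 0) (hP : Pres (q := q) (Sg (q := q) x w c)) :
    c + D.σ c + h w w = 0 := by
  have hxw : h x w = 0 := h_symm_zero D hwx
  have e1 : D.σ (h x' x) = h x x' := h_conj D _ _
  have e2 : D.σ (h x' w) = h w x' := h_conj D _ _
  have := hP x' x'
  rw [Sg_mulVec] at this
  simp only [h_add_left, h_sub_left, h_smul_left, h_add_right D, h_sub_right D, h_smul_right D,
    map_mul, e1, e2, hxx, hwx, hxw] at this
  have key : (c + D.σ c + h w w) * (h x' x * h x x') = 0 := by linear_combination this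
  rcases mul_eq_zero.mp key with h0 | h0
  · exact h0
  · exfalso
    rcases mul_eq_zero.mp h0 with h1 | h1
    · exact hx' h1
    · exact hx' (h_symm_zero D h1)

theorem InH.of_mul_left {H : Subgroup ↥(Cfsg.SU n K q)} {M N : Matrix (Fin n) (Fin n) K}
    (hM : InH H M) (hMN : InH H (M * N)) : InH H N := by
  obtain ⟨M', hM', -, h2⟩ := hM.exists_inv
  have : N = M' * (M * N) := by rw [← Matrix.mul_assoc, h2, Matrix.one_mul]
  rw [this]
  exact hM'.mul hMN

theorem pow_mulVec_eigen {M : Matrix (Fin n) (Fin n) K} {v : Fin n → K} {l : K}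
    (hv : M *ᵥ v = l • v) (k : ℕ) : (M ^ k) *ᵥ v = l ^ k • v := by
  induction k with
  | zero => rw [pow_zero, pow_zero, one_mulVec, one_smul]
  | succ k ih => rw [pow_succ, ← mulVec_mulVec, hv, mulVec_smul, ih, smul_smul, pow_succ, mul_comm]

end Cfsg.Agent.Helper12.SUTwo
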