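import Mathlib
import Cfsg.Agent.Helper12.SUTwoP

/-! Two-generation of `SU_3(q)`, `q ≥ 3`. -/

set_option autoImplicit false

namespace Cfsg.Agent.Helper12.SUTwo

open Matrix Module Cfsg.Agent.S2644 Cfsg.Agent.Helper2.SUGen

variable {K : Type*} [Field K] {q : ℕ}

local notation "h" => Cfsg.hermForm 3 K q
local notation "T" => Cfsg.unitaryTransvection 3 q
local notation "y3" => eb (K := K) 3 (2 : Fin 3)

variable (D : Frob K q)

include D in
theorem h_y3_self : h y3 y3 = 1 := by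
  rw [h_eb_right D, eb_self]

include D in
theorem h_y3_right {x : Fin 3 → K} (hx : x ∈ Yk K 3 2) : h x y3 = 0 := by
  rw [h_eb_right D]
  exact hx 2 (by simp)

include D in
theorem h_y3_left {x : Fin 3 → K} (hx : x ∈ Yk K 3 2) : h y3 x = 0 :=
  h_symm_zero D (h_y3_right D hx)

section plane

variable {u u' : Fin 3 → K} (HP : HypPair q u u') (huY : u ∈ Yk K 3 2) (hu'Y : u' ∈ Yk K 3 2)

include D HP huY hu'Y

/-- vectors orthogonal to the plane are multiples of the third basis vector -/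
theorem perp_eq_smul {z : Fin 3 → K} (h1 : h z u = 0) (h2 : h z u' = 0) : z = z 2 • y3 := by
  have hp := perp_pair_Yk2 D (by omega : 2 ≤ 3) huY hu'Y HP.huu (by rw [HP.huv]; exact one_ne_zero)
    z h1 h2
  funext k
  rw [Pi.smul_apply, smul_eq_mul]
  fin_cases k
  · rw [eb_ne (by decide), mul_zero]; exact hp.1
  · rw [eb_ne (by decide), mul_zero]; exact hp.2
  · show z 2 = z 2 * eb 3 2 2
    rw [eb_self, mul_one]

/-- the decomposition of a vector orthogonal to `u` -/
theorem dec_perp {w : Fin 3 → K} (hw : h w u = 0) : w = h w u' • u + w 2 • y3 := by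
  obtain ⟨z0, h1, h2, hz⟩ := exists_decomp D HP w
  rw [hw, zero_smul, add_zero] at hz
  have e := perp_eq_smul D HP huY hu'Y h1 h2
  have e2 : w 2 = z0 2 := by
    have := congrFun hz 2
    rw [Pi.add_apply, Pi.smul_apply, huY 2 (by simp), smul_zero, add_zero] at this
    exact this
  rw [e2, ← e]
  nth_rewrite 1 [hz]
  rw [add_comm]

/-- matrices agreeing on `u`, `u'` and the third basis vector are equal -/
theorem ext3 {M M' : Matrix (Fin 3) (Fin 3) K} (h1 : M *ᵥ u = M' *ᵥ u) (h2 : M *ᵥ u' = M' *ᵥ u')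
    (h3 : M *ᵥ y3 = M' *ᵥ y3) : M = M' := by
  apply ext_plane D HP _ h1 h2
  intro z hz1 hz2
  rw [perp_eq_smul D HP huY hu'Y hz1 hz2, mulVec_smul, mulVec_smul, h3]

end plane


set_option maxHeartbeats 1600000 in
include D in
/-- `SU_3(q)` is two-generated for `q ≥ 3` -/
theorem regimeII [Fintype K] (hK : Fintype.card K = q ^ 2) (hq3 : 3 ≤ q) :
    ∃ A B : ↥(Cfsg.SU 3 K q), Subgroup.closure {A, B} = ⊤ := by
  have hfin : Finite K := Finite.of_fintype K
  have hq : 0 < q := by omega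
  obtain ⟨μ, hμ0, hgen, hord⟩ := exists_gen hK
  have hfac := sq_sub_one_fac hq
  have hμN : μ ^ (q ^ 2 - 1) = 1 := (hord _).2 dvd_rfl
  have hμq2 : μ ^ (q ^ 2) = μ := by rw [← hK]; exact FiniteField.pow_card μ
  have hσμ : D.σ μ = μ ^ q := D.pow μ
  have hσμ0 : D.σ μ ≠ 0 := σ_ne_zero D hμ0
  have hσσμ : D.σ (D.σ μ) = μ := D.invol μ
  set ν := μ ^ (q - 1) with hν
  have hν0 : ν ≠ 0 := pow_ne_zero _ hμ0
  have hμν : μ * ν = D.σ μ := by
    rw [hν, ← pow_succ', hσμ]
    congr 1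
    omega
  have hνN : ν * D.σ ν = 1 := by
    rw [D.pow, ← pow_succ', hν, ← pow_mul, mul_comm, ← hfac]
    exact hμN
  -- the vectors
  obtain ⟨a, ha⟩ : ∃ a : K, a * D.σ a = -1 :=
    exists_norm D (-1) (neg_ne_zero.mpr one_ne_zero) (by rw [map_neg, map_one])
  set u : Fin 3 → K := eb 3 0 + a • eb 3 1 with hu
  have huY : u ∈ Yk K 3 2 :=
    (Yk K 3 2).add_mem (eb_mem_Yk (by simp)) ((Yk K 3 2).smul_mem _ (eb_mem_Yk (by simp)))
  have huu : h u u = 0 := by
    rw [hu, h_pv D, eb_self, eb_self, eb_ne (by decide), eb_ne (by decide)]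
    linear_combination ha
  have hune : u ≠ 0 := by
    intro h0
    have := congrFun h0 0
    rw [hu, Pi.add_apply, Pi.smul_apply, eb_self, eb_ne (by decide), smul_zero, add_zero] at this
    exact one_ne_zero this
  obtain ⟨u', hu'Y, hu'u', huu', hu'u⟩ := exists_partner D (nonDeg_Yk D 2) huY hune huu
  have HP : HypPair q u u' := ⟨huu, hu'u', huu', hu'u⟩
  have hyy : h y3 y3 = 1 := h_y3_self D
  have hyu : h y3 u = 0 := h_y3_left D huY
  have huy : h u y3 = 0 := h_y3_right D huY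
  have hyu' : h y3 u' = 0 := h_y3_left D hu'Y
  have hu'y : h u' y3 = 0 := h_y3_right D hu'Y
  -- the torus element
  set g1 := Dg q u u' μ (D.σ μ)⁻¹ with hg1
  set rr := T y3 (ν - 1) with hrr
  have hPg1 : Pres (q := q) g1 := by
    apply pres_Dg D HP
    rw [map_inv₀, hσσμ, mul_inv_cancel₀ hμ0]
  have hPrr : Pres (q := q) rr := by
    apply pres_T_aniso D
    rw [hyy, map_sub, map_one]
    linear_combination hνN
  have hrru : rr *ᵥ u = u := T_fix_of_perp y3 _ huy
  have hrru' : rr *ᵥ u' = u' := T_fix_of_perp y3 _ hu'y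
  have hrry : rr *ᵥ y3 = ν • y3 := by
    rw [hrr, T_mulVec, hyy, mul_one]
    module
  set g := g1 * rr with hg
  have hPg : Pres (q := q) g := hPg1.mul hPrr
  have hdg : g.det = 1 := by
    rw [hg, Matrix.det_mul, hg1, det_Dg HP, hrr, det_T', hyy, mul_one]
    have : 1 + (ν - 1) = ν := by ring
    rw [this, mul_comm μ, mul_assoc, hμν, inv_mul_cancel₀ hσμ0]
  have hgu : g *ᵥ u = μ • u := by rw [hg, ← mulVec_mulVec, hrru, hg1, Dg_u HP]
  have hgu' : g *ᵥ u' = (D.σ μ)⁻¹ • u' := by rw [hg, ← mulVec_mulVec, hrru', hg1, Dg_v HP]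
  have hgy : g *ᵥ y3 = ν • y3 := by
    rw [hg, ← mulVec_mulVec, hrry, mulVec_smul, hg1, Dg_fix _ _ hyu hyu']
  -- the opposite torus element
  set g' := Dg q u u' (D.σ μ)⁻¹ μ * rr with hg'
  have hPg' : Pres (q := q) g' := by
    apply Pres.mul _ hPrr
    apply pres_Dg D HP
    rw [inv_mul_cancel₀ hσμ0]
  have hg'u : g' *ᵥ u = (D.σ μ)⁻¹ • u := by rw [hg', ← mulVec_mulVec, hrru, Dg_u HP]
  have hg'u' : g' *ᵥ u' = μ • u' := by rw [hg', ← mulVec_mulVec, hrru', Dg_v HP]
  have hg'y : g' *ᵥ y3 = ν • y3 := by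
    rw [hg', ← mulVec_mulVec, hrry, mulVec_smul, Dg_fix _ _ hyu hyu']
  have hgq1 : g ^ q * g' = 1 := by
    apply ext3 D HP huY hu'Y
    · rw [← mulVec_mulVec, hg'u, mulVec_smul, pow_mulVec_eigen hgu, smul_smul, one_mulVec, ← hσμ,
        inv_mul_cancel₀ hσμ0, one_smul]
    · rw [← mulVec_mulVec, hg'u', mulVec_smul, pow_mulVec_eigen hgu', smul_smul, one_mulVec, inv_pow,
        ← D.pow, hσσμ, mul_inv_cancel₀ hμ0, one_smul]
    · rw [← mulVec_mulVec, hg'y, mulVec_smul, pow_mulVec_eigen hgy, smul_smul, one_mulVec, ← D.pow,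
        hνN, one_smul]
  have hgq2 : g' * g ^ q = 1 := mul_eq_one_comm.mp hgq1
  -- the unipotent element and the Weyl element
  obtain ⟨c1, hc1'⟩ := exists_trace D (-1) (by rw [map_neg, map_one])
  have hc1 : c1 + D.σ c1 + h y3 y3 = 0 := by rw [hyy]; linear_combination hc1'
  set x := Sg (q := q) u y3 c1 with hx
  have hPx : Pres (q := q) x := Sg_pres D u y3 c1 huu hyu hc1
  have hdx : x.det = 1 := Sg_det D u y3 c1 huu hyu
  set x' := Sg (q := q) u (-y3) (D.σ c1) with hx'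
  obtain ⟨hxx', hx'x⟩ := Sg_inv D u y3 c1 huu hyu hc1
  obtain ⟨a', ha'0, ha'⟩ := exists_skew D
  obtain ⟨nw, hnw, hnwu, hnwu'⟩ := wel D HP ha'0 ha'
  have hnwG := TT_le_Gen D _ hnw
  have hPnw : Pres (q := q) nw := Gen_pres D hnwG
  have hdnw : nw.det = 1 := Gen_det D hnwG
  have hnwy : nw *ᵥ y3 = y3 := Gen_fix D hnwG y3 (perp_span_pair D hyu hyu')
  set Bmat := x * nw with hBmat
  have hPB : Pres (q := q) Bmat := hPx.mul hPnw
  have hdB : Bmat.det = 1 := by rw [hBmat, Matrix.det_mul, hdx, hdnw, mul_one]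
  refine ⟨mkSU g hdg hPg, mkSU Bmat hdB hPB, ?_⟩
  set H := Subgroup.closure {mkSU g hdg hPg, mkSU Bmat hdB hPB} with hH
  have hgH : InH H g := InH.of_mk hdg hPg (Subgroup.subset_closure (by simp))
  have hBH : InH H Bmat := InH.of_mk hdB hPB (Subgroup.subset_closure (by simp))
  -- step 1
  have hg'H : InH H g' := (hgH.pow q).of_mul_eq_one hgq1
  -- step 2
  have hnwg : nw * g = g' * nw := by
    apply ext3 D HP huY hu'Y
    · rw [← mulVec_mulVec u nw g, ← mulVec_mulVec u g' nw, hgu, mulVec_smul, hnwu, mulVec_smul, hg'u',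
        smul_smul, smul_smul, mul_comm]
    · rw [← mulVec_mulVec u' nw g, ← mulVec_mulVec u' g' nw, hgu', mulVec_smul, hnwu', mulVec_smul,
        hg'u, smul_smul, smul_smul, mul_comm]
    · rw [← mulVec_mulVec y3 nw g, ← mulVec_mulVec y3 g' nw, hgy, mulVec_smul, hnwy, hg'y]
  -- step 3
  have hconj : InH H (x * g' * x') := by
    have e : Bmat * g = (x * g' * x') * Bmat := by
      rw [hBmat, Matrix.mul_assoc x nw g, hnwg]
      simp only [Matrix.mul_assoc]
      rw [← Matrix.mul_assoc x' x, hx'x, Matrix.one_mul]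
    obtain ⟨B', hB', hBB', -⟩ := hBH.exists_inv
    have : x * g' * x' = Bmat * g * B' := by
      rw [e, Matrix.mul_assoc (x * g' * x') Bmat B', hBB', Matrix.mul_one]
    rw [this]
    exact (hBH.mul hgH).mul hB'
  -- step 4
  set s0 := 1 - μ⁻¹ * ν with hs0
  obtain ⟨c3, hz⟩ : ∃ c3, InH H (Sg (q := q) u (s0 • y3) c3) := by
    have e1 : g' * x' = Sg (q := q) u (μ⁻¹ • -(ν • y3)) ((D.σ μ)⁻¹ * D.σ (D.σ μ)⁻¹ * D.σ c1) * g' := by
      rw [hx', Sg_conj D g' hPg', hg'u, mulVec_neg, hg'y, Sg_smul_gen' D, map_inv₀, hσσμ]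
    have hw2 : h (μ⁻¹ • -(ν • y3)) u = 0 := by
      rw [h_smul_left, h_neg_left, h_smul_left, hyu, mul_zero, neg_zero, mul_zero]
    have e2 : x * g' * x' * g ^ q = Sg (q := q) u (y3 + μ⁻¹ • -(ν • y3))
        (c1 + (D.σ μ)⁻¹ * D.σ (D.σ μ)⁻¹ * D.σ c1 - h (μ⁻¹ • -(ν • y3)) y3) := by
      rw [Matrix.mul_assoc x g' x', e1, Matrix.mul_assoc, Matrix.mul_assoc, hgq2, Matrix.mul_one, hx,
        Sg_mul D u _ _ _ _ huu hyu hw2]
    have e3 : y3 + μ⁻¹ • -(ν • y3) = s0 • y3 := by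
      rw [hs0]; module
    refine ⟨c1 + (D.σ μ)⁻¹ * D.σ (D.σ μ)⁻¹ * D.σ c1 - h (μ⁻¹ • -(ν • y3)) y3, ?_⟩
    rw [← e3, ← e2]
    exact hconj.mul (hgH.pow q)
  have hs00 : s0 ≠ 0 := by
    intro h0
    have h1 : μ⁻¹ * ν = 1 := by linear_combination -h0
    have h2 : μ ^ (q - 2) = 1 := by
      have : ν = μ * μ ^ (q - 2) := by
        rw [hν, ← pow_succ']
        congr 1
        omega
      rw [this, ← mul_assoc, inv_mul_cancel₀ hμ0, one_mul] at h1
      exact h1
    rw [hord] at h2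
    have := Nat.le_of_dvd (by omega) h2
    have : q ≤ q ^ 2 := by nlinarith
    omega
  -- step 5: the additive group of parameters
  have condS : ∀ (s c : K), InH H (Sg (q := q) u (s • y3) c) → c + D.σ c + h (s • y3) (s • y3) = 0 := by
    intro s c hS
    apply cond_of_pres D huu _ (x' := u') (by rw [hu'u]; exact one_ne_zero) hS.pres
    rw [h_smul_left, hyu, mul_zero]
  have hperp_s : ∀ s : K, h (s • y3) u = 0 := by
    intro s; rw [h_smul_left, hyu, mul_zero]
  let S : AddSubgroup K :=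
    { carrier := {s | ∃ c, InH H (Sg (q := q) u (s • y3) c)}
      zero_mem' := by
        refine ⟨0, ?_⟩
        rw [zero_smul, Sg_zero D, Cfsg.Agent.S0781.T_zero_coeff]
        exact InH.one H
      add_mem' := by
        rintro s1 s2 ⟨c, hc⟩ ⟨c', hc'⟩
        refine ⟨c + c' - h (s2 • y3) (s1 • y3), ?_⟩
        rw [add_smul, ← Sg_mul D u _ _ _ _ huu (hperp_s s1) (hperp_s s2)]
        exact hc.mul hc'
      neg_mem' := by
        rintro s ⟨c, hc⟩
        refine ⟨D.σ c, ?_⟩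
        rw [neg_smul]
        exact hc.of_mul_eq_one (Sg_inv D u _ c huu (hperp_s s) (condS s c hc)).1 }
  have hSmem : ∀ s : K, s ∈ S ↔ ∃ c, InH H (Sg (q := q) u (s • y3) c) := fun s => Iff.rfl
  -- step 6
  have hSχ : ∀ s ∈ S, μ ^ (2 * q - 1) * s ∈ S := by
    rintro s ⟨c, hc⟩
    have := hgH.conj_Sg D hc
    rw [hgu, mulVec_smul, hgy, Sg_smul_gen' D, smul_smul, smul_smul] at this
    refine ⟨μ * D.σ μ * c, ?_⟩
    have e : μ ^ (2 * q - 1) * s = D.σ μ * s * ν := by
      have : μ ^ (2 * q - 1) = D.σ μ * ν := by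
        rw [hσμ, hν, ← pow_add]
        congr 1
        omega
      rw [this]; ring
    rw [e]
    exact this
  -- step 7
  have hSall : ∀ s : K, s ∈ S := gen_span hK hq3 hord S hSχ ((hSmem s0).2 ⟨c3, hz⟩) hs00
  -- step 8: the root group
  obtain ⟨e0, he0⟩ := exists_trace D 1 (map_one _)
  have hroot : ∀ c : K, D.σ c = -c → InH H (T u c) := by
    intro c hc
    obtain ⟨ca, hca⟩ := (hSmem (e0 * c)).1 (hSall _)
    obtain ⟨cb, hcb⟩ := (hSmem 1).1 (hSall _)
    have h12 := hca.mul hcb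
    have h21 := hcb.mul hca
    rw [Sg_mul D u _ _ _ _ huu (hperp_s _) (hperp_s _)] at h12 h21
    apply h21.of_mul_left
    have e : Sg (q := q) u ((1 : K) • y3 + (e0 * c) • y3) (cb + ca - h ((e0 * c) • y3) ((1 : K) • y3)) *
        T u c = Sg (q := q) u ((e0 * c) • y3 + (1 : K) • y3)
          (ca + cb - h ((1 : K) • y3) ((e0 * c) • y3)) := by
      rw [← Sg_zero D, Sg_mul D u _ _ _ _ huu
        (by rw [h_add_left, hperp_s, hperp_s, add_zero]) (h_zero_left u), add_zero, h_zero_left,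
        sub_zero, add_comm ((1 : K) • y3)]
      congr 1
      rw [h_smul_left, h_smul_right D, h_smul_left, h_smul_right D, hyy, map_mul, map_one, hc]
      linear_combination (-c) * he0
    rw [e]
    exact h12
  -- step 9
  have huSS : u ∈ SS D H := by
    refine ⟨huu, fun w c hwu hc => ?_⟩
    have hdec := dec_perp D HP huY hu'Y hwu
    set β := h w u' with hβ
    set s := w 2 with hs
    obtain ⟨c', hc'⟩ := (hSmem s).1 (hSall s)
    have hc'cond := condS s c' hc'
    have hww : h w w = h (s • y3) (s • y3) := by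
      rw [hdec]
      rw [h_add_left, h_add_right D, h_add_right D, h_smul_left, h_smul_right D, huu, h_smul_left,
        h_smul_right D (x := u), huy, h_smul_left (x := y3), h_smul_right D (x := y3) (y := u), hyu]
      ring
    have hskew : D.σ (β - D.σ β + (c - c')) = -(β - D.σ β + (c - c')) := by
      rw [map_add, map_sub, map_sub, D.invol]
      rw [hww] at hc
      linear_combination hc - hc'cond
    have e : Sg (q := q) u w c = Sg (q := q) u (s • y3) c' * T u (β - D.σ β + (c - c')) := by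
      rw [← Sg_self D, Sg_mul D u _ _ _ _ huu (hperp_s s)
        (by rw [h_smul_left, huu, mul_zero]), h_smul_left, h_smul_right D, huy, mul_zero, mul_zero,
        sub_zero, add_comm (s • y3), ← hdec]
      congr 1
      ring
    rw [e]
    exact hc'.mul (hroot _ hskew)
  -- step 10
  have hxu : x *ᵥ u = u := by
    rw [hx, Sg_mulVec, huu, huy]
    module
  have hBu : h (Bmat *ᵥ u) u ≠ 0 := by
    have : h (Bmat *ᵥ u) u = h (nw *ᵥ u) u := by
      rw [hBmat, ← mulVec_mulVec]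
      nth_rewrite 2 [← hxu]
      rw [hPx]
    rw [this, hnwu, h_smul_left, hu'u, mul_one]
    exact neg_ne_zero.mpr (inv_ne_zero ha'0)
  have hBuSS : Bmat *ᵥ u ∈ SS D H := SS.map D huSS hBH
  apply eq_top_of_TS D hK (le_refl 3) (fun hh => by omega)
  intro p hpp
  exact SS.toTS D (SS.all D huSS hBuSS hBu hpp)

end Cfsg.Agent.Helper12.SUTwo
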