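import Mathlib
import Cfsg.Agent.Helper4.SUnModel
import Cfsg.Agent.Helper7.SUnP1
import Cfsg.Agent.Helper16.SUnSPOW

set_option autoImplicit false

/-! S2282 piece P5 (UNITARY): the Cayley transform `Up` preserves `hJ` and has determinant one. -/

namespace Cfsg.Agent.Helper12.SUn

open Matrix Cfsg.Agent.Helper4.SUn

variable {K : Type*} [Field K] (σ : K →+* K) (k : ℕ)

/-- `(1 - ν S) * GS ν = 1` (own copy, to be independent of piece P3). -/
theorem p5_GS_mul (ν : K) :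
    (1 - ν • (SS k : Matrix (Fin (2 * k + 5)) (Fin (2 * k + 5)) K)) * GS k ν = 1 := by
  have h : GS k ν = ∑ t ∈ Finset.range (2 * k + 5),
      (ν • (SS k : Matrix (Fin (2 * k + 5)) (Fin (2 * k + 5)) K)) ^ t := by
    unfold GS
    refine Finset.sum_congr rfl ?_
    intro t _
    rw [smul_pow]
  rw [h, mul_neg_geom_sum, smul_pow, Cfsg.Agent.Helper16.SUn.SS_pow_eq_zero k (2 * k + 5) (by omega),
    smul_zero, sub_zero]

/-- adjoint identity: `hJ ((1 + σ d S) x) y = hJ x ((1 - d S) y)`. -/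
theorem adj_one_add (d : K) (x y : Fin (2 * k + 5) → K) :
    hJ σ k ((1 + σ d • (SS k : Matrix (Fin (2 * k + 5)) (Fin (2 * k + 5)) K)) *ᵥ x) y =
      hJ σ k x ((1 - d • (SS k : Matrix (Fin (2 * k + 5)) (Fin (2 * k + 5)) K)) *ᵥ y) := by
  rw [Matrix.add_mulVec, Matrix.sub_mulVec, Matrix.one_mulVec, Matrix.one_mulVec,
    Matrix.smul_mulVec, Matrix.smul_mulVec, sub_eq_add_neg, ← neg_smul,
    Cfsg.Agent.Helper7.SUn.hJ_add_left, Cfsg.Agent.Helper7.SUn.hJ_add_right,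
    Cfsg.Agent.Helper7.SUn.hJ_smul_left, Cfsg.Agent.Helper7.SUn.hJ_smul_right,
    Cfsg.Agent.Helper16.SUn.SS_skew, map_neg]
  ring

/-- `AA` and `BB` commute. -/
theorem AA_mul_BB (μ : K) : AA σ k μ * BB k μ = BB k μ * AA σ k μ := by
  unfold AA BB
  rw [sub_mul, mul_sub, one_mul, mul_one, add_mul, mul_add, one_mul, mul_one,
    Matrix.smul_mul, Matrix.mul_smul, Matrix.smul_mul, Matrix.mul_smul, smul_smul, smul_smul,
    mul_comm (σ μ) μ]

theorem Up_presJ (hσ2 : ∀ x, σ (σ x) = x) {μ : K} (hμ : μ + σ μ = 1) : PresJ σ k (Up σ k μ) := by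
  intro x y
  have hAG : AA σ k μ * GS k (σ μ) = 1 := p5_GS_mul k (σ μ)
  -- adjoint identities
  have hB : ∀ u v : Fin (2 * k + 5) → K, hJ σ k (BB k μ *ᵥ u) v = hJ σ k u (AA σ k μ *ᵥ v) := by
    intro u v
    have h := adj_one_add σ k (σ μ) u v
    rw [hσ2] at h
    exact h
  have hA : ∀ u v : Fin (2 * k + 5) → K, hJ σ k (AA σ k μ *ᵥ u) v = hJ σ k u (BB k μ *ᵥ v) := by
    intro u v
    have h := adj_one_add σ k (-μ) u v
    rw [map_neg, neg_smul, neg_smul, ← sub_eq_add_neg, sub_neg_eq_add] at h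
    exact h
  have hx : x = AA σ k μ *ᵥ (GS k (σ μ) *ᵥ x) := by
    rw [Matrix.mulVec_mulVec, hAG, Matrix.one_mulVec]
  have hy : y = AA σ k μ *ᵥ (GS k (σ μ) *ᵥ y) := by
    rw [Matrix.mulVec_mulVec, hAG, Matrix.one_mulVec]
  have hUx : Up σ k μ *ᵥ x = BB k μ *ᵥ (GS k (σ μ) *ᵥ x) := by
    rw [Matrix.mulVec_mulVec]
    rfl
  have hUy : Up σ k μ *ᵥ y = BB k μ *ᵥ (GS k (σ μ) *ᵥ y) := by
    rw [Matrix.mulVec_mulVec]
    rfl
  rw [hUx, hUy, hB]
  conv_rhs => rw [hx, hy]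
  rw [hA, Matrix.mulVec_mulVec (GS k (σ μ) *ᵥ y), Matrix.mulVec_mulVec (GS k (σ μ) *ᵥ y), AA_mul_BB]

theorem BB_det (μ : K) : (BB k μ).det = 1 := by
  rw [Matrix.det_of_isUpperTriangular]
  · refine Finset.prod_eq_one ?_
    intro i _
    unfold BB SS
    rw [Matrix.add_apply, Matrix.one_apply_eq, Matrix.smul_apply, Matrix.of_apply, if_neg, smul_zero,
      add_zero]
    intro h
    omega
  · intro i j hij
    have hij' : (j : ℕ) < (i : ℕ) := hij
    unfold BB SS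
    rw [Matrix.add_apply, Matrix.one_apply_ne (by intro h; rw [h] at hij'; omega), Matrix.smul_apply,
      Matrix.of_apply, if_neg, smul_zero, add_zero]
    intro h
    omega

theorem AA_det (μ : K) : (AA σ k μ).det = 1 := by
  rw [Matrix.det_of_isUpperTriangular]
  · refine Finset.prod_eq_one ?_
    intro i _
    unfold AA SS
    rw [Matrix.sub_apply, Matrix.one_apply_eq, Matrix.smul_apply, Matrix.of_apply, if_neg, smul_zero,
      sub_zero]
    intro h
    omega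
  · intro i j hij
    have hij' : (j : ℕ) < (i : ℕ) := hij
    unfold AA SS
    rw [Matrix.sub_apply, Matrix.one_apply_ne (by intro h; rw [h] at hij'; omega), Matrix.smul_apply,
      Matrix.of_apply, if_neg, smul_zero, sub_zero]
    intro h
    omega

theorem Up_det (μ : K) : (Up σ k μ).det = 1 := by
  have hAG : AA σ k μ * GS k (σ μ) = 1 := p5_GS_mul k (σ μ)
  have h1 : (AA σ k μ).det * (GS k (σ μ)).det = 1 := by
    rw [← Matrix.det_mul, hAG, Matrix.det_one]
  rw [AA_det, one_mul] at h1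
  unfold Up
  rw [Matrix.det_mul, BB_det, h1, one_mul]

end Cfsg.Agent.Helper12.SUn
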