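import Cfsg.Agent.Helper12.SzTDefs

/-!
# SZT, piece ARITH: arithmetic of a Suzuki configuration
-/

set_option autoImplicit false

namespace Cfsg.Agent.SZT

open Cfsg Cfsg.Agent.Helper11.SCTI Cfsg.Agent.Helper24
open scoped Classical ComplexConjugate

universe u

variable {G : Type u} [Group G] [Fintype G]

namespace Cfg

variable (C : Cfg G)

theorem r_even : 2 ∣ C.r := by
  have h := C.hr
  have h2 : 2 ∣ C.r ^ 2 := ⟨C.q, h⟩
  exact Nat.Prime.dvd_of_dvd_pow Nat.prime_two h2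

theorem four_le_r : 4 ≤ C.r := by
  have h := C.hr
  have hq := C.hq
  by_contra hlt
  have h3 : C.r ≤ 3 := by omega
  have : C.r ^ 2 ≤ 3 ^ 2 := Nat.pow_le_pow_left h3 2
  omega

theorem q_even : 2 ∣ C.q := by
  obtain ⟨k, hk⟩ := C.r_even
  have h := C.hr
  rw [hk] at h
  refine ⟨k ^ 2, ?_⟩
  have : 2 * (2 * k ^ 2) = 2 * C.q := by rw [← h]; ring
  omega

theorem two_r_le_q : 2 * C.r ≤ C.q := by
  have h := C.hr
  have h4 := C.four_le_r
  have : 4 * C.r ≤ C.r ^ 2 := by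
    rw [pow_two]
    exact Nat.mul_le_mul_right _ h4
  omega

theorem hrC : (C.r : ℂ) ^ 2 = 2 * (C.q : ℂ) := by
  have h := C.hr
  exact_mod_cast h

theorem cast_n0 : ((C.q - 1 : ℕ) : ℂ) = (C.q : ℂ) - 1 := by
  have := C.hq
  rw [Nat.cast_sub (by omega)]
  simp

theorem cast_n2 : ((C.q + 1 - C.r : ℕ) : ℂ) = (C.q : ℂ) + 1 - (C.r : ℂ) := by
  have := C.two_r_le_q
  rw [Nat.cast_sub (by omega)]
  simp

theorem odd_A0 : Odd (Nat.card C.A0) := by
  rw [C.card_A0]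
  obtain ⟨k, hk⟩ := C.q_even
  have := C.hq
  exact ⟨k - 1, by omega⟩

theorem odd_A1 : Odd (Nat.card C.A1) := by
  rw [C.card_A1]
  obtain ⟨k, hk⟩ := C.q_even
  obtain ⟨l, hl⟩ := C.r_even
  exact ⟨k + l, by omega⟩

theorem odd_A2 : Odd (Nat.card C.A2) := by
  rw [C.card_A2]
  obtain ⟨k, hk⟩ := C.q_even
  obtain ⟨l, hl⟩ := C.r_even
  have := C.two_r_le_q
  exact ⟨k - l, by omega⟩

theorem n1_mul_n2 : (C.q + C.r + 1) * (C.q + 1 - C.r) = C.q ^ 2 + 1 := by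
  have h := C.hr
  have h2 := C.two_r_le_q
  zify [show C.r ≤ C.q + 1 by omega]
  have h' : (C.r : ℤ) ^ 2 = 2 * C.q := by exact_mod_cast h
  linear_combination (-1 : ℤ) * h'

theorem coprime_01 : Nat.Coprime (Nat.card C.A0) (Nat.card C.A1) := by
  rw [C.card_A0, C.card_A1]
  -- a common divisor divides `q² + 1` and `q - 1`, hence `2`, and is odd
  rw [Nat.coprime_iff_gcd_eq_one]
  set d := Nat.gcd (C.q - 1) (C.q + C.r + 1) with hd
  have hq := C.hq
  have h1 : d ∣ C.q - 1 := Nat.gcd_dvd_left _ _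
  have h2 : d ∣ C.q + C.r + 1 := Nat.gcd_dvd_right _ _
  have h3 : d ∣ C.q ^ 2 + 1 := by
    rw [← C.n1_mul_n2]
    exact Dvd.dvd.mul_right h2 _
  have h4 : d ∣ (C.q - 1) * (C.q + 1) := Dvd.dvd.mul_right h1 _
  have h5 : (C.q - 1) * (C.q + 1) + 2 = C.q ^ 2 + 1 := by
    obtain ⟨k, hk⟩ : ∃ k, C.q = k + 1 := ⟨C.q - 1, by omega⟩
    rw [hk]
    simp only [Nat.add_sub_cancel]
    ring
  have h6 : d ∣ 2 := by
    have := (Nat.dvd_add_right h4).mp (h5 ▸ h3)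
    exact this
  have hodd : Odd (C.q - 1) := by
    have := C.odd_A0
    rwa [C.card_A0] at this
  have h7 : Odd d := Odd.of_dvd_nat hodd h1
  have h8 : d ≤ 2 := Nat.le_of_dvd (by norm_num) h6
  interval_cases d
  · exact absurd h7 (by decide)
  · rfl
  · exact absurd h7 (by decide)

theorem coprime_02 : Nat.Coprime (Nat.card C.A0) (Nat.card C.A2) := by
  rw [C.card_A0, C.card_A2]
  rw [Nat.coprime_iff_gcd_eq_one]
  set d := Nat.gcd (C.q - 1) (C.q + 1 - C.r) with hd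
  have hq := C.hq
  have h1 : d ∣ C.q - 1 := Nat.gcd_dvd_left _ _
  have h2 : d ∣ C.q + 1 - C.r := Nat.gcd_dvd_right _ _
  have h3 : d ∣ C.q ^ 2 + 1 := by
    rw [← C.n1_mul_n2]
    exact Dvd.dvd.mul_left h2 _
  have h4 : d ∣ (C.q - 1) * (C.q + 1) := Dvd.dvd.mul_right h1 _
  have h5 : (C.q - 1) * (C.q + 1) + 2 = C.q ^ 2 + 1 := by
    obtain ⟨k, hk⟩ : ∃ k, C.q = k + 1 := ⟨C.q - 1, by omega⟩
    rw [hk]
    simp only [Nat.add_sub_cancel]
    ring
  have h6 : d ∣ 2 := by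
    have := (Nat.dvd_add_right h4).mp (h5 ▸ h3)
    exact this
  have hodd : Odd (C.q - 1) := by
    have := C.odd_A0
    rwa [C.card_A0] at this
  have h7 : Odd d := Odd.of_dvd_nat hodd h1
  have h8 : d ≤ 2 := Nat.le_of_dvd (by norm_num) h6
  interval_cases d
  · exact absurd h7 (by decide)
  · rfl
  · exact absurd h7 (by decide)

theorem coprime_12 : Nat.Coprime (Nat.card C.A1) (Nat.card C.A2) := by
  rw [C.card_A1, C.card_A2]
  rw [Nat.coprime_iff_gcd_eq_one]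
  set d := Nat.gcd (C.q + C.r + 1) (C.q + 1 - C.r) with hd
  have hq := C.hq
  have hrq := C.two_r_le_q
  have h1 : d ∣ C.q + C.r + 1 := Nat.gcd_dvd_left _ _
  have h2 : d ∣ C.q + 1 - C.r := Nat.gcd_dvd_right _ _
  -- `d ∣ 2r` and `d` odd, so `d ∣ r`, so `d ∣ r² = 2q`, `d ∣ q`; `d ∣ 2q + 2`, so `d ∣ 2`
  have hodd : Odd (C.q + C.r + 1) := by
    have := C.odd_A1
    rwa [C.card_A1] at this
  have h7 : Odd d := Odd.of_dvd_nat hodd h1
  have hcop : Nat.Coprime d 2 := Nat.coprime_two_right.mpr h7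
  have h3 : d ∣ 2 * C.r := by
    have e : C.q + 1 - C.r + 2 * C.r = C.q + C.r + 1 := by omega
    exact (Nat.dvd_add_right h2).mp (e ▸ h1)
  have h4 : d ∣ C.r := by
    rw [mul_comm] at h3
    exact hcop.dvd_of_dvd_mul_right h3
  have h5 : d ∣ 2 * C.q := by
    rw [← C.hr, pow_two]
    exact Dvd.dvd.mul_right h4 _
  have h6 : d ∣ C.q := by
    rw [mul_comm] at h5
    exact hcop.dvd_of_dvd_mul_right h5
  have h8 : d ∣ 1 := by
    have e : C.q + C.r + 1 = (C.q + C.r) + 1 := rfl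
    have h9 : d ∣ C.q + C.r := Dvd.dvd.add h6 h4
    exact (Nat.dvd_add_right h9).mp (e ▸ h1)
  exact Nat.dvd_one.mp h8

end Cfg

end Cfsg.Agent.SZT
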