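import Cfsg.Agent.Helper12.SzTDefs
import Cfsg.Agent.Helper18.SZTORB
import Cfsg.Agent.Helper24.SZTORBIND

/-!
# SZT, piece PHIVAL: the values of the class functions `phi`
-/

set_option autoImplicit false

namespace Cfsg.Agent.SZT

open Cfsg Cfsg.Agent.Helper11.SCTI Cfsg.Agent.Helper24
open scoped Classical ComplexConjugate

universe u

variable {G : Type u} [Group G] [Fintype G]

theorem phival_orderOf_conj (g h : G) : orderOf (h * g * h⁻¹) = orderOf g :=
  MulEquiv.orderOf_eq (MulAut.conj h) g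

theorem phival_conj_eq_one (g h : G) : h * g * h⁻¹ = 1 ↔ g = 1 := by
  constructor
  · intro e
    have := congrArg (fun z => h⁻¹ * z * h) e
    simpa [mul_assoc] using this
  · intro e
    rw [e]
    group

theorem base_conj (d s t : ℂ) (g h : G) : base d s t (h * g * h⁻¹) = base d s t g := by
  unfold base
  rw [phival_orderOf_conj]
  simp only [phival_conj_eq_one]

theorem isClassFunction_phi (d s t ε : ℂ) (A : Subgroup G) (θ : A →* ℂˣ) :
    IsClassFunction G (phi d s t ε A θ) := by
  intro g h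
  unfold phi
  rw [base_conj, orbSum_conj]

theorem phi_one (d s t ε : ℂ) (A : Subgroup G) (θ : A →* ℂˣ) : phi d s t ε A θ 1 = d := by
  unfold phi base
  rw [orbSum_eq_zero A θ 1 (fun a _ ha1 hc => ha1 (isConj_one_left.mp hc)), orderOf_one]
  simp

/-- an element of even order is not conjugate to an element of a subgroup of odd order -/
theorem phival_not_conj_of_even {A : Subgroup G} (hodd : Odd (Nat.card A)) {g : G}
    (hg : Even (orderOf g)) : ∀ a ∈ A, a ≠ 1 → ¬ IsConj a g := by
  intro a ha _ hc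
  obtain ⟨c, hc'⟩ := isConj_iff.mp hc
  have h1 : orderOf g = orderOf a := by
    rw [← hc']
    exact phival_orderOf_conj a c
  have h2 : orderOf a ∣ Nat.card A := Subgroup.orderOf_dvd_natCard A ha
  have h3 : Odd (orderOf g) := by
    rw [h1]
    exact Odd.of_dvd_nat hodd h2
  exact (Nat.not_even_iff_odd.mpr h3) hg

theorem phi_two (d s t ε : ℂ) (A : Subgroup G) (hodd : Odd (Nat.card A)) (θ : A →* ℂˣ) (g : G)
    (hg : orderOf g = 2) : phi d s t ε A θ g = s := by
  unfold phi base
  rw [orbSum_eq_zero A θ g (phival_not_conj_of_even hodd (by rw [hg]; decide))]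
  have h1 : g ≠ 1 := by
    intro h
    rw [h, orderOf_one] at hg
    omega
  rw [if_neg h1, if_pos hg, if_neg (by rw [hg]; decide)]
  ring

theorem phi_four (d s t ε : ℂ) (A : Subgroup G) (hodd : Odd (Nat.card A)) (θ : A →* ℂˣ) (g : G)
    (hg : orderOf g = 4) : phi d s t ε A θ g = t := by
  unfold phi base
  rw [orbSum_eq_zero A θ g (phival_not_conj_of_even hodd (by rw [hg]; decide))]
  have h1 : g ≠ 1 := by
    intro h
    rw [h, orderOf_one] at hg
    omega
  rw [if_neg h1, if_neg (by rw [hg]; decide), if_pos hg]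
  ring

theorem phi_cov (d s t ε : ℂ) {A : Subgroup G} (hA : SC A) (hodd : Odd (Nat.card A))
    (θ : A →* ℂˣ) (x : A) (hx : x ≠ 1) (g : G) (hg : IsConj (x : G) g) :
    phi d s t ε A θ g = ε * indA A θ x := by
  obtain ⟨c, hc⟩ := isConj_iff.mp hg
  have hcl := isClassFunction_phi d s t ε A θ (x : G) c
  rw [hc] at hcl
  rw [hcl]
  unfold phi base
  rw [orbSum_eq_indA hA θ x hx]
  have hx1 : (x : G) ≠ 1 := fun h => hx (Subtype.ext h)
  have h2 : orderOf (x : G) ∣ Nat.card A := Subgroup.orderOf_dvd_natCard A x.2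
  have h3 : Odd (orderOf (x : G)) := Odd.of_dvd_nat hodd h2
  have h4 : orderOf (x : G) ≠ 2 := by
    intro h; rw [h] at h3; exact absurd h3 (by decide)
  have h5 : orderOf (x : G) ≠ 4 := by
    intro h; rw [h] at h3; exact absurd h3 (by decide)
  rw [if_neg hx1, if_neg h4, if_neg h5]
  ring

theorem phi_other (d s t ε : ℂ) (A : Subgroup G) (θ : A →* ℂˣ) (g : G) (h1 : g ≠ 1)
    (h2 : orderOf g ≠ 2) (h4 : orderOf g ≠ 4) (h : ∀ a ∈ A, a ≠ 1 → ¬ IsConj a g) :
    phi d s t ε A θ g = 0 := by
  unfold phi base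
  rw [orbSum_eq_zero A θ g h, if_neg h1, if_neg h2, if_neg h4]
  ring

end Cfsg.Agent.SZT
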