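import Cfsg.Agent.Helper12.SZTVAL
import Cfsg.Agent.Helper1.SZTELEM
import Cfsg.Agent.Helper14.SZTRESCJ
import Cfsg.Agent.Helper24.BrauerChar
import Cfsg.Agent.Helper24.SZTRESSELF

/-!
# SZT: the explicit class functions are generalised characters (Brauer's characterisation)
-/

set_option autoImplicit false

namespace Cfsg.Agent.SZT

open Cfsg Cfsg.Agent.Helper11.SCTI Cfsg.Agent.Helper24
open scoped Classical ComplexConjugate

universe u

variable {G : Type u} [Group G] [Fintype G]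

namespace Cfg

variable (C : Cfg G)

theorem isGen_of_restrict (f : G → ℂ) (hf : IsClassFunction G f)
    (hU : IsGeneralizedCharacter C.U (fun x : C.U => f x))
    (h0 : IsGeneralizedCharacter C.A0 (fun x : C.A0 => f x))
    (h1 : IsGeneralizedCharacter C.A1 (fun x : C.A1 => f x))
    (h2 : IsGeneralizedCharacter C.A2 (fun x : C.A2 => f x)) : IsGeneralizedCharacter G f := by
  apply isGeneralizedCharacter_of_restrict_elementary f hf
  intro E p hp hE
  rcases C.elementary_le E p hp hE with ⟨h, hh⟩ | ⟨h, hh⟩ | ⟨h, hh⟩ | ⟨h, hh⟩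
  · exact isGen_restrict_cj C.U f hf hU h E hh
  · exact isGen_restrict_cj C.A0 f hf h0 h E hh
  · exact isGen_restrict_cj C.A1 f hf h1 h E hh
  · exact isGen_restrict_cj C.A2 f hf h2 h E hh

theorem brauer_not_conj_of_T {A B : Subgroup G} (h : ∀ g : G, (∃ x ∈ A, x ≠ 1 ∧ IsConj x g) →
    ¬ ∃ x ∈ B, x ≠ 1 ∧ IsConj x g) :
    ∀ b ∈ B, b ≠ 1 → ∀ a ∈ A, a ≠ 1 → ¬ IsConj a b := by
  intro b hb hb1 a ha ha1 hab
  exact h b ⟨a, ha, ha1, hab⟩ ⟨b, hb, hb1, IsConj.refl b⟩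

theorem isGen_cF1 (θ : C.A1 →* ℂˣ) : IsGeneralizedCharacter G (C.cF1 θ) := by
  have hr := C.hrC
  obtain ⟨k, hk⟩ := C.r_even
  have hr2 : (C.r : ℂ) = 2 * (k : ℂ) := by rw [hk]; push_cast; ring
  apply C.isGen_of_restrict _ (isClassFunction_phi _ _ _ _ _ _)
  · -- U
    apply C.isGen_restrict_phi_U C.A1 C.odd_A1 _ _ _ _ θ (-1) 1 ((k : ℤ) - 1) 0
    · push_cast
      rw [hr2] at hr ⊢
      linear_combination (-(1:ℂ) / 2 * ((C.q : ℂ) - 1)) * hr
    · push_cast
      rw [hr2] at hr ⊢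
      linear_combination (1 / 2 : ℂ) * hr
    · push_cast; ring
  · -- A0
    apply isGen_restrict_phi_other C.A1 C.A0 C.odd_A0
      (brauer_not_conj_of_T (fun g h1 h0 => C.not_T0_T1 h0 h1)) _ _ _ _ θ ((C.q + 1 - C.r : ℕ) : ℤ)
    rw [C.card_A0, C.cast_n0, Int.cast_natCast, C.cast_n2]
    ring
  · -- A1
    have := isGen_restrict_phi_self C.sc_A1 C.odd_A1
      (((C.q : ℂ) - C.r + 1) * ((C.q : ℂ) - 1)) ((C.r : ℂ) - 1) (-1) (-1) θ
      ((C.q : ℤ) - 2 * C.r + 3) ?_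
    · simpa using this
    · rw [C.card_N1, C.card_A1]
      have h0 : ((C.q + C.r + 1 : ℕ) : ℂ) ≠ 0 := by
        have : 0 < C.q + C.r + 1 := by omega
        exact_mod_cast this.ne'
      push_cast at h0 ⊢
      field_simp
      linear_combination (2 : ℂ) * hr
  · -- A2
    apply isGen_restrict_phi_other C.A1 C.A2 C.odd_A2
      (brauer_not_conj_of_T (fun g h1 h2 => C.not_T1_T2 h1 h2)) _ _ _ _ θ ((C.q - 1 : ℕ) : ℤ)
    rw [C.card_A2, C.cast_n2, Int.cast_natCast, C.cast_n0]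
    ring

theorem isGen_cF2 (θ : C.A2 →* ℂˣ) : IsGeneralizedCharacter G (C.cF2 θ) := by
  have hr := C.hrC
  obtain ⟨k, hk⟩ := C.r_even
  have hr2 : (C.r : ℂ) = 2 * (k : ℂ) := by rw [hk]; push_cast; ring
  apply C.isGen_of_restrict _ (isClassFunction_phi _ _ _ _ _ _)
  · -- U
    apply C.isGen_restrict_phi_U C.A2 C.odd_A2 _ _ _ _ θ (-1) 1 ((k : ℤ) + 1) 0
    · push_cast
      rw [hr2] at hr ⊢
      linear_combination (-(1:ℂ) / 2 * ((C.q : ℂ) - 1)) * hr
    · push_cast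
      rw [hr2] at hr ⊢
      linear_combination (1 / 2 : ℂ) * hr
    · push_cast; ring
  · -- A0
    apply isGen_restrict_phi_other C.A2 C.A0 C.odd_A0
      (brauer_not_conj_of_T (fun g h2 h0 => C.not_T0_T2 h0 h2)) _ _ _ _ θ ((C.q + C.r + 1 : ℕ) : ℤ)
    rw [C.card_A0, C.cast_n0, Int.cast_natCast]
    push_cast
    ring
  · -- A1
    apply isGen_restrict_phi_other C.A2 C.A1 C.odd_A1
      (brauer_not_conj_of_T (fun g h2 h1 => C.not_T1_T2 h1 h2)) _ _ _ _ θ ((C.q - 1 : ℕ) : ℤ)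
    rw [C.card_A1, Int.cast_natCast, C.cast_n0]
    push_cast
    ring
  · -- A2
    have := isGen_restrict_phi_self C.sc_A2 C.odd_A2
      (((C.q : ℂ) + C.r + 1) * ((C.q : ℂ) - 1)) (-(C.r : ℂ) - 1) (-1) (-1) θ
      ((C.q : ℤ) + 2 * C.r + 3) ?_
    · simpa using this
    · rw [C.card_N2, C.card_A2]
      have h0 : ((C.q + 1 - C.r : ℕ) : ℂ) ≠ 0 := by
        have := C.two_r_le_q
        have : 0 < C.q + 1 - C.r := by omega
        exact_mod_cast this.ne'
      push_cast [C.cast_n2] at h0 ⊢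
      field_simp
      linear_combination (2 : ℂ) * hr

theorem isGen_cF0 (θ : C.A0 →* ℂˣ) : IsGeneralizedCharacter G (C.cF0 θ) := by
  have hr := C.hrC
  apply C.isGen_of_restrict _ (isClassFunction_phi _ _ _ _ _ _)
  · -- U
    apply C.isGen_restrict_phi_U C.A0 C.odd_A0 _ _ _ _ θ 1 0 0 1
    · push_cast; ring
    · push_cast; ring
    · push_cast; ring
  · -- A0
    have := isGen_restrict_phi_self C.sc_A0 C.odd_A0
      ((C.q : ℂ) ^ 2 + 1) 1 1 1 θ ((C.q : ℤ) + 1) ?_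
    · simpa using this
    · rw [C.card_N0, C.card_A0]
      have h0 : ((C.q - 1 : ℕ) : ℂ) ≠ 0 := by
        have := C.hq
        have : 0 < C.q - 1 := by omega
        exact_mod_cast this.ne'
      push_cast [C.cast_n0] at h0 ⊢
      field_simp
      ring
  · -- A1
    apply isGen_restrict_phi_other C.A0 C.A1 C.odd_A1
      (brauer_not_conj_of_T (fun g h0 h1 => C.not_T0_T1 h0 h1)) _ _ _ _ θ ((C.q + 1 - C.r : ℕ) : ℤ)
    rw [C.card_A1, Int.cast_natCast, C.cast_n2]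
    push_cast
    linear_combination (1 : ℂ) * hr
  · -- A2
    apply isGen_restrict_phi_other C.A0 C.A2 C.odd_A2
      (brauer_not_conj_of_T (fun g h0 h2 => C.not_T0_T2 h0 h2)) _ _ _ _ θ ((C.q + C.r + 1 : ℕ) : ℤ)
    rw [C.card_A2, Int.cast_natCast, C.cast_n2]
    push_cast
    linear_combination (1 : ℂ) * hr

theorem isGen_cX : IsGeneralizedCharacter G C.cX := by
  have h1 : C.cX = C.cF0 1 - (fun _ => (1 : ℂ)) := by
    funext g
    rfl
  rw [h1]
  exact IsGeneralizedCharacter.sub (C.isGen_cF0 1)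
    (IsCharacter.isGeneralizedCharacter (isCharacter_of_monoidHom (1 : G →* ℂ)))

end Cfg

end Cfsg.Agent.SZT
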