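import Cfsg.Agent.Helper12.SZTARITH

/-!
# SZT, piece TYPES: the types of elements of a Suzuki configuration
-/

set_option autoImplicit false

namespace Cfsg.Agent.SZT

open Cfsg Cfsg.Agent.Helper11.SCTI Cfsg.Agent.Helper24
open scoped Classical ComplexConjugate

universe u

variable {G : Type u} [Group G] [Fintype G]

/-- the order of an element conjugate into a subgroup divides the order of the subgroup -/
theorem types_orderOf_dvd {A : Subgroup G} {x g : G} (hx : x ∈ A) (hg : IsConj x g) :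
    orderOf g ∣ Nat.card A := by
  obtain ⟨c, hc⟩ := isConj_iff.mp hg
  have h1 : orderOf g = orderOf x := by
    rw [← hc]
    exact MulEquiv.orderOf_eq (MulAut.conj c) x
  rw [h1]
  exact Subgroup.orderOf_dvd_natCard A hx

theorem types_ne_one {x g : G} (hx : x ≠ 1) (hg : IsConj x g) : g ≠ 1 := by
  intro h
  rw [h] at hg
  exact hx (isConj_one_left.mp hg)

theorem types_odd {A : Subgroup G} (hodd : Odd (Nat.card A)) {g : G}
    (h : ∃ x ∈ A, x ≠ 1 ∧ IsConj x g) : g ≠ 1 ∧ orderOf g ≠ 2 ∧ orderOf g ≠ 4 := by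
  obtain ⟨x, hx, hx1, hg⟩ := h
  have hd := types_orderOf_dvd hx hg
  have ho : Odd (orderOf g) := Odd.of_dvd_nat hodd hd
  refine ⟨types_ne_one hx1 hg, ?_, ?_⟩
  · intro h2; rw [h2] at ho; exact absurd ho (by decide)
  · intro h2; rw [h2] at ho; exact absurd ho (by decide)

theorem types_not_both {A B : Subgroup G} (hcop : Nat.Coprime (Nat.card A) (Nat.card B)) {g : G}
    (hA : ∃ x ∈ A, x ≠ 1 ∧ IsConj x g) : ¬ ∃ x ∈ B, x ≠ 1 ∧ IsConj x g := by
  rintro ⟨y, hy, -, hyg⟩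
  obtain ⟨x, hx, hx1, hxg⟩ := hA
  have h1 := types_orderOf_dvd hx hxg
  have h2 := types_orderOf_dvd hy hyg
  have h3 : orderOf g ∣ 1 := by
    have := Nat.dvd_gcd h1 h2
    rwa [Nat.Coprime.gcd_eq_one hcop] at this
  have h4 : g = 1 := orderOf_eq_one_iff.mp (Nat.dvd_one.mp h3)
  exact types_ne_one hx1 hxg h4

namespace Cfg

variable (C : Cfg G)

theorem cases (g : G) : g = 1 ∨ orderOf g = 2 ∨ orderOf g = 4 ∨ C.T0 g ∨ C.T1 g ∨ C.T2 g := by
  by_cases h1 : g = 1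
  · exact Or.inl h1
  · right
    exact C.classify g h1

theorem T0_odd {g : G} (h : C.T0 g) : g ≠ 1 ∧ orderOf g ≠ 2 ∧ orderOf g ≠ 4 :=
  types_odd C.odd_A0 h

theorem T1_odd {g : G} (h : C.T1 g) : g ≠ 1 ∧ orderOf g ≠ 2 ∧ orderOf g ≠ 4 :=
  types_odd C.odd_A1 h

theorem T2_odd {g : G} (h : C.T2 g) : g ≠ 1 ∧ orderOf g ≠ 2 ∧ orderOf g ≠ 4 :=
  types_odd C.odd_A2 h

theorem not_T0_T1 {g : G} (h0 : C.T0 g) : ¬ C.T1 g := types_not_both C.coprime_01 h0

theorem not_T0_T2 {g : G} (h0 : C.T0 g) : ¬ C.T2 g := types_not_both C.coprime_02 h0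

theorem not_T1_T2 {g : G} (h1 : C.T1 g) : ¬ C.T2 g := types_not_both C.coprime_12 h1

end Cfg

end Cfsg.Agent.SZT
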