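import Cfsg.Agent.Helper12.SZTPHIVAL
import Cfsg.Agent.Helper12.SZTTYPES

/-!
# SZT, pieces VAL0, VAL1, VAL2, VALX: the values of the explicit characters
-/

set_option autoImplicit false

namespace Cfsg.Agent.SZT

open Cfsg Cfsg.Agent.Helper11.SCTI Cfsg.Agent.Helper24
open scoped Classical ComplexConjugate

universe u

variable {G : Type u} [Group G] [Fintype G]

namespace Cfg

variable (C : Cfg G)

theorem val_not_conj {A : Subgroup G} {g : G} (h : ¬ ∃ x ∈ A, x ≠ 1 ∧ IsConj x g) :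
    ∀ a ∈ A, a ≠ 1 → ¬ IsConj a g :=
  fun a ha ha1 hc => h ⟨a, ha, ha1, hc⟩

/-! ### `cF0` -/

theorem cF0_one (θ : C.A0 →* ℂˣ) : C.cF0 θ 1 = (C.q : ℂ) ^ 2 + 1 := phi_one _ _ _ _ _ _

theorem cF0_two (θ : C.A0 →* ℂˣ) {g : G} (hg : orderOf g = 2) : C.cF0 θ g = 1 :=
  phi_two _ _ _ _ _ C.odd_A0 _ _ hg

theorem cF0_four (θ : C.A0 →* ℂˣ) {g : G} (hg : orderOf g = 4) : C.cF0 θ g = 1 :=
  phi_four _ _ _ _ _ C.odd_A0 _ _ hg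

theorem cF0_T0 (θ : C.A0 →* ℂˣ) (x : C.A0) (hx : x ≠ 1) {g : G} (hg : IsConj (x : G) g) :
    C.cF0 θ g = indA C.A0 θ x := by
  have := phi_cov ((C.q : ℂ) ^ 2 + 1) 1 1 1 C.sc_A0 C.odd_A0 θ x hx g hg
  rw [one_mul] at this
  exact this

theorem cF0_T1 (θ : C.A0 →* ℂˣ) {g : G} (hg : C.T1 g) : C.cF0 θ g = 0 := by
  obtain ⟨h1, h2, h4⟩ := C.T1_odd hg
  exact phi_other _ _ _ _ _ _ _ h1 h2 h4 (val_not_conj (fun h0 => C.not_T0_T1 h0 hg))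

theorem cF0_T2 (θ : C.A0 →* ℂˣ) {g : G} (hg : C.T2 g) : C.cF0 θ g = 0 := by
  obtain ⟨h1, h2, h4⟩ := C.T2_odd hg
  exact phi_other _ _ _ _ _ _ _ h1 h2 h4 (val_not_conj (fun h0 => C.not_T0_T2 h0 hg))

/-! ### `cF1` -/

theorem cF1_one (θ : C.A1 →* ℂˣ) :
    C.cF1 θ 1 = ((C.q : ℂ) - C.r + 1) * ((C.q : ℂ) - 1) := phi_one _ _ _ _ _ _

theorem cF1_two (θ : C.A1 →* ℂˣ) {g : G} (hg : orderOf g = 2) : C.cF1 θ g = (C.r : ℂ) - 1 :=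
  phi_two _ _ _ _ _ C.odd_A1 _ _ hg

theorem cF1_four (θ : C.A1 →* ℂˣ) {g : G} (hg : orderOf g = 4) : C.cF1 θ g = -1 :=
  phi_four _ _ _ _ _ C.odd_A1 _ _ hg

theorem cF1_T0 (θ : C.A1 →* ℂˣ) {g : G} (hg : C.T0 g) : C.cF1 θ g = 0 := by
  obtain ⟨h1, h2, h4⟩ := C.T0_odd hg
  exact phi_other _ _ _ _ _ _ _ h1 h2 h4 (val_not_conj (C.not_T0_T1 hg))

theorem cF1_T1 (θ : C.A1 →* ℂˣ) (x : C.A1) (hx : x ≠ 1) {g : G} (hg : IsConj (x : G) g) :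
    C.cF1 θ g = -indA C.A1 θ x := by
  have := phi_cov (((C.q : ℂ) - C.r + 1) * ((C.q : ℂ) - 1)) ((C.r : ℂ) - 1) (-1) (-1)
    C.sc_A1 C.odd_A1 θ x hx g hg
  rw [neg_one_mul] at this
  exact this

theorem cF1_T2 (θ : C.A1 →* ℂˣ) {g : G} (hg : C.T2 g) : C.cF1 θ g = 0 := by
  obtain ⟨h1, h2, h4⟩ := C.T2_odd hg
  exact phi_other _ _ _ _ _ _ _ h1 h2 h4 (val_not_conj (fun h1' => C.not_T1_T2 h1' hg))

/-! ### `cF2` -/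

theorem cF2_one (θ : C.A2 →* ℂˣ) :
    C.cF2 θ 1 = ((C.q : ℂ) + C.r + 1) * ((C.q : ℂ) - 1) := phi_one _ _ _ _ _ _

theorem cF2_two (θ : C.A2 →* ℂˣ) {g : G} (hg : orderOf g = 2) : C.cF2 θ g = -(C.r : ℂ) - 1 :=
  phi_two _ _ _ _ _ C.odd_A2 _ _ hg

theorem cF2_four (θ : C.A2 →* ℂˣ) {g : G} (hg : orderOf g = 4) : C.cF2 θ g = -1 :=
  phi_four _ _ _ _ _ C.odd_A2 _ _ hg

theorem cF2_T0 (θ : C.A2 →* ℂˣ) {g : G} (hg : C.T0 g) : C.cF2 θ g = 0 := by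
  obtain ⟨h1, h2, h4⟩ := C.T0_odd hg
  exact phi_other _ _ _ _ _ _ _ h1 h2 h4 (val_not_conj (C.not_T0_T2 hg))

theorem cF2_T1 (θ : C.A2 →* ℂˣ) {g : G} (hg : C.T1 g) : C.cF2 θ g = 0 := by
  obtain ⟨h1, h2, h4⟩ := C.T1_odd hg
  exact phi_other _ _ _ _ _ _ _ h1 h2 h4 (val_not_conj (C.not_T1_T2 hg))

theorem cF2_T2 (θ : C.A2 →* ℂˣ) (x : C.A2) (hx : x ≠ 1) {g : G} (hg : IsConj (x : G) g) :
    C.cF2 θ g = -indA C.A2 θ x := by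
  have := phi_cov (((C.q : ℂ) + C.r + 1) * ((C.q : ℂ) - 1)) (-(C.r : ℂ) - 1) (-1) (-1)
    C.sc_A2 C.odd_A2 θ x hx g hg
  rw [neg_one_mul] at this
  exact this

/-! ### `cX` -/

theorem cX_eq (g : G) : C.cX g = C.cF0 1 g - 1 := rfl

theorem cX_one : C.cX 1 = (C.q : ℂ) ^ 2 := by
  rw [cX_eq, cF0_one]; ring

theorem cX_two {g : G} (hg : orderOf g = 2) : C.cX g = 0 := by
  rw [cX_eq, C.cF0_two 1 hg]; ring

theorem cX_four {g : G} (hg : orderOf g = 4) : C.cX g = 0 := by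
  rw [cX_eq, C.cF0_four 1 hg]; ring

theorem cX_T0 {g : G} (hg : C.T0 g) : C.cX g = 1 := by
  obtain ⟨x, hx, hx1, hc⟩ := hg
  have hx1' : (⟨x, hx⟩ : C.A0) ≠ 1 := fun h => hx1 (congrArg Subtype.val h)
  rw [cX_eq, C.cF0_T0 1 ⟨x, hx⟩ hx1' hc, indA_one_char, C.card_N0, C.card_A0]
  have h0 : ((C.q - 1 : ℕ) : ℂ) ≠ 0 := by
    have := C.hq
    have : 0 < C.q - 1 := by omega
    exact_mod_cast this.ne'
  push_cast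
  field_simp
  ring

theorem cX_T1 {g : G} (hg : C.T1 g) : C.cX g = -1 := by
  rw [cX_eq, C.cF0_T1 1 hg]; ring

theorem cX_T2 {g : G} (hg : C.T2 g) : C.cX g = -1 := by
  rw [cX_eq, C.cF0_T2 1 hg]; ring

end Cfg

end Cfsg.Agent.SZT
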