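import Cfsg.Agent.Helper12.SZTTable
import Cfsg.Agent.Helper20.SZTCOVER
import Cfsg.Agent.Helper26.SZTSC4
import Cfsg.Agent.Helper26.SZTSC0
import Cfsg.Agent.Helper26.SZTSC1
import Cfsg.Agent.Helper26.SZTSC2

/-!
# SZT: the covering theorem for a Suzuki configuration
-/

set_option autoImplicit false

namespace Cfsg.Agent.SZT

open Cfsg Cfsg.Agent.Helper11.SCTI Cfsg.Agent.Helper24
open scoped Classical ComplexConjugate

universe u

variable {G : Type u} [Group G] [Fintype G]

namespace Cfg

variable (C : Cfg G)

include C in
/-- every non-identity element is a product of two conjugates of any element of order `> 2` -/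
theorem covering (x g : G) (hx : 2 < orderOf x) (hg : g ≠ 1) :
    ∃ u v : G, g = (u * x * u⁻¹) * (v * x * v⁻¹) := by
  obtain ⟨W₁, W₂, T⟩ := C.table
  apply covering_of_sconst
  rcases C.cases x with h | h | h | h | h | h
  · rw [h, orderOf_one] at hx; omega
  · omega
  · exact C.sconst_four T x g h hg
  · exact C.sconst_T0 T x g h hg
  · exact C.sconst_T1 T x g h hg
  · exact C.sconst_T2 T x g h hg

end Cfg

end Cfsg.Agent.SZT
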