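import Cfsg.Agent.Helper12.SZTIrr
import Cfsg.Agent.Helper20.SZTCOMB
import Cfsg.Agent.Helper3.SZTKG
import Cfsg.Agent.Helper8.AS7

/-!
# SZT, piece EXW: exactly two irreducible characters are missing from the explicit list
-/

set_option autoImplicit false

namespace Cfsg.Agent.SZT

open Cfsg Cfsg.Agent.Helper11.SCTI Cfsg.Agent.Helper24
open scoped Classical ComplexConjugate

universe u

variable {G : Type u} [Group G] [Fintype G]

theorem exw_card_dual_ne_one {A : Subgroup G} (hA : SC A) :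
    Nat.card {θ : A →* ℂˣ // θ ≠ 1} = Nat.card A - 1 := by
  have h1 : Nat.card (A →* ℂˣ) = Nat.card A :=
    Cfsg.Agent.Helper8.AS.card_dual (fun a b => Subtype.ext (hA.comm a a.2 b b.2))
  rw [← h1, Nat.card_eq_fintype_card, Nat.card_eq_fintype_card, Fintype.card_subtype_compl,
    Fintype.card_subtype_eq]

theorem exw_sum_subtype {D : Type*} [Fintype D] (f : D → ℂ) (d₀ : D)
    [inst : Fintype {θ : D // θ ≠ d₀}] :
    ∑ θ : {θ : D // θ ≠ d₀}, f θ = ∑ θ : D, (if θ = d₀ then 0 else f θ) := by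
  have h := Finset.sum_subtype (F := inst) (Finset.univ.filter (fun θ : D => θ ≠ d₀))
    (fun x => by simp) f
  rw [← h, Finset.sum_filter]
  refine Finset.sum_congr rfl ?_
  intro θ _
  by_cases h : θ = d₀
  · rw [if_pos h, if_neg (not_not.mpr h)]
  · rw [if_neg h, if_pos h]

theorem exw_sum_subtypeQ {D : Type*} [Fintype D] (d₀ : D) (c : ℚ)
    [inst : Fintype {θ : D // θ ≠ d₀}] :
    ∑ _θ : {θ : D // θ ≠ d₀}, c = (Nat.card {θ : D // θ ≠ d₀} : ℚ) * c := by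
  rw [Finset.sum_const, nsmul_eq_mul, Finset.card_univ, Nat.card_eq_fintype_card]

namespace Cfg

variable (C : Cfg G)

/-- the index type of the explicit list -/
abbrev ExwI : Type u :=
  Unit ⊕ (Unit ⊕ ({θ : C.A0 →* ℂˣ // θ ≠ 1} ⊕ ({θ : C.A1 →* ℂˣ // θ ≠ 1} ⊕
    {θ : C.A2 →* ℂˣ // θ ≠ 1})))

theorem exw_irr_triv : IsIrrCharacter G (fun _ : G => (1 : ℂ)) :=
  isIrrCharacter_of_monoidHom (1 : G →* ℂ)

/-- the explicit list -/
noncomputable def exwK : C.ExwI → IrrCharacter G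
  | Sum.inl _ => ⟨fun _ => 1, exw_irr_triv⟩
  | Sum.inr (Sum.inl _) => ⟨C.cX, C.irr_cX⟩
  | Sum.inr (Sum.inr (Sum.inl θ)) => ⟨C.cF0 θ.1, C.irr_cF0 θ.2⟩
  | Sum.inr (Sum.inr (Sum.inr (Sum.inl θ))) => ⟨C.cF1 θ.1, C.irr_cF1 θ.2⟩
  | Sum.inr (Sum.inr (Sum.inr (Sum.inr θ))) => ⟨C.cF2 θ.1, C.irr_cF2 θ.2⟩

/-- the fibre sizes -/
def exwW : C.ExwI → ℕ
  | Sum.inl _ => 1
  | Sum.inr (Sum.inl _) => 1
  | Sum.inr (Sum.inr (Sum.inl _)) => 2
  | Sum.inr (Sum.inr (Sum.inr (Sum.inl _))) => 4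
  | Sum.inr (Sum.inr (Sum.inr (Sum.inr _))) => 4

/-- the degrees -/
def exwD : C.ExwI → ℕ
  | Sum.inl _ => 1
  | Sum.inr (Sum.inl _) => C.q ^ 2
  | Sum.inr (Sum.inr (Sum.inl _)) => C.q ^ 2 + 1
  | Sum.inr (Sum.inr (Sum.inr (Sum.inl _))) => (C.q + 1 - C.r) * (C.q - 1)
  | Sum.inr (Sum.inr (Sum.inr (Sum.inr _))) => (C.q + C.r + 1) * (C.q - 1)

theorem exwK_one (i : C.ExwI) : (C.exwK i : G → ℂ) 1 = (C.exwD i : ℂ) := by
  rcases i with _ | _ | θ | θ | θ
  · simp [exwK, exwD]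
  · show C.cX 1 = _
    rw [C.cX_one]; simp [exwD]
  · show C.cF0 θ.1 1 = _
    rw [C.cF0_one]; simp [exwD]
  · show C.cF1 θ.1 1 = _
    rw [C.cF1_one]
    simp only [exwD]
    rw [Nat.cast_mul, C.cast_n2, C.cast_n0]
    ring
  · show C.cF2 θ.1 1 = _
    rw [C.cF2_one]
    simp only [exwD]
    rw [Nat.cast_mul, C.cast_n0]
    push_cast
    ring

theorem exwD_eq_of_eq {i j : C.ExwI} (h : C.exwK j = C.exwK i) : C.exwD j = C.exwD i := by
  have h1 := C.exwK_one i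
  have h2 := C.exwK_one j
  rw [h, h1] at h2
  exact_mod_cast h2.symm

/-- the five degrees are pairwise different -/
theorem exw_deg_facts : 1 < C.q ^ 2 ∧ C.q ^ 2 < C.q ^ 2 + 1 ∧
    1 < (C.q + 1 - C.r) * (C.q - 1) ∧ (C.q + 1 - C.r) * (C.q - 1) < C.q ^ 2 ∧
    C.q ^ 2 + 1 < (C.q + C.r + 1) * (C.q - 1) := by
  have hq := C.hq
  have hr := C.four_le_r
  have hrq := C.two_r_le_q
  obtain ⟨k, hk⟩ : ∃ k, C.q = k + 1 := ⟨C.q - 1, by omega⟩
  refine ⟨?_, by omega, ?_, ?_, ?_⟩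
  · nlinarith
  · rw [hk]
    simp only [Nat.add_sub_cancel]
    have : 1 ≤ k + 1 + 1 - C.r := by omega
    have : 7 ≤ k := by omega
    nlinarith
  · rw [hk]
    simp only [Nat.add_sub_cancel]
    have h1 : k + 1 + 1 - C.r ≤ k := by omega
    have : (k + 1 + 1 - C.r) * k ≤ k * k := Nat.mul_le_mul_right _ h1
    nlinarith
  · rw [hk]
    simp only [Nat.add_sub_cancel]
    nlinarith

theorem exw_ne_of_deg {i j : C.ExwI} (h : C.exwD j ≠ C.exwD i) : C.exwK j ≠ C.exwK i :=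
  fun e => h (C.exwD_eq_of_eq e)

theorem exw_card_fiber_eq {I X D : Type*} (κ : I → X) (ι : D → I) (hι : Function.Injective ι)
    (x : X) (h : ∀ j, κ j = x → ∃ d, ι d = j) :
    Nat.card {j : I // κ j = x} = Nat.card {d : D // κ (ι d) = x} := by
  symm
  apply Nat.card_congr
  apply Equiv.ofBijective (fun d : {d : D // κ (ι d) = x} => (⟨ι d.1, d.2⟩ : {j : I // κ j = x}))
  constructor
  · intro a b hab
    apply Subtype.ext
    apply hι
    exact congrArg Subtype.val hab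
  · rintro ⟨j, hj⟩
    obtain ⟨d, hd⟩ := h j hj
    subst hd
    exact ⟨⟨d, hj⟩, rfl⟩

theorem exw_fiber (i : C.ExwI) : Nat.card {j : C.ExwI // C.exwK j = C.exwK i} = C.exwW i := by
  obtain ⟨f1, f2, f3, f4, f5⟩ := C.exw_deg_facts
  rcases i with _ | _ | θ | θ | θ
  · rw [exw_card_fiber_eq C.exwK (fun _ : Unit => (Sum.inl () : C.ExwI))
      (fun a b _ => Subsingleton.elim a b)]
    · show _ = 1
      rw [Nat.card_eq_one_iff_unique]
      exact ⟨⟨fun a b => Subtype.ext (Subsingleton.elim _ _)⟩, ⟨⟨(), rfl⟩⟩⟩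
    · intro j hj
      refine ⟨(), ?_⟩
      rcases j with _ | _ | θ' | θ' | θ'
      · rfl
      all_goals exact absurd hj (C.exw_ne_of_deg (by simp only [exwD]; omega))
  · rw [exw_card_fiber_eq C.exwK (fun _ : Unit => (Sum.inr (Sum.inl ()) : C.ExwI))
      (fun a b _ => Subsingleton.elim a b)]
    · show _ = 1
      rw [Nat.card_eq_one_iff_unique]
      exact ⟨⟨fun a b => Subtype.ext (Subsingleton.elim _ _)⟩, ⟨⟨(), rfl⟩⟩⟩
    · intro j hj
      refine ⟨(), ?_⟩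
      rcases j with _ | _ | θ' | θ' | θ'
      · exact absurd hj (C.exw_ne_of_deg (by simp only [exwD]; omega))
      · rfl
      all_goals exact absurd hj (C.exw_ne_of_deg (by simp only [exwD]; omega))
  · rw [exw_card_fiber_eq C.exwK
      (fun θ' : {θ : C.A0 →* ℂˣ // θ ≠ 1} => (Sum.inr (Sum.inr (Sum.inl θ')) : C.ExwI))
      (fun a b hab => Sum.inl.inj (Sum.inr.inj (Sum.inr.inj hab)))]
    · show _ = 2
      rw [← C.card_fiber_cF0 θ.2]
      apply Nat.card_congr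
      exact
        { toFun := fun x => ⟨x.1.1, x.1.2, congrArg Subtype.val x.2⟩
          invFun := fun x => ⟨⟨x.1, x.2.1⟩, Subtype.ext x.2.2⟩
          left_inv := fun x => rfl
          right_inv := fun x => rfl }
    · intro j hj
      rcases j with _ | _ | θ' | θ' | θ'
      · exact absurd hj (C.exw_ne_of_deg (by simp only [exwD]; omega))
      · exact absurd hj (C.exw_ne_of_deg (by simp only [exwD]; omega))
      · exact ⟨θ', rfl⟩
      all_goals exact absurd hj (C.exw_ne_of_deg (by simp only [exwD]; omega))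
  · rw [exw_card_fiber_eq C.exwK
      (fun θ' : {θ : C.A1 →* ℂˣ // θ ≠ 1} => (Sum.inr (Sum.inr (Sum.inr (Sum.inl θ'))) : C.ExwI))
      (fun a b hab => Sum.inl.inj (Sum.inr.inj (Sum.inr.inj (Sum.inr.inj hab))))]
    · show _ = 4
      rw [← C.card_fiber_cF1 θ.2]
      apply Nat.card_congr
      exact
        { toFun := fun x => ⟨x.1.1, x.1.2, congrArg Subtype.val x.2⟩
          invFun := fun x => ⟨⟨x.1, x.2.1⟩, Subtype.ext x.2.2⟩
          left_inv := fun x => rfl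
          right_inv := fun x => rfl }
    · intro j hj
      rcases j with _ | _ | θ' | θ' | θ'
      · exact absurd hj (C.exw_ne_of_deg (by simp only [exwD]; omega))
      · exact absurd hj (C.exw_ne_of_deg (by simp only [exwD]; omega))
      · exact absurd hj (C.exw_ne_of_deg (by simp only [exwD]; omega))
      · exact ⟨θ', rfl⟩
      · exact absurd hj (C.exw_ne_of_deg (by simp only [exwD]; omega))
  · rw [exw_card_fiber_eq C.exwK
      (fun θ' : {θ : C.A2 →* ℂˣ // θ ≠ 1} => (Sum.inr (Sum.inr (Sum.inr (Sum.inr θ'))) : C.ExwI))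
      (fun a b hab => Sum.inr.inj (Sum.inr.inj (Sum.inr.inj (Sum.inr.inj hab))))]
    · show _ = 4
      rw [← C.card_fiber_cF2 θ.2]
      apply Nat.card_congr
      exact
        { toFun := fun x => ⟨x.1.1, x.1.2, congrArg Subtype.val x.2⟩
          invFun := fun x => ⟨⟨x.1, x.2.1⟩, Subtype.ext x.2.2⟩
          left_inv := fun x => rfl
          right_inv := fun x => rfl }
    · intro j hj
      rcases j with _ | _ | θ' | θ' | θ'
      · exact absurd hj (C.exw_ne_of_deg (by simp only [exwD]; omega))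
      · exact absurd hj (C.exw_ne_of_deg (by simp only [exwD]; omega))
      · exact absurd hj (C.exw_ne_of_deg (by simp only [exwD]; omega))
      · exact absurd hj (C.exw_ne_of_deg (by simp only [exwD]; omega))
      · exact ⟨θ', rfl⟩

theorem exw_sum {M : Type*} [AddCommMonoid M] (f : C.ExwI → M) :
    ∑ j, f j = f (Sum.inl ()) + (f (Sum.inr (Sum.inl ())) +
      (∑ θ, f (Sum.inr (Sum.inr (Sum.inl θ))) +
        (∑ θ, f (Sum.inr (Sum.inr (Sum.inr (Sum.inl θ)))) +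
          ∑ θ, f (Sum.inr (Sum.inr (Sum.inr (Sum.inr θ))))))) := by
  simp only [Fintype.sum_sum_type, Finset.univ_unique, Finset.sum_singleton]

theorem exw_hcard : (Fintype.card (IrrCharacter G) : ℚ) = ∑ i, (C.exwW i : ℚ)⁻¹ + 2 := by
  have h1 : Fintype.card (IrrCharacter G) = C.q + 3 := by
    rw [← Nat.card_eq_fintype_card, card_irr_eq_card_conjClasses, C.card_conjClasses]
  rw [h1, exw_sum]
  simp only [exwW]
  rw [exw_sum_subtypeQ, exw_sum_subtypeQ, exw_sum_subtypeQ, exw_card_dual_ne_one C.sc_A0,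
    exw_card_dual_ne_one C.sc_A1, exw_card_dual_ne_one C.sc_A2, C.card_A0, C.card_A1, C.card_A2]
  have hq := C.hq
  have hrq := C.two_r_le_q
  have e0 : C.q - 1 - 1 = C.q - 2 := by omega
  have e1 : C.q + C.r + 1 - 1 = C.q + C.r := by omega
  have e2 : C.q + 1 - C.r - 1 = C.q - C.r := by omega
  rw [e0, e1, e2, Nat.cast_sub (by omega : 2 ≤ C.q), Nat.cast_sub (by omega : C.r ≤ C.q)]
  push_cast
  ring

theorem exists_W : ∃ W₁ W₂ : IrrCharacter G, W₁ ≠ W₂ ∧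
    (∀ W : IrrCharacter G, (W = W₁ ∨ W = W₂) →
      (W : G → ℂ) ≠ (fun _ => 1) ∧ (W : G → ℂ) ≠ C.cX ∧
      (∀ θ : C.A0 →* ℂˣ, θ ≠ 1 → (W : G → ℂ) ≠ C.cF0 θ) ∧
      (∀ θ : C.A1 →* ℂˣ, θ ≠ 1 → (W : G → ℂ) ≠ C.cF1 θ) ∧
      (∀ θ : C.A2 →* ℂˣ, θ ≠ 1 → (W : G → ℂ) ≠ C.cF2 θ)) ∧
    C.IsRest (W₁ : G → ℂ) (W₂ : G → ℂ) := by
  obtain ⟨a, b, hab, ha, hb, hsum⟩ := comb C.exwK C.exwW C.exw_fiber C.exw_hcard
  refine ⟨a, b, hab, ?_, ?_⟩
  · have key : ∀ W : IrrCharacter G, (∀ i, C.exwK i ≠ W) →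
        (W : G → ℂ) ≠ (fun _ => 1) ∧ (W : G → ℂ) ≠ C.cX ∧
        (∀ θ : C.A0 →* ℂˣ, θ ≠ 1 → (W : G → ℂ) ≠ C.cF0 θ) ∧
        (∀ θ : C.A1 →* ℂˣ, θ ≠ 1 → (W : G → ℂ) ≠ C.cF1 θ) ∧
        (∀ θ : C.A2 →* ℂˣ, θ ≠ 1 → (W : G → ℂ) ≠ C.cF2 θ) := by
      intro W hW
      refine ⟨?_, ?_, ?_, ?_, ?_⟩
      · intro h
        exact hW (Sum.inl ()) (Subtype.ext h.symm)
      · intro h
        exact hW (Sum.inr (Sum.inl ())) (Subtype.ext h.symm)
      · intro θ hθ h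
        exact hW (Sum.inr (Sum.inr (Sum.inl ⟨θ, hθ⟩))) (Subtype.ext h.symm)
      · intro θ hθ h
        exact hW (Sum.inr (Sum.inr (Sum.inr (Sum.inl ⟨θ, hθ⟩)))) (Subtype.ext h.symm)
      · intro θ hθ h
        exact hW (Sum.inr (Sum.inr (Sum.inr (Sum.inr ⟨θ, hθ⟩)))) (Subtype.ext h.symm)
    rintro W (rfl | rfl)
    · exact key _ ha
    · exact key _ hb
  · intro F
    rw [hsum (fun ψ => F (ψ : G → ℂ)), exw_sum]
    simp only [exwW, exwK]
    rw [← Finset.mul_sum, ← Finset.mul_sum, ← Finset.mul_sum,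
      exw_sum_subtype (fun θ : C.A0 →* ℂˣ => F (C.cF0 θ)) 1,
      exw_sum_subtype (fun θ : C.A1 →* ℂˣ => F (C.cF1 θ)) 1,
      exw_sum_subtype (fun θ : C.A2 →* ℂˣ => F (C.cF2 θ)) 1]
    push_cast
    ring

end Cfg

end Cfsg.Agent.SZT
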