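import Cfsg.Agent.Helper4.SZTSUMPHI
import Cfsg.Agent.Helper15.SZTINDNORM
import Cfsg.Agent.Helper15.SZTSAMEORB
import Cfsg.Agent.Helper12.SZTVAL

/-!
# SZT, pieces NORM0, NORM1, NORM2: the norms of the explicit characters
-/

set_option autoImplicit false

namespace Cfsg.Agent.SZT

open Cfsg Cfsg.Agent.Helper11.SCTI Cfsg.Agent.Helper24
open scoped Classical ComplexConjugate

universe u

variable {G : Type u} [Group G] [Fintype G]

theorem norm_sum_ite (A : Subgroup G) (f : A → ℂ) :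
    ∑ x : A, (if x = 1 then 0 else f x) = ∑ x : A, f x - f 1 := by
  have h : ∀ x : A, (if x = 1 then 0 else f x) = f x - (if x = 1 then f 1 else 0) := by
    intro x
    by_cases hx : x = 1
    · rw [if_pos hx, if_pos hx, hx]; ring
    · rw [if_neg hx, if_neg hx]; ring
  rw [Finset.sum_congr rfl (fun x _ => h x), Finset.sum_sub_distrib]
  simp

/-- generic: `phi` only depends on the orbit of `θ` -/
theorem norm_phi_of_sameOrb {A : Subgroup G} (hA : SC A) (hodd : Odd (Nat.card A))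
    (d s t ε : ℂ) {θ θ' : A →* ℂˣ} (h : SameOrb A θ θ') :
    phi d s t ε A θ' = phi d s t ε A θ := by
  funext g
  by_cases hg : ∃ x ∈ A, x ≠ 1 ∧ IsConj x g
  · obtain ⟨x, hx, hx1, hc⟩ := hg
    have hx1' : (⟨x, hx⟩ : A) ≠ 1 := fun h => hx1 (congrArg Subtype.val h)
    rw [phi_cov d s t ε hA hodd θ' ⟨x, hx⟩ hx1' g hc, phi_cov d s t ε hA hodd θ ⟨x, hx⟩ hx1' g hc,
      indA_of_sameOrb h]
  · have hg' : ∀ a ∈ A, a ≠ 1 → ¬ IsConj a g := fun a ha ha1 hc => hg ⟨a, ha, ha1, hc⟩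
    unfold phi
    rw [orbSum_eq_zero A θ' g hg', orbSum_eq_zero A θ g hg']

/-- generic: the norm of `phi` for a non-trivial `θ` -/
theorem norm_phi_self {A : Subgroup G} (hA : SC A) (hodd : Odd (Nat.card A))
    (d s t ε : ℂ) (hε : ε * conj ε = 1) {θ : A →* ℂˣ} (hθ : θ ≠ 1)
    (hB : (Nat.card G : ℂ)⁻¹ * (d * conj d +
        (Nat.card {g : G // orderOf g = 2} : ℂ) * (s * conj s) +
        (Nat.card {g : G // orderOf g = 4} : ℂ) * (t * conj t)) =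
      (Nat.card (Subgroup.normalizer (A : Set G)) : ℂ) / (Nat.card A : ℂ) ^ 2) :
    classInner (phi d s t ε A θ) (phi d s t ε A θ) = 1 := by
  rw [classInner_phi hA hodd, hB, hε, norm_sum_ite A (fun x => indA A θ x * conj (indA A θ x)),
    sum_indA_mul_conj_self hA hθ, indA_one]
  have hN : (Nat.card (Subgroup.normalizer (A : Set G)) : ℂ) ≠ 0 := by
    have : 0 < Nat.card (Subgroup.normalizer (A : Set G)) := Nat.card_pos
    exact_mod_cast this.ne'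
  have hAc : (Nat.card A : ℂ) ≠ 0 := by
    have : 0 < Nat.card A := Nat.card_pos
    exact_mod_cast this.ne'
  rw [map_div₀, Complex.conj_natCast, Complex.conj_natCast]
  field_simp
  ring

/-- generic: orthogonality of `phi`s for characters in different orbits -/
theorem norm_phi_ne {A : Subgroup G} (hA : SC A) (hodd : Odd (Nat.card A))
    (d s t ε : ℂ) (hε : ε * conj ε = 1) {θ θ' : A →* ℂˣ} (h : ¬ SameOrb A θ θ')
    (hB : (Nat.card G : ℂ)⁻¹ * (d * conj d +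
        (Nat.card {g : G // orderOf g = 2} : ℂ) * (s * conj s) +
        (Nat.card {g : G // orderOf g = 4} : ℂ) * (t * conj t)) =
      (Nat.card (Subgroup.normalizer (A : Set G)) : ℂ) / (Nat.card A : ℂ) ^ 2) :
    classInner (phi d s t ε A θ) (phi d s t ε A θ') = 0 := by
  rw [classInner_phi hA hodd, hB, hε, norm_sum_ite A (fun x => indA A θ x * conj (indA A θ' x)),
    sum_indA_mul_conj_of_not_sameOrb hA h, indA_one, indA_one]
  have hN : (Nat.card (Subgroup.normalizer (A : Set G)) : ℂ) ≠ 0 := by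
    have : 0 < Nat.card (Subgroup.normalizer (A : Set G)) := Nat.card_pos
    exact_mod_cast this.ne'
  have hAc : (Nat.card A : ℂ) ≠ 0 := by
    have : 0 < Nat.card A := Nat.card_pos
    exact_mod_cast this.ne'
  rw [map_div₀, Complex.conj_natCast, Complex.conj_natCast]
  field_simp
  ring

namespace Cfg

variable (C : Cfg G)

theorem norm_q_ne : ((C.q : ℂ) - 1) ≠ 0 := by
  have h := C.hq
  have : (C.q : ℂ) - 1 = ((C.q - 1 : ℕ) : ℂ) := by rw [C.cast_n0]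
  rw [this]
  have : 0 < C.q - 1 := by omega
  exact_mod_cast this.ne'

theorem norm_q_ne' : (C.q : ℂ) ≠ 0 := by
  have h := C.hq
  have : 0 < C.q := by omega
  exact_mod_cast this.ne'

theorem norm_q2_ne : ((C.q : ℂ) ^ 2 + 1) ≠ 0 := by
  have : ((C.q : ℂ) ^ 2 + 1) = ((C.q ^ 2 + 1 : ℕ) : ℂ) := by push_cast; ring
  rw [this]
  have : 0 < C.q ^ 2 + 1 := by positivity
  exact_mod_cast this.ne'

theorem norm_n1_ne : ((C.q : ℂ) + C.r + 1) ≠ 0 := by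
  have : ((C.q : ℂ) + C.r + 1) = ((C.q + C.r + 1 : ℕ) : ℂ) := by push_cast; ring
  rw [this]
  have : 0 < C.q + C.r + 1 := by omega
  exact_mod_cast this.ne'

theorem norm_n2_ne : ((C.q : ℂ) + 1 - C.r) ≠ 0 := by
  rw [← C.cast_n2]
  have := C.two_r_le_q
  have : 0 < C.q + 1 - C.r := by omega
  exact_mod_cast this.ne'

theorem norm_card_G : (Nat.card G : ℂ) = (C.q : ℂ) ^ 2 * ((C.q : ℂ) - 1) * ((C.q : ℂ) ^ 2 + 1) := by
  rw [C.card_G]
  push_cast [C.cast_n0]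
  ring

theorem norm_card_invol : (Nat.card {g : G // orderOf g = 2} : ℂ) =
    ((C.q : ℂ) ^ 2 + 1) * ((C.q : ℂ) - 1) := by
  rw [C.card_invol]
  push_cast [C.cast_n0]
  ring

theorem norm_card_four : (Nat.card {g : G // orderOf g = 4} : ℂ) =
    ((C.q : ℂ) ^ 2 + 1) * ((C.q : ℂ) - 1) * C.q := by
  rw [C.card_four]
  push_cast [C.cast_n0]
  ring

theorem norm_B0 : (Nat.card G : ℂ)⁻¹ * (((C.q : ℂ) ^ 2 + 1) * conj ((C.q : ℂ) ^ 2 + 1) +
      (Nat.card {g : G // orderOf g = 2} : ℂ) * ((1 : ℂ) * conj (1 : ℂ)) +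
      (Nat.card {g : G // orderOf g = 4} : ℂ) * ((1 : ℂ) * conj (1 : ℂ))) =
    (Nat.card (Subgroup.normalizer (C.A0 : Set G)) : ℂ) / (Nat.card C.A0 : ℂ) ^ 2 := by
  rw [C.norm_card_G, C.norm_card_invol, C.norm_card_four, C.card_N0, C.card_A0]
  have h1 := C.norm_q_ne
  have h2 := C.norm_q_ne'
  have h3 := C.norm_q2_ne
  simp only [map_add, map_pow, map_one, Complex.conj_natCast]
  push_cast [C.cast_n0]
  field_simp
  ring

theorem norm_B1 : (Nat.card G : ℂ)⁻¹ *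
      ((((C.q : ℂ) - C.r + 1) * ((C.q : ℂ) - 1)) * conj (((C.q : ℂ) - C.r + 1) * ((C.q : ℂ) - 1)) +
      (Nat.card {g : G // orderOf g = 2} : ℂ) * (((C.r : ℂ) - 1) * conj ((C.r : ℂ) - 1)) +
      (Nat.card {g : G // orderOf g = 4} : ℂ) * ((-1 : ℂ) * conj (-1 : ℂ))) =
    (Nat.card (Subgroup.normalizer (C.A1 : Set G)) : ℂ) / (Nat.card C.A1 : ℂ) ^ 2 := by
  rw [C.norm_card_G, C.norm_card_invol, C.norm_card_four, C.card_N1, C.card_A1]
  have h1 := C.norm_q_ne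
  have h2 := C.norm_q_ne'
  have h3 := C.norm_q2_ne
  have h4 := C.norm_n1_ne
  have hr := C.hrC
  simp only [map_add, map_sub, map_mul, map_neg, map_one, Complex.conj_natCast]
  push_cast
  field_simp
  linear_combination ((C.q : ℂ) ^ 3 + (C.q : ℂ) ^ 2 * C.r - 2 * (C.q : ℂ) ^ 2 + (C.q : ℂ) * C.r +
    (C.q : ℂ)) * hr

theorem norm_B2 : (Nat.card G : ℂ)⁻¹ *
      ((((C.q : ℂ) + C.r + 1) * ((C.q : ℂ) - 1)) * conj (((C.q : ℂ) + C.r + 1) * ((C.q : ℂ) - 1)) +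
      (Nat.card {g : G // orderOf g = 2} : ℂ) * ((-(C.r : ℂ) - 1) * conj (-(C.r : ℂ) - 1)) +
      (Nat.card {g : G // orderOf g = 4} : ℂ) * ((-1 : ℂ) * conj (-1 : ℂ))) =
    (Nat.card (Subgroup.normalizer (C.A2 : Set G)) : ℂ) / (Nat.card C.A2 : ℂ) ^ 2 := by
  rw [C.norm_card_G, C.norm_card_invol, C.norm_card_four, C.card_N2, C.card_A2]
  have h1 := C.norm_q_ne
  have h2 := C.norm_q_ne'
  have h3 := C.norm_q2_ne
  have h4 := C.norm_n2_ne
  have hr := C.hrC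
  simp only [map_add, map_sub, map_mul, map_neg, map_one, Complex.conj_natCast]
  push_cast [C.cast_n2]
  field_simp
  linear_combination ((C.q : ℂ) ^ 3 - (C.q : ℂ) ^ 2 * C.r - 2 * (C.q : ℂ) ^ 2 - (C.q : ℂ) * C.r +
    (C.q : ℂ)) * hr

theorem classInner_cF1_self {θ : C.A1 →* ℂˣ} (hθ : θ ≠ 1) :
    classInner (C.cF1 θ) (C.cF1 θ) = 1 :=
  norm_phi_self C.sc_A1 C.odd_A1 _ _ _ _ (by simp) hθ C.norm_B1

theorem classInner_cF1_ne {θ θ' : C.A1 →* ℂˣ} (h : ¬ SameOrb C.A1 θ θ') :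
    classInner (C.cF1 θ) (C.cF1 θ') = 0 :=
  norm_phi_ne C.sc_A1 C.odd_A1 _ _ _ _ (by simp) h C.norm_B1

theorem cF1_of_sameOrb {θ θ' : C.A1 →* ℂˣ} (h : SameOrb C.A1 θ θ') : C.cF1 θ' = C.cF1 θ :=
  norm_phi_of_sameOrb C.sc_A1 C.odd_A1 _ _ _ _ h

theorem classInner_cF0_self {θ : C.A0 →* ℂˣ} (hθ : θ ≠ 1) :
    classInner (C.cF0 θ) (C.cF0 θ) = 1 :=
  norm_phi_self C.sc_A0 C.odd_A0 _ _ _ _ (by simp) hθ C.norm_B0

theorem classInner_cF0_ne {θ θ' : C.A0 →* ℂˣ} (h : ¬ SameOrb C.A0 θ θ') :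
    classInner (C.cF0 θ) (C.cF0 θ') = 0 :=
  norm_phi_ne C.sc_A0 C.odd_A0 _ _ _ _ (by simp) h C.norm_B0

theorem cF0_of_sameOrb {θ θ' : C.A0 →* ℂˣ} (h : SameOrb C.A0 θ θ') : C.cF0 θ' = C.cF0 θ :=
  norm_phi_of_sameOrb C.sc_A0 C.odd_A0 _ _ _ _ h

theorem classInner_cF2_self {θ : C.A2 →* ℂˣ} (hθ : θ ≠ 1) :
    classInner (C.cF2 θ) (C.cF2 θ) = 1 :=
  norm_phi_self C.sc_A2 C.odd_A2 _ _ _ _ (by simp) hθ C.norm_B2

theorem classInner_cF2_ne {θ θ' : C.A2 →* ℂˣ} (h : ¬ SameOrb C.A2 θ θ') :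
    classInner (C.cF2 θ) (C.cF2 θ') = 0 :=
  norm_phi_ne C.sc_A2 C.odd_A2 _ _ _ _ (by simp) h C.norm_B2

theorem cF2_of_sameOrb {θ θ' : C.A2 →* ℂˣ} (h : SameOrb C.A2 θ θ') : C.cF2 θ' = C.cF2 θ :=
  norm_phi_of_sameOrb C.sc_A2 C.odd_A2 _ _ _ _ h

end Cfg

end Cfsg.Agent.SZT
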