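import Cfsg.Agent.Helper12.SZTBrauer
import Cfsg.Agent.Helper12.SZTNORM
import Cfsg.Agent.Helper24.Generalized
import Cfsg.Agent.Helper24.SZTNORMX

/-!
# SZT: irreducibility of the explicit characters and the fibres of `θ ↦ cF_i θ`
-/

set_option autoImplicit false

namespace Cfsg.Agent.SZT

open Cfsg Cfsg.Agent.Helper11.SCTI Cfsg.Agent.Helper24
open scoped Classical ComplexConjugate

universe u

variable {G : Type u} [Group G] [Fintype G]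

namespace Cfg

variable (C : Cfg G)

theorem irr_cF0 {θ : C.A0 →* ℂˣ} (hθ : θ ≠ 1) : IsIrrCharacter G (C.cF0 θ) := by
  apply IsGeneralizedCharacter.isIrrCharacter_of_classInner_self (C.isGen_cF0 θ)
    (C.classInner_cF0_self hθ)
  rw [C.cF0_one]
  have : (((C.q : ℂ) ^ 2 + 1).re) = (C.q : ℝ) ^ 2 + 1 := by
    simp [← Complex.ofReal_natCast, ← Complex.ofReal_pow]
  rw [this]
  positivity

theorem irr_cF1 {θ : C.A1 →* ℂˣ} (hθ : θ ≠ 1) : IsIrrCharacter G (C.cF1 θ) := by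
  apply IsGeneralizedCharacter.isIrrCharacter_of_classInner_self (C.isGen_cF1 θ)
    (C.classInner_cF1_self hθ)
  rw [C.cF1_one]
  have h1 := C.two_r_le_q
  have h2 := C.hq
  have : ((((C.q : ℂ) - C.r + 1) * ((C.q : ℂ) - 1)).re) =
      ((C.q : ℝ) - C.r + 1) * ((C.q : ℝ) - 1) := by
    simp [← Complex.ofReal_natCast]
  rw [this]
  have h3 : (2 * C.r : ℝ) ≤ C.q := by exact_mod_cast h1
  have h4 : (8 : ℝ) ≤ C.q := by exact_mod_cast h2
  have h5 : (0 : ℝ) ≤ C.r := by positivity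
  apply mul_pos <;> linarith

theorem irr_cF2 {θ : C.A2 →* ℂˣ} (hθ : θ ≠ 1) : IsIrrCharacter G (C.cF2 θ) := by
  apply IsGeneralizedCharacter.isIrrCharacter_of_classInner_self (C.isGen_cF2 θ)
    (C.classInner_cF2_self hθ)
  rw [C.cF2_one]
  have h2 := C.hq
  have : ((((C.q : ℂ) + C.r + 1) * ((C.q : ℂ) - 1)).re) =
      ((C.q : ℝ) + C.r + 1) * ((C.q : ℝ) - 1) := by
    simp [← Complex.ofReal_natCast]
  rw [this]
  have h4 : (8 : ℝ) ≤ C.q := by exact_mod_cast h2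
  have h5 : (0 : ℝ) ≤ C.r := by positivity
  apply mul_pos <;> linarith

theorem irr_cX : IsIrrCharacter G C.cX := by
  apply IsGeneralizedCharacter.isIrrCharacter_of_classInner_self C.isGen_cX C.classInner_cX
  rw [C.cX_one]
  have : (((C.q : ℂ) ^ 2).re) = (C.q : ℝ) ^ 2 := by
    simp [← Complex.ofReal_natCast, ← Complex.ofReal_pow]
  rw [this]
  have h2 := C.hq
  have h4 : (8 : ℝ) ≤ C.q := by exact_mod_cast h2
  positivity

theorem cF0_eq_iff {θ θ' : C.A0 →* ℂˣ} (hθ : θ ≠ 1) :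
    C.cF0 θ' = C.cF0 θ ↔ SameOrb C.A0 θ θ' := by
  constructor
  · intro h
    by_contra hne
    have h1 := C.classInner_cF0_ne hne
    rw [h, C.classInner_cF0_self hθ] at h1
    exact one_ne_zero h1
  · exact C.cF0_of_sameOrb

theorem cF1_eq_iff {θ θ' : C.A1 →* ℂˣ} (hθ : θ ≠ 1) :
    C.cF1 θ' = C.cF1 θ ↔ SameOrb C.A1 θ θ' := by
  constructor
  · intro h
    by_contra hne
    have h1 := C.classInner_cF1_ne hne
    rw [h, C.classInner_cF1_self hθ] at h1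
    exact one_ne_zero h1
  · exact C.cF1_of_sameOrb

theorem cF2_eq_iff {θ θ' : C.A2 →* ℂˣ} (hθ : θ ≠ 1) :
    C.cF2 θ' = C.cF2 θ ↔ SameOrb C.A2 θ θ' := by
  constructor
  · intro h
    by_contra hne
    have h1 := C.classInner_cF2_ne hne
    rw [h, C.classInner_cF2_self hθ] at h1
    exact one_ne_zero h1
  · exact C.cF2_of_sameOrb

theorem card_fiber_cF0 {θ : C.A0 →* ℂˣ} (hθ : θ ≠ 1) :
    Nat.card {θ' : C.A0 →* ℂˣ // θ' ≠ 1 ∧ C.cF0 θ' = C.cF0 θ} = 2 := by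
  have h1 := card_sameOrb C.sc_A0 hθ
  rw [C.card_N0, C.card_A0] at h1
  have h2 : Nat.card {θ' : C.A0 →* ℂˣ // θ' ≠ 1 ∧ C.cF0 θ' = C.cF0 θ} =
      Nat.card {θ' : C.A0 →* ℂˣ // SameOrb C.A0 θ θ'} := by
    apply Nat.card_congr
    apply Equiv.subtypeEquivRight
    intro θ'
    rw [C.cF0_eq_iff hθ]
    exact ⟨fun h => h.2, fun h => ⟨sameOrb_ne_one h hθ, h⟩⟩
  rw [h2]
  have := C.hq
  have h0 : 0 < C.q - 1 := by omega
  exact Nat.eq_of_mul_eq_mul_right h0 h1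

theorem card_fiber_cF1 {θ : C.A1 →* ℂˣ} (hθ : θ ≠ 1) :
    Nat.card {θ' : C.A1 →* ℂˣ // θ' ≠ 1 ∧ C.cF1 θ' = C.cF1 θ} = 4 := by
  have h1 := card_sameOrb C.sc_A1 hθ
  rw [C.card_N1, C.card_A1] at h1
  have h2 : Nat.card {θ' : C.A1 →* ℂˣ // θ' ≠ 1 ∧ C.cF1 θ' = C.cF1 θ} =
      Nat.card {θ' : C.A1 →* ℂˣ // SameOrb C.A1 θ θ'} := by
    apply Nat.card_congr
    apply Equiv.subtypeEquivRight
    intro θ'
    rw [C.cF1_eq_iff hθ]
    exact ⟨fun h => h.2, fun h => ⟨sameOrb_ne_one h hθ, h⟩⟩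
  rw [h2]
  have h0 : 0 < C.q + C.r + 1 := by omega
  exact Nat.eq_of_mul_eq_mul_right h0 h1

theorem card_fiber_cF2 {θ : C.A2 →* ℂˣ} (hθ : θ ≠ 1) :
    Nat.card {θ' : C.A2 →* ℂˣ // θ' ≠ 1 ∧ C.cF2 θ' = C.cF2 θ} = 4 := by
  have h1 := card_sameOrb C.sc_A2 hθ
  rw [C.card_N2, C.card_A2] at h1
  have h2 : Nat.card {θ' : C.A2 →* ℂˣ // θ' ≠ 1 ∧ C.cF2 θ' = C.cF2 θ} =
      Nat.card {θ' : C.A2 →* ℂˣ // SameOrb C.A2 θ θ'} := by
    apply Nat.card_congr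
    apply Equiv.subtypeEquivRight
    intro θ'
    rw [C.cF2_eq_iff hθ]
    exact ⟨fun h => h.2, fun h => ⟨sameOrb_ne_one h hθ, h⟩⟩
  rw [h2]
  have := C.two_r_le_q
  have h0 : 0 < C.q + 1 - C.r := by omega
  exact Nat.eq_of_mul_eq_mul_right h0 h1

end Cfg

end Cfsg.Agent.SZT
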