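import Cfsg.Agent.Helper12.SZTEXW
import Cfsg.Agent.Helper1.SZTIRRCASES
import Cfsg.Agent.Helper14.SZTDEGS
import Cfsg.Agent.Helper18.SZTDUALIND
import Cfsg.Agent.Lead.SZTWCONJ
import Cfsg.Agent.Lead.SZTTABREM

/-!
# SZT: the character table of a Suzuki configuration, and its set of character degrees
-/

set_option autoImplicit false

namespace Cfsg.Agent.SZT

open Cfsg Cfsg.Agent.Helper11.SCTI Cfsg.Agent.Helper24
open scoped Classical ComplexConjugate

universe u

variable {G : Type u} [Group G] [Fintype G]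

namespace Cfg

variable (C : Cfg G)

/-- the character table of a Suzuki configuration -/
theorem table : ∃ W₁ W₂ : G → ℂ, C.IsTable W₁ W₂ := by
  obtain ⟨W₁, W₂, hne, hW, h⟩ := C.exists_W
  exact ⟨W₁, W₂, C.table_of_rem W₁ W₂ (C.W_conj W₁ W₂ hne hW h) h⟩

/-- the set of character degrees of a Suzuki configuration -/
theorem charDegrees_eq : charDegrees G =
    {1, C.q ^ 2, C.q ^ 2 + 1, (C.q + 1 - C.r) * (C.q - 1), (C.q + C.r + 1) * (C.q - 1),
      C.r / 2 * (C.q - 1)} := by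
  obtain ⟨W₁, W₂, hT⟩ := C.table
  exact C.DEGS_charDegrees_eq_core hT (C.irr_cases hT.rest) C.cX_one C.cF0_one C.cF1_one C.cF2_one
    C.irr_cX (fun _ h => C.irr_cF0 h) (fun _ h => C.irr_cF1 h) (fun _ h => C.irr_cF2 h)
    (card_dual_ne_one C.sc_A0) (card_dual_ne_one C.sc_A1) (card_dual_ne_one C.sc_A2)

end Cfg

end Cfsg.Agent.SZT
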