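import Cfsg.Agent.Helper12.SpBNL
import Cfsg.Agent.Helper12.BNCntE

set_option autoImplicit false

/-!
# Parabolic subgroups of `Sp_{2m}(F)`: a generic descent lemma and the level function of a set
of simple reflections
-/

namespace Cfsg.Agent.Helper12.SpBN

open Matrix Cfsg.Agent.Helper2.Sp Cfsg.Agent.Helper12.SpTwo Cfsg.Agent.Helper25.SpU

section Generic

open Cfsg Cfsg.Agent.Helper2

variable {G : Type*} [Group G] (P : Cfsg.BNPair G)

/-- if `s n` is not longer than `n`, some conjugate `n⁻¹ x n` of an element of the root group of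
`s` leaves `B` -/
theorem exists_conj_not_mem_of_len_le {n s : G} (hn : n ∈ P.N) (hs : s ∈ P.S) (X : Set G)
    (ha : ∀ b ∈ P.B, ∃ x ∈ X, s * (b * x⁻¹) * s⁻¹ ∈ P.B)
    (hle : BN.len P P.S (s * n) ≤ BN.len P P.S n) : ∃ x ∈ X, n⁻¹ * x * n ∉ P.B := by
  by_contra hcon
  have hall : ∀ x ∈ X, n⁻¹ * x * n ∈ P.B := fun x hx => by
    by_contra h
    exact hcon ⟨x, hx, h⟩
  obtain ⟨y, hy, hsy⟩ := BN.L2 hn (BN.simple_of_mem hs) hle
  obtain ⟨b, hb, b', hb', rfl⟩ := (BN.mem_C_iff P).mp hy
  obtain ⟨x, hx, hc⟩ := ha b hb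
  have hsn : s * n ∈ P.N := P.N.mul_mem (P.subset hs) hn
  have h1 : s * (b * n * b') ∈ BN.C P (s * n) := by
    rw [BN.mem_C_iff]
    refine ⟨_, hc, _, P.B.mul_mem (hall x hx) hb', ?_⟩
    group
  have hC : BN.C P (s * n) = BN.C P n := by
    rw [← BN.C_eq_of_mem P h1, BN.C_eq_of_mem P hsy]
  have h2 := BN.bruhat_unique hsn hn hC
  have h3 : s⁻¹ ∈ BN.H P := by
    have := BN.conj_mem_H P hn h2
    have e : n * ((s * n)⁻¹ * n) * n⁻¹ = s⁻¹ := by group
    rwa [e] at this
  have h4 : s ∈ BN.H P := by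
    have := (BN.H P).inv_mem h3
    rwa [inv_inv] at this
  exact BN.not_mem_B_of_mem_S hs (BN.H_le_B P h4)

end Generic

variable {n : ℕ} {F : Type*} [Field F]

/-- the ranks `r` and `r + 1` are joined by a reflection in `J` -/
def joined (J : Set (symplecticGroup (Fin (n + 1)) F)) (r : ℕ) : Prop :=
  (∃ i : Fin n, (i : ℕ) = r ∧ sS i ∈ J) ∨ (r = n ∧ sL ∈ J) ∨
    (∃ i : Fin n, (i : ℕ) + r = 2 * n ∧ sS i ∈ J)

open Classical in
/-- the level of a rank: the number of cuts below it -/
noncomputable def lvl (J : Set (symplecticGroup (Fin (n + 1)) F)) : ℕ → ℕ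
  | 0 => 0
  | r + 1 => lvl J r + (if joined J r then 0 else 1)

theorem lvl_zero (J : Set (symplecticGroup (Fin (n + 1)) F)) : lvl J 0 = 0 := rfl

open Classical in
theorem lvl_succ (J : Set (symplecticGroup (Fin (n + 1)) F)) (r : ℕ) :
    lvl J (r + 1) = lvl J r + (if joined J r then 0 else 1) := rfl

theorem lvl_succ_of_joined {J : Set (symplecticGroup (Fin (n + 1)) F)} {r : ℕ}
    (h : joined J r) : lvl J (r + 1) = lvl J r := by
  classical
  rw [lvl_succ, if_pos h, add_zero]

theorem lvl_le_succ (J : Set (symplecticGroup (Fin (n + 1)) F)) (r : ℕ) :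
    lvl J r ≤ lvl J (r + 1) := by
  classical
  rw [lvl_succ]
  exact Nat.le_add_right _ _

theorem joined_of_lvl_succ {J : Set (symplecticGroup (Fin (n + 1)) F)} {r : ℕ}
    (h : lvl J (r + 1) = lvl J r) : joined J r := by
  classical
  by_contra hj
  rw [lvl_succ, if_neg hj] at h
  omega

theorem lvl_mono (J : Set (symplecticGroup (Fin (n + 1)) F)) {r r' : ℕ} (h : r ≤ r') :
    lvl J r ≤ lvl J r' := by
  induction r' with
  | zero =>
    have : r = 0 := by omega
    rw [this]
  | succ k ih =>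
    rcases Nat.lt_or_ge r (k + 1) with h1 | h1
    · exact (ih (by omega)).trans (lvl_le_succ J k)
    · have : r = k + 1 := by omega
      rw [this]

/-- the level of a basis vector -/
noncomputable def lv (J : Set (symplecticGroup (Fin (n + 1)) F)) (a : Idx n) : ℕ := lvl J (rk a)

theorem lv_mono (J : Set (symplecticGroup (Fin (n + 1)) F)) {a c : Idx n} (h : rk a ≤ rk c) :
    lv J a ≤ lv J c := lvl_mono J h

/-- the basis vector of a given rank -/
theorem exists_rk_eq {r : ℕ} (hr : r ≤ 2 * n + 1) : ∃ a : Idx n, rk a = r := by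
  rcases Nat.lt_or_ge r (n + 1) with h | h
  · exact ⟨Sum.inl ⟨r, h⟩, rfl⟩
  · refine ⟨Sum.inr ⟨2 * n + 1 - r, by omega⟩, ?_⟩
    simp only [rk_inr]
    omega

/-- a map reversing the joined adjacent pairs reverses each block -/
theorem rev_of_adjacent {J : Set (symplecticGroup (Fin (n + 1)) F)} {ρ : Idx n → Idx n}
    (hρ : ∀ a c : Idx n, rk c = rk a + 1 → joined J (rk a) → rk (ρ c) < rk (ρ a))
    {a c : Idx n} (hac : rk a < rk c) (hl : lv J a = lv J c) : rk (ρ c) < rk (ρ a) := by
  obtain ⟨d, hd⟩ : ∃ d, rk c = rk a + 1 + d := ⟨rk c - rk a - 1, by omega⟩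
  induction d generalizing c with
  | zero =>
    apply hρ a c hd
    apply joined_of_lvl_succ
    have : lvl J (rk a + 1) = lvl J (rk c) := by rw [hd]
    rw [this]
    exact hl.symm
  | succ d ih =>
    obtain ⟨c', hc'⟩ := exists_rk_eq (n := n) (r := rk a + 1 + d) (by
      have := rk_le c
      omega)
    have h1 : lv J a ≤ lv J c' := lv_mono J (by omega)
    have h2 : lv J c' ≤ lv J c := lv_mono J (by omega)
    have h3 : lv J c' = lv J c := by omega
    have h4 := ih (c := c') (by omega) (by omega) hc'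
    have h5 : rk (ρ c) < rk (ρ c') := by
      apply hρ c' c (by omega)
      apply joined_of_lvl_succ
      have : lvl J (rk c' + 1) = lvl J (rk c) := by
        congr 1
        omega
      rw [this]
      exact h3.symm
    omega

end Cfsg.Agent.Helper12.SpBN
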