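import Cfsg.Agent.Helper12.SpBNM

set_option autoImplicit false

/-!
# Parabolic subgroups of `Sp_{2m}(F)`: block triangular matrices and the unipotent radical
-/

namespace Cfsg.Agent.Helper12.SpBN

open Matrix Cfsg.Agent.Helper2.Sp Cfsg.Agent.Helper12.SpTwo Cfsg.Agent.Helper25.SpU

variable {n : ℕ} {F : Type*} [Field F]

/-- block upper triangular with respect to the levels of `J` -/
def IsQ (J : Set (symplecticGroup (Fin (n + 1)) F)) (M : Matrix (Idx n) (Idx n) F) : Prop :=
  ∀ a c, M a c ≠ 0 → lv J a ≤ lv J c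

/-- strictly block upper triangular with respect to the levels of `J` -/
def IsV (J : Set (symplecticGroup (Fin (n + 1)) F)) (M : Matrix (Idx n) (Idx n) F) : Prop :=
  ∀ a c, M a c ≠ 0 → lv J a < lv J c

variable {J : Set (symplecticGroup (Fin (n + 1)) F)}

theorem IsV.isQ {M : Matrix (Idx n) (Idx n) F} (h : IsV J M) : IsQ J M :=
  fun a c hne => (h a c hne).le

theorem isQ_one : IsQ J (1 : Matrix (Idx n) (Idx n) F) := by
  intro a c hne
  by_cases h : a = c
  · rw [h]
  · exact absurd (Matrix.one_apply_ne h) hne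

theorem isV_zero : IsV J (0 : Matrix (Idx n) (Idx n) F) := by
  intro a c hne
  exact absurd rfl hne

theorem exists_of_mul_ne_zero {M N : Matrix (Idx n) (Idx n) F} {a c : Idx n}
    (h : (M * N) a c ≠ 0) : ∃ b, M a b ≠ 0 ∧ N b c ≠ 0 := by
  rw [Matrix.mul_apply] at h
  obtain ⟨b, _, hb⟩ := Finset.exists_ne_zero_of_sum_ne_zero h
  exact ⟨b, left_ne_zero_of_mul hb, right_ne_zero_of_mul hb⟩

theorem IsQ.mul {M N : Matrix (Idx n) (Idx n) F} (hM : IsQ J M) (hN : IsQ J N) :
    IsQ J (M * N) := by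
  intro a c hne
  obtain ⟨b, h1, h2⟩ := exists_of_mul_ne_zero hne
  exact (hM a b h1).trans (hN b c h2)

theorem IsQ.mul_isV {M N : Matrix (Idx n) (Idx n) F} (hM : IsQ J M) (hN : IsV J N) :
    IsV J (M * N) := by
  intro a c hne
  obtain ⟨b, h1, h2⟩ := exists_of_mul_ne_zero hne
  exact lt_of_le_of_lt (hM a b h1) (hN b c h2)

theorem IsV.mul_isQ {M N : Matrix (Idx n) (Idx n) F} (hM : IsV J M) (hN : IsQ J N) :
    IsV J (M * N) := by
  intro a c hne
  obtain ⟨b, h1, h2⟩ := exists_of_mul_ne_zero hne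
  exact lt_of_lt_of_le (hM a b h1) (hN b c h2)

theorem IsV.add {M N : Matrix (Idx n) (Idx n) F} (hM : IsV J M) (hN : IsV J N) :
    IsV J (M + N) := by
  intro a c hne
  rw [Matrix.add_apply] at hne
  by_cases h : M a c = 0
  · rw [h, zero_add] at hne
    exact hN a c hne
  · exact hM a c h

variable [Fintype F]

/-- the block upper triangular subgroup -/
def parQ (J : Set (symplecticGroup (Fin (n + 1)) F)) : Subgroup (symplecticGroup (Fin (n + 1)) F) :=
  Cfsg.Agent.Helper25.SLU.subgroupOfMul {g | IsQ J g.1} isQ_one (fun _ _ ha hb => IsQ.mul ha hb)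

/-- the unipotent radical -/
def radV (J : Set (symplecticGroup (Fin (n + 1)) F)) : Subgroup (symplecticGroup (Fin (n + 1)) F) :=
  Cfsg.Agent.Helper25.SLU.subgroupOfMul {g | IsV J (g.1 - 1)}
    (by
      show IsV J ((1 : Matrix (Idx n) (Idx n) F) - 1)
      rw [sub_self]
      exact isV_zero)
    (fun a b ha hb => by
      show IsV J (a.1 * b.1 - 1)
      have e : a.1 * b.1 - 1 = (a.1 - 1) * (b.1 - 1) + (a.1 - 1) + (b.1 - 1) := by
        noncomm_ring
      rw [e]
      exact ((IsV.mul_isQ ha (IsV.isQ hb)).add ha).add hb)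

theorem mem_parQ {g : symplecticGroup (Fin (n + 1)) F} : g ∈ parQ J ↔ IsQ J g.1 := Iff.rfl

theorem mem_radV {g : symplecticGroup (Fin (n + 1)) F} : g ∈ radV J ↔ IsV J (g.1 - 1) := Iff.rfl

theorem borel_le_parQ : borel (n + 1) F ≤ parQ J := by
  intro g hg a c hne
  apply lv_mono
  by_contra hlt
  exact hne (isTri_of_borel hg a c (by omega))

/-- the radical is normalised by the block triangular group -/
theorem conj_mem_radV {g v : symplecticGroup (Fin (n + 1)) F} (hg : g ∈ parQ J)
    (hv : v ∈ radV J) : g * v * g⁻¹ ∈ radV J := by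
  have hgi : g⁻¹ ∈ parQ J := Subgroup.inv_mem _ hg
  show IsV J (g.1 * v.1 * (g⁻¹).1 - 1)
  have h1 : g.1 * (g⁻¹).1 = 1 := by
    have := congrArg Subtype.val (mul_inv_cancel g)
    exact this
  have e : g.1 * v.1 * (g⁻¹).1 - 1 = g.1 * (v.1 - 1) * (g⁻¹).1 := by
    rw [mul_sub, sub_mul, mul_one, h1]
  rw [e]
  exact (IsQ.mul_isV hg hv).mul_isQ hgi

/-- all diagonal entries of an element of `U` are `1` -/
theorem uni_diag {x : symplecticGroup (Fin (n + 1)) F} (hx : x ∈ uni (n + 1) F) (a : Idx n) :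
    x.1 a a = 1 := by
  rcases a with i | i
  · exact hx.2.2 i
  · have hxi : x⁻¹ ∈ uni (n + 1) F := Subgroup.inv_mem _ hx
    have h1 := inv_apply x⁻¹ (Sum.inr i) (Sum.inr i)
    rw [inv_inv] at h1
    rw [h1, sg_mul_self, one_mul]
    exact hxi.2.2 i

theorem radV_le_uni : radV J ≤ uni (n + 1) F := by
  intro g hg
  have hoff : ∀ a c : Idx n, rk c < rk a → g.1 a c = 0 := by
    intro a c hac
    by_contra hne
    have hne' : a ≠ c := by
      rintro rfl
      exact lt_irrefl _ hac
    have h1 : (g.1 - 1) a c ≠ 0 := by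
      rw [Matrix.sub_apply, Matrix.one_apply_ne hne', sub_zero]
      exact hne
    have h2 := hg a c h1
    have h3 := lv_mono J hac.le
    omega
  have hB : g ∈ borel (n + 1) F := borel_of_isTri hoff
  refine ⟨hB.1, hB.2, ?_⟩
  intro i
  show g.1 (Sum.inl i) (Sum.inl i) = 1
  by_contra hne
  have h1 : (g.1 - 1) (Sum.inl i) (Sum.inl i) ≠ 0 := by
    rw [Matrix.sub_apply, Matrix.one_apply_eq]
    exact sub_ne_zero.mpr hne
  exact lt_irrefl _ (hg _ _ h1)

/-- membership in the radical for elements of `U` -/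
theorem mem_radV_of_uni {x : symplecticGroup (Fin (n + 1)) F} (hx : x ∈ uni (n + 1) F)
    (h : ∀ a c : Idx n, rk a < rk c → lv J a = lv J c → x.1 a c = 0) : x ∈ radV J := by
  intro a c hne
  by_cases hac : a = c
  · exfalso
    apply hne
    rw [hac, Matrix.sub_apply, uni_diag hx, Matrix.one_apply_eq, sub_self]
  · rw [Matrix.sub_apply, Matrix.one_apply_ne hac, sub_zero] at hne
    have hlt : rk a < rk c := by
      rcases Nat.lt_or_ge (rk a) (rk c) with h' | h'
      · exact h'
      · rcases Nat.lt_or_ge (rk c) (rk a) with h'' | h''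
        · exact absurd (isTri_of_borel (uni_le_borel hx) a c h'') hne
        · exact absurd (rk_injective (le_antisymm h'' h')) hac
    have hle := lv_mono J hlt.le
    rcases Nat.lt_or_ge (lv J a) (lv J c) with h' | h'
    · exact h'
    · exact absurd (h a c hlt (le_antisymm hle h')) hne

end Cfsg.Agent.Helper12.SpBN
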