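import Cfsg.Agent.Helper12.SpBNN
import Cfsg.Agent.Helper12.BNCntD

set_option autoImplicit false

/-!
# Parabolic subgroups of `Sp_{2m}(F)`: the hypothesis of the parabolic step
-/

namespace Cfsg.Agent.Helper12.SpBN

open Matrix Cfsg.Agent.Helper2.Sp Cfsg.Agent.Helper12.SpTwo Cfsg.Agent.Helper25.SpU
open Cfsg Cfsg.Agent.Helper2 Cfsg.Agent.Helper14.ExchCox Cfsg.Agent.Helper12.BNSt
  Cfsg.Agent.Helper12.BNCnt

variable {n : ℕ} {F : Type*} [Field F]

variable {J : Set (symplecticGroup (Fin (n + 1)) F)}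

theorem lvl_fS {i : Fin n} (h : sS i ∈ J) (r : ℕ) : lvl J (fS n i r) = lvl J r := by
  have hi := i.2
  have j1 : joined J i := Or.inl ⟨i, rfl, h⟩
  have j2 : joined J (2 * n - i) := Or.inr (Or.inr ⟨i, by omega, h⟩)
  unfold fS
  split_ifs with h1 h2 h3 h4
  · rw [h1, lvl_succ_of_joined j1]
  · rw [h2, lvl_succ_of_joined j1]
  · rw [h3]
    have e : 2 * n + 1 - (i : ℕ) = (2 * n - i) + 1 := by omega
    rw [e, lvl_succ_of_joined j2]
  · rw [h4]
    have e : 2 * n + 1 - (i : ℕ) = (2 * n - i) + 1 := by omega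
    rw [e, lvl_succ_of_joined j2]
  · rfl

theorem lvl_fL (h : (sL : symplecticGroup (Fin (n + 1)) F) ∈ J) (r : ℕ) :
    lvl J (fL n r) = lvl J r := by
  have j1 : joined J n := Or.inr (Or.inl ⟨rfl, h⟩)
  unfold fL
  split_ifs with h1 h2
  · rw [h1, lvl_succ_of_joined j1]
  · rw [h2, lvl_succ_of_joined j1]
  · rfl

variable [Fintype F]

theorem mem_parQ_of_mem (hJ : J ⊆ Sset n F) {s : symplecticGroup (Fin (n + 1)) F} (hs : s ∈ J) :
    s ∈ parQ J := by
  rcases hJ hs with ⟨i, rfl⟩ | rfl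
  · intro a c hne
    have hm := mon_sS (F := F) i
    have hac : a = tauS i c := by
      by_contra h
      exact hne (hm.2.2 c a h)
    rw [hac]
    show lvl J (rk (tauS i c)) ≤ lvl J (rk c)
    rw [rk_tauS, lvl_fS hs]
  · intro a c hne
    have hm := mon_sL (n := n) (F := F)
    have hac : a = tauL c := by
      by_contra h
      exact hne (hm.2.2 c a h)
    rw [hac]
    show lvl J (rk (tauL c)) ≤ lvl J (rk c)
    rw [rk_tauL, lvl_fL hs]

theorem parabolic_le_parQ (hJ : J ⊆ Sset n F) : (spBN n F).parabolic J ≤ parQ J :=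
  sup_le borel_le_parQ ((Subgroup.closure_le _).mpr fun _ hs => mem_parQ_of_mem hJ hs)

/-- a left descent at a short simple reflection reverses the corresponding pair -/
theorem rk_lt_of_desc_sS {m : symplecticGroup (Fin (n + 1)) F} {π : Equiv.Perm (Idx n)}
    (hm : Mon m π) (hmN : m ∈ Nsub n F) (i : Fin n)
    (hle : BN.len (spBN n F) (spBN n F).S (sS i * m) ≤ BN.len (spBN n F) (spBN n F).S m) :
    rk (π⁻¹ (Sum.inl i.succ)) < rk (π⁻¹ (Sum.inl i.castSucc)) := by
  obtain ⟨x, ⟨t, rfl⟩, hx⟩ := exists_conj_not_mem_of_len_le (spBN n F) (n := m) (s := sS i) hmN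
    (sS_mem_Sset i) (Set.range (xS i))
    (fun b hb => by
      obtain ⟨t, ht⟩ := exists_xS i hb
      exact ⟨_, ⟨t, rfl⟩, ht⟩) hle
  have h1 : ¬ (rk (π⁻¹ (Sum.inl i.castSucc)) + rk (π⁻¹ (Sum.inr i.succ)) < 2 * n + 1) :=
    fun hlt => hx (Rg_conj_mem hm (hxS i) hlt t)
  have h2 := rk_inv_swap hm (Sum.inl i.succ)
  rw [Sum.swap_inl] at h2
  have h3 := rk_le (π⁻¹ (Sum.inl i.succ))
  have h4 : rk (π⁻¹ (Sum.inl i.succ)) ≠ rk (π⁻¹ (Sum.inl i.castSucc)) := by
    intro e
    have := π⁻¹.injective (rk_injective e)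
    exact castSucc_ne_succ i (Sum.inl.inj this).symm
  omega

/-- a left descent at the long simple reflection reverses the corresponding pair -/
theorem rk_lt_of_desc_sL {m : symplecticGroup (Fin (n + 1)) F} {π : Equiv.Perm (Idx n)}
    (hm : Mon m π) (hmN : m ∈ Nsub n F)
    (hle : BN.len (spBN n F) (spBN n F).S (sL * m) ≤ BN.len (spBN n F) (spBN n F).S m) :
    rk (π⁻¹ (Sum.inr (Fin.last n))) < rk (π⁻¹ (Sum.inl (Fin.last n))) := by
  obtain ⟨x, ⟨t, rfl⟩, hx⟩ := exists_conj_not_mem_of_len_le (spBN n F) (n := m) (s := sL) hmN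
    sL_mem_Sset (Set.range xL)
    (fun b hb => by
      obtain ⟨t, ht⟩ := exists_xL hb
      exact ⟨_, ⟨t, rfl⟩, ht⟩) hle
  have h1 : ¬ (2 * rk (π⁻¹ (Sum.inl (Fin.last n))) < 2 * n + 1) :=
    fun hlt => hx (Tg_conj_mem hm hlt t)
  have h2 := rk_inv_swap hm (Sum.inl (Fin.last n))
  rw [Sum.swap_inl] at h2
  omega

/-- an element of `N` with all left descents in `J` reverses each block of `J` -/
theorem rev_of_desc {m : symplecticGroup (Fin (n + 1)) F} {π : Equiv.Perm (Idx n)}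
    (hm : Mon m π) (hmN : m ∈ Nsub n F)
    (hdesc : ∀ s ∈ J, BN.len (spBN n F) (spBN n F).S (s * m) ≤
      BN.len (spBN n F) (spBN n F).S m)
    {a c : Idx n} (hac : rk a < rk c) (hl : lv J a = lv J c) :
    rk (π⁻¹ c) < rk (π⁻¹ a) := by
  apply rev_of_adjacent (J := J) (ρ := fun a => π⁻¹ a) _ hac hl
  intro a c hrk hj
  rcases hj with ⟨i, hi, hs⟩ | ⟨hr, hs⟩ | ⟨i, hi, hs⟩
  · have ea : a = Sum.inl i.castSucc := by
      apply rk_injective
      rw [← hi]
      rfl
    have ec : c = Sum.inl i.succ := by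
      apply rk_injective
      rw [hrk, ← hi]
      rfl
    rw [ea, ec]
    exact rk_lt_of_desc_sS hm hmN i (hdesc _ hs)
  · have ea : a = Sum.inl (Fin.last n) := by
      apply rk_injective
      rw [hr]
      rfl
    have ec : c = Sum.inr (Fin.last n) := by
      apply rk_injective
      rw [hrk, hr]
      simp only [rk_inr, Fin.val_last]
      omega
    rw [ea, ec]
    exact rk_lt_of_desc_sL hm hmN (hdesc _ hs)
  · have hi' := i.2
    have ea : a = Sum.inr i.succ := by
      apply rk_injective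
      simp only [rk_inr, Fin.val_succ]
      omega
    have ec : c = Sum.inr i.castSucc := by
      apply rk_injective
      rw [hrk]
      simp only [rk_inr, Fin.val_castSucc]
      omega
    rw [ea, ec]
    have h1 := rk_lt_of_desc_sS hm hmN i (hdesc _ hs)
    have h2 := rk_inv_swap hm (Sum.inl i.succ)
    have h3 := rk_inv_swap hm (Sum.inl i.castSucc)
    rw [Sum.swap_inl] at h2 h3
    show rk (π⁻¹ (Sum.inr i.castSucc)) < rk (π⁻¹ (Sum.inr i.succ))
    have h4 := rk_le (π⁻¹ (Sum.inl i.castSucc))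
    omega

end Cfsg.Agent.Helper12.SpBN
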