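import Cfsg.Agent.Helper12.SpBNO
import Cfsg.Agent.Helper2.SpCard

set_option autoImplicit false

/-!
# Steinberg's count of the elements of `p`-power order of `Sp_{2m}(F)`
-/

namespace Cfsg.Agent.Helper12.SpBN

open Matrix Cfsg.Agent.Helper2.Sp Cfsg.Agent.Helper12.SpTwo Cfsg.Agent.Helper25.SpU
open Cfsg Cfsg.Agent.Helper2 Cfsg.Agent.Helper14.ExchCox Cfsg.Agent.Helper12.BNSt
  Cfsg.Agent.Helper12.BNCnt

variable {n : ℕ} {F : Type*} [Field F] [Fintype F]

/-- the hypothesis of the parabolic step holds for every set of simple reflections -/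
theorem stepHyp_sp (p : ℕ) [Fact p.Prime] [CharP F p]
    (J : Set (symplecticGroup (Fin (n + 1)) F)) (hJ : J ⊆ (spBN n F).S) :
    StepHyp (spBN n F) p (uni (n + 1) F) J hJ := by
  have hJ' : J ⊆ Sset n F := hJ
  refine ⟨radV J, radV_le_uni, ?_, ?_, ?_⟩
  · intro x hx v hv
    exact conj_mem_radV (parabolic_le_parQ hJ' hx) hv
  · intro g hgM hg
    obtain ⟨Q, hQ⟩ := exists_sylow_uni (m := n + 1) (K := F) p
    have hQM : (Q : Subgroup (symplecticGroup (Fin (n + 1)) F)) ≤ (spBN n F).parabolic J := by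
      rw [hQ]
      exact uni_le_borel.trans (BN.B_le_parabolic (P := spBN n F) J)
    obtain ⟨x, hx, hxg⟩ := exists_conj_mem_of_sylow Q hQM hgM hg
    rw [hQ] at hxg
    exact ⟨x, hx, hxg⟩
  · obtain ⟨n₀, hn₀, hR, hRinv⟩ := exists_longest_sub (P := spBN n F) hJ
    refine ⟨n₀, hn₀, hR, ?_⟩
    intro x hx hxB
    have hn₀J : (n₀ : symplecticGroup (Fin (n + 1)) F) ∈ BN.NJ (spBN n F) J := hn₀
    have hn₀N : (n₀ : symplecticGroup (Fin (n + 1)) F) ∈ Nsub n F := BN.NJ_le_N hJ hn₀J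
    obtain ⟨π, hπ⟩ := Nsub_le_monSub hn₀N
    have hdesc : ∀ s ∈ J, BN.len (spBN n F) (spBN n F).S
        (s * (n₀ : symplecticGroup (Fin (n + 1)) F)) ≤
        BN.len (spBN n F) (spBN n F).S (n₀ : symplecticGroup (Fin (n + 1)) F) := by
      intro s hs
      have h1 : (1 : symplecticGroup (Fin (n + 1)) F) ∈ BN.NJ (spBN n F) J := Subgroup.one_mem _
      have h0 : BN.len (spBN n F) (spBN n F).S (1 : symplecticGroup (Fin (n + 1)) F) = 0 := by
        rw [BN.len_eq_zero_iff (subset_refl _) (Subgroup.one_mem _)]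
        exact Subgroup.one_mem _
      have h2 := desc_of_longest hJ (Subgroup.inv_mem _ hn₀) hRinv h1 hs (by
        rw [h0]
        exact Nat.zero_le _)
      rw [mul_one, Subgroup.coe_inv] at h2
      have hsS : s ∈ (spBN n F).S := hJ hs
      have hss : s * s ∈ BN.H (spBN n F) := BN.sq_mem_H hsS
      have e1 : ((n₀ : symplecticGroup (Fin (n + 1)) F)⁻¹ * s)⁻¹ =
          (s * s)⁻¹ * (s * (n₀ : symplecticGroup (Fin (n + 1)) F)) := by group
      rw [← BN.len_inv (subset_refl _) (n := (n₀ : symplecticGroup (Fin (n + 1)) F)⁻¹ * s), e1,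
        BN.len_H_mul (subset_refl _) ((BN.H (spBN n F)).inv_mem hss),
        BN.len_inv (subset_refl _)] at h2
      exact h2.le
    apply mem_radV_of_uni hx
    intro a c hac hl
    have h3 := rev_of_desc hπ hn₀N hdesc hac hl
    have h4 := isTri_of_borel hxB (π⁻¹ a) (π⁻¹ c) h3
    have e : (n₀ : symplecticGroup (Fin (n + 1)) F)⁻¹ * x * n₀ =
        (n₀ : symplecticGroup (Fin (n + 1)) F)⁻¹ * x *
          ((n₀ : symplecticGroup (Fin (n + 1)) F)⁻¹)⁻¹ := by rw [inv_inv]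
    rw [e, hπ.inv.conj_apply_eq_zero_iff, inv_inv, perm_apply_inv, perm_apply_inv] at h4
    exact h4

/-- the order of `U` -/
theorem card_uni (p : ℕ) [Fact p.Prime] [CharP F p] :
    Nat.card (uni (n + 1) F) = Fintype.card F ^ ((n + 1) ^ 2) := by
  have hp : p.Prime := Fact.out
  obtain ⟨Q, hQ⟩ := exists_sylow_uni (m := n + 1) (K := F) p
  obtain ⟨k, _, hk⟩ := FiniteField.card F p
  have hU : Nat.card (uni (n + 1) F) =
      p ^ (Nat.card (symplecticGroup (Fin (n + 1)) F)).factorization p := by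
    rw [← hQ]
    exact Sylow.card_eq_multiplicity Q
  rw [hU, card_symplectic_fin, hk]
  have hq1 : ∀ i : ℕ, ¬ p ∣ (p ^ (k : ℕ)) ^ (2 * (i + 1)) - 1 := by
    intro i hdvd
    have h2 : p ∣ (p ^ (k : ℕ)) ^ (2 * (i + 1)) :=
      dvd_pow (dvd_pow_self p k.ne_zero) (by omega)
    have h3 : 0 < (p ^ (k : ℕ)) ^ (2 * (i + 1)) := pow_pos (pow_pos hp.pos _) _
    have h4 : p ∣ 1 := by
      have := Nat.dvd_sub h2 hdvd
      rwa [Nat.sub_sub_self h3] at this
    exact hp.one_lt.ne' (Nat.dvd_one.mp h4)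
  have hprod : ¬ p ∣ ∏ i ∈ Finset.range (n + 1), ((p ^ (k : ℕ)) ^ (2 * (i + 1)) - 1) := by
    intro h
    obtain ⟨i, _, hi⟩ := (Prime.dvd_finsetProd_iff hp.prime _).mp h
    exact hq1 i hi
  have hne1 : ((p ^ (k : ℕ)) ^ ((n + 1) ^ 2)) ≠ 0 := (pow_pos (pow_pos hp.pos _) _).ne'
  have hne2 : (∏ i ∈ Finset.range (n + 1), ((p ^ (k : ℕ)) ^ (2 * (i + 1)) - 1)) ≠ 0 := by
    intro h0
    rw [h0] at hprod
    exact hprod (dvd_zero p)
  rw [Nat.factorization_mul hne1 hne2, Finsupp.add_apply,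
    Nat.factorization_eq_zero_of_not_dvd hprod, add_zero, ← pow_mul,
    Nat.Prime.factorization_pow hp, Finsupp.single_eq_same]

/-- **Steinberg's count** for the symplectic group -/
theorem card_pElts_sp (p : ℕ) [Fact p.Prime] [CharP F p] :
    Nat.card {g : symplecticGroup (Fin (n + 1)) F // ∃ k : ℕ, orderOf g = p ^ k} =
      Fintype.card F ^ (2 * (n + 1) ^ 2) := by
  classical
  obtain ⟨Q, hQ⟩ := exists_sylow_uni (m := n + 1) (K := F) p
  have key := pcount_top (spBN n F) p (uni (n + 1) F)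
    uni_le_borel
    (fun b hb u hu => by
      have := borel_le_normalizer hb
      rw [Subgroup.mem_normalizer_iff] at this
      exact (this u).mp hu)
    (fun b hb => by
      rw [H_spBN]
      exact borel_eq_mul hb)
    (by rw [H_spBN]; exact uni_inf_torus)
    (by
      intro u hu
      rw [← hQ] at hu
      obtain ⟨k, hk⟩ := (IsPGroup.iff_orderOf.1 Q.isPGroup') ⟨u, hu⟩
      exact ⟨k, by rw [← hk]; exact (Subgroup.orderOf_mk u hu).symm⟩)
    (fun J₀ hJ => stepHyp_sp p _ hJ)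
  have h1 : altSum (spBN n F) 1 = (Nat.card (uni (n + 1) F) : ℂ) := stSp_one
  rw [h1, card_uni p] at key
  have hpc : pcount p (⊤ : Subgroup (symplecticGroup (Fin (n + 1)) F)) =
      Nat.card {g : symplecticGroup (Fin (n + 1)) F // ∃ k : ℕ, orderOf g = p ^ k} := by
    unfold pcount
    apply Nat.card_congr
    exact ⟨fun g => ⟨g.1, g.2.2⟩, fun g => ⟨g.1, Subgroup.mem_top _, g.2⟩, fun _ => rfl,
      fun _ => rfl⟩
  rw [hpc] at key
  have key' : (Nat.card {g : symplecticGroup (Fin (n + 1)) F // ∃ k : ℕ, orderOf g = p ^ k} : ℂ) =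
      ((Fintype.card F ^ (2 * (n + 1) ^ 2) : ℕ) : ℂ) := by
    rw [key]
    push_cast
    rw [two_mul, pow_add]
  exact_mod_cast key'

end Cfsg.Agent.Helper12.SpBN
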