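import Mathlib

set_option autoImplicit false

/-! The subgroup `SL₂(F)ⁿ` of `Sp_{2n}(F)` acting on the `n` hyperbolic planes `⟨e_k, f_k⟩`. -/

namespace Cfsg.Agent.Helper12

open Matrix

variable {F : Type*} [Field F] {n : ℕ}

/-- The matrix acting on the `k`-th hyperbolic plane by the `2 × 2` matrix `g k`. -/
def planeMat (g : Fin n → Matrix (Fin 2) (Fin 2) F) : Matrix (Fin n ⊕ Fin n) (Fin n ⊕ Fin n) F :=
  fromBlocks (diagonal fun k => g k 0 0) (diagonal fun k => g k 0 1)
    (diagonal fun k => g k 1 0) (diagonal fun k => g k 1 1)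

theorem planeMat_one : planeMat (fun _ : Fin n => (1 : Matrix (Fin 2) (Fin 2) F)) = 1 := by
  simp [planeMat, Matrix.fromBlocks_one]

theorem planeMat_mul (g h : Fin n → Matrix (Fin 2) (Fin 2) F) :
    planeMat (fun k => g k * h k) = planeMat g * planeMat h := by
  simp only [planeMat, Matrix.fromBlocks_multiply, Matrix.diagonal_mul_diagonal,
    Matrix.diagonal_add, Matrix.mul_apply, Fin.sum_univ_two]

theorem planeMat_mem (g : Fin n → Matrix (Fin 2) (Fin 2) F) (hg : ∀ k, (g k).det = 1) :
    planeMat g ∈ symplecticGroup (Fin n) F := by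
  rw [planeMat, SymplecticGroup.fromBlocks_mem_iff]
  simp only [Matrix.diagonal_transpose, Matrix.diagonal_mul_diagonal]
  refine ⟨?_, ?_, ?_⟩
  · congr 1; ext k; ring
  · congr 1; ext k; ring
  · rw [Matrix.diagonal_sub, ← Matrix.diagonal_one]
    congr 1; ext k
    have := hg k
    rw [Matrix.det_fin_two] at this
    rw [← this]
    ring

theorem planeMat_injective : Function.Injective (planeMat (F := F) (n := n)) := by
  intro g h hgh
  simp only [planeMat, Matrix.fromBlocks_inj] at hgh
  obtain ⟨h1, h2, h3, h4⟩ := hgh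
  ext k i j
  have e1 := congrFun (Matrix.diagonal_injective h1) k
  have e2 := congrFun (Matrix.diagonal_injective h2) k
  have e3 := congrFun (Matrix.diagonal_injective h3) k
  have e4 := congrFun (Matrix.diagonal_injective h4) k
  fin_cases i <;> fin_cases j <;> assumption

/-- The embedding of `SL₂(F)ⁿ` into `Sp_{2n}(F)`. -/
def planeHom : (Fin n → Matrix.SpecialLinearGroup (Fin 2) F) →* symplecticGroup (Fin n) F where
  toFun g := ⟨planeMat (fun k => (g k : Matrix (Fin 2) (Fin 2) F)), planeMat_mem _ (fun k => (g k).2)⟩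
  map_one' := by
    apply Subtype.ext
    simp only [Pi.one_apply, Matrix.SpecialLinearGroup.coe_one]
    exact planeMat_one
  map_mul' g h := by
    apply Subtype.ext
    simp only [Pi.mul_apply, Matrix.SpecialLinearGroup.coe_mul]
    exact planeMat_mul _ _

theorem planeHom_injective : Function.Injective (planeHom (F := F) (n := n)) := by
  intro g h hgh
  have h1 := congrArg Subtype.val hgh
  have h2 := planeMat_injective h1
  ext k : 1
  exact Subtype.ext (congrFun h2 k)

end Cfsg.Agent.Helper12
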