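import Mathlib
import Cfsg.Agent.Helper12.SpBlocks
import Cfsg.Agent.Helper12.FaithfulWeights

set_option autoImplicit false

/-! Faithful representations of `Sp_{2n}(F)` over `F` in characteristic two have degree at least
`2n`: the weights of the subgroup `C₃ⁿ`. -/

namespace Cfsg.Agent.Helper12

open Matrix

universe u

variable {F : Type u} [Field F] [CharP F 2] {n : ℕ}

/-- An element of order three of `SL₂(F)` in characteristic two. -/
def c3 : Matrix.SpecialLinearGroup (Fin 2) F :=
  ⟨!![0, 1; 1, 1], by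
    rw [Matrix.det_fin_two_of]
    simp [CharTwo.neg_eq]⟩

/-- The involution inverting `c3`. -/
def sw2 : Matrix.SpecialLinearGroup (Fin 2) F :=
  ⟨!![0, 1; 1, 0], by
    rw [Matrix.det_fin_two_of]
    simp [CharTwo.neg_eq]⟩

theorem c3_pow_three : (c3 : Matrix.SpecialLinearGroup (Fin 2) F) ^ 3 = 1 := by
  apply Subtype.ext
  rw [Matrix.SpecialLinearGroup.coe_pow, Matrix.SpecialLinearGroup.coe_one]
  ext i j
  fin_cases i <;> fin_cases j <;>
    simp [c3, pow_succ, Matrix.mul_apply, Fin.sum_univ_two, CharTwo.add_self_eq_zero]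

theorem c3_ne_one : (c3 : Matrix.SpecialLinearGroup (Fin 2) F) ≠ 1 := by
  intro h
  have := congrArg (fun g : Matrix.SpecialLinearGroup (Fin 2) F => (g : Matrix (Fin 2) (Fin 2) F) 0 0) h
  simp [c3] at this

theorem c3_sq_ne_one : (c3 : Matrix.SpecialLinearGroup (Fin 2) F) ^ 2 ≠ 1 := by
  intro h
  have h1 := congrArg (fun g : Matrix.SpecialLinearGroup (Fin 2) F => (g : Matrix (Fin 2) (Fin 2) F)) h
  simp only [Matrix.SpecialLinearGroup.coe_pow, Matrix.SpecialLinearGroup.coe_one] at h1
  have h2 := congrFun (congrFun h1 1) 1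
  simp [c3, pow_succ, Matrix.mul_apply, Fin.sum_univ_two, CharTwo.add_self_eq_zero] at h2

theorem c3_pow_val_add (x y : ZMod 3) :
    (c3 : Matrix.SpecialLinearGroup (Fin 2) F) ^ (x + y).val = c3 ^ x.val * c3 ^ y.val := by
  rw [← pow_add, ZMod.val_add, ← pow_eq_pow_mod _ c3_pow_three]

theorem c3_pow_mul_sw2 (x : ZMod 3) :
    (c3 : Matrix.SpecialLinearGroup (Fin 2) F) ^ x.val * sw2 = sw2 * c3 ^ (-x).val := by
  have h1 : (c3 : Matrix.SpecialLinearGroup (Fin 2) F) * sw2 = sw2 * c3 ^ 2 := by
    apply Subtype.ext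
    rw [Matrix.SpecialLinearGroup.coe_mul, Matrix.SpecialLinearGroup.coe_mul,
      Matrix.SpecialLinearGroup.coe_pow]
    ext i j
    fin_cases i <;> fin_cases j <;>
      simp [c3, sw2, pow_succ, Matrix.mul_apply, Fin.sum_univ_two, CharTwo.add_self_eq_zero]
  have h2 : (c3 : Matrix.SpecialLinearGroup (Fin 2) F) ^ 2 * sw2 = sw2 * c3 := by
    apply Subtype.ext
    rw [Matrix.SpecialLinearGroup.coe_mul, Matrix.SpecialLinearGroup.coe_mul,
      Matrix.SpecialLinearGroup.coe_pow]
    ext i j
    fin_cases i <;> fin_cases j <;>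
      simp [c3, sw2, pow_succ, Matrix.mul_apply, Fin.sum_univ_two, CharTwo.add_self_eq_zero]
  have hx : ∀ x : ZMod 3, x = 0 ∨ x = 1 ∨ x = 2 := by decide
  rcases hx x with rfl | rfl | rfl
  · simp
  · have e0 : ((1 : ZMod 3)).val = 1 := by decide
    have e1 : (-(1 : ZMod 3)).val = 2 := by decide
    rw [e0, e1, pow_one]
    exact h1
  · have e1 : ((2 : ZMod 3)).val = 2 := by decide
    have e2 : (-(2 : ZMod 3)).val = 1 := by decide
    rw [e1, e2, pow_one]
    exact h2

/-- The subgroup `C₃ⁿ` of `Sp_{2n}(F)`. -/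
def E3 (a : Fin n → ZMod 3) : symplecticGroup (Fin n) F :=
  planeHom (fun k => (c3 : Matrix.SpecialLinearGroup (Fin 2) F) ^ (a k).val)

theorem E3_zero : E3 (0 : Fin n → ZMod 3) = (1 : symplecticGroup (Fin n) F) := by
  rw [E3]
  have : (fun k : Fin n => (c3 : Matrix.SpecialLinearGroup (Fin 2) F) ^ ((0 : Fin n → ZMod 3) k).val) = 1 := by
    ext k : 1
    simp
  rw [this, map_one]

theorem E3_add (a b : Fin n → ZMod 3) :
    (E3 (a + b) : symplecticGroup (Fin n) F) = E3 a * E3 b := by
  rw [E3, E3, E3, ← map_mul]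
  congr 1
  ext k : 1
  exact c3_pow_val_add (a k) (b k)

theorem E3_inj (a : Fin n → ZMod 3) (h : (E3 a : symplecticGroup (Fin n) F) = 1) : a = 0 := by
  rw [E3, ← map_one planeHom] at h
  have h1 := planeHom_injective h
  ext k
  have h2 : (c3 : Matrix.SpecialLinearGroup (Fin 2) F) ^ (a k).val = 1 := congrFun h1 k
  have h3 : (a k).val < 3 := ZMod.val_lt (a k)
  have h4 : (a k).val = 0 := by
    interval_cases h5 : (a k).val
    · rfl
    · rw [pow_one] at h2; exact (c3_ne_one h2).elim
    · exact (c3_sq_ne_one h2).elim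
  exact (ZMod.val_eq_zero (a k)).1 h4

/-- The element inverting `C₃ⁿ`. -/
def S3 : symplecticGroup (Fin n) F := planeHom (fun _ => (sw2 : Matrix.SpecialLinearGroup (Fin 2) F))

theorem E3_mul_S3 (a : Fin n → ZMod 3) :
    (E3 a : symplecticGroup (Fin n) F) * S3 = S3 * E3 (-a) := by
  rw [E3, E3, S3, ← map_mul, ← map_mul]
  congr 1
  ext k : 1
  exact c3_pow_mul_sw2 (a k)

/-- Faithful representations of `Sp_{2n}(F)` in characteristic two have degree at least `2n`. -/
theorem sp_faithful_even {d : ℕ} (ρ : ↥(symplecticGroup (Fin n) F) →* GL (Fin d) F)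
    (hρ : Function.Injective ρ) : 2 * n ≤ d := by
  have hr : ringChar F ≠ 3 := by
    rw [ringChar.eq F 2]
    norm_num
  obtain ⟨K', _, φ, ψ, hψ, hq⟩ := exists_primitive_ext F 3 hr
  obtain ⟨b, hbli, hb⟩ := exists_weight_basis (φ := φ) (ψ := ψ) (E := (E3 : _ → symplecticGroup (Fin n) F))
    (ρ := ρ) hψ hq E3_zero E3_add E3_inj hρ
  have hfam : ∀ x : Fin n × Bool, ∃ v : Fin d → K', v ≠ 0 ∧
      IsWeight ψ (RW φ (E3 : _ → symplecticGroup (Fin n) F) ρ) (if x.2 then b x.1 else -b x.1) v := by
    rintro ⟨i, ε⟩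
    obtain ⟨v, hv0, hv⟩ := hb i
    cases ε
    · refine ⟨SW φ ρ S3 *ᵥ v, fun h => hv0 (SW_mulVec_eq_zero φ ρ _ _ h), ?_⟩
      simp only [Bool.false_eq_true, if_false]
      refine isWeight_move S3 (fun a => -a) E3_mul_S3 ?_ hv
      intro a
      rw [neg_dotProduct, dotProduct_neg]
    · exact ⟨v, hv0, by simpa using hv⟩
  have hinj : Function.Injective (fun x : Fin n × Bool => if x.2 then b x.1 else -b x.1) := by
    have hb0 : ∀ i, b i ≠ 0 := fun i => hbli.ne_zero i
    have hpm : ∀ i j, b i = -b j → False := by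
      intro i j h
      by_cases hij : i = j
      · subst hij
        have h1 : (2 : ZMod 3) • b i = 0 := by
          rw [two_smul]
          nth_rewrite 1 [h]
          exact neg_add_cancel _
        rcases smul_eq_zero.1 h1 with h2 | h2
        · exact absurd h2 (by decide)
        · exact hb0 i h2
      · have hinj2 : Function.Injective ![i, j] := by
          intro x y hxy
          fin_cases x <;> fin_cases y <;> simp_all
        have h1 := hbli.comp ![i, j] hinj2
        have h2 : b ∘ ![i, j] = ![b i, b j] := by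
          funext k
          fin_cases k <;> rfl
        rw [h2, LinearIndependent.pair_iff] at h1
        have h3 := h1 1 1 (by rw [one_smul, one_smul, h]; exact neg_add_cancel _)
        exact one_ne_zero h3.1
    rintro ⟨i, ε⟩ ⟨j, ε'⟩ h
    cases ε <;> cases ε' <;> simp only [Bool.false_eq_true, if_false, if_true] at h
    · have := hbli.injective (neg_injective h)
      rw [this]
    · exact (hpm j i h.symm).elim
    · exact (hpm i j h).elim
    · have := hbli.injective h
      rw [this]
  have hcard := card_le_of_isWeight ψ _ hψ hq _ hinj hfam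
  rw [Fintype.card_prod, Fintype.card_fin, Fintype.card_bool, mul_comm] at hcard
  exact hcard

end Cfsg.Agent.Helper12
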