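import Mathlib
import Cfsg.Agent.Helper12.SpBlocks
import Cfsg.Agent.Helper12.FaithfulWeights

set_option autoImplicit false

/-! Faithful representations of `Sp_{2n}(F)` over `F` in odd characteristic have degree at least
`2n`: the weights of the subgroup `C₂ⁿ` and the quaternion groups acting on the weight spaces. -/

namespace Cfsg.Agent.Helper12

open Matrix

universe u

variable {F : Type u} [Field F] {n : ℕ}

/-- The central involution of `SL₂(F)`. -/
def negOne : Matrix.SpecialLinearGroup (Fin 2) F :=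
  ⟨!![-1, 0; 0, -1], by
    rw [Matrix.det_fin_two_of]
    ring⟩

/-- An element of order four. -/
def qI : Matrix.SpecialLinearGroup (Fin 2) F :=
  ⟨!![0, 1; -1, 0], by
    rw [Matrix.det_fin_two_of]
    ring⟩

/-- A second element of order four, anticommuting with `qI`. -/
def qJ (x y : F) (h : x ^ 2 + y ^ 2 = -1) : Matrix.SpecialLinearGroup (Fin 2) F :=
  ⟨!![x, y; y, -x], by
    rw [Matrix.det_fin_two_of]
    linear_combination (-1 : F) * h⟩

theorem negOne_sq : (negOne : Matrix.SpecialLinearGroup (Fin 2) F) ^ 2 = 1 := by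
  apply Subtype.ext
  rw [Matrix.SpecialLinearGroup.coe_pow, Matrix.SpecialLinearGroup.coe_one]
  ext i j
  fin_cases i <;> fin_cases j <;>
    simp [negOne, pow_succ, Matrix.mul_apply, Fin.sum_univ_two]

theorem negOne_ne_one (h2 : (2 : F) ≠ 0) : (negOne : Matrix.SpecialLinearGroup (Fin 2) F) ≠ 1 := by
  intro h
  have h1 := congrArg (fun g : Matrix.SpecialLinearGroup (Fin 2) F => (g : Matrix (Fin 2) (Fin 2) F) 0 0) h
  simp only [negOne, Matrix.SpecialLinearGroup.coe_one, Matrix.one_apply_eq] at h1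
  apply h2
  have h3 : (-1 : F) = 1 := by simpa using h1
  linear_combination (-1 : F) * h3

theorem negOne_comm (g : Matrix.SpecialLinearGroup (Fin 2) F) : negOne * g = g * negOne := by
  apply Subtype.ext
  rw [Matrix.SpecialLinearGroup.coe_mul, Matrix.SpecialLinearGroup.coe_mul]
  ext i j
  fin_cases i <;> fin_cases j <;>
    simp [negOne, Matrix.mul_apply, Fin.sum_univ_two]

theorem negOne_pow_comm (m : ℕ) (g : Matrix.SpecialLinearGroup (Fin 2) F) :
    negOne ^ m * g = g * negOne ^ m := by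
  induction m with
  | zero => simp
  | succ m ih => rw [pow_succ, mul_assoc, negOne_comm, ← mul_assoc, ih, mul_assoc]

theorem qI_mul_qJ (x y : F) (h : x ^ 2 + y ^ 2 = -1) :
    qI * qJ x y h = negOne * (qJ x y h * qI) := by
  apply Subtype.ext
  simp only [Matrix.SpecialLinearGroup.coe_mul]
  ext i j
  fin_cases i <;> fin_cases j <;>
    simp [negOne, qI, qJ, Matrix.mul_apply, Fin.sum_univ_two]

theorem negOne_pow_val_add (x y : ZMod 2) :
    (negOne : Matrix.SpecialLinearGroup (Fin 2) F) ^ (x + y).val = negOne ^ x.val * negOne ^ y.val := by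
  rw [← pow_add, ZMod.val_add, ← pow_eq_pow_mod _ negOne_sq]

/-- The subgroup `C₂ⁿ` of `Sp_{2n}(F)`. -/
def E2 (a : Fin n → ZMod 2) : symplecticGroup (Fin n) F :=
  planeHom (fun k => (negOne : Matrix.SpecialLinearGroup (Fin 2) F) ^ (a k).val)

theorem E2_zero : E2 (0 : Fin n → ZMod 2) = (1 : symplecticGroup (Fin n) F) := by
  rw [E2]
  have : (fun k : Fin n => (negOne : Matrix.SpecialLinearGroup (Fin 2) F) ^
      ((0 : Fin n → ZMod 2) k).val) = 1 := by
    ext k : 1
    simp
  rw [this, map_one]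

theorem E2_add (a b : Fin n → ZMod 2) :
    (E2 (a + b) : symplecticGroup (Fin n) F) = E2 a * E2 b := by
  rw [E2, E2, E2, ← map_mul]
  congr 1
  ext k : 1
  exact negOne_pow_val_add (a k) (b k)

theorem E2_inj (h2 : (2 : F) ≠ 0) (a : Fin n → ZMod 2)
    (h : (E2 a : symplecticGroup (Fin n) F) = 1) : a = 0 := by
  rw [E2, ← map_one planeHom] at h
  have h1 := planeHom_injective h
  ext k
  have h2' : (negOne : Matrix.SpecialLinearGroup (Fin 2) F) ^ (a k).val = 1 := congrFun h1 k
  have h3 : (a k).val < 2 := ZMod.val_lt (a k)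
  have h4 : (a k).val = 0 := by
    interval_cases h5 : (a k).val
    · rfl
    · rw [pow_one] at h2'; exact (negOne_ne_one h2 h2').elim
  exact (ZMod.val_eq_zero (a k)).1 h4

/-- The element `qI` in the `k`-th plane. -/
def iK (k : Fin n) : symplecticGroup (Fin n) F :=
  planeHom (Function.update (1 : Fin n → Matrix.SpecialLinearGroup (Fin 2) F) k qI)

/-- The element `qJ` in the `k`-th plane. -/
def jK (k : Fin n) (x y : F) (h : x ^ 2 + y ^ 2 = -1) : symplecticGroup (Fin n) F :=
  planeHom (Function.update (1 : Fin n → Matrix.SpecialLinearGroup (Fin 2) F) k (qJ x y h))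

theorem E2_mul_planeHom (a : Fin n → ZMod 2) (g : Fin n → Matrix.SpecialLinearGroup (Fin 2) F) :
    (E2 a : symplecticGroup (Fin n) F) * planeHom g = planeHom g * E2 a := by
  rw [E2, ← map_mul, ← map_mul]
  congr 1
  ext k : 1
  exact negOne_pow_comm _ _

theorem iK_mul_jK (k : Fin n) (x y : F) (h : x ^ 2 + y ^ 2 = -1) :
    (iK k : symplecticGroup (Fin n) F) * jK k x y h =
      E2 (Pi.single k 1) * (jK k x y h * iK k) := by
  rw [iK, jK, E2, ← map_mul, ← map_mul, ← map_mul]
  congr 1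
  ext j : 1
  by_cases hj : j = k
  · subst hj
    have e1 : ((1 : ZMod 2)).val = 1 := by decide
    simp only [Pi.mul_apply, Function.update_self, Pi.single_eq_same, e1, pow_one]
    exact qI_mul_qJ x y h
  · simp only [Pi.mul_apply, Function.update_of_ne hj, Pi.single_eq_of_ne hj, Pi.one_apply,
      ZMod.val_zero, pow_zero, mul_one]

/-- Faithful representations of `Sp_{2n}(F)` in odd characteristic have degree at least `2n`. -/
theorem sp_faithful_odd [Fintype F] (h2 : (2 : F) ≠ 0) {d : ℕ}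
    (ρ : ↥(symplecticGroup (Fin n) F) →* GL (Fin d) F)
    (hρ : Function.Injective ρ) : 2 * n ≤ d := by
  have hr : ringChar F ≠ 2 := by
    intro h
    apply h2
    have := CharP.cast_eq_zero F (ringChar F)
    rw [h] at this
    exact_mod_cast this
  -- a solution of x² + y² = -1
  obtain ⟨x, y, hxy⟩ : ∃ x y : F, x ^ 2 + y ^ 2 = -1 := by
    have hodd : Fintype.card F % 2 = 1 := FiniteField.odd_card_of_char_ne_two hr
    obtain ⟨a, b, hab⟩ := FiniteField.exists_root_sum_quadratic (R := F)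
      (f := Polynomial.X ^ 2) (g := Polynomial.X ^ 2 + 1) (Polynomial.degree_X_pow 2)
      (by
        rw [Polynomial.degree_add_eq_left_of_degree_lt] <;> simp) hodd
    refine ⟨a, b, ?_⟩
    simp only [Polynomial.eval_pow, Polynomial.eval_X, Polynomial.eval_add,
      Polynomial.eval_one] at hab
    linear_combination hab
  obtain ⟨K', _, φ, ψ, hψ, hq⟩ := exists_primitive_ext F 2 hr
  have h2K : (2 : K') ≠ 0 := by
    have : Fintype.card (ZMod 2) = 2 := ZMod.card 2
    rw [this] at hq
    exact_mod_cast hq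
  obtain ⟨b, hbli, hb⟩ := exists_weight_basis (φ := φ) (ψ := ψ)
    (E := (E2 : _ → symplecticGroup (Fin n) F)) (ρ := ρ) hψ hq E2_zero E2_add (E2_inj h2) hρ
  -- the value of ψ at 1
  have hψ1 : ψ 1 = -1 := by
    have h1 : ψ 1 * ψ 1 = 1 := by
      rw [← AddChar.map_add_eq_mul]
      have : (1 : ZMod 2) + 1 = 0 := by decide
      rw [this, AddChar.map_zero_eq_one]
    have h3 : ψ 1 ≠ 1 := by
      intro h
      have hne : ψ ≠ 1 := by
        have := hψ (one_ne_zero (α := ZMod 2))
        intro h'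
        apply this
        rw [h']
        ext z
        simp
      obtain ⟨z, hz⟩ := AddChar.ne_one_iff.1 hne
      have hz' : ∀ z : ZMod 2, z = 0 ∨ z = 1 := by decide
      rcases hz' z with rfl | rfl
      · exact hz (AddChar.map_zero_eq_one ψ)
      · exact hz h
    have h4 : (ψ 1 - 1) * (ψ 1 + 1) = 0 := by linear_combination h1
    rcases mul_eq_zero.1 h4 with h5 | h5
    · exact (h3 (sub_eq_zero.1 h5)).elim
    · exact eq_neg_of_add_eq_zero_left h5
  have hcard := two_mul_card_le_of_pairs ψ (RW φ (E2 : _ → symplecticGroup (Fin n) F) ρ) hψ hq b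
    hbli.injective ?_
  · rwa [Fintype.card_fin] at hcard
  intro i
  obtain ⟨v, hv0, hv⟩ := hb i
  obtain ⟨k, hk⟩ : ∃ k, b i k ≠ 0 := by
    by_contra hcon
    push Not at hcon
    exact hbli.ne_zero i (funext hcon)
  have hk1 : b i k = 1 := by
    have hz' : ∀ z : ZMod 2, z = 0 ∨ z = 1 := by decide
    rcases hz' (b i k) with h | h
    · exact (hk h).elim
    · exact h
  have hIv : IsWeight ψ (RW φ (E2 : _ → symplecticGroup (Fin n) F) ρ) (b i) (SW φ ρ (iK k) *ᵥ v) :=
    isWeight_move (iK k) id (fun a => E2_mul_planeHom a _) (fun a => rfl) hv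
  have hJv : IsWeight ψ (RW φ (E2 : _ → symplecticGroup (Fin n) F) ρ) (b i)
      (SW φ ρ (jK k x y hxy) *ᵥ v) :=
    isWeight_move (jK k x y hxy) id (fun a => E2_mul_planeHom a _) (fun a => rfl) hv
  by_cases h1 : LinearIndependent K' ![v, SW φ ρ (iK k) *ᵥ v]
  · exact ⟨v, _, hv, hIv, h1⟩
  by_cases h3 : LinearIndependent K' ![v, SW φ ρ (jK k x y hxy) *ᵥ v]
  · exact ⟨v, _, hv, hJv, h3⟩
  exfalso
  rw [LinearIndependent.pair_iff' hv0] at h1 h3
  push Not at h1 h3
  obtain ⟨α, hα⟩ := h1
  obtain ⟨β, hβ⟩ := h3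
  have hrel : SW φ ρ (iK k) *ᵥ (SW φ ρ (jK k x y hxy) *ᵥ v) =
      RW φ (E2 : _ → symplecticGroup (Fin n) F) ρ (Pi.single k 1) *ᵥ
        (SW φ ρ (jK k x y hxy) *ᵥ (SW φ ρ (iK k) *ᵥ v)) := by
    rw [Matrix.mulVec_mulVec, Matrix.mulVec_mulVec, Matrix.mulVec_mulVec, RW, ← SW_mul, ← SW_mul,
      ← SW_mul, iK_mul_jK, mul_assoc]
  rw [← hα, ← hβ, Matrix.mulVec_smul, Matrix.mulVec_smul, ← hα, ← hβ, Matrix.mulVec_smul,
    Matrix.mulVec_smul, hv (Pi.single k 1), single_dotProduct, one_mul, hk1, hψ1] at hrel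
  have h5 : ((2 : K') * (α * β)) • v = 0 := by
    have : (β * α) • v = -((α * β) • v) := by
      rw [← smul_smul, hrel, smul_smul, smul_smul, mul_neg, mul_one, neg_smul]
    rw [mul_comm β α] at this
    rw [mul_smul, two_smul]
    nth_rewrite 1 [this]
    exact neg_add_cancel _
  rcases smul_eq_zero.1 h5 with h6 | h6
  · rcases mul_eq_zero.1 h6 with h7 | h7
    · exact h2K h7
    · rcases mul_eq_zero.1 h7 with h8 | h8
      · rw [h8, zero_smul] at hα
        exact hv0 (SW_mulVec_eq_zero φ ρ _ _ hα.symm)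
      · rw [h8, zero_smul] at hβ
        exact hv0 (SW_mulVec_eq_zero φ ρ _ _ hβ.symm)
  · exact hv0 h6

end Cfsg.Agent.Helper12
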