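import Mathlib
import Cfsg.Agent.Helper12.WeirA

set_option autoImplicit false

/-! Sylow `r`-subgroups of `GL_n(q)` for `r > n`: the torus construction. -/

open Polynomial

namespace Cfsg.Agent.Helper12.Weir

universe u v

/-- In a finite cyclic group there is a copy of `ZMod m` for every divisor `m` of the order. -/
theorem exists_injective_hom_of_dvd {G : Type*} [Group G] [Finite G] [IsCyclic G] (m : ℕ)
    (hm : m ∣ Nat.card G) : ∃ κ : Multiplicative (ZMod m) →* G, Function.Injective κ := by
  obtain ⟨g, hg⟩ := IsCyclic.exists_ofOrder_eq_natCard (α := G)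
  have hN : 0 < Nat.card G := Nat.card_pos
  obtain ⟨c, hc⟩ := hm
  have hc0 : 0 < c := by
    rcases Nat.eq_zero_or_pos c with h | h
    · rw [h, mul_zero] at hc
      omega
    · exact h
  have hm0 : 0 < m := by
    rcases Nat.eq_zero_or_pos m with h | h
    · rw [h, zero_mul] at hc
      omega
    · exact h
  have hy : orderOf (g ^ c) = m := by
    rw [orderOf_pow' g hc0.ne', hg, hc, Nat.gcd_eq_right (Dvd.intro_left m rfl),
      Nat.mul_div_cancel _ hc0]
  have key : ∀ k : ℕ, k = orderOf (g ^ c) →
      ∃ κ : Multiplicative (ZMod k) →* G, Function.Injective κ := by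
    intro k hk
    subst hk
    rw [← Nat.card_zpowers]
    refine ⟨(Subgroup.zpowers (g ^ c)).subtype.comp
      (zmodCyclicMulEquiv (G := Subgroup.zpowers (g ^ c)) inferInstance).toMonoidHom, ?_⟩
    intro x y hxy
    have := Subtype.val_injective hxy
    exact (zmodCyclicMulEquiv (G := Subgroup.zpowers (g ^ c)) inferInstance).injective this
  exact key m hy.symm

/-- A subgroup-free Sylow criterion. -/
theorem sylow_mulEquiv_of_injective {G : Type*} [Group G] [Finite G] {r : ℕ} [Fact r.Prime]
    {H : Type*} [Group H] (ι : H →* G) (hι : Function.Injective ι)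
    (hcard : Nat.card H = r ^ (Nat.card G).factorization r) (P : Sylow r G) :
    Nonempty ((P : Subgroup G) ≃* H) := by
  have h1 : Nat.card ι.range = r ^ (Nat.card G).factorization r := by
    rw [← hcard]
    exact Nat.card_congr (MonoidHom.ofInjective hι).toEquiv.symm
  exact ⟨(Sylow.equiv P (Sylow.ofCard ι.range h1)).trans (MonoidHom.ofInjective hι).symm⟩

section Torus

variable (F : Type u) [Field F] (L : Type v) [Field L] [Algebra F L] (a b : ℕ)

/-- The torus `(Lˣ)^a` acting on `L^a × F^b`. -/
noncomputable def torusHom :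
    (Fin a → Lˣ) →* (((Fin a → L) × (Fin b → F)) ≃ₗ[F] ((Fin a → L) × (Fin b → F))) where
  toFun x := LinearEquiv.prodCongr
    (LinearEquiv.piCongrRight (fun j => DistribMulAction.toLinearEquiv F L (x j)))
    (LinearEquiv.refl F (Fin b → F))
  map_one' := by
    apply LinearEquiv.ext
    rintro ⟨v, w⟩
    apply Prod.ext
    · funext j
      simp
    · rfl
  map_mul' x y := by
    apply LinearEquiv.ext
    rintro ⟨v, w⟩
    apply Prod.ext
    · funext j
      simp [mul_smul]
    · rfl

theorem torusHom_injective : Function.Injective (torusHom F L a b) := by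
  rw [injective_iff_map_eq_one]
  intro x hx
  funext j
  have h1 := congrArg (fun f : ((Fin a → L) × (Fin b → F)) ≃ₗ[F] ((Fin a → L) × (Fin b → F)) =>
    (f (Pi.single j 1, 0)).1 j) hx
  simp only [torusHom, MonoidHom.coe_mk, OneHom.coe_mk, LinearEquiv.prodCongr_apply,
    LinearEquiv.piCongrRight_apply, DistribMulAction.toLinearEquiv_apply, Pi.single_eq_same,
    LinearEquiv.coe_one, id_eq] at h1
  apply Units.ext
  rw [Units.smul_def, smul_eq_mul, mul_one] at h1
  exact h1

end Torus

end Cfsg.Agent.Helper12.Weir
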