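import Mathlib
import Cfsg.Agent.Helper12.WeirB

set_option autoImplicit false

/-! Sylow `r`-subgroups of `GL_n(q)` for `r > n` are homocyclic. -/

open Polynomial

namespace Cfsg.Agent.Helper12.Weir

universe u

/-- The componentwise extension of a homomorphism to powers. -/
def piHom {A B : Type*} [Monoid A] [Monoid B] (κ : A →* B) (a : ℕ) : (Fin a → A) →* (Fin a → B) where
  toFun x j := κ (x j)
  map_one' := by
    funext j
    simp
  map_mul' x y := by
    funext j
    simp

theorem piHom_injective {A B : Type*} [Monoid A] [Monoid B] (κ : A →* B)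
    (hκ : Function.Injective κ) (a : ℕ) : Function.Injective (piHom κ a) := by
  intro x y hxy
  funext j
  exact hκ (congrFun hxy j)

theorem card_pi_zmod (a m : ℕ) : Nat.card (Fin a → Multiplicative (ZMod m)) = m ^ a := by
  rw [Nat.card_fun, Nat.card_fin]
  congr 1
  exact (Nat.card_congr Multiplicative.toAdd).trans (Nat.card_zmod m)

/-- Sylow `r`-subgroups of `GL_n(q)` for `r > n`, `r ∤ q`. -/
theorem sylow_gl_homocyclic {F : Type u} [Field F] [Fintype F] (n r : ℕ) [Fact r.Prime]
    (hrn : n < r) (hrq : ¬ r ∣ Fintype.card F) (P : Sylow r (GL (Fin n) F)) :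
    Nonempty (↥(P : Subgroup (GL (Fin n) F)) ≃*
      (Fin (n / orderOf ((Fintype.card F : ℕ) : ZMod r)) →
        Multiplicative (ZMod (r ^ padicValNat r ((cyclotomic
          (orderOf ((Fintype.card F : ℕ) : ZMod r)) ℤ).eval ((Fintype.card F : ℕ) : ℤ)).natAbs)))) := by
  have hr : r.Prime := Fact.out
  have hq : 2 ≤ Fintype.card F := Fintype.one_lt_card
  have hd : 0 < orderOf ((Fintype.card F : ℕ) : ZMod r) := orderOf_pos_of_not_dvd hrq
  obtain ⟨p, hp⟩ := CharP.exists F
  have hpp : Fact p.Prime := ⟨CharP.char_is_prime F p⟩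
  have hne : NeZero (orderOf ((Fintype.card F : ℕ) : ZMod r)) := ⟨hd.ne'⟩
  -- the torus
  have hcardL : Nat.card (FiniteField.Extension F p (orderOf ((Fintype.card F : ℕ) : ZMod r)))ˣ =
      Fintype.card F ^ orderOf ((Fintype.card F : ℕ) : ZMod r) - 1 := by
    rw [Nat.card_units, FiniteField.natCard_extension, Nat.card_eq_fintype_card]
  have hm : r ^ padicValNat r ((cyclotomic (orderOf ((Fintype.card F : ℕ) : ZMod r)) ℤ).eval
      ((Fintype.card F : ℕ) : ℤ)).natAbs ∣
      Nat.card (FiniteField.Extension F p (orderOf ((Fintype.card F : ℕ) : ZMod r)))ˣ := by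
    rw [hcardL, ← padicValNat_pow_orderOf_sub_one hq hrq]
    exact pow_padicValNat_dvd
  obtain ⟨κ, hκ⟩ := exists_injective_hom_of_dvd _ hm
  -- the linear equivalence
  have hfin : Module.finrank F ((Fin (n / orderOf ((Fintype.card F : ℕ) : ZMod r)) →
      FiniteField.Extension F p (orderOf ((Fintype.card F : ℕ) : ZMod r))) ×
      (Fin (n % orderOf ((Fintype.card F : ℕ) : ZMod r)) → F)) = Module.finrank F (Fin n → F) := by
    rw [Module.finrank_prod, Module.finrank_pi_fintype, Module.finrank_fin_fun,
      Module.finrank_fin_fun]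
    simp only [FiniteField.finrank_extension, Finset.sum_const, Finset.card_univ, Fintype.card_fin,
      smul_eq_mul]
    exact Nat.div_add_mod' n _
  let ε := LinearEquiv.ofFinrankEq _ _ hfin
  let ι : (Fin (n / orderOf ((Fintype.card F : ℕ) : ZMod r)) → Multiplicative (ZMod (r ^ padicValNat r
      ((cyclotomic (orderOf ((Fintype.card F : ℕ) : ZMod r)) ℤ).eval
      ((Fintype.card F : ℕ) : ℤ)).natAbs))) →* GL (Fin n) F :=
    (Matrix.GeneralLinearGroup.toLin.symm.toMonoidHom.comp
      ((LinearMap.GeneralLinearGroup.congrLinearEquiv ε).toMonoidHom.comp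
        ((LinearMap.GeneralLinearGroup.generalLinearEquiv F _).symm.toMonoidHom.comp
          (torusHom F (FiniteField.Extension F p (orderOf ((Fintype.card F : ℕ) : ZMod r)))
            (n / orderOf ((Fintype.card F : ℕ) : ZMod r))
            (n % orderOf ((Fintype.card F : ℕ) : ZMod r)))))).comp (piHom κ _)
  have hι : Function.Injective ι := by
    intro x y hxy
    simp only [ι, MonoidHom.coe_comp, MulEquiv.coe_toMonoidHom, Function.comp_apply] at hxy
    have h1 := Matrix.GeneralLinearGroup.toLin.symm.injective hxy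
    have h2 := (LinearMap.GeneralLinearGroup.congrLinearEquiv ε).injective h1
    have h3 := (LinearMap.GeneralLinearGroup.generalLinearEquiv F _).symm.injective h2
    exact piHom_injective κ hκ _ (torusHom_injective F _ _ _ h3)
  apply sylow_mulEquiv_of_injective ι hι
  rw [card_pi_zmod, Matrix.card_GL_field, Nat.factorization_def _ hr, padicValNat_prod_GL hq hrq hrn,
    ← pow_mul, mul_comm]

end Cfsg.Agent.Helper12.Weir
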