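import Mathlib
import Cfsg.Agent.Helper12.SpSylowB
import Cfsg.Agent.Helper12.SpSylowE
import Cfsg.Agent.Helper12.WeirC
import Cfsg.Agent.Helper2.SpCard

set_option autoImplicit false

/-! Sylow `r`-subgroups of `Sp_2n(q)` for odd `r > n`, `r ∤ q`, are homocyclic. -/

open Polynomial

namespace Cfsg.Agent.Helper12.SpSylow

open Cfsg.Agent.Helper12.Weir

universe u

section Valuation

variable {r q : ℕ} [Fact r.Prime]

/-- `padicValNat_pow_mul_sub_one` with the weaker hypothesis `¬ r ∣ j`. -/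
theorem padicValNat_pow_mul_sub_one_of_not_dvd (hr2 : r ≠ 2) (hq : 2 ≤ q) (hrq : ¬ r ∣ q) {j : ℕ}
    (hj0 : 0 < j) (hjr : ¬ r ∣ j) :
    padicValNat r (q ^ (orderOf (q : ZMod r) * j) - 1) =
      padicValNat r (q ^ orderOf (q : ZMod r) - 1) := by
  have hd : 0 < orderOf (q : ZMod r) := orderOf_pos_of_not_dvd hrq
  have hodd : Odd r := (Fact.out : r.Prime).odd_of_ne_two hr2
  have h1 : 1 < q ^ orderOf (q : ZMod r) := Nat.one_lt_pow hd.ne' (by omega)
  have h2 : r ∣ q ^ orderOf (q : ZMod r) - 1 := (dvd_pow_sub_one_iff (by omega) _).2 dvd_rfl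
  have h3 : ¬ r ∣ q ^ orderOf (q : ZMod r) := fun h =>
    hrq ((Fact.out : r.Prime).dvd_of_dvd_pow h)
  have := padicValNat.pow_sub_pow (p := r) (x := q ^ orderOf (q : ZMod r)) (y := 1) hodd h1 h2 h3
    (n := j) hj0.ne'
  rw [one_pow, ← pow_mul] at this
  rw [this, padicValNat.eq_zero_of_not_dvd hjr, add_zero]

/-- The valuation of `q^(2k) - 1` for `1 ≤ k < r`. -/
theorem padicValNat_pow_two_mul_sub_one (hr2 : r ≠ 2) (hq : 2 ≤ q) (hrq : ¬ r ∣ q) {k : ℕ}
    (hk0 : 0 < k) (hkr : k < r) :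
    padicValNat r (q ^ (2 * k) - 1) = if orderOf (q : ZMod r) ∣ 2 * k then
      padicValNat r (q ^ orderOf (q : ZMod r) - 1) else 0 := by
  have hr : r.Prime := Fact.out
  split_ifs with h
  · obtain ⟨j, hj⟩ := h
    have hj0 : 0 < j := by
      rcases Nat.eq_zero_or_pos j with h0 | h0
      · rw [h0, mul_zero] at hj
        omega
      · exact h0
    have hjr : ¬ r ∣ j := by
      intro hrj
      have h1 : r ∣ 2 * k := by
        rw [hj]
        exact hrj.mul_left _
      rcases hr.dvd_mul.1 h1 with h2 | h2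
      · have := Nat.le_of_dvd (by norm_num) h2
        have := hr.two_le
        omega
      · have := Nat.le_of_dvd hk0 h2
        omega
    rw [hj, padicValNat_pow_mul_sub_one_of_not_dvd hr2 hq hrq hj0 hjr]
  · exact padicValNat_pow_sub_one_of_not_dvd (by omega) h

theorem card_filter_dvd_two_mul (n d : ℕ) :
    ((Finset.Icc 1 n).filter (fun i => d ∣ 2 * i)).card = n / halfOrd d := by
  rw [← Nat.Ioc_filter_dvd_card_eq_div]
  have e : Finset.Icc 1 n = Finset.Ioc 0 n := by
    ext i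
    simp only [Finset.mem_Icc, Finset.mem_Ioc]
    omega
  rw [e]
  congr 1
  apply Finset.filter_congr
  intro i _
  exact dvd_two_mul_iff d i

/-- The `r`-adic valuation of `∏ (q^(2i) - 1)`. -/
theorem padicValNat_prod_Sp (hr2 : r ≠ 2) (hq : 2 ≤ q) (hrq : ¬ r ∣ q) {n : ℕ} (hn : n < r) :
    padicValNat r (∏ i ∈ Finset.range n, (q ^ (2 * (i + 1)) - 1)) =
      (n / halfOrd (orderOf (q : ZMod r))) * padicValNat r (q ^ orderOf (q : ZMod r) - 1) := by
  have hr : r.Prime := Fact.out
  have hne : ∀ i ∈ Finset.range n, q ^ (2 * (i + 1)) - 1 ≠ 0 := by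
    intro i _
    have : 1 < q ^ (2 * (i + 1)) := Nat.one_lt_pow (by omega) (by omega)
    omega
  rw [← Nat.factorization_def _ hr, Nat.factorization_prod hne, Finsupp.finsetSum_apply]
  have h3 : ∀ i ∈ Finset.range n, (q ^ (2 * (i + 1)) - 1).factorization r =
      if halfOrd (orderOf (q : ZMod r)) ∣ i + 1 then
        padicValNat r (q ^ orderOf (q : ZMod r) - 1) else 0 := by
    intro i hi
    rw [Finset.mem_range] at hi
    rw [Nat.factorization_def _ hr,
      padicValNat_pow_two_mul_sub_one hr2 hq hrq (Nat.succ_pos i) (by omega)]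
    simp only [dvd_two_mul_iff]
  rw [Finset.sum_congr rfl h3, ← Finset.sum_filter, Finset.sum_const, Nat.card_multiples,
    smul_eq_mul]

end Valuation

/-- Sylow `r`-subgroups of `Sp_2n(q)` for odd `r > n`, `r ∤ q`. -/
theorem sylow_sp_homocyclic {F : Type u} [Field F] [Fintype F] (n r : ℕ) [Fact r.Prime]
    (hr2 : r ≠ 2) (hrn : n < r) (hrq : ¬ r ∣ Fintype.card F)
    (P : Sylow r ↥(Matrix.symplecticGroup (Fin n) F)) :
    Nonempty (↥(P : Subgroup ↥(Matrix.symplecticGroup (Fin n) F)) ≃*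
      (Fin ((Finset.Icc 1 n).filter
          (fun i => orderOf ((Fintype.card F : ℕ) : ZMod r) ∣ 2 * i)).card →
        Multiplicative (ZMod (r ^ padicValNat r ((cyclotomic
          (orderOf ((Fintype.card F : ℕ) : ZMod r)) ℤ).eval
            ((Fintype.card F : ℕ) : ℤ)).natAbs)))) := by
  have hr : r.Prime := Fact.out
  have hq : 2 ≤ Fintype.card F := Fintype.one_lt_card
  have hd : 0 < orderOf ((Fintype.card F : ℕ) : ZMod r) := orderOf_pos_of_not_dvd hrq
  obtain ⟨p, hp⟩ := CharP.exists F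
  have hpp : Fact p.Prime := ⟨CharP.char_is_prime F p⟩
  rw [card_filter_dvd_two_mul, ← padicValNat_pow_orderOf_sub_one hq hrq]
  set b := halfOrd (orderOf ((Fintype.card F : ℕ) : ZMod r)) with hb
  have hbpos : 0 < b := halfOrd_pos hd
  set m := r ^ padicValNat r
    (Fintype.card F ^ orderOf ((Fintype.card F : ℕ) : ZMod r) - 1) with hm
  -- the cyclic group of order `m` in `Sp_2b`
  obtain ⟨s, hs⟩ := exists_sp_elt_order (K := F) p r hrq
  have hfinb : Finite ↥(Matrix.symplecticGroup (Fin b) F) := Subtype.finite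
  have hcardz : m ∣ Nat.card (Subgroup.zpowers s) := by
    rw [Nat.card_zpowers, hs]
  obtain ⟨κ, hκ⟩ := exists_injective_hom_of_dvd (G := Subgroup.zpowers s) m hcardz
  -- the block embedding
  obtain ⟨ψ, hψ⟩ := exists_block_hom (F := F) (n / b) b (n % b) n
    (by rw [mul_comm]; exact (Nat.div_add_mod n b).symm)
  let ι : (Fin (n / b) → Multiplicative (ZMod m)) →* ↥(Matrix.symplecticGroup (Fin n) F) :=
    ψ.comp (piHom ((Subgroup.zpowers s).subtype.comp κ) (n / b))
  have hι : Function.Injective ι := by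
    intro x y hxy
    have h1 := hψ hxy
    apply piHom_injective _ _ _ h1
    intro u v huv
    exact hκ (Subtype.val_injective huv)
  have hfinG : Finite ↥(Matrix.symplecticGroup (Fin n) F) := Subtype.finite
  apply sylow_mulEquiv_of_injective ι hι
  rw [card_pi_zmod, Cfsg.Agent.Helper2.Sp.card_symplectic_fin, Nat.factorization_def _ hr]
  have hA0 : Fintype.card F ^ (n ^ 2) ≠ 0 := pow_ne_zero _ (by omega)
  have hB0 : ∏ i ∈ Finset.range n, (Fintype.card F ^ (2 * (i + 1)) - 1) ≠ 0 := by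
    rw [Finset.prod_ne_zero_iff]
    intro i _
    have : 1 < Fintype.card F ^ (2 * (i + 1)) := Nat.one_lt_pow (by omega) (by omega)
    omega
  rw [padicValNat.mul hA0 hB0, padicValNat.pow, padicValNat.eq_zero_of_not_dvd hrq, mul_zero,
    zero_add, padicValNat_prod_Sp hr2 hq hrq hrn, hm, ← pow_mul, mul_comm]

end Cfsg.Agent.Helper12.SpSylow
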