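import Cfsg.Agent.Helper2.SpPerfect

set_option autoImplicit false

/-!
# A criterion for a subgroup of the symplectic group to be everything

`TS H` is the set of vectors `v` all of whose transvections `Tg v c` lie in `H`.  A subspace is
`Good` when it is nondegenerate and contained in `TS H`; orthogonal good subspaces joined by one
"mixed" vector of `TS H` have a good sum.
-/

namespace Cfsg.Agent.Helper12.SpTwo

open Matrix Cfsg.Agent.Helper2.Sp

variable {l : Type*} [DecidableEq l] [Fintype l] {F : Type*} [Field F]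

/-- The action of a symplectic matrix on a vector. -/
def act (g : symplecticGroup l F) (x : l ⊕ l → F) : l ⊕ l → F :=
  (g : Matrix (l ⊕ l) (l ⊕ l) F) *ᵥ x

theorem act_mul (g h : symplecticGroup l F) (x : l ⊕ l → F) : act (g * h) x = act g (act h x) :=
  mul_mulVec g h x

theorem act_one (x : l ⊕ l → F) : act (1 : symplecticGroup l F) x = x := by
  unfold act
  simp

theorem act_add (g : symplecticGroup l F) (x y : l ⊕ l → F) :
    act g (x + y) = act g x + act g y := mulVec_add _ _ _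

theorem act_sub (g : symplecticGroup l F) (x y : l ⊕ l → F) :
    act g (x - y) = act g x - act g y := mulVec_sub _ _ _

theorem act_neg (g : symplecticGroup l F) (x : l ⊕ l → F) :
    act g (-x) = -act g x := mulVec_neg _ _

theorem act_smul (g : symplecticGroup l F) (a : F) (x : l ⊕ l → F) :
    act g (a • x) = a • act g x := mulVec_smul _ _ _

theorem act_zero (g : symplecticGroup l F) : act g (0 : l ⊕ l → F) = 0 := mulVec_zero _

theorem act_Tg (v : l ⊕ l → F) (c : F) (x : l ⊕ l → F) :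
    act (Tg v c) x = x + (c * om v x) • v := Tg_mulVec v c x

theorem om_act (g : symplecticGroup l F) (x y : l ⊕ l → F) :
    om (act g x) (act g y) = om x y := om_g g x y

theorem act_inv_eq {g : symplecticGroup l F} {x y : l ⊕ l → F} (h : act g y = x) :
    act g⁻¹ x = y := by
  rw [← h, ← act_mul, inv_mul_cancel, act_one]

theorem act_pow_smul {g : symplecticGroup l F} {v : l ⊕ l → F} {a : F} (h : act g v = a • v)
    (k : ℕ) : act (g ^ k) v = a ^ k • v := by
  induction k with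
  | zero => simp [act_one]
  | succ k ih => rw [pow_succ, act_mul, h, act_smul, ih, smul_smul, pow_succ, mul_comm]

theorem conj_Tg' (g : symplecticGroup l F) (v : l ⊕ l → F) (c : F) :
    g * Tg v c * g⁻¹ = Tg (act g v) c := conj_Tg g v c

theorem Tg_pow (v : l ⊕ l → F) (c : F) (k : ℕ) : (Tg v c) ^ k = Tg v (k * c) := by
  induction k with
  | zero => simp [Tg_zero]
  | succ k ih =>
    rw [pow_succ, ih, Tg_add]
    congr 1
    push_cast
    ring

variable (H : Subgroup (symplecticGroup l F))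

/-- Vectors whose transvection with parameter `c` lies in `H`. -/
def TSc (c : F) : Set (l ⊕ l → F) := {v | Tg v c ∈ H}

/-- Vectors all of whose transvections lie in `H`. -/
def TS : Set (l ⊕ l → F) := {v | ∀ c, Tg v c ∈ H}

variable {H}

theorem act_mem_TSc {g : symplecticGroup l F} (hg : g ∈ H) {c : F} {v : l ⊕ l → F}
    (hv : v ∈ TSc H c) : act g v ∈ TSc H c := by
  show Tg (act g v) c ∈ H
  rw [← conj_Tg']
  exact H.mul_mem (H.mul_mem hg hv) (H.inv_mem hg)

theorem act_mem_TS {g : symplecticGroup l F} (hg : g ∈ H) {v : l ⊕ l → F}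
    (hv : v ∈ TS H) : act g v ∈ TS H := fun c => act_mem_TSc hg (hv c)

theorem smul_mem_TS (a : F) {v : l ⊕ l → F} (hv : v ∈ TS H) : a • v ∈ TS H := by
  intro c
  rw [Tg_smul]
  exact hv _

theorem neg_mem_TS {v : l ⊕ l → F} (hv : v ∈ TS H) : -v ∈ TS H := by
  have := smul_mem_TS (-1 : F) hv
  simpa using this

theorem zero_mem_TS : (0 : l ⊕ l → F) ∈ TS H := by
  intro c
  have : Tg (0 : l ⊕ l → F) c = 1 := by
    apply ext_mulVec
    intro x
    rw [Tg_mulVec]
    simp
  rw [this]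
  exact H.one_mem

/-- A nondegenerate subspace contained in `TS H`. -/
structure Good (H : Subgroup (symplecticGroup l F)) (W : Submodule F (l ⊕ l → F)) : Prop where
  sub : ∀ y ∈ W, y ∈ TS H
  nondeg : ∀ y ∈ W, y ≠ 0 → ∃ y' ∈ W, om y y' ≠ 0

/-- Orthogonal subspaces. -/
def Orth (W₁ W₂ : Submodule F (l ⊕ l → F)) : Prop := ∀ y ∈ W₁, ∀ z ∈ W₂, om y z = 0

theorem Orth.symm {W₁ W₂ : Submodule F (l ⊕ l → F)} (h : Orth W₁ W₂) : Orth W₂ W₁ := by
  intro z hz y hy
  rw [om_swap y z, h y hy z hz, neg_zero]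

theorem Orth.sup_left {W₁ W₂ W₃ : Submodule F (l ⊕ l → F)} (h₁ : Orth W₁ W₃) (h₂ : Orth W₂ W₃) :
    Orth (W₁ ⊔ W₂) W₃ := by
  intro x hx z hz
  obtain ⟨y, hy, y', hy', rfl⟩ := Submodule.mem_sup.mp hx
  rw [om_add_left, h₁ y hy z hz, h₂ y' hy' z hz, add_zero]

theorem orth_bot_left (W : Submodule F (l ⊕ l → F)) : Orth ⊥ W := by
  intro y hy z _
  rw [(Submodule.mem_bot F).mp hy]
  unfold om
  simp

theorem good_bot : Good H (⊥ : Submodule F (l ⊕ l → F)) where
  sub := by
    intro y hy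
    rw [(Submodule.mem_bot F).mp hy]
    exact zero_mem_TS
  nondeg := by
    intro y hy h0
    exact absurd ((Submodule.mem_bot F).mp hy) h0

theorem Good.exists_both {W : Submodule F (l ⊕ l → F)} (hW : Good H W) {y y' : l ⊕ l → F}
    (hy : y ∈ W) (hy' : y' ∈ W) (h0 : y ≠ 0) (h0' : y' ≠ 0) :
    ∃ u ∈ W, om y u ≠ 0 ∧ om u y' ≠ 0 := by
  obtain ⟨x1, hx1, h1⟩ := hW.nondeg y hy h0
  obtain ⟨x2, hx2, h2⟩ := hW.nondeg y' hy' h0'
  have h2' : ∀ x, om x y' ≠ 0 ↔ om y' x ≠ 0 := by
    intro x; rw [om_swap y' x, neg_ne_zero]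
  by_cases h3 : om y' x1 = 0
  · by_cases h4 : om y x2 = 0
    · refine ⟨x1 + x2, W.add_mem hx1 hx2, ?_, ?_⟩
      · rw [om_add_right, h4, add_zero]; exact h1
      · rw [h2', om_add_right, h3, zero_add]; exact h2
    · exact ⟨x2, hx2, h4, (h2' x2).mpr h2⟩
  · exact ⟨x1, hx1, h1, (h2' x1).mpr h3⟩

theorem Good.exists_move_of_ne {W : Submodule F (l ⊕ l → F)} (hW : Good H W) {y y' : l ⊕ l → F}
    (hy : y ∈ W) (hy' : y' ∈ W) (h : om y y' ≠ 0) :
    ∃ g ∈ H, act g y = y' ∧ ∀ x, (∀ v ∈ W, om v x = 0) → act g x = x := by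
  refine ⟨Tg (y - y') (-(om y y')⁻¹), hW.sub _ (W.sub_mem hy hy') _, ?_, ?_⟩
  · exact T_map_of_om_ne_zero h
  · intro x hx
    rw [act_Tg, hx _ (W.sub_mem hy hy'), mul_zero, zero_smul, add_zero]

theorem Good.exists_move {W : Submodule F (l ⊕ l → F)} (hW : Good H W) {y y' : l ⊕ l → F}
    (hy : y ∈ W) (hy' : y' ∈ W) (h0 : y ≠ 0) (h0' : y' ≠ 0) :
    ∃ g ∈ H, act g y = y' ∧ ∀ x, (∀ v ∈ W, om v x = 0) → act g x = x := by
  by_cases h : om y y' = 0
  · obtain ⟨u, hu, h1, h2⟩ := hW.exists_both hy hy' h0 h0'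
    obtain ⟨g1, hg1, hm1, hf1⟩ := hW.exists_move_of_ne hy hu h1
    obtain ⟨g2, hg2, hm2, hf2⟩ := hW.exists_move_of_ne hu hy' h2
    refine ⟨g2 * g1, H.mul_mem hg2 hg1, ?_, ?_⟩
    · rw [act_mul, hm1, hm2]
    · intro x hx
      rw [act_mul, hf1 x hx, hf2 x hx]
  · exact hW.exists_move_of_ne hy hy' h

theorem Good.sup {W₁ W₂ : Submodule F (l ⊕ l → F)} (h₁ : Good H W₁) (h₂ : Good H W₂)
    (ho : Orth W₁ W₂) {y₀ z₀ : l ⊕ l → F} (hy₀ : y₀ ∈ W₁) (hz₀ : z₀ ∈ W₂) (hy0 : y₀ ≠ 0)
    (hz0 : z₀ ≠ 0) (hmix : y₀ + z₀ ∈ TS H) : Good H (W₁ ⊔ W₂) where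
  sub := by
    intro x hx
    obtain ⟨y, hy, z, hz, rfl⟩ := Submodule.mem_sup.mp hx
    by_cases hy0' : y = 0
    · rw [hy0', zero_add]
      exact h₂.sub z hz
    by_cases hz0' : z = 0
    · rw [hz0', add_zero]
      exact h₁.sub y hy
    obtain ⟨g1, hg1, hm1, hf1⟩ := h₁.exists_move hy₀ hy hy0 hy0'
    obtain ⟨g2, hg2, hm2, hf2⟩ := h₂.exists_move hz₀ hz hz0 hz0'
    have e : act (g2 * g1) (y₀ + z₀) = y + z := by
      rw [act_mul, act_add, hm1, hf1 z₀ (fun v hv => ho v hv z₀ hz₀), act_add, hm2,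
        hf2 y (fun v hv => ho.symm v hv y hy)]
    rw [← e]
    exact act_mem_TS (H.mul_mem hg2 hg1) hmix
  nondeg := by
    intro x hx hx0
    obtain ⟨y, hy, z, hz, rfl⟩ := Submodule.mem_sup.mp hx
    by_cases hy0' : y = 0
    · have hz0' : z ≠ 0 := by
        intro h
        apply hx0
        rw [hy0', h, add_zero]
      obtain ⟨z', hz', hne⟩ := h₂.nondeg z hz hz0'
      refine ⟨z', Submodule.mem_sup_right hz', ?_⟩
      rw [om_add_left, ho y hy z' hz', zero_add]
      exact hne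
    · obtain ⟨y', hy', hne⟩ := h₁.nondeg y hy hy0'
      refine ⟨y', Submodule.mem_sup_left hy', ?_⟩
      rw [om_add_left, ho.symm z hz y' hy', add_zero]
      exact hne

/-- The plane spanned by two non-orthogonal vectors of `TS H` is good. -/
theorem good_span_pair {u v : l ⊕ l → F} (hu : u ∈ TS H) (hv : v ∈ TS H) (huv : om u v ≠ 0) :
    Good H (Submodule.span F {u, v}) where
  sub := by
    intro x hx
    obtain ⟨α, β, rfl⟩ := Submodule.mem_span_pair.mp hx
    by_cases hβ : β = 0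
    · rw [hβ, zero_smul, add_zero]
      exact smul_mem_TS α hu
    · have hvu : om v u ≠ 0 := by rw [om_swap u v]; exact neg_ne_zero.mpr huv
      -- first `u + β v`
      have h1 : u + β • v ∈ TS H := by
        have := act_mem_TS (hv (β * (om v u)⁻¹)) hu
        rwa [act_Tg, mul_assoc, inv_mul_cancel₀ hvu, mul_one] at this
      -- then adjust the coefficient of `u`
      have h2 := act_mem_TS (hu ((α - 1) * (β * om u v)⁻¹)) h1
      rw [act_Tg, om_add_right, om_self, zero_add, om_smul_right, mul_assoc,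
        inv_mul_cancel₀ (mul_ne_zero hβ huv), mul_one] at h2
      have e : u + β • v + (α - 1) • u = α • u + β • v := by
        rw [sub_smul, one_smul]
        abel
      rwa [e] at h2
  nondeg := by
    intro x hx hx0
    obtain ⟨α, β, rfl⟩ := Submodule.mem_span_pair.mp hx
    by_cases hα : α = 0
    · have hβ : β ≠ 0 := by
        intro h
        apply hx0
        rw [hα, h, zero_smul, zero_smul, add_zero]
      refine ⟨u, Submodule.subset_span (by simp), ?_⟩
      rw [hα, zero_smul, zero_add, om_smul_left, om_swap u v]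
      exact mul_ne_zero hβ (neg_ne_zero.mpr huv)
    · refine ⟨v, Submodule.subset_span (by simp), ?_⟩
      rw [om_add_left, om_smul_left, om_smul_left, om_self, mul_zero, add_zero]
      exact mul_ne_zero hα huv

end Cfsg.Agent.Helper12.SpTwo
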