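import Cfsg.Agent.Helper12.SpTwoC

set_option autoImplicit false

/-!
# Subgroups containing the Coxeter element
-/

namespace Cfsg.Agent.Helper12.SpTwo

open Matrix Cfsg.Agent.Helper2.Sp

section Orbit

variable {F : Type*} [Field F] {n : ℕ}

theorem cox_orbit_forward (S : Set (Fin (n + 1) ⊕ Fin (n + 1) → F))
    (hS : ∀ v ∈ S, act (cox F n) v ∈ S) (h0 : eb 0 ∈ S) :
    (∀ i, eb i ∈ S) ∧ (∀ i, fb i ∈ S) := by
  have he : ∀ i : Fin (n + 1), eb i ∈ S := by
    intro i
    induction i using Fin.induction with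
    | zero => exact h0
    | succ i ih =>
      rw [← act_cox_eb_castSucc]
      exact hS _ ih
  refine ⟨he, ?_⟩
  intro i
  induction i using Fin.induction with
  | zero =>
    rw [← act_cox_eb_last]
    exact hS _ (he _)
  | succ i ih =>
    rw [← act_cox_fb_castSucc]
    exact hS _ ih

theorem cox_orbit_back (S : Set (Fin (n + 1) ⊕ Fin (n + 1) → F))
    (hS : ∀ v ∈ S, act (cox F n) v ∈ S) (hneg : ∀ v ∈ S, -v ∈ S) (j : Fin (n + 1))
    (hj : fb j ∈ S) : eb 0 ∈ S := by
  have h1 : ∀ k, j.val ≤ k → ∀ hk : k < n + 1, fb (⟨k, hk⟩ : Fin (n + 1)) ∈ S := by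
    intro k hjk
    induction k, hjk using Nat.le_induction with
    | base =>
      intro _
      exact hj
    | succ k hk ih =>
      intro hk'
      have := hS _ (ih (by omega))
      have e : (⟨k, by omega⟩ : Fin (n + 1)) = Fin.castSucc (⟨k, by omega⟩ : Fin n) := rfl
      rw [e, act_cox_fb_castSucc] at this
      exact this
  have h2 : fb (Fin.last n) ∈ S := h1 n (by omega) (by omega)
  have h3 := hneg _ (hS _ h2)
  rwa [act_cox_fb_last, neg_neg] at h3

end Orbit

section Crit

variable {F : Type*} [Field F] {M : ℕ}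

theorem act_ne_zero {l : Type*} [DecidableEq l] [Fintype l] (g : symplecticGroup l F)
    {x : l ⊕ l → F} (hx : x ≠ 0) : act g x ≠ 0 := by
  intro h
  apply hx
  have := act_inv_eq h
  rw [act_zero] at this
  exact this.symm

theorem act_cox_mem_plane (i : Fin (M + 1)) {v : Fin (M + 2) ⊕ Fin (M + 2) → F}
    (hv : v ∈ plane i.castSucc) : act (cox F (M + 1)) v ∈ plane i.succ := by
  obtain ⟨a, b, rfl⟩ := Submodule.mem_span_pair.mp hv
  rw [act_add, act_smul, act_smul, act_cox_eb_castSucc, act_cox_fb_castSucc]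
  exact (plane i.succ).add_mem ((plane i.succ).smul_mem _ (eb_mem_plane _))
    ((plane i.succ).smul_mem _ (fb_mem_plane _))

/-- A subgroup containing the Coxeter element, the full root group of `e_0`, and the full root
group of a vector with nonzero components in the first two planes, is everything. -/
theorem eq_top_of_cox {H : Subgroup (symplecticGroup (Fin (M + 2)) F)}
    (hb : cox F (M + 1) ∈ H) (he0 : (eb 0 : Fin (M + 2) ⊕ Fin (M + 2) → F) ∈ TS H)
    {y z : Fin (M + 2) ⊕ Fin (M + 2) → F} (hy : y ∈ plane 0) (hz : z ∈ plane 1)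
    (hy0 : y ≠ 0) (hz0 : z ≠ 0) (hyz : y + z ∈ TS H) : H = ⊤ := by
  obtain ⟨he, hf⟩ := cox_orbit_forward (TS H) (fun v hv => act_mem_TS hb hv) he0
  apply eq_top_of_chain he hf
  have key : ∀ k, ∀ hk : k < M + 1,
      ∃ y ∈ (plane (⟨k, by omega⟩ : Fin (M + 2)) : Submodule F (Fin (M + 2) ⊕ Fin (M + 2) → F)),
      ∃ z ∈ (plane (⟨k + 1, by omega⟩ : Fin (M + 2)) :
        Submodule F (Fin (M + 2) ⊕ Fin (M + 2) → F)), y ≠ 0 ∧ z ≠ 0 ∧ y + z ∈ TS H := by
    intro k
    induction k with
    | zero =>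
      intro _
      exact ⟨y, hy, z, hz, hy0, hz0, hyz⟩
    | succ k ih =>
      intro hk
      obtain ⟨y', hy', z', hz', hy0', hz0', hyz'⟩ := ih (by omega)
      refine ⟨act (cox F (M + 1)) y', ?_, act (cox F (M + 1)) z', ?_, act_ne_zero _ hy0',
        act_ne_zero _ hz0', ?_⟩
      · exact act_cox_mem_plane (⟨k, by omega⟩ : Fin (M + 1)) hy'
      · exact act_cox_mem_plane (⟨k + 1, by omega⟩ : Fin (M + 1)) hz'
      · rw [← act_add]
        exact act_mem_TS hb hyz'
  intro i
  obtain ⟨y', hy', z', hz', h⟩ := key i.val i.isLt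
  exact ⟨y', hy', z', hz', h⟩

end Crit

section Eigen

variable {l : Type*} [DecidableEq l] [Fintype l] {F : Type*} [Field F] [Fintype F]

/-- If `s ∈ H` scales `v` by a generator of the multiplicative group and `Tg v 1 ∈ H`, then the whole
root group of `v` lies in `H`. -/
theorem mem_TS_of_eigen {H : Subgroup (symplecticGroup l F)} {s : symplecticGroup l F} (hs : s ∈ H)
    {v : l ⊕ l → F} {μ : Fˣ} (hμ : ∀ x : Fˣ, x ∈ Submonoid.powers μ)
    (hv : act s v = (μ : F) • v) (h1 : v ∈ TSc H 1) : v ∈ TS H := by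
  -- the additive group of admissible parameters
  let A : AddSubgroup F :=
    { carrier := {c | Tg v c ∈ H}
      zero_mem' := by
        show Tg v 0 ∈ H
        rw [Tg_zero]
        exact H.one_mem
      add_mem' := by
        intro c d hc hd
        show Tg v (c + d) ∈ H
        rw [← Tg_add]
        exact H.mul_mem hc hd
      neg_mem' := by
        intro c hc
        show Tg v (-c) ∈ H
        rw [← Tg_inv]
        exact H.inv_mem hc }
  have hsq : ∀ x : F, x ^ 2 ∈ A := by
    intro x
    by_cases hx : x = 0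
    · rw [hx]
      simpa using A.zero_mem
    · obtain ⟨k, hk⟩ := hμ (Units.mk0 x hx)
      have hxk : x = (μ : F) ^ k := by
        have := congrArg Units.val hk
        simp only [Units.val_pow_eq_pow_val, Units.val_mk0] at this
        exact this.symm
      show Tg v (x ^ 2) ∈ H
      have e : Tg v (x ^ 2) = Tg (act (s ^ k) v) 1 := by
        rw [act_pow_smul hv k, Tg_smul, mul_one, hxk]
      rw [e]
      exact act_mem_TSc (H.pow_mem hs k) h1
  intro c
  show c ∈ A
  by_cases h2 : (2 : F) = 0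
  · haveI : CharP F 2 := CharTwo.of_one_ne_zero_of_two_eq_zero one_ne_zero h2
    obtain ⟨r, hr⟩ := FiniteField.isSquare_of_char_two (ringChar.eq F 2) c
    rw [hr, ← pow_two]
    exact hsq r
  · have e : c = ((c + 1) / 2) ^ 2 - ((c - 1) / 2) ^ 2 := by
      field_simp
      ring
    rw [e]
    exact A.sub_mem (hsq _) (hsq _)

end Eigen

end Cfsg.Agent.Helper12.SpTwo
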