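import Cfsg.Agent.Helper12.SpTwoD

set_option autoImplicit false

/-!
# Two generators for `Sp_{2m}(q)`, `m ≥ 2`
-/

namespace Cfsg.Agent.Helper12.SpTwo

open Matrix Cfsg.Agent.Helper2.Sp

variable {F : Type*} [Field F] [Fintype F] {M : ℕ}

local notation "VV" => (Fin (M + 2) ⊕ Fin (M + 2) → F)

theorem zero_ne_one_fin : (0 : Fin (M + 2)) ≠ 1 := by
  intro h
  have := congrArg Fin.val h
  simp at this

/-- The short root element `e_1 ↦ e_1 + e_0`, `f_0 ↦ f_0 - f_1`. -/
def rr (F : Type*) [Field F] (M : ℕ) : symplecticGroup (Fin (M + 2)) F :=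
  Rg 1 (eb 0) (fb 1)

theorem act_rr (x : VV) :
    act (rr F M) x = x + (om (eb 0) x • fb 1 + om (fb 1) x • eb 0) := by
  unfold rr act
  rw [Rg_mulVec (by rw [om_eb_fb, if_neg zero_ne_one_fin]), one_smul]

theorem act_rr_eb0 : act (rr F M) (eb 0) = eb 0 := by
  rw [act_rr, om_eb_eb, om_fb_eb, if_neg zero_ne_one_fin.symm, zero_smul, zero_smul, add_zero,
    add_zero]

theorem act_rr_fb1 : act (rr F M) (fb 1) = fb 1 := by
  rw [act_rr, om_eb_fb, om_fb_fb, if_neg zero_ne_one_fin, zero_smul, zero_smul, add_zero,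
    add_zero]

theorem act_rr_eb1 : act (rr F M) (eb 1) = (eb 1 : VV) + eb 0 := by
  rw [act_rr, om_eb_eb, om_fb_eb, if_pos rfl, zero_smul, one_smul, zero_add]

section Split

variable (μ : Fˣ)

/-- The diagonal part. -/
def dd (μ : Fˣ) : Fin (M + 2) → Fˣ := Function.update 1 1 μ⁻¹

/-- The semisimple element: a conjugate of a diagonal element. -/
def ss (M : ℕ) (μ : Fˣ) : symplecticGroup (Fin (M + 2)) F :=
  rr F M * diagSp (dd μ) * (rr F M)⁻¹

theorem act_ss_eb0 : act (ss M μ) (eb 0 : VV) = eb 0 := by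
  unfold ss
  rw [act_mul, act_mul, act_inv_eq act_rr_eb0, act_diagSp_eb]
  have : dd μ (0 : Fin (M + 2)) = 1 := by
    unfold dd
    rw [Function.update_of_ne zero_ne_one_fin]
    rfl
  rw [this, Units.val_one, one_smul, act_rr_eb0]

theorem act_ss_fb1 : act (ss M μ) (fb 1 : VV) = (μ : F) • fb 1 := by
  unfold ss
  rw [act_mul, act_mul, act_inv_eq act_rr_fb1, act_diagSp_fb]
  have : dd μ (1 : Fin (M + 2)) = μ⁻¹ := by
    unfold dd
    rw [Function.update_self]
  rw [this, inv_inv, act_smul, act_rr_fb1]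

theorem act_ss_eb1 : act (ss M μ) (eb 1 : VV) =
    (((μ⁻¹ : Fˣ) : F) - 1) • eb 0 + ((μ⁻¹ : Fˣ) : F) • eb 1 := by
  unfold ss
  have h1 : act (rr F M) ((eb 1 : VV) - eb 0) = eb 1 := by
    rw [act_sub, act_rr_eb1, act_rr_eb0, add_sub_cancel_right]
  rw [act_mul, act_mul, act_inv_eq h1, act_sub, act_diagSp_eb, act_diagSp_eb]
  have e0 : dd μ (0 : Fin (M + 2)) = 1 := by
    unfold dd
    rw [Function.update_of_ne zero_ne_one_fin]
    rfl
  have e1 : dd μ (1 : Fin (M + 2)) = μ⁻¹ := by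
    unfold dd
    rw [Function.update_self]
  rw [e0, e1, Units.val_one, one_smul, act_sub, act_smul, act_rr_eb1, act_rr_eb0, smul_add,
    sub_smul, one_smul]
  abel

theorem ss_pow_card : (ss M μ) ^ (Fintype.card F - 1) = 1 := by
  classical
  unfold ss
  rw [conj_pow, diagSp_pow]
  have : (dd μ : Fin (M + 2) → Fˣ) ^ (Fintype.card F - 1) = 1 := by
    funext i
    rw [Pi.pow_apply, ← Fintype.card_units, pow_card_eq_one]
    rfl
  rw [this, diagSp_one, mul_one, mul_inv_cancel]

theorem commute_Tg_of_fix {l : Type*} [DecidableEq l] [Fintype l] {s : symplecticGroup l F}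
    {v : l ⊕ l → F} (h : act s v = v) (c : F) : Commute (Tg v c) s := by
  have := conj_Tg' s v c
  rw [h, mul_inv_eq_iff_eq_mul] at this
  exact this.symm

/-- Generation in the case `|F| ≥ 3`. -/
theorem closure_split (hμ : ∀ x : Fˣ, x ∈ Submonoid.powers μ) (hμ1 : μ ≠ 1) :
    Subgroup.closure ({Tg (eb 0) 1 * ss M μ, cox F (M + 1)} : Set (symplecticGroup (Fin (M + 2)) F)) = ⊤ := by
  set H := Subgroup.closure ({Tg (eb 0) 1 * ss M μ, cox F (M + 1)} :
    Set (symplecticGroup (Fin (M + 2)) F)) with hH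
  have ha : Tg (eb 0) 1 * ss M μ ∈ H := Subgroup.subset_closure (by simp)
  have hb : cox F (M + 1) ∈ H := Subgroup.subset_closure (by simp)
  have hcomm : Commute (Tg (eb 0 : VV) 1) (ss M μ) := commute_Tg_of_fix (act_ss_eb0 μ) 1
  have hT : Tg (eb 0 : VV) 1 ∈ H := by
    have h1 := H.pow_mem ha (Fintype.card F - 1)
    rw [hcomm.mul_pow, ss_pow_card, mul_one, Tg_pow, mul_one] at h1
    have h2 : ((Fintype.card F - 1 : ℕ) : F) = -1 := by
      rw [Nat.cast_sub Fintype.card_pos, FiniteField.cast_card_eq_zero, Nat.cast_one, zero_sub]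
    rw [h2] at h1
    have h3 := H.inv_mem h1
    rwa [Tg_inv, neg_neg] at h3
  have hs : ss M μ ∈ H := by
    have := H.mul_mem (H.inv_mem hT) ha
    rwa [inv_mul_cancel_left] at this
  -- the root group of `f_1`
  have hf1 : (fb 1 : VV) ∈ TSc H 1 :=
    (cox_orbit_forward (TSc H 1) (fun v hv => act_mem_TSc hb hv) hT).2 1
  have hf1' : (fb 1 : VV) ∈ TS H := mem_TS_of_eigen hs hμ (act_ss_fb1 μ) hf1
  have he0 : (eb 0 : VV) ∈ TS H :=
    cox_orbit_back (TS H) (fun v hv => act_mem_TS hb hv) (fun v hv => neg_mem_TS hv) 1 hf1'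
  have he1 : (eb 1 : VV) ∈ TS H :=
    (cox_orbit_forward (TS H) (fun v hv => act_mem_TS hb hv) he0).1 1
  have hmix := act_mem_TS hs he1
  rw [act_ss_eb1] at hmix
  have hu : ((μ⁻¹ : Fˣ) : F) ≠ 0 := Units.ne_zero _
  have hu1 : ((μ⁻¹ : Fˣ) : F) - 1 ≠ 0 := by
    intro h
    apply hμ1
    have : ((μ⁻¹ : Fˣ) : F) = ((1 : Fˣ) : F) := by rw [Units.val_one]; exact sub_eq_zero.mp h
    have := Units.ext this
    exact inv_eq_one.mp this
  exact eq_top_of_cox hb he0 ((plane (0 : Fin (M + 2))).smul_mem _ (eb_mem_plane 0))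
    ((plane (1 : Fin (M + 2))).smul_mem _ (eb_mem_plane 1)) (smul_ne_zero hu1 (eb_ne_zero 0))
    (smul_ne_zero hu (eb_ne_zero 1)) hmix

end Split

section Two

/-- The element of order three used over the field with two elements. -/
def tt (F : Type*) [Field F] (M : ℕ) : symplecticGroup (Fin (M + 2)) F :=
  Tg ((eb 0 : Fin (M + 2) ⊕ Fin (M + 2) → F) + eb 1) 1 * Tg (fb 1) 1

theorem act_tt_eb0 : act (tt F M) (eb 0 : VV) = eb 0 := by
  unfold tt
  have h1 : act (Tg (fb 1) 1) (eb 0 : VV) = eb 0 := by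
    rw [act_Tg, om_fb_eb, if_neg zero_ne_one_fin.symm, mul_zero, zero_smul, add_zero]
  rw [act_mul, h1, act_Tg, om_add_left, om_eb_eb, om_eb_eb, add_zero, mul_zero, zero_smul,
    add_zero]

theorem act_tt_eb1 : act (tt F M) (eb 1 : VV) = -eb 0 + fb 1 := by
  unfold tt
  have h1 : act (Tg (fb 1) 1) (eb 1 : VV) = eb 1 + fb 1 := by
    rw [act_Tg, om_fb_eb, if_pos rfl, mul_one, one_smul]
  rw [act_mul, h1, act_Tg]
  simp only [om_add_left, om_add_right, om_eb_eb, om_eb_fb, if_neg zero_ne_one_fin, if_pos,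
    add_zero, zero_add, mul_neg, mul_one, neg_smul, one_smul]
  abel

theorem tt_pow_three {l : Type*} [DecidableEq l] [Fintype l] (h2 : (2 : F) = 0)
    {u v : l ⊕ l → F} (huv : om u v = -1) : (Tg u 1 * Tg v 1) ^ 3 = 1 := by
  have hvu : om v u = 1 := by rw [om_swap u v, huv, neg_neg]
  have step : ∀ x, act (Tg u 1 * Tg v 1) x = x + om v x • v + (om u x - om v x) • u := by
    intro x
    rw [act_mul, act_Tg, act_Tg, om_add_right, om_smul_right, huv, one_mul, one_mul]
    congr 2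
    ring
  have hp : ∀ x, om u (act (Tg u 1 * Tg v 1) x) = om u x - om v x := by
    intro x
    rw [step, om_add_right, om_add_right, om_smul_right, om_smul_right, om_self, huv]
    ring
  have hr : ∀ x, om v (act (Tg u 1 * Tg v 1) x) = om u x := by
    intro x
    rw [step, om_add_right, om_add_right, om_smul_right, om_smul_right, om_self, hvu]
    ring
  apply ext_mulVec
  intro x
  show act ((Tg u 1 * Tg v 1) ^ 3) x = act 1 x
  rw [act_one, pow_succ, pow_two, act_mul, act_mul]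
  rw [step (act (Tg u 1 * Tg v 1) (act (Tg u 1 * Tg v 1) x)), hp, hr, hp, hr,
    step (act (Tg u 1 * Tg v 1) x), hp, hr, step x]
  funext k
  simp only [Pi.add_apply, Pi.smul_apply, smul_eq_mul]
  linear_combination (om u x * v k - om v x * u k) * h2

theorem closure_two (hF : Fintype.card F = 2) :
    Subgroup.closure ({Tg (eb 0) 1 * tt F M, cox F (M + 1)} : Set (symplecticGroup (Fin (M + 2)) F)) = ⊤ := by
  set H := Subgroup.closure ({Tg (eb 0) 1 * tt F M, cox F (M + 1)} :
    Set (symplecticGroup (Fin (M + 2)) F)) with hH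
  have ha : Tg (eb 0) 1 * tt F M ∈ H := Subgroup.subset_closure (by simp)
  have hb : cox F (M + 1) ∈ H := Subgroup.subset_closure (by simp)
  have : Fact (Nat.Prime 2) := ⟨Nat.prime_two⟩
  have hchar : CharP F 2 := charP_of_card_eq_prime hF
  have h2 : (2 : F) = 0 := by
    have : ((2 : ℕ) : F) = 0 := CharP.cast_eq_zero F 2
    exact_mod_cast this
  have h01 : ∀ c : F, c = 0 ∨ c = 1 := by
    intro c
    by_contra h
    push Not at h
    have : 2 < Fintype.card F :=
      Fintype.two_lt_card_iff.mpr ⟨0, 1, c, zero_ne_one, h.1.symm, h.2.symm⟩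
    omega
  have hcomm : Commute (Tg (eb 0 : VV) 1) (tt F M) := commute_Tg_of_fix act_tt_eb0 1
  have h3 : (tt F M) ^ 3 = 1 := by
    unfold tt
    apply tt_pow_three h2
    rw [om_add_left, om_eb_fb, om_eb_fb, if_neg zero_ne_one_fin, if_pos rfl, zero_add]
  have hT : Tg (eb 0 : VV) 1 ∈ H := by
    have h1 := H.pow_mem ha 3
    rw [hcomm.mul_pow, h3, mul_one, Tg_pow, mul_one] at h1
    have e : ((3 : ℕ) : F) = 1 := by
      push_cast
      linear_combination h2
    rwa [e] at h1
  have hs : tt F M ∈ H := by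
    have := H.mul_mem (H.inv_mem hT) ha
    rwa [inv_mul_cancel_left] at this
  have he0 : (eb 0 : VV) ∈ TS H := by
    intro c
    rcases h01 c with rfl | rfl
    · rw [Tg_zero]
      exact H.one_mem
    · exact hT
  have he1 : (eb 1 : VV) ∈ TS H :=
    (cox_orbit_forward (TS H) (fun v hv => act_mem_TS hb hv) he0).1 1
  have hmix := act_mem_TS hs he1
  rw [act_tt_eb1] at hmix
  have hneg : -(eb 0 : VV) ∈ plane (0 : Fin (M + 2)) := by
    rw [neg_mem_iff]
    exact eb_mem_plane 0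
  exact eq_top_of_cox hb he0 hneg
    (fb_mem_plane 1) (neg_ne_zero.mpr (eb_ne_zero 0)) (fb_ne_zero 1) hmix

end Two

/-- `Sp_{2m}(F)` is generated by two elements for `m ≥ 2` and every finite field `F`. -/
theorem exists_two_generators (M : ℕ) :
    ∃ a b : symplecticGroup (Fin (M + 2)) F,
      Subgroup.closure ({a, b} : Set (symplecticGroup (Fin (M + 2)) F)) = ⊤ := by
  classical
  by_cases hF : Fintype.card F = 2
  · exact ⟨_, _, closure_two hF⟩
  · obtain ⟨μ, hμ⟩ := IsCyclic.exists_monoid_generator (α := Fˣ)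
    refine ⟨_, _, closure_split μ hμ ?_⟩
    intro h1
    apply hF
    have hcard : Fintype.card Fˣ = 1 := by
      rw [Fintype.card_eq_one_iff]
      refine ⟨1, fun y => ?_⟩
      obtain ⟨k, hk⟩ := hμ y
      simp only at hk
      rw [← hk, h1, one_pow]
    rw [Fintype.card_units] at hcard
    have := Fintype.one_lt_card (α := F)
    omega

end Cfsg.Agent.Helper12.SpTwo
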