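import Mathlib

set_option autoImplicit false

/-!
# A non-commutative Hessenberg expansion

For a sequence `z : ℕ → A` in a ring with `z 0 = 1`, the signed sum over the permutations `κ` of
`Fin n` with `κ i ≤ i + 1` of the ordered products `z (1 + 0 - κ 0) ⋯ z (1 + (n-1) - κ (n-1))`
satisfies the Newton-type recursion `E (n+1) = ∑ k ≤ n, (-1)^k E (n-k) z (k+1)`.
-/

namespace Cfsg.Agent.Helper12.StVal

open Equiv Finset

/-- Decomposition of a permutation of `Fin (n+1)` by the image of the last element. -/
def decompLast {n : ℕ} : Perm (Fin (n + 1)) ≃ Fin (n + 1) × Perm (Fin n) :=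
  ((Equiv.permCongr (finSuccEquivLast (n := n))).trans Equiv.Perm.decomposeOption).trans
    (Equiv.prodCongr finSuccEquivLast.symm (Equiv.refl _))

theorem decompLast_symm_apply_last {n : ℕ} (p : Fin (n + 1)) (e : Perm (Fin n)) :
    decompLast.symm (p, e) (Fin.last n) = p := by
  simp [decompLast]

theorem decompLast_symm_apply_castSucc {n : ℕ} (p : Fin (n + 1)) (e : Perm (Fin n)) (x : Fin n) :
    decompLast.symm (p, e) x.castSucc = swap (Fin.last n) p (e x).castSucc := by
  refine Fin.lastCases ?_ ?_ p
  · simp [decompLast]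
  · intro i
    by_cases h : i = e x
    · simp [h, decompLast]
    · simp [decompLast, swap_apply_def, Ne.symm h]

theorem decompLast_symm_sign {n : ℕ} (p : Fin (n + 1)) (e : Perm (Fin n)) :
    Perm.sign (decompLast.symm (p, e)) = ite (p = Fin.last n) 1 (-1) * Perm.sign e := by
  refine Fin.lastCases ?_ ?_ p <;> simp [decompLast]

section Sums

variable {A : Type*} [Ring A]

/-- The permutations occurring in the expansion: `κ i ≤ i + 1`. -/
def Valid {n : ℕ} (κ : Perm (Fin n)) : Prop := ∀ i : Fin n, (κ i).val ≤ 1 + i.val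

instance {n : ℕ} (κ : Perm (Fin n)) : Decidable (Valid κ) := by
  unfold Valid; infer_instance

/-- The composition attached to a permutation. -/
def muOf {n : ℕ} (κ : Perm (Fin n)) (i : Fin n) : ℕ := 1 + i.val - (κ i).val

/-- Ordered product `z (μ 0) * z (μ 1) * ⋯`. -/
def ordProd (z : ℕ → A) {n : ℕ} (μ : Fin n → ℕ) : A := (List.ofFn fun i => z (μ i)).prod

theorem ordProd_zero (z : ℕ → A) (μ : Fin 0 → ℕ) : ordProd z μ = 1 := by
  simp [ordProd]

theorem ordProd_cons (z : ℕ → A) {n : ℕ} (μ : Fin (n + 1) → ℕ) :
    ordProd z μ = z (μ 0) * ordProd z (fun i : Fin n => μ i.succ) := by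
  simp [ordProd, List.ofFn_succ]

theorem ordProd_snoc (z : ℕ → A) {n : ℕ} (μ : Fin (n + 1) → ℕ) :
    ordProd z μ = ordProd z (fun i : Fin n => μ i.castSucc) * z (μ (Fin.last n)) := by
  unfold ordProd
  rw [List.ofFn_succ', List.concat_eq_append, List.prod_append, List.prod_singleton]

/-- The signed sum over the valid permutations. -/
def Esum (z : ℕ → A) (n : ℕ) : A :=
  ∑ κ : Perm (Fin n), if Valid κ then ((Perm.sign κ : ℤˣ) : ℤ) • ordProd z (muOf κ) else 0

/-- The same sum with the last index shifted by `s`. -/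
def Fsum (z : ℕ → A) (s n : ℕ) : A :=
  ∑ κ : Perm (Fin (n + 1)), if Valid κ then
    ((Perm.sign κ : ℤˣ) : ℤ) • (ordProd z (fun i : Fin n => muOf κ i.castSucc) *
      z (muOf κ (Fin.last n) + s)) else 0

theorem Esum_zero (z : ℕ → A) : Esum z 0 = 1 := by
  unfold Esum
  rw [Fintype.sum_eq_single (1 : Perm (Fin 0))]
  · rw [if_pos (show Valid (1 : Perm (Fin 0)) from fun i => i.elim0)]
    simp [ordProd_zero]
  · intro κ hκ
    exact absurd (Subsingleton.elim κ 1) hκ

theorem Esum_succ (z : ℕ → A) (n : ℕ) : Esum z (n + 1) = Fsum z 0 n := by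
  unfold Esum Fsum
  apply Finset.sum_congr rfl
  intro κ _
  rw [ordProd_snoc]
  rfl

theorem Fsum_zero (z : ℕ → A) (s : ℕ) : Fsum z s 0 = z (1 + s) := by
  unfold Fsum
  rw [Fintype.sum_eq_single (1 : Perm (Fin 1))]
  · rw [if_pos (show Valid (1 : Perm (Fin 1)) from fun i => by simp)]
    simp [ordProd_zero, muOf]
  · intro κ hκ
    exact absurd (Subsingleton.elim κ 1) hκ

end Sums

section Peel

variable {A : Type*} [Ring A]

theorem dl_last_castSucc {n : ℕ} (e : Perm (Fin n)) (x : Fin n) :
    decompLast.symm (Fin.last n, e) x.castSucc = (e x).castSucc := by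
  rw [decompLast_symm_apply_castSucc, swap_self]; rfl

theorem dl_cs_castSucc_eq {n : ℕ} (a : Fin n) (e : Perm (Fin n)) (x : Fin n) (h : e x = a) :
    decompLast.symm (a.castSucc, e) x.castSucc = Fin.last n := by
  rw [decompLast_symm_apply_castSucc, h, swap_apply_right]

theorem dl_cs_castSucc_ne {n : ℕ} (a : Fin n) (e : Perm (Fin n)) (x : Fin n) (h : e x ≠ a) :
    decompLast.symm (a.castSucc, e) x.castSucc = (e x).castSucc := by
  rw [decompLast_symm_apply_castSucc, swap_apply_of_ne_of_ne]
  · exact (Fin.castSucc_lt_last _).ne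
  · intro h'
    exact h (Fin.castSucc_injective _ h')

theorem valid_last {n : ℕ} (e : Perm (Fin n)) :
    Valid (decompLast.symm (Fin.last n, e)) ↔ Valid e := by
  constructor
  · intro h x
    have := h x.castSucc
    rw [dl_last_castSucc] at this
    simpa using this
  · intro h i
    refine Fin.lastCases ?_ (fun x => ?_) i
    · rw [decompLast_symm_apply_last]; omega
    · rw [dl_last_castSucc]
      have := h x
      simpa using this

theorem valid_cs {n : ℕ} (a : Fin (n + 1)) (e : Perm (Fin (n + 1))) :
    Valid (decompLast.symm (a.castSucc, e)) ↔ (e (Fin.last n) = a ∧ Valid e) := by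
  constructor
  · intro h
    have hx0 : e.symm a = Fin.last n := by
      have := h (e.symm a).castSucc
      rw [dl_cs_castSucc_eq a e _ (by simp)] at this
      simp only [Fin.val_last, Fin.val_castSucc] at this
      apply Fin.ext
      have := (e.symm a).2
      simp only [Fin.val_last]
      omega
    have hea : e (Fin.last n) = a := by rw [← hx0]; simp
    refine ⟨hea, fun x => ?_⟩
    by_cases hx : e x = a
    · have : x = Fin.last n := e.injective (hx.trans hea.symm)
      subst this
      have := (e (Fin.last n)).2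
      simp only [Fin.val_last]
      omega
    · have := h x.castSucc
      rw [dl_cs_castSucc_ne a e x hx] at this
      simpa using this
  · rintro ⟨hea, h⟩ i
    refine Fin.lastCases ?_ (fun x => ?_) i
    · rw [decompLast_symm_apply_last]
      have := a.2
      simp only [Fin.val_castSucc, Fin.val_last]
      omega
    · by_cases hx : e x = a
      · have : x = Fin.last n := e.injective (hx.trans hea.symm)
        subst this
        rw [dl_cs_castSucc_eq a e _ hx]
        simp
      · rw [dl_cs_castSucc_ne a e x hx]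
        have := h x
        simpa using this

theorem muOf_last_castSucc {n : ℕ} (e : Perm (Fin n)) (x : Fin n) :
    muOf (decompLast.symm (Fin.last n, e)) x.castSucc = muOf e x := by
  unfold muOf
  rw [dl_last_castSucc]
  simp

theorem muOf_last_last {n : ℕ} (e : Perm (Fin n)) :
    muOf (decompLast.symm (Fin.last n, e)) (Fin.last n) = 1 := by
  unfold muOf
  rw [decompLast_symm_apply_last]
  simp

theorem muOf_cs_inner {n : ℕ} (e : Perm (Fin (n + 1))) (y : Fin n) :
    muOf (decompLast.symm ((e (Fin.last n)).castSucc, e)) y.castSucc.castSucc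
      = muOf e y.castSucc := by
  unfold muOf
  rw [dl_cs_castSucc_ne]
  · simp
  · intro h
    have := e.injective h
    exact absurd this (Fin.castSucc_lt_last y).ne

theorem muOf_cs_mid {n : ℕ} (e : Perm (Fin (n + 1))) :
    muOf (decompLast.symm ((e (Fin.last n)).castSucc, e)) (Fin.last n).castSucc = 0 := by
  unfold muOf
  rw [dl_cs_castSucc_eq _ _ _ rfl]
  simp only [Fin.val_last, Fin.val_castSucc]
  omega

theorem muOf_cs_last {n : ℕ} (e : Perm (Fin (n + 1))) :
    muOf (decompLast.symm ((e (Fin.last n)).castSucc, e)) (Fin.last (n + 1))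
      = muOf e (Fin.last n) + 1 := by
  unfold muOf
  rw [decompLast_symm_apply_last]
  have := (e (Fin.last n)).2
  simp only [Fin.val_last, Fin.val_castSucc]
  omega

theorem Fsum_succ (z : ℕ → A) (hz : z 0 = 1) (s n : ℕ) :
    Fsum z s (n + 1) = Fsum z 0 n * z (1 + s) - Fsum z (s + 1) n := by
  classical
  set G : Perm (Fin (n + 2)) → A := fun κ => if Valid κ then
    ((Perm.sign κ : ℤˣ) : ℤ) • (ordProd z (fun i : Fin (n + 1) => muOf κ i.castSucc) *
      z (muOf κ (Fin.last (n + 1)) + s)) else 0 with hG
  have h1 : Fsum z s (n + 1) =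
      ∑ p : Fin (n + 2), ∑ e : Perm (Fin (n + 1)), G (decompLast.symm (p, e)) := by
    unfold Fsum
    rw [← Fintype.sum_prod_type']
    exact (decompLast.symm.sum_comp G).symm
  rw [h1, Fin.sum_univ_castSucc]
  have hlast : ∑ e : Perm (Fin (n + 1)), G (decompLast.symm (Fin.last (n + 1), e))
      = Fsum z 0 n * z (1 + s) := by
    unfold Fsum
    rw [Finset.sum_mul]
    apply Finset.sum_congr rfl
    intro e _
    rw [hG]
    simp only
    by_cases hv : Valid e
    · rw [if_pos ((valid_last e).mpr hv), if_pos hv, decompLast_symm_sign, if_pos rfl, one_mul,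
        muOf_last_last, smul_mul_assoc]
      congr 1
      have : (fun i : Fin (n + 1) => muOf (decompLast.symm (Fin.last (n + 1), e)) i.castSucc)
          = muOf e := funext (muOf_last_castSucc e)
      rw [this, ordProd_snoc, add_zero]
    · rw [if_neg (fun h => hv ((valid_last e).mp h)), if_neg hv, zero_mul]
  have hrest : ∑ a : Fin (n + 1), ∑ e : Perm (Fin (n + 1)), G (decompLast.symm (a.castSucc, e))
      = - Fsum z (s + 1) n := by
    rw [Finset.sum_comm]
    unfold Fsum
    rw [← Finset.sum_neg_distrib]
    apply Finset.sum_congr rfl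
    intro e _
    by_cases hv : Valid e
    · rw [Finset.sum_eq_single (e (Fin.last n))]
      · rw [hG]
        simp only
        rw [if_pos ((valid_cs _ e).mpr ⟨rfl, hv⟩), if_pos hv, decompLast_symm_sign,
          if_neg (Fin.castSucc_lt_last _).ne, muOf_cs_last, ordProd_snoc]
        have : (fun i : Fin n => muOf (decompLast.symm ((e (Fin.last n)).castSucc, e))
            i.castSucc.castSucc) = fun i : Fin n => muOf e i.castSucc :=
          funext (muOf_cs_inner e)
        rw [this, muOf_cs_mid, hz, mul_one]
        simp only [Units.val_neg, neg_mul, one_mul, neg_smul]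
        rw [add_assoc, add_comm 1 s]
      · intro a _ ha
        rw [hG]
        simp only
        rw [if_neg]
        intro h
        exact ha ((valid_cs a e).mp h).1.symm
      · intro h
        exact absurd (Finset.mem_univ _) h
    · rw [if_neg hv, neg_zero]
      apply Finset.sum_eq_zero
      intro a _
      rw [hG]
      simp only
      rw [if_neg]
      intro h
      exact hv ((valid_cs a e).mp h).2
  rw [hlast, hrest]
  abel

end Peel

section Closed

variable {A : Type*} [Ring A]

theorem Fsum_eq (z : ℕ → A) (hz : z 0 = 1) : ∀ n s : ℕ,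
    Fsum z s n = ∑ k ∈ Finset.range (n + 1), (-1 : ℤ) ^ k • (Esum z (n - k) * z (k + 1 + s)) := by
  intro n
  induction n with
  | zero =>
    intro s
    rw [Fsum_zero]
    simp [Esum_zero, add_comm]
  | succ n ih =>
    intro s
    rw [Fsum_succ z hz, ih (s + 1), Finset.sum_range_succ' _ (n + 1), ← Esum_succ]
    simp only [pow_zero, one_smul, Nat.sub_zero, zero_add]
    have : ∑ k ∈ Finset.range (n + 1), (-1 : ℤ) ^ (k + 1) • (Esum z (n + 1 - (k + 1)) * z (k + 1 + 1 + s))
        = - ∑ k ∈ Finset.range (n + 1), (-1 : ℤ) ^ k • (Esum z (n - k) * z (k + 1 + (s + 1))) := by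
      rw [← Finset.sum_neg_distrib]
      apply Finset.sum_congr rfl
      intro k _
      rw [pow_succ, mul_neg_one, neg_smul, Nat.add_sub_add_right]
      congr 4
      omega
    rw [this]
    abel

/-- The Newton-type recursion. -/
theorem Esum_rec (z : ℕ → A) (hz : z 0 = 1) (n : ℕ) :
    Esum z (n + 1) = ∑ k ∈ Finset.range (n + 1), (-1 : ℤ) ^ k • (Esum z (n - k) * z (k + 1)) := by
  rw [Esum_succ, Fsum_eq z hz]

end Closed

end Cfsg.Agent.Helper12.StVal
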