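import Cfsg.Agent.Helper12.StValA

set_option autoImplicit false

/-!
# Flags of invariant subspaces, incidence matrices and the Möbius numbers
-/

namespace Cfsg.Agent.Helper12.StVal

open Module Finset

section Lattice

open scoped Classical

variable {F V : Type*} [Field F] [AddCommGroup V] [Module F V] [Finite V] (φ : Module.End F V)

/-- The `φ`-invariant subspaces. -/
@[ext] structure Inv where
  /-- the subspace -/
  sub : Submodule F V
  /-- invariance -/
  inv : ∀ v ∈ sub, φ v ∈ sub

instance : Finite (Inv φ) :=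
  Finite.of_injective (fun W : Inv φ => W.sub) (fun _ _ h => Inv.ext h)

noncomputable instance : Fintype (Inv φ) := Fintype.ofFinite _

/-- The zero subspace. -/
def ibot : Inv φ := ⟨⊥, fun v hv => by rw [Submodule.mem_bot] at hv ⊢; rw [hv, map_zero]⟩

/-- The whole space. -/
def itop : Inv φ := ⟨⊤, fun _ _ => Submodule.mem_top⟩

/-- Dimension of an invariant subspace. -/
noncomputable def idim (W : Inv φ) : ℕ := finrank F W.sub

theorem idim_ibot : idim φ (ibot φ) = 0 := by
  unfold idim ibot; simp

theorem eq_ibot_of_idim {W : Inv φ} (h : idim φ W = 0) : W = ibot φ := by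
  apply Inv.ext
  exact Submodule.finrank_eq_zero.mp h

theorem eq_of_le_of_idim {a b : Inv φ} (h : a.sub ≤ b.sub) (hd : idim φ b = idim φ a) : a = b := by
  apply Inv.ext
  exact Submodule.eq_of_le_of_finrank_eq h hd.symm

theorem idim_lt_of_lt {a b : Inv φ} (h : a.sub < b.sub) : idim φ a < idim φ b :=
  Submodule.finrank_lt_finrank_of_lt h

/-- The graded pieces of the zeta matrix. -/
noncomputable def zeta (k : ℕ) : Matrix (Inv φ) (Inv φ) ℤ :=
  Matrix.of fun a b => if a.sub ≤ b.sub ∧ idim φ b = idim φ a + k then 1 else 0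

theorem zeta_apply (k : ℕ) (a b : Inv φ) :
    zeta φ k a b = if a.sub ≤ b.sub ∧ idim φ b = idim φ a + k then 1 else 0 := rfl

theorem zeta_zero : zeta φ 0 = 1 := by
  ext a b
  rw [zeta_apply, Matrix.one_apply]
  by_cases h : a = b
  · subst h; simp
  · rw [if_neg h, if_neg]
    rintro ⟨h1, h2⟩
    exact h (eq_of_le_of_idim φ h1 (by simpa using h2))

/-- Flags from `a` to `b` with dimension jumps `μ`. -/
def IsFlag {n : ℕ} (μ : Fin n → ℕ) (a b : Inv φ) (W : Fin (n + 1) → Inv φ) : Prop :=
  W 0 = a ∧ W (Fin.last n) = b ∧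
    ∀ i : Fin n, (W i.castSucc).sub ≤ (W i.succ).sub ∧ idim φ (W i.succ) = idim φ (W i.castSucc) + μ i

/-- Peeling the first step of a flag. -/
def flagEquiv {n : ℕ} (μ : Fin (n + 1) → ℕ) (a b c : Inv φ) :
    {W : Fin (n + 2) → Inv φ // IsFlag φ μ a b W ∧ W 1 = c} ≃
      {W : Fin (n + 1) → Inv φ //
        (a.sub ≤ c.sub ∧ idim φ c = idim φ a + μ 0) ∧ IsFlag φ (fun i => μ i.succ) c b W} where
  toFun W := ⟨fun i => W.1 i.succ, by
    obtain ⟨W, ⟨h0, hl, hs⟩, h1⟩ := W
    refine ⟨?_, ?_, ?_, fun i => ?_⟩
    · have := hs 0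
      simp only [Fin.castSucc_zero, Fin.succ_zero_eq_one] at this
      rw [h0, h1] at this
      exact this
    · show W (0 : Fin (n + 1)).succ = c
      rw [Fin.succ_zero_eq_one]; exact h1
    · show W (Fin.last n).succ = b
      rw [Fin.succ_last]; exact hl
    · have := hs i.succ
      rw [← Fin.succ_castSucc] at this
      exact this⟩
  invFun W := ⟨Fin.cons a W.1, by
    obtain ⟨W, ⟨h1, h2⟩, h0, hl, hs⟩ := W
    refine ⟨⟨rfl, ?_, fun i => ?_⟩, ?_⟩
    · show (Fin.cons a W : Fin (n + 2) → Inv φ) (Fin.last (n + 1)) = b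
      rw [← Fin.succ_last, Fin.cons_succ]; exact hl
    · show ((Fin.cons a W : Fin (n + 2) → Inv φ) i.castSucc).sub ≤
          ((Fin.cons a W : Fin (n + 2) → Inv φ) i.succ).sub ∧
        idim φ ((Fin.cons a W : Fin (n + 2) → Inv φ) i.succ) =
          idim φ ((Fin.cons a W : Fin (n + 2) → Inv φ) i.castSucc) + μ i
      refine Fin.cases ?_ (fun j => ?_) i
      · rw [Fin.castSucc_zero, Fin.cons_zero, Fin.cons_succ, h0]
        exact ⟨h1, h2⟩
      · rw [← Fin.succ_castSucc, Fin.cons_succ, Fin.cons_succ]
        exact hs j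
    · show (Fin.cons a W : Fin (n + 2) → Inv φ) 1 = c
      rw [← Fin.succ_zero_eq_one, Fin.cons_succ, h0]⟩
  left_inv W := by
    obtain ⟨W, ⟨h0, hl, hs⟩, h1⟩ := W
    apply Subtype.ext
    funext i
    show (Fin.cons a (fun j => W j.succ) : Fin (n + 2) → Inv φ) i = W i
    refine Fin.cases ?_ (fun j => ?_) i
    · rw [Fin.cons_zero, h0]
    · rw [Fin.cons_succ]
  right_inv W := by
    apply Subtype.ext
    funext i
    show (Fin.cons a W.1 : Fin (n + 2) → Inv φ) i.succ = W.1 i
    rw [Fin.cons_succ]

theorem ordProd_zeta_apply {n : ℕ} (μ : Fin n → ℕ) (a b : Inv φ) :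
    ordProd (zeta φ) μ a b = (Nat.card {W : Fin (n + 1) → Inv φ // IsFlag φ μ a b W} : ℤ) := by
  induction n generalizing a with
  | zero =>
    rw [ordProd_zero, Matrix.one_apply]
    by_cases h : a = b
    · subst h
      rw [if_pos rfl]
      have : Unique {W : Fin 1 → Inv φ // IsFlag φ μ a a W} :=
        { default := ⟨fun _ => a, rfl, rfl, fun i => i.elim0⟩
          uniq := by
            rintro ⟨W, h0, _, _⟩
            apply Subtype.ext
            funext i
            show W i = a
            rw [Subsingleton.elim i 0, h0] }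
      rw [Nat.card_unique]; rfl
    · rw [if_neg h]
      have : IsEmpty {W : Fin 1 → Inv φ // IsFlag φ μ a b W} := by
        constructor
        rintro ⟨W, h0, hl, _⟩
        apply h
        rw [← h0, ← hl]
        rfl
      rw [Nat.card_of_isEmpty]; rfl
  | succ n ih =>
    rw [ordProd_cons, Matrix.mul_apply,
      Nat.card_congr (Equiv.sigmaFiberEquiv
        (fun W : {W : Fin (n + 2) → Inv φ // IsFlag φ μ a b W} => W.1 1)).symm, Nat.card_sigma]
    push_cast
    apply Finset.sum_congr rfl
    intro c _
    rw [zeta_apply, ih, Nat.card_congr ((Equiv.subtypeSubtypeEquivSubtypeInter _ _).trans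
      (flagEquiv φ μ a b c))]
    by_cases hc : a.sub ≤ c.sub ∧ idim φ c = idim φ a + μ 0
    · rw [if_pos hc, one_mul]
      congr 1
      apply Nat.card_congr
      exact Equiv.subtypeEquivRight (fun W => by simp [hc])
    · rw [if_neg hc, zero_mul]
      have : IsEmpty {W : Fin (n + 1) → Inv φ //
          (a.sub ≤ c.sub ∧ idim φ c = idim φ a + μ 0) ∧ IsFlag φ (fun i => μ i.succ) c b W} := by
        constructor
        rintro ⟨W, h1, _⟩
        exact hc h1
      rw [Nat.card_of_isEmpty]; rfl

/-- The Möbius numbers `μ(⊥, W)` of the lattice of invariant subspaces. -/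
noncomputable def mu0 (W : Inv φ) : ℤ :=
  if W = ibot φ then 1 else - ∑ W' : {W' : Inv φ // W'.sub < W.sub}, mu0 W'.1
termination_by idim φ W
decreasing_by exact idim_lt_of_lt φ W'.2

theorem mu0_ibot : mu0 φ (ibot φ) = 1 := by
  rw [mu0, if_pos rfl]

theorem mu0_of_ne {W : Inv φ} (h : W ≠ ibot φ) :
    mu0 φ W = - ∑ W' : Inv φ, if W'.sub < W.sub then mu0 φ W' else 0 := by
  rw [mu0, if_neg h]
  congr 1
  rw [← Finset.sum_filter]
  exact (Finset.sum_subtype (Finset.univ.filter fun W' : Inv φ => W'.sub < W.sub)
    (by simp) (fun W' => mu0 φ W')).symm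

/-- The defining recursion: the Möbius numbers below a nonzero `W` sum to zero. -/
theorem sum_mu0_le {W : Inv φ} (h : W ≠ ibot φ) :
    ∑ W' : Inv φ, (if W'.sub ≤ W.sub then mu0 φ W' else 0) = 0 := by
  have h1 : ∀ W' : Inv φ, (if W'.sub ≤ W.sub then mu0 φ W' else 0) =
      (if W'.sub < W.sub then mu0 φ W' else 0) + (if W' = W then mu0 φ W' else 0) := by
    intro W'
    by_cases hlt : W'.sub < W.sub
    · rw [if_pos hlt.le, if_pos hlt, if_neg, add_zero]
      rintro rfl
      exact lt_irrefl _ hlt
    · by_cases heq : W' = W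
      · subst heq
        simp
      · rw [if_neg hlt, if_neg heq, if_neg, add_zero]
        intro hle
        exact hlt (lt_of_le_of_ne hle (fun h' => heq (Inv.ext h')))
  rw [Finset.sum_congr rfl (fun W' _ => h1 W'), Finset.sum_add_distrib, Finset.sum_ite_eq' ,
    if_pos (Finset.mem_univ _), mu0_of_ne φ h]
  ring

theorem Esum_zeta_apply (m : ℕ) (W : Inv φ) :
    Esum (zeta φ) m (ibot φ) W = if idim φ W = m then (-1) ^ m * mu0 φ W else 0 := by
  induction m using Nat.strong_induction_on generalizing W with
  | _ m ih =>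
    rcases m with _ | m
    · rw [Esum_zero, Matrix.one_apply]
      by_cases h : ibot φ = W
      · subst h
        rw [if_pos rfl, if_pos (idim_ibot φ), mu0_ibot]; simp
      · rw [if_neg h, if_neg]
        intro h'
        exact h (eq_ibot_of_idim φ h').symm
    · rw [Esum_rec _ (zeta_zero φ), Matrix.sum_apply]
      simp only [Matrix.smul_apply, Matrix.mul_apply, zeta_apply, smul_eq_mul]
      have hterm : ∀ k ∈ Finset.range (m + 1), ∀ c : Inv φ,
          Esum (zeta φ) (m - k) (ibot φ) c *
            (if c.sub ≤ W.sub ∧ idim φ W = idim φ c + (k + 1) then (1 : ℤ) else 0) =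
          if (idim φ c = m - k ∧ c.sub ≤ W.sub) ∧ idim φ W = m + 1 then
            (-1) ^ (m - k) * mu0 φ c else 0 := by
        intro k hk c
        rw [Finset.mem_range] at hk
        rw [ih (m - k) (by omega) c]
        by_cases h1 : idim φ c = m - k
        · by_cases h2 : c.sub ≤ W.sub
          · by_cases h3 : idim φ W = m + 1
            · rw [if_pos h1, if_pos ⟨h2, by omega⟩, if_pos ⟨⟨h1, h2⟩, h3⟩, mul_one]
            · rw [if_pos h1, if_neg (fun h => h3 (by omega)), if_neg (fun h => h3 h.2), mul_zero]
          · rw [if_pos h1, if_neg (fun h => h2 h.1), mul_zero, if_neg (fun h => h2 h.1.2)]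
        · rw [if_neg h1, zero_mul, if_neg (fun h => h1 h.1.1)]
      rw [Finset.sum_congr rfl (fun k hk => by
        rw [Finset.sum_congr rfl (fun c _ => hterm k hk c)])]
      by_cases hW : idim φ W = m + 1
      · rw [if_pos hW]
        have hne : W ≠ ibot φ := by
          rintro rfl
          rw [idim_ibot] at hW
          omega
        have hsum := mu0_of_ne φ hne
        -- swap the sums
        have h2 : ∀ k ∈ Finset.range (m + 1), (-1 : ℤ) ^ k * ∑ c : Inv φ,
            (if (idim φ c = m - k ∧ c.sub ≤ W.sub) ∧ idim φ W = m + 1 then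
              (-1) ^ (m - k) * mu0 φ c else 0) =
            ∑ c : Inv φ, if idim φ c = m - k ∧ c.sub ≤ W.sub then (-1) ^ m * mu0 φ c else 0 := by
          intro k hk
          rw [Finset.mem_range] at hk
          rw [Finset.mul_sum]
          apply Finset.sum_congr rfl
          intro c _
          by_cases h : idim φ c = m - k ∧ c.sub ≤ W.sub
          · rw [if_pos ⟨h, hW⟩, if_pos h, ← mul_assoc, ← pow_add]
            congr 2
            omega
          · rw [if_neg (fun h' => h h'.1), if_neg h, mul_zero]
        rw [Finset.sum_congr rfl h2, Finset.sum_comm]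
        have h3 : ∀ c : Inv φ, (∑ k ∈ Finset.range (m + 1),
            if idim φ c = m - k ∧ c.sub ≤ W.sub then (-1 : ℤ) ^ m * mu0 φ c else 0) =
            (-1) ^ m * if c.sub < W.sub then mu0 φ c else 0 := by
          intro c
          by_cases hlt : c.sub < W.sub
          · have hd := idim_lt_of_lt φ hlt
            rw [if_pos hlt, Finset.sum_eq_single (m - idim φ c)]
            · rw [if_pos ⟨by omega, hlt.le⟩]
            · intro k hk hne'
              rw [Finset.mem_range] at hk
              rw [if_neg]
              intro h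
              apply hne'
              omega
            · intro h
              exfalso
              apply h
              rw [Finset.mem_range]
              omega
          · rw [if_neg hlt, mul_zero]
            apply Finset.sum_eq_zero
            intro k hk
            rw [Finset.mem_range] at hk
            rw [if_neg]
            rintro ⟨h1, h2⟩
            apply hlt
            refine lt_of_le_of_ne h2 (fun h' => ?_)
            have : idim φ c = idim φ W := by unfold idim; rw [h']
            omega
        rw [Finset.sum_congr rfl (fun c _ => h3 c), ← Finset.mul_sum, hsum]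
        ring
      · rw [if_neg hW]
        apply Finset.sum_eq_zero
        intro k _
        rw [Finset.sum_eq_zero, mul_zero]
        intro c _
        rw [if_neg (fun h => hW h.2)]

end Lattice

end Cfsg.Agent.Helper12.StVal
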