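import Cfsg.Agent.Helper12.StValB
import Cfsg.Agent.Helper12.FlagCountD
import Cfsg.Agent.Helper5.PermChar

set_option autoImplicit false

/-!
# Fixed cosets of a parabolic subgroup and invariant flags
-/

namespace Cfsg.Agent.Helper12.StVal

open Module Finset Cfsg Matrix
open Cfsg.Agent.Helper12.FlagCount
open scoped MatrixGroups

section Cosets

variable {G : Type*} [Group G] [Finite G]

/-- Elements conjugating `x` into `H` come in cosets: their number is `#fixed cosets * #H`. -/
theorem card_conj_mem (H : Subgroup G) (x : G) :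
    Nat.card {g : G // g⁻¹ * x * g ∈ H} = Nat.card (MulAction.fixedBy (G ⧸ H) x) * Nat.card H := by
  have e1 : {p : (G ⧸ H) × H // x • p.1 = p.1} ≃ {g : G // g⁻¹ * x * g ∈ H} :=
    Equiv.subtypeEquiv (Cfsg.Agent.Helper5.cosetProdEquiv H) (fun p => by
      have := Cfsg.Agent.Helper5.smul_mk_eq_iff H x (Cfsg.Agent.Helper5.cosetProdEquiv H p)
      rw [Cfsg.Agent.Helper5.cosetProdEquiv_mk] at this
      exact this)
  have e2 : {p : (G ⧸ H) × H // x • p.1 = p.1} ≃ {q : G ⧸ H // x • q = q} × H :=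
    Equiv.prodSubtypeFstEquivSubtypeProd (p := fun q : G ⧸ H => x • q = q)
  rw [← Nat.card_congr e1, Nat.card_congr e2, Nat.card_prod]
  rfl

end Cosets

section Cols

variable {F : Type*} [Field F] {n : ℕ}

/-- The `j`-th column of `g`. -/
def gcol (g : GL (Fin n) F) (j : Fin n) : Fin n → F := fun i => (g : Matrix (Fin n) (Fin n) F) i j

theorem gcol_eq_mulVec (g : GL (Fin n) F) (j : Fin n) :
    gcol g j = (g : Matrix (Fin n) (Fin n) F) *ᵥ Pi.single j 1 := by
  rw [Matrix.mulVec_single_one]; rfl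

theorem inv_mulVec_gcol (g : GL (Fin n) F) (j : Fin n) :
    ((g⁻¹ : GL (Fin n) F) : Matrix (Fin n) (Fin n) F) *ᵥ gcol g j = Pi.single j 1 := by
  rw [gcol_eq_mulVec, Matrix.mulVec_mulVec, ← Units.val_mul, inv_mul_cancel, Units.val_one,
    Matrix.one_mulVec]

theorem mulVec_eq_sum_gcol (g : GL (Fin n) F) (w : Fin n → F) :
    (g : Matrix (Fin n) (Fin n) F) *ᵥ w = ∑ i, w i • gcol g i := by
  funext k
  rw [Finset.sum_apply]
  simp only [Matrix.mulVec, dotProduct, gcol, Pi.smul_apply, smul_eq_mul]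
  exact Finset.sum_congr rfl (fun i _ => mul_comm _ _)

/-- The span of the first `c` columns. -/
def colSpan (g : GL (Fin n) F) (c : ℕ) : Submodule F (Fin n → F) :=
  Submodule.span F {v | ∃ i : Fin n, i.val < c ∧ gcol g i = v}

theorem gcol_mem_colSpan (g : GL (Fin n) F) {c : ℕ} (i : Fin n) (hi : i.val < c) :
    gcol g i ∈ colSpan g c := Submodule.subset_span ⟨i, hi, rfl⟩

theorem colSpan_mono (g : GL (Fin n) F) : Monotone (colSpan g) := by
  intro c c' h
  apply Submodule.span_mono
  rintro v ⟨i, hi, rfl⟩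
  exact ⟨i, lt_of_lt_of_le hi h, rfl⟩

theorem colSpan_zero (g : GL (Fin n) F) : colSpan g 0 = ⊥ := by
  unfold colSpan
  rw [Submodule.span_eq_bot]
  rintro v ⟨i, hi, _⟩
  exact absurd hi (Nat.not_lt_zero _)

theorem inv_mulVec_mem_coordSub_iff (g : GL (Fin n) F) (c : ℕ) (v : Fin n → F) :
    ((g⁻¹ : GL (Fin n) F) : Matrix (Fin n) (Fin n) F) *ᵥ v ∈ coordSub n F c ↔ v ∈ colSpan g c := by
  constructor
  · intro h
    have hv : v = (g : Matrix (Fin n) (Fin n) F) *ᵥ
        (((g⁻¹ : GL (Fin n) F) : Matrix (Fin n) (Fin n) F) *ᵥ v) := by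
      rw [Matrix.mulVec_mulVec, ← Units.val_mul, mul_inv_cancel, Units.val_one, Matrix.one_mulVec]
    rw [hv, mulVec_eq_sum_gcol]
    apply Submodule.sum_mem
    intro i _
    by_cases hi : i.val < c
    · exact Submodule.smul_mem _ _ (gcol_mem_colSpan g i hi)
    · rw [h i (by omega), zero_smul]
      exact Submodule.zero_mem _
  · intro h
    have hle : colSpan g c ≤ (coordSub n F c).comap
        (Matrix.toLin' ((g⁻¹ : GL (Fin n) F) : Matrix (Fin n) (Fin n) F)) := by
      apply Submodule.span_le.mpr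
      rintro v ⟨i, hi, rfl⟩
      show Matrix.toLin' _ (gcol g i) ∈ coordSub n F c
      rw [Matrix.toLin'_apply, inv_mulVec_gcol]
      intro k hk
      rw [Pi.single_apply, if_neg]
      intro hki
      rw [hki] at hk
      omega
    have := hle h
    rw [Submodule.mem_comap, Matrix.toLin'_apply] at this
    exact this

theorem linearIndependent_gcol [Fintype F] (g : GL (Fin n) F) : LinearIndependent F (gcol g) :=
  (Matrix.equiv_GL_linearindependent n g).2

theorem finrank_colSpan [Fintype F] (g : GL (Fin n) F) (c : ℕ) (hc : c ≤ n) :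
    finrank F (colSpan g c) = c := by
  have hli : LinearIndependent F (fun i : {i : Fin n // i.val < c} => gcol g i.1) :=
    (linearIndependent_gcol g).comp _ Subtype.val_injective
  have hset : {v | ∃ i : Fin n, i.val < c ∧ gcol g i = v} =
      Set.range (fun i : {i : Fin n // i.val < c} => gcol g i.1) := by
    ext v
    constructor
    · rintro ⟨i, hi, rfl⟩
      exact ⟨⟨i, hi⟩, rfl⟩
    · rintro ⟨⟨i, hi⟩, rfl⟩
      exact ⟨i, hi, rfl⟩
  unfold colSpan
  rw [hset, finrank_span_eq_card hli, Fintype.card_subtype, Fin.card_filter_val_lt]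
  omega

theorem colSpan_top [Fintype F] (g : GL (Fin n) F) : colSpan g n = ⊤ := by
  apply Submodule.eq_top_of_finrank_eq
  rw [finrank_colSpan g n le_rfl]
  simp

end Cols

section Main

variable {F : Type*} [Field F] [Fintype F] {n : ℕ} (μ : Fin n → ℕ) (hμ : ∑ i, μ i = n)
  (x : GL (Fin n) F)

/-- The endomorphism of the natural module given by `x`. -/
noncomputable def xlin : Module.End F (Fin n → F) := Matrix.toLin' (x : Matrix (Fin n) (Fin n) F)

theorem xlin_apply (v : Fin n → F) : xlin x v = (x : Matrix (Fin n) (Fin n) F) *ᵥ v :=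
  Matrix.toLin'_apply _ _

theorem gcol_mul (a b : GL (Fin n) F) (j : Fin n) :
    gcol (a * b) j = (a : Matrix (Fin n) (Fin n) F) *ᵥ gcol b j := by
  rw [gcol_eq_mulVec, gcol_eq_mulVec, Matrix.mulVec_mulVec, Units.val_mul]

include hμ in
theorem conj_mem_parabolic_iff_col (g : GL (Fin n) F) :
    g⁻¹ * x * g ∈ parabolicGL n F μ ↔
      ∀ j : Fin n, xlin x (gcol g j) ∈ colSpan g (cut μ j.val) := by
  rw [mem_parabolicGL_iff μ hμ]
  apply forall_congr'
  intro j
  have : (Matrix.equiv_GL_linearindependent n (g⁻¹ * x * g)).1 j =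
      ((g⁻¹ : GL (Fin n) F) : Matrix (Fin n) (Fin n) F) *ᵥ xlin x (gcol g j) := by
    show gcol (g⁻¹ * x * g) j = _
    rw [mul_assoc, gcol_mul, gcol_mul, xlin_apply]
  rw [this, inv_mulVec_mem_coordSub_iff]

include hμ in
theorem cut_le_pre {i : Fin n} {t : ℕ} (ht : t ≤ n) (hi : i.val < pre μ t) :
    cut μ i.val ≤ pre μ t := by
  rw [cut_of_lt]
  apply pre_mono
  rcases Nat.eq_zero_or_pos t with h0 | h0
  · subst h0
    rw [pre_zero] at hi
    omega
  · have := (compLabel_le_iff μ i (t - 1) (by omega)).mpr (by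
      rw [Nat.sub_add_cancel h0]; exact hi)
    omega

include hμ in
theorem conj_mem_parabolic_iff (g : GL (Fin n) F) :
    g⁻¹ * x * g ∈ parabolicGL n F μ ↔
      ∀ t : ℕ, t ≤ n → ∀ v ∈ colSpan g (pre μ t), xlin x v ∈ colSpan g (pre μ t) := by
  rw [conj_mem_parabolic_iff_col μ hμ]
  constructor
  · intro h t ht v hv
    have hle : colSpan g (pre μ t) ≤ (colSpan g (pre μ t)).comap (xlin x) := by
      apply Submodule.span_le.mpr
      rintro w ⟨i, hi, rfl⟩
      show xlin x (gcol g i) ∈ colSpan g (pre μ t)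
      exact colSpan_mono g (cut_le_pre μ hμ ht hi) (h i)
    exact hle hv
  · intro h j
    have hlt := compLabel_lt μ hμ j
    have := h (compLabel μ j + 1) (by omega) (gcol g j) (by
      apply gcol_mem_colSpan
      rw [← cut_of_lt]
      exact lt_cut μ hμ j)
    rw [← cut_of_lt] at this
    exact this

include hμ in
theorem pre_le (t : ℕ) : pre μ t ≤ n := by
  calc pre μ t ≤ pre μ (max t n) := pre_mono μ (le_max_left _ _)
    _ = n := by rw [pre_top μ _ (le_max_right _ _), hμ]

/-- The flags of type `μ` from `⊥` to `⊤`. -/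
def Flags : Type _ :=
  {W : Fin (n + 1) → Inv (xlin x) // IsFlag (xlin x) μ (ibot _) (itop _) W}

instance : Finite (Flags μ x) := by unfold Flags; infer_instance

variable {μ x}

theorem flag_idim (W : Flags μ x) (t : Fin (n + 1)) : idim (xlin x) (W.1 t) = pre μ t.val := by
  obtain ⟨W, h0, hl, hs⟩ := W
  induction t using Fin.induction with
  | zero =>
    show idim (xlin x) (W 0) = pre μ 0
    rw [h0, idim_ibot, pre_zero]
  | succ i ih =>
    show idim (xlin x) (W i.succ) = pre μ (i.val + 1)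
    rw [(hs i).2, pre_succ]
    congr 1

theorem flag_mono (W : Flags μ x) : Monotone (fun t => (W.1 t).sub) := by
  rw [Fin.monotone_iff_le_succ]
  intro i
  exact (W.2.2.2 i).1

variable (μ x)

/-- The flag spanned by the columns of `g`. -/
def flagOf (g : {g : GL (Fin n) F // g⁻¹ * x * g ∈ parabolicGL n F μ}) : Flags μ x :=
  ⟨fun t => ⟨colSpan g.1 (pre μ t.val), fun v hv =>
      (conj_mem_parabolic_iff μ hμ x g.1).mp g.2 t.val (Nat.lt_succ_iff.mp t.2) v hv⟩, by
    refine ⟨?_, ?_, fun i => ⟨?_, ?_⟩⟩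
    · apply Inv.ext
      show colSpan g.1 (pre μ 0) = ⊥
      rw [pre_zero, colSpan_zero]
    · apply Inv.ext
      show colSpan g.1 (pre μ n) = ⊤
      rw [pre_top μ n le_rfl, hμ, colSpan_top]
    · exact colSpan_mono g.1 (pre_mono μ (Nat.le_succ _))
    · show finrank F (colSpan g.1 (pre μ (i.val + 1))) = finrank F (colSpan g.1 (pre μ i.val)) + μ i
      rw [finrank_colSpan _ _ (pre_le μ hμ _), finrank_colSpan _ _ (pre_le μ hμ _), pre_succ]⟩

/-- `g` has flag `W`. -/
def Match (W : Flags μ x) (g : GL (Fin n) F) : Prop :=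
  ∀ t : Fin (n + 1), colSpan g (pre μ t.val) = (W.1 t).sub

/-- The subspace the `j`-th column has to lie in. -/
def EW (W : Flags μ x) (j : ℕ) : Submodule F (Fin n → F) :=
  if h : j < n then (W.1 ⟨compLabel μ ⟨j, h⟩ + 1, by
    have := compLabel_lt μ hμ ⟨j, h⟩; omega⟩).sub else ⊤

theorem EW_of_lt (W : Flags μ x) (j : Fin n) :
    EW μ hμ x W j.val = (W.1 ⟨compLabel μ j + 1, by
      have := compLabel_lt μ hμ j; omega⟩).sub := by
  unfold EW
  rw [dif_pos j.2]

theorem EW_mono (W : Flags μ x) : Monotone (EW μ hμ x W) := by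
  intro j j' h
  by_cases h' : j' < n
  · have hj : j < n := lt_of_le_of_lt h h'
    unfold EW
    rw [dif_pos hj, dif_pos h']
    apply flag_mono W
    have := compLabel_mono μ (show (⟨j, hj⟩ : Fin n) ≤ ⟨j', h'⟩ from h)
    show compLabel μ ⟨j, hj⟩ + 1 ≤ compLabel μ ⟨j', h'⟩ + 1
    omega
  · unfold EW
    rw [dif_neg h']
    exact le_top

theorem card_EW (W : Flags μ x) (j : ℕ) :
    Nat.card (EW μ hμ x W j) = Fintype.card F ^ cut μ j := by
  have hfin : ∀ S : Submodule F (Fin n → F), Nat.card S = Fintype.card F ^ finrank F S := by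
    intro S
    rw [Module.natCard_eq_pow_finrank (K := F) (V := S), Nat.card_eq_fintype_card]
  rw [hfin]
  congr 1
  unfold EW cut
  by_cases h : j < n
  · rw [dif_pos h, dif_pos h]
    exact flag_idim W _
  · rw [dif_neg h, dif_neg h]
    simp

end Main

section Count

variable {F : Type*} [Field F] [Fintype F] {n : ℕ} (μ : Fin n → ℕ) (hμ : ∑ i, μ i = n)
  (x : GL (Fin n) F)

theorem gcol_eq_equiv (g : GL (Fin n) F) :
    gcol g = (Matrix.equiv_GL_linearindependent n g).1 := rfl

include hμ in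
theorem match_of_adapted (W : Flags μ x) (g : GL (Fin n) F)
    (h : ∀ j : Fin n, gcol g j ∈ EW μ hμ x W j.val) : Match μ x W g := by
  intro t
  have ht : t.val ≤ n := Nat.lt_succ_iff.mp t.2
  apply Submodule.eq_of_le_of_finrank_eq
  · apply Submodule.span_le.mpr
    rintro v ⟨i, hi, rfl⟩
    have h1 := h i
    rw [EW_of_lt] at h1
    refine flag_mono W ?_ h1
    show compLabel μ i + 1 ≤ t.val
    rcases Nat.eq_zero_or_pos t.val with h0 | h0
    · rw [h0, pre_zero] at hi
      omega
    · have := (compLabel_le_iff μ i (t.val - 1) (by omega)).mpr (by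
        rw [Nat.sub_add_cancel h0]; exact hi)
      omega
  · rw [finrank_colSpan _ _ (pre_le μ hμ _)]
    exact (flag_idim W t).symm

include hμ in
theorem adapted_of_match (W : Flags μ x) (g : GL (Fin n) F) (h : Match μ x W g) (j : Fin n) :
    gcol g j ∈ EW μ hμ x W j.val := by
  rw [EW_of_lt, ← h ⟨compLabel μ j + 1, _⟩]
  apply gcol_mem_colSpan
  show j.val < pre μ (compLabel μ j + 1)
  rw [← cut_of_lt]
  exact lt_cut μ hμ j

include hμ in
theorem mem_of_match (W : Flags μ x) (g : GL (Fin n) F) (h : Match μ x W g) :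
    g⁻¹ * x * g ∈ parabolicGL n F μ := by
  rw [conj_mem_parabolic_iff μ hμ]
  intro t ht v hv
  have := h ⟨t, Nat.lt_succ_iff.mpr ht⟩
  simp only at this
  rw [this] at hv ⊢
  exact (W.1 ⟨t, _⟩).inv v hv

/-- The elements with a given flag correspond to the adapted bases. -/
noncomputable def matchEquiv (W : Flags μ x) :
    {g : GL (Fin n) F // Match μ x W g} ≃
      Adapted (K := F) (V := Fin n → F) (EW μ hμ x W) n where
  toFun g := ⟨gcol g.1, linearIndependent_gcol g.1, adapted_of_match μ hμ x W g.1 g.2⟩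
  invFun s := ⟨(Matrix.equiv_GL_linearindependent n).symm ⟨s.1, s.2.1⟩, by
    apply match_of_adapted μ hμ x W
    intro j
    rw [gcol_eq_equiv, Equiv.apply_symm_apply]
    exact s.2.2 j⟩
  left_inv g := by
    apply Subtype.ext
    show (Matrix.equiv_GL_linearindependent n).symm ⟨gcol g.1, _⟩ = g.1
    rw [Equiv.symm_apply_eq]
    rfl
  right_inv s := by
    apply Subtype.ext
    show gcol ((Matrix.equiv_GL_linearindependent n).symm ⟨s.1, s.2.1⟩) = s.1
    rw [gcol_eq_equiv, Equiv.apply_symm_apply]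

/-- Elements with flag `W`, inside the set of elements conjugating `x` into the parabolic. -/
def fiberEquiv (W : Flags μ x) :
    {g : {g : GL (Fin n) F // g⁻¹ * x * g ∈ parabolicGL n F μ} // flagOf μ hμ x g = W} ≃
      {g : GL (Fin n) F // Match μ x W g} where
  toFun g := ⟨g.1.1, fun t => by
    have := congrArg (fun W' : Flags μ x => (W'.1 t).sub) g.2
    exact this⟩
  invFun g := ⟨⟨g.1, mem_of_match μ hμ x W g.1 g.2⟩, by
    apply Subtype.ext
    funext t
    apply Inv.ext
    exact g.2 t⟩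
  left_inv g := rfl
  right_inv g := rfl

include hμ in
theorem card_conj_mem_parabolic :
    Nat.card {g : GL (Fin n) F // g⁻¹ * x * g ∈ parabolicGL n F μ} =
      Nat.card (Flags μ x) * Nat.card (parabolicGL n F μ) := by
  classical
  have : Fintype (Flags μ x) := Fintype.ofFinite _
  rw [Nat.card_congr (Equiv.sigmaFiberEquiv (flagOf μ hμ x)).symm, Nat.card_sigma]
  have h : ∀ W : Flags μ x,
      Nat.card {g : {g : GL (Fin n) F // g⁻¹ * x * g ∈ parabolicGL n F μ} // flagOf μ hμ x g = W}
        = Nat.card (parabolicGL n F μ) := by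
    intro W
    rw [Nat.card_congr ((fiberEquiv μ hμ x W).trans (matchEquiv μ hμ x W)),
      card_adapted (EW μ hμ x W) (EW_mono μ hμ x W) (cut μ) (card_EW μ hμ x W) n,
      card_parabolicGL μ hμ]
  rw [Finset.sum_congr rfl (fun W _ => h W), Finset.sum_const, Finset.card_univ, smul_eq_mul,
    Nat.card_eq_fintype_card (α := Flags μ x)]

include hμ in
/-- The permutation character on the cosets of a parabolic subgroup counts invariant flags. -/
theorem card_fixedBy_parabolic :
    Nat.card (MulAction.fixedBy (GL (Fin n) F ⧸ parabolicGL n F μ) x) = Nat.card (Flags μ x) := by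
  have h1 := card_conj_mem (parabolicGL n F μ) x
  rw [card_conj_mem_parabolic μ hμ x] at h1
  have hpos : 0 < Nat.card (parabolicGL n F μ) := Nat.card_pos
  exact (Nat.eq_of_mul_eq_mul_right hpos h1).symm

end Count

end Cfsg.Agent.Helper12.StVal
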