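import Cfsg.Agent.Helper12.StValC
import Cfsg.Agent.Helper12.SteinI

set_option autoImplicit false

/-!
# The Steinberg character as a Möbius number
-/

namespace Cfsg.Agent.Helper12.StVal

open Module Finset Cfsg Matrix
open scoped MatrixGroups

variable {F : Type*} [Field F] [Fintype F] {n : ℕ}

theorem sum_muOf {κ : Equiv.Perm (Fin n)} (hv : Valid κ) : ∑ i, muOf κ i = n := by
  have := Cfsg.Agent.Helper12.Stein.sum_lam_sub (fun _ : Fin n => 1) (by simp) κ hv
  exact this

theorem idim_itop (x : GL (Fin n) F) : idim (xlin x) (itop (xlin x)) = n := by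
  unfold idim itop
  simp

/-- The Steinberg character value is `(-1)^n` times the Möbius number of the lattice of invariant
subspaces. -/
theorem steinberg_eq_mu0 (x : GL (Fin n) F) :
    unipotentCharacterGL n F (fun _ => 1) x =
      (((-1) ^ n * mu0 (xlin x) (itop (xlin x)) : ℤ) : ℂ) := by
  classical
  have h := Esum_zeta_apply (xlin x) n (itop (xlin x))
  rw [if_pos (idim_itop x)] at h
  rw [← h]
  unfold unipotentCharacterGL Esum
  rw [Matrix.sum_apply]
  push_cast
  apply Finset.sum_congr rfl
  intro κ _
  by_cases hv : Valid κ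
  · rw [if_pos hv, if_pos (show ∀ i : Fin n, (κ i).val ≤ 1 + i.val from hv)]
    rw [Matrix.smul_apply, ordProd_zeta_apply]
    unfold fixedPointCharacter
    have hc := card_fixedBy_parabolic (muOf κ) (sum_muOf hv) x
    have hmu : (fun i : Fin n => 1 + i.val - (κ i).val) = muOf κ := rfl
    rw [hmu, hc]
    simp [Flags]
  · rw [if_neg hv, if_neg (show ¬ ∀ i : Fin n, (κ i).val ≤ 1 + i.val from hv)]
    simp

end Cfsg.Agent.Helper12.StVal
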