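import Cfsg.Agent.Helper12.StValB

set_option autoImplicit false

/-!
# Weisner's theorem for the lattice of invariant subspaces, and restriction
-/

namespace Cfsg.Agent.Helper12.StVal

open Module Finset

section Weisner

open scoped Classical

variable {F V : Type*} [Field F] [AddCommGroup V] [Module F V] [Finite V] (φ : Module.End F V)

/-- The sum of two invariant subspaces. -/
def isup (a b : Inv φ) : Inv φ :=
  ⟨a.sub ⊔ b.sub, fun v hv => by
    obtain ⟨x, hx, y, hy, rfl⟩ := Submodule.mem_sup.mp hv
    rw [map_add]
    exact Submodule.add_mem_sup (a.inv x hx) (b.inv y hy)⟩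

/-- The intersection of two invariant subspaces. -/
def iinf (a b : Inv φ) : Inv φ :=
  ⟨a.sub ⊓ b.sub, fun v hv => ⟨a.inv v hv.1, b.inv v hv.2⟩⟩

theorem weisner (a : Inv φ) (ha : a ≠ ibot φ) (b : Inv φ) (hab : a.sub ≤ b.sub) :
    ∑ w : Inv φ, (if w.sub ⊔ a.sub = b.sub then mu0 φ w else 0) = 0 := by
  induction hd : idim φ b using Nat.strong_induction_on generalizing b with
  | _ d ih =>
    have hb : b ≠ ibot φ := by
      rintro rfl
      apply ha
      apply Inv.ext
      exact le_bot_iff.mp hab
    have h0 := sum_mu0_le φ hb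
    -- rewrite the sum over `w ≤ b` by grouping according to `w ⊔ a`
    have h1 : ∀ w : Inv φ, (if w.sub ≤ b.sub then mu0 φ w else 0) =
        ∑ y : Inv φ, if y.sub ≤ b.sub ∧ w.sub ⊔ a.sub = y.sub then mu0 φ w else 0 := by
      intro w
      rw [Finset.sum_eq_single (isup φ w a)]
      · by_cases hw : w.sub ≤ b.sub
        · rw [if_pos hw, if_pos ⟨sup_le hw hab, rfl⟩]
        · rw [if_neg hw, if_neg]
          rintro ⟨h, _⟩
          exact hw (le_trans le_sup_left h)
      · intro y _ hy
        rw [if_neg]
        rintro ⟨_, h⟩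
        exact hy (Inv.ext h.symm)
      · intro h
        exact absurd (Finset.mem_univ _) h
    rw [Finset.sum_congr rfl (fun w _ => h1 w), Finset.sum_comm] at h0
    have h2 : ∀ y : Inv φ, y ≠ b →
        (∑ w : Inv φ, if y.sub ≤ b.sub ∧ w.sub ⊔ a.sub = y.sub then mu0 φ w else 0) = 0 := by
      intro y hy
      by_cases hyb : y.sub ≤ b.sub
      · by_cases hay : a.sub ≤ y.sub
        · have hlt : y.sub < b.sub := lt_of_le_of_ne hyb (fun h => hy (Inv.ext h))
          have := ih (idim φ y) (by rw [← hd]; exact idim_lt_of_lt φ hlt) y hay rfl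
          refine Eq.trans ?_ this
          apply Finset.sum_congr rfl
          intro w _
          simp [hyb]
        · apply Finset.sum_eq_zero
          intro w _
          rw [if_neg]
          rintro ⟨_, h⟩
          apply hay
          rw [← h]
          exact le_sup_right
      · apply Finset.sum_eq_zero
        intro w _
        rw [if_neg (fun h => hyb h.1)]
    rw [Finset.sum_eq_single b (fun y _ hy => h2 y hy)
      (fun h => absurd (Finset.mem_univ _) h)] at h0
    refine Eq.trans ?_ h0
    apply Finset.sum_congr rfl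
    intro w _
    simp

end Weisner

section Atom

open scoped Classical

variable {F V : Type*} [Field F] [AddCommGroup V] [Module F V] [Finite V] (φ : Module.End F V)

/-- Minimal nonzero invariant subspaces. -/
def IsAtomInv (S : Inv φ) : Prop :=
  S ≠ ibot φ ∧ ∀ w : Inv φ, w.sub ≤ S.sub → w = ibot φ ∨ w = S

theorem exists_atom_le (W : Inv φ) (hW : W ≠ ibot φ) :
    ∃ S : Inv φ, IsAtomInv φ S ∧ S.sub ≤ W.sub := by
  induction hd : idim φ W using Nat.strong_induction_on generalizing W with
  | _ d ih =>
    by_cases hat : ∀ w : Inv φ, w.sub ≤ W.sub → w = ibot φ ∨ w = W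
    · exact ⟨W, ⟨hW, hat⟩, le_rfl⟩
    · push Not at hat
      obtain ⟨w, hw, h1, h2⟩ := hat
      have hlt : w.sub < W.sub := lt_of_le_of_ne hw (fun h => h2 (Inv.ext h))
      obtain ⟨S, hS, hSw⟩ := ih (idim φ w) (by rw [← hd]; exact idim_lt_of_lt φ hlt) w h1 rfl
      exact ⟨S, hS, le_trans hSw hw⟩

theorem mu0_itop_eq_neg_sum_compl (S : Inv φ) (hS : IsAtomInv φ S) :
    mu0 φ (itop φ) = - ∑ w : Inv φ, (if IsCompl S.sub w.sub then mu0 φ w else 0) := by
  have h := weisner φ S hS.1 (itop φ) le_top
  have h1 : ∀ w : Inv φ, (if w.sub ⊔ S.sub = (itop φ).sub then mu0 φ w else 0) =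
      (if w = itop φ then mu0 φ w else 0) + (if IsCompl S.sub w.sub then mu0 φ w else 0) := by
    intro w
    by_cases hw : w.sub ⊔ S.sub = (itop φ).sub
    · rw [if_pos hw]
      rcases hS.2 (iinf φ w S) inf_le_right with h0 | h0
      · have hc : IsCompl S.sub w.sub := by
          refine IsCompl.of_eq ?_ ?_
          · have := congrArg Inv.sub h0
            rw [inf_comm]; exact this
          · rw [sup_comm]; exact hw
        rw [if_pos hc, if_neg, zero_add]
        rintro rfl
        apply hS.1
        apply Inv.ext
        have := hc.inf_eq_bot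
        rw [show (itop φ).sub = ⊤ from rfl, inf_top_eq] at this
        exact this
      · have hle : S.sub ≤ w.sub := by
          have := congrArg Inv.sub h0
          change w.sub ⊓ S.sub = S.sub at this
          exact inf_eq_right.mp this
        have hw' : w = itop φ := by
          apply Inv.ext
          rw [← hw]
          exact (sup_eq_left.mpr hle).symm
        rw [if_pos hw', if_neg, add_zero]
        intro hc
        apply hS.1
        apply Inv.ext
        have := hc.inf_eq_bot
        rw [hw', show (itop φ).sub = ⊤ from rfl, inf_top_eq] at this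
        exact this
    · rw [if_neg hw, if_neg, if_neg, add_zero]
      · intro hc
        apply hw
        rw [sup_comm]
        exact hc.sup_eq_top
      · rintro rfl
        apply hw
        show (⊤ : Submodule F V) ⊔ S.sub = ⊤
        exact top_sup_eq _
  rw [Finset.sum_congr rfl (fun w _ => h1 w), Finset.sum_add_distrib, Finset.sum_ite_eq',
    if_pos (Finset.mem_univ _)] at h
  linarith

end Atom

section Restrict

open scoped Classical

variable {F V : Type*} [Field F] [AddCommGroup V] [Module F V] [Finite V] (φ : Module.End F V)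

/-- The restriction of `φ` to an invariant subspace. -/
def ires (w : Inv φ) : Module.End F w.sub := φ.restrict w.inv

theorem ires_apply (w : Inv φ) (y : w.sub) : ((ires φ w y : w.sub) : V) = φ y := rfl

/-- Invariant subspaces of the restriction, viewed in the ambient space. -/
def up (w : Inv φ) (u : Inv (ires φ w)) : Inv φ :=
  ⟨u.sub.map w.sub.subtype, fun v hv => by
    obtain ⟨y, hy, rfl⟩ := Submodule.mem_map.mp hv
    exact Submodule.mem_map.mpr ⟨ires φ w y, u.inv y hy, rfl⟩⟩

theorem up_le_iff (w : Inv φ) (u u' : Inv (ires φ w)) :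
    (up φ w u).sub ≤ (up φ w u').sub ↔ u.sub ≤ u'.sub :=
  Submodule.map_le_map_iff_of_injective (Submodule.injective_subtype _) _ _

theorem up_injective (w : Inv φ) : Function.Injective (up φ w) := by
  intro u u' h
  apply Inv.ext
  have h1 := congrArg Inv.sub h
  exact le_antisymm ((up_le_iff φ w u u').mp h1.le) ((up_le_iff φ w u' u).mp h1.ge)

theorem up_lt_iff (w : Inv φ) (u u' : Inv (ires φ w)) :
    (up φ w u).sub < (up φ w u').sub ↔ u.sub < u'.sub := by
  rw [lt_iff_le_not_ge, lt_iff_le_not_ge, up_le_iff, up_le_iff]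

theorem up_ibot (w : Inv φ) : up φ w (ibot _) = ibot φ := by
  apply Inv.ext
  show (⊥ : Submodule F w.sub).map w.sub.subtype = ⊥
  exact Submodule.map_bot _

theorem up_itop (w : Inv φ) : up φ w (itop _) = w := by
  apply Inv.ext
  show (⊤ : Submodule F w.sub).map w.sub.subtype = w.sub
  exact Submodule.map_subtype_top _

theorem up_le (w : Inv φ) (u : Inv (ires φ w)) : (up φ w u).sub ≤ w.sub :=
  Submodule.map_subtype_le _ _

theorem exists_up_eq (w w' : Inv φ) (h : w'.sub ≤ w.sub) : ∃ u : Inv (ires φ w), up φ w u = w' := by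
  refine ⟨⟨w'.sub.comap w.sub.subtype, fun y hy => ?_⟩, ?_⟩
  · rw [Submodule.mem_comap] at hy ⊢
    exact w'.inv _ hy
  · apply Inv.ext
    show (w'.sub.comap w.sub.subtype).map w.sub.subtype = w'.sub
    rw [Submodule.map_comap_subtype]
    exact inf_eq_right.mpr h

theorem mu0_up (w : Inv φ) (u : Inv (ires φ w)) : mu0 (ires φ w) u = mu0 φ (up φ w u) := by
  induction hd : idim (ires φ w) u using Nat.strong_induction_on generalizing u with
  | _ d ih =>
    by_cases hu : u = ibot _
    · subst hu
      rw [up_ibot, mu0_ibot, mu0_ibot]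
    · have hu' : up φ w u ≠ ibot φ := by
        intro h
        apply hu
        apply up_injective φ w
        rw [h, up_ibot]
      rw [mu0_of_ne _ hu, mu0_of_ne _ hu']
      congr 1
      apply Fintype.sum_of_injective (up φ w) (up_injective φ w)
      · intro w' hw'
        rw [if_neg]
        intro hlt
        apply hw'
        exact exists_up_eq φ w w' (le_trans hlt.le (up_le φ w u))
      · intro u'
        by_cases hlt : u'.sub < u.sub
        · rw [if_pos hlt, if_pos ((up_lt_iff φ w u' u).mpr hlt)]
          exact ih (idim _ u') (by rw [← hd]; exact idim_lt_of_lt _ hlt) u' rfl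
        · rw [if_neg hlt, if_neg (fun h => hlt ((up_lt_iff φ w u' u).mp h))]

theorem mu0_eq_restrict (w : Inv φ) : mu0 φ w = mu0 (ires φ w) (itop _) := by
  rw [mu0_up, up_itop]

end Restrict

end Cfsg.Agent.Helper12.StVal
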