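import Cfsg.Agent.Helper12.StValE

set_option autoImplicit false

/-!
# Equivariant maps, direct sum decompositions and characteristic polynomials
-/

namespace Cfsg.Agent.Helper12.StVal

open Module Finset

section EqHom

variable {F : Type*} [Field F]
variable {A B A' : Type*} [AddCommGroup A] [Module F A] [AddCommGroup B] [Module F B]
  [AddCommGroup A'] [Module F A']

/-- Linear maps intertwining two endomorphisms. -/
def EqHom (α : Module.End F A) (β : Module.End F B) : Type _ :=
  {θ : A →ₗ[F] B // ∀ a, θ (α a) = β (θ a)}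

instance [Finite A] [Finite B] (α : Module.End F A) (β : Module.End F B) : Finite (EqHom α β) := by
  unfold EqHom
  have : Finite (A →ₗ[F] B) := Finite.of_injective (fun θ : A →ₗ[F] B => (θ : A → B))
    DFunLike.coe_injective
  infer_instance

/-- Transport along an intertwining isomorphism of the source. -/
def eqHomCongr (α : Module.End F A) (α' : Module.End F A') (β : Module.End F B)
    (e : A ≃ₗ[F] A') (he : ∀ a, e (α a) = α' (e a)) : EqHom α' β ≃ EqHom α β where
  toFun θ := ⟨θ.1 ∘ₗ e.toLinearMap, fun a => by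
    show θ.1 (e (α a)) = β (θ.1 (e a))
    rw [he, θ.2]⟩
  invFun θ := ⟨θ.1 ∘ₗ e.symm.toLinearMap, fun a => by
    show θ.1 (e.symm (α' a)) = β (θ.1 (e.symm a))
    rw [← θ.2]
    congr 1
    apply e.injective
    rw [he]
    simp⟩
  left_inv θ := by
    apply Subtype.ext
    ext a
    show θ.1 (e (e.symm a)) = θ.1 a
    simp
  right_inv θ := by
    apply Subtype.ext
    ext a
    show θ.1 (e.symm (e a)) = θ.1 a
    simp

/-- Equivariant maps out of a product. -/
def eqHomProd (α : Module.End F A) (α' : Module.End F A') (β : Module.End F B) :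
    EqHom (α.prodMap α') β ≃ EqHom α β × EqHom α' β where
  toFun θ := (⟨θ.1 ∘ₗ LinearMap.inl F A A', fun a => by
      show θ.1 (α a, 0) = β (θ.1 (a, 0))
      rw [← θ.2]
      simp⟩,
    ⟨θ.1 ∘ₗ LinearMap.inr F A A', fun a => by
      show θ.1 (0, α' a) = β (θ.1 (0, a))
      rw [← θ.2]
      simp⟩)
  invFun p := ⟨p.1.1.coprod p.2.1, fun a => by
    show p.1.1 (α a.1) + p.2.1 (α' a.2) = β (p.1.1 a.1 + p.2.1 a.2)
    rw [p.1.2, p.2.2, map_add]⟩
  left_inv θ := by
    apply Subtype.ext
    ext a
    · simp
    · simp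
  right_inv p := by
    apply Prod.ext
    · apply Subtype.ext
      ext a
      simp
    · apply Subtype.ext
      ext a
      simp

end EqHom

section Decomp

variable {F V : Type*} [Field F] [AddCommGroup V] [Module F V] [Finite V] (φ : Module.End F V)

/-- The decomposition isomorphism of a pair of complementary invariant subspaces intertwines. -/
theorem prodEquiv_intertwine (P Q : Inv φ) (hc : IsCompl P.sub Q.sub) (a : P.sub × Q.sub) :
    Submodule.prodEquivOfIsCompl P.sub Q.sub hc (((ires φ P).prodMap (ires φ Q)) a) =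
      φ (Submodule.prodEquivOfIsCompl P.sub Q.sub hc a) := by
  rw [Submodule.coe_prodEquivOfIsCompl', Submodule.coe_prodEquivOfIsCompl', map_add]
  rfl

theorem charpoly_eq_mul (P Q : Inv φ) (hc : IsCompl P.sub Q.sub) :
    φ.charpoly = (ires φ P).charpoly * (ires φ Q).charpoly := by
  rw [← LinearMap.charpoly_prodMap]
  have h : φ = (Submodule.prodEquivOfIsCompl P.sub Q.sub hc).conj
      ((ires φ P).prodMap (ires φ Q)) := by
    ext v
    rw [LinearEquiv.conj_apply]
    show φ v = Submodule.prodEquivOfIsCompl P.sub Q.sub hc (((ires φ P).prodMap (ires φ Q))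
      ((Submodule.prodEquivOfIsCompl P.sub Q.sub hc).symm v))
    rw [prodEquiv_intertwine, LinearEquiv.apply_symm_apply]
  conv_lhs => rw [h]
  exact LinearEquiv.charpoly_conj _ _

/-- Equivariant maps out of a direct sum. -/
noncomputable def eqHomDecomp {B : Type*} [AddCommGroup B] [Module F B] (β : Module.End F B)
    (P Q : Inv φ) (hc : IsCompl P.sub Q.sub) :
    EqHom φ β ≃ EqHom (ires φ P) β × EqHom (ires φ Q) β :=
  (eqHomCongr ((ires φ P).prodMap (ires φ Q)) φ β
    (Submodule.prodEquivOfIsCompl P.sub Q.sub hc) (prodEquiv_intertwine φ P Q hc)).trans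
    (eqHomProd (ires φ P) (ires φ Q) β)

end Decomp

end Cfsg.Agent.Helper12.StVal
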