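import Cfsg.Agent.Helper12.StValF

set_option autoImplicit false

/-!
# Invariant complements of an invariant subspace correspond to equivariant maps
-/

namespace Cfsg.Agent.Helper12.StVal

open Module Finset

section Graph

variable {F V : Type*} [Field F] [AddCommGroup V] [Module F V] [Finite V] (φ : Module.End F V)
variable (S W' : Inv φ) (hc : IsCompl S.sub W'.sub)

/-- `y ↦ y + θ y`. -/
def graphMap (θ : EqHom (ires φ W') (ires φ S)) : W'.sub →ₗ[F] V :=
  W'.sub.subtype + S.sub.subtype ∘ₗ θ.1

theorem graphMap_apply (θ : EqHom (ires φ W') (ires φ S)) (y : W'.sub) :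
    graphMap φ S W' θ y = (y : V) + (θ.1 y : V) := rfl

/-- The graph of an equivariant map, an invariant subspace. -/
def graphInv (θ : EqHom (ires φ W') (ires φ S)) : Inv φ :=
  ⟨LinearMap.range (graphMap φ S W' θ), fun v hv => by
    obtain ⟨y, rfl⟩ := hv
    refine ⟨ires φ W' y, ?_⟩
    rw [graphMap_apply, graphMap_apply, map_add, θ.2]
    rfl⟩

include hc in
theorem isCompl_graph (θ : EqHom (ires φ W') (ires φ S)) :
    IsCompl S.sub (graphInv φ S W' θ).sub := by
  constructor
  · rw [Submodule.disjoint_def]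
    rintro x hx ⟨y, rfl⟩
    rw [graphMap_apply] at hx ⊢
    have hy : (y : V) ∈ S.sub := by
      have := S.sub.sub_mem hx (θ.1 y).2
      rwa [add_sub_cancel_right] at this
    have hy0 : (y : V) = 0 := (Submodule.disjoint_def.mp hc.disjoint) _ hy y.2
    have : y = 0 := Subtype.ext hy0
    rw [this]
    simp
  · rw [codisjoint_iff, eq_top_iff]
    intro v _
    have hv : v ∈ S.sub ⊔ W'.sub := by rw [hc.sup_eq_top]; trivial
    obtain ⟨a, ha, b, hb, rfl⟩ := Submodule.mem_sup.mp hv
    rw [Submodule.mem_sup]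
    refine ⟨a - (θ.1 ⟨b, hb⟩ : V), S.sub.sub_mem ha (θ.1 ⟨b, hb⟩).2,
      graphMap φ S W' θ ⟨b, hb⟩, ⟨⟨b, hb⟩, rfl⟩, ?_⟩
    rw [graphMap_apply]
    abel

include hc in
theorem graphInv_injective : Function.Injective (graphInv φ S W') := by
  intro θ θ' h
  apply Subtype.ext
  ext y
  have hmem : graphMap φ S W' θ y ∈ (graphInv φ S W' θ').sub := by
    rw [← h]
    exact ⟨y, rfl⟩
  obtain ⟨y', hy'⟩ := hmem
  rw [graphMap_apply, graphMap_apply] at hy'
  have h1 : ((y' - y : W'.sub) : V) = (θ.1 y : V) - (θ'.1 y' : V) := by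
    push_cast
    have := hy'
    calc (y' : V) - (y : V) = ((y' : V) + (θ'.1 y' : V)) - (y : V) - (θ'.1 y' : V) := by abel
      _ = ((y : V) + (θ.1 y : V)) - (y : V) - (θ'.1 y' : V) := by rw [this]
      _ = _ := by abel
  have h2 : ((y' - y : W'.sub) : V) ∈ S.sub := by
    rw [h1]
    exact S.sub.sub_mem (θ.1 y).2 (θ'.1 y').2
  have h3 : ((y' - y : W'.sub) : V) = 0 :=
    (Submodule.disjoint_def.mp hc.disjoint) _ h2 (y' - y).2
  have h4 : y' = y := by
    have : y' - y = 0 := Subtype.ext h3
    exact sub_eq_zero.mp this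
  rw [h4] at hy'
  have := add_left_cancel hy'
  exact this.symm

/-- The projection onto `S` along an invariant complement is equivariant. -/
theorem proj_equivariant (w : Inv φ) (hw : IsCompl S.sub w.sub) (v : V) :
    S.sub.projectionOnto w.sub hw (φ v) = ires φ S (S.sub.projectionOnto w.sub hw v) := by
  have hv := Submodule.projection_add_projection_eq_self hw v
  set a := S.sub.projectionOnto w.sub hw v with ha
  set b := w.sub.projectionOnto S.sub hw.symm v with hb
  have hv' : v = (a : V) + (b : V) := hv.symm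
  have h1 : φ v = ((ires φ S a : S.sub) : V) + ((ires φ w b : w.sub) : V) := by
    rw [hv', map_add]; rfl
  rw [h1, map_add, Submodule.projectionOnto_apply_left, Submodule.projectionOnto_apply_right,
    add_zero]

include hc in
theorem graphInv_surjective (w : Inv φ) (hw : IsCompl S.sub w.sub) :
    ∃ θ : EqHom (ires φ W') (ires φ S), graphInv φ S W' θ = w := by
  have hθ : ∀ y : W'.sub, (-(S.sub.projectionOnto w.sub hw ∘ₗ W'.sub.subtype)) (ires φ W' y) =
      ires φ S ((-(S.sub.projectionOnto w.sub hw ∘ₗ W'.sub.subtype)) y) := by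
    intro y
    simp only [LinearMap.neg_apply, LinearMap.comp_apply, Submodule.subtype_apply, map_neg]
    rw [← proj_equivariant]
    rfl
  let θ0 : EqHom (ires φ W') (ires φ S) := ⟨_, hθ⟩
  refine ⟨θ0, ?_⟩
  have key : ∀ y : W'.sub, graphMap φ S W' θ0 y =
      (y : V) - (S.sub.projectionOnto w.sub hw (y : V) : V) := by
    intro y
    rw [graphMap_apply]
    show (y : V) + (((-(S.sub.projectionOnto w.sub hw ∘ₗ W'.sub.subtype)) y : S.sub) : V) = _
    simp only [LinearMap.neg_apply, LinearMap.comp_apply, Submodule.subtype_apply,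
      Submodule.coe_neg]
    abel
  apply Inv.ext
  apply le_antisymm
  · rintro _ ⟨y, rfl⟩
    rw [key]
    exact Submodule.sub_projection_mem hw (y : V)
  · intro u hu
    have hv : u ∈ S.sub ⊔ W'.sub := by rw [hc.sup_eq_top]; trivial
    obtain ⟨a, ha, b, hb, rfl⟩ := Submodule.mem_sup.mp hv
    refine ⟨⟨b, hb⟩, ?_⟩
    rw [key]
    have h0 : S.sub.projectionOnto w.sub hw (a + b) = 0 :=
      (Submodule.projectionOnto_apply_eq_zero_iff hw).mpr hu
    rw [map_add, Submodule.projectionOnto_apply_of_mem_left hw ha] at h0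
    have h1 : S.sub.projectionOnto w.sub hw b = -⟨a, ha⟩ := by
      rw [eq_neg_iff_add_eq_zero, add_comm]; exact h0
    show b - ((S.sub.projectionOnto w.sub hw b : S.sub) : V) = a + b
    rw [h1]
    simp [add_comm]

/-- Invariant complements of `S` correspond to equivariant maps from a fixed complement to `S`. -/
noncomputable def complEquiv :
    EqHom (ires φ W') (ires φ S) ≃ {w : Inv φ // IsCompl S.sub w.sub} :=
  Equiv.ofBijective (fun θ => ⟨graphInv φ S W' θ, isCompl_graph φ S W' hc θ⟩)
    ⟨fun θ θ' h => graphInv_injective φ S W' hc (congrArg Subtype.val h),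
     fun w => by
      obtain ⟨θ, hθ⟩ := graphInv_surjective φ S W' hc w.1 w.2
      exact ⟨θ, Subtype.ext hθ⟩⟩

end Graph

end Cfsg.Agent.Helper12.StVal
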