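import Cfsg.Agent.Helper12.StValG

set_option autoImplicit false

/-!
# Simple endomorphisms: Schur's lemma and counting equivariant maps
-/

namespace Cfsg.Agent.Helper12.StVal

open Module Finset Polynomial

section Simple

variable {F : Type*} [Field F]
variable {A : Type*} [AddCommGroup A] [Module F A] [Finite A] (α : Module.End F A)

/-- An endomorphism with exactly two invariant subspaces. -/
def IsSimpleEnd : Prop := itop α ≠ ibot α ∧ ∀ w : Inv α, w = ibot α ∨ w = itop α

/-- The kernel of a commuting endomorphism. -/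
def kerInv (g : Module.End F A) (hg : ∀ a, g (α a) = α (g a)) : Inv α :=
  ⟨LinearMap.ker g, fun v hv => by
    rw [LinearMap.mem_ker] at hv ⊢
    rw [hg, hv, map_zero]⟩

theorem aeval_comm (p : F[X]) (a : A) : aeval α p (α a) = α (aeval α p a) := by
  have h : aeval α p * α = α * aeval α p := by
    have h1 : aeval α p * α = aeval α (p * X) := by rw [map_mul, aeval_X]
    have h2 : α * aeval α p = aeval α (X * p) := by rw [map_mul, aeval_X]
    rw [h1, h2, mul_comm]
  exact congrFun (congrArg DFunLike.coe h) a

variable {α}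

theorem exists_ne_zero_of_simple (hα : IsSimpleEnd α) : ∃ a : A, a ≠ 0 := by
  by_contra h
  push Not at h
  apply hα.1
  apply Inv.ext
  show (⊤ : Submodule F A) = ⊥
  rw [eq_bot_iff]
  intro v _
  rw [Submodule.mem_bot]
  exact h v

theorem eq_itop_of_mem (hα : IsSimpleEnd α) (w : Inv α) {a : A} (ha : a ≠ 0) (hw : a ∈ w.sub) :
    w = itop α := by
  rcases hα.2 w with h | h
  · exfalso
    apply ha
    have : a ∈ (ibot α).sub := h ▸ hw
    exact (Submodule.mem_bot F).mp this
  · exact h

/-- If `p(α)` kills a nonzero vector then it vanishes. -/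
theorem aeval_eq_zero_of_apply (hα : IsSimpleEnd α) (p : F[X]) {a : A} (ha : a ≠ 0)
    (h : aeval α p a = 0) : aeval α p = 0 := by
  have := eq_itop_of_mem hα (kerInv α (aeval α p) (aeval_comm α p)) ha (LinearMap.mem_ker.mpr h)
  ext v
  have hv : v ∈ (kerInv α (aeval α p) (aeval_comm α p)).sub := by
    rw [this]; exact Submodule.mem_top
  exact LinearMap.mem_ker.mp hv

variable (α)

/-- The cyclic map `p ↦ p(α) a`. -/
noncomputable def cyc (a : A) : F[X] →ₗ[F] A :=
  (LinearMap.applyₗ a) ∘ₗ (aeval α).toLinearMap

theorem cyc_apply (a : A) (p : F[X]) : cyc α a p = aeval α p a := rfl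

theorem cyc_X_mul (a : A) (p : F[X]) : cyc α a (X * p) = α (cyc α a p) := by
  rw [cyc_apply, cyc_apply, map_mul, aeval_X]
  rfl

variable {α}

theorem cyc_surjective (hα : IsSimpleEnd α) {a : A} (ha : a ≠ 0) :
    Function.Surjective (cyc α a) := by
  have h := eq_itop_of_mem hα ⟨LinearMap.range (cyc α a), fun v hv => by
      obtain ⟨p, rfl⟩ := hv
      exact ⟨X * p, cyc_X_mul α a p⟩⟩ ha ⟨1, by rw [cyc_apply, map_one]; rfl⟩
  rw [← LinearMap.range_eq_top]
  exact congrArg Inv.sub h

end Simple

section MinCharpoly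

variable {F : Type*} [Field F]
variable {A : Type*} [AddCommGroup A] [Module F A] [Finite A] {α : Module.End F A}

theorem minpoly_irreducible_of_simple (hα : IsSimpleEnd α) : Irreducible (minpoly F α) := by
  have hint : IsIntegral F α := LinearMap.isIntegral α
  have hne : minpoly F α ≠ 0 := minpoly.ne_zero hint
  obtain ⟨a₀, ha₀⟩ := exists_ne_zero_of_simple hα
  have : Nontrivial A := ⟨⟨a₀, 0, ha₀⟩⟩
  constructor
  · exact minpoly.not_isUnit F α
  · intro g h hgh
    rcases hα.2 (kerInv α (aeval α g) (aeval_comm α g)) with hk | hk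
    · -- `g(α)` injective, so `h(α) = 0`
      left
      have hinj : ∀ v, aeval α g v = 0 → v = 0 := by
        intro v hv
        have : v ∈ (kerInv α (aeval α g) (aeval_comm α g)).sub := LinearMap.mem_ker.mpr hv
        rw [hk] at this
        exact (Submodule.mem_bot F).mp this
      have hh : aeval α h = 0 := by
        ext v
        apply hinj
        have : aeval α (g * h) = 0 := by rw [← hgh]; exact minpoly.aeval F α
        rw [map_mul] at this
        exact congrFun (congrArg DFunLike.coe this) v
      obtain ⟨k, hk'⟩ := minpoly.dvd F α hh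
      have h1 : minpoly F α * 1 = minpoly F α * (g * k) := by
        rw [mul_one]
        conv_lhs => rw [hgh, hk']
        ring
      have h2 := mul_left_cancel₀ hne h1
      exact IsUnit.of_mul_eq_one k h2.symm
    · right
      have hg : aeval α g = 0 := by
        ext v
        have : v ∈ (kerInv α (aeval α g) (aeval_comm α g)).sub := by
          rw [hk]; exact Submodule.mem_top
        exact LinearMap.mem_ker.mp this
      obtain ⟨k, hk'⟩ := minpoly.dvd F α hg
      have h1 : minpoly F α * 1 = minpoly F α * (h * k) := by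
        rw [mul_one]
        conv_lhs => rw [hgh, hk']
        ring
      have h2 := mul_left_cancel₀ hne h1
      exact IsUnit.of_mul_eq_one k h2.symm

theorem finrank_le_natDegree_minpoly (hα : IsSimpleEnd α) :
    finrank F A ≤ (minpoly F α).natDegree := by
  obtain ⟨a₀, ha₀⟩ := exists_ne_zero_of_simple hα
  have hint : IsIntegral F α := LinearMap.isIntegral α
  have hmon : (minpoly F α).Monic := minpoly.monic hint
  set m := (minpoly F α).natDegree with hm
  -- the restriction of the cyclic map to polynomials of degree `< m` is surjective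
  have hsurj : Function.Surjective ((cyc α a₀) ∘ₗ (degreeLT F m).subtype) := by
    intro a
    obtain ⟨p, rfl⟩ := cyc_surjective hα ha₀ a
    refine ⟨⟨p %ₘ minpoly F α, ?_⟩, ?_⟩
    · rw [mem_degreeLT]
      calc (p %ₘ minpoly F α).degree < (minpoly F α).degree := degree_modByMonic_lt p hmon
        _ = m := by rw [hm]; exact degree_eq_natDegree hmon.ne_zero
    · show cyc α a₀ (p %ₘ minpoly F α) = cyc α a₀ p
      rw [cyc_apply, cyc_apply, aeval_modByMonic_eq_self_of_root (minpoly.aeval F α)]
  have h1 := LinearMap.finrank_le_finrank_of_surjective hsurj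
  have h2 : finrank F (degreeLT F m) = m := by
    rw [LinearEquiv.finrank_eq (degreeLTEquiv F m)]
    simp
  rw [h2] at h1
  exact h1

theorem charpoly_eq_minpoly_of_simple (hα : IsSimpleEnd α) : α.charpoly = minpoly F α := by
  have hint : IsIntegral F α := LinearMap.isIntegral α
  apply eq_of_monic_of_dvd_of_natDegree_le (minpoly.monic hint) (LinearMap.charpoly_monic α)
    (LinearMap.minpoly_dvd_charpoly α)
  rw [LinearMap.charpoly_natDegree]
  exact finrank_le_natDegree_minpoly hα

theorem charpoly_irreducible_of_simple (hα : IsSimpleEnd α) : Irreducible α.charpoly := by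
  rw [charpoly_eq_minpoly_of_simple hα]
  exact minpoly_irreducible_of_simple hα

end MinCharpoly

section Schur

variable {F : Type*} [Field F]
variable {A B : Type*} [AddCommGroup A] [Module F A] [Finite A] [AddCommGroup B] [Module F B]
  [Finite B] {α : Module.End F A} {β : Module.End F B}

/-- The zero map is equivariant. -/
def eqHomZero (α : Module.End F A) (β : Module.End F B) : EqHom α β :=
  ⟨0, fun a => by simp⟩

/-- Schur's lemma. -/
theorem eqHom_zero_or_bijective (hα : IsSimpleEnd α) (hβ : IsSimpleEnd β) (θ : EqHom α β) :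
    θ = eqHomZero α β ∨ Function.Bijective θ.1 := by
  obtain ⟨a₀, ha₀⟩ := exists_ne_zero_of_simple hα
  rcases hα.2 ⟨LinearMap.ker θ.1, fun v hv => by
      rw [LinearMap.mem_ker] at hv ⊢
      rw [θ.2, hv, map_zero]⟩ with hk | hk
  · right
    have hker : LinearMap.ker θ.1 = ⊥ := congrArg Inv.sub hk
    have hinj : Function.Injective θ.1 := LinearMap.ker_eq_bot.mp hker
    refine ⟨hinj, ?_⟩
    have hr := eq_itop_of_mem hβ ⟨LinearMap.range θ.1, fun v hv => by
        obtain ⟨a, rfl⟩ := hv
        exact ⟨α a, θ.2 a⟩⟩ (a := θ.1 a₀) (fun h => ha₀ (hinj (by rw [h, map_zero])))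
      ⟨a₀, rfl⟩
    rw [← LinearMap.range_eq_top]
    exact congrArg Inv.sub hr
  · left
    apply Subtype.ext
    ext v
    have hv : v ∈ LinearMap.ker θ.1 := by
      have : LinearMap.ker θ.1 = ⊤ := congrArg Inv.sub hk
      rw [this]; exact Submodule.mem_top
    exact LinearMap.mem_ker.mp hv

theorem card_eqHom_of_charpoly_ne (hα : IsSimpleEnd α) (hβ : IsSimpleEnd β)
    (h : α.charpoly ≠ β.charpoly) : Nat.card (EqHom α β) = 1 := by
  have : Unique (EqHom α β) :=
    { default := eqHomZero α β
      uniq := fun θ => by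
        rcases eqHom_zero_or_bijective hα hβ θ with h0 | hb
        · exact h0
        · exfalso
          apply h
          let e : A ≃ₗ[F] B := LinearEquiv.ofBijective θ.1 hb
          have hconj : β = e.conj α := by
            ext b
            rw [LinearEquiv.conj_apply]
            show β b = e (α (e.symm b))
            have := θ.2 (e.symm b)
            have h1 : θ.1 (e.symm b) = b := e.apply_symm_apply b
            rw [h1] at this
            rw [← this]
            rfl
          rw [hconj, LinearEquiv.charpoly_conj] }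
  exact Nat.card_unique

theorem card_eqHom_of_charpoly_eq (hα : IsSimpleEnd α) (hβ : IsSimpleEnd β)
    (h : α.charpoly = β.charpoly) : Nat.card (EqHom α β) = Nat.card B := by
  obtain ⟨a₀, ha₀⟩ := exists_ne_zero_of_simple hα
  apply Nat.card_eq_of_bijective (fun θ : EqHom α β => θ.1 a₀)
  constructor
  · intro θ θ' hθ
    apply Subtype.ext
    have hcomm : ∀ a, (θ.1 - θ'.1) (α a) = β ((θ.1 - θ'.1) a) := by
      intro a
      simp only [LinearMap.sub_apply, map_sub, θ.2, θ'.2]
    have hk := eq_itop_of_mem hα ⟨LinearMap.ker (θ.1 - θ'.1), fun v hv => by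
        rw [LinearMap.mem_ker] at hv ⊢
        rw [hcomm, hv, map_zero]⟩ ha₀ (by
      show a₀ ∈ LinearMap.ker (θ.1 - θ'.1)
      rw [LinearMap.mem_ker, LinearMap.sub_apply]
      exact sub_eq_zero.mpr hθ)
    ext v
    have hv : v ∈ LinearMap.ker (θ.1 - θ'.1) := by
      have : LinearMap.ker (θ.1 - θ'.1) = ⊤ := congrArg Inv.sub hk
      rw [this]; exact Submodule.mem_top
    rw [LinearMap.mem_ker, LinearMap.sub_apply] at hv
    exact sub_eq_zero.mp hv
  · intro b
    have hsurj := cyc_surjective hα ha₀
    have hle : LinearMap.ker (cyc α a₀) ≤ LinearMap.ker (cyc β b) := by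
      intro p hp
      rw [LinearMap.mem_ker, cyc_apply] at hp ⊢
      have h1 := aeval_eq_zero_of_apply hα p ha₀ hp
      have h2 : α.charpoly ∣ p := by
        rw [charpoly_eq_minpoly_of_simple hα]
        exact minpoly.dvd F α h1
      rw [h] at h2
      obtain ⟨k, rfl⟩ := h2
      rw [map_mul, LinearMap.aeval_self_charpoly, zero_mul]
      rfl
    let θ : A →ₗ[F] B := ((LinearMap.ker (cyc α a₀)).liftQ (cyc β b) hle) ∘ₗ
      ((cyc α a₀).quotKerEquivOfSurjective hsurj).symm.toLinearMap
    have hθ : ∀ p : F[X], θ (cyc α a₀ p) = cyc β b p := by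
      intro p
      show ((LinearMap.ker (cyc α a₀)).liftQ (cyc β b) hle)
        (((cyc α a₀).quotKerEquivOfSurjective hsurj).symm (cyc α a₀ p)) = cyc β b p
      have : ((cyc α a₀).quotKerEquivOfSurjective hsurj).symm (cyc α a₀ p) =
          Submodule.Quotient.mk p := by
        rw [LinearEquiv.symm_apply_eq]
        rfl
      rw [this, Submodule.liftQ_apply]
    refine ⟨⟨θ, fun a => ?_⟩, ?_⟩
    · obtain ⟨p, rfl⟩ := hsurj a
      rw [← cyc_X_mul, hθ, hθ, cyc_X_mul]
    · show θ a₀ = b
      have h1 : cyc α a₀ 1 = a₀ := by rw [cyc_apply, map_one]; rfl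
      have h2 : cyc β b 1 = b := by rw [cyc_apply, map_one]; rfl
      rw [← h1, hθ, h2]

end Schur

end Cfsg.Agent.Helper12.StVal
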