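import Cfsg.Agent.Helper12.StValH

set_option autoImplicit false

/-!
# Semisimple endomorphisms: atoms, complements and counting equivariant maps
-/

namespace Cfsg.Agent.Helper12.StVal

open Module Finset Polynomial

section SS

variable {F V : Type*} [Field F] [AddCommGroup V] [Module F V] [Finite V] (φ : Module.End F V)

/-- Every invariant subspace has an invariant complement. -/
def SS : Prop := ∀ W : Inv φ, ∃ C : Inv φ, IsCompl W.sub C.sub

variable {φ}

theorem SS.restrict (h : SS φ) (w : Inv φ) : SS (ires φ w) := by
  intro u
  obtain ⟨C, hC⟩ := h (up φ w u)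
  obtain ⟨c, hc⟩ := exists_up_eq φ w (iinf φ C w) inf_le_right
  refine ⟨c, ?_⟩
  have hinj : Function.Injective (Submodule.map w.sub.subtype) :=
    Submodule.map_injective_of_injective (Submodule.injective_subtype _)
  have hc' : c.sub.map w.sub.subtype = C.sub ⊓ w.sub := congrArg Inv.sub hc
  have hu : u.sub.map w.sub.subtype ≤ w.sub := up_le φ w u
  refine IsCompl.of_eq ?_ ?_
  · apply hinj
    rw [Submodule.map_inf _ (Submodule.injective_subtype _), Submodule.map_bot, hc', eq_bot_iff]
    calc u.sub.map w.sub.subtype ⊓ (C.sub ⊓ w.sub) ≤ u.sub.map w.sub.subtype ⊓ C.sub :=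
          inf_le_inf_left _ inf_le_left
      _ = ⊥ := hC.inf_eq_bot
  · apply hinj
    rw [Submodule.map_sup, hc', Submodule.map_subtype_top, ← sup_inf_assoc_of_le _ hu]
    have : u.sub.map w.sub.subtype ⊔ C.sub = ⊤ := hC.sup_eq_top
    rw [this, top_inf_eq]

theorem isSimpleEnd_of_atom {S : Inv φ} (hS : IsAtomInv φ S) : IsSimpleEnd (ires φ S) := by
  constructor
  · intro h
    apply hS.1
    rw [← up_itop φ S, h, up_ibot]
  · intro u
    rcases hS.2 (up φ S u) (up_le φ S u) with h | h
    · left
      apply up_injective φ S
      rw [h, up_ibot]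
    · right
      apply up_injective φ S
      rw [h, up_itop]

theorem finrank_add_of_isCompl (P Q : Inv φ) (hc : IsCompl P.sub Q.sub) :
    finrank F P.sub + finrank F Q.sub = finrank F V :=
  Submodule.finrank_add_eq_of_isCompl hc

theorem finrank_pos_of_ne_ibot {S : Inv φ} (hS : S ≠ ibot φ) : 0 < finrank F S.sub := by
  rw [Nat.pos_iff_ne_zero]
  intro h
  exact hS (eq_ibot_of_idim φ h)

end SS

section HomCount

open UniqueFactorizationMonoid
open scoped Classical

universe u v

variable {F : Type*} [Field F]

theorem charpoly_eq_one_of_bot {A : Type*} [AddCommGroup A] [Module F A] [Finite A]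
    (α : Module.End F A) (h : itop α = ibot α) : α.charpoly = 1 := by
  apply eq_one_of_monic_natDegree_zero (LinearMap.charpoly_monic α)
  rw [LinearMap.charpoly_natDegree]
  have := idim_ibot α
  rw [← h] at this
  unfold idim itop at this
  simpa using this

theorem subsingleton_of_bot {A : Type*} [AddCommGroup A] [Module F A] [Finite A]
    (α : Module.End F A) (h : itop α = ibot α) : Subsingleton A := by
  constructor
  intro a b
  have h1 : (⊤ : Submodule F A) = ⊥ := congrArg Inv.sub h
  have ha : a ∈ (⊤ : Submodule F A) := Submodule.mem_top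
  have hb : b ∈ (⊤ : Submodule F A) := Submodule.mem_top
  rw [h1, Submodule.mem_bot] at ha hb
  rw [ha, hb]

theorem nf_mul_irreducible {f g : F[X]} (hf : Irreducible f) (hfm : f.Monic) (hg : g ≠ 0) :
    normalizedFactors (f * g) = f ::ₘ normalizedFactors g := by
  rw [normalizedFactors_mul hf.ne_zero hg, normalizedFactors_irreducible hf,
    hfm.normalize_eq_self]
  rfl

theorem card_eqHom_semisimple {B : Type v} [AddCommGroup B] [Module F B] [Finite B]
    (β : Module.End F B) (hβ : IsSimpleEnd β) :
    ∀ (d : ℕ) (A : Type u) [AddCommGroup A] [Module F A] [Finite A] (α : Module.End F A),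
      SS α → finrank F A = d →
      Nat.card (EqHom α β) = Nat.card B ^ (normalizedFactors α.charpoly).count β.charpoly := by
  intro d
  induction d using Nat.strong_induction_on with
  | _ d ih =>
    intro A _ _ _ α hss hd
    by_cases hbot : itop α = ibot α
    · have hsub := subsingleton_of_bot α hbot
      rw [charpoly_eq_one_of_bot α hbot, normalizedFactors_one, Multiset.count_zero, pow_zero]
      have : Unique (EqHom α β) :=
        { default := eqHomZero α β
          uniq := fun θ => by
            apply Subtype.ext
            ext a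
            rw [Subsingleton.elim a 0, map_zero, map_zero] }
      exact Nat.card_unique
    · obtain ⟨S, hS, _⟩ := exists_atom_le α (itop α) hbot
      obtain ⟨Q, hQ⟩ := hss S
      have hsimple := isSimpleEnd_of_atom hS
      have hdim := finrank_add_of_isCompl S Q hQ
      have hpos := finrank_pos_of_ne_ibot hS.1
      have hih := ih (finrank F Q.sub) (by omega) Q.sub (ires α Q) (hss.restrict Q) rfl
      rw [Nat.card_congr (eqHomDecomp α β S Q hQ), Nat.card_prod, hih, charpoly_eq_mul α S Q hQ,
        nf_mul_irreducible (charpoly_irreducible_of_simple hsimple)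
          (LinearMap.charpoly_monic _) (LinearMap.charpoly_monic _).ne_zero,
        Multiset.count_cons]
      by_cases hf : β.charpoly = (ires α S).charpoly
      · rw [if_pos hf, card_eqHom_of_charpoly_eq hsimple hβ hf.symm, pow_succ, mul_comm]
      · rw [if_neg hf, card_eqHom_of_charpoly_ne hsimple hβ (fun h => hf h.symm), add_zero,
          one_mul]

end HomCount

end Cfsg.Agent.Helper12.StVal
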