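import Cfsg.Agent.Helper12.StValI

set_option autoImplicit false

/-!
# The Möbius number of the lattice of invariant subspaces of a semisimple endomorphism
-/

namespace Cfsg.Agent.Helper12.StVal

open Module Finset Polynomial UniqueFactorizationMonoid

section Tform

open scoped Classical

variable {F : Type*} [Field F]

/-- The factor attached to an irreducible polynomial of degree `d` occurring `m` times. -/
def tterm (q : ℕ) (d m : ℕ) : ℤ := (-1) ^ ((d - 1) * m) * (q : ℤ) ^ (d * m * (m - 1) / 2)

theorem tterm_zero (q d : ℕ) : tterm q d 0 = 1 := by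
  simp [tterm]

theorem tterm_succ (q d m : ℕ) :
    tterm q d (m + 1) = (-1) ^ (d - 1) * (q : ℤ) ^ (d * m) * tterm q d m := by
  unfold tterm
  have h1 : d * (m + 1) * (m + 1 - 1) / 2 = d * m * (m - 1) / 2 + d * m := by
    have he : 2 ∣ m * (m - 1) := by
      rcases Nat.even_or_odd m with h | h
      · exact Dvd.dvd.mul_right h.two_dvd _
      · rcases m with _ | m
        · simp
        · have : Even (m + 1 - 1) := by
            rw [Nat.add_sub_cancel]
            rcases h with ⟨k, hk⟩
            exact ⟨k, by omega⟩
          exact Dvd.dvd.mul_left this.two_dvd _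
    obtain ⟨c, hc⟩ := he
    have e1 : d * (m + 1) * (m + 1 - 1) = 2 * (d * c + d * m) := by
      rw [Nat.add_sub_cancel]
      rcases m with _ | m
      · simp at hc
        subst hc
        simp
      · rw [Nat.add_sub_cancel] at hc
        have : (m + 1 + 1) * (m + 1) = (m + 1) * m + 2 * (m + 1) := by ring
        rw [mul_assoc, this, hc]
        ring
    have e2 : d * m * (m - 1) = 2 * (d * c) := by
      rw [mul_assoc, hc]; ring
    rw [e1, e2, Nat.mul_div_cancel_left _ (by norm_num), Nat.mul_div_cancel_left _ (by norm_num)]
  rw [h1, mul_add, mul_one, pow_add, pow_add]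
  ring

/-- The product over the irreducible factors of `P`. -/
noncomputable def Tform (q : ℕ) (P : F[X]) : ℤ :=
  ∏ f ∈ (normalizedFactors P).toFinset,
    tterm q f.natDegree ((normalizedFactors P).count f)

theorem Tform_one (q : ℕ) : Tform q (1 : F[X]) = 1 := by
  unfold Tform
  rw [normalizedFactors_one]
  simp

theorem Tform_mul (q : ℕ) {f g : F[X]} (hf : Irreducible f) (hfm : f.Monic) (hg : g ≠ 0) :
    Tform q (f * g) = (-1) ^ (f.natDegree - 1) *
      (q : ℤ) ^ (f.natDegree * (normalizedFactors g).count f) * Tform q g := by
  unfold Tform
  rw [nf_mul_irreducible hf hfm hg, Multiset.toFinset_cons]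
  have h1 : ∏ h ∈ (normalizedFactors g).toFinset,
      tterm q h.natDegree ((normalizedFactors g).count h) =
      ∏ h ∈ insert f (normalizedFactors g).toFinset,
        tterm q h.natDegree ((normalizedFactors g).count h) := by
    by_cases hmem : f ∈ (normalizedFactors g).toFinset
    · rw [Finset.insert_eq_of_mem hmem]
    · rw [Finset.prod_insert hmem]
      have : (normalizedFactors g).count f = 0 := by
        rw [Multiset.count_eq_zero]
        intro h
        exact hmem (Multiset.mem_toFinset.mpr h)
      rw [this, tterm_zero, one_mul]
  rw [h1]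
  have h2 : ∀ h ∈ insert f (normalizedFactors g).toFinset,
      tterm q h.natDegree ((f ::ₘ normalizedFactors g).count h) =
      (if h = f then (-1) ^ (f.natDegree - 1) *
        (q : ℤ) ^ (f.natDegree * (normalizedFactors g).count f) else 1) *
      tterm q h.natDegree ((normalizedFactors g).count h) := by
    intro h _
    rw [Multiset.count_cons]
    by_cases hhf : h = f
    · subst hhf
      rw [if_pos rfl, if_pos rfl, tterm_succ]
    · rw [if_neg hhf, if_neg hhf, add_zero, one_mul]
  rw [Finset.prod_congr rfl h2, Finset.prod_mul_distrib, Finset.prod_ite_eq',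
    if_pos (Finset.mem_insert_self _ _)]

end Tform

section Main

open scoped Classical

universe u

variable {F : Type*} [Field F] [Finite F]

theorem mu0_of_bot {V : Type*} [AddCommGroup V] [Module F V] [Finite V] (φ : Module.End F V)
    (h : itop φ = ibot φ) : mu0 φ (itop φ) = 1 := by
  rw [h, mu0_ibot]

theorem neg_one_pow_sq (n : ℕ) : ((-1 : ℤ) ^ n) * ((-1) ^ n) = 1 := by
  rw [← pow_add, ← two_mul, pow_mul]
  simp

theorem main_moebius :
    ∀ (d : ℕ) (V : Type u) [AddCommGroup V] [Module F V] [Finite V] (φ : Module.End F V),
      SS φ → finrank F V = d →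
      (-1) ^ d * mu0 φ (itop φ) = Tform (Nat.card F) φ.charpoly := by
  intro d
  induction d using Nat.strong_induction_on with
  | _ d ih =>
    intro V _ _ _ φ hss hd
    by_cases hbot : itop φ = ibot φ
    · have hd0 : d = 0 := by
        rw [← hd]
        have := idim_ibot φ
        rw [← hbot] at this
        unfold idim itop at this
        simpa using this
      rw [mu0_of_bot φ hbot, charpoly_eq_one_of_bot φ hbot, Tform_one, hd0]
      simp
    · obtain ⟨S, hS, _⟩ := exists_atom_le φ (itop φ) hbot
      obtain ⟨W', hW'⟩ := hss S
      have hsimple := isSimpleEnd_of_atom hS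
      have hpos := finrank_pos_of_ne_ibot hS.1
      set f := (ires φ S).charpoly with hf
      set g := (ires φ W').charpoly with hg
      have hfirr : Irreducible f := charpoly_irreducible_of_simple hsimple
      have hfm : f.Monic := LinearMap.charpoly_monic _
      have hfdeg : f.natDegree = finrank F S.sub := LinearMap.charpoly_natDegree _
      have hchar : φ.charpoly = f * g := charpoly_eq_mul φ S W' hW'
      -- every complement has the same Möbius number
      have hcompl : ∀ w : Inv φ, IsCompl S.sub w.sub →
          mu0 φ w = (-1) ^ (d - finrank F S.sub) * Tform (Nat.card F) g := by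
        intro w hw
        have hdim := finrank_add_of_isCompl S w hw
        have hdw : finrank F w.sub = d - finrank F S.sub := by omega
        have h1 := ih (finrank F w.sub) (by omega) w.sub (ires φ w) (hss.restrict w) rfl
        have h2 : (ires φ w).charpoly = g := by
          have := charpoly_eq_mul φ S w hw
          rw [hchar] at this
          exact (mul_left_cancel₀ hfm.ne_zero this).symm
        rw [h2, hdw] at h1
        rw [mu0_eq_restrict, ← h1, ← mul_assoc, neg_one_pow_sq, one_mul]
      rw [mu0_itop_eq_neg_sum_compl φ S hS]
      have hsum : ∑ w : Inv φ, (if IsCompl S.sub w.sub then mu0 φ w else 0) =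
          (Nat.card {w : Inv φ // IsCompl S.sub w.sub} : ℤ) *
            ((-1) ^ (d - finrank F S.sub) * Tform (Nat.card F) g) := by
        rw [Finset.sum_congr rfl (fun w _ => by
          by_cases hw : IsCompl S.sub w.sub
          · rw [if_pos hw, if_pos hw, hcompl w hw]
          · rw [if_neg hw, if_neg hw]
          : ∀ w ∈ Finset.univ, (if IsCompl S.sub w.sub then mu0 φ w else 0) =
            if IsCompl S.sub w.sub then
              ((-1) ^ (d - finrank F S.sub) * Tform (Nat.card F) g) else 0)]
        rw [← Finset.sum_filter, Finset.sum_const, nsmul_eq_mul,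
          Nat.card_eq_fintype_card (α := {w : Inv φ // IsCompl S.sub w.sub}),
          Fintype.card_subtype]
      have hcard : Nat.card {w : Inv φ // IsCompl S.sub w.sub} =
          Nat.card F ^ (finrank F S.sub * (normalizedFactors g).count f) := by
        have : Fintype F := Fintype.ofFinite F
        rw [← Nat.card_congr (complEquiv φ S W' hW'),
          card_eqHom_semisimple (ires φ S) hsimple (finrank F W'.sub) W'.sub (ires φ W')
            (hss.restrict W') rfl, Module.natCard_eq_pow_finrank (K := F) (V := S.sub), ← pow_mul]
      rw [hsum, hcard, hchar, Tform_mul _ hfirr hfm (LinearMap.charpoly_monic _).ne_zero, hfdeg]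
      push_cast
      have hsplit : (-1 : ℤ) ^ d = (-1) ^ (finrank F S.sub) * (-1) ^ (d - finrank F S.sub) := by
        rw [← pow_add]
        congr 1
        have := finrank_add_of_isCompl S W' hW'
        omega
      have hpar : (-1 : ℤ) ^ (finrank F S.sub) = - (-1) ^ (finrank F S.sub - 1) := by
        obtain ⟨k, hk⟩ : ∃ k, finrank F S.sub = k + 1 := ⟨finrank F S.sub - 1, by omega⟩
        rw [hk, Nat.add_sub_cancel, pow_succ]
        ring
      rw [hsplit, hpar]
      have := neg_one_pow_sq (d - finrank F S.sub)
      linear_combination ((-1 : ℤ) ^ (finrank F S.sub - 1) *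
        (Nat.card F : ℤ) ^ (finrank F S.sub * (normalizedFactors g).count f) *
        Tform (Nat.card F) g) * this

end Main

end Cfsg.Agent.Helper12.StVal
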