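import Cfsg.Agent.Helper12.StValD
import Cfsg.Agent.Helper12.StValJ

set_option autoImplicit false

/-!
# The Steinberg character of `GL_n(q)` at `p'`-elements
-/

namespace Cfsg.Agent.Helper12.StVal

open Module Finset Polynomial UniqueFactorizationMonoid Cfsg Matrix
open scoped MatrixGroups

open scoped Classical

variable {F : Type*} [Field F] [Fintype F] {n : ℕ}

theorem xlin_pow (x : GL (Fin n) F) (k : ℕ) : xlin x ^ k = xlin (x ^ k) := by
  unfold xlin
  rw [← Matrix.toLin'_pow]
  congr 1

theorem xlin_one : xlin (1 : GL (Fin n) F) = 1 := by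
  unfold xlin
  simp [Module.End.one_eq_id]

/-- A `p'`-element acts semisimply. -/
theorem ss_xlin_of_coprime (p : ℕ) [Fact p.Prime] [CharP F p] (x : GL (Fin n) F)
    (hx : (orderOf x).Coprime p) : SS (xlin x) := by
  have hk : ((orderOf x : ℕ) : F) ≠ 0 := by
    intro h
    rw [CharP.cast_eq_zero_iff F p] at h
    have h1 : p ∣ Nat.gcd (orderOf x) p := Nat.dvd_gcd h dvd_rfl
    rw [hx] at h1
    exact (Fact.out : p.Prime).one_lt.ne' (Nat.dvd_one.mp h1)
  have hsep : (X ^ orderOf x - C (1 : F)).Separable :=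
    separable_X_pow_sub_C (1 : F) hk one_ne_zero
  have hsq : Squarefree (X ^ orderOf x - C (1 : F)) := hsep.squarefree
  have hae : aeval (xlin x) (X ^ orderOf x - C (1 : F)) = 0 := by
    simp only [map_sub, map_pow, aeval_X, map_one]
    rw [xlin_pow, pow_orderOf_eq_one, xlin_one, sub_self]
  have hs : (xlin x).IsSemisimple :=
    Module.End.isSemisimple_of_squarefree_aeval_eq_zero hsq hae
  rw [Module.End.isSemisimple_iff] at hs
  intro W
  have hW : W.sub ∈ Module.End.invtSubmodule (xlin x) := by
    rw [Module.End.mem_invtSubmodule]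
    intro v hv
    exact W.inv v hv
  obtain ⟨q, hq, hc⟩ := hs W.sub hW
  rw [Module.End.mem_invtSubmodule] at hq
  exact ⟨⟨q, fun v hv => hq hv⟩, hc⟩

/-- The value of the Steinberg character at a `p'`-element. -/
theorem steinberg_value (p : ℕ) [Fact p.Prime] [CharP F p] (x : GL (Fin n) F)
    (hx : (orderOf x).Coprime p) :
    unipotentCharacterGL n F (fun _ => 1) x =
      ((Tform (Fintype.card F) (x : Matrix (Fin n) (Fin n) F).charpoly : ℤ) : ℂ) := by
  rw [steinberg_eq_mu0]
  have h := main_moebius n (Fin n → F) (xlin x) (ss_xlin_of_coprime p x hx) (by simp)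
  rw [h, Nat.card_eq_fintype_card]
  unfold xlin
  rw [Matrix.charpoly_toLin']

end Cfsg.Agent.Helper12.StVal
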