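import Mathlib
import Cfsg.Agent.Helper12.FreeWord

set_option autoImplicit false

/-! Ping-pong for the matrices `Z(b,c)` (central root elements of the Suzuki group) and the
antidiagonal `T`, over a polynomial ring. -/

open Polynomial Matrix

namespace Cfsg.Agent.Helper12

section Matrices

variable {R : Type*} [CommRing R]

/-- The matrix `1 + b(E₂₀ + E₃₁) + cE₃₀`. -/
def szZ (b c : R) : Matrix (Fin 4) (Fin 4) R :=
  !![1, 0, 0, 0; 0, 1, 0, 0; b, 0, 1, 0; c, b, 0, 1]

/-- The antidiagonal matrix. -/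
def szT : Matrix (Fin 4) (Fin 4) R :=
  !![0, 0, 0, 1; 0, 0, 1, 0; 0, 1, 0, 0; 1, 0, 0, 0]

theorem szZ_mulVec (b c : R) (v : Fin 4 → R) :
    szZ b c *ᵥ v = ![v 0, v 1, b * v 0 + v 2, c * v 0 + b * v 1 + v 3] := by
  ext i
  fin_cases i <;> simp [szZ, Matrix.mulVec, dotProduct, Fin.sum_univ_four]

theorem szT_mulVec (v : Fin 4 → R) : (szT : Matrix (Fin 4) (Fin 4) R) *ᵥ v = ![v 3, v 2, v 1, v 0] := by
  ext i
  fin_cases i <;> simp [szT, Matrix.mulVec, dotProduct, Fin.sum_univ_four]

theorem szZ_mul (b c b' c' : R) : szZ b c * szZ b' c' = szZ (b + b') (c + c') := by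
  ext i j
  fin_cases i <;> fin_cases j <;>
    simp [szZ, Matrix.mul_apply, Fin.sum_univ_four]

theorem szZ_zero : szZ (0 : R) 0 = 1 := by
  ext i j
  fin_cases i <;> fin_cases j <;> simp [szZ]

theorem szZ_mul_neg (b c : R) : szZ b c * szZ (-b) (-c) = 1 := by
  rw [szZ_mul, add_neg_cancel, add_neg_cancel, szZ_zero]

theorem szZ_neg_mul (b c : R) : szZ (-b) (-c) * szZ b c = 1 := by
  rw [szZ_mul, neg_add_cancel, neg_add_cancel, szZ_zero]

theorem szT_mul_szT : (szT : Matrix (Fin 4) (Fin 4) R) * szT = 1 := by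
  ext i j
  fin_cases i <;> fin_cases j <;> simp [szT, Matrix.mul_apply, Fin.sum_univ_four]

theorem szZ_map {S : Type*} [CommRing S] (f : R →+* S) (b c : R) :
    (szZ b c).map f = szZ (f b) (f c) := by
  ext i j
  fin_cases i <;> fin_cases j <;> simp [szZ]

theorem szT_map {S : Type*} [CommRing S] (f : R →+* S) :
    (szT : Matrix (Fin 4) (Fin 4) R).map f = szT := by
  ext i j
  fin_cases i <;> fin_cases j <;> simp [szT]

end Matrices

variable {F : Type*} [Field F]

/-! ### Degree lemmas -/

theorem degree_mul_lt_mul {p q r s : F[X]} (h1 : p.degree < r.degree) (h2 : q.degree < s.degree) :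
    (p * q).degree < (r * s).degree := by
  have hr : r ≠ 0 := by
    intro h; rw [h, degree_zero] at h1; exact not_lt_bot h1
  have hs : s ≠ 0 := by
    intro h; rw [h, degree_zero] at h2; exact not_lt_bot h2
  by_cases hp : p = 0
  · rw [hp, zero_mul, degree_zero]
    exact bot_lt_iff_ne_bot.2 (fun h => mul_ne_zero hr hs (degree_eq_bot.1 h))
  by_cases hq : q = 0
  · rw [hq, mul_zero, degree_zero]
    exact bot_lt_iff_ne_bot.2 (fun h => mul_ne_zero hr hs (degree_eq_bot.1 h))
  rw [degree_mul, degree_mul]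
  rw [degree_eq_natDegree hp, degree_eq_natDegree hr] at h1
  rw [degree_eq_natDegree hq, degree_eq_natDegree hs] at h2
  rw [degree_eq_natDegree hp, degree_eq_natDegree hr, degree_eq_natDegree hq,
    degree_eq_natDegree hs]
  have h1' : p.natDegree < r.natDegree := by exact_mod_cast h1
  have h2' : q.natDegree < s.natDegree := by exact_mod_cast h2
  exact_mod_cast (by omega : p.natDegree + q.natDegree < r.natDegree + s.natDegree)

theorem degree_mul_lt_mul_right {p r s : F[X]} (h1 : p.degree < r.degree) (hs : s ≠ 0) :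
    (p * s).degree < (r * s).degree := by
  have hr : r ≠ 0 := by
    intro h; rw [h, degree_zero] at h1; exact not_lt_bot h1
  by_cases hp : p = 0
  · rw [hp, zero_mul, degree_zero]
    exact bot_lt_iff_ne_bot.2 (fun h => mul_ne_zero hr hs (degree_eq_bot.1 h))
  rw [degree_mul, degree_mul]
  rw [degree_eq_natDegree hp, degree_eq_natDegree hr] at h1
  rw [degree_eq_natDegree hp, degree_eq_natDegree hr, degree_eq_natDegree hs]
  have h1' : p.natDegree < r.natDegree := by exact_mod_cast h1
  exact_mod_cast (by omega : p.natDegree + s.natDegree < r.natDegree + s.natDegree)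

theorem degree_lt_mul_of_lt {q r s : F[X]} (h2 : q.degree < s.degree) (hr : r ≠ 0) :
    q.degree < (r * s).degree := by
  have hs : s ≠ 0 := by
    intro h; rw [h, degree_zero] at h2; exact not_lt_bot h2
  by_cases hq : q = 0
  · rw [hq, degree_zero]
    exact bot_lt_iff_ne_bot.2 (fun h => mul_ne_zero hr hs (degree_eq_bot.1 h))
  rw [degree_mul]
  rw [degree_eq_natDegree hq, degree_eq_natDegree hs] at h2
  rw [degree_eq_natDegree hq, degree_eq_natDegree hr, degree_eq_natDegree hs]
  have h2' : q.natDegree < s.natDegree := by exact_mod_cast h2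
  exact_mod_cast (by omega : q.natDegree < r.natDegree + s.natDegree)

theorem degree_lt_mul_self {r s : F[X]} (hr : 0 < r.degree) (hs : s ≠ 0) :
    s.degree < (r * s).degree := by
  have hr0 : r ≠ 0 := by
    intro h; rw [h, degree_zero] at hr; exact not_lt_bot hr
  rw [degree_mul]
  rw [degree_eq_natDegree hr0] at hr
  rw [degree_eq_natDegree hr0, degree_eq_natDegree hs]
  have hr' : 0 < r.natDegree := by exact_mod_cast hr
  exact_mod_cast (by omega : s.natDegree < r.natDegree + s.natDegree)

/-! ### The ping-pong regions -/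

/-- Vectors whose first coordinate strictly dominates. -/
def InB (v : Fin 4 → F[X]) : Prop :=
  v 0 ≠ 0 ∧ (v 1).degree < (v 0).degree ∧ (v 2).degree < (v 0).degree ∧
    (v 3).degree < (v 0).degree

/-- A large `Z(b,c)` followed by `T` maps the region into itself. -/
theorem large_maps (b c : F[X]) (hbc : b.degree < c.degree) (hc : 0 < c.degree)
    (v : Fin 4 → F[X]) (hv : InB v) : InB (szT *ᵥ (szZ b c *ᵥ v)) := by
  obtain ⟨h0, h1, h2, h3⟩ := hv
  have hc0 : c ≠ 0 := by
    intro h; rw [h, degree_zero] at hc; exact not_lt_bot hc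
  rw [szZ_mulVec, szT_mulVec]
  change (c * v 0 + b * v 1 + v 3) ≠ 0 ∧ (b * v 0 + v 2).degree < (c * v 0 + b * v 1 + v 3).degree ∧
    (v 1).degree < (c * v 0 + b * v 1 + v 3).degree ∧
    (v 0).degree < (c * v 0 + b * v 1 + v 3).degree
  have e1 : (b * v 1).degree < (c * v 0).degree := degree_mul_lt_mul hbc h1
  have e2 : (v 3).degree < (c * v 0).degree := degree_lt_mul_of_lt h3 hc0
  have e3 : (c * v 0 + b * v 1 + v 3).degree = (c * v 0).degree := by
    rw [add_assoc]
    apply degree_add_eq_left_of_degree_lt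
    exact lt_of_le_of_lt (degree_add_le _ _) (max_lt e1 e2)
  have e4 : c * v 0 ≠ 0 := mul_ne_zero hc0 h0
  refine ⟨?_, ?_, ?_, ?_⟩
  · intro h
    rw [h, degree_zero] at e3
    exact e4 (degree_eq_bot.1 e3.symm)
  · rw [e3]
    refine lt_of_le_of_lt (degree_add_le _ _) (max_lt ?_ ?_)
    · exact degree_mul_lt_mul_right hbc h0
    · exact degree_lt_mul_of_lt h2 hc0
  · rw [e3]
    exact degree_lt_mul_of_lt h1 hc0
  · rw [e3]
    exact degree_lt_mul_self hc h0

/-! ### Letters -/

/-- The index of the attracting unipotent of a letter. -/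
def szHead (x : ℕ × Bool) : ℕ := 2 * x.1 + (bif x.2 then 1 else 2)

/-- The index of the repelling unipotent of a letter. -/
def szTail (x : ℕ × Bool) : ℕ := 2 * x.1 + (bif x.2 then 2 else 1)

theorem szHead_pos (x : ℕ × Bool) : 1 ≤ szHead x := by
  rcases x with ⟨i, b⟩
  cases b <;> simp [szHead]

theorem szTail_pos (x : ℕ × Bool) : 1 ≤ szTail x := by
  rcases x with ⟨i, b⟩
  cases b <;> simp [szTail]

theorem szHead_ne_szTail_of_chain {x y : ℕ × Bool} (h : x.1 = y.1 → x.2 = y.2) :
    szHead y ≠ szTail x := by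
  rcases x with ⟨i, b⟩
  rcases y with ⟨j, c⟩
  simp only at h
  cases b <;> cases c <;> simp only [szHead, szTail, cond_true, cond_false] <;> intro h2
  · omega
  · have : i = j := by omega
    simpa using h this
  · have : i = j := by omega
    simpa using h this
  · omega

variable (F)

/-- The unipotent `Z(X^k, X^{ek})`. -/
noncomputable def szU (e k : ℕ) : Matrix (Fin 4) (Fin 4) F[X] := szZ (X ^ k) (X ^ (e * k))

/-- Its inverse. -/
noncomputable def szUinv (e k : ℕ) : Matrix (Fin 4) (Fin 4) F[X] :=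
  szZ (-X ^ k) (-X ^ (e * k))

/-- The polynomial matrix of a letter. -/
noncomputable def szMat (e : ℕ) (x : ℕ × Bool) : Matrix (Fin 4) (Fin 4) F[X] :=
  szU F e (szHead x) * szT * szUinv F e (szTail x)

/-- The ping-pong region of a letter. -/
def szReg (e : ℕ) (x : ℕ × Bool) (v : Fin 4 → F[X]) : Prop :=
  InB (szUinv F e (szHead x) *ᵥ v)

variable {F}

theorem degree_X_pow_sub_X_pow {a b : ℕ} (h : a < b) :
    (X ^ a - X ^ b : F[X]).degree = (b : WithBot ℕ) := by
  rw [degree_sub_eq_right_of_degree_lt, degree_X_pow]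
  rw [degree_X_pow, degree_X_pow]
  exact_mod_cast h

theorem degree_X_pow_sub_X_pow' {a b : ℕ} (h : b < a) :
    (X ^ a - X ^ b : F[X]).degree = (a : WithBot ℕ) := by
  rw [degree_sub_eq_left_of_degree_lt, degree_X_pow]
  rw [degree_X_pow, degree_X_pow]
  exact_mod_cast h

theorem szMat_step (e : ℕ) (he : 2 ≤ e) (x y : ℕ × Bool) (hxy : szHead y ≠ szTail x)
    (v : Fin 4 → F[X]) (hv : szReg F e y v) : szReg F e x (szMat F e x *ᵥ v) := by
  unfold szReg at hv ⊢
  have h1 : szUinv F e (szHead x) *ᵥ (szMat F e x *ᵥ v) =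
      szT *ᵥ (szUinv F e (szTail x) *ᵥ v) := by
    rw [szMat, Matrix.mulVec_mulVec, ← Matrix.mul_assoc, ← Matrix.mul_assoc, szUinv, szU,
      szZ_neg_mul, Matrix.one_mul, Matrix.mulVec_mulVec]
  have h2 : szUinv F e (szTail x) *ᵥ v =
      (szUinv F e (szTail x) * szU F e (szHead y)) *ᵥ (szUinv F e (szHead y) *ᵥ v) := by
    rw [Matrix.mulVec_mulVec, Matrix.mul_assoc, szU, szUinv, szUinv, szZ_mul_neg, Matrix.mul_one]
  rw [h1, h2, szUinv, szU, szZ_mul]
  have hty := szTail_pos x
  have hhy := szHead_pos y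
  apply large_maps _ _ _ _ _ hv
  · rw [neg_add_eq_sub, neg_add_eq_sub]
    rcases lt_or_gt_of_ne hxy with h | h
    · have h' : e * szHead y < e * szTail x := Nat.mul_lt_mul_of_pos_left h (by omega)
      rw [degree_X_pow_sub_X_pow h, degree_X_pow_sub_X_pow h']
      have : szTail x < e * szTail x := by nlinarith
      exact_mod_cast this
    · have h' : e * szTail x < e * szHead y := Nat.mul_lt_mul_of_pos_left h (by omega)
      rw [degree_X_pow_sub_X_pow' h, degree_X_pow_sub_X_pow' h']
      have : szHead y < e * szHead y := by nlinarith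
      exact_mod_cast this
  · rw [neg_add_eq_sub]
    rcases lt_or_gt_of_ne hxy with h | h
    · have h' : e * szHead y < e * szTail x := Nat.mul_lt_mul_of_pos_left h (by omega)
      rw [degree_X_pow_sub_X_pow h']
      have : 0 < e * szTail x := by positivity
      exact_mod_cast this
    · have h' : e * szTail x < e * szHead y := Nat.mul_lt_mul_of_pos_left h (by omega)
      rw [degree_X_pow_sub_X_pow' h']
      have : 0 < e * szHead y := by positivity
      exact_mod_cast this

/-- The base vector `e₃`, fixed by all the unipotents. -/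
noncomputable def szE3 : Fin 4 → F[X] := ![0, 0, 0, 1]

theorem szZ_mulVec_szE3 (b c : F[X]) : szZ b c *ᵥ szE3 = szE3 := by
  rw [szZ_mulVec]
  ext i
  fin_cases i <;> simp [szE3]

theorem szMat_base (e : ℕ) (x : ℕ × Bool) : szReg F e x (szMat F e x *ᵥ szE3) := by
  unfold szReg
  have h1 : szUinv F e (szHead x) *ᵥ (szMat F e x *ᵥ szE3) =
      szT *ᵥ (szUinv F e (szTail x) *ᵥ szE3) := by
    rw [szMat, Matrix.mulVec_mulVec, ← Matrix.mul_assoc, ← Matrix.mul_assoc, szUinv, szU,
      szZ_neg_mul, Matrix.one_mul, Matrix.mulVec_mulVec]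
  rw [h1, szUinv, szZ_mulVec_szE3, szT_mulVec]
  change (1 : F[X]) ≠ 0 ∧ (0 : F[X]).degree < (1 : F[X]).degree ∧
    (0 : F[X]).degree < (1 : F[X]).degree ∧ (0 : F[X]).degree < (1 : F[X]).degree
  simp

theorem not_szReg_szE3 (e : ℕ) (x : ℕ × Bool) : ¬ szReg F e x szE3 := by
  unfold szReg
  rw [szUinv, szZ_mulVec_szE3]
  intro h
  exact h.1 rfl

variable (F)

/-- The product of the letter matrices along a word. -/
noncomputable def szProd (e : ℕ) (L : List (ℕ × Bool)) : Matrix (Fin 4) (Fin 4) F[X] :=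
  (L.map (szMat F e)).prod

variable {F}

theorem szProd_cons (e : ℕ) (x : ℕ × Bool) (L : List (ℕ × Bool)) :
    szProd F e (x :: L) = szMat F e x * szProd F e L := by
  simp [szProd]

theorem szProd_vec (e : ℕ) (he : 2 ≤ e) (L : List (ℕ × Bool)) (hL : FreeGroup.IsReduced L) :
    ∀ x L', L = x :: L' → szReg F e x (szProd F e L *ᵥ szE3) := by
  induction L with
  | nil => intro x L' h; cases h
  | cons y L ih =>
    intro x L' h
    obtain ⟨rfl, rfl⟩ := List.cons.inj h
    have hred : FreeGroup.IsReduced L := by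
      unfold FreeGroup.IsReduced at hL ⊢
      exact hL.tail
    rw [szProd_cons, ← Matrix.mulVec_mulVec]
    cases L with
    | nil =>
      have h1 : szProd F e [] = 1 := by simp [szProd]
      rw [h1, Matrix.one_mulVec]
      exact szMat_base e y
    | cons z L2 =>
      have hz := ih hred z L2 rfl
      refine szMat_step e he y z ?_ _ hz
      unfold FreeGroup.IsReduced at hL
      rw [List.isChain_cons_cons] at hL
      exact szHead_ne_szTail_of_chain hL.1

/-- Along a nonempty reduced word the product of the letter matrices is not the identity. -/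
theorem szProd_ne_one (e : ℕ) (he : 2 ≤ e) (L : List (ℕ × Bool)) (hL : FreeGroup.IsReduced L)
    (hne : L ≠ []) : szProd F e L ≠ 1 := by
  intro h
  cases L with
  | nil => exact hne rfl
  | cons x L' =>
    have := szProd_vec (F := F) e he (x :: L') hL x L' rfl
    rw [h, Matrix.one_mulVec] at this
    exact not_szReg_szE3 e x this

/-! ### Degree bounds -/

theorem natDegree_matrix_mul_le {n : ℕ} (A B : Matrix (Fin n) (Fin n) F[X]) (a b : ℕ)
    (hA : ∀ i j, (A i j).natDegree ≤ a) (hB : ∀ i j, (B i j).natDegree ≤ b) (i j : Fin n) :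
    ((A * B) i j).natDegree ≤ a + b := by
  rw [Matrix.mul_apply]
  apply Polynomial.natDegree_sum_le_of_forall_le
  intro k _
  exact natDegree_mul_le_of_le (hA i k) (hB k j)

theorem szZ_natDegree_le (b c : F[X]) (a : ℕ) (hb : b.natDegree ≤ a) (hc : c.natDegree ≤ a)
    (i j : Fin 4) : (szZ b c i j).natDegree ≤ a := by
  fin_cases i <;> fin_cases j <;> simp [szZ, hb, hc]

theorem szT_natDegree_le (i j : Fin 4) : ((szT : Matrix (Fin 4) (Fin 4) F[X]) i j).natDegree ≤ 0 := by
  fin_cases i <;> fin_cases j <;> simp [szT]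

theorem szMat_natDegree_le (e : ℕ) (he : 1 ≤ e) (x : ℕ × Bool) (i j : Fin 4) :
    ((szMat F e x) i j).natDegree ≤ e * (4 * x.1 + 3) := by
  have h1 : ∀ k : ℕ, ∀ i j, ((szU F e k) i j).natDegree ≤ e * k := by
    intro k i j
    apply szZ_natDegree_le
    · rw [natDegree_X_pow]; nlinarith
    · rw [natDegree_X_pow]
  have h2 : ∀ k : ℕ, ∀ i j, ((szUinv F e k) i j).natDegree ≤ e * k := by
    intro k i j
    apply szZ_natDegree_le
    · rw [natDegree_neg, natDegree_X_pow]; nlinarith
    · rw [natDegree_neg, natDegree_X_pow]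
  have h3 := natDegree_matrix_mul_le _ _ _ _
    (natDegree_matrix_mul_le _ _ _ _ (h1 (szHead x)) szT_natDegree_le) (h2 (szTail x)) i j
  refine le_trans h3 (le_of_eq ?_)
  rcases x with ⟨k, b⟩
  cases b <;> simp only [szHead, szTail, cond_true, cond_false] <;> ring

/-- Degree bound attached to a word. -/
def szBound (L : List (ℕ × Bool)) : ℕ := (L.map (fun x => 4 * x.1 + 3)).sum

theorem szProd_natDegree_le (e : ℕ) (he : 1 ≤ e) (L : List (ℕ × Bool)) (i j : Fin 4) :
    ((szProd F e L) i j).natDegree ≤ e * szBound L := by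
  induction L generalizing i j with
  | nil =>
    have h1 : szProd F e [] = 1 := by simp [szProd]
    rw [h1]
    by_cases h : i = j
    · subst h; simp
    · simp [Matrix.one_apply_ne h]
  | cons x L ih =>
    rw [szProd_cons]
    have hb : szBound (x :: L) = (4 * x.1 + 3) + szBound L := by simp [szBound]
    rw [hb, mul_add]
    exact natDegree_matrix_mul_le _ _ _ _ (szMat_natDegree_le e he x) ih i j

end Cfsg.Agent.Helper12
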