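import Mathlib
import Cfsg.Prelude.Def_Sz
import Cfsg.Agent.Helper12.SzPingPong

set_option autoImplicit false

/-! Specialising the polynomial ping-pong matrices to elements of the Suzuki group. -/

open Polynomial Matrix

namespace Cfsg.Agent.Helper12

variable {F : Type*} [Field F]

/-- `Z(b,c)` as an element of `GL₄`. -/
def szZGL (b c : F) : GL (Fin 4) F := ⟨szZ b c, szZ (-b) (-c), szZ_mul_neg b c, szZ_neg_mul b c⟩

/-- `T` as an element of `GL₄`. -/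
def szTGL : GL (Fin 4) F := ⟨szT, szT, szT_mul_szT, szT_mul_szT⟩

theorem szZGL_inv_val (b c : F) : ((szZGL b c)⁻¹ : GL (Fin 4) F).val = szZ (-b) (-c) := rfl

theorem szZGL_mem_Sp4 [CharP F 2] (b c : F) : szZGL b c ∈ Cfsg.Lie.Sp4 F := by
  intro u v
  have h2 : (2 : F) = 0 := by exact_mod_cast CharP.cast_eq_zero F 2
  simp only [Units.coeHom_apply, szZGL, szZ_mulVec, Cfsg.Lie.altForm4]
  change u 0 * (c * v 0 + b * v 1 + v 3) + u 1 * (b * v 0 + v 2) + (b * u 0 + u 2) * v 1 +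
    (c * u 0 + b * u 1 + u 3) * v 0 = u 0 * v 3 + u 1 * v 2 + u 2 * v 1 + u 3 * v 0
  linear_combination (c * u 0 * v 0 + b * u 0 * v 1 + b * u 1 * v 0) * h2

theorem szTGL_mem_Sp4 : (szTGL : GL (Fin 4) F) ∈ Cfsg.Lie.Sp4 F := by
  intro u v
  simp only [Units.coeHom_apply, szTGL, szT_mulVec, Cfsg.Lie.altForm4]
  change u 3 * v 0 + u 2 * v 1 + u 1 * v 2 + u 0 * v 3 = u 0 * v 3 + u 1 * v 2 + u 2 * v 1 + u 3 * v 0
  ring

theorem star4_szZ [CharP F 2] (e : ℕ) (he : e ≠ 0) (b : F) (hb : (b ^ e) ^ e = b ^ 2) :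
    Cfsg.Lie.star4 (szZ b (b ^ e)) = (szZ b (b ^ e)).map (fun x => x ^ e) := by
  ext i j
  fin_cases i <;> fin_cases j <;>
    simp [Cfsg.Lie.star4, Cfsg.Lie.pairOf, szZ, he, hb, CharTwo.neg_eq, sq]

theorem star4_szT [CharP F 2] (e : ℕ) (he : e ≠ 0) :
    Cfsg.Lie.star4 (szT : Matrix (Fin 4) (Fin 4) F) = (szT : Matrix (Fin 4) (Fin 4) F).map (fun x => x ^ e) := by
  ext i j
  fin_cases i <;> fin_cases j <;>
    simp [Cfsg.Lie.star4, Cfsg.Lie.pairOf, szT, he, CharTwo.neg_eq]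

theorem szZGL_mem_Sz [CharP F 2] (e : ℕ) (he : e ≠ 0) (b : F) (hb : (b ^ e) ^ e = b ^ 2) :
    szZGL b (b ^ e) ∈ Cfsg.Lie.Sz F e :=
  Subgroup.subset_closure ⟨szZGL_mem_Sp4 b _, star4_szZ e he b hb⟩

theorem szTGL_mem_Sz [CharP F 2] (e : ℕ) (he : e ≠ 0) : (szTGL : GL (Fin 4) F) ∈ Cfsg.Lie.Sz F e :=
  Subgroup.subset_closure ⟨szTGL_mem_Sp4, star4_szT e he⟩

/-- The specialised generators, in `GL₄`. -/
def szGenGL (e : ℕ) (c : F) (i : ℕ) : GL (Fin 4) F :=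
  szZGL (c ^ (2 * i + 1)) ((c ^ (2 * i + 1)) ^ e) * szTGL *
    (szZGL (c ^ (2 * i + 2)) ((c ^ (2 * i + 2)) ^ e))⁻¹

theorem szGenGL_mem [CharP F 2] (e : ℕ) (he : e ≠ 0) (hF : ∀ b : F, (b ^ e) ^ e = b ^ 2) (c : F)
    (i : ℕ) : szGenGL e c i ∈ Cfsg.Lie.Sz F e :=
  Subgroup.mul_mem _ (Subgroup.mul_mem _ (szZGL_mem_Sz e he _ (hF _)) (szTGL_mem_Sz e he))
    (Subgroup.inv_mem _ (szZGL_mem_Sz e he _ (hF _)))

theorem szMat_map_eval (e : ℕ) (c : F) (x : ℕ × Bool) :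
    (szMat F e x).map (Polynomial.evalRingHom c) =
      szZ (c ^ szHead x) (c ^ (e * szHead x)) * szT *
        szZ (-c ^ szTail x) (-c ^ (e * szTail x)) := by
  rw [szMat, Matrix.map_mul, Matrix.map_mul, szU, szUinv, szZ_map, szZ_map, szT_map]
  simp

theorem szGenGL_letterVal (e : ℕ) (c : F) (x : ℕ × Bool) :
    ((letterVal (szGenGL e c) x : GL (Fin 4) F) : Matrix (Fin 4) (Fin 4) F) =
      (szMat F e x).map (Polynomial.evalRingHom c) := by
  rw [szMat_map_eval]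
  rcases x with ⟨i, b⟩
  cases b
  · simp only [letterVal, cond_false, szGenGL, szHead, szTail]
    rw [_root_.mul_inv_rev, _root_.mul_inv_rev, inv_inv, ← mul_assoc]
    rw [Units.val_mul, Units.val_mul, szZGL_inv_val]
    have hT : ((szTGL⁻¹ : GL (Fin 4) F) : Matrix (Fin 4) (Fin 4) F) = szT := rfl
    rw [hT]
    simp only [szZGL, ← pow_mul, mul_comm e, Matrix.mul_assoc]
  · simp only [letterVal, cond_true, szGenGL, szHead, szTail]
    rw [Units.val_mul, Units.val_mul, szZGL_inv_val]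
    simp only [szZGL, szTGL, ← pow_mul, mul_comm e]

/-- The matrix of the value of a word. -/
theorem szGenGL_prod (e : ℕ) (c : F) (L : List (ℕ × Bool)) :
    (((L.map (letterVal (szGenGL e c))).prod : GL (Fin 4) F) : Matrix (Fin 4) (Fin 4) F) =
      (szProd F e L).map (Polynomial.evalRingHom c) := by
  induction L with
  | nil =>
    simp only [List.map_nil, List.prod_nil, Units.val_one, szProd]
    rw [Matrix.map_one _ (map_zero _) (map_one _)]
  | cons x L ih =>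
    rw [List.map_cons, List.prod_cons, Units.val_mul, ih, szGenGL_letterVal, szProd_cons,
      Matrix.map_mul]

end Cfsg.Agent.Helper12
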