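import Mathlib

set_option autoImplicit false
set_option linter.unusedSectionVars false
set_option linter.unusedVariables false

/-! S3797 piece SECTION: a minimal section of `O_2` on which a `2'`-group acts nontrivially. -/

namespace Cfsg.Agent.Helper12.Th

open scoped commutatorElement

variable {H : Type*} [Group H]

/-- invariance under conjugation by the elements of a subgroup -/
def Inv (H1 K : Subgroup H) : Prop := ∀ g ∈ H1, ∀ x ∈ K, g * x * g⁻¹ ∈ K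

theorem Inv.inf {H1 A B : Subgroup H} (hA : Inv H1 A) (hB : Inv H1 B) : Inv H1 (A ⊓ B) :=
  fun g hg x hx => ⟨hA g hg x hx.1, hB g hg x hx.2⟩

theorem Inv.centralizer {H1 A : Subgroup H} (hA : Inv H1 A) :
    Inv H1 (Subgroup.centralizer (A : Set H)) := by
  intro g hg x hx
  rw [Subgroup.mem_centralizer_iff] at hx ⊢
  intro n hn
  have h1 : g⁻¹ * n * g⁻¹⁻¹ ∈ A := hA g⁻¹ (H1.inv_mem hg) n hn
  have h2 := hx _ h1
  have e1 : n * (g * x * g⁻¹) = g * ((g⁻¹ * n * g⁻¹⁻¹) * x) * g⁻¹ := by group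
  have e2 : g * x * g⁻¹ * n = g * (x * (g⁻¹ * n * g⁻¹⁻¹)) * g⁻¹ := by group
  rw [e1, e2, h2]

theorem Inv.commutator {H1 A B : Subgroup H} (hA : Inv H1 A) (hB : Inv H1 B) :
    Inv H1 ⁅A, B⁆ := by
  intro g hg
  have : ⁅A, B⁆ ≤ (⁅A, B⁆).comap (MulAut.conj g).toMonoidHom := by
    rw [Subgroup.commutator_le]
    intro a ha b hb
    rw [Subgroup.mem_comap]
    show g * ⁅a, b⁆ * g⁻¹ ∈ ⁅A, B⁆
    have e : g * ⁅a, b⁆ * g⁻¹ = ⁅g * a * g⁻¹, g * b * g⁻¹⁆ := by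
      simp only [commutatorElement_def]; group
    rw [e]
    exact Subgroup.commutator_mem_commutator (hA g hg a ha) (hB g hg b hb)
  intro x hx
  exact this hx

theorem Inv.closure {H1 : Subgroup H} {s : Set H}
    (hs : ∀ g ∈ H1, ∀ x ∈ s, g * x * g⁻¹ ∈ s) : Inv H1 (Subgroup.closure s) := by
  intro g hg
  have : Subgroup.closure s ≤ (Subgroup.closure s).comap (MulAut.conj g).toMonoidHom := by
    rw [Subgroup.closure_le]
    intro x hx
    exact Subgroup.subset_closure (hs g hg x hx)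
  intro x hx
  exact this hx

/-- a coprime-order element acting on a 2-group with `[x, g, g] = 1` centralises -/
theorem comm_of_comm_comm {Q : Subgroup H} (hQ2 : IsPGroup 2 Q) {r : ℕ} (hr : r.Prime)
    (hr2 : r ≠ 2) {g x : H} {j : ℕ} (hg : g ^ (r ^ j) = 1)
    (hc : g * x * g⁻¹ * x⁻¹ ∈ Q) (hcomm : g * (g * x * g⁻¹ * x⁻¹) = (g * x * g⁻¹ * x⁻¹) * g) :
    g * x = x * g := by
  set c := g * x * g⁻¹ * x⁻¹ with hcdef
  have hpow : ∀ k : ℕ, g ^ k * x * (g ^ k)⁻¹ = c ^ k * x := by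
    intro k
    induction k with
    | zero => simp
    | succ k ih =>
      have e1 : g ^ (k + 1) * x * (g ^ (k + 1))⁻¹ = g * (g ^ k * x * (g ^ k)⁻¹) * g⁻¹ := by
        rw [pow_succ']; group
      have hck : g * c ^ k = c ^ k * g := by
        have : Commute g c := hcomm
        exact (this.pow_right k).eq
      rw [e1, ih]
      calc g * (c ^ k * x) * g⁻¹ = (g * c ^ k) * x * g⁻¹ := by group
        _ = (c ^ k * g) * x * g⁻¹ := by rw [hck]
        _ = c ^ k * (g * x * g⁻¹ * x⁻¹) * x := by group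
        _ = c ^ (k + 1) * x := by rw [← hcdef, pow_succ]
  have h1 := hpow (r ^ j)
  rw [hg] at h1
  have h2 : c ^ (r ^ j) = 1 := by
    have : x = c ^ (r ^ j) * x := by simpa using h1
    exact (mul_eq_right.1 this.symm)
  obtain ⟨a, ha⟩ := hQ2 ⟨c, hc⟩
  have h3 : c ^ (2 ^ a) = 1 := by
    have := congrArg Subtype.val ha
    simpa using this
  have hcop : Nat.Coprime (r ^ j) (2 ^ a) := by
    apply Nat.Coprime.pow
    rw [Nat.coprime_primes hr Nat.prime_two]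
    exact hr2
  have h4 : orderOf c ∣ 1 := by
    rw [← Nat.Coprime.gcd_eq_one hcop]
    exact Nat.dvd_gcd (orderOf_dvd_of_pow_eq_one h2) (orderOf_dvd_of_pow_eq_one h3)
  have h5 : c = 1 := by
    rw [← orderOf_eq_one_iff]
    exact Nat.dvd_one.1 h4
  have : g * x * g⁻¹ * x⁻¹ = 1 := h5
  have e : g * x = (g * x * g⁻¹ * x⁻¹) * (x * g) := by group
  rw [e, this, one_mul]

/-- in a finite `2`-group, `[K, Q] ≠ K` for a nontrivial subgroup `K` -/
theorem commutator_ne_self [Finite H] {Q K : Subgroup H} (hQ2 : IsPGroup 2 Q) (hle : K ≤ Q)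
    (hne : K ≠ ⊥) : ⁅K, Q⁆ ≠ K := by
  intro heq
  have : Fact (Nat.Prime 2) := ⟨Nat.prime_two⟩
  have hnil : Group.IsNilpotent ↥Q := hQ2.isNilpotent
  obtain ⟨n, hn⟩ := (Subgroup.isNilpotent_iff_lowerCentralSeries Q).1 hnil
  have : ∀ i, K ≤ Q.lowerCentralSeries i := by
    intro i
    induction i with
    | zero => exact hle
    | succ i ih =>
      rw [Subgroup.lowerCentralSeries_succ]
      calc K = ⁅K, Q⁆ := heq.symm
        _ ≤ ⁅Q.lowerCentralSeries i, Q⁆ := Subgroup.commutator_mono ih le_rfl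
  have h1 := this n
  rw [hn, le_bot_iff] at h1
  exact hne h1

/-- the subgroup generated by the squares of a nontrivial finite `2`-group is proper -/
theorem squares_ne_self [Finite H] {K : Subgroup H} (hK2 : IsPGroup 2 K) (hne : K ≠ ⊥) :
    Subgroup.closure {y : H | ∃ x ∈ K, y = x ^ 2} ≠ K := by
  have : Fact (Nat.Prime 2) := ⟨Nat.prime_two⟩
  obtain ⟨k, hk⟩ := IsPGroup.iff_card.1 hK2
  have hk0 : k ≠ 0 := by
    rintro rfl
    rw [pow_zero] at hk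
    exact hne (Subgroup.card_eq_one.1 hk)
  obtain ⟨k', rfl⟩ : ∃ k', k = k' + 1 := ⟨k - 1, by omega⟩
  obtain ⟨M, hM⟩ := Sylow.exists_subgroup_card_pow_prime (G := ↥K) 2 (n := k')
    (by rw [hk, pow_succ]; exact dvd_mul_right _ _)
  have hidx : M.index = 2 := by
    have h1 := M.card_mul_index
    rw [hM, hk, pow_succ] at h1
    exact Nat.eq_of_mul_eq_mul_left (pow_pos (by norm_num) k') h1
  intro heq
  have hle : Subgroup.closure {y : H | ∃ x ∈ K, y = x ^ 2} ≤ M.map K.subtype := by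
    rw [Subgroup.closure_le]
    rintro y ⟨x, hx, rfl⟩
    exact ⟨⟨x, hx⟩ ^ 2, Subgroup.sq_mem_of_index_two hidx _, rfl⟩
  rw [heq] at hle
  have htop : M = ⊤ := by
    rw [eq_top_iff]
    intro x _
    obtain ⟨y, hy, hyx⟩ := hle x.2
    have : y = x := Subtype.ext hyx
    rwa [this] at hy
  rw [htop, Subgroup.index_top] at hidx
  omega

/-- **S3797 piece SECTION.** -/
theorem exists_section {H : Type*} [Group H] [Finite H] (H1 Q V N : Subgroup H)
    (hQ1 : Q ≤ H1) (hN1 : N ≤ H1)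
    (hQn : ∀ g ∈ H1, ∀ x ∈ Q, g * x * g⁻¹ ∈ Q) (hVn : ∀ g ∈ H1, ∀ x ∈ V, g * x * g⁻¹ ∈ V)
    (hNn : ∀ g ∈ H1, ∀ x ∈ N, g * x * g⁻¹ ∈ N)
    (hQ2 : IsPGroup 2 Q) (hVQ : V ≤ Q) (hV2 : ∀ v ∈ V, v ^ 2 = 1)
    (hinv : ∀ x ∈ Q, x ^ 2 = 1 → x ∈ V)
    (hirr : ∀ V0 : Subgroup H, V0 ≤ V → (∀ g ∈ H1, ∀ x ∈ V0, g * x * g⁻¹ ∈ V0) → V0 = ⊥ ∨ V0 = V)
    (r : ℕ) [Fact r.Prime] (hr : r ≠ 2)
    (hNgen : N = Subgroup.closure {g : H | g ∈ N ∧ ∃ j : ℕ, g ^ (r ^ j) = 1})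
    (hNV : ∀ g ∈ N, ∀ v ∈ V, g * v = v * g)
    (hNQ : ∃ g ∈ N, ∃ x ∈ Q, g * x ≠ x * g) :
    ∃ Qm : Subgroup H, Qm ≤ Q ∧ V ≤ Qm ∧ (∀ g ∈ H1, ∀ x ∈ Qm, g * x * g⁻¹ ∈ Qm) ∧
      (∀ v ∈ V, ∀ x ∈ Qm, v * x = x * v) ∧ (∀ x ∈ Qm, x ^ 2 ∈ V) ∧
      (∀ x ∈ Qm, ∀ q ∈ Q, x * q * x⁻¹ * q⁻¹ ∈ V) ∧
      (∃ g ∈ N, ∃ x ∈ Qm, g * x * g⁻¹ * x⁻¹ ∉ V) := by
  classical
  -- a minimal member of the family
  have hex : ∃ n, ∃ K : Subgroup H,
      (K ≤ Q ∧ Inv H1 K ∧ ∃ g ∈ N, ∃ x ∈ K, g * x ≠ x * g) ∧ Nat.card K = n :=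
    ⟨_, Q, ⟨le_rfl, hQn, hNQ⟩, rfl⟩
  obtain ⟨Qm, ⟨hQmQ, hQmI, hQmN⟩, hcard⟩ := Nat.find_spec hex
  have hprop : ∀ K : Subgroup H, K ≤ Qm → K ≠ Qm → Inv H1 K →
      ∀ g ∈ N, ∀ x ∈ K, g * x = x * g := by
    intro K hle hne hI
    by_contra hcon
    push Not at hcon
    obtain ⟨g, hg, x, hx, hgx⟩ := hcon
    have hlt : Nat.card K < Nat.find hex := by
      rw [← hcard]
      refine lt_of_le_of_ne (Subgroup.card_le_of_le hle) ?_
      intro heq
      exact hne (Subgroup.eq_of_le_of_card_ge hle heq.ge)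
    exact Nat.find_min hex hlt ⟨K, ⟨hle.trans hQmQ, hI, g, hg, x, hx, hgx⟩, rfl⟩
  have hQm2 : IsPGroup 2 Qm := hQ2.to_le hQmQ
  have hNI : Inv H1 N := hNn
  set D := Qm ⊓ Subgroup.centralizer (N : Set H) with hD
  have hDI : Inv H1 D := hQmI.inf hNI.centralizer
  have hDle : D ≤ Qm := inf_le_left
  have hDN : ∀ d ∈ D, ∀ g ∈ N, g * d = d * g := fun d hd g hg =>
    (Subgroup.mem_centralizer_iff.1 hd.2) g hg
  have hDne : D ≠ Qm := by
    intro h
    obtain ⟨g, hg, x, hx, hgx⟩ := hQmN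
    have : x ∈ D := by rw [h]; exact hx
    exact hgx (hDN x this g hg)
  have hKD : ∀ K : Subgroup H, K ≤ Qm → K ≠ Qm → Inv H1 K → K ≤ D := by
    intro K hle hne hI x hx
    refine ⟨hle hx, ?_⟩
    show x ∈ Subgroup.centralizer (N : Set H)
    rw [Subgroup.mem_centralizer_iff]
    intro g hg
    exact hprop K hle hne hI g hg x hx
  have hQmne : Qm ≠ ⊥ := by
    rintro h
    obtain ⟨g, hg, x, hx, hgx⟩ := hQmN
    rw [h, Subgroup.mem_bot] at hx
    subst hx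
    simp at hgx
  -- squares
  set P := Subgroup.closure {y : H | ∃ x ∈ Qm, y = x ^ 2} with hP
  have hPle : P ≤ Qm := by
    rw [hP, Subgroup.closure_le]
    rintro y ⟨x, hx, rfl⟩
    exact Qm.pow_mem hx 2
  have hPI : Inv H1 P := by
    apply Inv.closure
    rintro g hg y ⟨x, hx, rfl⟩
    refine ⟨g * x * g⁻¹, hQmI g hg x hx, ?_⟩
    rw [pow_two, pow_two]; group
  have hPD : P ≤ D := hKD P hPle (squares_ne_self hQm2 hQmne) hPI
  have hsqD : ∀ x ∈ Qm, x ^ 2 ∈ D := fun x hx => hPD (Subgroup.subset_closure ⟨x, hx, rfl⟩)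
  have hcommP : ∀ x ∈ Qm, ∀ y ∈ Qm, ⁅x, y⁆ ∈ D := by
    intro x hx y hy
    have e : ⁅x, y⁆ = x ^ 2 * (x⁻¹ * y) ^ 2 * (y⁻¹) ^ 2 := by
      simp only [commutatorElement_def, pow_two]; group
    rw [e]
    exact D.mul_mem (D.mul_mem (hsqD x hx) (hsqD _ (Qm.mul_mem (Qm.inv_mem hx) hy)))
      (hsqD _ (Qm.inv_mem hy))
  -- `[Qm, N] = Qm`
  have hNQm : ∀ g ∈ N, ∀ x ∈ Qm, g * x * g⁻¹ ∈ Qm := fun g hg x hx => hQmI g (hN1 hg) x hx
  have hcQN_le : ⁅Qm, N⁆ ≤ Qm := by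
    rw [Subgroup.commutator_le]
    intro x hx g hg
    rw [commutatorElement_def]
    have := hNQm g hg x⁻¹ (Qm.inv_mem hx)
    have e : x * g * x⁻¹ * g⁻¹ = x * (g * x⁻¹ * g⁻¹) := by group
    rw [e]; exact Qm.mul_mem hx this
  have hcQN : ⁅Qm, N⁆ = Qm := by
    by_contra hne
    have hle : ⁅Qm, N⁆ ≤ D := hKD _ hcQN_le hne (hQmI.commutator hNI)
    have hcent : N ≤ Subgroup.centralizer (Qm : Set H) := by
      rw [hNgen, Subgroup.closure_le]
      rintro g ⟨hg, j, hgj⟩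
      rw [SetLike.mem_coe, Subgroup.mem_centralizer_iff]
      intro x hx
      have hc : g * x * g⁻¹ * x⁻¹ ∈ ⁅Qm, N⁆ := by
        have := Subgroup.commutator_mem_commutator (H₁ := N) (H₂ := Qm) hg hx
        rw [Subgroup.commutator_comm] at this
        rwa [commutatorElement_def] at this
      have hcD := hle hc
      have h1 := hDN _ hcD g hg
      exact (comm_of_comm_comm hQ2 Fact.out hr hgj (hQmQ hcD.1) h1).symm
    obtain ⟨g, hg, x, hx, hgx⟩ := hQmN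
    exact hgx ((Subgroup.mem_centralizer_iff.1 (hcent hg)) x hx).symm
  -- `D` is central in `Qm`
  have hDNbot : ⁅D, N⁆ = ⊥ := by
    rw [Subgroup.commutator_eq_bot_iff_le_centralizer]
    exact inf_le_right
  have hDZ : ⁅Qm, D⁆ = ⊥ := by
    have h1 : ⁅⁅N, D⁆, Qm⁆ = ⊥ := by
      rw [Subgroup.commutator_comm N D, hDNbot, Subgroup.commutator_bot_left]
    have h2 : ⁅⁅D, Qm⁆, N⁆ = ⊥ := by
      have : ⁅D, Qm⁆ ≤ D := by
        rw [Subgroup.commutator_le]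
        intro d hd x hx
        exact hcommP d (hDle hd) x hx
      rw [eq_bot_iff, ← hDNbot]
      exact Subgroup.commutator_mono this le_rfl
    have := Subgroup.commutator_commutator_eq_bot_of_rotate h1 h2
    rwa [hcQN] at this
  have hDcomm : ∀ d ∈ D, ∀ x ∈ Qm, d * x = x * d := by
    rw [Subgroup.commutator_eq_bot_iff_le_centralizer] at hDZ
    intro d hd x hx
    exact (Subgroup.mem_centralizer_iff.1 (hDZ hx)) d hd
  -- `V ≤ Qm`
  have hVQm : V ≤ Qm := by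
    have : Fact (Nat.Prime 2) := ⟨Nat.prime_two⟩
    obtain ⟨k, hk⟩ := IsPGroup.iff_card.1 hQm2
    have hk0 : k ≠ 0 := by
      rintro rfl
      rw [pow_zero] at hk
      exact hQmne (Subgroup.card_eq_one.1 hk)
    obtain ⟨t, ht⟩ := exists_prime_orderOf_dvd_card' (G := ↥Qm) 2
      (by rw [hk]; exact dvd_pow_self 2 hk0)
    have ht2 : (t : H) ^ 2 = 1 := by
      have := pow_orderOf_eq_one t
      rw [ht] at this
      have := congrArg Subtype.val this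
      simpa using this
    have ht1 : (t : H) ≠ 1 := by
      intro h
      have : t = 1 := Subtype.ext h
      rw [this, orderOf_one] at ht
      omega
    have htV : (t : H) ∈ V := hinv _ (hQmQ t.2) ht2
    rcases hirr (Qm ⊓ V) inf_le_right (hQmI.inf hVn) with h | h
    · have : (t : H) ∈ Qm ⊓ V := ⟨t.2, htV⟩
      rw [h, Subgroup.mem_bot] at this
      exact absurd this ht1
    · rw [← h]; exact inf_le_left
  have hVD : V ≤ D := fun v hv =>
    ⟨hVQm hv, by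
      show v ∈ Subgroup.centralizer (N : Set H)
      rw [Subgroup.mem_centralizer_iff]; intro g hg; exact hNV g hg v hv⟩
  have hVcent : ∀ v ∈ V, ∀ x ∈ Qm, v * x = x * v := fun v hv x hx => hDcomm v (hVD hv) x hx
  -- commutators of `Qm` lie in `V`
  have hcommV : ∀ x ∈ Qm, ∀ y ∈ Qm, ⁅x, y⁆ ∈ V := by
    intro x hx y hy
    have hcD := hcommP x hx y hy
    apply hinv _ (hQmQ hcD.1)
    have hcx : ⁅x, y⁆ * x = x * ⁅x, y⁆ := hDcomm _ hcD x hx
    have hx2y : x ^ 2 * y = y * x ^ 2 := hDcomm _ (hsqD x hx) y hy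
    calc ⁅x, y⁆ ^ 2 = ⁅x, y⁆ * (x * y * x⁻¹ * y⁻¹) := by rw [pow_two, commutatorElement_def]
      _ = (⁅x, y⁆ * x) * y * x⁻¹ * y⁻¹ := by group
      _ = (x * ⁅x, y⁆) * y * x⁻¹ * y⁻¹ := by rw [hcx]
      _ = (x ^ 2 * y) * (x ^ 2)⁻¹ * y⁻¹ := by rw [commutatorElement_def, pow_two]; group
      _ = 1 := by rw [hx2y]; group
  -- squares of `Qm` lie in `V`
  have hsqV : ∀ x ∈ Qm, x ^ 2 ∈ V := by
    let T : Subgroup H :=
      { carrier := {x | x ∈ Qm ∧ x ^ 2 ∈ V}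
        one_mem' := ⟨Qm.one_mem, by rw [one_pow]; exact V.one_mem⟩
        mul_mem' := by
          rintro x y ⟨hx, hx2⟩ ⟨hy, hy2⟩
          refine ⟨Qm.mul_mem hx hy, ?_⟩
          have e : (x * y) ^ 2 = x ^ 2 * ⁅x⁻¹, y⁆ * y ^ 2 := by
            simp only [commutatorElement_def, pow_two]; group
          rw [e]
          exact V.mul_mem (V.mul_mem hx2 (hcommV _ (Qm.inv_mem hx) _ hy)) hy2
        inv_mem' := by
          rintro x ⟨hx, hx2⟩
          refine ⟨Qm.inv_mem hx, ?_⟩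
          rw [inv_pow]; exact V.inv_mem hx2 }
    have hle : ⁅Qm, N⁆ ≤ T := by
      rw [Subgroup.commutator_le]
      intro x hx g hg
      have hz : g * x⁻¹ * g⁻¹ ∈ Qm := hNQm g hg x⁻¹ (Qm.inv_mem hx)
      have e0 : ⁅x, g⁆ = x * (g * x⁻¹ * g⁻¹) := by rw [commutatorElement_def]; group
      refine ⟨by rw [e0]; exact Qm.mul_mem hx hz, ?_⟩
      have e : ⁅x, g⁆ ^ 2 = x ^ 2 * ⁅x⁻¹, g * x⁻¹ * g⁻¹⁆ * (g * (x ^ 2)⁻¹ * g⁻¹) := by
        simp only [commutatorElement_def, pow_two]; group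
      have hgx2 : g * (x ^ 2)⁻¹ * g⁻¹ = (x ^ 2)⁻¹ := by
        have h1 := hDN _ (D.inv_mem (hsqD x hx)) g hg
        rw [h1]; group
      have hv := hcommV _ (Qm.inv_mem hx) _ hz
      have hcomm' := hVcent _ hv _ (Qm.pow_mem hx 2)
      rw [e, hgx2]
      have e2 : x ^ 2 * ⁅x⁻¹, g * x⁻¹ * g⁻¹⁆ * (x ^ 2)⁻¹ = ⁅x⁻¹, g * x⁻¹ * g⁻¹⁆ := by
        rw [← hcomm']; group
      rw [e2]; exact hv
    rw [hcQN] at hle
    exact fun x hx => (hle hx).2
  -- `D ≤ V`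
  have hDV : D ≤ V := by
    set S2 := Subgroup.closure {y : H | ∃ d ∈ D, y = d ^ 2} with hS2
    have hS2V : S2 ≤ V := by
      rw [hS2, Subgroup.closure_le]
      rintro y ⟨d, hd, rfl⟩
      exact hsqV d (hDle hd)
    have hS2I : Inv H1 S2 := by
      apply Inv.closure
      rintro g hg y ⟨d, hd, rfl⟩
      refine ⟨g * d * g⁻¹, hDI g hg d hd, ?_⟩
      rw [pow_two, pow_two]; group
    have hS2set : ∀ y ∈ S2, ∃ d ∈ D, y = d ^ 2 := by
      intro y hy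
      induction hy using Subgroup.closure_induction with
      | mem y hy => exact hy
      | one => exact ⟨1, D.one_mem, by rw [one_pow]⟩
      | mul a b _ _ iha ihb =>
        obtain ⟨d, hd, rfl⟩ := iha
        obtain ⟨e, he, rfl⟩ := ihb
        refine ⟨d * e, D.mul_mem hd he, ?_⟩
        have hc := hDcomm e he d (hDle hd)
        calc d ^ 2 * e ^ 2 = d * (d * e) * e := by rw [pow_two, pow_two]; group
          _ = d * (e * d) * e := by rw [hc]
          _ = (d * e) ^ 2 := by rw [pow_two]; group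
      | inv a _ iha =>
        obtain ⟨d, hd, rfl⟩ := iha
        exact ⟨d⁻¹, D.inv_mem hd, by rw [inv_pow]⟩
    rcases hirr S2 hS2V hS2I with h | h
    · intro d hd
      apply hinv d (hQmQ (hDle hd))
      have : d ^ 2 ∈ S2 := Subgroup.subset_closure ⟨d, hd, rfl⟩
      rwa [h, Subgroup.mem_bot] at this
    · exfalso
      apply hDne
      apply le_antisymm hDle
      intro x hx
      have hx2 : x ^ 2 ∈ S2 := by rw [h]; exact hsqV x hx
      obtain ⟨d, hd, hxd⟩ := hS2set _ hx2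
      have hdx : d⁻¹ * x = x * d⁻¹ := hDcomm _ (D.inv_mem hd) x hx
      have h1 : (x * d⁻¹) ^ 2 = 1 := by
        calc (x * d⁻¹) ^ 2 = x * (d⁻¹ * x) * d⁻¹ := by rw [pow_two]; group
          _ = x * (x * d⁻¹) * d⁻¹ := by rw [hdx]
          _ = x ^ 2 * (d ^ 2)⁻¹ := by rw [pow_two, pow_two]; group
          _ = 1 := by rw [hxd]; group
      have h2 : x * d⁻¹ ∈ V := hinv _ (hQmQ (Qm.mul_mem hx (Qm.inv_mem (hDle hd)))) h1
      have : x = (x * d⁻¹) * d := by group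
      rw [this]
      exact D.mul_mem (hVD h2) hd
  -- `[Qm, Q] ≤ V`
  have hQmQV : ⁅Qm, Q⁆ ≤ V := by
    have h1 : ⁅Qm, Q⁆ ≤ Qm := by
      rw [Subgroup.commutator_le]
      intro x hx q hq
      have := hQmI q (hQ1 hq) x⁻¹ (Qm.inv_mem hx)
      have e : ⁅x, q⁆ = x * (q * x⁻¹ * q⁻¹) := by rw [commutatorElement_def]; group
      rw [e]; exact Qm.mul_mem hx this
    have h2 : ⁅Qm, Q⁆ ≠ Qm := commutator_ne_self hQ2 hQmQ hQmne
    exact (hKD _ h1 h2 (hQmI.commutator hQn)).trans hDV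
  refine ⟨Qm, hQmQ, hVQm, hQmI, hVcent, hsqV, ?_, ?_⟩
  · intro x hx q hq
    rw [← commutatorElement_def]
    exact hQmQV (Subgroup.commutator_mem_commutator hx hq)
  · by_contra hcon
    push Not at hcon
    have h1 : ⁅N, Qm⁆ ≤ V := by
      rw [Subgroup.commutator_le]
      intro g hg x hx
      rw [commutatorElement_def]
      exact hcon g hg x hx
    rw [Subgroup.commutator_comm, hcQN] at h1
    obtain ⟨g, hg, x, hx, hgx⟩ := hQmN
    exact hgx (hNV g hg x (h1 hx))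

end Cfsg.Agent.Helper12.Th
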