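import Mathlib

set_option autoImplicit false

/-! Towards Thompson's conjecture for `PSL_3(q)` with a semisimple class: changing bases so that
the first column of a non-scalar matrix becomes `(d, 1, 0, ..)`. -/

open Matrix

namespace Cfsg.Agent.Helper12.Thomp3

universe u

variable {F : Type u} [Field F]

/-- A non-scalar matrix moves some vector off its line. -/
theorem exists_pair_linearIndependent {n : Type*} [Fintype n] [DecidableEq n] (A : Matrix n n F)
    (hA : ∀ c : F, A ≠ Matrix.scalar n c) : ∃ v : n → F, LinearIndependent F ![v, A *ᵥ v] := by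
  by_contra hcon
  push Not at hcon
  have heig : ∀ v : n → F, v ≠ 0 → ∃ a : F, a • v = A *ᵥ v := by
    intro v hv
    have := hcon v
    rw [LinearIndependent.pair_iff' hv] at this
    push Not at this
    exact this
  have hsingle : ∀ i : n, (Pi.single i (1 : F) : n → F) ≠ 0 := by
    intro i h
    have := congrFun h i
    simp at this
  choose a ha using fun i => heig (Pi.single i 1) (hsingle i)
  have hcol : ∀ i j : n, A j i = if j = i then a i else 0 := by
    intro i j
    have := congrFun (ha i) j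
    rw [Matrix.mulVec_single_one] at this
    rw [Matrix.col_apply] at this
    rw [← this]
    simp [Pi.single_apply]
  have hconst : ∀ i j : n, a i = a j := by
    intro i j
    by_cases hij : i = j
    · rw [hij]
    have hne : (Pi.single i (1 : F) + Pi.single j (1 : F) : n → F) ≠ 0 := by
      intro h
      have := congrFun h i
      simp [hij] at this
    obtain ⟨c, hc⟩ := heig _ hne
    rw [Matrix.mulVec_add, Matrix.mulVec_single_one, Matrix.mulVec_single_one] at hc
    have h1 := congrFun hc i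
    have h2 := congrFun hc j
    simp only [Pi.smul_apply, Pi.add_apply, Pi.single_apply, Matrix.col_apply, smul_eq_mul, hcol] at h1 h2
    simp [hij, Ne.symm hij] at h1 h2
    rw [← h1, ← h2]
  rcases isEmpty_or_nonempty n with hn | ⟨⟨i₀⟩⟩
  · apply hA 0
    ext i
    exact (IsEmpty.false i).elim
  · apply hA (a i₀)
    ext j i
    rw [hcol, Matrix.scalar_apply, Matrix.diagonal_apply, hconst i i₀]

/-- In a basis starting with `v, A v - d v`, the matrix `A` has first column `(d, 1, 0, ..)`. -/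
theorem exists_conj_first_col {n : ℕ} (A : Matrix (Fin (n + 2)) (Fin (n + 2)) F)
    (b : Module.Basis (Fin (n + 2)) F (Fin (n + 2) → F)) (d : F)
    (hb : A *ᵥ (b 0) = d • b 0 + b 1) :
    ∃ P Pinv M : Matrix (Fin (n + 2)) (Fin (n + 2)) F, P * Pinv = 1 ∧ Pinv * P = 1 ∧
      A = P * M * Pinv ∧ M 0 0 = d ∧ M 1 0 = 1 ∧ ∀ i, i ≠ 0 → i ≠ 1 → M i 0 = 0 := by
  refine ⟨(Pi.basisFun F (Fin (n + 2))).toMatrix b, b.toMatrix (Pi.basisFun F (Fin (n + 2))),
    LinearMap.toMatrix b b (Matrix.toLin' A), ?_, ?_, ?_, ?_, ?_, ?_⟩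
  · exact Module.Basis.toMatrix_mul_toMatrix_flip _ _
  · exact Module.Basis.toMatrix_mul_toMatrix_flip _ _
  · rw [basis_toMatrix_mul_linearMap_toMatrix_mul_basis_toMatrix, LinearMap.toMatrix_eq_toMatrix',
      LinearMap.toMatrix'_toLin']
  · rw [LinearMap.toMatrix_apply, Matrix.toLin'_apply, hb, map_add, map_smul,
      Module.Basis.repr_self, Module.Basis.repr_self]
    simp
  · rw [LinearMap.toMatrix_apply, Matrix.toLin'_apply, hb, map_add, map_smul,
      Module.Basis.repr_self, Module.Basis.repr_self]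
    simp
  · intro i hi0 hi1
    rw [LinearMap.toMatrix_apply, Matrix.toLin'_apply, hb, map_add, map_smul,
      Module.Basis.repr_self, Module.Basis.repr_self]
    simp [Ne.symm hi0, Ne.symm hi1]

theorem pair_sub_linearIndependent {V : Type*} [AddCommGroup V] [Module F V] (v w : V) (d : F)
    (h : LinearIndependent F ![v, w]) : LinearIndependent F ![v, w - d • v] := by
  rw [LinearIndependent.pair_iff] at h ⊢
  intro s t hst
  have h1 : (s - t * d) • v + t • w = 0 := by
    rw [← hst, sub_smul, smul_sub, mul_smul]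
    abel
  obtain ⟨h2, h3⟩ := h _ _ h1
  rw [h3, zero_mul, sub_zero] at h2
  exact ⟨h2, h3⟩

/-- The `2 × 2` case. -/
theorem exists_first_col_two (S : Matrix (Fin 2) (Fin 2) F)
    (hS : ∀ c : F, S ≠ Matrix.scalar (Fin 2) c) (d : F) :
    ∃ P Pinv M : Matrix (Fin 2) (Fin 2) F, P * Pinv = 1 ∧ Pinv * P = 1 ∧
      S = P * M * Pinv ∧ M 0 0 = d ∧ M 1 0 = 1 := by
  obtain ⟨v, hv⟩ := exists_pair_linearIndependent S hS
  have hli := pair_sub_linearIndependent v (S *ᵥ v) d hv
  let b : Module.Basis (Fin 2) F (Fin 2 → F) :=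
    basisOfLinearIndependentOfCardEqFinrank hli (by simp)
  have hb0 : b 0 = v := by
    simp [b]
  have hb1 : b 1 = S *ᵥ v - d • v := by
    simp [b]
  obtain ⟨P, Pinv, M, h1, h2, h3, h4, h5, -⟩ := exists_conj_first_col (n := 0) S b d (by
    rw [hb0, hb1]
    abel)
  exact ⟨P, Pinv, M, h1, h2, h3, h4, h5⟩

/-- The `3 × 3` case. -/
theorem exists_first_col_three (A : Matrix (Fin 3) (Fin 3) F)
    (hA : ∀ c : F, A ≠ Matrix.scalar (Fin 3) c) (d : F) :
    ∃ P Pinv M : Matrix (Fin 3) (Fin 3) F, P * Pinv = 1 ∧ Pinv * P = 1 ∧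
      A = P * M * Pinv ∧ M 0 0 = d ∧ M 1 0 = 1 ∧ M 2 0 = 0 := by
  obtain ⟨v, hv⟩ := exists_pair_linearIndependent A hA
  have hli := pair_sub_linearIndependent v (A *ᵥ v) d hv
  obtain ⟨u, hu⟩ := exists_linearIndependent_snoc_of_lt_finrank hli (by simp)
  let b : Module.Basis (Fin 3) F (Fin 3 → F) :=
    basisOfLinearIndependentOfCardEqFinrank hu (by simp)
  have hb0 : b 0 = v := by
    simp [b]
  have hb1 : b 1 = A *ᵥ v - d • v := by
    simp [b]
  obtain ⟨P, Pinv, M, h1, h2, h3, h4, h5, h6⟩ := exists_conj_first_col (n := 1) A b d (by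
    rw [hb0, hb1]
    abel)
  exact ⟨P, Pinv, M, h1, h2, h3, h4, h5, h6 2 (by decide) (by decide)⟩

end Cfsg.Agent.Helper12.Thomp3
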