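import Mathlib
import Cfsg.Agent.Helper12.Thomp3A

set_option autoImplicit false

/-! Sourour-type factorisation of `3 × 3` matrices: pure matrix lemmas. -/

open Matrix Polynomial

namespace Cfsg.Agent.Helper12.Thomp3

universe u

variable {F : Type u} [Field F]

/-- Schur complement of the `(0,0)` entry. -/
def schur (M : Matrix (Fin 3) (Fin 3) F) : Matrix (Fin 2) (Fin 2) F :=
  Matrix.of fun i j => M i.succ j.succ - M i.succ 0 * M 0 j.succ / M 0 0

theorem schur_apply (M : Matrix (Fin 3) (Fin 3) F) (i j : Fin 2) :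
    schur M i j = M i.succ j.succ - M i.succ 0 * M 0 j.succ / M 0 0 := rfl

theorem det_eq_mul_det_schur (M : Matrix (Fin 3) (Fin 3) F) (h : M 0 0 ≠ 0) :
    M.det = M 0 0 * (schur M).det := by
  rw [Matrix.det_fin_three, Matrix.det_fin_two]
  simp only [schur_apply]
  have e1 : (Fin.succ (0 : Fin 2) : Fin 3) = 1 := rfl
  have e2 : (Fin.succ (1 : Fin 2) : Fin 3) = 2 := rfl
  rw [e1, e2]
  field_simp
  ring

theorem charpoly_conj {n : Type*} [Fintype n] [DecidableEq n] (P Pinv B : Matrix n n F)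
    (h : Pinv * P = 1) : (P * B * Pinv).charpoly = B.charpoly := by
  rw [Matrix.mul_assoc, Matrix.charpoly_mul_comm, Matrix.mul_assoc, h, Matrix.mul_one]

/-- After a shear, the Schur complement is not scalar. -/
theorem exists_shear (M : Matrix (Fin 3) (Fin 3) F) (h00 : M 0 0 ≠ 0) (h10 : M 1 0 = 1)
    (h20 : M 2 0 = 0) (hdet : M.det ≠ 0) :
    ∃ T Tinv M' : Matrix (Fin 3) (Fin 3) F, T * Tinv = 1 ∧ Tinv * T = 1 ∧ M = T * M' * Tinv ∧
      M' 0 0 = M 0 0 ∧ ∀ c : F, schur M' ≠ Matrix.scalar (Fin 2) c := by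
  by_cases hs : ∃ c : F, schur M = Matrix.scalar (Fin 2) c
  · obtain ⟨c, hc⟩ := hs
    have e1 : (Fin.succ (0 : Fin 2) : Fin 3) = 1 := rfl
    have e2 : (Fin.succ (1 : Fin 2) : Fin 3) = 2 := rfl
    have h21 : M 2 1 = 0 := by
      have := congrFun (congrFun hc 1) 0
      rw [schur_apply, e1, e2, h20] at this
      simpa using this
    have h12 : M 1 2 = M 0 2 / M 0 0 := by
      have := congrFun (congrFun hc 0) 1
      rw [schur_apply, e1, e2, h10] at this
      simp at this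
      linear_combination this
    have h22 : M 2 2 ≠ 0 := by
      intro h
      apply hdet
      rw [Matrix.det_fin_three, h20, h21, h]
      ring
    obtain ⟨T, hT⟩ : ∃ T : Matrix (Fin 3) (Fin 3) F, T = !![1, 0, 1; 0, 1, 0; 0, 0, 1] := ⟨_, rfl⟩
    obtain ⟨Tinv, hTinv⟩ : ∃ T : Matrix (Fin 3) (Fin 3) F, T = !![1, 0, -1; 0, 1, 0; 0, 0, 1] :=
      ⟨_, rfl⟩
    have hT1 : T * Tinv = 1 := by
      rw [hT, hTinv]
      ext i j
      fin_cases i <;> fin_cases j <;> simp [Matrix.mul_apply, Fin.sum_univ_three]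
    have hT2 : Tinv * T = 1 := by
      rw [hT, hTinv]
      ext i j
      fin_cases i <;> fin_cases j <;> simp [Matrix.mul_apply, Fin.sum_univ_three]
    have key : ∀ i j, (Tinv * M * T) i j =
        (Tinv i 0 * M 0 0 + Tinv i 1 * M 1 0 + Tinv i 2 * M 2 0) * T 0 j +
        (Tinv i 0 * M 0 1 + Tinv i 1 * M 1 1 + Tinv i 2 * M 2 1) * T 1 j +
        (Tinv i 0 * M 0 2 + Tinv i 1 * M 1 2 + Tinv i 2 * M 2 2) * T 2 j := by
      intro i j
      simp only [Matrix.mul_apply, Fin.sum_univ_three]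
    refine ⟨T, Tinv, Tinv * M * T, hT1, hT2, ?_, ?_, ?_⟩
    · calc M = (T * Tinv) * M * (T * Tinv) := by rw [hT1, Matrix.one_mul, Matrix.mul_one]
        _ = T * (Tinv * M * T) * Tinv := by simp only [Matrix.mul_assoc]
    · rw [key, hT, hTinv]
      simp [h20]
    · intro c' hc'
      have := congrFun (congrFun hc' 0) 1
      rw [schur_apply, e1, e2, key, key, key, key, hT, hTinv] at this
      simp [h20, h10, h12] at this
      apply h22
      field_simp at this
      linear_combination this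
  · push Not at hs
    exact ⟨1, 1, M, one_mul 1, one_mul 1, by rw [Matrix.one_mul, Matrix.mul_one], rfl, hs⟩

/-- Block triangular factorisation from a factorisation of the Schur complement. -/
theorem block_factor (M : Matrix (Fin 3) (Fin 3) F) (β : F) (hβ : β ≠ 0) (h00 : M 0 0 = β * β)
    (B₂ C₂ : Matrix (Fin 2) (Fin 2) F) (hS : schur M = B₂ * C₂) :
    ∃ B₃ C₃ : Matrix (Fin 3) (Fin 3) F, M = B₃ * C₃ ∧
      B₃.charpoly = (X - C β) * (X ^ 2 - C B₂.trace * X + C B₂.det) ∧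
      C₃.charpoly = (X - C β) * (X ^ 2 - C C₂.trace * X + C C₂.det) := by
  have e1 : (Fin.succ (0 : Fin 2) : Fin 3) = 1 := rfl
  have e2 : (Fin.succ (1 : Fin 2) : Fin 3) = 2 := rfl
  have hS00 := congrFun (congrFun hS 0) 0
  have hS01 := congrFun (congrFun hS 0) 1
  have hS10 := congrFun (congrFun hS 1) 0
  have hS11 := congrFun (congrFun hS 1) 1
  simp only [schur_apply, e1, e2, h00, Matrix.mul_apply, Fin.sum_univ_two] at hS00 hS01 hS10 hS11
  refine ⟨!![β, 0, 0; M 1 0 / β, B₂ 0 0, B₂ 0 1; M 2 0 / β, B₂ 1 0, B₂ 1 1],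
    !![β, M 0 1 / β, M 0 2 / β; 0, C₂ 0 0, C₂ 0 1; 0, C₂ 1 0, C₂ 1 1], ?_, ?_, ?_⟩
  · ext i j
    fin_cases i <;> fin_cases j <;> simp [Matrix.mul_apply, Fin.sum_univ_three]
    · exact h00
    · field_simp
    · field_simp
    · field_simp
    · rw [add_assoc, ← hS00]
      field_simp
      ring
    · rw [add_assoc, ← hS01]
      field_simp
      ring
    · field_simp
    · rw [add_assoc, ← hS10]
      field_simp
      ring
    · rw [add_assoc, ← hS11]
      field_simp
      ring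
  · rw [Matrix.charpoly, Matrix.det_fin_three, Matrix.trace_fin_two, Matrix.det_fin_two]
    simp
    ring
  · rw [Matrix.charpoly, Matrix.det_fin_three, Matrix.trace_fin_two, Matrix.det_fin_two]
    simp
    ring

/-- Sourour-type factorisation: if every non-scalar `2 × 2` matrix of determinant `δ²` is a product
of two matrices of trace `τ` and determinant `δ`, then every non-scalar `3 × 3` matrix of determinant
one is a product of two matrices with characteristic polynomial `(X - β)(X² - τ X + δ)`,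
`β δ = 1`. -/
theorem exists_factor_three (τ δ β : F) (hβδ : β * δ = 1)
    (h2 : ∀ S : Matrix (Fin 2) (Fin 2) F, S.det = δ ^ 2 →
      (∀ c : F, S ≠ Matrix.scalar (Fin 2) c) →
      ∃ B₂ C₂ : Matrix (Fin 2) (Fin 2) F, S = B₂ * C₂ ∧ B₂.trace = τ ∧ B₂.det = δ ∧
        C₂.trace = τ ∧ C₂.det = δ)
    (A : Matrix (Fin 3) (Fin 3) F) (hdet : A.det = 1)
    (hA : ∀ c : F, A ≠ Matrix.scalar (Fin 3) c) :
    ∃ B₃ C₃ : Matrix (Fin 3) (Fin 3) F, A = B₃ * C₃ ∧
      B₃.charpoly = (X - C β) * (X ^ 2 - C τ * X + C δ) ∧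
      C₃.charpoly = (X - C β) * (X ^ 2 - C τ * X + C δ) := by
  have hβ : β ≠ 0 := left_ne_zero_of_mul_eq_one hβδ
  have hδ : δ ≠ 0 := right_ne_zero_of_mul_eq_one hβδ
  obtain ⟨P, Pinv, M, hP1, hP2, hAM, hM00, hM10, hM20⟩ := exists_first_col_three A hA (β * β)
  have hMdet : M.det = 1 := by
    have h1 := congrArg Matrix.det hAM
    rw [Matrix.det_mul, Matrix.det_mul, hdet, mul_right_comm, ← Matrix.det_mul, hP1,
      Matrix.det_one, one_mul] at h1
    exact h1.symm
  have hM00' : M 0 0 ≠ 0 := by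
    rw [hM00]
    exact mul_ne_zero hβ hβ
  obtain ⟨T, Tinv, M', hT1, hT2, hMM', hM'00, hM's⟩ :=
    exists_shear M hM00' hM10 hM20 (by rw [hMdet]; exact one_ne_zero)
  have hM'det : M'.det = 1 := by
    have h1 := congrArg Matrix.det hMM'
    rw [Matrix.det_mul, Matrix.det_mul, hMdet, mul_right_comm, ← Matrix.det_mul, hT1,
      Matrix.det_one, one_mul] at h1
    exact h1.symm
  rw [hM00] at hM'00
  have hSdet : (schur M').det = δ ^ 2 := by
    have h1 := det_eq_mul_det_schur M' (by rw [hM'00]; exact mul_ne_zero hβ hβ)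
    rw [hM'det, hM'00] at h1
    have h2 : (β * β) * δ ^ 2 = 1 := by
      have : (β * β) * δ ^ 2 = (β * δ) ^ 2 := by ring
      rw [this, hβδ, one_pow]
    apply mul_left_cancel₀ (mul_ne_zero hβ hβ)
    rw [← h1, h2]
  obtain ⟨B₂, C₂, hSBC, hBt, hBd, hCt, hCd⟩ := h2 (schur M') hSdet hM's
  obtain ⟨B₃, C₃, hM'BC, hBc, hCc⟩ := block_factor M' β hβ hM'00 B₂ C₂ hSBC
  rw [hBt, hBd] at hBc
  rw [hCt, hCd] at hCc
  refine ⟨(P * T) * B₃ * (Tinv * Pinv), (P * T) * C₃ * (Tinv * Pinv), ?_, ?_, ?_⟩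
  · have h3 : (Tinv * Pinv) * (P * T) = 1 := by
      calc (Tinv * Pinv) * (P * T) = Tinv * (Pinv * P) * T := by simp only [Matrix.mul_assoc]
        _ = 1 := by rw [hP2, Matrix.mul_one, hT2]
    calc A = P * (T * (B₃ * C₃) * Tinv) * Pinv := by rw [← hM'BC, ← hMM', ← hAM]
      _ = (P * T) * B₃ * 1 * C₃ * (Tinv * Pinv) := by
        rw [Matrix.mul_one]
        simp only [Matrix.mul_assoc]
      _ = (P * T) * B₃ * ((Tinv * Pinv) * (P * T)) * C₃ * (Tinv * Pinv) := by rw [h3]
      _ = (P * T) * B₃ * (Tinv * Pinv) * ((P * T) * C₃ * (Tinv * Pinv)) := by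
        simp only [Matrix.mul_assoc]
  · rw [charpoly_conj _ _ _ (by
      calc (Tinv * Pinv) * (P * T) = Tinv * (Pinv * P) * T := by simp only [Matrix.mul_assoc]
        _ = 1 := by rw [hP2, Matrix.mul_one, hT2]), hBc]
  · rw [charpoly_conj _ _ _ (by
      calc (Tinv * Pinv) * (P * T) = Tinv * (Pinv * P) * T := by simp only [Matrix.mul_assoc]
        _ = 1 := by rw [hP2, Matrix.mul_one, hT2]), hCc]

end Cfsg.Agent.Helper12.Thomp3
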