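import Mathlib
import Cfsg.Agent.Helper12.Thomp3B

set_option autoImplicit false

/-! Factorisation of `2 × 2` matrices into two matrices of prescribed trace and determinant. -/

open Matrix Polynomial

namespace Cfsg.Agent.Helper12.Thomp3

universe u

variable {F : Type u} [Field F]

/-- The split case: prescribed eigenvalues `β₂, β₃` for both factors. -/
theorem two_split (β₂ β₃ : F) (h2 : β₂ ≠ 0) (S : Matrix (Fin 2) (Fin 2) F)
    (hdet : S.det = (β₂ * β₃) ^ 2) (hS : ∀ c : F, S ≠ Matrix.scalar (Fin 2) c) :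
    ∃ B₂ C₂ : Matrix (Fin 2) (Fin 2) F, S = B₂ * C₂ ∧ B₂.trace = β₂ + β₃ ∧ B₂.det = β₂ * β₃ ∧
      C₂.trace = β₂ + β₃ ∧ C₂.det = β₂ * β₃ := by
  obtain ⟨P, Pinv, N, hP1, hP2, hSN, hN00, hN10⟩ := exists_first_col_two S hS (β₂ * β₂)
  have hNdet : N.det = (β₂ * β₃) ^ 2 := by
    have h1 := congrArg Matrix.det hSN
    rw [Matrix.det_mul, Matrix.det_mul, hdet, mul_right_comm, ← Matrix.det_mul, hP1,
      Matrix.det_one, one_mul] at h1
    exact h1.symm
  rw [Matrix.det_fin_two, hN00, hN10] at hNdet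
  obtain ⟨L, hL⟩ : ∃ L : Matrix (Fin 2) (Fin 2) F, L = !![β₂, 0; 1 / β₂, β₃] := ⟨_, rfl⟩
  obtain ⟨U, hU⟩ : ∃ U : Matrix (Fin 2) (Fin 2) F, U = !![β₂, N 0 1 / β₂; 0, β₃] := ⟨_, rfl⟩
  have hLU : N = L * U := by
    rw [hL, hU]
    ext i j
    fin_cases i <;> fin_cases j <;> simp [Matrix.mul_apply, Fin.sum_univ_two]
    · exact hN00
    · field_simp
    · rw [hN10]
      field_simp
    · field_simp
      linear_combination hNdet
  have hLt : L.trace = β₂ + β₃ := by rw [hL, Matrix.trace_fin_two]; simp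
  have hLd : L.det = β₂ * β₃ := by rw [hL, Matrix.det_fin_two]; simp
  have hUt : U.trace = β₂ + β₃ := by rw [hU, Matrix.trace_fin_two]; simp
  have hUd : U.det = β₂ * β₃ := by rw [hU, Matrix.det_fin_two]; simp
  refine ⟨P * L * Pinv, P * U * Pinv, ?_, ?_, ?_, ?_, ?_⟩
  · calc S = P * (L * U) * Pinv := by rw [← hLU, ← hSN]
      _ = P * L * 1 * U * Pinv := by rw [Matrix.mul_one]; simp only [Matrix.mul_assoc]
      _ = P * L * (Pinv * P) * U * Pinv := by rw [hP2]
      _ = P * L * Pinv * (P * U * Pinv) := by simp only [Matrix.mul_assoc]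
  · rw [Matrix.mul_assoc, Matrix.trace_mul_comm, Matrix.mul_assoc, hP2, Matrix.mul_one, hLt]
  · rw [Matrix.det_mul, Matrix.det_mul, mul_right_comm, ← Matrix.det_mul, hP1, Matrix.det_one,
      one_mul, hLd]
  · rw [Matrix.mul_assoc, Matrix.trace_mul_comm, Matrix.mul_assoc, hP2, Matrix.mul_one, hUt]
  · rw [Matrix.det_mul, Matrix.det_mul, mul_right_comm, ← Matrix.det_mul, hP1, Matrix.det_one,
      one_mul, hUd]

end Cfsg.Agent.Helper12.Thomp3
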