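import Mathlib
import Cfsg.Agent.Helper12.Thomp3B

set_option autoImplicit false

/-! Factorisation in `SL_3(3)`: every non-scalar element is a product of two matrices with
characteristic polynomial `X^3 - X^2 - 1`. -/

open Matrix Polynomial

namespace Cfsg.Agent.Helper12.Thomp3

universe u

/-- The characteristic polynomial of a `3 × 3` matrix. -/
theorem charpoly_fin_three {R : Type*} [CommRing R] (M : Matrix (Fin 3) (Fin 3) R) :
    M.charpoly = X ^ 3 - C (M 0 0 + M 1 1 + M 2 2) * X ^ 2 +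
      C ((M 0 0 * M 1 1 - M 0 1 * M 1 0) + (M 0 0 * M 2 2 - M 0 2 * M 2 0) +
        (M 1 1 * M 2 2 - M 1 2 * M 2 1)) * X -
      C M.det := by
  rw [Matrix.charpoly, Matrix.det_fin_three, Matrix.det_fin_three]
  simp
  ring

/-- Entrywise product of `3 × 3` arrays. -/
def mul3 (A B : Fin 3 → Fin 3 → ZMod 3) (i j : Fin 3) : ZMod 3 :=
  A i 0 * B 0 j + A i 1 * B 1 j + A i 2 * B 2 j

def tr3 (A : Fin 3 → Fin 3 → ZMod 3) : ZMod 3 := A 0 0 + A 1 1 + A 2 2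

def e23 (A : Fin 3 → Fin 3 → ZMod 3) : ZMod 3 :=
  (A 0 0 * A 1 1 - A 0 1 * A 1 0) + (A 0 0 * A 2 2 - A 0 2 * A 2 0) +
    (A 1 1 * A 2 2 - A 1 2 * A 2 1)

def det3 (A : Fin 3 → Fin 3 → ZMod 3) : ZMod 3 :=
  A 0 0 * (A 1 1 * A 2 2 - A 1 2 * A 2 1) - A 0 1 * (A 1 0 * A 2 2 - A 1 2 * A 2 0) +
    A 0 2 * (A 1 0 * A 2 1 - A 1 1 * A 2 0)

/-- Six elements of `SL_3(3)` with characteristic polynomial `X^3 - X^2 - 1`. -/
def cand : Fin 6 → Fin 3 → Fin 3 → ZMod 3 :=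
  ![![![2, 0, 0], ![2, 0, 1], ![0, 1, 2]],
    ![![2, 1, 0], ![2, 0, 1], ![0, 2, 2]],
    ![![2, 2, 0], ![2, 0, 1], ![0, 0, 2]],
    ![![2, 0, 0], ![2, 0, 2], ![0, 2, 2]],
    ![![2, 0, 0], ![2, 2, 1], ![0, 1, 0]],
    ![![2, 1, 0], ![2, 0, 2], ![0, 1, 2]]]

/-- Their inverses. -/
def candInv : Fin 6 → Fin 3 → Fin 3 → ZMod 3 :=
  ![![![2, 0, 0], ![2, 1, 1], ![2, 1, 0]],
    ![![1, 1, 1], ![2, 1, 1], ![1, 2, 1]],
    ![![0, 2, 2], ![2, 1, 1], ![0, 0, 2]],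
    ![![2, 0, 0], ![2, 1, 2], ![1, 2, 0]],
    ![![2, 0, 0], ![0, 0, 1], ![2, 1, 1]],
    ![![1, 1, 2], ![2, 1, 2], ![2, 1, 1]]]

theorem cand_props : ∀ k : Fin 6,
    (∀ i j, mul3 (cand k) (candInv k) i j = if i = j then 1 else 0) ∧
      tr3 (cand k) = 1 ∧ e23 (cand k) = 0 ∧ det3 (cand k) = 1 := by
  decide

set_option maxRecDepth 100000 in
theorem table_three : ∀ a b c d e f : ZMod 3,
    det3 ![![1, a, b], ![1, c, d], ![0, e, f]] = 1 →
    ∃ k : Fin 6, tr3 (mul3 (candInv k) ![![1, a, b], ![1, c, d], ![0, e, f]]) = 1 ∧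
      e23 (mul3 (candInv k) ![![1, a, b], ![1, c, d], ![0, e, f]]) = 0 := by
  decide

variable {F : Type u} [Field F] [Fintype F]

/-- Over the field with three elements, every non-scalar matrix of determinant one is a product
of two matrices with characteristic polynomial `X^3 - X^2 - 1`. -/
theorem exists_factor_card_three (hF : Fintype.card F = 3) (A : Matrix (Fin 3) (Fin 3) F)
    (hdet : A.det = 1) (hA : ∀ c : F, A ≠ Matrix.scalar (Fin 3) c) :
    ∃ B₃ C₃ : Matrix (Fin 3) (Fin 3) F, A = B₃ * C₃ ∧ B₃.charpoly = X ^ 3 - X ^ 2 - 1 ∧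
      C₃.charpoly = X ^ 3 - X ^ 2 - 1 := by
  obtain ⟨P, Pinv, M, hP1, hP2, hAM, hM00, hM10, hM20⟩ := exists_first_col_three A hA 1
  have hMdet : M.det = 1 := by
    have h1 := congrArg Matrix.det hAM
    rw [Matrix.det_mul, Matrix.det_mul, hdet, mul_right_comm, ← Matrix.det_mul, hP1,
      Matrix.det_one, one_mul] at h1
    exact h1.symm
  let e : ZMod 3 ≃+* F := ZMod.ringEquivOfPrime F (by norm_num) hF
  obtain ⟨M', hM'⟩ : ∃ M' : Matrix (Fin 3) (Fin 3) (ZMod 3),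
      M' = M.map (e.symm : F →+* ZMod 3) := ⟨_, rfl⟩
  have hMmap : M = M'.map (e : ZMod 3 →+* F) := by
    rw [hM', Matrix.map_map]
    ext i j
    simp
  have h00 : M' 0 0 = 1 := by rw [hM', Matrix.map_apply, hM00]; simp
  have h10 : M' 1 0 = 1 := by rw [hM', Matrix.map_apply, hM10]; simp
  have h20 : M' 2 0 = 0 := by rw [hM', Matrix.map_apply, hM20]; simp
  have hM'det : M'.det = 1 := by
    have h1 : (M'.det : ZMod 3) = (e.symm : F →+* ZMod 3) (M.det) := by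
      rw [hM', RingHom.map_det]
      rfl
    rw [h1, hMdet, map_one]
  have hdet3 : det3 ![![1, M' 0 1, M' 0 2], ![1, M' 1 1, M' 1 2], ![0, M' 2 1, M' 2 2]] = 1 := by
    have h1 : det3 ![![1, M' 0 1, M' 0 2], ![1, M' 1 1, M' 1 2], ![0, M' 2 1, M' 2 2]] =
        M'.det := by
      rw [Matrix.det_fin_three, h00, h10, h20]
      simp [det3]
    rw [h1, hM'det]
  obtain ⟨k, hk1, hk2⟩ := table_three _ _ _ _ _ _ hdet3
  obtain ⟨hc1, hc2, hc3, hc4⟩ := cand_props k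
  obtain ⟨B', hB'⟩ : ∃ B' : Matrix (Fin 3) (Fin 3) (ZMod 3), B' = Matrix.of (cand k) := ⟨_, rfl⟩
  obtain ⟨Bi', hBi'⟩ : ∃ B' : Matrix (Fin 3) (Fin 3) (ZMod 3), B' = Matrix.of (candInv k) :=
    ⟨_, rfl⟩
  have hBB : B' * Bi' = 1 := by
    ext i j
    rw [Matrix.mul_apply, Fin.sum_univ_three, hB', hBi', Matrix.one_apply]
    exact hc1 i j
  have hB'det : B'.det = 1 := by
    rw [Matrix.det_fin_three, hB']
    have h1 := hc4
    unfold det3 at h1
    simp only [Matrix.of_apply]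
    linear_combination h1
  have hBi'det : Bi'.det = 1 := by
    have h1 := congrArg Matrix.det hBB
    rw [Matrix.det_mul, hB'det, one_mul, Matrix.det_one] at h1
    exact h1
  have hB'c : B'.charpoly = X ^ 3 - X ^ 2 - 1 := by
    rw [charpoly_fin_three, hB'det]
    have h1 : B' 0 0 + B' 1 1 + B' 2 2 = 1 := by rw [hB']; exact hc2
    have h2 : (B' 0 0 * B' 1 1 - B' 0 1 * B' 1 0) + (B' 0 0 * B' 2 2 - B' 0 2 * B' 2 0) +
        (B' 1 1 * B' 2 2 - B' 1 2 * B' 2 1) = 0 := by rw [hB']; exact hc3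
    rw [h1, h2]
    simp
  have hC'entry : ∀ i j, (Bi' * M') i j = mul3 (candInv k) ![![1, M' 0 1, M' 0 2],
      ![1, M' 1 1, M' 1 2], ![0, M' 2 1, M' 2 2]] i j := by
    intro i j
    rw [Matrix.mul_apply, Fin.sum_univ_three, hBi']
    fin_cases j <;> simp [mul3, h00, h10, h20]
  have hC'c : (Bi' * M').charpoly = X ^ 3 - X ^ 2 - 1 := by
    rw [charpoly_fin_three, Matrix.det_mul, hBi'det, hM'det]
    simp only [hC'entry]
    have h1 := hk1
    have h2 := hk2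
    unfold tr3 at h1
    unfold e23 at h2
    rw [h1, h2]
    simp
  have hpoly : (X ^ 3 - X ^ 2 - 1 : (ZMod 3)[X]).map (e : ZMod 3 →+* F) = X ^ 3 - X ^ 2 - 1 := by
    simp
  refine ⟨P * B'.map (e : ZMod 3 →+* F) * Pinv, P * (Bi' * M').map (e : ZMod 3 →+* F) * Pinv,
    ?_, ?_, ?_⟩
  · have h1 : M = B'.map (e : ZMod 3 →+* F) * (Bi' * M').map (e : ZMod 3 →+* F) := by
      rw [← Matrix.map_mul, ← Matrix.mul_assoc, hBB, Matrix.one_mul]
      exact hMmap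
    calc A = P * (B'.map (e : ZMod 3 →+* F) * (Bi' * M').map (e : ZMod 3 →+* F)) * Pinv := by
          rw [← h1, ← hAM]
      _ = P * B'.map (e : ZMod 3 →+* F) * 1 * (Bi' * M').map (e : ZMod 3 →+* F) * Pinv := by
        rw [Matrix.mul_one]
        simp only [Matrix.mul_assoc]
      _ = P * B'.map (e : ZMod 3 →+* F) * (Pinv * P) * (Bi' * M').map (e : ZMod 3 →+* F) *
          Pinv := by rw [hP2]
      _ = _ := by simp only [Matrix.mul_assoc]
  · rw [charpoly_conj _ _ _ hP2, Matrix.charpoly_map, hB'c, hpoly]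
  · rw [charpoly_conj _ _ _ hP2, Matrix.charpoly_map, hC'c, hpoly]

end Cfsg.Agent.Helper12.Thomp3
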