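import Mathlib
import Cfsg.Agent.Helper12.Thomp3C
import Cfsg.Agent.Helper12.Thomp3D
import Cfsg.Agent.Helper12.SemisimpleConjD
import Cfsg.Agent.Helper12.PSL3SpecA

set_option autoImplicit false

/-! Assembly of the Thompson-type statement for `PSL_3(q)`, `q > 2`. -/

open Matrix Polynomial

namespace Cfsg.Agent.Helper12.Thomp3

universe u

variable {F : Type u} [Field F]

theorem pow_eq_one_of_charpoly_dvd (B : Matrix (Fin 3) (Fin 3) F) (m : ℕ)
    (h : B.charpoly ∣ X ^ m - 1) : B ^ m = 1 := by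
  obtain ⟨Q, hQ⟩ := h
  have h1 := congrArg (aeval B) hQ
  rw [map_mul, Matrix.aeval_self_charpoly, zero_mul] at h1
  simpa [sub_eq_zero] using h1

theorem det_eq_of_charpoly_eq (B C : Matrix (Fin 3) (Fin 3) F) (h : B.charpoly = C.charpoly) :
    B.det = C.det := by
  rw [Matrix.det_eq_sign_charpoly_coeff, Matrix.det_eq_sign_charpoly_coeff, h]

theorem assembly [Fintype F] (p : ℕ) [Fact p.Prime] [CharP F p]
    (f : F[X]) (m : ℕ) (hm : m.Coprime p) (hf : f ∣ X ^ m - 1)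
    (x : Matrix.SpecialLinearGroup (Fin 3) F)
    (hx : (x : Matrix (Fin 3) (Fin 3) F).charpoly = f)
    (H : ∀ A : Matrix (Fin 3) (Fin 3) F, A.det = 1 → (∀ c : F, A ≠ Matrix.scalar (Fin 3) c) →
      ∃ B C : Matrix (Fin 3) (Fin 3) F, A = B * C ∧ B.charpoly = f ∧ C.charpoly = f) :
    ∃ y : Matrix.ProjectiveSpecialLinearGroup (Fin 3) F, ¬ p ∣ orderOf y ∧
      ∀ g, g ≠ 1 → ∃ u v, g = (u * y * u⁻¹) * (v * y * v⁻¹) := by
  have hpow : ∀ B : Matrix.SpecialLinearGroup (Fin 3) F,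
      (B : Matrix (Fin 3) (Fin 3) F).charpoly = f → (orderOf B).Coprime p := by
    intro B hB
    have h1 : (B : Matrix (Fin 3) (Fin 3) F) ^ m = 1 :=
      pow_eq_one_of_charpoly_dvd _ m (hB ▸ hf)
    have h2 : B ^ m = 1 := by
      apply Subtype.ext
      simpa using h1
    exact Nat.Coprime.coprime_dvd_left (orderOf_dvd_of_pow_eq_one h2) hm
  refine ⟨QuotientGroup.mk x, ?_, ?_⟩
  · have h1 : orderOf (QuotientGroup.mk x : Matrix.ProjectiveSpecialLinearGroup (Fin 3) F) ∣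
        orderOf x := by
      apply orderOf_dvd_of_pow_eq_one
      rw [← QuotientGroup.mk_pow, pow_orderOf_eq_one]
      rfl
    intro hp
    have h2 : p ∣ orderOf x := hp.trans h1
    exact (Fact.out : p.Prime).one_lt.ne' (Nat.Coprime.eq_one_of_dvd (hpow x hx).symm h2)
  · intro g hg
    obtain ⟨A, rfl⟩ := QuotientGroup.mk_surjective g
    have hA : ∀ c : F, (A : Matrix (Fin 3) (Fin 3) F) ≠ Matrix.scalar (Fin 3) c := by
      intro c hc
      apply hg
      rw [QuotientGroup.eq_one_iff, Matrix.SpecialLinearGroup.mem_center_iff]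
      refine ⟨c, ?_, hc.symm⟩
      have h1 := A.det_coe
      rw [hc] at h1
      simpa using h1
    obtain ⟨B, C, hABC, hB, hC⟩ := H A A.det_coe hA
    have hBdet : B.det = 1 := by
      rw [det_eq_of_charpoly_eq B x (hB.trans hx.symm)]
      exact x.det_coe
    have hCdet : C.det = 1 := by
      rw [det_eq_of_charpoly_eq C x (hC.trans hx.symm)]
      exact x.det_coe
    obtain ⟨B', hB'⟩ : ∃ B' : Matrix.SpecialLinearGroup (Fin 3) F,
        (B' : Matrix (Fin 3) (Fin 3) F) = B := ⟨⟨B, hBdet⟩, rfl⟩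
    obtain ⟨C', hC'⟩ : ∃ C' : Matrix.SpecialLinearGroup (Fin 3) F,
        (C' : Matrix (Fin 3) (Fin 3) F) = C := ⟨⟨C, hCdet⟩, rfl⟩
    have hcB : IsConj x B' :=
      Cfsg.Agent.Helper12.sl_isConj_of_charpoly_eq p x B' (hpow x hx) (hpow B' (hB' ▸ hB))
        (hx.trans (hB' ▸ hB).symm)
    have hcC : IsConj x C' :=
      Cfsg.Agent.Helper12.sl_isConj_of_charpoly_eq p x C' (hpow x hx) (hpow C' (hC' ▸ hC))
        (hx.trans (hC' ▸ hC).symm)
    obtain ⟨u, hu⟩ := isConj_iff.1 hcB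
    obtain ⟨v, hv⟩ := isConj_iff.1 hcC
    refine ⟨QuotientGroup.mk u, QuotientGroup.mk v, ?_⟩
    have hA' : A = B' * C' := by
      apply Subtype.ext
      rw [Matrix.SpecialLinearGroup.coe_mul, hB', hC']
      exact hABC
    rw [hA', ← hu, ← hv]
    rfl

theorem exists_zeta [Fintype F] (h4 : 4 ≤ Fintype.card F) : ∃ ζ : F, ζ ≠ 0 ∧ ζ ^ 2 ≠ 1 := by
  classical
  by_contra hcon
  push Not at hcon
  have hsub : (Finset.univ : Finset F) ⊆ {0, 1, -1} := by
    intro z _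
    by_cases hz : z = 0
    · simp [hz]
    · have h1 := hcon z hz
      have h2 : (z - 1) * (z + 1) = 0 := by
        have : (z - 1) * (z + 1) = z ^ 2 - 1 := by ring
        rw [this, h1, sub_self]
      rcases mul_eq_zero.1 h2 with h | h
      · have : z = 1 := sub_eq_zero.1 h
        simp [this]
      · have : z = -1 := eq_neg_of_add_eq_zero_left h
        simp [this]
  have h5 := Finset.card_le_card hsub
  have h3 : ({0, 1, -1} : Finset F).card ≤ 3 := Finset.card_le_three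
  rw [Finset.card_univ] at h5
  omega

theorem thompson_ge_four [Fintype F] (p : ℕ) [Fact p.Prime] [CharP F p]
    (h4 : 4 ≤ Fintype.card F) :
    ∃ y : Matrix.ProjectiveSpecialLinearGroup (Fin 3) F, ¬ p ∣ orderOf y ∧
      ∀ g, g ≠ 1 → ∃ u v, g = (u * y * u⁻¹) * (v * y * v⁻¹) := by
  obtain ⟨ζ, hζ0, hζ2⟩ := exists_zeta h4
  have hζ1 : ζ ≠ 1 := fun h => hζ2 (by rw [h]; ring)
  have hζi : ζ ≠ ζ⁻¹ := by
    intro h
    apply hζ2
    rw [pow_two]
    nth_rewrite 2 [h]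
    exact mul_inv_cancel₀ hζ0
  have hζi1 : ζ⁻¹ ≠ 1 := fun h => hζ1 (inv_eq_one.1 h)
  obtain ⟨D, hD⟩ : ∃ D : Matrix (Fin 3) (Fin 3) F, D = Matrix.diagonal ![1, ζ, ζ⁻¹] := ⟨_, rfl⟩
  have hDdet : D.det = 1 := by
    rw [hD, Matrix.det_diagonal]
    simp [Fin.prod_univ_three, hζ0]
  have hDchar : D.charpoly = (X - C 1) * ((X - C ζ) * (X - C ζ⁻¹)) := by
    rw [hD, Matrix.charpoly_diagonal]
    simp [Fin.prod_univ_three, mul_assoc]
  have hpq : p ∣ Fintype.card F := by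
    have h1 : ((Fintype.card F : ℕ) : F) = 0 := Nat.cast_card_eq_zero F
    exact (CharP.cast_eq_zero_iff F p _).1 h1
  have hcop : (Fintype.card F - 1).Coprime p := by
    have h1 : (Fintype.card F - 1).Coprime (Fintype.card F) := by
      have h2 : Fintype.card F = (Fintype.card F - 1) + 1 := by omega
      rw [h2]
      simp
    exact Nat.Coprime.coprime_dvd_right hpq h1
  apply assembly p ((X - C 1) * ((X - C ζ) * (X - C ζ⁻¹))) (Fintype.card F - 1) hcop ?_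
    ⟨D, hDdet⟩ hDchar ?_
  · have h1 := PSL3Spec.three_distinct_dvd 1 ζ ζ⁻¹ 1 (Fintype.card F - 1) (Ne.symm hζ1)
      (Ne.symm hζi1) hζi (one_pow _) (FiniteField.pow_card_sub_one_eq_one ζ hζ0)
      (FiniteField.pow_card_sub_one_eq_one ζ⁻¹ (inv_ne_zero hζ0))
    rwa [C_1] at h1 ⊢
  · intro A hdet hA
    obtain ⟨B, C', h1, h2, h3⟩ := exists_factor_three (ζ + ζ⁻¹) 1 1 (by ring) (fun S hS hSs => by
      have h5 := two_split ζ ζ⁻¹ hζ0 S (by rw [hS, mul_inv_cancel₀ hζ0]) hSs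
      rw [mul_inv_cancel₀ hζ0] at h5
      exact h5) A hdet hA
    have hc : C ζ * C ζ⁻¹ = (C 1 : F[X]) := by rw [← C_mul, mul_inv_cancel₀ hζ0]
    have hpoly : (X - C 1) * (X ^ 2 - C (ζ + ζ⁻¹) * X + C 1) =
        (X - C 1) * ((X - C ζ) * (X - C ζ⁻¹)) := by
      rw [C_add]
      linear_combination (-(X - C 1)) * hc
    refine ⟨B, C', h1, ?_, ?_⟩
    · rw [h2, hpoly]
    · rw [h3, hpoly]

theorem thompson_eq_three [Fintype F] (p : ℕ) [Fact p.Prime] [CharP F p]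
    (h3 : Fintype.card F = 3) :
    ∃ y : Matrix.ProjectiveSpecialLinearGroup (Fin 3) F, ¬ p ∣ orderOf y ∧
      ∀ g, g ≠ 1 → ∃ u v, g = (u * y * u⁻¹) * (v * y * v⁻¹) := by
  have h30 : (3 : F) = 0 := by
    have h1 : ((Fintype.card F : ℕ) : F) = 0 := Nat.cast_card_eq_zero F
    rw [h3] at h1
    exact_mod_cast h1
  have hp3 : p = 3 := by
    have h2 : p ∣ 3 := (CharP.cast_eq_zero_iff F p 3).1 (by exact_mod_cast h30)
    exact (Nat.prime_dvd_prime_iff_eq Fact.out (by norm_num)).1 h2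
  obtain ⟨D, hD⟩ : ∃ D : Matrix (Fin 3) (Fin 3) F, D = !![-1, 0, 0; 0, 0, 1; 0, 1, -1] :=
    ⟨_, rfl⟩
  have hDdet : D.det = 1 := by
    rw [hD, Matrix.det_fin_three]
    simp
  have htr : (-1 + 0 + -1 : F) = 1 := by linear_combination (-1) * h30
  have hDchar : D.charpoly = X ^ 3 - X ^ 2 - 1 := by
    rw [charpoly_fin_three, hDdet]
    rw [hD]
    simp only [Matrix.of_apply, Matrix.cons_val', Matrix.cons_val_zero, Matrix.cons_val_one,
      Matrix.cons_val_two, Matrix.cons_val_fin_one, Matrix.head_cons, Matrix.tail_cons,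
      Matrix.empty_val', Matrix.head_fin_const]
    rw [htr]
    simp
  have h3' : (3 : F[X]) = 0 := by
    have h1 : (C (3 : F) : F[X]) = 0 := by rw [h30, C_0]
    rwa [map_ofNat] at h1
  apply assembly p (X ^ 3 - X ^ 2 - 1) 8 (by rw [hp3]; norm_num) ?_ ⟨D, hDdet⟩ hDchar
    (exists_factor_card_three h3)
  refine ⟨X ^ 5 + X ^ 4 + X ^ 3 + 2 * X ^ 2 + 3 * X + 4, ?_⟩
  linear_combination (2 * X ^ 2 + X + 1) * h3'

theorem thompson_three [Fintype F] (p : ℕ) [Fact p.Prime] [CharP F p]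
    (h3 : 3 ≤ Fintype.card F) :
    ∃ y : Matrix.ProjectiveSpecialLinearGroup (Fin 3) F, ¬ p ∣ orderOf y ∧
      ∀ g, g ≠ 1 → ∃ u v, g = (u * y * u⁻¹) * (v * y * v⁻¹) := by
  rcases (by omega : Fintype.card F = 3 ∨ 4 ≤ Fintype.card F) with h | h
  · exact thompson_eq_three p h
  · exact thompson_ge_four p h

end Cfsg.Agent.Helper12.Thomp3
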