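import Mathlib
import Cfsg.Agent.Helper12.TwGenD4A

set_option autoImplicit false
set_option linter.unusedSectionVars false
set_option linter.unusedSimpArgs false
set_option linter.unusedVariables false

/-!
# Two generators of `²E₆(q)`: the short root elements and the torus element
-/

namespace Cfsg.Agent.Helper12.TwGenE6

open Cfsg Cfsg.Lie Cfsg.Agent.Helper6 Cfsg.Agent.Helper12.WCl Cfsg.Agent.Helper11.ChevOrbit
  Cfsg.Agent.Helper11.TwReach Cfsg.Agent.Helper11.TwBNA Cfsg.Agent.Helper12.TwoGen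
  Cfsg.Agent.Helper11.TwMain Cfsg.Agent.Helper11.TwBNMain Cfsg.Agent.Helper11.TwBND
  Cfsg.Agent.Helper11.TwCtx Cfsg.Agent.Helper11.TwTorA Cfsg.Agent.Helper11.TwBNC
  Cfsg.Agent.Helper12.TwGenD4

variable {K : Type*} [Field K] {q : ℕ} (f : K ≃+* K) (hf : ∀ x, f (f x) = x)

/-- the positive short root element of the orbit `[i, j]` -/
noncomputable def XP (i j : ℕ) (t : K) : GL chevE6.Idx K :=
  wp (ctxE6 f hf).hB [i, j] (orbFun chevE6 f [i, j] t)

/-- the negative short root element of the orbit `[i, j]` -/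
noncomputable def XN (i j : ℕ) (t : K) : GL chevE6.Idx K :=
  wn (ctxE6 f hf).hB [i, j] (orbFun chevE6 f [i, j] t)

theorem orbFun_val2 {i j : ℕ} (hij : chevE6.simple j ≠ chevE6.simple i) (t : K) :
    orbFun chevE6 f [i, j] t (chevE6.simple i) = t ∧
    orbFun chevE6 f [i, j] t (chevE6.simple j) = f t := by
  refine ⟨?_, ?_⟩ <;> simp [orbFun, hij]

theorem XP_eq {i j : ℕ} (hij : chevE6.simple j ≠ chevE6.simple i) (t : K) :
    XP f hf i j t = xU (ctxE6 f hf).hB (chevE6.simple i) t *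
      (xU (ctxE6 f hf).hB (chevE6.simple j) (f t) * 1) := by
  obtain ⟨e1, e2⟩ := orbFun_val2 f hij t
  unfold XP
  rw [wp_cons, wp_cons, wp_nil, e1, e2]

theorem XN_eq {i j : ℕ} (hij : chevE6.simple j ≠ chevE6.simple i) (t : K) :
    XN f hf i j t = xU (ctxE6 f hf).hB (chevE6.neg (chevE6.simple i)) t *
      (xU (ctxE6 f hf).hB (chevE6.neg (chevE6.simple j)) (f t) * 1) := by
  obtain ⟨e1, e2⟩ := orbFun_val2 f hij t
  unfold XN
  rw [wn_cons, wn_cons, wn_nil, e1, e2]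

theorem ne24 : chevE6.simple 4 ≠ chevE6.simple 2 := by decide

theorem ne05 : chevE6.simple 5 ≠ chevE6.simple 0 := by decide

theorem orbOK_24 : OrbOK chevE6 (ctxE6 f hf).ρ [2, 4] := orbOK_E6 _ (by simp [orbs_E6])

theorem orbOK_05 : OrbOK chevE6 (ctxE6 f hf).ρ [0, 5] := orbOK_E6 _ (by simp [orbs_E6])

theorem orbOK_1 : OrbOK chevE6 (ctxE6 f hf).ρ [1] := orbOK_E6 _ (by simp [orbs_E6])

theorem orbOK_3 : OrbOK chevE6 (ctxE6 f hf).ρ [3] := orbOK_E6 _ (by simp [orbs_E6])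

theorem XP_mul {i j : ℕ} (hO : OrbOK chevE6 (ctxE6 f hf).ρ [i, j]) (t u : K) :
    XP f hf i j t * XP f hf i j u = XP f hf i j (t + u) := by
  unfold XP
  rw [wp_mul (ctxE6 f hf) (Helper11.TwBNData.bnData_DE K (by simp)) hsp_E6 _ hO.lt
    (OrbOK.pairwise hO)]
  congr 1
  funext r
  simp only [orbFun]
  split_ifs <;> simp [map_add]

theorem XP_zero {i j : ℕ} (hO : OrbOK chevE6 (ctxE6 f hf).ρ [i, j]) : XP f hf i j 0 = 1 := by
  have := XP_mul f hf hO 0 0
  rw [add_zero] at this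
  exact mul_eq_left.1 this

theorem XP_inv {i j : ℕ} (hO : OrbOK chevE6 (ctxE6 f hf).ρ [i, j]) (t : K) :
    (XP f hf i j t)⁻¹ = XP f hf i j (-t) := by
  rw [inv_eq_iff_mul_eq_one, XP_mul f hf hO, add_neg_cancel, XP_zero f hf hO]

/-- the torus element `h_{p₁}(λ) h_{p₆}(λ^q)` -/
noncomputable def torE (lam : K) : GL chevE6.Idx K :=
  hJ (ctxE6 f hf).hB [0, 5] (orbFun chevE6 f [0, 5] (-lam⁻¹))

/-- the character of `torE` -/
def chiE (lam : K) (r : ℕ) : K :=
  lam ^ aOf chevE6 (chevE6.simple 0) r * (f lam) ^ aOf chevE6 (chevE6.simple 5) r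

theorem simple_lt_E6 : ∀ i < chevE6.rank, chevE6.simple i < chevE6.nroots := by decide

theorem hJ2_mem_diagonal {i j : ℕ} (hi : i < chevE6.rank) (hj : j < chevE6.rank)
    (hij : chevE6.simple j ≠ chevE6.simple i) {a : K} (ha : a ≠ 0) :
    hJ (ctxE6 f hf).hB [i, j] (orbFun chevE6 f [i, j] a) ∈ chevE6.diagonalSubgroup K := by
  obtain ⟨e1, e2⟩ := orbFun_val2 f hij a
  apply hJ_mem_diagonal
  · intro k hk
    apply simple_lt_E6
    simp only [List.mem_cons, List.not_mem_nil, or_false] at hk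
    rcases hk with rfl | rfl
    · exact hi
    · exact hj
  · intro k hk
    simp only [List.mem_cons, List.not_mem_nil, or_false] at hk
    rcases hk with rfl | rfl
    · rw [e1]; exact ha
    · rw [e2]; exact (map_ne_zero f).2 ha

/-- the action of `h_{p_i}(ν) h_{p_j}(ν^q)` on the root elements -/
theorem hJ2_conj {i j : ℕ} (hi : i < chevE6.rank) (hj : j < chevE6.rank)
    (hij : chevE6.simple j ≠ chevE6.simple i) {ν : K} (hν : ν ≠ 0) {r : ℕ}
    (hr : r < chevE6.nroots) (t : K) :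
    hJ (ctxE6 f hf).hB [i, j] (orbFun chevE6 f [i, j] (-ν⁻¹)) * xU (ctxE6 f hf).hB r t *
      (hJ (ctxE6 f hf).hB [i, j] (orbFun chevE6 f [i, j] (-ν⁻¹)))⁻¹ =
      xU (ctxE6 f hf).hB r (ν ^ aOf chevE6 (chevE6.simple i) r *
        (f ν) ^ aOf chevE6 (chevE6.simple j) r * t) := by
  obtain ⟨e1, e2⟩ := orbFun_val2 f hij (-ν⁻¹)
  have hν' : -ν⁻¹ ≠ 0 := neg_ne_zero.2 (inv_ne_zero hν)
  have Δ : BNData chevE6 K := Helper11.TwBNData.bnData_DE K (by simp)
  have h2 := hJ_conj Δ [i, j] (by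
      intro k hk
      apply simple_lt_E6
      simp only [List.mem_cons, List.not_mem_nil, or_false] at hk
      rcases hk with rfl | rfl
      · exact hi
      · exact hj) (orbFun chevE6 f [i, j] (-ν⁻¹)) (by
      intro k hk
      simp only [List.mem_cons, List.not_mem_nil, or_false] at hk
      rcases hk with rfl | rfl
      · rw [e1]; exact hν'
      · rw [e2]; exact (map_ne_zero f).2 hν') hr t
  erw [h2]
  congr 2
  rw [chiJ_cons, chiJ_cons, chiJ_nil, e1, e2]
  simp only [map_neg, map_inv₀, inv_neg, neg_neg, inv_inv, mul_one]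

theorem torE_mem_diagonal {lam : K} (hl : lam ≠ 0) :
    torE f hf lam ∈ chevE6.diagonalSubgroup K :=
  hJ2_mem_diagonal f hf (by decide) (by decide) ne05 (neg_ne_zero.2 (inv_ne_zero hl))

theorem torE_conj {lam : K} (hl : lam ≠ 0) {r : ℕ} (hr : r < chevE6.nroots) (t : K) :
    torE f hf lam * xU (ctxE6 f hf).hB r t * (torE f hf lam)⁻¹ =
      xU (ctxE6 f hf).hB r (chiE f lam r * t) :=
  hJ2_conj f hf (by decide) (by decide) ne05 hl hr t

theorem chiE_ne_zero {lam : K} (hl : lam ≠ 0) (r : ℕ) : chiE f lam r ≠ 0 := by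
  unfold chiE
  exact mul_ne_zero (zpow_ne_zero _ hl) (zpow_ne_zero _ ((map_ne_zero f).2 hl))

end Cfsg.Agent.Helper12.TwGenE6
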