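import Mathlib
import Cfsg.Agent.Helper12.TwGenE6A

set_option autoImplicit false
set_option linter.unusedSectionVars false
set_option linter.unusedSimpArgs false
set_option linter.unusedVariables false

/-!
# Two generators of `²E₆(q)`: the double commutator
-/

namespace Cfsg.Agent.Helper12.TwGenE6

open Cfsg Cfsg.Lie Cfsg.Agent.Helper6 Cfsg.Agent.Helper12.WCl Cfsg.Agent.Helper11.ChevOrbit
  Cfsg.Agent.Helper11.TwReach Cfsg.Agent.Helper11.TwBNA Cfsg.Agent.Helper12.TwoGen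
  Cfsg.Agent.Helper11.TwMain Cfsg.Agent.Helper11.TwBNMain Cfsg.Agent.Helper11.TwBND
  Cfsg.Agent.Helper11.TwCtx Cfsg.Agent.Helper11.TwTorA Cfsg.Agent.Helper11.TwBNC
  Cfsg.Agent.Helper12.TwGenD4

variable {K : Type*} [Field K] {q : ℕ} (f : K ≃+* K) (hf : ∀ x, f (f x) = x)

set_option maxRecDepth 100000 in
theorem chiE_p3 (lam : K) : chiE f lam (chevE6.simple 2) = lam⁻¹ := by
  have a1 : aOf chevE6 (chevE6.simple 0) (chevE6.simple 2) = -1 := by decide +kernel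
  have a2 : aOf chevE6 (chevE6.simple 5) (chevE6.simple 2) = 0 := by decide +kernel
  unfold chiE
  rw [a1, a2]
  simp

set_option maxRecDepth 100000 in
theorem chiE_p5 (lam : K) : chiE f lam (chevE6.simple 4) = (f lam)⁻¹ := by
  have a1 : aOf chevE6 (chevE6.simple 0) (chevE6.simple 4) = 0 := by decide +kernel
  have a2 : aOf chevE6 (chevE6.simple 5) (chevE6.simple 4) = -1 := by decide +kernel
  unfold chiE
  rw [a1, a2]
  simp

set_option maxRecDepth 100000 in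
theorem chiE_p2 (lam : K) : chiE f lam (chevE6.simple 1) = 1 := by
  have a1 : aOf chevE6 (chevE6.simple 0) (chevE6.simple 1) = 0 := by decide +kernel
  have a2 : aOf chevE6 (chevE6.simple 5) (chevE6.simple 1) = 0 := by decide +kernel
  unfold chiE
  rw [a1, a2]
  simp

set_option maxRecDepth 100000 in
theorem chiE_41 (lam : K) : chiE f lam 41 = f lam := by
  have a1 : aOf chevE6 (chevE6.simple 0) 41 = 0 := by decide +kernel
  have a2 : aOf chevE6 (chevE6.simple 5) 41 = 1 := by decide +kernel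
  unfold chiE
  rw [a1, a2]
  simp

set_option maxRecDepth 100000 in
theorem chiE_58 (lam : K) : chiE f lam 58 = lam := by
  have a1 : aOf chevE6 (chevE6.simple 0) 58 = 1 := by decide +kernel
  have a2 : aOf chevE6 (chevE6.simple 5) 58 = 0 := by decide +kernel
  unfold chiE
  rw [a1, a2]
  simp

/-- conjugation of a short root element by an element acting through `f`-conjugate scalars -/
theorem conj_XP {i j : ℕ} (hij : chevE6.simple j ≠ chevE6.simple i) {g : GL chevE6.Idx K} {c : K}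
    (h1 : ∀ t, g * xU (ctxE6 f hf).hB (chevE6.simple i) t * g⁻¹ =
      xU (ctxE6 f hf).hB (chevE6.simple i) (c * t))
    (h2 : ∀ t, g * xU (ctxE6 f hf).hB (chevE6.simple j) t * g⁻¹ =
      xU (ctxE6 f hf).hB (chevE6.simple j) (f c * t)) (t : K) :
    g * XP f hf i j t * g⁻¹ = XP f hf i j (c * t) := by
  rw [XP_eq f hf hij, XP_eq f hf hij, mul_one, mul_one, map_mul, ← h1, ← h2]
  group

/-- the representative `n_{p₂} n_{p₄} n_{J₃} n_{J₄}` of the twisted Coxeter element -/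
noncomputable def nE : GL chevE6.Idx K := nJ (ctxE6 f hf).hB [1, 3, 2, 4, 0, 5]

theorem nJ_append' (hB : BasicOK chevE6) (J₁ J₂ : List ℕ) :
    nJ (F := K) hB (J₁ ++ J₂) = nJ hB J₁ * nJ hB J₂ := by
  unfold nJ
  rw [List.map_append, List.prod_append]

theorem nE_eq : nE f hf = nJ (ctxE6 f hf).hB [1] * nJ (ctxE6 f hf).hB [3] *
    nJ (ctxE6 f hf).hB [2, 4] * nJ (ctxE6 f hf).hB [0, 5] := by
  have h1 := nJ_append' (K := K) (ctxE6 f hf).hB [1] ([3] ++ ([2, 4] ++ [0, 5]))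
  have h2 := nJ_append' (K := K) (ctxE6 f hf).hB [3] ([2, 4] ++ [0, 5])
  have h3 := nJ_append' (K := K) (ctxE6 f hf).hB [2, 4] [0, 5]
  unfold nE
  rw [mul_assoc, mul_assoc, ← h3, ← h2, ← h1]
  rfl

theorem nE_lt : ∀ i ∈ [1, 3, 2, 4, 0, 5], i < chevE6.rank := by decide

theorem nE_mem_normalizer :
    nE f hf ∈ Subgroup.normalizer (chevE6.diagonalSubgroup K : Set (GL chevE6.Idx K)) :=
  nL_mem_normalizer (Helper11.TwBNData.bnData_DE K (by simp)) [1, 3, 2, 4, 0, 5] nE_lt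

theorem nE_conj {s : ℕ} (hs : s < chevE6.nroots) (t : K) :
    nE f hf * xU (ctxE6 f hf).hB s t * (nE f hf)⁻¹ =
      xU (ctxE6 f hf).hB (wJ chevE6 [1, 3, 2, 4, 0, 5] s)
        (((etaJ chevE6 [1, 3, 2, 4, 0, 5] s : ℤ) : K) * t) :=
  nJ_conj_xU (ctxE6 f hf).hB (ctxE6 f hf).hAll nE_lt hs t

/-- the double commutator lies in `X_{J₃}`, for an abstract torus element -/
theorem double_XP' {h : GL chevE6.Idx K} (hhH : h ∈ chevE6.diagonalSubgroup K) (χ : ℕ → K)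
    (hχ0 : ∀ r, χ r ≠ 0)
    (hact : ∀ {r : ℕ}, r < chevE6.nroots → ∀ t : K,
      h * xU (ctxE6 f hf).hB r t * h⁻¹ = xU (ctxE6 f hf).hB r (χ r * t)) (β c : K)
    (e1 : χ (chevE6.simple 2) = β) (e2 : χ (chevE6.simple 4) = f β)
    (e41 : (χ 41)⁻¹ = c) (e58 : (χ 58)⁻¹ = f c) :
    h * (h * (XP f hf 2 4 1 * nE f hf) * h⁻¹ * (XP f hf 2 4 1 * nE f hf)⁻¹) * h⁻¹ *
      (h * (XP f hf 2 4 1 * nE f hf) * h⁻¹ * (XP f hf 2 4 1 * nE f hf)⁻¹)⁻¹ =
      XP f hf 2 4 ((β - 1) * (β - β * c)) := by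
  have Δ : BNData chevE6 K := Helper11.TwBNData.bnData_DE K (by simp)
  have hkH : nE f hf * h⁻¹ * (nE f hf)⁻¹ ∈ chevE6.diagonalSubgroup K :=
    (Subgroup.mem_normalizer_iff.1 (nE_mem_normalizer f hf) h⁻¹).1 (Subgroup.inv_mem _ hhH)
  have hinv : ∀ {r : ℕ}, r < chevE6.nroots → ∀ t : K,
      h⁻¹ * xU (ctxE6 f hf).hB r t * (h⁻¹)⁻¹ = xU (ctxE6 f hf).hB r ((χ r)⁻¹ * t) := by
    intro r hr t
    have := hact hr ((χ r)⁻¹ * t)
    rw [← mul_assoc, mul_inv_cancel₀ (hχ0 r), one_mul] at this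
    rw [← this]; group
  have w41 : wJ chevE6 [1, 3, 2, 4, 0, 5] 41 = chevE6.simple 2 := by decide +kernel
  have w58 : wJ chevE6 [1, 3, 2, 4, 0, 5] 58 = chevE6.simple 4 := by decide +kernel
  have s41 : etaJ chevE6 [1, 3, 2, 4, 0, 5] 41 = 1 := by decide +kernel
  have s58 : etaJ chevE6 [1, 3, 2, 4, 0, 5] 58 = 1 := by decide +kernel
  have c41 := fun t => nE_conj f hf (s := 41) (by decide) t
  have c58 := fun t => nE_conj f hf (s := 58) (by decide) t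
  rw [w41, s41] at c41
  rw [w58, s58] at c58
  have hone : ((1 : ℤ) : K) * ((1 : ℤ) : K) = 1 := by simp
  have k41 := conj_transport Δ hone c41 (hinv (by decide))
  have k58 := conj_transport Δ hone c58 (hinv (by decide))
  rw [e41] at k41
  rw [e58] at k58
  have hk : ∀ t, (nE f hf * h⁻¹ * (nE f hf)⁻¹) * XP f hf 2 4 t *
      (nE f hf * h⁻¹ * (nE f hf)⁻¹)⁻¹ = XP f hf 2 4 (c * t) := conj_XP f hf ne24 k41 k58
  have hactX : ∀ t, h * XP f hf 2 4 t * h⁻¹ = XP f hf 2 4 (β * t) := by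
    apply conj_XP f hf ne24
    · intro t; rw [hact (by decide), e1]
    · intro t; rw [hact (by decide), e2]
  have hg : ∀ t, (h * nE f hf * h⁻¹ * (nE f hf)⁻¹) * XP f hf 2 4 t *
      (h * nE f hf * h⁻¹ * (nE f hf)⁻¹)⁻¹ = XP f hf 2 4 (β * c * t) := by
    intro t
    have e : (h * nE f hf * h⁻¹ * (nE f hf)⁻¹) * XP f hf 2 4 t *
        (h * nE f hf * h⁻¹ * (nE f hf)⁻¹)⁻¹ =
        h * ((nE f hf * h⁻¹ * (nE f hf)⁻¹) * XP f hf 2 4 t *
          (nE f hf * h⁻¹ * (nE f hf)⁻¹)⁻¹) * h⁻¹ := by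
      group
    rw [e, hk, hactX, mul_assoc]
  have hc : h * (h * nE f hf * h⁻¹ * (nE f hf)⁻¹) = (h * nE f hf * h⁻¹ * (nE f hf)⁻¹) * h := by
    have e1 : h * nE f hf * h⁻¹ * (nE f hf)⁻¹ = h * (nE f hf * h⁻¹ * (nE f hf)⁻¹) := by group
    rw [e1, mul_assoc h (nE f hf * h⁻¹ * (nE f hf)⁻¹) h, ← diagonal_comm Δ hhH hkH]
  exact double_comm (XP f hf 2 4) (XP_mul f hf (orbOK_24 f hf)) h (nE f hf) β (β * c) hactX hg hc

/-- the double commutator lies in `X_{J₃}` -/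
theorem double_XP {lam : K} (hl : lam ≠ 0) :
    torE f hf lam * (torE f hf lam * (XP f hf 2 4 1 * nE f hf) * (torE f hf lam)⁻¹ *
        (XP f hf 2 4 1 * nE f hf)⁻¹) * (torE f hf lam)⁻¹ *
      (torE f hf lam * (XP f hf 2 4 1 * nE f hf) * (torE f hf lam)⁻¹ *
        (XP f hf 2 4 1 * nE f hf)⁻¹)⁻¹ =
      XP f hf 2 4 ((lam⁻¹ - 1) * (lam⁻¹ - lam⁻¹ * (f lam)⁻¹)) := by
  refine double_XP' f hf (torE_mem_diagonal f hf hl) (chiE f lam) (chiE_ne_zero f hl)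
    (fun hr t => torE_conj f hf hl hr t) lam⁻¹ (f lam)⁻¹ (chiE_p3 f lam) ?_ ?_ ?_
  · rw [chiE_p5, map_inv₀]
  · rw [chiE_41]
  · rw [chiE_58, map_inv₀, hf]

end Cfsg.Agent.Helper12.TwGenE6
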