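import Mathlib
import Cfsg.Agent.Helper12.TwGenE6B

set_option autoImplicit false
set_option linter.unusedSectionVars false
set_option linter.unusedSimpArgs false
set_option linter.unusedVariables false

/-!
# Two generators of `²E₆(q)`: the powers of the twisted Coxeter element
-/

namespace Cfsg.Agent.Helper12.TwGenE6

open Cfsg Cfsg.Lie Cfsg.Agent.Helper6 Cfsg.Agent.Helper12.WCl Cfsg.Agent.Helper11.ChevOrbit
  Cfsg.Agent.Helper11.TwReach Cfsg.Agent.Helper11.TwBNA Cfsg.Agent.Helper12.TwoGen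
  Cfsg.Agent.Helper11.TwMain Cfsg.Agent.Helper11.TwBNMain Cfsg.Agent.Helper11.TwBND
  Cfsg.Agent.Helper11.TwCtx Cfsg.Agent.Helper11.TwTorA Cfsg.Agent.Helper11.TwBNC
  Cfsg.Agent.Helper12.TwGenD4

variable {K : Type*} [Field K] {q : ℕ} (f : K ≃+* K) (hf : ∀ x, f (f x) = x)

/-- the word of the `k`-th power of the twisted Coxeter element -/
def Lpow : ℕ → List ℕ
  | 0 => []
  | k + 1 => [1, 3, 2, 4, 0, 5] ++ Lpow k

theorem Lpow_lt : ∀ (k : ℕ), ∀ i ∈ Lpow k, i < chevE6.rank := by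
  intro k
  induction k with
  | zero => intro i hi; simp [Lpow] at hi
  | succ k ih =>
    intro i hi
    rw [Lpow, List.mem_append] at hi
    rcases hi with hi | hi
    · exact nE_lt i hi
    · exact ih i hi

theorem nE_pow (k : ℕ) : (nE f hf) ^ k = nJ (ctxE6 f hf).hB (Lpow k) := by
  induction k with
  | zero => simp [Lpow, nJ]
  | succ k ih =>
    rw [pow_succ', ih, Lpow, nJ_append']
    rfl

theorem nE_pow_conj (k : ℕ) {s : ℕ} (hs : s < chevE6.nroots) (t : K) :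
    (nE f hf) ^ k * xU (ctxE6 f hf).hB s t * ((nE f hf) ^ k)⁻¹ =
      xU (ctxE6 f hf).hB (wJ chevE6 (Lpow k) s) (((etaJ chevE6 (Lpow k) s : ℤ) : K) * t) := by
  rw [nE_pow]
  exact nJ_conj_xU (ctxE6 f hf).hB (ctxE6 f hf).hAll (Lpow_lt k) hs t

set_option maxRecDepth 100000 in
theorem tab1 : wJ chevE6 (Lpow 1) (chevE6.simple 2) = chevE6.simple 0 ∧
    etaJ chevE6 (Lpow 1) (chevE6.simple 2) = 1 ∧
    wJ chevE6 (Lpow 1) (chevE6.simple 4) = chevE6.simple 5 ∧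
    etaJ chevE6 (Lpow 1) (chevE6.simple 4) = 1 ∧
    wJ chevE6 (Lpow 1) (chevE6.simple 1) = chevE6.simple 3 ∧
    etaJ chevE6 (Lpow 1) (chevE6.simple 1) = 1 := by decide +kernel

set_option maxRecDepth 100000 in
theorem tab6 : wJ chevE6 (Lpow 6) (chevE6.simple 2) = chevE6.neg (chevE6.simple 4) ∧
    etaJ chevE6 (Lpow 6) (chevE6.simple 2) = -1 ∧
    wJ chevE6 (Lpow 6) (chevE6.simple 4) = chevE6.neg (chevE6.simple 2) ∧
    etaJ chevE6 (Lpow 6) (chevE6.simple 4) = -1 ∧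
    wJ chevE6 (Lpow 6) (chevE6.simple 1) = chevE6.neg (chevE6.simple 1) ∧
    etaJ chevE6 (Lpow 6) (chevE6.simple 1) = -1 := by decide +kernel

set_option maxRecDepth 100000 in
theorem tab7 : wJ chevE6 (Lpow 7) (chevE6.simple 2) = chevE6.neg (chevE6.simple 5) ∧
    etaJ chevE6 (Lpow 7) (chevE6.simple 2) = -1 ∧
    wJ chevE6 (Lpow 7) (chevE6.simple 4) = chevE6.neg (chevE6.simple 0) ∧
    etaJ chevE6 (Lpow 7) (chevE6.simple 4) = -1 ∧
    wJ chevE6 (Lpow 7) (chevE6.simple 1) = chevE6.neg (chevE6.simple 3) ∧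
    etaJ chevE6 (Lpow 7) (chevE6.simple 1) = -1 := by decide +kernel

/-- `n X_{J₃}(t) n⁻¹ = X_{J₄}(t)` -/
theorem conj1_XP (t : K) :
    (nE f hf) ^ 1 * XP f hf 2 4 t * ((nE f hf) ^ 1)⁻¹ = XP f hf 0 5 t := by
  obtain ⟨w1, s1, w2, s2, -, -⟩ := tab1
  have c1 := nE_pow_conj f hf 1 (s := chevE6.simple 2) (by decide)
  have c2 := nE_pow_conj f hf 1 (s := chevE6.simple 4) (by decide)
  rw [w1, s1] at c1
  rw [w2, s2] at c2
  rw [XP_eq f hf ne24, XP_eq f hf ne05, mul_one, mul_one]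
  have e : ∀ x : K, x = ((1 : ℤ) : K) * x := by intro x; simp
  rw [e t, e (f (((1 : ℤ) : K) * t)), ← c1, ← c2]
  simp only [Int.cast_one, one_mul]
  group

/-- `n x_{p₂}(t) n⁻¹ = x_{p₄}(t)` -/
theorem conj1_long (t : K) :
    (nE f hf) ^ 1 * xU (ctxE6 f hf).hB (chevE6.simple 1) t * ((nE f hf) ^ 1)⁻¹ =
      xU (ctxE6 f hf).hB (chevE6.simple 3) t := by
  obtain ⟨-, -, -, -, w3, s3⟩ := tab1
  have c3 := nE_pow_conj f hf 1 (s := chevE6.simple 1) (by decide) t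
  rw [w3, s3] at c3
  rw [c3]
  simp

theorem comm_neg24 (t u : K) :
    Commute (xU (ctxE6 f hf).hB (chevE6.neg (chevE6.simple 2)) t)
      (xU (ctxE6 f hf).hB (chevE6.neg (chevE6.simple 4)) u) := by
  have hO := orbOK_24 f hf
  obtain ⟨h2, h4, -, -, hso⟩ := hO
  exact (so_comm (ctxE6 f hf) hsp_E6 h2 h4 hso t u).2.2.2

theorem comm_neg05 (t u : K) :
    Commute (xU (ctxE6 f hf).hB (chevE6.neg (chevE6.simple 0)) t)
      (xU (ctxE6 f hf).hB (chevE6.neg (chevE6.simple 5)) u) := by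
  have hO := orbOK_05 f hf
  obtain ⟨h0, h5, -, -, hso⟩ := hO
  exact (so_comm (ctxE6 f hf) hsp_E6 h0 h5 hso t u).2.2.2

/-- `n⁶ X_{J₃}(t) n⁻⁶ = X_{-J₃}(-t^q)` -/
theorem conj6_XP (t : K) :
    (nE f hf) ^ 6 * XP f hf 2 4 t * ((nE f hf) ^ 6)⁻¹ = XN f hf 2 4 (-f t) := by
  obtain ⟨w1, s1, w2, s2, -, -⟩ := tab6
  have c1 := nE_pow_conj f hf 6 (s := chevE6.simple 2) (by decide)
  have c2 := nE_pow_conj f hf 6 (s := chevE6.simple 4) (by decide)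
  rw [w1, s1] at c1
  rw [w2, s2] at c2
  rw [XP_eq f hf ne24, XN_eq f hf ne24, mul_one, mul_one, map_neg, hf,
    (comm_neg24 f hf (-f t) (-t)).eq]
  have e : ∀ x : K, -x = ((-1 : ℤ) : K) * x := by intro x; simp
  rw [e t, e (f t), ← c1, ← c2]
  group

/-- `n⁷ X_{J₃}(t) n⁻⁷ = X_{-J₄}(-t^q)` -/
theorem conj7_XP (t : K) :
    (nE f hf) ^ 7 * XP f hf 2 4 t * ((nE f hf) ^ 7)⁻¹ = XN f hf 0 5 (-f t) := by
  obtain ⟨w1, s1, w2, s2, -, -⟩ := tab7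
  have c1 := nE_pow_conj f hf 7 (s := chevE6.simple 2) (by decide)
  have c2 := nE_pow_conj f hf 7 (s := chevE6.simple 4) (by decide)
  rw [w1, s1] at c1
  rw [w2, s2] at c2
  rw [XP_eq f hf ne24, XN_eq f hf ne05, mul_one, mul_one, map_neg, hf,
    (comm_neg05 f hf (-f t) (-t)).eq]
  have e : ∀ x : K, -x = ((-1 : ℤ) : K) * x := by intro x; simp
  rw [e t, e (f t), ← c1, ← c2]
  group

/-- `n⁶ x_{p₂}(t) n⁻⁶ = x_{-p₂}(-t)` -/
theorem conj6_long (t : K) :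
    (nE f hf) ^ 6 * xU (ctxE6 f hf).hB (chevE6.simple 1) t * ((nE f hf) ^ 6)⁻¹ =
      xU (ctxE6 f hf).hB (chevE6.neg (chevE6.simple 1)) (-t) := by
  obtain ⟨-, -, -, -, w3, s3⟩ := tab6
  have c3 := nE_pow_conj f hf 6 (s := chevE6.simple 1) (by decide) t
  rw [w3, s3] at c3
  rw [c3]
  simp

/-- `n⁷ x_{p₂}(t) n⁻⁷ = x_{-p₄}(-t)` -/
theorem conj7_long (t : K) :
    (nE f hf) ^ 7 * xU (ctxE6 f hf).hB (chevE6.simple 1) t * ((nE f hf) ^ 7)⁻¹ =
      xU (ctxE6 f hf).hB (chevE6.neg (chevE6.simple 3)) (-t) := by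
  obtain ⟨-, -, -, -, w3, s3⟩ := tab7
  have c3 := nE_pow_conj f hf 7 (s := chevE6.simple 1) (by decide) t
  rw [w3, s3] at c3
  rw [c3]
  simp

end Cfsg.Agent.Helper12.TwGenE6
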