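import Mathlib
import Cfsg.Agent.Helper12.TwGenE6C

set_option autoImplicit false
set_option linter.unusedSectionVars false
set_option linter.unusedSimpArgs false
set_option linter.unusedVariables false

/-!
# Two generators of `²E₆(q)`: a subgroup containing the two generators is everything
-/

namespace Cfsg.Agent.Helper12.TwGenE6

open Cfsg Cfsg.Lie Cfsg.Agent.Helper6 Cfsg.Agent.Helper12.WCl Cfsg.Agent.Helper11.ChevOrbit
  Cfsg.Agent.Helper11.TwReach Cfsg.Agent.Helper11.TwBNA Cfsg.Agent.Helper12.TwoGen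
  Cfsg.Agent.Helper11.TwMain Cfsg.Agent.Helper11.TwBNMain Cfsg.Agent.Helper11.TwBND
  Cfsg.Agent.Helper11.TwCtx Cfsg.Agent.Helper11.TwTorA Cfsg.Agent.Helper11.TwBNC
  Cfsg.Agent.Helper12.TwGenD4

variable {K : Type*} [Field K] {q : ℕ} (f : K ≃+* K) (hf : ∀ x, f (f x) = x)

theorem pow_conj_XP {h : GL chevE6.Idx K} {β : K}
    (hact : ∀ t, h * XP f hf 2 4 t * h⁻¹ = XP f hf 2 4 (β * t)) (j : ℕ) (t : K) :
    h ^ j * XP f hf 2 4 t * (h ^ j)⁻¹ = XP f hf 2 4 (β ^ j * t) := by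
  induction j generalizing t with
  | zero => simp
  | succ j ih =>
    have e : h ^ (j + 1) * XP f hf 2 4 t * (h ^ (j + 1))⁻¹ =
        h ^ j * (h * XP f hf 2 4 t * h⁻¹) * (h ^ j)⁻¹ := by
      rw [pow_succ]; group
    rw [e, hact, ih, pow_succ, mul_assoc]

theorem XP_eq_word {i j : ℕ} (hO : OrbOK chevE6 (ctxE6 f hf).ρ [i, j]) (t : K) :
    wordU (ctxE6 f hf).hB (orbWord chevE6 f true [i, j] t) = XP f hf i j t :=
  (orbWord_eq' (ctxE6 f hf).hB f hO t).1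

theorem XN_eq_word {i j : ℕ} (hO : OrbOK chevE6 (ctxE6 f hf).ρ [i, j]) (t : K) :
    wordU (ctxE6 f hf).hB (orbWord chevE6 f false [i, j] t) = XN f hf i j t :=
  (orbWord_eq' (ctxE6 f hf).hB f hO t).2

/-- `n_J` for a two-element orbit whose root elements lie in `S` -/
theorem nJ2_mem (S : Subgroup (GL chevE6.Idx K)) {i j : ℕ}
    (hO : OrbOK chevE6 (ctxE6 f hf).ρ [i, j]) (hp : ∀ t, XP f hf i j t ∈ S)
    (hn : ∀ t, XN f hf i j t ∈ S) : nJ (ctxE6 f hf).hB [i, j] ∈ S := by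
  have := nJ_eq (ctxE6 f hf) hsp_E6 hO
  change nJ (ctxE6 f hf).hB [i, j] =
    wordU (ctxE6 f hf).hB (orbWord chevE6 f true [i, j] 1) *
      wordU (ctxE6 f hf).hB (orbWord chevE6 f false [i, j] (-1)) *
      wordU (ctxE6 f hf).hB (orbWord chevE6 f true [i, j] 1) at this
  rw [XP_eq_word f hf hO, XN_eq_word f hf hO] at this
  rw [this]
  exact S.mul_mem (S.mul_mem (hp 1) (hn (-1))) (hp 1)

/-- a subgroup containing `X_J`, `X_{-J}` contains the torus elements `h_J(a)` -/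
theorem hJ2_mem (S : Subgroup (GL chevE6.Idx K)) {i j : ℕ}
    (hO : OrbOK chevE6 (ctxE6 f hf).ρ [i, j]) (hij : chevE6.simple j ≠ chevE6.simple i)
    (hp : ∀ t, XP f hf i j t ∈ S) (hn : ∀ t, XN f hf i j t ∈ S) {a : K} (ha : a ≠ 0) :
    hJ (ctxE6 f hf).hB [i, j] (orbFun chevE6 f [i, j] a) ∈ S := by
  obtain ⟨e1, e2⟩ := orbFun_val2 f hij a
  have ht : ∀ k ∈ [i, j], orbFun chevE6 f [i, j] a (chevE6.simple k) ≠ 0 := by
    intro k hk
    simp only [List.mem_cons, List.not_mem_nil, or_false] at hk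
    rcases hk with rfl | rfl
    · rw [e1]; exact ha
    · rw [e2]; exact (map_ne_zero f).2 ha
  have h1 := wn_eq (ctxE6 f hf) hsp_E6 [i, j] hO.lt (OrbOK.pairwise hO)
    (orbFun chevE6 f [i, j] a) ht
  rw [orbFun_inv] at h1
  have m4 := nJ2_mem f hf S hO hp hn
  have : hJ (ctxE6 f hf).hB [i, j] (orbFun chevE6 f [i, j] a) =
      (XP f hf i j a⁻¹)⁻¹ * XN f hf i j a * (XP f hf i j a⁻¹)⁻¹ *
      (nJ (F := K) (ctxE6 f hf).hB [i, j])⁻¹ := by
    unfold XP XN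
    rw [h1]; group
  rw [this]
  exact S.mul_mem (S.mul_mem (S.mul_mem (S.inv_mem (hp _)) (hn _)) (S.inv_mem (hp _)))
    (S.inv_mem m4)

/-- a fundamental long root: from `X_{p}` and `x_{-p}(-1)` to `n_p`, `X_{-p}`, `h_p` -/
theorem long_mem (S : Subgroup (GL chevE6.Idx K)) {i : ℕ}
    (hO : OrbOK chevE6 (ctxE6 f hf).ρ [i])
    (hp : ∀ t : K, f t = t → xU (ctxE6 f hf).hB (chevE6.simple i) t ∈ S)
    (hm : xU (ctxE6 f hf).hB (chevE6.neg (chevE6.simple i)) (-1 : K) ∈ S) :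
    nJ (ctxE6 f hf).hB [i] ∈ S ∧
    (∀ t : K, f t = t → xU (ctxE6 f hf).hB (chevE6.neg (chevE6.simple i)) t ∈ S) ∧
    (∀ a : K, a ≠ 0 → f a = a → hJ (ctxE6 f hf).hB [i] (fun _ => a) ∈ S) := by
  have Δ : BNData chevE6 K := Helper11.TwBNData.bnData_DE K (by simp)
  have hn1 : nJ (ctxE6 f hf).hB [i] ∈ S := by
    have : nJ (F := K) (ctxE6 f hf).hB [i] =
        nU (ctxE6 f hf).hB (chevE6.simple i) (one_ne_zero (α := K)) := by
      simp [nJ]
    rw [this, nU_one_eq]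
    exact S.mul_mem (S.mul_mem (hp 1 (map_one f)) hm) (hp 1 (map_one f))
  have hneg : ∀ t : K, f t = t → xU (ctxE6 f hf).hB (chevE6.neg (chevE6.simple i)) t ∈ S := by
    intro t hft
    have := nJ_conj_wp (ctxE6 f hf) Δ hsp_E6 [i] hO.lt (OrbOK.pairwise hO) (fun _ => -t)
    rw [wp_cons, wp_nil, wn_cons, wn_nil, mul_one, mul_one, neg_neg] at this
    rw [← this]
    exact S.mul_mem (S.mul_mem hn1 (hp (-t) (by rw [map_neg, hft]))) (S.inv_mem hn1)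
  refine ⟨hn1, hneg, ?_⟩
  intro a ha hfa
  have h1 := wn_eq (ctxE6 f hf) hsp_E6 [i] hO.lt (OrbOK.pairwise hO) (fun _ => a)
    (fun _ _ => ha)
  rw [wn_cons, wn_nil, wp_cons, wp_nil, mul_one, mul_one] at h1
  have : hJ (ctxE6 f hf).hB [i] (fun _ => a) =
      (xU (ctxE6 f hf).hB (chevE6.simple i) a⁻¹)⁻¹ *
      xU (ctxE6 f hf).hB (chevE6.neg (chevE6.simple i)) a *
      (xU (ctxE6 f hf).hB (chevE6.simple i) a⁻¹)⁻¹ *
      (nJ (F := K) (ctxE6 f hf).hB [i])⁻¹ := by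
    rw [h1]; group
  rw [this]
  have hia : f a⁻¹ = a⁻¹ := by rw [map_inv₀, hfa]
  exact S.mul_mem (S.mul_mem (S.mul_mem (S.inv_mem (hp _ hia)) (hneg a hfa))
    (S.inv_mem (hp _ hia))) (S.inv_mem hn1)

end Cfsg.Agent.Helper12.TwGenE6
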