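import Mathlib
import Cfsg.Agent.Helper12.TwGenE6D

set_option autoImplicit false
set_option linter.unusedSectionVars false
set_option linter.unusedSimpArgs false
set_option linter.unusedVariables false

/-!
# `²E₆(q)` is generated by two elements
-/

namespace Cfsg.Agent.Helper12.TwGenE6

open Cfsg Cfsg.Lie Cfsg.Agent.Helper6 Cfsg.Agent.Helper12.WCl Cfsg.Agent.Helper11.ChevOrbit
  Cfsg.Agent.Helper11.TwReach Cfsg.Agent.Helper11.TwBNA Cfsg.Agent.Helper12.TwoGen
  Cfsg.Agent.Helper11.TwMain Cfsg.Agent.Helper11.TwBNMain Cfsg.Agent.Helper11.TwBND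
  Cfsg.Agent.Helper11.TwCtx Cfsg.Agent.Helper11.TwTorA Cfsg.Agent.Helper11.TwBNC
  Cfsg.Agent.Helper12.TwGenD4

variable {K : Type*} [Field K] {q : ℕ} (f : K ≃+* K) (hf : ∀ x, f (f x) = x)

set_option maxRecDepth 100000 in
theorem aOf_tab : aOf chevE6 (chevE6.simple 2) (chevE6.simple 3) = -1 ∧
    aOf chevE6 (chevE6.simple 4) (chevE6.simple 3) = -1 ∧
    aOf chevE6 (chevE6.simple 3) (chevE6.simple 1) = -1 := by decide +kernel

section assembly

variable [Fintype K] (hfq : ∀ x, f x = x ^ q)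
include hfq

/-- a subgroup containing the two generators contains `²E₆(q)` -/
theorem le_of_mem (S : Subgroup (GL chevE6.Idx K)) {lam : K} (hl : lam ≠ 0)
    (hgen : IsGen lam⁻¹) (hfl : f lam ≠ 1) (hex : ∃ t : K, t ≠ 0 ∧ t ≠ 1)
    (hnorm : ∀ t : K, t ≠ 0 → f t = t → ∃ ν : K, ν ≠ 0 ∧ ν⁻¹ * (f ν)⁻¹ = t)
    (hA : torE f hf lam * xU (ctxE6 f hf).hB (chevE6.simple 1) 1 ∈ S)
    (hBm : XP f hf 2 4 1 * nE f hf ∈ S) : twistedE6 K q ≤ S := by
  have T := twData_E6 f hfq hf
  have Δ : BNData chevE6 K := Helper11.TwBNData.bnData_DE K (by simp)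
  have hhH : torE f hf lam ∈ chevE6.diagonalSubgroup K := torE_mem_diagonal f hf hl
  have hO24 := orbOK_24 f hf
  have hO05 := orbOK_05 f hf
  have hO1 := orbOK_1 f hf
  have hO3 := orbOK_3 f hf
  -- (a) `h` and `x_{p₂}(1)` lie in `S`
  have hcomm : Commute (torE f hf lam) (xU (ctxE6 f hf).hB (chevE6.simple 1) (1 : K)) := by
    have := torE_conj f hf hl (r := chevE6.simple 1) (by decide) 1
    rw [chiE_p2, one_mul] at this
    have e : torE f hf lam * xU (ctxE6 f hf).hB (chevE6.simple 1) (1 : K) =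
        (torE f hf lam * xU (ctxE6 f hf).hB (chevE6.simple 1) 1 * (torE f hf lam)⁻¹) *
          torE f hf lam := by group
    unfold Commute SemiconjBy
    rw [e, this]
  have hpow : (torE f hf lam * xU (ctxE6 f hf).hB (chevE6.simple 1) (1 : K)) ^
      (Fintype.card K - 1) = xU (ctxE6 f hf).hB (chevE6.simple 1) (-1) := by
    rw [hcomm.mul_pow, Helper11.ChevSylow.pow_card_sub_one_eq_one (ctxE6 f hf).tab hhH, one_mul,
      xU_one_pow Δ]
    congr 1
    have h1 : 1 ≤ Fintype.card K := Fintype.card_pos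
    rw [Nat.cast_sub h1, Nat.cast_card_eq_zero, Nat.cast_one, zero_sub]
  have hxm : xU (ctxE6 f hf).hB (chevE6.simple 1) (-1 : K) ∈ S := by
    rw [← hpow]; exact Subgroup.pow_mem _ hA _
  have hx1 : xU (ctxE6 f hf).hB (chevE6.simple 1) (1 : K) ∈ S := by
    have := Subgroup.inv_mem _ hxm
    rwa [xU_inv, neg_neg] at this
  have hhS : torE f hf lam ∈ S := by
    have := Subgroup.mul_mem _ hA hxm
    rwa [mul_assoc, xU_mul, add_neg_cancel, xU_zero, mul_one] at this
  -- (b) a non-trivial element of `X_{J₃}`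
  have hdc := double_XP f hf hl
  have hβ0 : lam⁻¹ ≠ 0 := inv_ne_zero hl
  have hβ1 : lam⁻¹ ≠ 1 := hgen.ne_one hex
  have hs : (lam⁻¹ - 1) * (lam⁻¹ - lam⁻¹ * (f lam)⁻¹) ≠ 0 := by
    apply mul_ne_zero (sub_ne_zero.2 hβ1)
    have : lam⁻¹ - lam⁻¹ * (f lam)⁻¹ = lam⁻¹ * (1 - (f lam)⁻¹) := by ring
    rw [this]
    apply mul_ne_zero hβ0
    rw [sub_ne_zero]
    intro e
    apply hfl
    have := congrArg (fun x => x⁻¹) e
    simpa using this.symm
  have hsS : XP f hf 2 4 ((lam⁻¹ - 1) * (lam⁻¹ - lam⁻¹ * (f lam)⁻¹)) ∈ S := by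
    rw [← hdc]
    have hz : torE f hf lam * (XP f hf 2 4 1 * nE f hf) * (torE f hf lam)⁻¹ *
        (XP f hf 2 4 1 * nE f hf)⁻¹ ∈ S :=
      S.mul_mem (S.mul_mem (S.mul_mem hhS hBm) (S.inv_mem hhS)) (S.inv_mem hBm)
    exact S.mul_mem (S.mul_mem (S.mul_mem hhS hz) (S.inv_mem hhS)) (S.inv_mem hz)
  -- (c) all of `X_{J₃}`
  have hact : ∀ t, torE f hf lam * XP f hf 2 4 t * (torE f hf lam)⁻¹ =
      XP f hf 2 4 (lam⁻¹ * t) := by
    apply conj_XP f hf ne24
    · intro t; rw [torE_conj f hf hl (by decide), chiE_p3]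
    · intro t; rw [torE_conj f hf hl (by decide), chiE_p5, map_inv₀]
  have hp24 : ∀ t, XP f hf 2 4 t ∈ S := by
    intro t
    by_cases ht : t = 0
    · rw [ht, XP_zero f hf hO24]; exact S.one_mem
    obtain ⟨j, hj⟩ := hgen (t / ((lam⁻¹ - 1) * (lam⁻¹ - lam⁻¹ * (f lam)⁻¹))) (div_ne_zero ht hs)
    have := pow_conj_XP f hf hact j ((lam⁻¹ - 1) * (lam⁻¹ - lam⁻¹ * (f lam)⁻¹))
    rw [hj, div_mul_cancel₀ _ hs] at this
    rw [← this]
    exact S.mul_mem (S.mul_mem (S.pow_mem hhS j) hsS) (S.inv_mem (S.pow_mem hhS j))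
  -- (d) `n ∈ S`
  have hnS : nE f hf ∈ S := by
    have : nE f hf = (XP f hf 2 4 1)⁻¹ * (XP f hf 2 4 1 * nE f hf) := by group
    rw [this]
    exact S.mul_mem (S.inv_mem (hp24 1)) hBm
  have hconj : ∀ (k : ℕ) (g : GL chevE6.Idx K), g ∈ S →
      (nE f hf) ^ k * g * ((nE f hf) ^ k)⁻¹ ∈ S := fun k g hg =>
    S.mul_mem (S.mul_mem (S.pow_mem hnS k) hg) (S.inv_mem (S.pow_mem hnS k))
  -- (e) the other short root subgroups
  have hp05 : ∀ t, XP f hf 0 5 t ∈ S := by
    intro t
    rw [← conj1_XP f hf t]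
    exact hconj 1 _ (hp24 t)
  have hn24 : ∀ t, XN f hf 2 4 t ∈ S := by
    intro t
    have := conj6_XP f hf (-f t)
    rw [map_neg, hf, neg_neg] at this
    rw [← this]
    exact hconj 6 _ (hp24 _)
  have hn05 : ∀ t, XN f hf 0 5 t ∈ S := by
    intro t
    have := conj7_XP f hf (-f t)
    rw [map_neg, hf, neg_neg] at this
    rw [← this]
    exact hconj 7 _ (hp24 _)
  -- (f) the long root elements
  have hx4 : xU (ctxE6 f hf).hB (chevE6.simple 3) (1 : K) ∈ S := by
    rw [← conj1_long f hf 1]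
    exact hconj 1 _ hx1
  have hxm2 : xU (ctxE6 f hf).hB (chevE6.neg (chevE6.simple 1)) (-1 : K) ∈ S := by
    rw [← conj6_long f hf 1]
    exact hconj 6 _ hx1
  have hxm4 : xU (ctxE6 f hf).hB (chevE6.neg (chevE6.simple 3)) (-1 : K) ∈ S := by
    rw [← conj7_long f hf 1]
    exact hconj 7 _ hx1
  obtain ⟨a1, a2, a3⟩ := aOf_tab
  -- (g) `X_{p₄}`
  have hlong4 : ∀ t : K, f t = t → xU (ctxE6 f hf).hB (chevE6.simple 3) t ∈ S := by
    intro t hft
    by_cases ht : t = 0
    · rw [ht, xU_zero]; exact S.one_mem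
    obtain ⟨ν, hν0, hν⟩ := hnorm t ht hft
    have hν' : -ν⁻¹ ≠ 0 := neg_ne_zero.2 (inv_ne_zero hν0)
    have hmem := hJ2_mem f hf S hO24 ne24 hp24 hn24 hν'
    have hc := hJ2_conj f hf (i := 2) (j := 4) (by decide) (by decide) ne24 hν0
      (r := chevE6.simple 3) (by decide) 1
    rw [a1, a2, zpow_neg, zpow_neg, zpow_one, zpow_one, hν, mul_one] at hc
    rw [← hc]
    exact S.mul_mem (S.mul_mem hmem hx4) (S.inv_mem hmem)
  obtain ⟨hn3, hlongn4, hh3⟩ := long_mem f hf S hO3 hlong4 hxm4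
  -- (h) `X_{p₂}`
  have hlong2 : ∀ t : K, f t = t → xU (ctxE6 f hf).hB (chevE6.simple 1) t ∈ S := by
    intro t hft
    by_cases ht : t = 0
    · rw [ht, xU_zero]; exact S.one_mem
    have hmem := hh3 (-t) (neg_ne_zero.2 ht) (by rw [map_neg, hft])
    have hc := hJ_conj Δ [3] (by
      intro i hi
      apply simple_lt_E6
      simp only [List.mem_cons, List.not_mem_nil, or_false] at hi
      rcases hi with rfl
      decide) (fun _ => -t) (fun _ _ => neg_ne_zero.2 ht) (r := chevE6.simple 1) (by decide) 1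
    have e : (-(-t)⁻¹) ^ (-1 : ℤ) = t := by
      rw [zpow_neg, zpow_one, inv_neg, inv_inv, neg_neg]
    rw [chiJ_cons, chiJ_nil, a3, mul_one, mul_one, e] at hc
    have hc' : hJ (ctxE6 f hf).hB [3] (fun _ => -t) *
        xU (ctxE6 f hf).hB (chevE6.simple 1) 1 *
        (hJ (ctxE6 f hf).hB [3] (fun _ => -t))⁻¹ =
        xU (ctxE6 f hf).hB (chevE6.simple 1) t := hc
    rw [← hc']
    exact S.mul_mem (S.mul_mem hmem hx1) (S.inv_mem hmem)
  obtain ⟨hn1, hlongn2, -⟩ := long_mem f hf S hO1 hlong2 hxm2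
  -- (k) everything
  apply T.hgen_le S
  intro J hJ b a ha
  simp only [orbs_E6, List.mem_cons, List.not_mem_nil, or_false] at hJ
  rcases hJ with rfl | rfl | rfl | rfl
  · have hfa : f a = a := ha rfl
    cases b with
    | true =>
      have : wordU (ctxE6 f hf).hB (orbWord chevE6 (ctxE6 f hf).f true [1] a) =
          xU (ctxE6 f hf).hB (chevE6.simple 1) a := by
        simp [orbWord, Helper11.TwFix.wordU_cons', Helper11.TwFix.wordU_nil']
      rw [this]
      exact hlong2 a hfa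
    | false =>
      have : wordU (ctxE6 f hf).hB (orbWord chevE6 (ctxE6 f hf).f false [1] a) =
          xU (ctxE6 f hf).hB (chevE6.neg (chevE6.simple 1)) a := by
        simp [orbWord, Helper11.TwFix.wordU_cons', Helper11.TwFix.wordU_nil']
      rw [this]
      exact hlongn2 a hfa
  · have hfa : f a = a := ha rfl
    cases b with
    | true =>
      have : wordU (ctxE6 f hf).hB (orbWord chevE6 (ctxE6 f hf).f true [3] a) =
          xU (ctxE6 f hf).hB (chevE6.simple 3) a := by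
        simp [orbWord, Helper11.TwFix.wordU_cons', Helper11.TwFix.wordU_nil']
      rw [this]
      exact hlong4 a hfa
    | false =>
      have : wordU (ctxE6 f hf).hB (orbWord chevE6 (ctxE6 f hf).f false [3] a) =
          xU (ctxE6 f hf).hB (chevE6.neg (chevE6.simple 3)) a := by
        simp [orbWord, Helper11.TwFix.wordU_cons', Helper11.TwFix.wordU_nil']
      rw [this]
      exact hlongn4 a hfa
  · cases b with
    | true =>
      have := XP_eq_word f hf hO05 a
      change wordU (ctxE6 f hf).hB (orbWord chevE6 (ctxE6 f hf).f true [0, 5] a) = _ at this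
      rw [this]
      exact hp05 a
    | false =>
      have := XN_eq_word f hf hO05 a
      change wordU (ctxE6 f hf).hB (orbWord chevE6 (ctxE6 f hf).f false [0, 5] a) = _ at this
      rw [this]
      exact hn05 a
  · cases b with
    | true =>
      have := XP_eq_word f hf hO24 a
      change wordU (ctxE6 f hf).hB (orbWord chevE6 (ctxE6 f hf).f true [2, 4] a) = _ at this
      rw [this]
      exact hp24 a
    | false =>
      have := XN_eq_word f hf hO24 a
      change wordU (ctxE6 f hf).hB (orbWord chevE6 (ctxE6 f hf).f false [2, 4] a) = _ at this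
      rw [this]
      exact hn24 a

end assembly

end Cfsg.Agent.Helper12.TwGenE6
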