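import Mathlib
import Cfsg.Agent.Helper12.TwGenE6E

set_option autoImplicit false
set_option linter.unusedSectionVars false
set_option linter.unusedSimpArgs false
set_option linter.unusedVariables false

/-!
# `²E₆(q)` is generated by two elements: the final statement
-/

namespace Cfsg.Agent.Helper12.TwGenE6

open Cfsg Cfsg.Lie Cfsg.Agent.Helper6 Cfsg.Agent.Helper12.WCl Cfsg.Agent.Helper11.ChevOrbit
  Cfsg.Agent.Helper11.TwReach Cfsg.Agent.Helper11.TwBNA Cfsg.Agent.Helper12.TwoGen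
  Cfsg.Agent.Helper11.TwMain Cfsg.Agent.Helper11.TwBNMain Cfsg.Agent.Helper11.TwBND
  Cfsg.Agent.Helper11.TwCtx Cfsg.Agent.Helper11.TwTorA Cfsg.Agent.Helper11.TwBNC
  Cfsg.Agent.Helper12.TwGenD4

variable {K : Type*} [Field K] [Fintype K] {q : ℕ}

/-- powers of a generator of the unit group of a finite field -/
theorem pow_eq_one_iff_gen {ζ : Kˣ} (hζ : ∀ x : Kˣ, x ∈ Subgroup.zpowers ζ) (k : ℕ) :
    (ζ : K) ^ k = 1 ↔ (Fintype.card K - 1) ∣ k := by
  have hord : orderOf ζ = Fintype.card K - 1 := by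
    rw [orderOf_eq_card_of_forall_mem_zpowers hζ, Nat.card_units, Nat.card_eq_fintype_card]
  rw [← hord, orderOf_dvd_iff_pow_eq_one, ← Units.val_pow_eq_pow_val, Units.val_eq_one]

/-- the norm onto the fixed field is surjective -/
theorem exists_norm2 (hq : 2 ≤ q) (hK : Fintype.card K = q ^ 2) (f : K ≃+* K)
    (hfq : ∀ x, f x = x ^ q) (t : K) (ht : t ≠ 0) (hft : f t = t) :
    ∃ ν : K, ν ≠ 0 ∧ ν⁻¹ * (f ν)⁻¹ = t := by
  obtain ⟨ζ, hζ⟩ := IsCyclic.exists_generator (α := Kˣ)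
  have hgen : IsGen (ζ : K) := isGen_of_generator hζ
  have hζ0 : (ζ : K) ≠ 0 := ζ.ne_zero
  obtain ⟨j, hj⟩ := hgen t⁻¹ (inv_ne_zero ht)
  have h1 : ((ζ : K) ^ j) ^ q = (ζ : K) ^ j := by
    rw [hj, ← hfq, map_inv₀, hft]
  have h2 : (ζ : K) ^ (j * (q - 1)) = 1 := by
    have e : j * q = j * (q - 1) + j := by
      obtain ⟨k, rfl⟩ : ∃ k, q = k + 1 := ⟨q - 1, by omega⟩
      simp only [Nat.add_sub_cancel]
      ring
    rw [← pow_mul, e, pow_add] at h1
    exact (mul_eq_right₀ (pow_ne_zero _ hζ0)).1 h1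
  have h3 := (pow_eq_one_iff_gen hζ _).1 h2
  have e1 : Fintype.card K - 1 = (q - 1) * (q + 1) := by
    rw [hK]
    obtain ⟨k, rfl⟩ : ∃ k, q = k + 1 := ⟨q - 1, by omega⟩
    simp only [Nat.add_sub_cancel]
    have : (k + 1) ^ 2 = k * (k + 1 + 1) + 1 := by ring
    omega
  rw [e1, mul_comm j] at h3
  have h4 : (q + 1) ∣ j := Nat.dvd_of_mul_dvd_mul_left (by omega) h3
  obtain ⟨j', rfl⟩ := h4
  refine ⟨(ζ : K) ^ j', pow_ne_zero _ hζ0, ?_⟩
  have : ((ζ : K) ^ j')⁻¹ * (f ((ζ : K) ^ j'))⁻¹ = ((ζ : K) ^ ((q + 1) * j'))⁻¹ := by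
    rw [hfq, ← mul_inv]
    congr 1
    ring
  rw [this, hj, inv_inv]

/-- **`²E₆(q)` is generated by two elements**, at the level of `GL` -/
theorem exists_two_gen_GL (hq : IsPrimePow q) (hK : Fintype.card K = q ^ 2) :
    ∃ A B : GL chevE6.Idx K, A ∈ twistedE6 K q ∧ B ∈ twistedE6 K q ∧
      twistedE6 K q ≤ Subgroup.closure ({A, B} : Set (GL chevE6.Idx K)) := by
  have hq2 : 2 ≤ q := hq.two_le
  obtain ⟨f, hfq⟩ := Helper11.TwField.exists_frob hq (by norm_num) hK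
  have hf : ∀ x, f (f x) = x := fun x => Helper11.TwField.frob_iterate hK f hfq x
  have T := twData_E6 f hfq hf
  obtain ⟨ζ, hζ⟩ := IsCyclic.exists_generator (α := Kˣ)
  have hgen : IsGen (ζ : K) := isGen_of_generator hζ
  have hζ0 : (ζ : K) ≠ 0 := ζ.ne_zero
  have hex : ∃ t : K, t ≠ 0 ∧ t ≠ 1 := by
    apply exists_ne_zero_ne_one
    rw [hK]
    calc 2 < 2 ^ 2 := by norm_num
      _ ≤ q ^ 2 := Nat.pow_le_pow_left hq2 2
  have hζ1 : (ζ : K) ≠ 1 := hgen.ne_one hex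
  have hfl : f (ζ : K) ≠ 1 := by
    intro e
    apply hζ1
    have : f (ζ : K) = f 1 := by rw [e, map_one]
    exact f.injective this
  have hnorm := fun t ht hft => exists_norm2 hq2 hK f hfq t ht hft
  have hl' : -(ζ : K)⁻¹ ≠ 0 := neg_ne_zero.2 (inv_ne_zero hζ0)
  -- membership
  have h1mem : xU (ctxE6 f hf).hB (chevE6.simple 1) (1 : K) ∈ twistedE6 K q := by
    have := T.hgen_mem [1] (by simp [orbs_E6]) true 1 (fun _ => map_one _)
    have e : wordU (ctxE6 f hf).hB (orbWord chevE6 (ctxE6 f hf).f true [1] 1) =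
        xU (ctxE6 f hf).hB (chevE6.simple 1) (1 : K) := by
      simp [orbWord, Helper11.TwFix.wordU_cons', Helper11.TwFix.wordU_nil']
    rwa [e] at this
  have htor : torE f hf (ζ : K) ∈ twistedE6 K q := by
    unfold torE
    obtain ⟨e1, e2⟩ := orbFun_val2 f ne05 (-(ζ : K)⁻¹)
    apply hJ_orbFun_mem T (by simp [orbs_E6]) hl' (by simp)
    intro i hi
    simp only [List.mem_cons, List.not_mem_nil, or_false] at hi
    rcases hi with rfl | rfl
    · erw [e1]; exact hl'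
    · erw [e2]; exact (map_ne_zero f).2 hl'
  have hXP : XP f hf 2 4 1 ∈ twistedE6 K q := by
    have := T.hgen_mem [2, 4] (by simp [orbs_E6]) true 1 (by simp)
    have e := XP_eq_word f hf (orbOK_24 f hf) 1
    change wordU (ctxE6 f hf).hB (orbWord chevE6 (ctxE6 f hf).f true [2, 4] 1) = _ at e
    rwa [e] at this
  have hnE : nE f hf ∈ twistedE6 K q := by
    rw [nE_eq]
    exact Subgroup.mul_mem _ (Subgroup.mul_mem _ (Subgroup.mul_mem _
      (nJ_mem T (by simp [orbs_E6])) (nJ_mem T (by simp [orbs_E6])))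
      (nJ_mem T (by simp [orbs_E6]))) (nJ_mem T (by simp [orbs_E6]))
  refine ⟨torE f hf (ζ : K) * xU (ctxE6 f hf).hB (chevE6.simple 1) 1, XP f hf 2 4 1 * nE f hf,
    Subgroup.mul_mem _ htor h1mem, Subgroup.mul_mem _ hXP hnE, ?_⟩
  exact le_of_mem f hf hfq _ hζ0 (hgen.inv hζ0) hfl hex hnorm (Subgroup.subset_closure (by simp))
    (Subgroup.subset_closure (by simp))

/-- **`²E₆(q)` is generated by two elements** -/
theorem exists_two_gen (hq : IsPrimePow q) (hK : Fintype.card K = q ^ 2) :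
    ∃ a b : ↥(twistedE6 K q), Subgroup.closure ({a, b} : Set ↥(twistedE6 K q)) = ⊤ := by
  obtain ⟨A, B, hA, hB, hle⟩ := exists_two_gen_GL hq hK
  exact ⟨⟨A, hA⟩, ⟨B, hB⟩, closure_subtype_eq_top _ hA hB hle⟩

end Cfsg.Agent.Helper12.TwGenE6
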