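import Mathlib
import Cfsg.Agent.Helper11.TwF4Core
import Cfsg.Agent.Helper11.TwF4TorD
import Cfsg.Agent.Helper12.TwGenD4A

set_option autoImplicit false
set_option linter.unusedSectionVars false
set_option linter.unusedSimpArgs false
set_option linter.unusedVariables false

/-!
# Two generators of `²F₄(q)`: general lemmas in characteristic 2

Conjugation of root elements by words in the reflections and by torus elements; the
multiplication of the elements of the root groups of type `B₂`.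
-/

namespace Cfsg.Agent.Helper12.TwGenF4

open Cfsg Cfsg.Lie Cfsg.Agent.Helper6 Cfsg.Agent.Helper11.FixBN Cfsg.Agent.Helper11.TwF4
  Cfsg.Agent.Helper12.TwoGen

variable {K : Type*} [Field K]

theorem two_eq_zero [CharP K 2] : (2 : K) = 0 := by
  have := CharP.cast_eq_zero K 2
  exact_mod_cast this

theorem eq_one_of_sq [CharP K 2] {c : K} (h : c * c = 1) : c = 1 := by
  have h2 : (2 : K) = 0 := two_eq_zero
  have h3 : (c - 1) * (c - 1) = 0 := by linear_combination h + (1 - c) * h2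
  have h4 : c - 1 = 0 := by
    rcases mul_eq_zero.1 h3 with h | h <;> exact h
  exact sub_eq_zero.1 h4

/-- conjugation by a word in the reflections, in characteristic 2 -/
theorem nWr_conj2 [CharP K 2] {L : List ℕ} (hL : ∀ j ∈ L, j < chevF4.rank) {r : ℕ}
    (hr : r < chevF4.nroots) (t : K) :
    nWr hBF4 K L * xU hBF4 r t * (nWr hBF4 K L)⁻¹ = xU hBF4 (wFr chevF4 L r) t := by
  obtain ⟨c, hc, h⟩ := (bnF4 (K := K)).nWr_conj hL hr
  rw [h, eq_one_of_sq hc, one_mul]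

/-- conjugation by a torus element -/
theorem tor4_conj (a b c d : Kˣ) {r : ℕ} (hr : r < chevF4.nroots) (x : K) :
    tor4 a b c d * xU hBF4 r x * (tor4 a b c d)⁻¹ =
      xU hBF4 r ((a : K) ^ chevF4.cartan 0 r * (b : K) ^ chevF4.cartan 1 r *
        (c : K) ^ chevF4.cartan 2 r * (d : K) ^ chevF4.cartan 3 r * x) := by
  have h := Helper2.Tw.conj_tor (bnF4 (K := K)) (extPar_ne_zero (vec4 a b c d))
    (torHom_val (D := chevF4) (F := K) (vec4 a b c d)) hr x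
  rw [torChar_vec4] at h
  exact h

/-- root elements whose commutator has an even coefficient commute -/
theorem xU_commute_even [CharP K 2] {r s x : ℕ} {c : ℤ} {i j : ℕ} (hr : r < chevF4.nroots)
    (hs : s < chevF4.nroots) (h1 : s ≠ r) (h2 : s ≠ chevF4.neg r)
    (hc : chevF4.commTerms r s = [(x, c, i, j)]) (hev : Even c) (t u : K) :
    Commute (xU hBF4 r t) (xU hBF4 s u) := by
  have h := (bnF4 (K := K)).hC r hr s hs h1 h2 t u
  have hc0 : ((c : ℤ) : K) = 0 := by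
    obtain ⟨k, rfl⟩ := hev
    push_cast
    have h2 : (2 : K) = 0 := two_eq_zero
    linear_combination (k : K) * h2
  unfold Commute SemiconjBy
  apply Units.ext
  rw [Units.val_mul, Units.val_mul, xU_val, xU_val, h]
  unfold ChevalleyDatum.commWord
  rw [hc]
  have e : chevF4.x K x 0 = 1 := by
    rw [← xU_val hBF4 x (0 : K), xU_zero]
    rfl
  simp [ChevalleyDatum.wordMat, hc0, e]

/-! ### Multiplication in the root groups of type `B₂` -/

/-- the additional commutation data of a class of type `B₂` -/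
structure B2Ext (a b ab aab : ℕ) : Prop where
  cls : B2Cls a b ab aab
  n1 : ab ≠ a
  n2 : ab ≠ chevF4.neg a
  n3 : ab ≠ b
  n4 : ab ≠ chevF4.neg b
  n5 : aab ≠ a
  n6 : aab ≠ chevF4.neg a
  n7 : aab ≠ b
  n8 : aab ≠ chevF4.neg b
  c1 : ∃ c : ℤ, chevF4.commTerms a ab = [(aab, c, 1, 1)] ∧ Even c
  c2 : chevF4.commTerms b ab = []
  c3 : chevF4.commTerms a aab = []
  c4 : chevF4.commTerms b aab = []

theorem b2Ext_pos : B2Ext f4a f4b f4ab f4aab where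
  cls := b2Cls_pos
  n1 := by decide
  n2 := by decide +kernel
  n3 := by decide
  n4 := by decide +kernel
  n5 := by decide
  n6 := by decide +kernel
  n7 := by decide
  n8 := by decide +kernel
  c1 := ⟨2, by decide +kernel, by decide⟩
  c2 := by decide +kernel
  c3 := by decide +kernel
  c4 := by decide +kernel

theorem b2Ext_neg : B2Ext f4ma f4mb f4mab f4maab where
  cls := b2Cls_neg
  n1 := by decide
  n2 := by decide +kernel
  n3 := by decide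
  n4 := by decide +kernel
  n5 := by decide
  n6 := by decide +kernel
  n7 := by decide
  n8 := by decide +kernel
  c1 := ⟨-2, by decide +kernel, by decide⟩
  c2 := by decide +kernel
  c3 := by decide +kernel
  c4 := by decide +kernel

section b2

variable [CharP K 2] {a b ab aab : ℕ} (h : B2Ext a b ab aab)
include h

theorem comm_a_ab (s t : K) : Commute (xU hBF4 a s) (xU hBF4 ab t) := by
  obtain ⟨c, hc, hev⟩ := h.c1
  exact xU_commute_even h.cls.ha h.cls.hab h.n1 h.n2 hc hev s t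

theorem comm_b_ab (s t : K) : Commute (xU hBF4 b s) (xU hBF4 ab t) :=
  xU_commute h.cls.hb h.cls.hab h.n3 h.n4 h.c2 s t

theorem comm_a_aab (s t : K) : Commute (xU hBF4 a s) (xU hBF4 aab t) :=
  xU_commute h.cls.ha h.cls.haab h.n5 h.n6 h.c3 s t

theorem comm_b_aab (s t : K) : Commute (xU hBF4 b s) (xU hBF4 aab t) :=
  xU_commute h.cls.hb h.cls.haab h.n7 h.n8 h.c4 s t

theorem comm_ab_aab (s t : K) : Commute (xU hBF4 ab s) (xU hBF4 aab t) :=
  (b2_comm2 h.cls t s).symm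

/-- the product of two elements of the root group of type `B₂` -/
theorem W4_mul (t₁ t₂ t₃ t₄ s₁ s₂ s₃ s₄ : K) :
    W4 a b ab aab t₁ t₂ t₃ t₄ * W4 a b ab aab s₁ s₂ s₃ s₄ =
      W4 a b ab aab (t₁ + s₁) (t₂ + s₂) (t₃ + s₃ + s₁ * t₂) (t₄ + s₄ + s₁ ^ 2 * t₂) := by
  unfold W4
  have A1 := comm_a_ab (K := K) h
  have A2 := comm_b_ab (K := K) h
  have A3 := comm_a_aab (K := K) h
  have A4 := comm_b_aab (K := K) h
  have A5 := comm_ab_aab (K := K) h
  have B1 := b2_comm1 (K := K) h.cls s₁ t₂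
  -- the two central factors commute with everything
  have Z3 : ∀ (u : K) (g : GL chevF4.Idx K), (∃ v, g = xU hBF4 a v) ∨ (∃ v, g = xU hBF4 b v) ∨
      (∃ v, g = xU hBF4 ab v) ∨ (∃ v, g = xU hBF4 aab v) → Commute (xU hBF4 ab u) g := by
    rintro u g (⟨v, rfl⟩ | ⟨v, rfl⟩ | ⟨v, rfl⟩ | ⟨v, rfl⟩)
    · exact (A1 v u).symm
    · exact (A2 v u).symm
    · unfold Commute SemiconjBy; rw [xU_mul, xU_mul, add_comm]
    · exact A5 u v
  have Z4 : ∀ (u : K) (g : GL chevF4.Idx K), (∃ v, g = xU hBF4 a v) ∨ (∃ v, g = xU hBF4 b v) ∨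
      (∃ v, g = xU hBF4 ab v) ∨ (∃ v, g = xU hBF4 aab v) → Commute (xU hBF4 aab u) g := by
    rintro u g (⟨v, rfl⟩ | ⟨v, rfl⟩ | ⟨v, rfl⟩ | ⟨v, rfl⟩)
    · exact (A3 v u).symm
    · exact (A4 v u).symm
    · exact (A5 v u).symm
    · unfold Commute SemiconjBy; rw [xU_mul, xU_mul, add_comm]
  have Pa : ∀ v : K, (∃ w : K, xU hBF4 a v = xU hBF4 a w) ∨ (∃ w, xU hBF4 a v = xU hBF4 b w) ∨
      (∃ w, xU hBF4 a v = xU hBF4 ab w) ∨ (∃ w, xU hBF4 a v = xU hBF4 aab w) :=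
    fun v => Or.inl ⟨v, rfl⟩
  have Pb : ∀ v : K, (∃ w : K, xU hBF4 b v = xU hBF4 a w) ∨ (∃ w, xU hBF4 b v = xU hBF4 b w) ∨
      (∃ w, xU hBF4 b v = xU hBF4 ab w) ∨ (∃ w, xU hBF4 b v = xU hBF4 aab w) :=
    fun v => Or.inr (Or.inl ⟨v, rfl⟩)
  have Pab : ∀ v : K, (∃ w : K, xU hBF4 ab v = xU hBF4 a w) ∨ (∃ w, xU hBF4 ab v = xU hBF4 b w) ∨
      (∃ w, xU hBF4 ab v = xU hBF4 ab w) ∨ (∃ w, xU hBF4 ab v = xU hBF4 aab w) :=
    fun v => Or.inr (Or.inr (Or.inl ⟨v, rfl⟩))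
  -- move the central factors of the first element to the right
  have e1 : xU hBF4 a t₁ * xU hBF4 b t₂ * xU hBF4 ab t₃ * xU hBF4 aab t₄ *
      (xU hBF4 a s₁ * xU hBF4 b s₂ * xU hBF4 ab s₃ * xU hBF4 aab s₄) =
      xU hBF4 a t₁ * (xU hBF4 b t₂ * xU hBF4 a s₁) * xU hBF4 b s₂ *
        (xU hBF4 ab t₃ * xU hBF4 ab s₃) * (xU hBF4 aab t₄ * xU hBF4 aab s₄) := by
    have c1 : Commute (xU hBF4 aab t₄) (xU hBF4 a s₁ * xU hBF4 b s₂ * xU hBF4 ab s₃) :=
      ((Z4 t₄ _ (Pa s₁)).mul_right (Z4 t₄ _ (Pb s₂))).mul_right (Z4 t₄ _ (Pab s₃))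
    have c2 : Commute (xU hBF4 ab t₃) (xU hBF4 a s₁ * xU hBF4 b s₂) :=
      (Z3 t₃ _ (Pa s₁)).mul_right (Z3 t₃ _ (Pb s₂))
    calc xU hBF4 a t₁ * xU hBF4 b t₂ * xU hBF4 ab t₃ * xU hBF4 aab t₄ *
          (xU hBF4 a s₁ * xU hBF4 b s₂ * xU hBF4 ab s₃ * xU hBF4 aab s₄)
        = xU hBF4 a t₁ * xU hBF4 b t₂ * xU hBF4 ab t₃ *
          (xU hBF4 aab t₄ * (xU hBF4 a s₁ * xU hBF4 b s₂ * xU hBF4 ab s₃)) * xU hBF4 aab s₄ := by
          group
      _ = xU hBF4 a t₁ * xU hBF4 b t₂ * (xU hBF4 ab t₃ * (xU hBF4 a s₁ * xU hBF4 b s₂)) *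
          xU hBF4 ab s₃ * xU hBF4 aab t₄ * xU hBF4 aab s₄ := by rw [c1.eq]; group
      _ = _ := by rw [c2.eq]; group
  rw [e1, B1, xU_mul, xU_mul]
  have c3 : Commute (xU hBF4 ab (s₁ * t₂) * xU hBF4 aab (s₁ ^ 2 * t₂)) (xU hBF4 b s₂) :=
    (Z3 _ _ (Pb s₂)).mul_left (Z4 _ _ (Pb s₂))
  have c4 : Commute (xU hBF4 aab (s₁ ^ 2 * t₂)) (xU hBF4 ab (t₃ + s₃)) :=
    Z4 _ _ (Pab _)
  calc xU hBF4 a t₁ * (xU hBF4 a s₁ * xU hBF4 b t₂ * xU hBF4 ab (s₁ * t₂) *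
        xU hBF4 aab (s₁ ^ 2 * t₂)) * xU hBF4 b s₂ * xU hBF4 ab (t₃ + s₃) * xU hBF4 aab (t₄ + s₄)
      = xU hBF4 a t₁ * xU hBF4 a s₁ * xU hBF4 b t₂ *
          ((xU hBF4 ab (s₁ * t₂) * xU hBF4 aab (s₁ ^ 2 * t₂)) * xU hBF4 b s₂) *
          xU hBF4 ab (t₃ + s₃) * xU hBF4 aab (t₄ + s₄) := by group
    _ = xU hBF4 a t₁ * xU hBF4 a s₁ * (xU hBF4 b t₂ * xU hBF4 b s₂) * xU hBF4 ab (s₁ * t₂) *
          (xU hBF4 aab (s₁ ^ 2 * t₂) * xU hBF4 ab (t₃ + s₃)) * xU hBF4 aab (t₄ + s₄) := by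
        rw [c3.eq]; group
    _ = xU hBF4 a t₁ * xU hBF4 a s₁ * (xU hBF4 b t₂ * xU hBF4 b s₂) *
          (xU hBF4 ab (s₁ * t₂) * xU hBF4 ab (t₃ + s₃)) *
          (xU hBF4 aab (s₁ ^ 2 * t₂) * xU hBF4 aab (t₄ + s₄)) := by
        rw [c4.eq]; group
    _ = _ := by
        rw [xU_mul, xU_mul, xU_mul, xU_mul, add_comm (s₁ * t₂), add_comm (s₁ ^ 2 * t₂)]

end b2

end Cfsg.Agent.Helper12.TwGenF4
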