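import Mathlib
import Cfsg.Agent.Helper12.TwGenF4A

set_option autoImplicit false
set_option linter.unusedSectionVars false
set_option linter.unusedSimpArgs false
set_option linter.unusedVariables false

/-!
# Two generators of `²F₄(q)`: the generators of the twisted root groups

The multiplication of the generators of the two kinds of twisted root groups and their conjugates
under torus elements.
-/

namespace Cfsg.Agent.Helper12.TwGenF4

open Cfsg Cfsg.Lie Cfsg.Agent.Helper6 Cfsg.Agent.Helper11.FixBN Cfsg.Agent.Helper11.TwF4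
  Cfsg.Agent.Helper12.TwoGen

variable {K : Type*} [Field K]

section gens

variable [CharP K 2] {θ : ℕ} (hfrob : ∀ t : K, t ^ (2 * θ * θ) = t)
  (haddθ : ∀ x y : K, (x + y) ^ θ = x ^ θ + y ^ θ)

include haddθ in
theorem add_pow_two_theta (x y : K) : (x + y) ^ (2 * θ) = x ^ (2 * θ) + y ^ (2 * θ) := by
  have h2 : (2 : K) = 0 := two_eq_zero
  rw [mul_comm, pow_mul, pow_mul, pow_mul, haddθ]
  linear_combination (x ^ θ * y ^ θ) * h2

include haddθ in
/-- the generators of a class of type `A₁ × A₁` multiply additively -/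
theorem pairGen_mul {r rb : ℕ} (hp : PairCls r rb) (x y : K) :
    pairGen θ r rb x * pairGen θ r rb y = pairGen θ r rb (x + y) := by
  unfold pairGen
  have hc := pair_comm (K := K) hp (y ^ θ) x
  calc xU hBF4 r (x ^ θ) * xU hBF4 rb x * (xU hBF4 r (y ^ θ) * xU hBF4 rb y)
      = xU hBF4 r (x ^ θ) * (xU hBF4 rb x * xU hBF4 r (y ^ θ)) * xU hBF4 rb y := by group
    _ = xU hBF4 r (x ^ θ) * xU hBF4 r (y ^ θ) * (xU hBF4 rb x * xU hBF4 rb y) := by
        rw [hc]; group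
    _ = _ := by rw [xU_mul, xU_mul, haddθ]

/-- conjugation of the generators of a class of type `A₁ × A₁` by an element acting through
compatible scalars -/
theorem conj_pairGen {g : GL chevF4.Idx K} {r rb : ℕ} {c cb : K}
    (h1 : ∀ t : K, g * xU hBF4 r t * g⁻¹ = xU hBF4 r (c * t))
    (h2 : ∀ t : K, g * xU hBF4 rb t * g⁻¹ = xU hBF4 rb (cb * t)) (hc : c = cb ^ θ) (x : K) :
    g * pairGen θ r rb x * g⁻¹ = pairGen θ r rb (cb * x) := by
  unfold pairGen
  have e : g * (xU hBF4 r (x ^ θ) * xU hBF4 rb x) * g⁻¹ =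
      (g * xU hBF4 r (x ^ θ) * g⁻¹) * (g * xU hBF4 rb x * g⁻¹) := by group
  rw [e, h1, h2, hc, mul_pow]

/-- conjugation of the generators of a class by an element permuting the root groups -/
theorem conj_pairGen' {g : GL chevF4.Idx K} {r rb r' rb' : ℕ}
    (h1 : ∀ t : K, g * xU hBF4 r t * g⁻¹ = xU hBF4 r' t)
    (h2 : ∀ t : K, g * xU hBF4 rb t * g⁻¹ = xU hBF4 rb' t) (x : K) :
    g * pairGen θ r rb x * g⁻¹ = pairGen θ r' rb' x := by
  unfold pairGen
  have e : g * (xU hBF4 r (x ^ θ) * xU hBF4 rb x) * g⁻¹ =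
      (g * xU hBF4 r (x ^ θ) * g⁻¹) * (g * xU hBF4 rb x * g⁻¹) := by group
  rw [e, h1, h2]

/-- conjugation of a product over a class of type `B₂` -/
theorem conj_W4 {g : GL chevF4.Idx K} {a b ab aab a' b' ab' aab' : ℕ} {c₁ c₂ c₃ c₄ : K}
    (h1 : ∀ t : K, g * xU hBF4 a t * g⁻¹ = xU hBF4 a' (c₁ * t))
    (h2 : ∀ t : K, g * xU hBF4 b t * g⁻¹ = xU hBF4 b' (c₂ * t))
    (h3 : ∀ t : K, g * xU hBF4 ab t * g⁻¹ = xU hBF4 ab' (c₃ * t))
    (h4 : ∀ t : K, g * xU hBF4 aab t * g⁻¹ = xU hBF4 aab' (c₄ * t)) (t₁ t₂ t₃ t₄ : K) :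
    g * W4 a b ab aab t₁ t₂ t₃ t₄ * g⁻¹ =
      W4 a' b' ab' aab' (c₁ * t₁) (c₂ * t₂) (c₃ * t₃) (c₄ * t₄) := by
  unfold W4
  have e : g * (xU hBF4 a t₁ * xU hBF4 b t₂ * xU hBF4 ab t₃ * xU hBF4 aab t₄) * g⁻¹ =
      (g * xU hBF4 a t₁ * g⁻¹) * (g * xU hBF4 b t₂ * g⁻¹) * (g * xU hBF4 ab t₃ * g⁻¹) *
        (g * xU hBF4 aab t₄ * g⁻¹) := by group
  rw [e, h1, h2, h3, h4]

include hfrob haddθ in
/-- the product of two generators of a class of type `B₂` -/
theorem b2Gen_mul {a b ab aab : ℕ} (h : B2Ext a b ab aab) (x u y v : K) :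
    b2Gen θ a b ab aab x u * b2Gen θ a b ab aab y v =
      b2Gen θ a b ab aab (x + y) (u + v + x ^ θ * y) := by
  have h2 : (2 : K) = 0 := two_eq_zero
  unfold b2Gen
  rw [W4_mul h]
  have e1 : x ^ θ + y ^ θ = (x + y) ^ θ := (haddθ x y).symm
  have e3 : x ^ (θ + 1) + u + (y ^ (θ + 1) + v) + y ^ θ * x =
      (x + y) ^ (θ + 1) + (u + v + x ^ θ * y) := by
    rw [pow_succ (x + y), haddθ, pow_succ, pow_succ]
    linear_combination (-(x ^ θ * y)) * h2
  have e4 : u ^ (2 * θ) + v ^ (2 * θ) + (y ^ θ) ^ 2 * x = (u + v + x ^ θ * y) ^ (2 * θ) := by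
    rw [add_pow_two_theta haddθ, add_pow_two_theta haddθ, mul_pow, frob_pow hfrob, ← pow_mul,
      mul_comm θ 2]
    ring
  rw [e1, e3, e4]

end gens

end Cfsg.Agent.Helper12.TwGenF4
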