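import Mathlib
import Cfsg.Agent.Helper12.TwGenF4B

set_option autoImplicit false
set_option linter.unusedSectionVars false
set_option linter.unusedSimpArgs false
set_option linter.unusedVariables false

/-!
# Two generators of `²F₄(q)`: the torus element and the twisted Coxeter element
-/

namespace Cfsg.Agent.Helper12.TwGenF4

open Cfsg Cfsg.Lie Cfsg.Agent.Helper6 Cfsg.Agent.Helper11.FixBN Cfsg.Agent.Helper11.TwF4
  Cfsg.Agent.Helper12.TwoGen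

variable {K : Type*} [Field K]

/-- the torus element centralising the root group of type `B₂` -/
noncomputable def hT (θ : ℕ) (t : Kˣ) : GL chevF4.Idx K :=
  tor4 (t ^ (2 * (θ : ℤ) - 1)) (t ^ θ) t (t ^ (2 - 2 * (θ : ℤ)))

/-- the character of `hT` -/
def chiT (θ : ℕ) (t : Kˣ) (r : ℕ) : Kˣ :=
  t ^ ((2 * (θ : ℤ) - 1) * chevF4.cartan 0 r + (θ : ℤ) * chevF4.cartan 1 r + chevF4.cartan 2 r +
    (2 - 2 * (θ : ℤ)) * chevF4.cartan 3 r)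

theorem hT_conj (θ : ℕ) (t : Kˣ) {r : ℕ} (hr : r < chevF4.nroots) (x : K) :
    hT θ t * xU hBF4 r x * (hT θ t)⁻¹ = xU hBF4 r ((chiT θ t r : K) * x) := by
  unfold hT
  rw [tor4_conj _ _ _ _ hr]
  congr 2
  unfold chiT
  rw [zpow_add, zpow_add, zpow_add, zpow_mul, zpow_mul, zpow_mul, zpow_natCast]
  simp only [Units.val_mul, Units.val_zpow_eq_zpow_val]

theorem hT_inv_conj (θ : ℕ) (t : Kˣ) {r : ℕ} (hr : r < chevF4.nroots) (x : K) :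
    (hT θ t)⁻¹ * xU hBF4 r x * ((hT θ t)⁻¹)⁻¹ = xU hBF4 r (((chiT θ t r)⁻¹ : Kˣ) * x) := by
  have h := hT_conj θ t hr ((((chiT θ t r)⁻¹ : Kˣ) : K) * x)
  rw [← mul_assoc, ← Units.val_mul, mul_inv_cancel, Units.val_one, one_mul] at h
  rw [← h]
  group

theorem hT_mem_diagonal (θ : ℕ) (t : Kˣ) : hT θ t ∈ chevF4.diagonalSubgroup K :=
  tor4_mem_diagonal _ _ _ _

theorem cartan_vals :
    (chevF4.cartan 0 33 = 2 ∧ chevF4.cartan 1 33 = -1 ∧ chevF4.cartan 2 33 = 0 ∧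
      chevF4.cartan 3 33 = 0) ∧
    (chevF4.cartan 0 24 = 0 ∧ chevF4.cartan 1 24 = 0 ∧ chevF4.cartan 2 24 = -1 ∧
      chevF4.cartan 3 24 = 2) ∧
    (chevF4.cartan 0 27 = -1 ∧ chevF4.cartan 1 27 = 2 ∧ chevF4.cartan 2 27 = -1 ∧
      chevF4.cartan 3 27 = 0) ∧
    (chevF4.cartan 0 25 = 0 ∧ chevF4.cartan 1 25 = -2 ∧ chevF4.cartan 2 25 = 2 ∧
      chevF4.cartan 3 25 = -1) ∧
    (chevF4.cartan 0 28 = -1 ∧ chevF4.cartan 1 28 = 0 ∧ chevF4.cartan 2 28 = 1 ∧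
      chevF4.cartan 3 28 = -1) ∧
    (chevF4.cartan 0 30 = -2 ∧ chevF4.cartan 1 30 = 2 ∧ chevF4.cartan 2 30 = 0 ∧
      chevF4.cartan 3 30 = -1) ∧
    (chevF4.cartan 0 10 = 0 ∧ chevF4.cartan 1 10 = -1 ∧ chevF4.cartan 2 10 = 0 ∧
      chevF4.cartan 3 10 = 1) ∧
    (chevF4.cartan 0 15 = 2 ∧ chevF4.cartan 1 15 = 0 ∧ chevF4.cartan 2 15 = -1 ∧
      chevF4.cartan 3 15 = 0) := by decide +kernel

theorem chiT_33 (θ : ℕ) (t : Kˣ) : chiT θ t 33 = t ^ (3 * (θ : ℤ) - 2) := by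
  obtain ⟨⟨e0, e1, e2, e3⟩, -⟩ := cartan_vals
  unfold chiT; rw [e0, e1, e2, e3]; congr 1; ring

theorem chiT_24 (θ : ℕ) (t : Kˣ) : chiT θ t 24 = t ^ (3 - 4 * (θ : ℤ)) := by
  obtain ⟨-, ⟨e0, e1, e2, e3⟩, -⟩ := cartan_vals
  unfold chiT; rw [e0, e1, e2, e3]; congr 1; ring

theorem chiT_27 (θ : ℕ) (t : Kˣ) : chiT θ t 27 = 1 := by
  obtain ⟨-, -, ⟨e0, e1, e2, e3⟩, -⟩ := cartan_vals
  unfold chiT; rw [e0, e1, e2, e3]
  rw [show (2 * (θ : ℤ) - 1) * -1 + (θ : ℤ) * 2 + -1 + (2 - 2 * (θ : ℤ)) * 0 = 0 by ring, zpow_zero]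

theorem chiT_25 (θ : ℕ) (t : Kˣ) : chiT θ t 25 = 1 := by
  obtain ⟨-, -, -, ⟨e0, e1, e2, e3⟩, -⟩ := cartan_vals
  unfold chiT; rw [e0, e1, e2, e3]
  rw [show (2 * (θ : ℤ) - 1) * 0 + (θ : ℤ) * -2 + 2 + (2 - 2 * (θ : ℤ)) * -1 = 0 by ring, zpow_zero]

theorem chiT_28 (θ : ℕ) (t : Kˣ) : chiT θ t 28 = 1 := by
  obtain ⟨-, -, -, -, ⟨e0, e1, e2, e3⟩, -⟩ := cartan_vals
  unfold chiT; rw [e0, e1, e2, e3]
  rw [show (2 * (θ : ℤ) - 1) * -1 + (θ : ℤ) * 0 + 1 + (2 - 2 * (θ : ℤ)) * -1 = 0 by ring, zpow_zero]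

theorem chiT_30 (θ : ℕ) (t : Kˣ) : chiT θ t 30 = 1 := by
  obtain ⟨-, -, -, -, -, ⟨e0, e1, e2, e3⟩, -⟩ := cartan_vals
  unfold chiT; rw [e0, e1, e2, e3]
  rw [show (2 * (θ : ℤ) - 1) * -2 + (θ : ℤ) * 2 + 0 + (2 - 2 * (θ : ℤ)) * -1 = 0 by ring, zpow_zero]

theorem chiT_10 (θ : ℕ) (t : Kˣ) : (chiT θ t 10)⁻¹ = t ^ (3 * (θ : ℤ) - 2) := by
  obtain ⟨-, -, -, -, -, -, ⟨e0, e1, e2, e3⟩, -⟩ := cartan_vals
  unfold chiT; rw [e0, e1, e2, e3, ← zpow_neg]; congr 1; ring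

theorem chiT_15 (θ : ℕ) (t : Kˣ) : (chiT θ t 15)⁻¹ = t ^ (3 - 4 * (θ : ℤ)) := by
  obtain ⟨-, -, -, -, -, -, -, ⟨e0, e1, e2, e3⟩⟩ := cartan_vals
  unfold chiT; rw [e0, e1, e2, e3, ← zpow_neg]; congr 1; ring

/-- the twisted Coxeter word -/
def cox : List ℕ := [2, 1, 2, 1, 3, 0]

theorem cox_lt : ∀ j ∈ cox, j < chevF4.rank := by decide

/-- the representative of the twisted Coxeter element -/
noncomputable def nC (K : Type*) [Field K] : GL chevF4.Idx K := nWr hBF4 K cox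

theorem nC_eq : nC K = nWr hBF4 K (orbW 0) * nWr hBF4 K (orbW 1) := by
  have e : cox = orbW 1 ++ orbW 0 := by decide
  unfold nC
  rw [e, nWr_append]

theorem nC_mem_normalizer :
    nC K ∈ Subgroup.normalizer (chevF4.diagonalSubgroup K : Set (GL chevF4.Idx K)) := by
  have Δ := bnF4 (K := K)
  exact monomial_le_normalizer Δ.hB Δ.hAll Δ.hH Δ.hReach (Δ.nWr_mem_monomial cox_lt)

theorem cox_vals : wFr chevF4 cox 10 = 33 ∧ wFr chevF4 cox 15 = 24 := by decide +kernel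

theorem nC_conj_10 [CharP K 2] (t : K) : nC K * xU hBF4 10 t * (nC K)⁻¹ = xU hBF4 33 t := by
  unfold nC
  rw [nWr_conj2 cox_lt (by decide), cox_vals.1]

theorem nC_conj_15 [CharP K 2] (t : K) : nC K * xU hBF4 15 t * (nC K)⁻¹ = xU hBF4 24 t := by
  unfold nC
  rw [nWr_conj2 cox_lt (by decide), cox_vals.2]

end Cfsg.Agent.Helper12.TwGenF4
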