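import Mathlib
import Cfsg.Agent.Helper12.TwGenF4C

set_option autoImplicit false
set_option linter.unusedSectionVars false
set_option linter.unusedSimpArgs false
set_option linter.unusedVariables false

/-!
# Two generators of `²F₄(q)`: the double commutator
-/

namespace Cfsg.Agent.Helper12.TwGenF4

open Cfsg Cfsg.Lie Cfsg.Agent.Helper6 Cfsg.Agent.Helper11.FixBN Cfsg.Agent.Helper11.TwF4
  Cfsg.Agent.Helper12.TwoGen

variable {K : Type*} [Field K]

/-- the elements of the twisted root group of type `A₁ × A₁` -/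
noncomputable def XA (θ : ℕ) (x : K) : GL chevF4.Idx K := pairGen θ 33 24 x

/-- the elements of the opposite twisted root group -/
noncomputable def XAn (θ : ℕ) (x : K) : GL chevF4.Idx K := pairGen θ 14 23 x

/-- the character value on the root group of type `A₁ × A₁` -/
def betaT (θ : ℕ) (t : Kˣ) : Kˣ := t ^ (3 - 4 * (θ : ℤ))

section main

variable [CharP K 2] {θ : ℕ} (hθ : θ ≠ 0) (hfrob : ∀ t : K, t ^ (2 * θ * θ) = t)
  (haddθ : ∀ x y : K, (x + y) ^ θ = x ^ θ + y ^ θ)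

include haddθ in
theorem XA_mul (x y : K) : XA θ x * XA θ y = XA θ (x + y) :=
  pairGen_mul haddθ pairCls_pos x y

include haddθ in
theorem XAn_mul (x y : K) : XAn θ x * XAn θ y = XAn θ (x + y) :=
  pairGen_mul haddθ pairCls_neg x y

include hθ in
theorem XA_zero : XA θ (0 : K) = 1 := by
  unfold XA pairGen
  rw [zero_pow hθ, xU_zero, xU_zero, one_mul]

include hfrob in
theorem beta_pow (t : Kˣ) : (betaT θ t) ^ θ = t ^ (3 * (θ : ℤ) - 2) := by
  have h1 : t ^ ((2 * θ * θ : ℕ) : ℤ) = t := by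
    rw [zpow_natCast]
    apply Units.ext
    rw [Units.val_pow_eq_pow_val]
    exact hfrob _
  unfold betaT
  rw [← zpow_natCast, ← zpow_mul]
  have e : (3 - 4 * (θ : ℤ)) * (θ : ℤ) =
      (3 * (θ : ℤ) - 2) + ((2 * θ * θ : ℕ) : ℤ) * (-2) + 2 := by
    push_cast; ring
  rw [e, zpow_add, zpow_add, zpow_mul, h1, mul_assoc, ← zpow_add]
  simp

include hfrob in
/-- the action of the torus element on the twisted root group -/
theorem hT_XA (t : Kˣ) (x : K) :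
    hT θ t * XA θ x * (hT θ t)⁻¹ = XA θ ((betaT θ t : K) * x) := by
  unfold XA
  have h1 : ∀ x : K, hT θ t * xU hBF4 33 x * (hT θ t)⁻¹ =
      xU hBF4 33 (((t ^ (3 * (θ : ℤ) - 2) : Kˣ) : K) * x) := fun x => by
    rw [hT_conj θ t (by decide), chiT_33]
  have h2 : ∀ x : K, hT θ t * xU hBF4 24 x * (hT θ t)⁻¹ =
      xU hBF4 24 ((betaT θ t : K) * x) := fun x => by
    rw [hT_conj θ t (by decide), chiT_24]
    rfl
  refine conj_pairGen h1 h2 ?_ x
  rw [← Units.val_pow_eq_pow_val]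
  congr 1
  exact (beta_pow hfrob t).symm

include hfrob in
/-- the action of the conjugate of the inverse of the torus element -/
theorem kT_XA (t : Kˣ) (x : K) :
    (nC K * (hT θ t)⁻¹ * (nC K)⁻¹) * XA θ x * (nC K * (hT θ t)⁻¹ * (nC K)⁻¹)⁻¹ =
      XA θ ((betaT θ t : K) * x) := by
  have Δ := bnF4 (K := K)
  unfold XA
  have k1 : ∀ x : K, (nC K * (hT θ t)⁻¹ * (nC K)⁻¹) * xU hBF4 33 x *
      (nC K * (hT θ t)⁻¹ * (nC K)⁻¹)⁻¹ = xU hBF4 33 (((chiT θ t 10)⁻¹ : Kˣ) * x) :=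
    conj_transport Δ (one_mul (1 : K)) (fun x => by rw [one_mul]; exact nC_conj_10 x)
      (hT_inv_conj θ t (by decide))
  have k2 : ∀ x : K, (nC K * (hT θ t)⁻¹ * (nC K)⁻¹) * xU hBF4 24 x *
      (nC K * (hT θ t)⁻¹ * (nC K)⁻¹)⁻¹ = xU hBF4 24 (((chiT θ t 15)⁻¹ : Kˣ) * x) :=
    conj_transport Δ (one_mul (1 : K)) (fun x => by rw [one_mul]; exact nC_conj_15 x)
      (hT_inv_conj θ t (by decide))
  rw [chiT_10] at k1
  rw [chiT_15] at k2
  have k2' : ∀ x : K, (nC K * (hT θ t)⁻¹ * (nC K)⁻¹) * xU hBF4 24 x *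
      (nC K * (hT θ t)⁻¹ * (nC K)⁻¹)⁻¹ = xU hBF4 24 ((betaT θ t : K) * x) := k2
  refine conj_pairGen k1 k2' ?_ x
  rw [← Units.val_pow_eq_pow_val]
  congr 1
  exact (beta_pow hfrob t).symm

include hfrob haddθ in
/-- the double commutator lies in the twisted root group -/
theorem double_XA (t : Kˣ) :
    hT θ t * (hT θ t * (XA θ 1 * nC K) * (hT θ t)⁻¹ * (XA θ 1 * nC K)⁻¹) * (hT θ t)⁻¹ *
      (hT θ t * (XA θ 1 * nC K) * (hT θ t)⁻¹ * (XA θ 1 * nC K)⁻¹)⁻¹ =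
      XA θ (((betaT θ t : K) - 1) * ((betaT θ t : K) - (betaT θ t : K) * (betaT θ t : K))) := by
  have Δ := bnF4 (K := K)
  have hhH := hT_mem_diagonal (K := K) θ t
  have hkH : nC K * (hT θ t)⁻¹ * (nC K)⁻¹ ∈ chevF4.diagonalSubgroup K :=
    (Subgroup.mem_normalizer_iff.1 nC_mem_normalizer (hT θ t)⁻¹).1 (Subgroup.inv_mem _ hhH)
  have hg : ∀ x : K, (hT θ t * nC K * (hT θ t)⁻¹ * (nC K)⁻¹) * XA θ x *
      (hT θ t * nC K * (hT θ t)⁻¹ * (nC K)⁻¹)⁻¹ =
      XA θ ((betaT θ t : K) * (betaT θ t : K) * x) := by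
    intro x
    have e : (hT θ t * nC K * (hT θ t)⁻¹ * (nC K)⁻¹) * XA θ x *
        (hT θ t * nC K * (hT θ t)⁻¹ * (nC K)⁻¹)⁻¹ =
        hT θ t * ((nC K * (hT θ t)⁻¹ * (nC K)⁻¹) * XA θ x *
          (nC K * (hT θ t)⁻¹ * (nC K)⁻¹)⁻¹) * (hT θ t)⁻¹ := by group
    rw [e, kT_XA hfrob, hT_XA hfrob, mul_assoc]
  have hc : hT θ t * (hT θ t * nC K * (hT θ t)⁻¹ * (nC K)⁻¹) =
      (hT θ t * nC K * (hT θ t)⁻¹ * (nC K)⁻¹) * hT θ t := by
    have e1 : hT θ t * nC K * (hT θ t)⁻¹ * (nC K)⁻¹ =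
        hT θ t * (nC K * (hT θ t)⁻¹ * (nC K)⁻¹) := by group
    rw [e1, mul_assoc (hT θ t) (nC K * (hT θ t)⁻¹ * (nC K)⁻¹) (hT θ t),
      ← diagonal_comm Δ hhH hkH]
  exact double_comm (XA θ) (XA_mul haddθ) (hT θ t) (nC K) (betaT θ t : K)
    ((betaT θ t : K) * (betaT θ t : K)) (hT_XA hfrob t) hg hc

include hθ hfrob haddθ in
/-- the twisted root group and the Coxeter element lie in a subgroup containing the torus
element and the second generator -/
theorem XA_mem {S : Subgroup (GL chevF4.Idx K)} {t : Kˣ} (hgen : IsGen (betaT θ t : K))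
    (hne : (betaT θ t : K) ≠ 1) (hh : hT θ t ∈ S) (hB : XA θ 1 * nC K ∈ S) :
    (∀ x : K, XA θ x ∈ S) ∧ nC K ∈ S := by
  have hβ0 : (betaT θ t : K) ≠ 0 := Units.ne_zero _
  have hc : ((betaT θ t : K) - 1) * ((betaT θ t : K) - (betaT θ t : K) * (betaT θ t : K)) ≠ 0 := by
    apply mul_ne_zero (sub_ne_zero.2 hne)
    have : (betaT θ t : K) - (betaT θ t : K) * (betaT θ t : K) =
        (betaT θ t : K) * (1 - (betaT θ t : K)) := by ring
    rw [this]
    exact mul_ne_zero hβ0 (sub_ne_zero.2 (Ne.symm hne))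
  have hcS : XA θ (((betaT θ t : K) - 1) *
      ((betaT θ t : K) - (betaT θ t : K) * (betaT θ t : K))) ∈ S := by
    rw [← double_XA hfrob haddθ t]
    have hz : hT θ t * (XA θ 1 * nC K) * (hT θ t)⁻¹ * (XA θ 1 * nC K)⁻¹ ∈ S :=
      Subgroup.mul_mem _ (Subgroup.mul_mem _ (Subgroup.mul_mem _ hh hB) (Subgroup.inv_mem _ hh))
        (Subgroup.inv_mem _ hB)
    exact Subgroup.mul_mem _ (Subgroup.mul_mem _ (Subgroup.mul_mem _ hh hz)
      (Subgroup.inv_mem _ hh)) (Subgroup.inv_mem _ hz)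
  have hpow : ∀ (j : ℕ) (x : K), hT θ t ^ j * XA θ x * (hT θ t ^ j)⁻¹ =
      XA θ ((betaT θ t : K) ^ j * x) := by
    intro j
    induction j with
    | zero => intro x; simp
    | succ j ih =>
      intro x
      have e : hT θ t ^ (j + 1) * XA θ x * (hT θ t ^ (j + 1))⁻¹ =
          hT θ t * (hT θ t ^ j * XA θ x * (hT θ t ^ j)⁻¹) * (hT θ t)⁻¹ := by
        rw [pow_succ']; group
      rw [e, ih, hT_XA hfrob, pow_succ', mul_assoc]
  have hall : ∀ x : K, XA θ x ∈ S := by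
    intro v
    by_cases hv : v = 0
    · rw [hv, XA_zero hθ]; exact Subgroup.one_mem _
    obtain ⟨j, hj⟩ := hgen (v / _) (div_ne_zero hv hc)
    have := hpow j (((betaT θ t : K) - 1) *
      ((betaT θ t : K) - (betaT θ t : K) * (betaT θ t : K)))
    rw [hj, div_mul_cancel₀ v hc] at this
    rw [← this]
    exact Subgroup.mul_mem _ (Subgroup.mul_mem _ (Subgroup.pow_mem _ hh j) hcS)
      (Subgroup.inv_mem _ (Subgroup.pow_mem _ hh j))
  refine ⟨hall, ?_⟩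
  have e : nC K = (XA θ 1)⁻¹ * (XA θ 1 * nC K) := by group
  rw [e]
  exact Subgroup.mul_mem _ (Subgroup.inv_mem _ (hall 1)) hB

end main

end Cfsg.Agent.Helper12.TwGenF4
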