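import Mathlib
import Cfsg.Agent.Helper12.TwGenF4D

set_option autoImplicit false
set_option linter.unusedSectionVars false
set_option linter.unusedSimpArgs false
set_option linter.unusedVariables false

/-!
# Two generators of `²F₄(q)`: all the twisted root groups
-/

namespace Cfsg.Agent.Helper12.TwGenF4

open Cfsg Cfsg.Lie Cfsg.Agent.Helper6 Cfsg.Agent.Helper11.FixBN Cfsg.Agent.Helper11.TwF4
  Cfsg.Agent.Helper12.TwoGen

variable {K : Type*} [Field K]

/-- the fourth power of the twisted Coxeter word -/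
def cox4 : List ℕ := cox ++ cox ++ cox ++ cox

theorem cox4_lt : ∀ j ∈ cox4, j < chevF4.rank := by decide

theorem nWr_cox4 : nWr hBF4 K cox4 = nC K * nC K * nC K * nC K := by
  unfold cox4 nC
  rw [nWr_append, nWr_append, nWr_append]
  group

set_option maxRecDepth 100000 in
theorem cox4_vals : wFr chevF4 cox4 33 = 14 ∧ wFr chevF4 cox4 24 = 23 ∧ wFr chevF4 cox4 27 = 20 ∧
    wFr chevF4 cox4 25 = 22 ∧ wFr chevF4 cox4 28 = 19 ∧ wFr chevF4 cox4 30 = 17 := by
  decide +kernel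

section main

variable [CharP K 2] {θ : ℕ} (hθ : θ ≠ 0) (hfrob : ∀ t : K, t ^ (2 * θ * θ) = t)
  (haddθ : ∀ x y : K, (x + y) ^ θ = x ^ θ + y ^ θ)

/-- the fourth power of the Coxeter element maps the twisted root group to its opposite -/
theorem n4_XA (x : K) : nWr hBF4 K cox4 * XA θ x * (nWr hBF4 K cox4)⁻¹ = XAn θ x := by
  unfold XA XAn
  apply conj_pairGen'
  · intro t; rw [nWr_conj2 cox4_lt (by decide), cox4_vals.1]
  · intro t; rw [nWr_conj2 cox4_lt (by decide), cox4_vals.2.1]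

/-- the fourth power of the Coxeter element maps the root group of type `B₂` to its opposite -/
theorem n4_b2Gen (x u : K) : nWr hBF4 K cox4 * b2Gen θ 27 25 28 30 x u * (nWr hBF4 K cox4)⁻¹ =
    b2Gen θ 20 22 19 17 x u := by
  unfold b2Gen
  have h := conj_W4 (g := nWr hBF4 K cox4) (a := 27) (b := 25) (ab := 28) (aab := 30) (a' := 20)
    (b' := 22) (ab' := 19) (aab' := 17) (c₁ := (1 : K)) (c₂ := 1) (c₃ := 1) (c₄ := 1)
    (fun t => by rw [nWr_conj2 cox4_lt (by decide), cox4_vals.2.2.1, one_mul])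
    (fun t => by rw [nWr_conj2 cox4_lt (by decide), cox4_vals.2.2.2.1, one_mul])
    (fun t => by rw [nWr_conj2 cox4_lt (by decide), cox4_vals.2.2.2.2.1, one_mul])
    (fun t => by rw [nWr_conj2 cox4_lt (by decide), cox4_vals.2.2.2.2.2, one_mul])
  rw [h, one_mul, one_mul, one_mul, one_mul]

/-- the torus elements of the class of type `A₁ × A₁` from the two opposite root groups -/
theorem hJ0_eq (s : Kˣ) : hJ0 θ s = (XA θ (s : K) * XAn θ (s : K)⁻¹ * XA θ (s : K)) *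
    (XA θ (1 : K) * XAn θ (1 : K)⁻¹ * XA θ (1 : K)) := by
  have p1 := pair_triple (K := K) θ (s : K)
  have p2 := pair_triple (K := K) θ (1 : K)
  have e : ∀ x y z w v u : K, (XA θ x * XAn θ y * XA θ z) * (XA θ w * XAn θ v * XA θ u) =
      (pairGen θ f4p1 f4p4 x * pairGen θ f4m1 f4m4 y * pairGen θ f4p1 f4p4 z) *
      (pairGen θ f4p1 f4p4 w * pairGen θ f4m1 f4m4 v * pairGen θ f4p1 f4p4 u) := fun _ _ _ _ _ _ => rfl
  rw [e, p1, p2, one_pow]
  unfold hJ0
  have e1 : tor4 (s ^ θ) 1 1 s = tor4 (s ^ θ) 1 1 1 * tor4 1 1 1 s := by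
    rw [tor4_mul]; simp
  rw [e1, tor4_single0, tor4_single3, hS_zero, hS_three, Units.val_pow_eq_pow_val]
  have hc := nn_commute (1 : K) (s : K)
  calc nn f4p1 f4m1 ((s : K) ^ θ) * nn f4p1 f4m1 1 * (nn f4p4 f4m4 (s : K) * nn f4p4 f4m4 1)
      = nn f4p1 f4m1 ((s : K) ^ θ) * (nn f4p1 f4m1 1 * nn f4p4 f4m4 (s : K)) *
          nn f4p4 f4m4 1 := by group
    _ = nn f4p1 f4m1 ((s : K) ^ θ) * (nn f4p4 f4m4 (s : K) * nn f4p1 f4m1 1) *
          nn f4p4 f4m4 1 := by rw [hc.eq]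
    _ = _ := by group

theorem hJ0_cartan :
    (chevF4.cartan 0 27 = -1 ∧ chevF4.cartan 3 27 = 0) ∧
    (chevF4.cartan 0 25 = 0 ∧ chevF4.cartan 3 25 = -1) ∧
    (chevF4.cartan 0 28 = -1 ∧ chevF4.cartan 3 28 = -1) ∧
    (chevF4.cartan 0 30 = -2 ∧ chevF4.cartan 3 30 = -1) := by decide +kernel

include hθ in
/-- the action of the torus elements of the class of type `A₁ × A₁` on the root group of type
`B₂` -/
theorem hJ0_b2Gen (s : Kˣ) : hJ0 θ s * b2Gen θ 27 25 28 30 (1 : K) 0 * (hJ0 θ s)⁻¹ =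
    b2Gen θ 27 25 28 30 ((s : K)⁻¹) 0 := by
  obtain ⟨⟨a0, a3⟩, ⟨b0, b3⟩, ⟨c0, c3⟩, ⟨d0, d3⟩⟩ := hJ0_cartan
  unfold b2Gen hJ0
  rw [conj_W4 (fun t => tor4_conj _ _ _ _ (by decide) t) (fun t => tor4_conj _ _ _ _ (by decide) t)
    (fun t => tor4_conj _ _ _ _ (by decide) t) (fun t => tor4_conj _ _ _ _ (by decide) t)]
  rw [a0, a3, b0, b3, c0, c3, d0, d3]
  have hs : (s : K) ≠ 0 := Units.ne_zero s
  have h2θ : 2 * θ ≠ 0 := by omega
  simp only [Units.val_one, one_zpow, mul_one, Units.val_pow_eq_pow_val, zero_pow h2θ, mul_zero,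
    add_zero, one_pow, zpow_zero, one_mul, zpow_neg, zpow_one, inv_pow]
  congr 1
  rw [pow_succ, mul_inv]

include hθ hfrob haddθ in
/-- all the twisted root groups lie in a subgroup containing the first twisted root group, the
Coxeter element and an element of the second twisted root group -/
theorem le_of_XA {S : Subgroup (GL chevF4.Idx K)} (hX : ∀ x : K, XA θ x ∈ S) (hn : nC K ∈ S)
    (hx : b2Gen θ 27 25 28 30 (1 : K) 0 ∈ S) : twistedF4 K θ ≤ S := by
  have h2 : (2 : K) = 0 := two_eq_zero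
  have hn4 : nWr hBF4 K cox4 ∈ S := by
    rw [nWr_cox4]
    exact Subgroup.mul_mem _ (Subgroup.mul_mem _ (Subgroup.mul_mem _ hn hn) hn) hn
  have hXn : ∀ x : K, XAn θ x ∈ S := by
    intro x
    rw [← n4_XA]
    exact Subgroup.mul_mem _ (Subgroup.mul_mem _ hn4 (hX x)) (Subgroup.inv_mem _ hn4)
  have hJ : ∀ s : Kˣ, hJ0 θ s ∈ S := by
    intro s
    rw [hJ0_eq]
    exact Subgroup.mul_mem _
      (Subgroup.mul_mem _ (Subgroup.mul_mem _ (hX _) (hXn _)) (hX _))
      (Subgroup.mul_mem _ (Subgroup.mul_mem _ (hX _) (hXn _)) (hX _))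
  -- the elements `b2Gen x 0`
  have hb0 : ∀ x : K, b2Gen θ 27 25 28 30 x 0 ∈ S := by
    intro x
    by_cases hx0 : x = 0
    · have e : b2Gen θ 27 25 28 30 (0 : K) 0 = 1 := by
        unfold b2Gen W4
        have h2θ : 2 * θ ≠ 0 := by omega
        rw [zero_pow hθ, zero_pow (Nat.succ_ne_zero θ), zero_pow h2θ, add_zero, xU_zero, xU_zero,
          xU_zero, xU_zero]
        simp
      rw [hx0, e]; exact Subgroup.one_mem _
    · have := hJ0_b2Gen (K := K) hθ (Units.mk0 x hx0)⁻¹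
      rw [Units.val_inv_eq_inv_val, Units.val_mk0, inv_inv] at this
      rw [← this]
      exact Subgroup.mul_mem _ (Subgroup.mul_mem _ (hJ _) hx) (Subgroup.inv_mem _ (hJ _))
  have bm : ∀ x u y v : K, b2Gen θ 27 25 28 30 x u * b2Gen θ 27 25 28 30 y v =
      b2Gen θ 27 25 28 30 (x + y) (u + v + x ^ θ * y) := b2Gen_mul hfrob haddθ b2Ext_pos
  -- the elements `b2Gen 0 y`
  have hb1 : ∀ y : K, b2Gen θ 27 25 28 30 0 y ∈ S := by
    intro y
    have e1 := bm (1 : K) 0 y 0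
    have e2 := bm (1 + y : K) 0 0 y
    rw [one_pow, one_mul, add_zero, zero_add] at e1
    rw [mul_zero, add_zero, add_zero, zero_add] at e2
    have e3 : b2Gen θ 27 25 28 30 (0 : K) y = (b2Gen θ 27 25 28 30 (1 + y : K) 0)⁻¹ *
        (b2Gen θ 27 25 28 30 (1 : K) 0 * b2Gen θ 27 25 28 30 y 0) := by
      rw [e1, ← e2]; group
    rw [e3]
    exact Subgroup.mul_mem _ (Subgroup.inv_mem _ (hb0 _)) (Subgroup.mul_mem _ (hb0 _) (hb0 _))
  have hb : ∀ x u : K, b2Gen θ 27 25 28 30 x u ∈ S := by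
    intro x u
    have e := bm x 0 0 u
    rw [mul_zero, add_zero, add_zero, zero_add] at e
    rw [← e]
    exact Subgroup.mul_mem _ (hb0 x) (hb1 u)
  apply twistedF4_le
  · exact hX
  · exact hXn
  · exact hb
  · intro x u
    have e : b2Gen θ f4ma f4mb f4mab f4maab x u = b2Gen θ 20 22 19 17 x u := rfl
    rw [e, ← n4_b2Gen]
    exact Subgroup.mul_mem _ (Subgroup.mul_mem _ hn4 (hb x u)) (Subgroup.inv_mem _ hn4)

end main

end Cfsg.Agent.Helper12.TwGenF4
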