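import Mathlib
import Cfsg.Agent.Helper12.TwGenF4E

set_option autoImplicit false
set_option linter.unusedSectionVars false
set_option linter.unusedSimpArgs false
set_option linter.unusedVariables false

/-!
# Two generators of `²F₄(q)`: the main theorem
-/

namespace Cfsg.Agent.Helper12.TwGenF4

open Cfsg Cfsg.Lie Cfsg.Agent.Helper6 Cfsg.Agent.Helper11.FixBN Cfsg.Agent.Helper11.TwF4
  Cfsg.Agent.Helper12.TwoGen

variable {K : Type*} [Field K]

theorem tor4_pow (a b c d : Kˣ) (n : ℕ) :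
    tor4 a b c d ^ n = tor4 (a ^ n) (b ^ n) (c ^ n) (d ^ n) := by
  induction n with
  | zero => simp [tor4_one]
  | succ n ih => rw [pow_succ, ih, tor4_mul, ← pow_succ, ← pow_succ, ← pow_succ, ← pow_succ]

section main

variable [CharP K 2] {θ : ℕ} (hθ : θ ≠ 0) (hfrob : ∀ t : K, t ^ (2 * θ * θ) = t)
  (haddθ : ∀ x y : K, (x + y) ^ θ = x ^ θ + y ^ θ)

include hfrob in
theorem unit_frob (u : Kˣ) : u ^ (2 * θ * θ) = u := by
  apply Units.ext
  rw [Units.val_pow_eq_pow_val]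
  exact hfrob _

include hfrob in
theorem hT_pow_card (t : Kˣ) : hT θ t ^ (2 * θ * θ) = hT θ t := by
  unfold hT
  rw [tor4_pow, unit_frob hfrob, unit_frob hfrob, unit_frob hfrob, unit_frob hfrob]

include hfrob in
theorem s_pow (t : Kˣ) : (t ^ (2 - 2 * (θ : ℤ))) ^ θ = t ^ (2 * (θ : ℤ) - 1) := by
  have h1 : t ^ ((2 * θ * θ : ℕ) : ℤ) = t := by
    rw [zpow_natCast]; exact unit_frob hfrob t
  rw [← zpow_natCast, ← zpow_mul]
  have e : (2 - 2 * (θ : ℤ)) * (θ : ℤ) =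
      (2 * (θ : ℤ) - 1) + ((2 * θ * θ : ℕ) : ℤ) * (-1) + 1 := by
    push_cast; ring
  rw [e, zpow_add, zpow_add, zpow_mul, h1, zpow_neg, zpow_one]
  exact inv_mul_cancel_right _ _

include hfrob in
theorem hT_eq (t : Kˣ) : hT θ t = hJ0 θ (t ^ (2 - 2 * (θ : ℤ))) * hJ1 θ t := by
  unfold hT hJ0 hJ1
  rw [tor4_mul, s_pow hfrob, mul_one, one_mul, one_mul, mul_one]

theorem natAbs_aux (θ : ℕ) (h : 1 ≤ θ) : (3 - 4 * (θ : ℤ)).natAbs = 4 * θ - 3 := by omega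

/-- the torus element centralises the chosen element of the root group of type `B₂` -/
theorem hT_comm (t : Kˣ) (x u : K) :
    Commute (hT θ t) (b2Gen θ 27 25 28 30 x u) := by
  have h : hT θ t * b2Gen θ 27 25 28 30 x u * (hT θ t)⁻¹ = b2Gen θ 27 25 28 30 x u := by
    unfold b2Gen
    rw [conj_W4 (fun y => hT_conj θ t (by decide) y) (fun y => hT_conj θ t (by decide) y)
      (fun y => hT_conj θ t (by decide) y) (fun y => hT_conj θ t (by decide) y),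
      chiT_27, chiT_25, chiT_28, chiT_30, Units.val_one, one_mul, one_mul, one_mul, one_mul]
  exact mul_inv_eq_iff_eq_mul.1 h

include hθ hfrob haddθ in
theorem b2Gen_one_pow_four : (b2Gen θ 27 25 28 30 (1 : K) 0) ^ 4 = 1 := by
  have h2 : (1 : K) + 1 = 0 := by
    have := two_eq_zero (K := K)
    rw [← this]; norm_num
  have bm : ∀ x u y v : K, b2Gen θ 27 25 28 30 x u * b2Gen θ 27 25 28 30 y v =
      b2Gen θ 27 25 28 30 (x + y) (u + v + x ^ θ * y) := b2Gen_mul hfrob haddθ b2Ext_pos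
  have e0 : b2Gen θ 27 25 28 30 (0 : K) 0 = 1 := by
    unfold b2Gen W4
    have h2θ : 2 * θ ≠ 0 := by omega
    rw [zero_pow hθ, zero_pow (Nat.succ_ne_zero θ), zero_pow h2θ, add_zero, xU_zero, xU_zero,
      xU_zero, xU_zero]
    simp
  have e1 : b2Gen θ 27 25 28 30 (1 : K) 0 * b2Gen θ 27 25 28 30 (1 : K) 0 =
      b2Gen θ 27 25 28 30 (0 : K) 1 := by
    rw [bm, h2, one_pow, one_mul, add_zero, zero_add]
  have e2 : b2Gen θ 27 25 28 30 (0 : K) 1 * b2Gen θ 27 25 28 30 (0 : K) 1 = 1 := by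
    rw [bm, h2, add_zero, mul_zero, add_zero, e0]
  have e4 : ∀ g : GL chevF4.Idx K, g ^ 4 = g * g * (g * g) := fun g => by
    rw [pow_succ, pow_succ, pow_succ, pow_one, mul_assoc]
  rw [e4, e1, e2]

include hθ hfrob haddθ in
/-- the two factors of the first generator lie in any subgroup containing it -/
theorem extract {S : Subgroup (GL chevF4.Idx K)} {t : Kˣ} (hev : ∃ j, 2 * θ * θ = 4 * j)
    (hA : hT θ t * b2Gen θ 27 25 28 30 (1 : K) 0 ∈ S) :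
    hT θ t ∈ S ∧ b2Gen θ 27 25 28 30 (1 : K) 0 ∈ S := by
  obtain ⟨j, hj⟩ := hev
  have e : (hT θ t * b2Gen θ 27 25 28 30 (1 : K) 0) ^ (2 * θ * θ) = hT θ t := by
    rw [(hT_comm t (1 : K) 0).mul_pow, hT_pow_card hfrob, hj, pow_mul,
      b2Gen_one_pow_four hθ hfrob haddθ, one_pow, mul_one]
  have hh : hT θ t ∈ S := by
    rw [← e]
    exact Subgroup.pow_mem _ hA _
  refine ⟨hh, ?_⟩
  have e2 : b2Gen θ 27 25 28 30 (1 : K) 0 =
      (hT θ t)⁻¹ * (hT θ t * b2Gen θ 27 25 28 30 (1 : K) 0) := by group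
  rw [e2]
  exact Subgroup.mul_mem _ (Subgroup.inv_mem _ hh) hA

include hθ hfrob haddθ in
/-- generation by the two elements -/
theorem le_of_mem {S : Subgroup (GL chevF4.Idx K)} {t : Kˣ} (hev : ∃ j, 2 * θ * θ = 4 * j)
    (hgen : IsGen (betaT θ t : K)) (hne : (betaT θ t : K) ≠ 1)
    (hA : hT θ t * b2Gen θ 27 25 28 30 (1 : K) 0 ∈ S) (hB : XA θ 1 * nC K ∈ S) :
    twistedF4 K θ ≤ S := by
  obtain ⟨hh, hx⟩ := extract hθ hfrob haddθ hev hA
  obtain ⟨hX, hn⟩ := XA_mem hθ hfrob haddθ hgen hne hh hB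
  exact le_of_XA hθ hfrob haddθ hX hn hx

end main

section final

variable [Fintype K] {m : ℕ}

theorem coprime_aux (θ : ℕ) (hθ : 1 ≤ θ) : Nat.Coprime (4 * θ - 3) (2 * θ * θ - 1) := by
  rw [← Nat.isCoprime_iff_coprime]
  refine ⟨-(4 * (θ : ℤ) + 3), 8, ?_⟩
  have h1 : 3 ≤ 4 * θ := by omega
  have h2 : 1 ≤ 2 * θ * θ := by nlinarith
  rw [Nat.cast_sub h1, Nat.cast_sub h2]
  push_cast
  ring

/-- the torus element lies in the twisted group -/
theorem hT_mem (hK : Fintype.card K = 2 ^ (2 * m + 1)) (t : Kˣ) :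
    hT (2 ^ m) t ∈ twistedF4 K (2 ^ m) := by
  have := charP_two hK
  have hfrob := frob_card hK
  rw [hT_eq hfrob]
  exact Subgroup.mul_mem _ (hJ0_mem _ _) (hJ1_mem (theta_ne m) hfrob (pow_surj hK) t)

theorem exists_two_gen_GL (hm : 1 ≤ m) (hK : Fintype.card K = 2 ^ (2 * m + 1)) :
    ∃ A B : GL chevF4.Idx K, A ∈ twistedF4 K (2 ^ m) ∧ B ∈ twistedF4 K (2 ^ m) ∧
      twistedF4 K (2 ^ m) ≤ Subgroup.closure ({A, B} : Set (GL chevF4.Idx K)) := by
  have hchar := charP_two hK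
  have : Fact (Nat.Prime 2) := ⟨Nat.prime_two⟩
  have hfrob := frob_card hK
  have hθ := theta_ne m
  have haddθ : ∀ x y : K, (x + y) ^ (2 ^ m) = x ^ (2 ^ m) + y ^ (2 ^ m) :=
    fun x y => add_pow_char_pow x y 2 m
  have hq : Fintype.card K = 2 * 2 ^ m * 2 ^ m := by rw [hK]; ring
  have hθ1 : 1 ≤ 2 ^ m := Nat.one_le_two_pow
  have hθ2 : 2 ≤ 2 ^ m := by
    calc 2 = 2 ^ 1 := by norm_num
      _ ≤ 2 ^ m := Nat.pow_le_pow_right (by norm_num) hm
  obtain ⟨ζ, hζ⟩ := IsCyclic.exists_generator (α := Kˣ)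
  have hgen0 : IsGen (ζ : K) := isGen_of_generator hζ
  have hgen : IsGen (betaT (2 ^ m) ζ : K) := by
    unfold betaT
    rw [Units.val_zpow_eq_zpow_val]
    refine isGen_zpow_of_natAbs (Units.ne_zero ζ) hgen0 (m := 4 * 2 ^ m - 3) ?_ ?_
    · exact natAbs_aux _ hθ1
    · rw [hq]
      exact coprime_aux _ hθ1
  have hcard : 2 < Fintype.card K := by
    rw [hq]; nlinarith
  have hne : (betaT (2 ^ m) ζ : K) ≠ 1 := hgen.ne_one (exists_ne_zero_ne_one hcard)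
  have hev : ∃ j, 2 * 2 ^ m * 2 ^ m = 4 * j := by
    obtain ⟨m', rfl⟩ : ∃ m', m = m' + 1 := ⟨m - 1, by omega⟩
    exact ⟨2 ^ m' * 2 ^ (m' + 1), by ring⟩
  refine ⟨hT (2 ^ m) ζ * b2Gen (2 ^ m) 27 25 28 30 (1 : K) 0, XA (2 ^ m) 1 * nC K, ?_, ?_, ?_⟩
  · exact Subgroup.mul_mem _ (hT_mem hK ζ) (b2Gen_pos_mem (2 ^ m) 1 0)
  · refine Subgroup.mul_mem _ (pairGen_pos_mem (2 ^ m) 1) ?_
    rw [nC_eq]
    exact Subgroup.mul_mem _ (nJ_mem hθ 0) (nJ_mem hθ 1)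
  · exact le_of_mem hθ hfrob haddθ hev hgen hne
      (Subgroup.subset_closure (Set.mem_insert _ _))
      (Subgroup.subset_closure (Set.mem_insert_of_mem _ rfl))

theorem exists_two_gen (hm : 1 ≤ m) (hK : Fintype.card K = 2 ^ (2 * m + 1)) :
    ∃ a b : ↥(twistedF4 K (2 ^ m)),
      Subgroup.closure ({a, b} : Set ↥(twistedF4 K (2 ^ m))) = ⊤ := by
  obtain ⟨A, B, hA, hB, hle⟩ := exists_two_gen_GL hm hK
  exact ⟨⟨A, hA⟩, ⟨B, hB⟩, Cfsg.Agent.Helper12.TwGenD4.closure_subtype_eq_top _ hA hB hle⟩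

end final

end Cfsg.Agent.Helper12.TwGenF4
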