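import Mathlib
import Cfsg.Agent.Helper12.TwoGenD

set_option autoImplicit false
set_option linter.unusedSectionVars false
set_option linter.unusedSimpArgs false
set_option linter.unusedVariables false

/-!
# Two generators over the field with two elements

`A = x_a(1) x_b(1) x_e(1)` with `[x_a, x_b] = x_c(±1)`, so that `A² = x_c(1)`, and `B = n_w`.
-/

namespace Cfsg.Agent.Helper12.TwoGen

open Cfsg Cfsg.Lie Cfsg.Agent.Helper6 Cfsg.Agent.Helper12.WCl Cfsg.Agent.Helper11.ChevOrbit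

variable {D : ChevalleyDatum} {F : Type*} [Field F]

/-- the root elements `x_r`, `x_s` commute, by the tables -/
def commChk (D : ChevalleyDatum) (r s : ℕ) : Bool :=
  Nat.blt r D.nroots && Nat.blt s D.nroots && !(Nat.beq s r) && !(Nat.beq s (negF D r)) &&
    decide (commTermsG (ceF D) r s = [])

/-- the table check for the generators `x_a(1) x_b(1) x_e(1)` and `n_w` -/
def formIChk (D : ChevalleyDatum) (L : List ℕ) (cox : ℕ) (a b c e : ℕ) (κ : ℤ)
    (steps1 steps2 : List (ℕ × ℕ × ℕ × ℤ)) : Bool :=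
  allL L (fun j => Nat.blt j D.rank) &&
  Nat.blt a D.nroots && Nat.blt b D.nroots && Nat.blt c D.nroots && Nat.blt e D.nroots &&
  !(Nat.beq b a) && !(Nat.beq b (negF D a)) && (decide (κ = 1) || decide (κ = -1)) &&
  decide (commTermsG (ceF D) a b = [(c, κ, 1, 1)]) &&
  commChk D b c && commChk D a e && commChk D b e &&
  memL a (runC D L cox false false steps1 (orbL D L cox c)) &&
  memL b (runC D L cox false false steps1 (orbL D L cox c)) &&
  coverChk D (runC D L cox false false steps2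
    (orbL D L cox e ++ runC D L cox false false steps1 (orbL D L cox c)))

theorem sq_of_relations {G : Type*} [Group G] {xa xb xc xe : G} (haa : xa * xa = 1)
    (hbb : xb * xb = 1) (hee : xe * xe = 1) (hab : xb * xa = xa * xb * xc)
    (hbc : xc * xb = xb * xc) (hae : xe * xa = xa * xe) (hbe : xe * xb = xb * xe) :
    (xa * xb * xe) * (xa * xb * xe) = xc :=
  calc (xa * xb * xe) * (xa * xb * xe) = xa * xb * (xe * xa) * xb * xe := by
        simp only [mul_assoc]
    _ = xa * xb * (xa * xe) * xb * xe := by rw [hae]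
    _ = xa * xb * xa * (xe * xb) * xe := by simp only [mul_assoc]
    _ = xa * xb * xa * (xb * xe) * xe := by rw [hbe]
    _ = xa * xb * xa * xb * (xe * xe) := by simp only [mul_assoc]
    _ = xa * (xb * xa) * xb := by rw [hee, mul_one]; simp only [mul_assoc]
    _ = xa * (xa * xb * xc) * xb := by rw [hab]
    _ = (xa * xa) * xb * (xc * xb) := by simp only [mul_assoc]
    _ = xb * (xb * xc) := by rw [haa, one_mul, hbc]
    _ = (xb * xb) * xc := by simp only [mul_assoc]
    _ = xc := by rw [hbb, one_mul]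

theorem two_eq_zero_of_card [Fintype F] (hq : Fintype.card F = 2) : (2 : F) = 0 := by
  have := Nat.cast_card_eq_zero F
  rw [hq] at this
  exact_mod_cast this

theorem eq_zero_or_one_of_card [Fintype F] (hq : Fintype.card F = 2) (t : F) : t = 0 ∨ t = 1 := by
  classical
  by_contra hcon
  push Not at hcon
  have h3 : ({0, 1, t} : Finset F).card = 3 := by
    rw [Finset.card_insert_of_notMem, Finset.card_insert_of_notMem, Finset.card_singleton]
    · simp only [Finset.mem_singleton]; exact fun e => hcon.2 e.symm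
    · simp only [Finset.mem_insert, Finset.mem_singleton, not_or]
      exact ⟨zero_ne_one, fun e => hcon.1 e.symm⟩
  have := Finset.card_le_univ ({0, 1, t} : Finset F)
  omega

section delta

variable (Δ : BNData D F) {Y : Subgroup (GL D.Idx F)}
include Δ

theorem rootIn_of_one (hall : ∀ t : F, t = 0 ∨ t = 1) {r : ℕ} (h : xU Δ.hB r (1 : F) ∈ Y) :
    RootIn Δ.hB Y r := by
  intro v
  rcases hall v with rfl | rfl
  · rw [xU_zero]; exact Subgroup.one_mem _
  · exact h

theorem commute_of_commChk {r s : ℕ} (h : commChk D r s = true) (t u : F) :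
    xU Δ.hB s u * xU Δ.hB r t = xU Δ.hB r t * xU Δ.hB s u := by
  simp only [commChk, Bool.and_eq_true, Nat.blt_eq, Bool.not_eq_true', decide_eq_true_eq] at h
  obtain ⟨⟨⟨⟨hr, hs⟩, h1⟩, h2⟩, h3⟩ := h
  have h1' : s ≠ r := fun e => by rw [e] at h1; simp at h1
  have h2' : s ≠ D.neg r := fun e => by
    rw [← negF_eq Δ.hF.chk] at e
    rw [e] at h2; simp at h2
  rw [ceF_eq Δ.hF.keys Δ.hF.chk, commTermsG_eq] at h3
  have hC := Δ.hC r hr s hs h1' h2' t u
  apply Units.ext
  simp only [Units.val_mul, xU_val]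
  rw [hC]
  unfold ChevalleyDatum.commWord
  rw [h3]
  simp [ChevalleyDatum.wordMat]

/-- **two generators**, field with two elements -/
theorem formI [Fintype F] (hq : Fintype.card F = 2) {L : List ℕ} {cox : ℕ} {a b c e : ℕ} {κ : ℤ}
    {steps1 steps2 : List (ℕ × ℕ × ℕ × ℤ)}
    (hchk : formIChk D L cox a b c e κ steps1 steps2 = true) :
    ∃ A B : GL D.Idx F, A ∈ D.group F ∧ B ∈ D.group F ∧
      D.group F ≤ Subgroup.closure ({A, B} : Set (GL D.Idx F)) := by
  simp only [formIChk, Bool.and_eq_true, allL_iff, Nat.blt_eq, Bool.or_eq_true,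
    Bool.not_eq_true', decide_eq_true_eq, memL_iff] at hchk
  obtain ⟨⟨⟨⟨⟨⟨⟨⟨⟨⟨⟨⟨⟨⟨hL, ha⟩, hb⟩, hc⟩, he⟩, hba⟩, hbna⟩, hκ⟩, hterms⟩, hbc⟩, hae⟩, hbe⟩, haK⟩, hbK⟩,
    hcov⟩ := hchk
  have h2F := two_eq_zero_of_card hq
  have hall := eq_zero_or_one_of_card hq
  have hneg : (-1 : F) = 1 := by
    have : (1 : F) + 1 = 0 := by rw [one_add_one_eq_two]; exact h2F
    exact neg_eq_of_add_eq_zero_left this
  have hsq : ∀ r : ℕ, xU Δ.hB r (1 : F) * xU Δ.hB r 1 = 1 := by
    intro r
    rw [xU_mul, one_add_one_eq_two, h2F, xU_zero]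
  -- the commutator relation
  have hba' : b ≠ a := fun e => by rw [e] at hba; simp at hba
  have hbna' : b ≠ D.neg a := fun e => by
    rw [← negF_eq Δ.hF.chk] at e
    rw [e] at hbna; simp at hbna
  rw [ceF_eq Δ.hF.keys Δ.hF.chk, commTermsG_eq] at hterms
  have hab : xU Δ.hB b (1 : F) * xU Δ.hB a 1 = xU Δ.hB a 1 * xU Δ.hB b 1 * xU Δ.hB c 1 := by
    have hC := Δ.hC a ha b hb hba' hbna' (1 : F) 1
    have hw : D.commWord F a b (1 : F) 1 = [(c, 1)] := by
      unfold ChevalleyDatum.commWord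
      rw [hterms]
      simp only [List.map_cons, List.map_nil, pow_one, mul_one]
      rcases hκ with rfl | rfl
      · simp [hneg]
      · simp [hneg]
    rw [hw] at hC
    apply Units.ext
    simp only [Units.val_mul, xU_val]
    rw [hC]
    simp [ChevalleyDatum.wordMat]
  have hAA : (xU Δ.hB a (1 : F) * xU Δ.hB b 1 * xU Δ.hB e 1) *
      (xU Δ.hB a (1 : F) * xU Δ.hB b 1 * xU Δ.hB e 1) = xU Δ.hB c 1 :=
    sq_of_relations (hsq a) (hsq b) (hsq e) hab (commute_of_commChk Δ hbc 1 1)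
      (commute_of_commChk Δ hae 1 1) (commute_of_commChk Δ hbe 1 1)
  refine ⟨xU Δ.hB a 1 * xU Δ.hB b 1 * xU Δ.hB e 1, nL Δ.hB L,
    Subgroup.mul_mem _ (Subgroup.mul_mem _ (xU_mem_group Δ.hB ha 1) (xU_mem_group Δ.hB hb 1))
      (xU_mem_group Δ.hB he 1), nL_mem_group Δ L hL, ?_⟩
  set Y := Subgroup.closure ({xU Δ.hB a 1 * xU Δ.hB b 1 * xU Δ.hB e 1, nL (F := F) Δ.hB L} :
    Set (GL D.Idx F)) with hY
  have hAY : xU Δ.hB a (1 : F) * xU Δ.hB b 1 * xU Δ.hB e 1 ∈ Y := Subgroup.subset_closure (by simp)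
  have hnY : nL (F := F) Δ.hB L ∈ Y := Subgroup.subset_closure (by simp)
  have hcY : xU Δ.hB c (1 : F) ∈ Y := by
    rw [← hAA]; exact Subgroup.mul_mem _ hAY hAY
  have hRc : RootIn Δ.hB Y c := rootIn_of_one Δ hall hcY
  have hK1 := rootIn_runC Δ hL hnY cox (ok2 := false) (ok3 := false) (by simp) (by simp) steps1 _
    (rootIn_orbL Δ hL hnY cox hc hRc)
  have hRa := (hK1 a haK).2
  have hRb := (hK1 b hbK).2
  have heY : xU Δ.hB e (1 : F) ∈ Y := by
    have : xU Δ.hB e (1 : F) = (xU Δ.hB a (1 : F) * xU Δ.hB b 1)⁻¹ *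
        (xU Δ.hB a (1 : F) * xU Δ.hB b 1 * xU Δ.hB e 1) := by group
    rw [this]
    exact Subgroup.mul_mem _ (Subgroup.inv_mem _ (Subgroup.mul_mem _ (hRa 1) (hRb 1))) hAY
  have hRe : RootIn Δ.hB Y e := rootIn_of_one Δ hall heY
  refine group_le_of_coverChk Δ
    (rootIn_runC Δ hL hnY cox (ok2 := false) (ok3 := false) (by simp) (by simp) steps2 _ ?_) hcov
  intro r hr
  rcases List.mem_append.1 hr with hr | hr
  · exact rootIn_orbL Δ hL hnY cox he hRe r hr
  · exact hK1 r hr

end delta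

end Cfsg.Agent.Helper12.TwoGen
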