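import Mathlib
import Cfsg.Agent.Helper12.TwoGenE

set_option autoImplicit false

/-!
# Two generators: the kernel-checked certificates for the seven types
-/

namespace Cfsg.Agent.Helper12.TwoGen

open Cfsg Cfsg.Lie Cfsg.Agent.Helper6

set_option maxRecDepth 100000

theorem chkII_G2one : formIIChk chevG2 [0, 1] 6 false true false 0 0 0 1 2 4 1
    [(2, 3, 0, 3)] = true := by decide +kernel

theorem chkII_G2two : formIIChk chevG2 [0, 1] 6 false false true 1 0 5 3 2 4 3
    [] = true := by decide +kernel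

theorem chkII_B2one : formIIChk chevB2 [0, 1] 4 true false false 0 0 0 1 1 2 0
    [(1, 2, 0, 2)] = true := by decide +kernel

theorem chkII_B2two : formIIChk chevB2 [0, 1] 4 false false true 0 3 3 2 1 2 3
    [] = true := by decide +kernel

theorem chkII_D4 : formIIChk chevD4 [0, 1, 2, 3] 6 false false true 10 2 2 1 1 9 0
    [(1, 9, 0, 1), (1, 13, 3, 1)] = true := by decide +kernel

theorem chkII_F4 : formIIChk chevF4 [0, 1, 2, 3] 12 false false true 3 7 11 1 0 1 15
    [(0, 32, 5, 1), (3, 37, 11, -1)] = true := by decide +kernel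

theorem chkII_E6 : formIIChk chevE6 [0, 1, 2, 3, 4, 5] 12 false false false 0 0 0 1 2 7 0
    [(2, 45, 9, 1), (2, 38, 4, -1), (0, 53, 8, 1), (0, 64, 19, -1), (0, 67, 22, 1)] = true := by decide +kernel

theorem chkII_E7 : formIIChk chevE7 [0, 1, 2, 3, 4, 5, 6] 18 false false false 0 0 0 1 3 10 0
    [(3, 68, 6, 1), (0, 109, 17, 1), (0, 103, 11, -1), (0, 110, 18, -1), (0, 112, 20, 1), (0, 115, 23, -1)] = true := by decide +kernel

theorem chkII_E8 : formIIChk chevE8 [0, 1, 2, 3, 4, 5, 6, 7] 30 false false false 0 0 0 1 0 1 2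
    [(0, 161, 12, -1), (0, 160, 11, 1), (0, 201, 30, -1), (0, 193, 24, 1), (0, 199, 28, -1), (0, 216, 47, 1), (0, 223, 62, -1)] = true := by decide +kernel

theorem chkI_D4 : formIChk chevD4 [0, 1, 2, 3] 6 0 14 1 2 (1)
    [(1, 9, 0, 1)]
    [(1, 13, 3, 1)] = true := by decide +kernel

theorem chkI_F4 : formIChk chevF4 [0, 1, 2, 3] 12 1 23 0 3 (1)
    [(0, 32, 5, 1)]
    [(3, 37, 11, -1)] = true := by decide +kernel

theorem chkI_E6 : formIChk chevE6 [0, 1, 2, 3, 4, 5] 12 1 25 0 2 (1)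
    [(0, 67, 22, 1)]
    [(0, 53, 8, 1), (2, 37, 3, 1), (0, 64, 19, -1)] = true := by decide +kernel

theorem chkI_E7 : formIChk chevE7 [0, 1, 2, 3, 4, 5, 6] 18 1 32 0 3 (1)
    [(0, 109, 17, 1), (0, 103, 11, -1), (0, 112, 20, 1)]
    [(0, 110, 18, -1), (0, 115, 23, -1)] = true := by decide +kernel

theorem chkI_E8 : formIChk chevE8 [0, 1, 2, 3, 4, 5, 6, 7] 30 1 119 0 0 (1)
    [(0, 161, 12, -1), (0, 160, 11, 1), (0, 201, 30, -1), (0, 193, 24, 1), (0, 199, 28, -1), (0, 216, 47, 1), (0, 223, 62, -1)]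
    [] = true := by decide +kernel

end Cfsg.Agent.Helper12.TwoGen
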