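import Mathlib
import Cfsg.Agent.Helper6.Chev.TablesBN
import Cfsg.Agent.Helper12.TwoGenF

set_option autoImplicit false
set_option linter.unusedSectionVars false
set_option linter.unusedSimpArgs false
set_option linter.unusedVariables false

/-!
# The tabulated Chevalley groups over finite fields are generated by two elements
-/

namespace Cfsg.Agent.Helper12.TwoGen

open Cfsg Cfsg.Lie Cfsg.Agent.Helper6

variable {D : ChevalleyDatum} {F : Type*} [Field F]

theorem coprime_of_cast_eq_zero [Fintype F] {p : ℕ} (hp : p.Prime) (h : (p : F) = 0) :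
    Nat.Coprime p (Fintype.card F - 1) := by
  rw [hp.coprime_iff_not_dvd]
  intro hdvd
  have hchar : ringChar F = p := CharP.ringChar_of_prime_eq_zero hp h
  have : CharP F p := hchar ▸ ringChar.charP F
  have h1 : p ∣ Fintype.card F := (CharP.cast_eq_zero_iff F p _).1 (Nat.cast_card_eq_zero F)
  have hpos : 1 ≤ Fintype.card F := Fintype.card_pos
  have h2 : p ∣ Fintype.card F - (Fintype.card F - 1) := Nat.dvd_sub h1 hdvd
  have h3 : Fintype.card F - (Fintype.card F - 1) = 1 := by omega
  rw [h3] at h2
  exact hp.one_lt.ne' (Nat.dvd_one.1 h2)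

/-- two generators, at the level of `GL` -/
theorem exists_two_gen_GL [Fintype F] (hD : IsTabulated D)
    (hF : D ∈ [chevB2, chevG2] → ∃ x : F, x ≠ 0 ∧ x ≠ 1) :
    ∃ A B : GL D.Idx F, A ∈ D.group F ∧ B ∈ D.group F ∧
      D.group F ≤ Subgroup.closure ({A, B} : Set (GL D.Idx F)) := by
  have Δ := bnData_of_tabulated F hD
  have h1 : 1 < Fintype.card F := Fintype.one_lt_card
  have hD' := hD
  simp only [IsTabulated, List.mem_cons, List.not_mem_nil, or_false] at hD'
  by_cases hq2 : Fintype.card F = 2
  · -- the field with two elements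
    have hall := eq_zero_or_one_of_card hq2
    have hno : ¬ ∃ x : F, x ≠ 0 ∧ x ≠ 1 := by
      rintro ⟨x, hx0, hx1⟩
      rcases hall x with h | h
      · exact hx0 h
      · exact hx1 h
    rcases hD' with rfl | rfl | rfl | rfl | rfl | rfl | rfl
    · exact absurd (hF (by simp)) hno
    · exact absurd (hF (by simp)) hno
    · exact formI Δ hq2 chkI_D4
    · exact formI Δ hq2 chkI_F4
    · exact formI Δ hq2 chkI_E6
    · exact formI Δ hq2 chkI_E7
    · exact formI Δ hq2 chkI_E8
  · have hq : 2 < Fintype.card F := by omega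
    have hc1 : Nat.Coprime 1 (Fintype.card F - 1) := Nat.coprime_one_left _
    rcases hD' with rfl | rfl | rfl | rfl | rfl | rfl | rfl
    · -- G2
      by_cases h3 : (3 : F) = 0
      · exact formII Δ hD hq (by simp) (by simp)
          (fun _ => coprime_of_cast_eq_zero Nat.prime_three (by exact_mod_cast h3)) chkII_G2two
      · exact formII Δ hD hq (by simp) (fun _ => h3) (by simp) chkII_G2one
    · -- B2
      by_cases h2 : (2 : F) = 0
      · exact formII Δ hD hq (by simp) (by simp)
          (fun _ => coprime_of_cast_eq_zero Nat.prime_two (by exact_mod_cast h2)) chkII_B2two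
      · exact formII Δ hD hq (fun _ => h2) (by simp) (by simp) chkII_B2one
    · exact formII Δ hD hq (by simp) (by simp) (fun _ => hc1) chkII_D4
    · exact formII Δ hD hq (by simp) (by simp) (fun _ => hc1) chkII_F4
    · exact formII Δ hD hq (by simp) (by simp) (by simp) chkII_E6
    · exact formII Δ hD hq (by simp) (by simp) (by simp) chkII_E7
    · exact formII Δ hD hq (by simp) (by simp) (by simp) chkII_E8

/-- **the tabulated Chevalley groups over finite fields are generated by two elements** -/
theorem exists_two_gen [Finite F] (hD : IsTabulated D)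
    (hF : D ∈ [chevB2, chevG2] → ∃ x : F, x ≠ 0 ∧ x ≠ 1) :
    ∃ a b : ↥(D.group F), Subgroup.closure ({a, b} : Set ↥(D.group F)) = ⊤ := by
  have := Fintype.ofFinite F
  obtain ⟨A, B, hA, hB, hle⟩ := exists_two_gen_GL hD hF
  refine ⟨⟨A, hA⟩, ⟨B, hB⟩, ?_⟩
  rw [eq_top_iff]
  intro g _
  have hg : (g : GL D.Idx F) ∈ Subgroup.closure ({A, B} : Set (GL D.Idx F)) := hle g.2
  have himg : (D.group F).subtype '' ({⟨A, hA⟩, ⟨B, hB⟩} : Set ↥(D.group F)) = {A, B} := by
    ext x
    simp only [Set.mem_image, Set.mem_insert_iff, Set.mem_singleton_iff]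
    constructor
    · rintro ⟨y, rfl | rfl, rfl⟩
      · left; rfl
      · right; rfl
    · rintro (rfl | rfl)
      · exact ⟨⟨x, hA⟩, Or.inl rfl, rfl⟩
      · exact ⟨⟨x, hB⟩, Or.inr rfl, rfl⟩
  rw [← himg, ← MonoidHom.map_closure] at hg
  obtain ⟨y, hy, hyg⟩ := hg
  have : y = g := Subtype.ext hyg
  rwa [this] at hy

end Cfsg.Agent.Helper12.TwoGen
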