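import Mathlib
import Cfsg.Agent.Helper12.WClD

set_option autoImplicit false

/-!
# Witness tables for the separation, irreducibility and generation checks
-/

namespace Cfsg.Agent.Helper12.WCl

open Cfsg.Lie Cfsg.Agent.Helper6

def sepW_G2 : List (List ℕ) := [[0, 1, 5, 3, 4], [1, 5, 3, 4], [5, 3, 4], [3, 4], [4], []]

def irrW_G2 : List ℕ := [0, 1, 0, 0, 0, 1]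

def genW_G2 : List (ℕ × ℕ) := [(0, 0), (0, 0), (6, 7), (6, 7), (6, 7), (6, 10)]

def sepW_B2 : List (List ℕ) := [[1, 2, 3], [2, 3], [3], []]

def irrW_B2 : List ℕ := [1, 0, 0, 0]

def genW_B2 : List (ℕ × ℕ) := [(0, 0), (0, 0), (4, 5), (4, 5)]

def sepW_D4 : List (List ℕ) := [[11, 2, 1, 1, 2, 11, 1, 2, 3, 4, 11], [2, 1, 1, 2, 10, 1, 2, 3, 4, 10], [1, 1, 9, 0, 1, 9, 9, 4, 5], [8, 2, 0, 8, 2, 3, 8, 5], [2, 0, 7, 2, 3, 7, 5], [0, 1, 6, 6, 4, 5], [1, 2, 3, 4, 5], [2, 3, 4, 5], [3, 4, 5], [4, 5], [5], []]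

def irrW_D4 : List ℕ := [1, 1, 0, 0, 0, 0, 1, 0, 0, 0, 0, 1]

def genW_D4 : List (ℕ × ℕ) := [(0, 0), (0, 0), (0, 0), (12, 14), (13, 14), (12, 16), (0, 0), (14, 18), (12, 19), (13, 19), (12, 21), (14, 22)]

def sepW_F4 : List (List ℕ) := [[0, 1, 0, 0, 1, 0, 1, 9, 0, 0, 0, 1, 0, 1, 5, 5, 0, 1, 9, 16, 11, 5, 6], [1, 1, 2, 1, 8, 1, 2, 1, 1, 2, 1, 4, 1, 2, 4, 8, 1, 2, 15, 4, 5, 12], [0, 0, 2, 0, 8, 2, 0, 0, 0, 2, 0, 4, 2, 4, 0, 8, 2, 15, 4, 11, 6], [2, 2, 8, 8, 2, 2, 4, 2, 2, 4, 4, 2, 4, 7, 7, 2, 16, 4, 9, 10], [1, 8, 1, 9, 1, 1, 5, 1, 5, 1, 5, 5, 7, 1, 7, 15, 8, 5, 10], [0, 8, 9, 0, 0, 0, 6, 0, 6, 6, 6, 0, 7, 7, 15, 8, 9, 6], [1, 2, 1, 1, 2, 1, 4, 1, 2, 4, 7, 1, 2, 15, 4, 5, 10], [2, 0, 0, 0, 2, 0, 4, 2, 4, 0, 7, 2, 15, 4,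 9, 6], [0, 0, 0, 1, 0, 1, 5, 5, 0, 1, 7, 15, 8, 5, 6], [4, 5, 6, 4, 4, 5, 4, 7, 7, 7, 15, 4, 5, 6], [2, 2, 5, 6, 2, 5, 8, 8, 2, 15, 8, 5, 6], [1, 4, 1, 6, 4, 8, 1, 9, 16, 4, 9, 6], [0, 4, 5, 4, 0, 8, 9, 17, 4, 5, 10], [1, 2, 6, 7, 1, 2, 17, 11, 11, 6], [2, 5, 0, 7, 2, 16, 11, 5, 12], [4, 0, 1, 7, 15, 4, 11, 12], [0, 1, 2, 15, 8, 9, 10], [1, 2, 15, 4, 5, 6], [2, 15, 4, 5, 6], [16, 4, 5, 6], [4, 5, 6], [5, 6], [6], []]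

def irrW_F4 : List ℕ := [0, 1, 0, 2, 1, 0, 1, 0, 0, 3, 2, 1, 0, 1, 0, 0, 0, 1, 0, 0, 0, 0, 0, 1]

def genW_F4 : List (ℕ × ℕ) := [(0, 0), (0, 0), (24, 25), (0, 0), (25, 27), (24, 28), (25, 27), (24, 30), (24, 28), (0, 0), (27, 33), (25, 34), (24, 35), (27, 35), (24, 37), (25, 38), (27, 39), (25, 34), (24, 41), (24, 35), (27, 43), (24, 37), (25, 45), (24, 46)]

def sepW_E6 : List (List ℕ) := [[4, 3, 3, 4, 3, 8, 6, 3, 4, 3, 3, 4, 3, 6, 3, 4, 3, 4, 3, 3, 6, 8, 3, 4, 11, 3, 4, 3, 4, 3, 6, 7, 6, 8, 11], [3, 3, 2, 2, 9, 2, 3, 5, 2, 3, 2, 2, 2, 3, 5, 2, 2, 3, 2, 5, 2, 3, 9, 2, 3, 12, 2, 2, 3, 5, 5, 6, 9, 12], [4, 2, 2, 8, 2, 5, 4, 2, 4, 2, 2, 2, 5, 4, 2, 2, 4, 2, 5, 2, 8, 4, 2, 11, 4, 2, 2, 4, 5, 5, 7, 8, 11], [2, 2, 1, 2, 7,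 6, 2, 1, 1, 1, 1, 1, 1, 2, 2, 6, 1, 1, 2, 6, 7, 1, 1, 1, 2, 2, 13, 6, 7, 6, 8, 13], [3, 1, 7, 3, 5, 3, 1, 1, 1, 1, 1, 1, 3, 5, 3, 1, 1, 5, 3, 7, 1, 1, 1, 3, 12, 3, 5, 5, 7, 8, 12], [1, 6, 5, 4, 4, 1, 1, 1, 1, 1, 1, 5, 4, 4, 1, 1, 5, 6, 4, 1, 1, 1, 11, 4, 4, 5, 5, 6, 9, 11], [2, 3, 4, 2, 3, 2, 2, 2, 3, 4, 2, 2, 3, 2, 5, 2, 3, 4, 2, 3, 4, 2, 2, 3, 5, 5, 6, 14, 14], [3, 4, 3, 1, 1, 1, 1, 1, 1, 3, 4, 3, 1, 1, 5, 3, 4, 1, 1, 1, 3, 4, 3, 5, 5, 13, 8, 13], [4, 2, 1, 1, 1, 1, 1, 1, 2, 2, 4, 1, 1, 2, 6, 4, 1, 1, 1, 2, 2, 4, 6, 12, 6, 8, 12], [2, 1, 1, 1, 1, 1, 1, 2, 2, 3, 1, 1, 2, 3, 7, 1, 1, 1, 2, 2, 3, 11, 7, 7, 9, 11], [1, 1, 1, 1, 1, 1, 9, 8, 8, 0, 0, 0, 0, 0, 1, 1, 1, 8, 9, 10, 8, 9, 10, 8, 11], [2, 2, 2, 7, 6, 2, 2, 6, 0,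 0, 0, 0, 0, 2, 6, 7, 2, 2, 10, 6, 7, 6, 10, 11], [3, 7, 3, 5, 3, 5, 3, 0, 0, 0, 0, 0, 5, 3, 7, 3, 9, 3, 5, 5, 7, 9, 11], [6, 5, 4, 5, 4, 4, 0, 0, 0, 0, 0, 5, 6, 4, 8, 4, 4, 5, 5, 6, 8, 12], [3, 4, 3, 4, 3, 0, 0, 0, 0, 0, 5, 3, 4, 3, 4, 3, 5, 5, 10, 10, 11], [4, 2, 2, 4, 0, 0, 0, 0, 0, 2, 6, 4, 2, 2, 4, 6, 9, 6, 9, 11], [2, 2, 3, 0, 0, 0, 0, 0, 2, 3, 7, 2, 2, 3, 8, 7, 7, 8, 12], [4, 4, 0, 0, 0, 0, 0, 1, 1, 1, 8, 4, 4, 8, 7, 7, 8, 11], [3, 0, 0, 0, 0, 0, 1, 1, 1, 3, 9, 3, 6, 9, 6, 9, 12], [0, 0, 0, 0, 0, 1, 1, 1, 2, 2, 10, 5, 5, 10, 10, 13], [5, 5, 6, 7, 5, 6, 7, 8, 9, 10, 5, 5, 6, 8, 11], [2, 3, 4, 2, 3, 4, 2, 2, 3, 8, 9, 10, 8, 11], [3, 4, 1, 1, 1, 3, 4, 3, 6, 7, 6, 10, 11], [4, 1, 1, 1, 2, 2, 4, 5, 5, 7, 9, 11], [1, 1,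 1, 2, 2, 3, 5, 5, 6, 8, 12], [3, 4, 3, 4, 3, 6, 7, 6, 8, 13], [4, 2, 2, 4, 5, 5, 7, 8, 12], [2, 2, 3, 5, 5, 6, 9, 11], [4, 4, 5, 5, 6, 9, 12], [3, 5, 5, 7, 8, 11], [6, 7, 6, 8, 11], [7, 7, 9, 12], [6, 8, 11], [8, 11], [11], []]

def irrW_E6 : List ℕ := [3, 2, 2, 1, 1, 1, 2, 1, 1, 1, 0, 0, 0, 0, 0, 0, 0, 0, 0, 0, 5, 2, 1, 1, 1, 0, 0, 0, 0, 0, 0, 0, 0, 0, 0, 1]

def genW_E6 : List (ℕ × ℕ) := [(0, 0), (0, 0), (36, 37), (0, 0), (37, 39), (36, 40), (0, 0), (39, 42), (37, 43), (36, 44), (0, 0), (39, 46), (37, 47), (36, 48), (42, 47), (37, 50), (36, 51), (39, 51), (36, 53), (37, 54), (0, 0), (42, 56), (39, 57), (37, 58), (36, 59), (46, 58), (37, 61), (36, 62), (39, 62), (36, 64), (37, 65), (42, 64), (36, 67), (37, 68), (39, 69),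 (46, 70)]

def sepW_E7 : List (List ℕ) := [[6, 5, 5, 6, 5, 5, 5, 6, 5, 5, 5, 5, 6, 5, 12, 9, 9, 5, 6, 9, 9, 5, 6, 12, 5, 6, 5, 6, 5, 5, 5, 5, 5, 6, 5, 9, 9, 5, 6, 12, 5, 6, 5, 6, 5, 18, 5, 6, 5, 6, 5, 5, 6, 5, 5, 9, 10, 9, 9, 12, 18, 34], [5, 5, 4, 4, 4, 5, 4, 4, 4, 4, 5, 4, 4, 11, 8, 4, 5, 8, 8, 4, 5, 8, 4, 5, 11, 4, 4, 5, 4, 4, 4, 5, 4, 4, 8, 4, 5, 8, 4, 5, 11, 4, 4, 5, 4, 5, 17, 4, 4, 5, 4, 4, 5, 4, 8, 8, 9, 8, 11, 17, 33], [6, 4, 4, 4, 6, 4, 4, 4, 4, 6, 4, 4, 11, 8, 4, 8, 6, 8, 4, 8, 6, 4, 11, 6, 4, 4, 6, 4, 4, 4, 6, 4, 4, 8, 4, 8, 6, 4, 11, 6, 4, 4, 6, 4, 17, 6, 4, 4, 6, 4, 4, 6, 4, 8, 8, 10, 8, 11, 17, 33], [4, 4, 4, 3, 3, 3, 3, 4, 3, 3, 3, 12, 3, 4, 7, 7, 3, 4, 7, 7, 3, 3, 3, 4, 4, 12, 3, 3, 4, 3, 3, 3, 3, 4, 7,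 7, 3, 3, 3, 4, 4, 12, 3, 3, 3, 4, 4, 18, 3, 3, 3, 4, 7, 7, 7, 8, 12, 18, 34], [5, 5, 3, 3, 3, 3, 5, 3, 3, 3, 11, 3, 7, 5, 7, 3, 7, 5, 7, 3, 3, 3, 5, 11, 5, 3, 3, 5, 3, 3, 3, 3, 7, 5, 7, 3, 3, 3, 5, 11, 5, 3, 3, 3, 5, 17, 5, 3, 3, 3, 5, 7, 7, 7, 9, 11, 17, 33], [6, 3, 3, 3, 3, 6, 3, 3, 3, 11, 3, 7, 7, 6, 3, 7, 7, 6, 3, 3, 3, 11, 6, 6, 3, 3, 6, 3, 3, 3, 3, 7, 7, 6, 3, 3, 3, 11, 6, 6, 3, 3, 3, 17, 6, 6, 3, 3, 3, 6, 7, 7, 7, 10, 11, 17, 33], [3, 3, 3, 3, 2, 2, 2, 2, 2, 3, 9, 8, 8, 2, 2, 2, 2, 3, 3, 3, 8, 8, 9, 2, 3, 2, 2, 2, 2, 2, 2, 2, 2, 3, 3, 3, 8, 8, 9, 2, 2, 2, 2, 2, 2, 3, 3, 3, 20, 8, 8, 9, 8, 11, 20, 36], [4, 4, 4, 2, 2, 2, 2, 2, 9, 4, 7, 7, 2, 2, 2, 2, 4, 7, 7, 4, 4, 9, 2, 4, 2, 2, 2, 2, 2, 2, 2, 2, 4, 7, 7, 4, 4,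 9, 2, 2, 2, 2, 2, 2, 4, 4, 18, 4, 7, 7, 7, 9, 11, 18, 34], [5, 5, 2, 2, 2, 2, 2, 8, 7, 5, 7, 2, 2, 2, 2, 7, 5, 7, 5, 8, 5, 2, 5, 2, 2, 2, 2, 2, 2, 2, 2, 7, 5, 7, 5, 8, 5, 2, 2, 2, 2, 2, 2, 5, 17, 5, 5, 7, 7, 7, 8, 12, 17, 33], [6, 2, 2, 2, 2, 2, 8, 7, 7, 6, 2, 2, 2, 2, 7, 7, 6, 8, 6, 6, 2, 6, 2, 2, 2, 2, 2, 2, 2, 2, 7, 7, 6, 8, 6, 6, 2, 2, 2, 2, 2, 2, 17, 6, 6, 6, 7, 7, 7, 8, 13, 17, 33], [2, 2, 2, 2, 1, 1, 1, 1, 1, 2, 2, 2, 2, 12, 11, 11, 11, 11, 12, 2, 1, 1, 1, 1, 1, 1, 1, 1, 1, 1, 1, 1, 1, 1, 1, 2, 2, 2, 2, 2, 2, 11, 11, 12, 14, 11, 11, 12, 14, 11, 17, 39], [3, 3, 3, 1, 1, 1, 1, 1, 3, 9, 8, 8, 3, 3, 3, 8, 8, 9, 3, 1, 1, 1, 1, 1, 1, 1, 1, 1, 1, 1, 1, 1, 1, 1, 3, 3, 3, 8, 8, 9, 3, 3, 3, 14, 8, 8, 9, 8, 14, 17, 36], [4,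 4, 1, 1, 1, 1, 1, 9, 4, 7, 7, 4, 7, 7, 4, 4, 9, 4, 1, 1, 1, 1, 1, 1, 1, 1, 1, 1, 1, 1, 1, 1, 1, 4, 7, 7, 4, 4, 9, 4, 4, 12, 4, 7, 7, 7, 9, 12, 17, 34], [5, 1, 1, 1, 1, 1, 8, 7, 5, 7, 7, 5, 7, 5, 8, 5, 5, 1, 1, 1, 1, 1, 1, 1, 1, 1, 1, 1, 1, 1, 1, 1, 7, 5, 7, 5, 8, 5, 5, 11, 5, 5, 7, 7, 7, 8, 11, 18, 33], [1, 1, 1, 1, 1, 8, 7, 7, 6, 7, 7, 6, 8, 6, 6, 6, 1, 1, 1, 1, 1, 1, 1, 1, 1, 1, 1, 1, 1, 1, 1, 7, 7, 6, 8, 6, 6, 11, 6, 6, 6, 7, 7, 7, 8, 11, 19, 33], [3, 4, 5, 6, 3, 4, 5, 6, 3, 3, 3, 4, 4, 5, 3, 3, 4, 3, 3, 3, 3, 4, 5, 6, 3, 3, 3, 4, 4, 5, 3, 3, 3, 4, 4, 5, 3, 3, 3, 4, 7, 7, 7, 8, 23, 23, 39], [4, 5, 6, 2, 2, 2, 2, 4, 5, 6, 4, 4, 5, 2, 4, 2, 2, 2, 2, 2, 2, 2, 2, 4, 5, 6, 4, 4, 5, 2, 2, 2, 2, 2, 2, 4, 4, 5, 4, 7, 7, 7,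 20, 11, 20, 36], [5, 6, 2, 2, 2, 2, 3, 3, 3, 5, 6, 5, 2, 3, 2, 2, 2, 2, 2, 2, 2, 2, 3, 3, 3, 5, 6, 5, 2, 2, 2, 2, 2, 2, 3, 3, 3, 5, 8, 8, 18, 8, 11, 18, 34], [6, 2, 2, 2, 2, 3, 3, 3, 4, 4, 6, 2, 3, 2, 2, 2, 2, 2, 2, 2, 2, 3, 3, 3, 4, 4, 6, 2, 2, 2, 2, 2, 2, 3, 3, 3, 4, 9, 17, 9, 9, 12, 17, 33], [2, 2, 2, 2, 3, 3, 3, 4, 4, 5, 2, 3, 2, 2, 2, 2, 2, 2, 2, 2, 3, 3, 3, 4, 4, 5, 2, 2, 2, 2, 2, 2, 3, 3, 3, 4, 17, 10, 10, 10, 13, 17, 33], [4, 5, 6, 4, 5, 6, 4, 4, 5, 4, 1, 1, 1, 1, 1, 1, 1, 1, 1, 1, 1, 1, 1, 1, 1, 4, 5, 6, 4, 4, 5, 4, 4, 5, 4, 7, 7, 7, 14, 14, 17, 36], [5, 6, 3, 3, 3, 5, 6, 5, 3, 1, 1, 1, 1, 1, 1, 1, 1, 1, 1, 1, 1, 1, 1, 1, 3, 3, 3, 5, 6, 5, 3, 3, 3, 5, 8, 8, 12, 8, 12, 17, 34], [6, 3, 3, 3, 4, 4, 6, 3, 1, 1, 1,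 1, 1, 1, 1, 1, 1, 1, 1, 1, 1, 1, 1, 3, 3, 3, 4, 4, 6, 3, 3, 3, 4, 9, 11, 9, 9, 11, 18, 33], [3, 3, 3, 4, 4, 5, 3, 1, 1, 1, 1, 1, 1, 1, 1, 1, 1, 1, 1, 1, 1, 1, 3, 3, 3, 4, 4, 5, 3, 3, 3, 4, 11, 10, 10, 10, 11, 19, 33], [5, 6, 5, 6, 5, 2, 1, 1, 1, 1, 1, 1, 1, 1, 1, 1, 1, 1, 1, 1, 1, 2, 2, 2, 2, 2, 2, 5, 6, 5, 5, 9, 10, 9, 9, 11, 17, 34], [6, 4, 4, 6, 2, 1, 1, 1, 1, 1, 1, 1, 1, 1, 1, 1, 1, 1, 1, 1, 2, 2, 2, 2, 2, 2, 4, 4, 6, 4, 8, 8, 10, 8, 12, 18, 33], [4, 4, 5, 2, 1, 1, 1, 1, 1, 1, 1, 1, 1, 1, 1, 1, 1, 1, 1, 2, 2, 2, 2, 2, 2, 4, 4, 5, 4, 8, 8, 9, 8, 13, 19, 33], [6, 6, 2, 1, 1, 1, 1, 1, 1, 1, 1, 1, 1, 1, 1, 1, 1, 1, 2, 2, 2, 2, 2, 2, 3, 3, 3, 6, 7, 7, 7, 10, 13, 19, 33], [5, 2, 1, 1, 1, 1, 1, 1, 1, 1, 1, 1, 1, 1, 1, 1,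 1, 2, 2, 2, 2, 2, 2, 3, 3, 3, 5, 7, 7, 7, 9, 12, 18, 33], [2, 1, 1, 1, 1, 1, 1, 1, 1, 1, 1, 1, 1, 1, 1, 1, 2, 2, 2, 2, 2, 2, 3, 3, 3, 4, 7, 7, 7, 8, 11, 17, 34], [1, 1, 1, 1, 1, 1, 1, 1, 1, 1, 1, 1, 1, 1, 1, 18, 17, 17, 17, 17, 18, 17, 17, 18, 20, 17, 17, 18, 20, 23, 17, 33], [2, 2, 2, 2, 2, 2, 2, 2, 12, 11, 11, 11, 11, 12, 2, 2, 2, 2, 2, 2, 11, 11, 12, 14, 11, 11, 12, 14, 11, 23, 33], [3, 3, 3, 3, 9, 8, 8, 3, 3, 3, 8, 8, 9, 3, 3, 3, 8, 8, 9, 3, 3, 3, 14, 8, 8, 9, 8, 14, 20, 33], [4, 4, 9, 4, 7, 7, 4, 7, 7, 4, 4, 9, 4, 7, 7, 4, 4, 9, 4, 4, 12, 4, 7, 7, 7, 9, 12, 18, 33], [5, 8, 7, 5, 7, 7, 5, 7, 5, 8, 5, 7, 5, 7, 5, 8, 5, 5, 11, 5, 5, 7, 7, 7, 8, 11, 17, 34], [8, 7, 7, 6, 7, 7, 6, 8, 6, 6, 7, 7, 6, 8, 6, 6, 11, 6, 6, 6,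 7, 7, 7, 8, 11, 17, 35], [4, 5, 6, 4, 5, 6, 4, 4, 5, 4, 5, 6, 4, 4, 5, 4, 4, 5, 4, 7, 7, 7, 14, 14, 20, 33], [5, 6, 3, 3, 3, 5, 6, 5, 3, 3, 3, 5, 6, 5, 3, 3, 3, 5, 8, 8, 12, 8, 12, 18, 33], [6, 3, 3, 3, 4, 4, 6, 3, 3, 3, 4, 4, 6, 3, 3, 3, 4, 9, 11, 9, 9, 11, 17, 34], [3, 3, 3, 4, 4, 5, 3, 3, 3, 4, 4, 5, 3, 3, 3, 4, 11, 10, 10, 10, 11, 17, 35], [5, 6, 5, 6, 5, 2, 2, 2, 2, 2, 2, 5, 6, 5, 5, 9, 10, 9, 9, 11, 18, 33], [6, 4, 4, 6, 2, 2, 2, 2, 2, 2, 4, 4, 6, 4, 8, 8, 10, 8, 12, 17, 34], [4, 4, 5, 2, 2, 2, 2, 2, 2, 4, 4, 5, 4, 8, 8, 9, 8, 13, 17, 35], [6, 6, 2, 2, 2, 2, 2, 2, 3, 3, 3, 6, 7, 7, 7, 10, 13, 17, 35], [5, 2, 2, 2, 2, 2, 2, 3, 3, 3, 5, 7, 7, 7, 9, 12, 17, 34], [2, 2, 2, 2, 2, 2, 3, 3, 3, 4, 7, 7, 7, 8, 11, 18, 33],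 [5, 6, 5, 6, 5, 5, 6, 5, 5, 9, 10, 9, 9, 12, 17, 33], [6, 4, 4, 6, 4, 4, 6, 4, 8, 8, 10, 8, 11, 18, 34], [4, 4, 5, 4, 4, 5, 4, 8, 8, 9, 8, 11, 19, 35], [6, 6, 3, 3, 3, 6, 7, 7, 7, 10, 11, 19, 35], [5, 3, 3, 3, 5, 7, 7, 7, 9, 11, 18, 34], [3, 3, 3, 4, 7, 7, 7, 8, 12, 17, 33], [6, 6, 6, 7, 7, 7, 8, 13, 19, 35], [5, 5, 7, 7, 7, 8, 12, 18, 34], [4, 7, 7, 7, 9, 11, 17, 33], [8, 8, 9, 8, 11, 17, 33], [10, 10, 10, 13, 19, 35], [9, 9, 12, 18, 34], [8, 11, 17, 33], [11, 17, 33], [17, 33], [33], []]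

def irrW_E7 : List ℕ := [5, 4, 4, 3, 3, 3, 2, 2, 2, 2, 1, 1, 1, 1, 1, 3, 2, 2, 2, 2, 1, 1, 1, 1, 1, 1, 1, 1, 1, 1, 0, 0, 0, 0, 0, 0, 0, 0, 0, 0, 0, 0, 0, 0, 0, 0, 0, 0, 0, 0, 0, 0, 0, 0, 0, 0, 0, 0, 0, 0, 0, 0, 1]

def genW_E7 : List (ℕ × ℕ) := [(0, 0), (0, 0), (63, 64), (0, 0), (64, 66), (63, 67), (0, 0), (66, 69), (64, 70), (63, 71), (0, 0), (69, 73), (66, 74), (64, 75), (63, 76), (0, 0), (69, 78), (66, 79), (64, 80), (63, 81), (73, 79), (66, 83), (64, 84), (63, 85), (69, 84), (64, 87), (63, 88), (66, 88), (63, 90), (64, 91), (0, 0), (73, 93), (69, 94), (66, 95), (64, 96), (63, 97), (78, 95), (66, 99), (64, 100), (63, 101), (69, 100), (64, 103), (63, 104), (66, 104), (63, 106), (64, 107), (73, 103), (64, 109), (63,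 110), (66, 110), (63, 112), (64, 113), (69, 112), (63, 115), (64, 116), (66, 117), (78, 115), (63, 119), (64, 120), (66, 121), (69, 122), (73, 123), (93, 124)]

set_option maxRecDepth 100000 in
theorem sepChk_G2 : sepChk chevG2 3 sepW_G2 [] = true := by decide +kernel

set_option maxRecDepth 100000 in
theorem irrChk_G2 : irrChk chevG2 false irrW_G2 = true := by decide +kernel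

set_option maxRecDepth 100000 in
theorem genChk_G2 : genChk chevG2 genW_G2 = true := by decide +kernel

set_option maxRecDepth 100000 in
theorem sepChk_B2 : sepChk chevB2 2 sepW_B2 [] = true := by decide +kernel

set_option maxRecDepth 100000 in
theorem irrChk_B2 : irrChk chevB2 true irrW_B2 = true := by decide +kernel

set_option maxRecDepth 100000 in
theorem genChk_B2 : genChk chevB2 genW_B2 = true := by decide +kernel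

set_option maxRecDepth 100000 in
theorem sepChk_D4 : sepChk chevD4 2 sepW_D4 [] = true := by decide +kernel

set_option maxRecDepth 100000 in
theorem irrChk_D4 : irrChk chevD4 false irrW_D4 = true := by decide +kernel

set_option maxRecDepth 100000 in
theorem genChk_D4 : genChk chevD4 genW_D4 = true := by decide +kernel

set_option maxRecDepth 100000 in
theorem sepChk_F4 : sepChk chevF4 2 sepW_F4 [] = true := by decide +kernel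

set_option maxRecDepth 100000 in
theorem irrChk_F4 : irrChk chevF4 false irrW_F4 = true := by decide +kernel

set_option maxRecDepth 100000 in
theorem genChk_F4 : genChk chevF4 genW_F4 = true := by decide +kernel

set_option maxRecDepth 100000 in
theorem sepChk_E6 : sepChk chevE6 1 sepW_E6 [] = true := by decide +kernel

set_option maxRecDepth 100000 in
theorem irrChk_E6 : irrChk chevE6 false irrW_E6 = true := by decide +kernel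

set_option maxRecDepth 100000 in
theorem genChk_E6 : genChk chevE6 genW_E6 = true := by decide +kernel

set_option maxRecDepth 100000 in
theorem sepChk_E7 : sepChk chevE7 1 sepW_E7 [] = true := by decide +kernel

set_option maxRecDepth 100000 in
theorem irrChk_E7 : irrChk chevE7 false irrW_E7 = true := by decide +kernel

set_option maxRecDepth 100000 in
theorem genChk_E7 : genChk chevE7 genW_E7 = true := by decide +kernel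

end Cfsg.Agent.Helper12.WCl
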