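import Mathlib
import Cfsg.Agent.Helper12.WClE

set_option autoImplicit false
set_option linter.unusedSectionVars false
set_option linter.unusedSimpArgs false
set_option linter.unusedVariables false

/-!
# Type `G₂` over a field with at least four elements

Over the field with four elements the long roots `6`, `10`, `11` cannot be separated from each
other by torus elements; root elements of `U` are used instead.
-/

namespace Cfsg.Agent.Helper12.WCl

open Cfsg.Lie Cfsg.Agent.Helper6 Cfsg.Agent.Helper2.Levi Cfsg.Agent.Helper12.ParCent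

variable {F : Type*} [Field F]

/-- witnesses for `G₂` with `|⟨r, c⟩| ≤ 2` -/
def sepW2_G2 : List (List ℕ) := [[0, 1, 5, 0, 0], [1, 5, 3, 4], [5, 3, 4], [3, 4], [0], []]

/-- the pairs of long roots -/
def excG2 : List (ℕ × ℕ) := [(6, 10), (6, 11), (10, 11)]

set_option maxRecDepth 100000 in
theorem sepChk2_G2 : sepChk chevG2 2 sepW2_G2 excG2 = true := by decide +kernel

theorem ct_6_7 : chevG2.commTerms 6 7 = [(8, 1, 1, 1), (9, 1, 1, 2), (10, -1, 1, 3), (11, -2, 2, 3)] := by
  decide +kernel
theorem ct_10_6 : chevG2.commTerms 10 6 = [(11, -1, 1, 1)] := by decide +kernel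
theorem ct_6_10 : chevG2.commTerms 6 10 = [(11, 1, 1, 1)] := by decide +kernel
theorem ct_10_7 : chevG2.commTerms 10 7 = [] := by decide +kernel
theorem ct_11_7 : chevG2.commTerms 11 7 = [] := by decide +kernel

theorem cw_6_7 (t : F) :
    chevG2.commWord F 6 7 t 1 = [(8, -t), (9, -t), (10, t), (11, -2 * t ^ 2)] := by
  unfold ChevalleyDatum.commWord
  rw [ct_6_7]
  simp

theorem cw_10_6 (t w : F) : chevG2.commWord F 10 6 t w = [(11, 1 * t * w)] := by
  unfold ChevalleyDatum.commWord
  rw [ct_10_6]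
  simp

theorem cw_6_10 (t w : F) : chevG2.commWord F 6 10 t w = [(11, (-1) * t * w)] := by
  unfold ChevalleyDatum.commWord
  rw [ct_6_10]
  simp

theorem nroots_G2 : chevG2.nroots = 12 := rfl

end Cfsg.Agent.Helper12.WCl

namespace Cfsg.Agent.Helper12.ParCent.CData

open Cfsg.Lie Cfsg.Agent.Helper6 Cfsg.Agent.Helper2.Levi Cfsg.Agent.Helper12.ParCent
  Cfsg.Agent.Helper12.WCl

variable {F : Type*} [Field F] [Fintype F]

variable {C : List (List ℤ)} (X : CData chevG2 F C)
  {Y : Subgroup (GL chevG2.Idx F)} (hY : Inv chevG2 F Y)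
include X hY

/-- `x_7(w)` centralises `U_10` -/
theorem comm_Uge10_G2 (w : F) {y : GL chevG2.Idx F} (hy : y ∈ Uge chevG2 F 10) :
    xU X.L.Δ.hB 7 w * y = y * xU X.L.Δ.hB 7 w := by
  unfold Uge at hy
  induction hy using Subgroup.closure_induction with
  | mem g hg =>
    obtain ⟨s, u, h1, h2, h3⟩ := hg
    have hgs : g = xU X.L.Δ.hB s u := Units.ext (by rw [h3, xU_val])
    rw [hgs]
    have hs : s = 10 ∨ s = 11 := by rw [nroots_G2] at h2; omega
    rcases hs with rfl | rfl
    · exact Cfsg.Agent.Helper11.TwFix.xU_comm_of_nil X.L.Δ.hB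
        (X.L.Δ.hC 10 (by decide) 7 (by decide) (by decide) (by decide)) ct_10_7 u w
    · exact Cfsg.Agent.Helper11.TwFix.xU_comm_of_nil X.L.Δ.hB
        (X.L.Δ.hC 11 (by decide) 7 (by decide) (by decide) (by decide)) ct_11_7 u w
  | one => simp
  | mul g₁ g₂ _ _ ih₁ ih₂ => rw [← mul_assoc, ih₁, mul_assoc, ih₂, mul_assoc]
  | inv g _ ih =>
    have : g⁻¹ * (xU X.L.Δ.hB 7 w * g) * g⁻¹ = g⁻¹ * (g * xU X.L.Δ.hB 7 w) * g⁻¹ := by rw [ih]
    calc xU X.L.Δ.hB 7 w * g⁻¹ = g⁻¹ * (g * xU X.L.Δ.hB 7 w) * g⁻¹ := by group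
      _ = g⁻¹ * (xU X.L.Δ.hB 7 w * g) * g⁻¹ := by rw [ih]
      _ = g⁻¹ * xU X.L.Δ.hB 7 w := by group

/-- all leading root elements, type `G₂`, more than three elements -/
theorem lead_G2 (hq : 3 < Fintype.card F) :
    ∀ r, chevG2.nroots / 2 ≤ r → r < chevG2.nroots → Lead X.L.Δ.hB Y r := by
  have hN : chevG2.nroots / 2 = 6 := rfl
  have hirr : ∀ r, chevG2.nroots / 2 ≤ r → r < chevG2.nroots → ∀ t' : F, t' ≠ 0 →
      xU X.L.Δ.hB r t' ∈ Y → RootIn X.L.Δ.hB Y r :=
    fun r hr hr' t' ht' hx => X.irr_of_chk hY irrChk_G2 hr hr' ht' hx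
  have hshort : ∀ r, 7 ≤ r → r ≤ 9 → Lead X.L.Δ.hB Y r := by
    intro r h1 h2
    apply X.lead_of_chk hY sepChk2_G2 (by omega) irrChk_G2 (by rw [hN]; omega)
      (by rw [nroots_G2]; omega)
    intro k hk
    simp only [excG2, List.mem_cons, Prod.mk.injEq, List.not_mem_nil, or_false] at hk
    omega
  have h11 : Lead X.L.Δ.hB Y 11 := by
    apply X.lead_of_peel hY (by rw [hN]; omega) (by rw [nroots_G2]; omega)
    · intro k hk hk'
      rw [nroots_G2] at hk'
      omega
    · exact hirr 11 (by rw [hN]; omega) (by rw [nroots_G2]; omega)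
  have h10 : Lead X.L.Δ.hB Y 10 := by
    apply X.lead_of_peel hY (by rw [hN]; omega) (by rw [nroots_G2]; omega)
    · intro k hk hk'
      rw [nroots_G2] at hk'
      have hk11 : k = 11 := by omega
      subst hk11
      exact X.peel_of_comm hY (r := 10) (k := 11) (b := 6) (by rw [hN]; omega)
        (by rw [nroots_G2]; omega) (by rw [hN]) (by rw [nroots_G2]; omega) (by omega) (by omega)
        (by rw [nroots_G2]; omega) (κ := 1) one_ne_zero (fun t w => cw_10_6 t w)
    · exact hirr 10 (by rw [hN]; omega) (by rw [nroots_G2]; omega)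
  have hlead : ∀ r, 7 ≤ r → r < 12 → Lead X.L.Δ.hB Y r := by
    intro r h1 h2
    by_cases h3 : r ≤ 9
    · exact hshort r h1 h3
    · have : r = 10 ∨ r = 11 := by omega
      rcases this with rfl | rfl
      · exact h10
      · exact h11
  -- the long fundamental root
  have h6 : Lead X.L.Δ.hB Y 6 := by
    apply X.lead_of_peel hY (by rw [hN]) (by rw [nroots_G2]; omega)
    · intro k hk hk'
      rw [nroots_G2] at hk'
      by_cases hk9 : k ≤ 9
      · apply X.peel_of_chk hY sepChk2_G2 (by omega) (by rw [hN]) hk (by rw [nroots_G2]; omega)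
        simp only [excG2, List.mem_cons, Prod.mk.injEq, List.not_mem_nil, or_false]
        omega
      · have hk' : k = 10 ∨ k = 11 := by omega
        rcases hk' with rfl | rfl
        · -- the composite step
          intro t ht y hy hxY
          set v := xU X.L.Δ.hB 7 (1 : F) with hv
          have hvU : v ∈ chevG2.posUnipotent F :=
            X.xU_pos_mem' (by rw [hN]; omega) (by rw [nroots_G2]; omega) 1
          have h6U : xU X.L.Δ.hB 6 t ∈ chevG2.posUnipotent F :=
            X.xU_pos_mem' (by rw [hN]) (by rw [nroots_G2]; omega) t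
          have hcomm := X.L.Δ.hC 6 (by decide) 7 (by decide) (by decide) (by decide) t 1
          have e1 : v * xU X.L.Δ.hB 6 t = xU X.L.Δ.hB 6 t * v *
              wordU X.L.Δ.hB (chevG2.commWord F 6 7 t 1) := by
            apply Units.ext
            simp only [Units.val_mul, xU_val, wordU_val, hv]
            exact hcomm
          have hvy := X.comm_Uge10_G2 hY 1 hy
          rw [← hv] at hvy
          -- the commutator word lies in `Y`
          have hg : v * (xU X.L.Δ.hB 6 t * y) * v⁻¹ * (xU X.L.Δ.hB 6 t * y)⁻¹ ∈ Y :=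
            Subgroup.mul_mem _ (hY.uni v hvU _ hxY) (Subgroup.inv_mem _ hxY)
          have e2 : v * (xU X.L.Δ.hB 6 t * y) * v⁻¹ * (xU X.L.Δ.hB 6 t * y)⁻¹ =
              xU X.L.Δ.hB 6 t * (v * wordU X.L.Δ.hB (chevG2.commWord F 6 7 t 1) * v⁻¹) *
                (xU X.L.Δ.hB 6 t)⁻¹ := by
            have hvy' : y * v⁻¹ = v⁻¹ * y := by
              rw [eq_inv_mul_iff_mul_eq, ← mul_assoc, hvy, mul_assoc, mul_inv_cancel, mul_one]
            have e3 : v * (xU X.L.Δ.hB 6 t * y) * v⁻¹ * (xU X.L.Δ.hB 6 t * y)⁻¹ =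
                (v * xU X.L.Δ.hB 6 t) * (y * v⁻¹) * y⁻¹ * (xU X.L.Δ.hB 6 t)⁻¹ := by group
            rw [e3, hvy', e1]
            group
          rw [e2] at hg
          have hg2 := hY.uni _ (Subgroup.inv_mem _ h6U) _ hg
          have hg3 := hY.uni _ (Subgroup.inv_mem _ hvU) _ hg2
          have e4 : v⁻¹ * ((xU X.L.Δ.hB 6 t)⁻¹ * (xU X.L.Δ.hB 6 t *
              (v * wordU X.L.Δ.hB (chevG2.commWord F 6 7 t 1) * v⁻¹) *
                (xU X.L.Δ.hB 6 t)⁻¹) * (xU X.L.Δ.hB 6 t)⁻¹⁻¹) * v⁻¹⁻¹ =
              wordU X.L.Δ.hB (chevG2.commWord F 6 7 t 1) := by group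
          rw [e4, cw_6_7] at hg3
          have hR10 : RootIn X.L.Δ.hB Y 10 := by
            have := X.rootIn_of_word hY 4 [(8, -t), (9, -t), (10, t), (11, -2 * t ^ 2)] rfl
              (by simp)
              (by
                intro p hp
                simp only [List.mem_cons, List.not_mem_nil, or_false] at hp
                rw [hN, nroots_G2]
                rcases hp with rfl | rfl | rfl | rfl <;> simp)
              (by
                intro p hp
                simp only [List.mem_cons, List.not_mem_nil, or_false] at hp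
                rcases hp with rfl | rfl | rfl | rfl
                · exact hlead 8 (by omega) (by omega)
                · exact hlead 9 (by omega) (by omega)
                · exact hlead 10 (by omega) (by omega)
                · exact hlead 11 (by omega) (by omega))
              hg3 (10, t) (by simp) ht
            exact this
          obtain ⟨u, y', hy', rfl⟩ := X.exists_mul (by rw [hN]; omega) hy
          refine ⟨t, ht, y', hy', ?_⟩
          have hy'U : y'⁻¹ ∈ chevG2.posUnipotent F :=
            Subgroup.inv_mem _ (X.Uge_le_pos (by rw [hN]; omega) hy')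
          have h1 := hY.uni _ hy'U _ (Subgroup.inv_mem _ (hR10 u))
          have e5 : xU X.L.Δ.hB 6 t * y' = (xU X.L.Δ.hB 6 t * (xU X.L.Δ.hB 10 u * y')) *
              (y'⁻¹ * (xU X.L.Δ.hB 10 u)⁻¹ * y'⁻¹⁻¹) := by group
          rw [e5]
          exact Subgroup.mul_mem _ hxY h1
        · exact X.peel_of_comm hY (r := 6) (k := 11) (b := 10) (by rw [hN])
            (by rw [nroots_G2]; omega) (by rw [hN]; omega) (by rw [nroots_G2]; omega) (by omega)
            (by omega) (by rw [nroots_G2]; omega) (κ := -1) (by simp) (fun t w => cw_6_10 t w)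
    · exact hirr 6 (by rw [hN]) (by rw [nroots_G2]; omega)
  intro r hr hr'
  rw [hN] at hr
  rw [nroots_G2] at hr'
  by_cases h : r = 6
  · subst h; exact h6
  · exact hlead r (by omega) hr'

end Cfsg.Agent.Helper12.ParCent.CData
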