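import Mathlib
import Cfsg.Agent.Helper12.BNCntG
import Cfsg.Agent.Helper12.WClC

set_option autoImplicit false
set_option linter.unusedSectionVars false
set_option linter.unusedSimpArgs false
set_option linter.unusedVariables false

/-!
# A weakly closed subgroup of `U` is a unipotent radical
-/

namespace Cfsg.Agent.Helper12.ParCent.CData

open Cfsg Cfsg.Lie Cfsg.Agent.Helper2 Cfsg.Agent.Helper6 Cfsg.Agent.Helper2.Levi
  Cfsg.Agent.Helper12.BNSt Cfsg.Agent.Helper12.BNCnt Cfsg.Agent.Helper12.ParCent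
  Cfsg.Agent.Helper12.WCl

variable {D : ChevalleyDatum} {F : Type*} [Field F] [Fintype F]

variable {C : List (List ℤ)} (X : CData D F C)
include X

/-- an element of `Y ∩ U_k` outside `U_{p_i}` forces `X_{p_i} ≤ Y` -/
theorem rootIn_simple_of_not_mem {Y : Subgroup (GL D.Idx F)}
    (hL : ∀ r, D.nroots / 2 ≤ r → r < D.nroots → Lead X.L.Δ.hB Y r) {i : ℕ} (hi : i < D.rank) :
    ∀ n k : ℕ, k + n = D.nroots → D.nroots / 2 ≤ k → ∀ y ∈ Y, y ∈ Uge D F k →
      y ∉ Uexc D F (D.simple i) → RootIn X.L.Δ.hB Y (D.simple i) := by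
  intro n
  induction n with
  | zero =>
    intro k hk _ y _ hyk hnot
    have hk' : k = D.nroots := by omega
    rw [hk', Uge_nroots, Subgroup.mem_bot] at hyk
    rw [hyk] at hnot
    exact absurd (Subgroup.one_mem _) hnot
  | succ n ih =>
    intro k hk hkN y hyY hyk hnot
    have hk' : k < D.nroots := by omega
    obtain ⟨a, y', hy', rfl⟩ := X.exists_mul hkN hyk
    by_cases ha : a = 0
    · rw [ha, xU_zero, one_mul] at hyY hnot
      exact ih (k + 1) (by omega) (by omega) y' hyY hy' hnot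
    · have hk_in := hL k hkN hk' a ha y' hy' hyY
      by_cases hks : k = D.simple i
      · rw [← hks]; exact hk_in
      · have hxexc : xU X.L.Δ.hB k a ∈ Uexc D F (D.simple i) :=
          Subgroup.subset_closure ⟨k, a, ((X.L.Δ.hsign k hk').1).2 hkN, hks, xU_val _ _ _⟩
        have hy'Y : y' ∈ Y := by
          have := Subgroup.mul_mem _ (Subgroup.inv_mem _ (hk_in a)) hyY
          rwa [inv_mul_cancel_left] at this
        apply ih (k + 1) (by omega) (by omega) y' hy'Y hy'
        intro hcon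
        exact hnot (Subgroup.mul_mem _ hxexc hcon)

/-- **Weakly closed subgroups of `U` are unipotent radicals**, given the leading term property and
the generation check. -/
theorem eq_radical_of_weaklyClosed (hchk : jreachChk D = true) {W : List (ℕ × ℕ)}
    (hG : genChk D W = true) (Y : Subgroup (GL D.Idx F)) (hYU : Y ≤ D.posUnipotent F)
    (hwc : ∀ g ∈ D.group F, Y.map (MulAut.conj g).toMonoidHom ≤ D.posUnipotent F →
      Y.map (MulAut.conj g).toMonoidHom = Y)
    (hL : Inv D F Y → ∀ r, D.nroots / 2 ≤ r → r < D.nroots → Lead X.L.Δ.hB Y r) :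
    ∃ J : Set ℕ, (∀ j ∈ J, j < D.rank) ∧ Y = D.unipotentRadical F J := by
  have Δ := X.L.Δ
  -- conjugation criterion from weak closure
  have hconj : ∀ g ∈ D.group F, (∀ y ∈ Y, g * y * g⁻¹ ∈ D.posUnipotent F) →
      g ∈ Subgroup.normalizer (Y : Set (GL D.Idx F)) := by
    intro g hg hgU
    have hle : Y.map (MulAut.conj g).toMonoidHom ≤ D.posUnipotent F := by
      rintro z ⟨y, hy, rfl⟩
      exact hgU y hy
    have heq := hwc g hg hle
    rw [Subgroup.mem_normalizer_iff]
    intro y
    constructor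
    · intro hy
      have : g * y * g⁻¹ ∈ Y.map (MulAut.conj g).toMonoidHom := ⟨y, hy, rfl⟩
      rwa [heq] at this
    · intro hy
      rw [← heq] at hy
      obtain ⟨y', hy', he⟩ := hy
      have he' : g * y' * g⁻¹ = g * y * g⁻¹ := he
      have : y' = y := by
        have := congrArg (fun z => g⁻¹ * z * g) he'
        simpa [mul_assoc] using this
      rwa [← this]
  have hnormU : D.borelSubgroup F ≤
      Subgroup.normalizer (D.posUnipotent F : Set (GL D.Idx F)) := by
    unfold ChevalleyDatum.borelSubgroup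
    exact sup_le Subgroup.le_normalizer
      (diagonal_le_normalizer_posUnipotent X.L.Δ.hB X.L.Δ.hAll X.L.Δ.hAdd X.L.Δ.hH)
  have hBN : D.borelSubgroup F ≤ Subgroup.normalizer (Y : Set (GL D.Idx F)) := by
    intro b hb
    apply hconj b (X.L.Δ.borel_le_group hb)
    intro y hy
    exact (Subgroup.mem_normalizer_iff.1 (hnormU hb) y).1 (hYU hy)
  have hInv : Inv D F Y := by
    refine ⟨hYU, ?_, ?_⟩
    · intro h hh y hy
      exact (Subgroup.mem_normalizer_iff.1 (hBN (X.L.Δ.diag_le_borel hh)) y).1 hy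
    · intro u hu y hy
      exact (Subgroup.mem_normalizer_iff.1 (hBN (X.L.Δ.posUnipotent_le_borel hu)) y).1 hy
  have hLead := hL hInv
  -- the set `J`
  set J : Set ℕ := {j | j < D.rank ∧ nU X.L.Δ.hB (D.simple j) (one_ne_zero (α := F)) ∈
    Subgroup.normalizer (Y : Set (GL D.Idx F))} with hJdef
  refine ⟨J, fun j hj => hj.1, ?_⟩
  have hPJ : D.parabolicSubgroup F J ≤ Subgroup.normalizer (Y : Set (GL D.Idx F)) := by
    unfold ChevalleyDatum.parabolicSubgroup
    refine sup_le hBN ?_
    rw [Subgroup.closure_le]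
    rintro g ⟨j, hjJ, hj, hg⟩
    have : g = nU X.L.Δ.hB (D.simple j) (one_ne_zero (α := F)) :=
      Units.ext (by rw [hg, nU_val])
    rw [this]
    exact hjJ.2
  apply le_antisymm
  · -- `Y ≤ U_J`
    intro y hy
    have hJ : genSet (D := D) (F := F) J ⊆ X.L.Δ.bnPair.S := genSet_subset J
    have hpar := parabolic_genSet X.L.Δ J
    obtain ⟨n₀, hn₀, hR, hRinv⟩ := exists_longest_sub (P := X.L.Δ.bnPair) hJ
    have hmP : (((n₀⁻¹ : ↥(X.L.Δ.bnPair.parabolic (genSet J))) : ↥(D.group F)) : GL D.Idx F) ∈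
        D.parabolicSubgroup F J := by
      have h1 := hpar.le (n₀⁻¹).2
      rw [Subgroup.mem_subgroupOf] at h1
      exact h1
    apply mem_radical_of_conj_mem X.L J hmP
      (fun r hr hin t => conj_neg_of_longest X.L hchk J (Subgroup.inv_mem _ hn₀) hRinv hr hin t)
      (hYU hy)
    apply X.L.Δ.posUnipotent_le_borel
    apply hYU
    exact (Subgroup.mem_normalizer_iff.1 (hPJ hmP) y).1 hy
  · -- `U_J ≤ Y`
    have hsimple : ∀ i < D.rank, i ∉ J → RootIn X.L.Δ.hB Y (D.simple i) := by
      intro i hi hiJ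
      -- `Y` is not contained in `U_{p_i}`
      have hex : ∃ y ∈ Y, y ∉ Uexc D F (D.simple i) := by
        by_contra hcon
        push Not at hcon
        apply hiJ
        refine ⟨hi, ?_⟩
        apply hconj _ (X.L.Δ.monomial_le_group
          (nU_one_mem_monomial X.L.Δ.hB (X.L.Δ.hAll i hi).hS.1))
        intro y hy
        have h1 := X.L.Δ.nU_conj_Uexc hi (hcon y hy)
        exact Uexc_le_posUnipotent X.L.Δ.hB X.L.Δ.hF X.L.Δ.hn X.L.Δ.hAll X.L.Δ.hAdd X.L.Δ.hH
          X.L.Δ.hReach hi (X.L.Δ.hR i hi) (X.L.Δ.hWp i hi) X.L.Δ.hC X.L.Δ.hsign'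
          (X.L.Δ.hpN i hi) (X.L.Δ.hnp hi) h1
      obtain ⟨y, hy, hnot⟩ := hex
      have hyU := hYU hy
      rw [X.U_eq] at hyU
      exact X.rootIn_simple_of_not_mem hLead hi (D.nroots - D.nroots / 2) (D.nroots / 2)
        (by have := X.L.Δ.even; omega) (le_refl _) y hy hyU hnot
    have hall := X.rootIn_of_gen hInv hLead hG J hsimple
    unfold ChevalleyDatum.unipotentRadical
    rw [Subgroup.closure_le]
    rintro g ⟨r, t, hr, hnin, hg⟩
    have hr' : r < D.nroots := hr.1
    have : g = xU X.L.Δ.hB r t := Units.ext (by rw [hg, xU_val])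
    rw [this]
    exact hall r (((X.L.Δ.hsign r hr').1).1 hr) hr' hnin t

end Cfsg.Agent.Helper12.ParCent.CData
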