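import Mathlib
import Cfsg.Agent.Helper12.ParCentD
import Cfsg.Agent.Helper12.WClE8
import Cfsg.Agent.Helper12.WClF
import Cfsg.Agent.Helper12.WClG

set_option autoImplicit false
set_option linter.unusedSectionVars false
set_option linter.unusedSimpArgs false
set_option linter.unusedVariables false

/-!
# Weakly closed subgroups of `U` in the tabulated Chevalley groups
-/

namespace Cfsg.Agent.Helper12.WCl

open Cfsg Cfsg.Lie Cfsg.Agent.Helper2 Cfsg.Agent.Helper6 Cfsg.Agent.Helper2.Levi
  Cfsg.Agent.Helper12.ParCent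

variable {F : Type*} [Field F] [Fintype F]

/-- a finite field with neither two nor three elements has more than three -/
theorem three_lt_card (h2 : Fintype.card F ≠ 2) (h3 : Fintype.card F ≠ 3) :
    3 < Fintype.card F := by
  have h1 : 1 < Fintype.card F := Fintype.one_lt_card
  omega

theorem two_lt_card (h2 : Fintype.card F ≠ 2) : 2 < Fintype.card F := by
  have h1 : 1 < Fintype.card F := Fintype.one_lt_card
  omega

/-- **Weakly closed subgroups of `U`**: the tabulated Chevalley groups. -/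
theorem weaklyClosed_of_tabulated (D : ChevalleyDatum) (hD : IsTabulated D)
    (h2 : Fintype.card F ≠ 2)
    (h3 : D ∈ [chevG2, chevB2, chevD4, chevF4] → Fintype.card F ≠ 3)
    (Y : Subgroup (GL D.Idx F)) (hYU : Y ≤ D.posUnipotent F)
    (hwc : ∀ g ∈ D.group F, Y.map (MulAut.conj g).toMonoidHom ≤ D.posUnipotent F →
      Y.map (MulAut.conj g).toMonoidHom = Y) :
    ∃ J : Set ℕ, (∀ j ∈ J, j < D.rank) ∧ Y = D.unipotentRadical F J := by
  have Δ := bnData_of_tabulated F hD
  have hO := ordOK_of_tabulated hD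
  have hD' := hD
  simp only [IsTabulated, List.mem_cons, List.not_mem_nil, or_false] at hD'
  rcases hD' with rfl | rfl | rfl | rfl | rfl | rfl | rfl
  · have X : CData chevG2 F cG2 := ⟨⟨Δ, signChk_G2⟩, posOrdChk2_G2, exChk_G2, hO⟩
    have hq := three_lt_card h2 (h3 (by simp))
    exact X.eq_radical_of_weaklyClosed jreachChk_G2 genChk_G2 Y hYU hwc
      (fun hInv => X.lead_G2 hInv hq)
  · have X : CData chevB2 F cB2 := ⟨⟨Δ, signChk_B2⟩, posOrdChk2_B2, exChk_B2, hO⟩
    have hq := three_lt_card h2 (h3 (by simp))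
    exact X.eq_radical_of_weaklyClosed jreachChk_B2 genChk_B2 Y hYU hwc
      (fun hInv r hr hr' => X.lead_of_chk hInv sepChk_B2 (by omega) irrChk_B2 hr hr'
        (fun k hk => by simp at hk))
  · have X : CData chevD4 F cD4 := ⟨⟨Δ, signChk_D4⟩, posOrdChk2_D4, exChk_D4, hO⟩
    have hq := three_lt_card h2 (h3 (by simp))
    exact X.eq_radical_of_weaklyClosed jreachChk_D4 genChk_D4 Y hYU hwc
      (fun hInv r hr hr' => X.lead_of_chk hInv sepChk_D4 (by omega) irrChk_D4 hr hr'
        (fun k hk => by simp at hk))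
  · have X : CData chevF4 F cF4 := ⟨⟨Δ, signChk_F4⟩, posOrdChk2_F4, exChk_F4, hO⟩
    have hq := three_lt_card h2 (h3 (by simp))
    exact X.eq_radical_of_weaklyClosed jreachChk_F4 genChk_F4 Y hYU hwc
      (fun hInv r hr hr' => X.lead_of_chk hInv sepChk_F4 (by omega) irrChk_F4 hr hr'
        (fun k hk => by simp at hk))
  · have X : CData chevE6 F cE6 := ⟨⟨Δ, signChk_E6⟩, posOrdChk2_E6, exChk_E6, hO⟩
    have hq := two_lt_card h2
    exact X.eq_radical_of_weaklyClosed jreachChk_E6 genChk_E6 Y hYU hwc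
      (fun hInv r hr hr' => X.lead_of_chk hInv sepChk_E6 (by omega) irrChk_E6 hr hr'
        (fun k hk => by simp at hk))
  · have X : CData chevE7 F cE7 := ⟨⟨Δ, signChk_E7⟩, posOrdChk2_E7, exChk_E7, hO⟩
    have hq := two_lt_card h2
    exact X.eq_radical_of_weaklyClosed jreachChk_E7 genChk_E7 Y hYU hwc
      (fun hInv r hr hr' => X.lead_of_chk hInv sepChk_E7 (by omega) irrChk_E7 hr hr'
        (fun k hk => by simp at hk))
  · have X : CData chevE8 F cE8 := ⟨⟨Δ, signChk_E8⟩, posOrdChk2_E8, exChk_E8, hO⟩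
    have hq := two_lt_card h2
    exact X.eq_radical_of_weaklyClosed jreachChk_E8 genChk_E8 Y hYU hwc
      (fun hInv r hr hr' => X.lead_of_chk hInv sepChk_E8 (by omega) irrChk_E8 hr hr'
        (fun k hk => by simp at hk))

end Cfsg.Agent.Helper12.WCl
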