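import Mathlib
import Cfsg.Prelude.Def_Characters
import Cfsg.Agent.Helper24.Rep
import Cfsg.Agent.Helper24.Regular
import Cfsg.Agent.Helper12.WGDefs
import Cfsg.Agent.Helper12.WGDefsC
import Cfsg.Agent.Helper12.WGDefsD
import Cfsg.Agent.Helper12.WGStruct
import Cfsg.Agent.Helper12.LSpWFin
import Cfsg.Agent.Helper20.WGWEILGEN
import Cfsg.Agent.Helper18.WGSPECNAT
import Cfsg.Agent.Helper18.WGCONV
import Cfsg.Agent.Helper18.WGGALL
import Cfsg.Agent.Helper7.WGHEISUNIQ
import Cfsg.Agent.Helper8.WGMULIN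

set_option autoImplicit false

/-! # S2524: Claim C (assembly CLAIMC): the irreducible characters of `Heis ⋊ Sp` with nontrivial
central character and spectrum of rank at most one -/

namespace Cfsg.Agent.S2524P

open Matrix Cfsg Cfsg.Agent.S2333P Cfsg.Agent.Helper2.Sp Cfsg.Agent.Helper12.LSp Cfsg.Agent.Helper25

variable {F : Type*} [Field F] [Fintype F]

theorem claimC_coe_add {n : ℕ} (A B : ↥(SymM n F)) (i j : Fin n) :
    (A + B).1 i j = A.1 i j + B.1 i j := by
  rw [AddSubgroup.coe_add, Matrix.add_apply]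

theorem claimC_coe_sub {n : ℕ} (A B : ↥(SymM n F)) (i j : Fin n) :
    (A - B).1 i j = A.1 i j - B.1 i j := by
  rw [AddSubgroup.coe_sub, Matrix.sub_apply]

theorem claimC_coe_neg {n : ℕ} (A : ↥(SymM n F)) (i j : Fin n) :
    (-A).1 i j = - A.1 i j := by
  rw [AddSubgroup.coe_neg, Matrix.neg_apply]

theorem claimC_symM_ext {n : ℕ} {A B : ↥(SymM n F)} (h : ∀ i j, A.1 i j = B.1 i j) : A = B := by
  apply Subtype.ext
  ext i j
  exact h i j

/-- `rk1 c 0 = 0` -/
theorem claimC_rk1_zero {n : ℕ} (c : F) : rk1 c (0 : Fin n → F) = 0 := by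
  apply claimC_symM_ext
  intro i j
  rw [rk1_apply]
  simp

/-- the matrix `rk1 (-z) (1; w)` is determined by its first row -/
theorem claimC_iff {m : ℕ} (z : F) (hz : z ≠ 0) (T : ↥(SymM (m + 1) F)) :
    (∃ w : Fin m → F, T = rk1 (-z) (Fin.cons 1 w)) ↔
      T.1 0 0 = -z ∧ qS T = rk1 (-z) (fun i => -z⁻¹ * T.1 0 i.succ) := by
  constructor
  · rintro ⟨w, rfl⟩
    refine ⟨?_, ?_⟩
    · rw [rk1_apply]; simp
    · apply claimC_symM_ext
      intro i j
      rw [qS_apply, rk1_apply, rk1_apply, rk1_apply, rk1_apply]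
      simp only [Fin.cons_succ, Fin.cons_zero]
      field_simp
  · rintro ⟨h0, hq⟩
    refine ⟨fun i => -z⁻¹ * T.1 0 i.succ, ?_⟩
    apply claimC_symM_ext
    intro i j
    refine Fin.cases ?_ (fun i' => ?_) i
    · refine Fin.cases ?_ (fun j' => ?_) j
      · rw [h0, rk1_apply]; simp
      · rw [rk1_apply]
        simp only [Fin.cons_succ, Fin.cons_zero]
        field_simp
    · refine Fin.cases ?_ (fun j' => ?_) j
      · rw [symM_symm, rk1_apply]
        simp only [Fin.cons_succ, Fin.cons_zero]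
        field_simp
      · have := congrArg (fun S : ↥(SymM m F) => S.1 i' j') hq
        simp only [qS_apply] at this
        rw [this, rk1_apply, rk1_apply]
        simp only [Fin.cons_succ]

/-- the common part: the Weil extension `η`, the twist `K`, and for every `ζ` the linear
character `μ` -/
theorem claimC_core (hodd : Odd (Fintype.card F)) (ψ : AddChar F ℂ) (hψ : ψ ≠ 1) {m : ℕ}
    (z : F) (hz : z ≠ 0) :
    ∃ (η : Gam m F → ℂ) (K : ↥(SymM m F)),
      (∀ (μ : ↥(symplecticGroup (Fin m) F) → ℂ) (T : ↥(SymM (m + 1) F)),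
        specU ψ (qt m F) (fun x : Gam m F => η x * μ x.right) T =
          open Classical in if T.1 0 0 = -z then
            spec ψ μ (qS T - rk1 (-z) (fun i => -z⁻¹ * T.1 0 i.succ) - K) else 0) ∧
      ∀ ζ : Gam m F → ℂ, IsIrrCharacter (Gam m F) ζ → LiesOver ψ ζ z → RankLeOne ψ (qt m F) ζ →
        ∃ μ : ↥(symplecticGroup (Fin m) F) → ℂ, IsIrrCharacter ↥(symplecticGroup (Fin m) F) μ ∧
          (ζ = fun x : Gam m F => η x * μ x.right) ∧ ∀ T', spec ψ μ T' ≠ 0 → T' = -K := by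
  classical
  have h2 : (2 : F) ≠ 0 := two_ne_zero_of_odd_card hodd
  have hφ : AddChar.mulShift ψ z ≠ 1 := AddChar.IsPrimitive.of_ne_one hψ hz
  obtain ⟨η, hη, hres⟩ := exists_weil_gen h2 (AddChar.mulShift ψ z) hφ m
  obtain ⟨K, hK⟩ := conv_spec hodd ψ hψ z hz η hη hres
  refine ⟨η, K, hK, ?_⟩
  intro ζ hζ hov hrk
  have hcf : IsClassFunction (Gam m F) ζ :=
    Helper24.IsCharacter.isClassFunction (Helper24.IsIrrCharacter.isCharacter hζ)
  have hq : (Fintype.card F : ℂ) ^ m ≠ 0 := by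
    apply pow_ne_zero
    exact_mod_cast Fintype.card_ne_zero
  have hk : ζ 1 / (Fintype.card F : ℂ) ^ m ≠ 0 :=
    div_ne_zero (Helper24.irr_one_ne_zero ⟨ζ, hζ⟩) hq
  obtain ⟨μ, hμ, hζμ⟩ := gallagher_gam h2 (AddChar.mulShift ψ z) hφ η hη hres ζ hζ _ hk
    (fun a => heis_uniq h2 ψ hψ z hz ζ hcf hov a)
  have hζeq : ζ = fun x : Gam m F => η x * μ x.right := funext hζμ
  refine ⟨μ, hμ, hζeq, ?_⟩
  intro T' hT'
  -- the matrix `T = rk1 (-z) (1; 0) + blk (K + T')` lies in the spectrum of `ζ`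
  set T : ↥(SymM (m + 1) F) := rk1 (-z) (Fin.cons 1 (0 : Fin m → F)) + blk (K + T') with hT
  have hT00 : T.1 0 0 = -z := by
    rw [hT, claimC_coe_add, blk_zero_left, rk1_apply]
    simp
  have hT0s : ∀ i : Fin m, T.1 0 i.succ = 0 := by
    intro i
    rw [hT, claimC_coe_add, blk_zero_left, rk1_apply]
    simp
  have hTq : qS T = K + T' := by
    apply claimC_symM_ext
    intro i j
    rw [qS_apply, hT, claimC_coe_add, blk_succ, rk1_apply]
    simp
  have hspec : specU ψ (qt m F) ζ T = spec ψ μ T' := by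
    rw [hζeq, hK μ T, if_pos hT00]
    congr 1
    have : (fun i : Fin m => -z⁻¹ * T.1 0 i.succ) = 0 := by
      funext i
      rw [hT0s i, mul_zero]
      rfl
    rw [this, claimC_rk1_zero, hTq]
    abel
  obtain ⟨c, x, hTx⟩ := hrk T (by rw [hspec]; exact hT')
  -- `T = rk1 c x` with vanishing first row off the diagonal: the lower block vanishes
  have hc00 : c * (x 0 * x 0) = -z := by
    rw [← rk1_apply, ← hTx, hT00]
  have hc : c ≠ 0 := by
    rintro rfl
    rw [zero_mul] at hc00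
    exact hz (neg_eq_zero.mp hc00.symm)
  have hx0 : x 0 ≠ 0 := by
    intro h
    rw [h, mul_zero, mul_zero] at hc00
    exact hz (neg_eq_zero.mp hc00.symm)
  have hxs : ∀ i : Fin m, x i.succ = 0 := by
    intro i
    have h3 := hT0s i
    rw [hTx, rk1_apply] at h3
    rcases mul_eq_zero.mp h3 with h4 | h4
    · exact absurd h4 hc
    · rcases mul_eq_zero.mp h4 with h5 | h5
      · exact absurd h5 hx0
      · exact h5
  have hq0 : qS T = 0 := by
    apply claimC_symM_ext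
    intro i j
    rw [qS_apply, hTx, rk1_apply, hxs i]
    simp
  rw [hTq] at hq0
  exact eq_neg_of_add_eq_zero_right hq0

/-- a linear character with one point spectrum has multiplicity one there -/
theorem claimC_spec_mu (hodd : Odd (Fintype.card F)) (ψ : AddChar F ℂ) (hψ : ψ ≠ 1) {m : ℕ}
    (hm : 1 ≤ m) (T₀ : ↥(SymM m F)) (μ : ↥(symplecticGroup (Fin m) F) → ℂ)
    (hμ : IsIrrCharacter ↥(symplecticGroup (Fin m) F) μ)
    (h : ∀ T, spec ψ μ T ≠ 0 → T = T₀) (T : ↥(SymM m F)) :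
    spec ψ μ T = open Classical in if T = T₀ then 1 else 0 := by
  classical
  have h2 : (2 : F) ≠ 0 := two_ne_zero_of_odd_card hodd
  have hμ1 : μ 1 = 1 := (mu_linear hodd ψ hψ hm T₀ μ μ hμ hμ h h).1
  obtain ⟨k, hk, hsum⟩ := specU_nat h2 ψ hψ (US m F) μ (Helper24.IsIrrCharacter.isCharacter hμ)
  have hk0 : ∀ T, T ≠ T₀ → k T = 0 := by
    intro T hT
    by_contra hne
    apply hT
    apply h
    show specU ψ (US m F) μ T ≠ 0
    rw [hk]
    exact_mod_cast hne
  have hs : ∑ T, k T = k T₀ := by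
    apply Finset.sum_eq_single T₀
    · intro T _ hT
      exact hk0 T hT
    · intro hh
      exact absurd (Finset.mem_univ _) hh
  rw [hμ1, hs] at hsum
  have hk1 : k T₀ = 1 := by exact_mod_cast hsum.symm
  by_cases hT : T = T₀
  · rw [if_pos hT, hT]
    show specU ψ (US m F) μ T₀ = 1
    rw [hk, hk1, Nat.cast_one]
  · rw [if_neg hT]
    show specU ψ (US m F) μ T = 0
    rw [hk, hk0 T hT, Nat.cast_zero]

/-- **CLAIMC**: the spectrum of an irreducible character with nontrivial central character and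
rank at most one -/
theorem claimC_spec (hodd : Odd (Fintype.card F)) (ψ : AddChar F ℂ) (hψ : ψ ≠ 1) {m : ℕ}
    (hm : 1 ≤ m) (z : F) (hz : z ≠ 0) (ζ : Gam m F → ℂ) (hζ : IsIrrCharacter (Gam m F) ζ)
    (hov : LiesOver ψ ζ z) (hrk : RankLeOne ψ (qt m F) ζ) (T : ↥(SymM (m + 1) F)) :
    specU ψ (qt m F) ζ T =
      open Classical in if ∃ w : Fin m → F, T = rk1 (-z) (Fin.cons 1 w) then 1 else 0 := by
  classical
  obtain ⟨η, K, hK, hall⟩ := claimC_core hodd ψ hψ (m := m) z hz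
  obtain ⟨μ, hμ, hζμ, hsp⟩ := hall ζ hζ hov hrk
  rw [hζμ, hK μ T]
  by_cases h0 : T.1 0 0 = -z
  · rw [if_pos h0, claimC_spec_mu hodd ψ hψ hm (-K) μ hμ hsp]
    by_cases hq : qS T = rk1 (-z) (fun i => -z⁻¹ * T.1 0 i.succ)
    · rw [if_pos ((claimC_iff z hz T).mpr ⟨h0, hq⟩), if_pos]
      rw [hq]
      abel
    · rw [if_neg (fun h => hq ((claimC_iff z hz T).mp h).2), if_neg]
      intro h
      apply hq
      have h3 : qS T - rk1 (-z) (fun i => -z⁻¹ * T.1 0 i.succ) = 0 := by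
        have := congrArg (· + K) h
        simp only [sub_add_cancel, neg_add_cancel] at this
        exact this
      exact sub_eq_zero.mp h3
  · rw [if_neg h0, if_neg (fun h => h0 ((claimC_iff z hz T).mp h).1)]

/-- **CLAIMC**: uniqueness -/
theorem claimC_unique (hodd : Odd (Fintype.card F)) (ψ : AddChar F ℂ) (hψ : ψ ≠ 1) {m : ℕ}
    (hm : 1 ≤ m) (z : F) (hz : z ≠ 0) (ζ ζ' : Gam m F → ℂ) (hζ : IsIrrCharacter (Gam m F) ζ)
    (hζ' : IsIrrCharacter (Gam m F) ζ') (hov : LiesOver ψ ζ z) (hov' : LiesOver ψ ζ' z)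
    (hrk : RankLeOne ψ (qt m F) ζ) (hrk' : RankLeOne ψ (qt m F) ζ') : ζ = ζ' := by
  obtain ⟨η, K, hK, hall⟩ := claimC_core hodd ψ hψ (m := m) z hz
  obtain ⟨μ, hμ, hζμ, hsp⟩ := hall ζ hζ hov hrk
  obtain ⟨μ', hμ', hζμ', hsp'⟩ := hall ζ' hζ' hov' hrk'
  have := (mu_linear hodd ψ hψ hm (-K) μ μ' hμ hμ' hsp hsp').2
  rw [hζμ, hζμ', this]

end Cfsg.Agent.S2524P
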