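import Mathlib
import Cfsg.Prelude.Def_Characters
import Cfsg.Agent.Helper8.CharComp
import Cfsg.Agent.Helper24.Rep
import Cfsg.Agent.Helper24.Linear
import Cfsg.Agent.Helper24.Orthogonality
import Cfsg.Agent.Helper12.WGDefs
import Cfsg.Agent.Helper12.WGDefsC
import Cfsg.Agent.Helper12.WGDefsD
import Cfsg.Agent.Helper12.WGStruct
import Cfsg.Agent.Helper12.LSpWFin
import Cfsg.Agent.Helper18.WGCONSTRANS
import Cfsg.Agent.Helper3.WGCENTCH
import Cfsg.Agent.Helper8.WGLEMB
import Cfsg.Agent.Helper25.WGFIXJ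
import Cfsg.Agent.Helper10.WGCOMPAT
import Cfsg.Agent.Helper14.WGSPECRIGHT
import Cfsg.Agent.Helper28.WGBLKCLASS
import Cfsg.Agent.Helper26.WGNONTRIV
import Cfsg.Agent.Helper12.WGClaimC

set_option autoImplicit false

/-! # S2524: the constituents of the restriction to the stabiliser of `e0` (assemblies CONSTIT,
PURECONST) -/

namespace Cfsg.Agent.S2524P

open Matrix Cfsg Cfsg.Agent.S2333P Cfsg.Agent.Helper2.Sp Cfsg.Agent.Helper12.LSp Cfsg.Agent.Helper25

variable {F : Type*} [Field F] [Fintype F]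

/-- the restriction to the stabiliser of `e0` is a character -/
theorem constit_isCharacter {m : ℕ} (χ : ↥(symplecticGroup (Fin (m + 1)) F) → ℂ)
    (hχ : IsIrrCharacter ↥(symplecticGroup (Fin (m + 1)) F) χ) :
    IsCharacter (Gam m F) (fun x : Gam m F => χ (iota m F x)) :=
  Helper8.isCharacter_comp (iota m F) (Helper24.IsIrrCharacter.isCharacter hχ)

/-- positivity: the spectrum of a constituent is contained in the spectrum of `χ` -/
theorem constit_spec_ne_zero {m : ℕ} (ψ : AddChar F ℂ)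
    (χ : ↥(symplecticGroup (Fin (m + 1)) F) → ℂ)
    (hχ : IsIrrCharacter ↥(symplecticGroup (Fin (m + 1)) F) χ) (ζ : Gam m F → ℂ)
    (hζ : IsIrrCharacter (Gam m F) ζ)
    (hn : classInner (fun x : Gam m F => χ (iota m F x)) ζ ≠ 0) (T : ↥(SymM (m + 1) F))
    (hT : specU ψ (qt m F) ζ T ≠ 0) : spec ψ χ T ≠ 0 := by
  have h := constituent_trans (qt m F) (fun x : Gam m F => χ (iota m F x))
    (constit_isCharacter χ hχ) ζ hζ hn (fun Y => lamT ψ T Y)
    (Helper24.isIrrCharacter_of_monoidHom (lamT ψ T)) hT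
  have e : (fun Y : Multiplicative ↥(SymM (m + 1) F) => χ (iota m F (qt m F Y))) =
      fun Y => χ (US (m + 1) F Y) := by
    funext Y
    rw [iota_qt]
  rw [e] at h
  exact h

/-- **CONSTIT**: the constituents of the restriction to the stabiliser of `e0` -/
theorem constit (hodd : Odd (Fintype.card F)) {m : ℕ} (hm : 1 ≤ m) (ψ : AddChar F ℂ) (hψ : ψ ≠ 1)
    (χ : ↥(symplecticGroup (Fin (m + 1)) F) → ℂ)
    (hχ : IsIrrCharacter ↥(symplecticGroup (Fin (m + 1)) F) χ) (h1 : χ ≠ (fun _ => 1))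
    (hrk : RankLeOne ψ (US (m + 1) F) χ) (ζ : Gam m F → ℂ) (hζ : IsIrrCharacter (Gam m F) ζ)
    (hn : classInner (fun x : Gam m F => χ (iota m F x)) ζ ≠ 0) :
    (∃ κ : ↥(symplecticGroup (Fin m) F) → ℂ, IsIrrCharacter ↥(symplecticGroup (Fin m) F) κ ∧
      κ ≠ (fun _ => 1) ∧ (∃ c : F, c ≠ 0 ∧ PureClass ψ (US m F) κ c) ∧
      ζ = fun x : Gam m F => κ x.right) ∨
    (∃ z : F, z ≠ 0 ∧ LiesOver ψ ζ z ∧ RankLeOne ψ (qt m F) ζ) := by
  have hrkζ : RankLeOne ψ (qt m F) ζ := fun T hT =>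
    hrk T (constit_spec_ne_zero ψ χ hχ ζ hζ hn T hT)
  obtain ⟨z, hz⟩ := exists_liesOver ψ hψ ζ hζ
  by_cases hz0 : z = 0
  · left
    subst hz0
    obtain ⟨κ, hκ, hζκ⟩ := lemB hodd ψ hψ ζ hζ hz hrkζ
    have hκ1 : κ ≠ (fun _ => 1) := by
      intro h
      apply hn
      have : ζ = fun _ => 1 := by
        rw [hζκ, h]
      rw [this]
      exact fixJ hodd hm ψ hψ χ hχ h1 hrk
    refine ⟨κ, hκ, hκ1, ?_, hζκ⟩
    apply compat hodd hm ψ hψ χ hχ h1 hrk κ hκ
    have hk : classInner (fun g : ↥(symplecticGroup (Fin m) F) =>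
        ζ ((SemidirectProduct.inr : ↥(symplecticGroup (Fin m) F) →* Gam m F) g)) κ ≠ 0 := by
      have e : (fun g : ↥(symplecticGroup (Fin m) F) =>
          ζ ((SemidirectProduct.inr : ↥(symplecticGroup (Fin m) F) →* Gam m F) g)) = κ := by
        funext g
        rw [hζκ]
        simp
      rw [e]
      have := Helper24.classInner_irr_self (⟨κ, hκ⟩ : IrrCharacter ↥(symplecticGroup (Fin m) F))
      rw [this]
      exact one_ne_zero
    have h := constituent_trans (SemidirectProduct.inr : ↥(symplecticGroup (Fin m) F) →* Gam m F)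
      (fun x : Gam m F => χ (iota m F x)) (constit_isCharacter χ hχ) ζ hζ hn κ hκ hk
    have e : (fun g : ↥(symplecticGroup (Fin m) F) =>
        χ (iota m F ((SemidirectProduct.inr : ↥(symplecticGroup (Fin m) F) →* Gam m F) g))) =
        fun g => χ (jj m F (1, g)) := by
      funext g
      rw [iota_inr]
    rw [e] at h
    exact h
  · right
    exact ⟨z, hz0, hz, hrkζ⟩

/-- **PURECONST**: every constituent is of pure class and has a nontrivial spectrum -/
theorem pure_constituent (hodd : Odd (Fintype.card F)) {m : ℕ} (hm : 1 ≤ m) (ψ : AddChar F ℂ)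
    (hψ : ψ ≠ 1) (χ : ↥(symplecticGroup (Fin (m + 1)) F) → ℂ)
    (hχ : IsIrrCharacter ↥(symplecticGroup (Fin (m + 1)) F) χ) (h1 : χ ≠ (fun _ => 1))
    (hrk : RankLeOne ψ (US (m + 1) F) χ) (ζ : Gam m F → ℂ) (hζ : IsIrrCharacter (Gam m F) ζ)
    (hn : classInner (fun x : Gam m F => χ (iota m F x)) ζ ≠ 0) :
    ∃ c : F, c ≠ 0 ∧ PureClass ψ (qt m F) ζ c ∧
      ∃ T : ↥(SymM (m + 1) F), T ≠ 0 ∧ specU ψ (qt m F) ζ T ≠ 0 := by
  classical
  have h2 : (2 : F) ≠ 0 := two_ne_zero_of_odd_card hodd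
  rcases constit hodd hm ψ hψ χ hχ h1 hrk ζ hζ hn with
    ⟨κ, hκ, hκ1, ⟨c, hc, hpκ⟩, hζκ⟩ | ⟨z, hz0, hov, hrkζ⟩
  · refine ⟨c, hc, ?_, ?_⟩
    · intro T hT
      rw [hζκ, specU_qt_right h2 ψ hψ κ T] at hT
      by_cases hrow : ∀ j, T.1 0 j = 0
      · rw [if_pos hrow] at hT
        rcases hpκ (qS T) hT with h0 | hcl
        · left
          rw [eq_blk_of_row_zero T hrow, h0, blk_zero]
        · right
          rw [eq_blk_of_row_zero T hrow, ofClass_blk hc]
          exact hcl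
      · rw [if_neg hrow] at hT
        exact absurd rfl hT
    · obtain ⟨T', hT'0, hT's⟩ := exists_spec_ne_zero hodd hm ψ hψ κ hκ hκ1
      refine ⟨blk T', fun h => hT'0 ((blk_eq_zero_iff T').mp h), ?_⟩
      rw [hζκ, specU_qt_right h2 ψ hψ κ (blk T'), if_pos (fun j => blk_zero_left T' j), qS_blk]
      exact hT's
  · have hnz : -z ≠ 0 := neg_ne_zero.mpr hz0
    refine ⟨-z, hnz, ?_, ?_⟩
    · intro T hT
      rw [claimC_spec hodd ψ hψ hm z hz0 ζ hζ hov hrkζ T] at hT
      by_cases hw : ∃ w : Fin m → F, T = rk1 (-z) (Fin.cons 1 w)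
      · right
        obtain ⟨w, rfl⟩ := hw
        refine ⟨Fin.cons 1 w, ?_, rfl⟩
        intro h
        have := congrFun h 0
        simp at this
      · rw [if_neg hw] at hT
        exact absurd rfl hT
    · refine ⟨rk1 (-z) (Fin.cons 1 (0 : Fin m → F)), ?_, ?_⟩
      · intro h
        have h3 := congrArg (fun T : ↥(SymM (m + 1) F) => T.1 0 0) h
        simp only [rk1_apply, Fin.cons_zero, mul_one] at h3
        exact hnz h3
      · rw [claimC_spec hodd ψ hψ hm z hz0 ζ hζ hov hrkζ, if_pos ⟨0, rfl⟩]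
        exact one_ne_zero

end Cfsg.Agent.S2524P
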