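import Mathlib
import Cfsg.Prelude.Def_Characters
import Cfsg.Agent.Helper12.LSLDefs
import Cfsg.Agent.Helper18.LSLPROJA
import Cfsg.Agent.Helper18.LSLPROJB
import Cfsg.Agent.Helper18.LSLPROJC
import Cfsg.Agent.Helper20.PermCharI
import Cfsg.Agent.Helper19.WGTRACEPROD

set_option autoImplicit false

/-! # S2524, assembly SINGLE, part A: generic lemmas on the isotypic idempotents of a group `J`
and the eigenprojections of an abelian subgroup `U(A)` -/

namespace Cfsg.Agent.S2524P

open Cfsg Cfsg.Agent.Helper12.LSL Cfsg.Agent.Helper20.PermChar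

section generic

variable {J : Type*} [Group J] [Fintype J] {V : Type*} [AddCommGroup V] [Module ℂ V]
  [FiniteDimensional ℂ V] {A : Type*} [Group A] [Fintype A]

/-- an idempotent of trace zero vanishes -/
theorem single_idem_eq_zero (e : Module.End ℂ V) (he : e * e = e)
    (ht : LinearMap.trace ℂ V e = 0) : e = 0 := by
  have hid : IsIdempotentElem e := he
  have hp := (LinearMap.isProj_range_iff_isIdempotentElem e).mpr hid
  have h1 := hp.trace
  rw [ht] at h1
  have h2 : Module.finrank ℂ (LinearMap.range e) = 0 := by exact_mod_cast h1.symm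
  have h3 : LinearMap.range e = ⊥ := Submodule.finrank_eq_zero.mp h2
  exact LinearMap.range_eq_bot.mp h3

omit [FiniteDimensional ℂ V] in
/-- the isotypic idempotents of `J` commute with the eigenprojections of `U(A)` -/
theorem single_centIdem_comm_projOp (σ : Representation ℂ J V) (U : A →* J) (l : A →* ℂ)
    (ζ : IrrCharacter J) :
    centIdem σ (ζ : J → ℂ) * projOp σ U l = projOp σ U l * centIdem σ (ζ : J → ℂ) := by
  unfold projOp
  rw [mul_smul_comm, smul_mul_assoc, Finset.mul_sum, Finset.sum_mul]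
  congr 1
  refine Finset.sum_congr rfl fun a _ => ?_
  rw [mul_smul_comm, smul_mul_assoc, centIdem_comm σ ζ (U a)]

/-- the product of an isotypic idempotent and an eigenprojection is idempotent -/
theorem single_prod_idem (σ : Representation ℂ J V) (U : A →* J) (l : A →* ℂ)
    (ζ : IrrCharacter J) :
    (centIdem σ (ζ : J → ℂ) * projOp σ U l) * (centIdem σ (ζ : J → ℂ) * projOp σ U l) =
      centIdem σ (ζ : J → ℂ) * projOp σ U l := by
  classical
  have hC : centIdem σ (ζ : J → ℂ) * centIdem σ (ζ : J → ℂ) = centIdem σ (ζ : J → ℂ) := by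
    rw [centIdem_mul, if_pos rfl]
  have hP : projOp σ U l * projOp σ U l = projOp σ U l := by
    rw [Module.End.mul_eq_comp]
    exact projOp_comp_self σ U l
  calc (centIdem σ (ζ : J → ℂ) * projOp σ U l) * (centIdem σ (ζ : J → ℂ) * projOp σ U l)
      = centIdem σ (ζ : J → ℂ) * (projOp σ U l * centIdem σ (ζ : J → ℂ)) * projOp σ U l := by
        simp only [mul_assoc]
    _ = centIdem σ (ζ : J → ℂ) * (centIdem σ (ζ : J → ℂ) * projOp σ U l) * projOp σ U l := by
        rw [single_centIdem_comm_projOp]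
    _ = (centIdem σ (ζ : J → ℂ) * centIdem σ (ζ : J → ℂ)) * (projOp σ U l * projOp σ U l) := by
        simp only [mul_assoc]
    _ = centIdem σ (ζ : J → ℂ) * projOp σ U l := by rw [hC, hP]

/-- the product vanishes when the multiplicities do -/
theorem single_prod_eq_zero (σ : Representation ℂ J V) (U : A →* J) (l : A →* ℂ)
    (ζ : IrrCharacter J)
    (h : classInner σ.character (ζ : J → ℂ) *
      classInner (fun a => (ζ : J → ℂ) (U a)) (fun a => l a) = 0) :
    centIdem σ (ζ : J → ℂ) * projOp σ U l = 0 := by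
  apply single_idem_eq_zero _ (single_prod_idem σ U l ζ)
  rw [trace_centIdem_projOp, h]

/-- if all constituents outside `S` miss `l`, then `E = ∑_{ζ ∈ S} e_ζ` is the identity on the
`l`-eigenspace -/
theorem single_E_mul_P_eq [Fintype (IrrCharacter J)] (σ : Representation ℂ J V) (U : A →* J)
    (l : A →* ℂ) (S : Finset (IrrCharacter J))
    (h : ∀ ζ : IrrCharacter J, ζ ∉ S → classInner σ.character (ζ : J → ℂ) *
      classInner (fun a => (ζ : J → ℂ) (U a)) (fun a => l a) = 0) :
    (∑ ζ ∈ S, centIdem σ (ζ : J → ℂ)) * projOp σ U l = projOp σ U l := by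
  classical
  have h1 : projOp σ U l = (∑ ζ : IrrCharacter J, centIdem σ (ζ : J → ℂ)) * projOp σ U l := by
    rw [sum_centIdem, one_mul]
  conv_rhs => rw [h1]
  rw [Finset.sum_mul, Finset.sum_mul]
  apply Finset.sum_subset (Finset.subset_univ S)
  intro ζ _ hζ
  exact single_prod_eq_zero σ U l ζ (h ζ hζ)

/-- if all constituents in `S` miss `l`, then `E = ∑_{ζ ∈ S} e_ζ` kills the `l`-eigenspace -/
theorem single_E_mul_P_zero (σ : Representation ℂ J V) (U : A →* J)
    (l : A →* ℂ) (S : Finset (IrrCharacter J))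
    (h : ∀ ζ : IrrCharacter J, ζ ∈ S → classInner σ.character (ζ : J → ℂ) *
      classInner (fun a => (ζ : J → ℂ) (U a)) (fun a => l a) = 0) :
    (∑ ζ ∈ S, centIdem σ (ζ : J → ℂ)) * projOp σ U l = 0 := by
  rw [Finset.sum_mul]
  apply Finset.sum_eq_zero
  intro ζ hζ
  exact single_prod_eq_zero σ U l ζ (h ζ hζ)

omit [FiniteDimensional ℂ V] in
/-- `E` commutes with the action of `J` -/
theorem single_E_comm (σ : Representation ℂ J V) (S : Finset (IrrCharacter J)) (x : J) :
    σ x * (∑ ζ ∈ S, centIdem σ (ζ : J → ℂ)) = (∑ ζ ∈ S, centIdem σ (ζ : J → ℂ)) * σ x := by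
  rw [Finset.mul_sum, Finset.sum_mul]
  refine Finset.sum_congr rfl fun ζ _ => ?_
  exact centIdem_comm σ ζ x

omit [FiniteDimensional ℂ V] in
/-- `E` commutes with the eigenprojections -/
theorem single_E_comm_P (σ : Representation ℂ J V) (U : A →* J) (l : A →* ℂ)
    (S : Finset (IrrCharacter J)) :
    (∑ ζ ∈ S, centIdem σ (ζ : J → ℂ)) * projOp σ U l =
      projOp σ U l * (∑ ζ ∈ S, centIdem σ (ζ : J → ℂ)) := by
  rw [Finset.mul_sum, Finset.sum_mul]
  refine Finset.sum_congr rfl fun ζ _ => ?_
  exact single_centIdem_comm_projOp σ U l ζ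

end generic

end Cfsg.Agent.S2524P
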