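import Mathlib
import Cfsg.Prelude.Def_Characters
import Cfsg.Agent.Helper12.LSLDefs
import Cfsg.Agent.Helper18.LSLPROJA
import Cfsg.Agent.Helper18.LSLPROJB
import Cfsg.Agent.Helper18.LSLPROJC
import Cfsg.Agent.Helper25.SpUH
import Cfsg.Agent.Helper25.SpUE
import Cfsg.Agent.Helper12.TVG
import Cfsg.Agent.Helper12.WGDefs
import Cfsg.Agent.Helper12.WGDefsC
import Cfsg.Agent.Helper12.WGDefsD
import Cfsg.Agent.Helper12.WGStruct
import Cfsg.Agent.Helper12.WGSingleA
import Cfsg.Agent.Helper18.WGDUAL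
import Cfsg.Agent.Helper15.WGLINV
import Cfsg.Agent.Helper22.WGCLASS

set_option autoImplicit false

/-! # S2524, assembly SINGLE, part B: the eigenprojections of the Siegel radical and the action of
the Levi subgroup `SL_n` on them -/

namespace Cfsg.Agent.S2524P

open Matrix Cfsg Cfsg.Agent.S2333P Cfsg.Agent.Helper2.Sp Cfsg.Agent.Helper12.LSp Cfsg.Agent.Helper25
open Cfsg.Agent.Helper12.LSL

variable {F : Type*} [Field F] [Fintype F]

section

variable {n : ℕ} {V : Type*} [AddCommGroup V] [Module ℂ V] [FiniteDimensional ℂ V]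

/-- the eigenprojection of the Siegel radical for the character `lamT ψ T` -/
noncomputable def singleP (ψ : AddChar F ℂ) (ρ : Representation ℂ ↥(symplecticGroup (Fin n) F) V)
    (T : ↥(SymM n F)) : Module.End ℂ V :=
  projOp ρ (US n F) (lamT ψ T)

theorem singleP_trace (ψ : AddChar F ℂ) (ρ : Representation ℂ ↥(symplecticGroup (Fin n) F) V)
    (T : ↥(SymM n F)) : LinearMap.trace ℂ V (singleP ψ ρ T) = spec ψ ρ.character T :=
  trace_projOp ρ (US n F) (lamT ψ T)

theorem singleP_idem (ψ : AddChar F ℂ) (ρ : Representation ℂ ↥(symplecticGroup (Fin n) F) V)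
    (T : ↥(SymM n F)) : singleP ψ ρ T * singleP ψ ρ T = singleP ψ ρ T := by
  rw [Module.End.mul_eq_comp]
  exact projOp_comp_self ρ (US n F) (lamT ψ T)

theorem singleP_eq_zero (ψ : AddChar F ℂ) (ρ : Representation ℂ ↥(symplecticGroup (Fin n) F) V)
    (T : ↥(SymM n F)) (h : spec ψ ρ.character T = 0) : singleP ψ ρ T = 0 := by
  apply single_idem_eq_zero _ (singleP_idem ψ ρ T)
  rw [singleP_trace, h]

theorem singleP_ne_zero (ψ : AddChar F ℂ) (ρ : Representation ℂ ↥(symplecticGroup (Fin n) F) V)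
    (T : ↥(SymM n F)) (h : spec ψ ρ.character T ≠ 0) : singleP ψ ρ T ≠ 0 := by
  intro h0
  apply h
  rw [← singleP_trace, h0, map_zero]

theorem singleP_sum (h2 : (2 : F) ≠ 0) (ψ : AddChar F ℂ) (hψ : ψ ≠ 1)
    (ρ : Representation ℂ ↥(symplecticGroup (Fin n) F) V) :
    ∑ T : ↥(SymM n F), singleP ψ ρ T = 1 := by
  have := sum_projOp ρ (US n F) (fun T : ↥(SymM n F) => lamT ψ T)
    (fun a ha => by
      have h3 := sum_lamT_eq_zero h2 ψ hψ (Multiplicative.toAdd a) (fun h => ha (by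
        rw [← ofAdd_toAdd a, h]; rfl))
      rw [ofAdd_toAdd] at h3
      exact h3)
    (by rw [Fintype.card_multiplicative])
  exact this

/-- the vectors in the range of `singleP ψ ρ 0` are fixed by the radical -/
theorem singleP_zero_fixed (ψ : AddChar F ℂ) (ρ : Representation ℂ ↥(symplecticGroup (Fin n) F) V)
    (v : V) (a : Multiplicative ↥(SymM n F)) :
    ρ (US n F a) (singleP ψ ρ 0 v) = singleP ψ ρ 0 v := by
  have h := LinearMap.congr_fun (rho_comp_projOp ρ (US n F) (lamT ψ 0) a) v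
  rw [LinearMap.comp_apply, LinearMap.smul_apply] at h
  have h1 : lamT ψ (0 : ↥(SymM n F)) a = 1 := by
    show ψ (Matrix.trace (((0 : ↥(SymM n F)) : Matrix (Fin n) (Fin n) F) *
      (Multiplicative.toAdd a).1)) = 1
    rw [AddSubgroup.coe_zero, Matrix.zero_mul, Matrix.trace_zero, AddChar.map_zero_eq_one]
  rw [h1, one_smul] at h
  exact h

end

/-- congruence by an invertible matrix as a permutation of the symmetric matrices -/
def singleCong {n : ℕ} (D D' : Matrix (Fin n) (Fin n) F) (h1 : D' * D = 1) (h2 : D * D' = 1) :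
    ↥(SymM n F) ≃ ↥(SymM n F) where
  toFun := congS D
  invFun := congS D'
  left_inv T := by
    apply Subtype.ext
    rw [congS_val, congS_val]
    calc D' * (D * T.1 * Dᵀ) * D'ᵀ = (D' * D) * T.1 * (D' * D)ᵀ := by
          rw [transpose_mul]; simp only [Matrix.mul_assoc]
      _ = T.1 := by rw [h1, transpose_one, Matrix.one_mul, Matrix.mul_one]
  right_inv T := by
    apply Subtype.ext
    rw [congS_val, congS_val]
    calc D * (D' * T.1 * D'ᵀ) * Dᵀ = (D * D') * T.1 * (D * D')ᵀ := by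
          rw [transpose_mul]; simp only [Matrix.mul_assoc]
      _ = T.1 := by rw [h2, transpose_one, Matrix.one_mul, Matrix.mul_one]

theorem singleCong_apply {n : ℕ} (D D' : Matrix (Fin n) (Fin n) F) (h1 : D' * D = 1)
    (h2 : D * D' = 1) (T : ↥(SymM n F)) : singleCong D D' h1 h2 T = congS D T := rfl

omit [Fintype F] in
/-- congruence preserves the classes -/
theorem single_ofClass_congS {n : ℕ} (D D' : Matrix (Fin n) (Fin n) F) (h1 : D' * D = 1) (c : F)
    (T : ↥(SymM n F)) (h : OfClass c T) : OfClass c (congS D T) := by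
  obtain ⟨x, hx, rfl⟩ := h
  refine ⟨D *ᵥ x, ?_, congS_rk1 D c x⟩
  intro h0
  apply hx
  have : D' *ᵥ (D *ᵥ x) = x := by
    rw [Matrix.mulVec_mulVec, h1, Matrix.one_mulVec]
  rw [← this, h0, Matrix.mulVec_zero]

omit [Fintype F] in
theorem single_ofClass_congS_iff {n : ℕ} (D D' : Matrix (Fin n) (Fin n) F) (h1 : D' * D = 1)
    (h2 : D * D' = 1) (c : F) (T : ↥(SymM n F)) : OfClass c (congS D T) ↔ OfClass c T := by
  constructor
  · intro h
    have := single_ofClass_congS D' D h2 c _ h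
    have e : congS D' (congS D T) = T := (singleCong D D' h1 h2).left_inv T
    rw [e] at this
    exact this
  · exact single_ofClass_congS D D' h1 c T

section

variable {n : ℕ} {V : Type*} [AddCommGroup V] [Module ℂ V] [FiniteDimensional ℂ V]

omit [FiniteDimensional ℂ V] in
/-- the Levi element `Lam A` permutes the eigenprojections -/
theorem singleP_conj (ψ : AddChar F ℂ) (ρ : Representation ℂ ↥(symplecticGroup (Fin n) F) V)
    (A : Matrix.SpecialLinearGroup (Fin n) F) (T : ↥(SymM n F)) :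
    ρ (SpU.Lam A) * singleP ψ ρ T = singleP ψ ρ (congS ((A⁻¹).1)ᵀ T) * ρ (SpU.Lam A) := by
  have hA1 : (A⁻¹).1 * A.1 = 1 := Cfsg.Agent.Helper12.TVG.coe_inv_mul A
  have hA2 : A.1 * (A⁻¹).1 = 1 := Cfsg.Agent.Helper12.TVG.coe_mul_inv A
  -- the permutation of the radical
  let e : Multiplicative ↥(SymM n F) ≃ Multiplicative ↥(SymM n F) :=
    (Multiplicative.toAdd.trans (singleCong A.1 (A⁻¹).1 hA1 hA2)).trans Multiplicative.ofAdd
  have he : ∀ a, US n F (e a) = SpU.Lam A * US n F a * (SpU.Lam A)⁻¹ := by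
    intro a
    have h := SpU.lev_conj (SpU.Lam_aux A) (Multiplicative.toAdd a).2
    show SpU.uSg (A.1 * (Multiplicative.toAdd a).1 * A.1ᵀ) = _
    rw [← h]
    rfl
  have hl : ∀ a, lamT ψ (congS ((A⁻¹).1)ᵀ T) (e a) = lamT ψ T a := by
    intro a
    show ψ (Matrix.trace ((((A⁻¹).1)ᵀ * T.1 * (((A⁻¹).1)ᵀ)ᵀ) *
      (A.1 * (Multiplicative.toAdd a).1 * A.1ᵀ))) = ψ (Matrix.trace (T.1 * (Multiplicative.toAdd a).1))
    congr 1
    rw [transpose_transpose]
    have h3 : A.1ᵀ * ((A⁻¹).1)ᵀ = 1 := by rw [← transpose_mul, hA1, transpose_one]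
    calc Matrix.trace (((A⁻¹).1)ᵀ * T.1 * (A⁻¹).1 * (A.1 * (Multiplicative.toAdd a).1 * A.1ᵀ))
        = Matrix.trace (((A⁻¹).1)ᵀ * (T.1 * ((A⁻¹).1 * A.1) * (Multiplicative.toAdd a).1 * A.1ᵀ)) := by
          simp only [Matrix.mul_assoc]
      _ = Matrix.trace ((T.1 * ((A⁻¹).1 * A.1) * (Multiplicative.toAdd a).1 * A.1ᵀ) * ((A⁻¹).1)ᵀ) := by
          rw [Matrix.trace_mul_comm]
      _ = Matrix.trace (T.1 * (Multiplicative.toAdd a).1 * (A.1ᵀ * ((A⁻¹).1)ᵀ)) := by
          rw [hA1, Matrix.mul_one]; simp only [Matrix.mul_assoc]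
      _ = Matrix.trace (T.1 * (Multiplicative.toAdd a).1) := by rw [h3, Matrix.mul_one]
  have := rho_conj_projOp ρ (US n F) (lamT ψ T) (lamT ψ (congS ((A⁻¹).1)ᵀ T)) (SpU.Lam A) e he hl
  exact this

end

end Cfsg.Agent.S2524P
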