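import Mathlib
import Cfsg.Prelude.Def_Characters
import Cfsg.Agent.Helper8.SchurCommute
import Cfsg.Agent.Helper8.CharComp
import Cfsg.Agent.Helper24.Rep
import Cfsg.Agent.Helper12.LSpWFin
import Cfsg.Agent.Helper12.WGSingleA
import Cfsg.Agent.Helper12.WGSingleB
import Cfsg.Agent.Helper12.WGConstit
import Cfsg.Agent.Helper8.WGKEYB
import Cfsg.Agent.Helper22.WGGEN
import Cfsg.Agent.Helper25.WGFIXJ

set_option autoImplicit false

/-! # S2524, assembly SINGLE: only one class occurs in the spectrum of an irreducible character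
with spectrum of rank at most one -/

namespace Cfsg.Agent.S2524P

open Matrix Cfsg Cfsg.Agent.S2333P Cfsg.Agent.Helper2.Sp Cfsg.Agent.Helper12.LSp Cfsg.Agent.Helper25
open Cfsg.Agent.Helper12.LSL Cfsg.Agent.Helper20.PermChar

variable {F : Type*} [Field F] [Fintype F]

omit [Fintype F] in
theorem single_sq_classes [Fintype F] {ε c : F} (hε : ¬ IsSquare ε) (hc : c ≠ 0) :
    (∃ t : F, t ≠ 0 ∧ c = 1 * t ^ 2) ∨ ∃ t : F, t ≠ 0 ∧ c = ε * t ^ 2 := by
  classical
  have hε0 : ε ≠ 0 := by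
    rintro rfl
    exact hε ⟨0, by simp⟩
  by_cases hsq : IsSquare c
  · left
    obtain ⟨t, ht⟩ := hsq
    refine ⟨t, ?_, by rw [ht]; ring⟩
    rintro rfl
    exact hc (by rw [ht, mul_zero])
  · right
    have h1 : quadraticChar F c = -1 := quadraticChar_neg_one_iff_not_isSquare.2 hsq
    have h2 : quadraticChar F ε = -1 := quadraticChar_neg_one_iff_not_isSquare.2 hε
    have h3 : quadraticChar F (c * ε⁻¹) = 1 := by
      have h4 : quadraticChar F (ε⁻¹) * quadraticChar F ε = 1 := by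
        rw [← map_mul, inv_mul_cancel₀ hε0, map_one]
      rw [h2] at h4
      have h5 : quadraticChar F (ε⁻¹) = -1 := by linarith
      rw [map_mul, h1, h5]; norm_num
    have hne : c * ε⁻¹ ≠ 0 := mul_ne_zero hc (inv_ne_zero hε0)
    obtain ⟨t, ht⟩ := (quadraticChar_one_iff_isSquare hne).1 h3
    have ht0 : t ≠ 0 := by
      rintro rfl
      exact hne (by rw [ht, mul_zero])
    refine ⟨t, ht0, ?_⟩
    rw [pow_two, ← ht]; field_simp

/-- the eigenprojections of the radical, seen from the stabiliser of `e0` -/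
theorem single_projOp_eq {m : ℕ} {V : Type*} [AddCommGroup V] [Module ℂ V]
    (ψ : AddChar F ℂ) (ρ : Representation ℂ ↥(symplecticGroup (Fin (m + 1)) F) V)
    (T : ↥(SymM (m + 1) F)) :
    projOp (ρ.comp (iota m F)) (qt m F) (lamT ψ T) = singleP ψ ρ T := by
  unfold singleP projOp
  congr 1
  refine Finset.sum_congr rfl fun a _ => ?_
  congr 1
  show ρ (iota m F (qt m F a)) = ρ (US (m + 1) F a)
  rw [iota_qt]

/-- **SINGLE**, the module argument: if a matrix of class `1` occurs in the spectrum, then no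
nonzero matrix of another class does -/
theorem single_module (hodd : Odd (Fintype.card F)) {m : ℕ} (hm : 1 ≤ m) (ψ : AddChar F ℂ)
    (hψ : ψ ≠ 1) (k : ℕ)
    (ρ : Representation ℂ ↥(symplecticGroup (Fin (m + 1)) F) (Fin k → ℂ)) (hρ : ρ.IsIrreducible)
    (h1 : ρ.character ≠ (fun _ => 1)) (hrk : RankLeOne ψ (US (m + 1) F) ρ.character)
    (T₁ : ↥(SymM (m + 1) F)) (hT₁ : OfClass 1 T₁) (hs₁ : spec ψ ρ.character T₁ ≠ 0)
    (T : ↥(SymM (m + 1) F)) (hT0 : T ≠ 0) (hTc : ¬ OfClass 1 T) : spec ψ ρ.character T = 0 := by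
  classical
  have h2 : (2 : F) ≠ 0 := two_ne_zero_of_odd_card hodd
  haveI := hρ
  haveI : Fintype (IrrCharacter (Gam m F)) := Fintype.ofFinite _
  have hχ : IsIrrCharacter ↥(symplecticGroup (Fin (m + 1)) F) ρ.character := ⟨k, ρ, hρ, rfl⟩
  set σ : Representation ℂ (Gam m F) (Fin k → ℂ) := ρ.comp (iota m F) with hσ
  have hσchar : σ.character = fun x : Gam m F => ρ.character (iota m F x) := rfl
  -- the set of constituents of class `1` and the idempotent `E`
  set S : Finset (IrrCharacter (Gam m F)) := Finset.univ.filter (fun ζ =>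
    classInner σ.character (ζ : Gam m F → ℂ) ≠ 0 ∧
      ∃ T' : ↥(SymM (m + 1) F), OfClass 1 T' ∧ specU ψ (qt m F) (ζ : Gam m F → ℂ) T' ≠ 0) with hS
  set E : Module.End ℂ (Fin k → ℂ) := ∑ ζ ∈ S, centIdem σ (ζ : Gam m F → ℂ) with hE
  -- `E` on the eigenspaces
  have hE1 : ∀ T' : ↥(SymM (m + 1) F), OfClass 1 T' → E * singleP ψ ρ T' = singleP ψ ρ T' := by
    intro T' hT'
    rw [← single_projOp_eq ψ ρ T']
    apply single_E_mul_P_eq σ (qt m F) (lamT ψ T') S
    intro ζ hζ
    by_cases hn : classInner σ.character (ζ : Gam m F → ℂ) = 0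
    · rw [hn, zero_mul]
    · have : specU ψ (qt m F) (ζ : Gam m F → ℂ) T' = 0 := by
        by_contra hne
        apply hζ
        rw [hS, Finset.mem_filter]
        exact ⟨Finset.mem_univ _, hn, T', hT', hne⟩
      show _ * specU ψ (qt m F) (ζ : Gam m F → ℂ) T' = 0
      rw [this, mul_zero]
  have hE0 : ∀ T' : ↥(SymM (m + 1) F), T' ≠ 0 → ¬ OfClass 1 T' → E * singleP ψ ρ T' = 0 := by
    intro T' hT'0 hT'c
    rw [← single_projOp_eq ψ ρ T']
    apply single_E_mul_P_zero σ (qt m F) (lamT ψ T') S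
    intro ζ hζ
    rw [hS, Finset.mem_filter] at hζ
    obtain ⟨-, hn, T'', hT''c, hT''s⟩ := hζ
    have : specU ψ (qt m F) (ζ : Gam m F → ℂ) T' = 0 := by
      by_contra hne
      apply hT'c
      obtain ⟨c, hc, hp, -⟩ := pure_constituent hodd hm ψ hψ ρ.character hχ h1 hrk
        (ζ : Gam m F → ℂ) ζ.2 (by rw [← hσchar]; exact hn)
      have hc' : OfClass c T' := by
        rcases hp T' hne with h0 | h0
        · exact absurd h0 hT'0
        · exact h0
      have hc'' : OfClass c T'' := by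
        rcases hp T'' hT''s with h0 | h0
        · exact absurd h0 (ne_zero_of_ofClass one_ne_zero hT''c)
        · exact h0
      have hsq : IsSquare (c / 1) := by
        by_contra hns
        exact not_ofClass_of_not_isSquare one_ne_zero hns T'' hT''c hc''
      rw [div_one] at hsq
      obtain ⟨t, ht⟩ := hsq
      have ht0 : t ≠ 0 := by
        rintro rfl
        rw [mul_zero] at ht
        exact hc ht
      have hceq : c = 1 * t ^ 2 := by rw [ht]; ring
      rw [hceq, ofClass_mul_sq 1 t ht0] at hc'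
      exact hc'
    show _ * specU ψ (qt m F) (ζ : Gam m F → ℂ) T' = 0
    rw [this, mul_zero]
  -- `E` commutes with the eigenprojections and with the stabiliser of `e0`
  have hEP : ∀ T' : ↥(SymM (m + 1) F), E * singleP ψ ρ T' = singleP ψ ρ T' * E := by
    intro T'
    rw [← single_projOp_eq ψ ρ T']
    exact single_E_comm_P σ (qt m F) (lamT ψ T') S
  have hEJ : ∀ x : Gam m F, ρ (iota m F x) * E = E * ρ (iota m F x) := by
    intro x
    exact single_E_comm σ S x
  -- the decomposition of `E`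
  set PC : Module.End ℂ (Fin k → ℂ) :=
    ∑ T' : ↥(SymM (m + 1) F), (if OfClass 1 T' then singleP ψ ρ T' else 0) with hPC
  have hdec : E = PC + E * singleP ψ ρ 0 := by
    have e1 : E = ∑ T' : ↥(SymM (m + 1) F), E * singleP ψ ρ T' := by
      rw [← Finset.mul_sum, singleP_sum h2 ψ hψ ρ, mul_one]
    have e2 : ∀ T' : ↥(SymM (m + 1) F), E * singleP ψ ρ T' =
        (if OfClass 1 T' then singleP ψ ρ T' else 0) +
          (if T' = 0 then E * singleP ψ ρ 0 else 0) := by
      intro T'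
      by_cases hc : OfClass 1 T'
      · rw [if_pos hc, if_neg (ne_zero_of_ofClass one_ne_zero hc), add_zero]
        exact hE1 T' hc
      · rw [if_neg hc, zero_add]
        by_cases h0 : T' = 0
        · rw [if_pos h0, h0]
        · rw [if_neg h0]
          exact hE0 T' h0 hc
    conv_lhs => rw [e1]
    rw [Finset.sum_congr rfl (fun T' _ => e2 T'), Finset.sum_add_distrib,
      Finset.sum_ite_eq' Finset.univ (0 : ↥(SymM (m + 1) F)), if_pos (Finset.mem_univ _)]
  -- the Levi subgroup `SL` commutes with `E`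
  have hEL : ∀ A : Matrix.SpecialLinearGroup (Fin (m + 1)) F,
      ρ (SpU.Lam A) * E = E * ρ (SpU.Lam A) := by
    intro A
    have hA1 : (A⁻¹).1 * A.1 = 1 := Cfsg.Agent.Helper12.TVG.coe_inv_mul A
    have hA2 : A.1 * (A⁻¹).1 = 1 := Cfsg.Agent.Helper12.TVG.coe_mul_inv A
    have hD1 : A.1ᵀ * ((A⁻¹).1)ᵀ = 1 := by rw [← transpose_mul, hA1, transpose_one]
    have hD2 : ((A⁻¹).1)ᵀ * A.1ᵀ = 1 := by rw [← transpose_mul, hA2, transpose_one]
    -- on `PC`
    have hPCc : ρ (SpU.Lam A) * PC = PC * ρ (SpU.Lam A) := by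
      rw [hPC, Finset.mul_sum, Finset.sum_mul]
      rw [← Equiv.sum_comp (singleCong ((A⁻¹).1)ᵀ A.1ᵀ hD1 hD2)
        (fun T' => (if OfClass 1 T' then singleP ψ ρ T' else 0) * ρ (SpU.Lam A))]
      refine Finset.sum_congr rfl fun T' _ => ?_
      rw [singleCong_apply]
      by_cases hc : OfClass 1 T'
      · rw [if_pos hc, if_pos ((single_ofClass_congS_iff _ _ hD1 hD2 1 T').mpr hc)]
        exact singleP_conj ψ ρ A T'
      · rw [if_neg hc, if_neg (fun h => hc ((single_ofClass_congS_iff _ _ hD1 hD2 1 T').mp h)),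
          mul_zero, zero_mul]
    -- on the fixed space of the radical
    have hfix : ρ (SpU.Lam A) * singleP ψ ρ 0 = singleP ψ ρ 0 := by
      apply LinearMap.ext
      intro v
      rw [Module.End.mul_apply]
      exact keyB h2 ψ hψ ρ hrk A _ (fun a => singleP_zero_fixed ψ ρ v a)
    have hcong0 : congS ((A⁻¹).1)ᵀ (0 : ↥(SymM (m + 1) F)) = 0 := by
      apply Subtype.ext
      rw [congS_val]
      simp
    have hfix' : singleP ψ ρ 0 * ρ (SpU.Lam A) = singleP ψ ρ 0 := by
      have := singleP_conj ψ ρ A 0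
      rw [hcong0] at this
      rw [← this, hfix]
    have h0c : ρ (SpU.Lam A) * (E * singleP ψ ρ 0) = (E * singleP ψ ρ 0) * ρ (SpU.Lam A) := by
      calc ρ (SpU.Lam A) * (E * singleP ψ ρ 0)
          = ρ (SpU.Lam A) * (singleP ψ ρ 0 * E) := by rw [hEP 0]
        _ = (ρ (SpU.Lam A) * singleP ψ ρ 0) * E := by rw [mul_assoc]
        _ = singleP ψ ρ 0 * E := by rw [hfix]
        _ = E * singleP ψ ρ 0 := by rw [hEP 0]
        _ = E * (singleP ψ ρ 0 * ρ (SpU.Lam A)) := by rw [hfix']
        _ = (E * singleP ψ ρ 0) * ρ (SpU.Lam A) := by rw [mul_assoc]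
    conv_lhs => rw [hdec]
    conv_rhs => rw [hdec]
    rw [mul_add, add_mul, hPCc, h0c]
  -- `E` commutes with everything
  let H : Subgroup ↥(symplecticGroup (Fin (m + 1)) F) :=
    { carrier := {g | ρ g * E = E * ρ g}
      one_mem' := by
        show ρ 1 * E = E * ρ 1
        rw [map_one, one_mul, mul_one]
      mul_mem' := by
        intro a b ha hb
        show ρ (a * b) * E = E * ρ (a * b)
        have ha' : ρ a * E = E * ρ a := ha
        have hb' : ρ b * E = E * ρ b := hb
        rw [map_mul, mul_assoc, hb', ← mul_assoc, ha', mul_assoc]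
      inv_mem' := by
        intro a ha
        show ρ a⁻¹ * E = E * ρ a⁻¹
        have ha' : ρ a * E = E * ρ a := ha
        have e1 : ρ a⁻¹ * ρ a = 1 := by rw [← map_mul, inv_mul_cancel, map_one]
        have e2 : ρ a * ρ a⁻¹ = 1 := by rw [← map_mul, mul_inv_cancel, map_one]
        calc ρ a⁻¹ * E = ρ a⁻¹ * E * (ρ a * ρ a⁻¹) := by rw [e2, mul_one]
          _ = ρ a⁻¹ * (E * ρ a) * ρ a⁻¹ := by simp only [mul_assoc]
          _ = ρ a⁻¹ * (ρ a * E) * ρ a⁻¹ := by rw [ha']
          _ = (ρ a⁻¹ * ρ a) * E * ρ a⁻¹ := by simp only [mul_assoc]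
          _ = E * ρ a⁻¹ := by rw [e1, one_mul] }
  have hH : H = ⊤ := gen_top H (fun x => hEJ x) _ (hEL _) (fixj_lam_e0 hm)
  have hall : ∀ g : ↥(symplecticGroup (Fin (m + 1)) F), E ∘ₗ ρ g = ρ g ∘ₗ E := by
    intro g
    have hg : g ∈ H := by
      rw [hH]
      exact Subgroup.mem_top g
    have hg' : ρ g * E = E * ρ g := hg
    exact hg'.symm
  obtain ⟨c, hc⟩ := Helper8.exists_scalar_of_commute ρ E hall
  -- `c = 1` because `E` is the identity on the eigenspace of `T₁`
  have hP1 : singleP ψ ρ T₁ ≠ 0 := singleP_ne_zero ψ ρ T₁ hs₁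
  have e5 : ∀ X : Module.End ℂ (Fin k → ℂ), E * X = c • X := by
    intro X
    rw [hc]
    apply LinearMap.ext
    intro v
    simp
  have hc1 : c = 1 := by
    have h3 := hE1 T₁ hT₁
    rw [e5] at h3
    by_contra hne
    apply hP1
    apply LinearMap.ext
    intro v
    have h4 : c • (singleP ψ ρ T₁ v) = singleP ψ ρ T₁ v := by
      have := LinearMap.congr_fun h3 v
      rwa [LinearMap.smul_apply] at this
    have h5 : (c - 1) • (singleP ψ ρ T₁ v) = 0 := by
      rw [sub_smul, one_smul, h4, sub_self]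
    rcases smul_eq_zero.mp h5 with h6 | h6
    · exact absurd (sub_eq_zero.mp h6) hne
    · rw [h6]; rfl
  -- so the eigenspace of `T` vanishes
  have h3 := hE0 T hT0 hTc
  rw [e5, hc1, one_smul] at h3
  rw [← singleP_trace, h3, map_zero]

/-- **SINGLE**: only one class occurs -/
theorem single_class (hodd : Odd (Fintype.card F)) {m : ℕ} (hm : 1 ≤ m) (ψ : AddChar F ℂ)
    (hψ : ψ ≠ 1) (χ : ↥(symplecticGroup (Fin (m + 1)) F) → ℂ)
    (hχ : IsIrrCharacter ↥(symplecticGroup (Fin (m + 1)) F) χ) (h1 : χ ≠ (fun _ => 1))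
    (hrk : RankLeOne ψ (US (m + 1) F) χ) :
    ∃ c : F, c ≠ 0 ∧ PureClass ψ (US (m + 1) F) χ c := by
  classical
  obtain ⟨k, ρ, hρ, rfl⟩ := hχ
  by_cases hex : ∃ T₁ : ↥(SymM (m + 1) F), OfClass 1 T₁ ∧ spec ψ ρ.character T₁ ≠ 0
  · obtain ⟨T₁, hT₁, hs₁⟩ := hex
    refine ⟨1, one_ne_zero, ?_⟩
    intro T hT
    by_cases hT0 : T = 0
    · left; exact hT0
    · right
      by_contra hTc
      exact hT (single_module hodd hm ψ hψ k ρ hρ h1 hrk T₁ hT₁ hs₁ T hT0 hTc)
  · push Not at hex
    have hchar2 : ringChar F ≠ 2 := by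
      intro h
      have := FiniteField.even_card_of_char_two h
      rw [Nat.odd_iff] at hodd
      omega
    obtain ⟨ε, hε⟩ := FiniteField.exists_nonsquare hchar2
    have hε0 : ε ≠ 0 := by
      rintro rfl
      exact hε ⟨0, by simp⟩
    refine ⟨ε, hε0, ?_⟩
    intro T hT
    by_cases hT0 : T = 0
    · left; exact hT0
    · right
      obtain ⟨c, x, hTx⟩ := hrk T hT
      rw [hTx] at hT0
      obtain ⟨hc, hcl⟩ := ofClass_of_rk1_ne_zero hT0
      rw [← hTx] at hcl
      rcases single_sq_classes hε hc with ⟨t, ht, hct⟩ | ⟨t, ht, hct⟩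
      · rw [hct, ofClass_mul_sq 1 t ht] at hcl
        exact absurd (hex T hcl) hT
      · rw [hct, ofClass_mul_sq ε t ht] at hcl
        exact hcl

end Cfsg.Agent.S2524P
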