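import Mathlib
import Cfsg.Prelude.Def_Characters
import Cfsg.Agent.Helper24.Rep
import Cfsg.Agent.Helper24.Span
import Cfsg.Agent.Helper12.WGDefs
import Cfsg.Agent.Helper12.WGDefsC
import Cfsg.Agent.Helper12.WGDefsD
import Cfsg.Agent.Helper12.WGStruct
import Cfsg.Agent.Helper12.LSpWFin
import Cfsg.Agent.Helper26.WGNONTRIV
import Cfsg.Agent.Helper18.WGSPECADD
import Cfsg.Agent.Helper22.WGCLASS
import Cfsg.Agent.Helper25.WGGRAM
import Cfsg.Agent.Helper8.WGVANISH
import Cfsg.Agent.Helper13.WGDecomp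
import Cfsg.Agent.Helper12.WGSingle

set_option autoImplicit false

/-! # S2524: the induction step, assembled from SINGLE, DECOMP, GRAM, VANISH -/

namespace Cfsg.Agent.S2524P

open Matrix Cfsg Cfsg.Agent.S2333P Cfsg.Agent.Helper2.Sp Cfsg.Agent.Helper12.LSp Cfsg.Agent.Helper25

variable {F : Type*} [Field F] [Fintype F]

/-- the spectrum of a constant function on the radical -/
theorem step_spec_const (h2 : (2 : F) ≠ 0) (ψ : AddChar F ℂ) (hψ : ψ ≠ 1) {n : ℕ}
    {H : Type*} [Group H] (U : Multiplicative ↥(SymM n F) →* H) (f : H → ℂ) (a : ℂ)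
    (hf : ∀ Y, f (U Y) = a) (T : ↥(SymM n F)) (hT : T ≠ 0) : specU ψ U f T = 0 := by
  have h0 : specU ψ U f T =
      specU ψ (MonoidHom.id (Multiplicative ↥(SymM n F))) (a • fun Y => lamT ψ 0 Y) T := by
    unfold specU
    congr 1
    funext Y
    rw [hf]
    show a = a * lamT ψ 0 Y
    have : lamT ψ (0 : ↥(SymM n F)) Y = 1 := by
      show ψ (Matrix.trace (((0 : ↥(SymM n F)) : Matrix (Fin n) (Fin n) F) *
        (Multiplicative.toAdd Y).1)) = 1
      rw [AddSubgroup.coe_zero, Matrix.zero_mul, Matrix.trace_zero, AddChar.map_zero_eq_one]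
    rw [this, mul_one]
  rw [h0, specU_smul, specU_lamT h2 ψ hψ, if_neg (fun h => hT h.symm), mul_zero]

/-- **KERIOTA**: an irreducible character which is constant on the stabiliser of `e0` is trivial -/
theorem step_ker_iota (hodd : Odd (Fintype.card F)) {m : ℕ} (ψ : AddChar F ℂ) (hψ : ψ ≠ 1)
    (ξ : ↥(symplecticGroup (Fin (m + 1)) F) → ℂ)
    (hξ : IsIrrCharacter ↥(symplecticGroup (Fin (m + 1)) F) ξ)
    (h : ∀ x : Gam m F, ξ (iota m F x) = ξ 1) : ξ = fun _ => 1 := by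
  by_contra hne
  obtain ⟨T, hT0, hTs⟩ := exists_spec_ne_zero hodd (n := m + 1) (by omega) ψ hψ ξ hξ hne
  apply hTs
  apply step_spec_const (two_ne_zero_of_odd_card hodd) ψ hψ (US (m + 1) F) ξ (ξ 1) _ T hT0
  intro Y
  rw [← iota_qt]
  exact h _

/-- **STEP** (chapters 3, 4, 6, 7) -/
theorem step (hodd : Odd (Fintype.card F)) {m : ℕ} (hm : 1 ≤ m) (ψ : AddChar F ℂ) (hψ : ψ ≠ 1)
    (H : HypLevel ψ m) (c : F) (hc : c ≠ 0)
    (A0 A1 : ↥(symplecticGroup (Fin (m + 1)) F) → ℂ) (hA : IsWeilPair ψ (m + 1) c A0 A1)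
    (hnorm : ∀ g : ↥(symplecticGroup (Fin (m + 1)) F), NoFix g → Complex.normSq (A0 g + A1 g) = 1)
    (χ : ↥(symplecticGroup (Fin (m + 1)) F) → ℂ)
    (hχ : IsIrrCharacter ↥(symplecticGroup (Fin (m + 1)) F) χ)
    (hrk : RankLeOne ψ (US (m + 1) F) χ)
    (hcl : ∃ T : ↥(SymM (m + 1) F), OfClass c T ∧ spec ψ χ T ≠ 0) : χ = A0 ∨ χ = A1 := by
  have h2 : (2 : F) ≠ 0 := two_ne_zero_of_odd_card hodd
  obtain ⟨T, hTc, hTs⟩ := hcl
  have hT0 : T ≠ 0 := ne_zero_of_ofClass hc hTc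
  -- `χ` is not trivial
  have h1 : χ ≠ (fun _ => 1) := by
    intro h
    apply hTs
    exact step_spec_const h2 ψ hψ (US (m + 1) F) χ 1 (fun Y => by rw [h]) T hT0
  -- only the class `c` occurs
  obtain ⟨c', hc', hp'⟩ := single_class hodd hm ψ hψ χ hχ h1 hrk
  have hsq : IsSquare (c' / c) := by
    by_contra hns
    rcases hp' T hTs with h0 | hcl'
    · exact hT0 h0
    · exact not_ofClass_of_not_isSquare hc hns T hTc hcl'
  obtain ⟨t, ht⟩ := hsq
  have ht0 : t ≠ 0 := by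
    rintro rfl
    rw [mul_zero] at ht
    have h3 : c' / c * c = 0 * c := by rw [ht]
    rw [div_mul_cancel₀ _ hc, zero_mul] at h3
    exact hc' h3
  have hc'eq : c' = c * t ^ 2 := by
    have h3 : c' / c * c = t * t * c := by rw [ht]
    rw [div_mul_cancel₀ _ hc] at h3
    rw [h3]; ring
  have hp : PureClass ψ (US (m + 1) F) χ c := by
    intro T' hT'
    rcases hp' T' hT' with h0 | hcl'
    · left; exact h0
    · right
      rw [hc'eq, ofClass_mul_sq c t ht0] at hcl'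
      exact hcl'
  -- the decomposition on the stabiliser of `e0`
  obtain ⟨b0, b1, hdec⟩ := decomp hodd hm ψ hψ H c hc A0 A1 hA χ hχ h1 hp
  obtain ⟨hA0, hA1, hW0, hW1⟩ := hA
  have h01 : A0 ≠ A1 := by
    intro h
    have e0 := hW0.1
    have e1 := hW1.1
    rw [h, e1] at e0
    norm_num at e0
  -- the Gram trick
  have hcf : IsClassFunction ↥(symplecticGroup (Fin (m + 1)) F)
      (fun g => χ g - b0 * A0 g - b1 * A1 g) := by
    have hχc := Helper24.IsCharacter.isClassFunction (Helper24.IsIrrCharacter.isCharacter hχ)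
    have h0c := Helper24.IsCharacter.isClassFunction (Helper24.IsIrrCharacter.isCharacter hA0)
    have h1c := Helper24.IsCharacter.isClassFunction (Helper24.IsIrrCharacter.isCharacter hA1)
    intro g h
    show χ (h * g * h⁻¹) - b0 * A0 (h * g * h⁻¹) - b1 * A1 (h * g * h⁻¹) = _
    rw [hχc g h, h0c g h, h1c g h]
  apply gram_trick (iota m F) (fun ξ hξ h => step_ker_iota hodd ψ hψ ξ hξ h) χ A0 A1 hχ hA0 hA1 h01
    b0 b1 hdec
  intro g hg
  apply hnorm
  by_contra hfix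
  apply hg
  apply vanish_of_fix (fun g => χ g - b0 * A0 g - b1 * A1 g) hcf _ g hfix
  intro x
  show χ (iota m F x) - b0 * A0 (iota m F x) - b1 * A1 (iota m F x) = 0
  rw [hdec x]
  ring

end Cfsg.Agent.S2524P
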