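import Mathlib
import Cfsg.Prelude.Def_Characters
import Cfsg.Agent.Helper12.WGDefs
import Cfsg.Agent.Helper12.WGDefsC
import Cfsg.Agent.Helper14.WGWEIL
import Cfsg.Agent.Helper3.WGBASEFINAL
import Cfsg.Agent.Helper26.WGNONTRIV
import Cfsg.Agent.Helper22.WGCLASS
import Cfsg.Agent.Helper12.WGStep

set_option autoImplicit false

/-! # S2524: final assembly from the chapter theorems -/

namespace Cfsg.Agent.S2524P

open Matrix Cfsg Cfsg.Agent.S2333P

variable {F : Type*} [Field F] [Fintype F]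

theorem final_ringChar_ne_two (hodd : Odd (Fintype.card F)) : ringChar F ≠ 2 := by
  intro h
  have := FiniteField.even_card_of_char_two h
  rw [Nat.odd_iff] at hodd
  omega

theorem final_sq_classes {ε c : F} (hε : ¬ IsSquare ε) (hc : c ≠ 0) :
    (∃ t : F, t ≠ 0 ∧ c = 1 * t ^ 2) ∨ ∃ t : F, t ≠ 0 ∧ c = ε * t ^ 2 := by
  classical
  have hε0 : ε ≠ 0 := by
    rintro rfl
    exact hε ⟨0, by simp⟩
  by_cases hsq : IsSquare c
  · left
    obtain ⟨t, ht⟩ := hsq
    refine ⟨t, ?_, by rw [ht]; ring⟩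
    rintro rfl
    exact hc (by rw [ht, mul_zero])
  · right
    have h1 : quadraticChar F c = -1 := quadraticChar_neg_one_iff_not_isSquare.2 hsq
    have h2 : quadraticChar F ε = -1 := quadraticChar_neg_one_iff_not_isSquare.2 hε
    have h3 : quadraticChar F (c * ε⁻¹) = 1 := by
      have h4 : quadraticChar F (ε⁻¹) * quadraticChar F ε = 1 := by
        rw [← map_mul, inv_mul_cancel₀ hε0, map_one]
      rw [h2] at h4
      have h5 : quadraticChar F (ε⁻¹) = -1 := by linarith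
      rw [map_mul, h1, h5]; norm_num
    have hne : c * ε⁻¹ ≠ 0 := mul_ne_zero hc (inv_ne_zero hε0)
    obtain ⟨t, ht⟩ := (quadraticChar_one_iff_isSquare hne).1 h3
    have ht0 : t ≠ 0 := by
      rintro rfl
      exact hne (by rw [ht, mul_zero])
    refine ⟨t, ht0, ?_⟩
    rw [pow_two, ← ht]; field_simp

/-- the induction -/
theorem hypLevel_all (hodd : Odd (Fintype.card F)) (ψ : AddChar F ℂ) (hψ : ψ ≠ 1) :
    ∀ m : ℕ, 1 ≤ m → HypLevel ψ m := by
  intro m hm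
  induction m, hm using Nat.le_induction with
  | base => exact hypLevel_one hodd ψ hψ
  | succ m hm ih =>
    intro c hc
    obtain ⟨A0, A1, hA, hnorm⟩ := exists_weil_pair hodd (n := m + 1) (by omega) ψ hψ c hc
    refine ⟨A0, A1, hA, ?_⟩
    intro χ hχ h1 hpure
    have hrk : RankLeOne ψ (US (m + 1) F) χ := by
      intro T hT
      rcases hpure T hT with h0 | ⟨x, _, hTx⟩
      · refine ⟨0, 0, ?_⟩
        rw [h0]
        apply Subtype.ext
        rw [rk1_val, zero_smul]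
        rfl
      · exact ⟨c, x, hTx⟩
    obtain ⟨T, hT0, hTs⟩ := exists_spec_ne_zero hodd (by omega) ψ hψ χ hχ h1
    have hcl : ∃ T : ↥(SymM (m + 1) F), OfClass c T ∧ spec ψ χ T ≠ 0 := by
      rcases hpure T hTs with h0 | hc'
      · exact absurd h0 hT0
      · exact ⟨T, hc', hTs⟩
    exact step hodd hm ψ hψ ih c hc A0 A1 hA hnorm χ hχ hrk hcl

/-- **Core**: the irreducible characters with spectrum of rank at most one -/
theorem core (hodd : Odd (Fintype.card F)) {n : ℕ} (hn : 2 ≤ n) (ψ : AddChar F ℂ) (hψ : ψ ≠ 1)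
    {ε : F} (hε : ¬ IsSquare ε) :
    ∃ A0 A1 B0 B1 : ↥(symplecticGroup (Fin n) F) → ℂ, IsWeilPair ψ n 1 A0 A1 ∧
      IsWeilPair ψ n ε B0 B1 ∧
      ∀ χ : ↥(symplecticGroup (Fin n) F) → ℂ, IsIrrCharacter ↥(symplecticGroup (Fin n) F) χ →
        RankLeOne ψ (US n F) χ →
        χ = (fun _ => 1) ∨ χ = A0 ∨ χ = A1 ∨ χ = B0 ∨ χ = B1 := by
  obtain ⟨m, rfl⟩ : ∃ m, n = m + 1 := ⟨n - 1, by omega⟩
  have hm : 1 ≤ m := by omega
  have hε0 : ε ≠ 0 := by
    rintro rfl
    exact hε ⟨0, by simp⟩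
  have H := hypLevel_all hodd ψ hψ m hm
  obtain ⟨A0, A1, hA, hAn⟩ := exists_weil_pair hodd (n := m + 1) hn ψ hψ 1 one_ne_zero
  obtain ⟨B0, B1, hB, hBn⟩ := exists_weil_pair hodd (n := m + 1) hn ψ hψ ε hε0
  refine ⟨A0, A1, B0, B1, hA, hB, ?_⟩
  intro χ hχ hrk
  by_cases h1 : χ = (fun _ => 1)
  · left; exact h1
  right
  obtain ⟨T, hT0, hTs⟩ := exists_spec_ne_zero hodd (by omega) ψ hψ χ hχ h1
  obtain ⟨c, x, hTx⟩ := hrk T hTs
  rw [hTx] at hT0
  obtain ⟨hc, hcl⟩ := ofClass_of_rk1_ne_zero hT0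
  rw [← hTx] at hcl
  rcases final_sq_classes hε hc with ⟨t, ht, hct⟩ | ⟨t, ht, hct⟩
  · rw [hct, ofClass_mul_sq 1 t ht] at hcl
    rcases step hodd hm ψ hψ H 1 one_ne_zero A0 A1 hA hAn χ hχ hrk ⟨T, hcl, hTs⟩ with h | h
    · left; exact h
    · right; left; exact h
  · rw [hct, ofClass_mul_sq ε t ht] at hcl
    rcases step hodd hm ψ hψ H ε hε0 B0 B1 hB hBn χ hχ hrk ⟨T, hcl, hTs⟩ with h | h
    · right; right; left; exact h
    · right; right; right; exact h

end Cfsg.Agent.S2524P
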