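import Mathlib
import Cfsg.Prelude.Def_Characters
import Cfsg.Agent.Helper24.Rep
import Cfsg.Agent.Helper12.WGDefs
import Cfsg.Agent.Helper12.WGDefsC
import Cfsg.Agent.Helper13.WGGap
import Cfsg.Agent.Helper15.WGDEGREE
import Cfsg.Agent.Helper22.WGARITH
import Cfsg.Agent.Helper22.WGCLASS
import Cfsg.Agent.Helper12.WGStep
import Cfsg.Agent.Helper12.WGFinal

set_option autoImplicit false

/-! # S2524: the statement from `core` -/

namespace Cfsg.Agent.S2524P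

open Matrix Cfsg Cfsg.Agent.S2333P

variable {F : Type*} [Field F] [Fintype F]

theorem final_spec_ne {n : ℕ} (hn : 1 ≤ n) (ψ : AddChar F ℂ) {ε : F} (hε : ¬ IsSquare ε)
    {A B : ↥(symplecticGroup (Fin n) F) → ℂ} {e : ℕ} (hA : WeilSpec ψ A 1 e)
    (hB : WeilSpec ψ B ε e) : A ≠ B := by
  obtain ⟨m, rfl⟩ : ∃ m, n = m + 1 := ⟨n - 1, by omega⟩
  intro hAB
  set x : Fin (m + 1) → F := Pi.single 0 1 with hx
  have hx0 : x ≠ 0 := by
    intro h
    have := congrFun h 0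
    rw [hx, Pi.single_eq_same] at this
    exact one_ne_zero this
  have hT : OfClass (1 : F) (rk1 1 x) := ⟨x, hx0, rfl⟩
  have hT0 : rk1 (1 : F) x ≠ 0 := by
    intro h
    have h1 := congrArg (fun T : ↥(SymM (m + 1) F) => (T : Matrix (Fin (m + 1)) (Fin (m + 1)) F) 0 0) h
    simp only [rk1_apply, hx, Pi.single_eq_same, mul_one] at h1
    exact one_ne_zero h1
  have h1 : spec ψ A (rk1 1 x) = 1 := hA.2.1 _ hT
  have h2 : spec ψ B (rk1 1 x) = 0 := by
    apply hB.2.2 _ hT0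
    intro h
    exact not_ofClass_of_not_isSquare one_ne_zero (by rwa [div_one]) _ hT h
  rw [hAB, h2] at h1
  exact zero_ne_one h1

theorem final_char_one {G : Type*} [Group G] {χ : G → ℂ} (hχ : IsIrrCharacter G χ) :
    ∃ k : ℕ, χ 1 = k := by
  obtain ⟨k, ρ, _, hchar⟩ := hχ
  refine ⟨k, ?_⟩
  rw [← hchar, Representation.char_one, Module.finrank_fin_fun]

/-- **S2524** -/
theorem main (hodd : Odd (Fintype.card F)) (n : ℕ) (hn : 2 ≤ n) :
    Nat.card {χ : Cfsg.IrrCharacter ↥(Matrix.symplecticGroup (Fin n) F) // (χ : ↥(Matrix.symplecticGroup (Fin n) F) → ℂ) 1 = (((Fintype.card F) ^ n + 1 : ℕ) : ℂ) / 2} = 2 ∧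
    Nat.card {χ : Cfsg.IrrCharacter ↥(Matrix.symplecticGroup (Fin n) F) // (χ : ↥(Matrix.symplecticGroup (Fin n) F) → ℂ) 1 = (((Fintype.card F) ^ n - 1 : ℕ) : ℂ) / 2} = 2 ∧
    ∀ χ : Cfsg.IrrCharacter ↥(Matrix.symplecticGroup (Fin n) F),
      (χ : ↥(Matrix.symplecticGroup (Fin n) F) → ℂ) 1 ≠ 1 →
      (χ : ↥(Matrix.symplecticGroup (Fin n) F) → ℂ) 1 ≠ (((Fintype.card F) ^ n + 1 : ℕ) : ℂ) / 2 →
      (χ : ↥(Matrix.symplecticGroup (Fin n) F) → ℂ) 1 ≠ (((Fintype.card F) ^ n - 1 : ℕ) : ℂ) / 2 →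
      (((Fintype.card F) ^ n - 1 : ℕ) : ℝ) * (((Fintype.card F) ^ n - Fintype.card F : ℕ) : ℝ) / (2 * ((Fintype.card F : ℕ) + 1 : ℝ)) ≤ ‖(χ : ↥(Matrix.symplecticGroup (Fin n) F) → ℂ) 1‖ := by
  classical
  set q := Fintype.card F with hq
  have hchar2 : ringChar F ≠ 2 := final_ringChar_ne_two hodd
  obtain ⟨ε, hε⟩ := FiniteField.exists_nonsquare hchar2
  obtain ⟨ψ, hψ1⟩ : ∃ ψ : AddChar F ℂ, ψ 1 ≠ 1 := AddChar.exists_apply_ne_zero.mpr one_ne_zero
  have hψ : ψ ≠ 1 := by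
    rintro rfl
    exact hψ1 rfl
  have hq3 : 3 ≤ q := by
    have h1 : 1 < q := Fintype.one_lt_card
    rcases hodd with ⟨k, hk⟩
    omega
  obtain ⟨d, hd⟩ : ∃ d, q ^ n = 2 * d + 1 := by
    rcases (hodd.pow : Odd (q ^ n)) with ⟨k, hk⟩
    exact ⟨k, hk⟩
  have hd4 : 4 ≤ d := by
    have : 3 ^ 2 ≤ q ^ n := by
      calc 3 ^ 2 ≤ q ^ 2 := Nat.pow_le_pow_left hq3 2
        _ ≤ q ^ n := Nat.pow_le_pow_right (by omega) hn
    omega
  have hdd : (q ^ n - 1) / 2 = d := by omega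
  have hcm : (((q ^ n - 1 : ℕ) : ℂ)) / 2 = (d : ℂ) := by
    have : q ^ n - 1 = 2 * d := by omega
    rw [this]; push_cast; ring
  have hcp : (((q ^ n + 1 : ℕ) : ℂ)) / 2 = ((d + 1 : ℕ) : ℂ) := by
    have : q ^ n + 1 = 2 * (d + 1) := by omega
    rw [this]; push_cast; ring
  have hgap : ((d + 1 : ℕ) : ℝ) < gapR q n := by
    have := weil_degree_lt_gap hq3 hodd hn
    rwa [hdd] at this
  obtain ⟨A0, A1, B0, B1, hA, hB, hcore⟩ := core hodd hn ψ hψ hε
  have hε0 : ε ≠ 0 := by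
    rintro rfl
    exact hε ⟨0, by simp⟩
  have hdeg : ∀ (χ : ↥(symplecticGroup (Fin n) F) → ℂ) (c : F), c ≠ 0 → ∀ e : ℕ,
      IsIrrCharacter ↥(symplecticGroup (Fin n) F) χ → WeilSpec ψ χ c e → χ 1 = ((d + e : ℕ) : ℂ) := by
    intro χ c hc e hχ hw
    have := degree_of_weilSpec hodd (by omega : 1 ≤ n) ψ hψ χ (Cfsg.Agent.Helper24.IsIrrCharacter.isCharacter hχ) c hc e hw
    rw [this, hdd]
  have hA0 := hdeg A0 1 one_ne_zero 0 hA.1 hA.2.2.1
  have hA1 := hdeg A1 1 one_ne_zero 1 hA.2.1 hA.2.2.2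
  have hB0 := hdeg B0 ε hε0 0 hB.1 hB.2.2.1
  have hB1 := hdeg B1 ε hε0 1 hB.2.1 hB.2.2.2
  have hAB0 : A0 ≠ B0 := final_spec_ne (by omega) ψ hε hA.2.2.1 hB.2.2.1
  have hAB1 : A1 ≠ B1 := final_spec_ne (by omega) ψ hε hA.2.2.2 hB.2.2.2
  -- small degree ⇒ one of the five
  have hsmall : ∀ χ : ↥(symplecticGroup (Fin n) F) → ℂ,
      IsIrrCharacter ↥(symplecticGroup (Fin n) F) χ → ∀ k : ℕ, χ 1 = k → (k : ℝ) < gapR q n →
      χ = (fun _ => 1) ∨ χ = A0 ∨ χ = A1 ∨ χ = B0 ∨ χ = B1 := by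
    intro χ hχ k hk hlt
    apply hcore χ hχ
    apply rankLeOne_of_lt_gap hodd hn ψ hψ χ hχ
    rw [hk, Complex.natCast_re]
    exact hlt
  refine ⟨?_, ?_, ?_⟩
  · rw [Nat.card_eq_two_iff]
    refine ⟨⟨⟨A1, hA.2.1⟩, by rw [hcp]; exact hA1⟩, ⟨⟨B1, hB.2.1⟩, by rw [hcp]; exact hB1⟩, ?_, ?_⟩
    · intro h
      exact hAB1 (congrArg (fun z => z.1.1) h)
    · rw [Set.eq_univ_iff_forall]
      rintro ⟨⟨χ, hχ⟩, hχ1⟩
      simp only [hcp] at hχ1
      rcases hsmall χ hχ (d + 1) hχ1 hgap with h | h | h | h | h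
      · exfalso
        rw [h] at hχ1
        have : (1 : ℕ) = d + 1 := by
          have h' : (1 : ℂ) = ((d + 1 : ℕ) : ℂ) := hχ1
          exact_mod_cast h'
        omega
      · exfalso
        rw [h, hA0] at hχ1
        have : d + 0 = d + 1 := by exact_mod_cast hχ1
        omega
      · left
        exact Subtype.ext (Subtype.ext h)
      · exfalso
        rw [h, hB0] at hχ1
        have : d + 0 = d + 1 := by exact_mod_cast hχ1
        omega
      · right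
        exact Subtype.ext (Subtype.ext h)
  · rw [Nat.card_eq_two_iff]
    refine ⟨⟨⟨A0, hA.1⟩, by rw [hcm]; exact hA0⟩, ⟨⟨B0, hB.1⟩, by rw [hcm]; exact hB0⟩, ?_, ?_⟩
    · intro h
      exact hAB0 (congrArg (fun z => z.1.1) h)
    · rw [Set.eq_univ_iff_forall]
      rintro ⟨⟨χ, hχ⟩, hχ1⟩
      simp only [hcm] at hχ1
      have hlt : ((d : ℕ) : ℝ) < gapR q n := by
        refine lt_trans ?_ hgap
        exact_mod_cast Nat.lt_succ_self d
      rcases hsmall χ hχ d hχ1 hlt with h | h | h | h | h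
      · exfalso
        rw [h] at hχ1
        have : (1 : ℕ) = d := by
          have h' : (1 : ℂ) = ((d : ℕ) : ℂ) := hχ1
          exact_mod_cast h'
        omega
      · left
        exact Subtype.ext (Subtype.ext h)
      · exfalso
        rw [h, hA1] at hχ1
        have : d + 1 = d := by exact_mod_cast hχ1
        omega
      · right
        exact Subtype.ext (Subtype.ext h)
      · exfalso
        rw [h, hB1] at hχ1
        have : d + 1 = d := by exact_mod_cast hχ1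
        omega
  · rintro ⟨χ, hχ⟩ h1 hp hm
    simp only at h1 hp hm ⊢
    by_contra hcon
    rw [not_le] at hcon
    obtain ⟨k, hk⟩ := final_char_one hχ
    have hlt : (k : ℝ) < gapR q n := by
      rw [hk, Complex.norm_natCast] at hcon
      unfold gapR
      exact hcon
    rcases hsmall χ hχ k hk hlt with h | h | h | h | h
    · apply h1
      rw [h]
    · apply hm
      rw [hcm, h, hA0, add_zero]
    · apply hp
      rw [hcp, h, hA1]
    · apply hm
      rw [hcm, h, hB0, add_zero]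
    · apply hp
      rw [hcp, h, hB1]

end Cfsg.Agent.S2524P
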