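import Mathlib
import Cfsg.Agent.Helper12.WeirC
import Cfsg.Agent.Helper2.SLCard

set_option autoImplicit false

/-! Sylow `r`-subgroups of `SL_n(q)` for `r > n` are homocyclic. -/

open Polynomial

namespace Cfsg.Agent.Helper12.Weir

universe u

variable {F : Type u} [Field F]

/-- The diagonal torus of `SL_{k+1}`, as a function. -/
noncomputable def diagSLFun (k : ℕ) (u : Fin k → Fˣ) : Matrix.SpecialLinearGroup (Fin (k + 1)) F :=
  ⟨Matrix.diagonal (fun i => ((Fin.cons (∏ j, u j)⁻¹ u : Fin (k + 1) → Fˣ) i : F)), by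
    rw [Matrix.det_diagonal, ← Units.coe_prod, Fin.prod_cons, inv_mul_cancel, Units.val_one]⟩

theorem coe_diagSLFun (k : ℕ) (u : Fin k → Fˣ) :
    (diagSLFun k u : Matrix (Fin (k + 1)) (Fin (k + 1)) F) =
      Matrix.diagonal (fun i => ((Fin.cons (∏ j, u j)⁻¹ u : Fin (k + 1) → Fˣ) i : F)) := rfl

/-- The diagonal torus of `SL_{k+1}`. -/
noncomputable def diagSL (k : ℕ) : (Fin k → Fˣ) →* Matrix.SpecialLinearGroup (Fin (k + 1)) F :=
  MonoidHom.mk' (diagSLFun k)
    (by
      intro u v
      apply Subtype.ext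
      rw [Matrix.SpecialLinearGroup.coe_mul, coe_diagSLFun, coe_diagSLFun, coe_diagSLFun,
        Matrix.diagonal_mul_diagonal]
      congr 1
      funext i
      refine Fin.cases ?_ (fun j => ?_) i
      · simp only [Fin.cons_zero, Pi.mul_apply, Finset.prod_mul_distrib, mul_inv, Units.val_mul]
      · simp only [Fin.cons_succ, Pi.mul_apply, Units.val_mul])

theorem diagSL_apply_succ (k : ℕ) (u : Fin k → Fˣ) (j : Fin k) :
    (diagSL k u : Matrix (Fin (k + 1)) (Fin (k + 1)) F) j.succ j.succ = (u j : F) := by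
  show (diagSLFun k u : Matrix (Fin (k + 1)) (Fin (k + 1)) F) j.succ j.succ = _
  rw [coe_diagSLFun, Matrix.diagonal_apply_eq, Fin.cons_succ]

theorem diagSL_injective (k : ℕ) : Function.Injective (diagSL (F := F) k) := by
  intro u v huv
  funext j
  apply Units.ext
  rw [← diagSL_apply_succ k u j, ← diagSL_apply_succ k v j, huv]

variable [Fintype F]

theorem padicValNat_card_SL {n r : ℕ} [Fact r.Prime] (hn : 0 < n) :
    padicValNat r (Nat.card (Matrix.SpecialLinearGroup (Fin n) F)) +
      padicValNat r (Fintype.card F - 1) = padicValNat r (Nat.card (GL (Fin n) F)) := by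
  have : Nonempty (Fin n) := ⟨⟨0, hn⟩⟩
  have h1 := Cfsg.Agent.Helper2.card_SL_mul_card_units (ι := Fin n) (F := F)
  rw [← h1, padicValNat.mul Nat.card_pos.ne' Nat.card_pos.ne',
    Cfsg.Agent.Helper2.card_units_field]

/-- Sylow `r`-subgroups of `SL_n(q)` for `r > n`, `r ∤ q`. -/
theorem sylow_sl_homocyclic (n r : ℕ) [Fact r.Prime]
    (hrn : n < r) (hrq : ¬ r ∣ Fintype.card F) (P : Sylow r (Matrix.SpecialLinearGroup (Fin n) F)) :
    Nonempty (↥(P : Subgroup (Matrix.SpecialLinearGroup (Fin n) F)) ≃*
      (Fin ((Finset.Icc 2 n).filter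
          (fun i => orderOf ((Fintype.card F : ℕ) : ZMod r) ∣ i)).card →
        Multiplicative (ZMod (r ^ padicValNat r ((cyclotomic
          (orderOf ((Fintype.card F : ℕ) : ZMod r)) ℤ).eval ((Fintype.card F : ℕ) : ℤ)).natAbs)))) := by
  have hr : r.Prime := Fact.out
  have hq : 2 ≤ Fintype.card F := Fintype.one_lt_card
  have hd : 0 < orderOf ((Fintype.card F : ℕ) : ZMod r) := orderOf_pos_of_not_dvd hrq
  rcases Nat.eq_zero_or_pos n with h0 | hn
  · subst h0
    have hsub : Subsingleton (Matrix.SpecialLinearGroup (Fin 0) F) := by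
      constructor
      intro x y
      apply Subtype.ext
      apply Matrix.ext
      intro i
      exact i.elim0
    have hcard : ((Finset.Icc 2 0).filter
        (fun i => orderOf ((Fintype.card F : ℕ) : ZMod r) ∣ i)).card = 0 := by
      rw [Finset.Icc_eq_empty (by omega), Finset.filter_empty, Finset.card_empty]
    rw [hcard]
    have : Unique ↥(P : Subgroup (Matrix.SpecialLinearGroup (Fin 0) F)) :=
      ⟨⟨1⟩, fun x => Subtype.ext (Subsingleton.elim _ _)⟩
    exact ⟨MulEquiv.ofUnique⟩
  by_cases hd1 : orderOf ((Fintype.card F : ℕ) : ZMod r) = 1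
  · -- the split case: diagonal matrices
    obtain ⟨k, rfl⟩ : ∃ k, n = k + 1 := ⟨n - 1, by omega⟩
    have hcount : ((Finset.Icc 2 (k + 1)).filter
        (fun i => orderOf ((Fintype.card F : ℕ) : ZMod r) ∣ i)).card = k := by
      rw [hd1]
      simp only [one_dvd, Finset.filter_true, Nat.card_Icc]
      omega
    rw [hcount]
    have he : padicValNat r (Fintype.card F - 1) = padicValNat r ((cyclotomic
        (orderOf ((Fintype.card F : ℕ) : ZMod r)) ℤ).eval ((Fintype.card F : ℕ) : ℤ)).natAbs := by
      have := padicValNat_pow_orderOf_sub_one hq hrq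
      rw [hd1, pow_one] at this
      rw [this, hd1]
    have hm : r ^ padicValNat r ((cyclotomic (orderOf ((Fintype.card F : ℕ) : ZMod r)) ℤ).eval
        ((Fintype.card F : ℕ) : ℤ)).natAbs ∣ Nat.card Fˣ := by
      rw [Cfsg.Agent.Helper2.card_units_field, ← he]
      exact pow_padicValNat_dvd
    obtain ⟨κ, hκ⟩ := exists_injective_hom_of_dvd _ hm
    apply sylow_mulEquiv_of_injective ((diagSL k).comp (piHom κ k))
    · intro x y hxy
      exact piHom_injective κ hκ k (diagSL_injective k hxy)
    · rw [card_pi_zmod, ← pow_mul, Nat.factorization_def _ hr]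
      congr 1
      have h1 := padicValNat_card_SL (F := F) (n := k + 1) (r := r) (Nat.succ_pos k)
      rw [Matrix.card_GL_field, padicValNat_prod_GL hq hrq hrn, he] at h1
      generalize padicValNat r ((cyclotomic (orderOf ((Fintype.card F : ℕ) : ZMod r)) ℤ).eval
          ((Fintype.card F : ℕ) : ℤ)).natAbs = E at h1 ⊢
      rw [hd1, Nat.div_one, Nat.succ_mul] at h1
      rw [mul_comm]
      exact (Nat.add_right_cancel h1).symm
  · -- the nonsplit case: Sylow subgroups of `GL_n` lie in `SL_n`
    have hnd : ¬ r ∣ Fintype.card F - 1 := by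
      intro h
      have := (dvd_pow_sub_one_iff (r := r) (q := Fintype.card F) (by omega) 1).1 (by rwa [pow_one])
      exact hd1 (Nat.dvd_one.1 this)
    have hcount : ((Finset.Icc 2 n).filter
        (fun i => orderOf ((Fintype.card F : ℕ) : ZMod r) ∣ i)).card =
        n / orderOf ((Fintype.card F : ℕ) : ZMod r) := by
      rw [← Nat.Ioc_filter_dvd_card_eq_div]
      congr 1
      ext i
      simp only [Finset.mem_filter, Finset.mem_Icc, Finset.mem_Ioc]
      constructor
      · rintro ⟨⟨h1, h2⟩, h3⟩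
        exact ⟨⟨by omega, h2⟩, h3⟩
      · rintro ⟨⟨h1, h2⟩, h3⟩
        refine ⟨⟨?_, h2⟩, h3⟩
        by_contra hlt
        have : i = 1 := by omega
        rw [this] at h3
        exact hd1 (Nat.dvd_one.1 h3)
    rw [hcount]
    have hfac : (Nat.card (Matrix.SpecialLinearGroup (Fin n) F)).factorization r =
        (Nat.card (GL (Fin n) F)).factorization r := by
      have := padicValNat_card_SL (F := F) (n := n) (r := r) hn
      rw [padicValNat.eq_zero_of_not_dvd hnd, add_zero] at this
      rw [Nat.factorization_def _ hr, Nat.factorization_def _ hr]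
      exact this
    have hcardQ : Nat.card ((P : Subgroup (Matrix.SpecialLinearGroup (Fin n) F)).map
        Matrix.SpecialLinearGroup.toGL) = r ^ (Nat.card (GL (Fin n) F)).factorization r := by
      rw [← hfac, ← Sylow.card_eq_multiplicity P]
      exact (Nat.card_congr (Subgroup.equivMapOfInjective _ _
        Matrix.SpecialLinearGroup.toGL_injective).toEquiv).symm
    obtain ⟨φ⟩ := sylow_gl_homocyclic n r hrn hrq (Sylow.ofCard _ hcardQ)
    exact ⟨(Subgroup.equivMapOfInjective _ _ Matrix.SpecialLinearGroup.toGL_injective).trans φ⟩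

end Cfsg.Agent.Helper12.Weir
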